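import Mathlib
import Cfsg.Prelude.Def_TwoFusion
import Cfsg.Agent.Helper2.Invol

set_option autoImplicit false

namespace Cfsg.Agent.Helper18

open Cfsg.Agent.Helper2

section
variable {G : Type*} [Group G]

theorem conj_mul_self_of_mul_self {x g : G} (hx : x * x = 1) :
    (g * x * g⁻¹) * (g * x * g⁻¹) = 1 := by
  calc (g * x * g⁻¹) * (g * x * g⁻¹) = g * (x * x) * g⁻¹ := by group
    _ = 1 := by rw [hx]; group

/-- The product of an isolated involution with a conjugate has odd order. -/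
theorem IsIsolated.odd_orderOf_mul [Finite G] {z : G} (hz : Cfsg.IsIsolatedInvolution z) (g : G) :
    Odd (orderOf (z * (g * z * g⁻¹))) := by
  by_contra hodd
  rw [Nat.not_odd_iff_even] at hodd
  have hx := mul_self_of_orderOf_two hz.1
  have hy : (g * z * g⁻¹) * (g * z * g⁻¹) = 1 := conj_mul_self_of_mul_self hx
  set y := g * z * g⁻¹ with hydef
  have hpos : 0 < orderOf (z * y) := orderOf_pos _
  obtain ⟨hw2, hwx, hwy⟩ := invol_half_pow hx hy hpos hodd
  set m := orderOf (z * y) / 2 with hm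
  set w := (z * y) ^ m with hw
  -- w * z is a conjugate of z commuting with z
  have hconj : ∃ c : G, c * z * c⁻¹ = w * z := by
    rcases Nat.even_or_odd' m with ⟨j, hj | hj⟩
    · refine ⟨(z * y) ^ (j : ℤ), ?_⟩
      rw [invol_conj_by_zpow hx hy, hw, hj, ← zpow_natCast]
      push_cast; rfl
    · -- odd case
      have hx' : (z * y * z) * (z * y * z) = 1 := by
        calc (z * y * z) * (z * y * z) = z * y * (z * z) * y * z := by group
          _ = z * (y * y) * z := by rw [hx]; group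
          _ = 1 := by rw [hy, mul_one, hx]
      have hxy' : (z * y * z) * z = z * y := by
        rw [mul_assoc, hx, mul_one]
      have h1 := invol_conj_by_zpow hx' hx (j : ℤ)
      rw [hxy'] at h1
      have hzinv : z⁻¹ = z := inv_eq_of_mul_eq_one_right hx
      refine ⟨(z * y) ^ (j : ℤ) * (z * g), ?_⟩
      have h2 : (z * y) ^ (j : ℤ) * (z * g) * z * ((z * y) ^ (j : ℤ) * (z * g))⁻¹ =
          (z * y) ^ (j : ℤ) * (z * y * z) * ((z * y) ^ (j : ℤ))⁻¹ := by
        rw [hydef]
        simp only [mul_inv_rev, hzinv]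
        group
      rw [h2, h1, hw, hj, ← zpow_natCast]
      push_cast
      rw [zpow_add, zpow_one]
      simp only [mul_assoc]
  obtain ⟨c, hc⟩ := hconj
  have hcomm : Commute z (c * z * c⁻¹) := by
    rw [hc]
    exact (hwx.symm.mul_right (Commute.refl z))
  have := hz.2 c hcomm
  rw [hc] at this
  have hw1 : w = 1 := by
    have h3 : w * z = 1 * z := by rw [one_mul]; exact this
    exact mul_right_cancel h3
  rw [hw1, orderOf_one] at hw2
  omega

/-- For involutions `z, t` with `t * z` of odd order `2r+1`, the element `k = (t z)^(r+1)` conjugates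
`z` to `t`, is inverted by `z`, and has odd order. -/
theorem odd_dihedral_conj {z t : G} (hz : z * z = 1) (ht : t * t = 1) {r : ℕ}
    (hr : orderOf (t * z) = 2 * r + 1) :
    (t * z) ^ (r + 1) * z * ((t * z) ^ (r + 1))⁻¹ = t ∧
      z * (t * z) ^ (r + 1) * z⁻¹ = ((t * z) ^ (r + 1))⁻¹ ∧ Odd (orderOf ((t * z) ^ (r + 1))) := by
  have hzinv : z⁻¹ = z := inv_eq_of_mul_eq_one_right hz
  have htinv : t⁻¹ = t := inv_eq_of_mul_eq_one_right ht
  have hinv : z * (t * z) * z⁻¹ = (t * z)⁻¹ := by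
    rw [mul_inv_rev, hzinv, htinv, mul_assoc, mul_assoc, hz, mul_one]
  have hinvk : z * (t * z) ^ (r + 1) * z⁻¹ = ((t * z) ^ (r + 1))⁻¹ := by
    rw [← conj_pow, hinv, inv_pow]
  refine ⟨?_, hinvk, ?_⟩
  · have h1 : z * ((t * z) ^ (r + 1))⁻¹ = (t * z) ^ (r + 1) * z := by
      calc z * ((t * z) ^ (r + 1))⁻¹ = (z * (t * z) ^ (r + 1) * z⁻¹)⁻¹ * z := by group
        _ = (t * z) ^ (r + 1) * z := by rw [hinvk, inv_inv]
    rw [mul_assoc, h1, ← mul_assoc, ← pow_add]
    have h2 : r + 1 + (r + 1) = (2 * r + 1) + 1 := by ring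
    rw [h2, pow_succ, ← hr, pow_orderOf_eq_one, one_mul, mul_assoc, hz, mul_one]
  · have hdvd : orderOf ((t * z) ^ (r + 1)) ∣ orderOf (t * z) := orderOf_pow_dvd (r + 1)
    rw [hr] at hdvd
    exact Odd.of_dvd_nat ⟨r, rfl⟩ hdvd

theorem orderOf_mul_comm' (a b : G) : orderOf (a * b) = orderOf (b * a) := by
  have : b * a = b * (a * b) * b⁻¹ := by group
  rw [this, ← MulAut.conj_apply, MulEquiv.orderOf_eq]

/-- Key lemma: conjugates of an isolated involution are conjugate via an odd-order element of the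
dihedral group they generate, inverted by `z`. -/
theorem IsIsolated.exists_conj [Finite G] {z : G} (hz : Cfsg.IsIsolatedInvolution z) (g : G) :
    ∃ r : ℕ, orderOf (g * z * g⁻¹ * z) = 2 * r + 1 ∧
      (g * z * g⁻¹ * z) ^ (r + 1) * z * ((g * z * g⁻¹ * z) ^ (r + 1))⁻¹ = g * z * g⁻¹ ∧
      z * (g * z * g⁻¹ * z) ^ (r + 1) * z⁻¹ = ((g * z * g⁻¹ * z) ^ (r + 1))⁻¹ ∧
      Odd (orderOf ((g * z * g⁻¹ * z) ^ (r + 1))) := by
  have hodd := IsIsolated.odd_orderOf_mul hz g
  rw [orderOf_mul_comm'] at hodd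
  obtain ⟨r, hr⟩ := hodd
  have hx := mul_self_of_orderOf_two hz.1
  exact ⟨r, hr, odd_dihedral_conj hx (conj_mul_self_of_mul_self hx) hr⟩

/-- Squaring is injective on elements of odd order. -/
theorem eq_of_sq_eq_sq_of_odd {a b : G} (h : a ^ 2 = b ^ 2) (ha : Odd (orderOf a))
    (hb : Odd (orderOf b)) : a = b := by
  have h1 : orderOf (a ^ 2) = orderOf a := (Nat.coprime_two_right.mpr ha).orderOf_pow
  have h2 : orderOf (b ^ 2) = orderOf b := (Nat.coprime_two_right.mpr hb).orderOf_pow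
  have h3 : orderOf a = orderOf b := by rw [← h1, ← h2, h]
  obtain ⟨e, he⟩ := ha
  have ha' : a = (a ^ 2) ^ (e + 1) := by
    rw [← pow_mul]
    have : 2 * (e + 1) = (2 * e + 1) + 1 := by ring
    rw [this, pow_succ, ← he, pow_orderOf_eq_one, one_mul]
  have hb' : b = (b ^ 2) ^ (e + 1) := by
    rw [← pow_mul]
    have : 2 * (e + 1) = (2 * e + 1) + 1 := by ring
    rw [this, pow_succ, ← he, h3, pow_orderOf_eq_one, one_mul]
  rw [ha', hb', h]

/-- An element inverted by the involution `z` conjugates `z` to `k^2 z`. -/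
theorem conj_of_inverted {z k : G} (hz : z * z = 1) (hk : z * k * z⁻¹ = k⁻¹) :
    k * z * k⁻¹ = k ^ 2 * z := by
  have hzinv : z⁻¹ = z := inv_eq_of_mul_eq_one_right hz
  have h1 : z * k⁻¹ = k * z := by
    calc z * k⁻¹ = (z * k * z⁻¹)⁻¹ * z := by group
      _ = k * z := by rw [hk, inv_inv]
  rw [mul_assoc, h1, ← mul_assoc, pow_two]

end

end Cfsg.Agent.Helper18
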