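import Cfsg.Prelude.Def_TwoFusion
import Cfsg.Prelude.Def_Transfer
import Cfsg.Agent.Helper18.Isolated
import Mathlib.GroupTheory.Transfer
import Mathlib.GroupTheory.Abelianization.Defs
import Mathlib.GroupTheory.Nilpotent
import Cfsg.Agent.S1182

/-!
# Transfer into the centralizer of an isolated involution
-/

namespace Cfsg.Agent.Helper18

open Subgroup
open Cfsg.Agent.Helper2

variable {G : Type*} [Group G]

/-- Evaluation of the transfer on an element `x` of `H` when `ϕ` takes the same value on all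
`G`-conjugates of powers of `x` lying in `H`. -/
theorem transfer_eq_pow_of_fusion {H : Subgroup G} {A : Type*} [CommGroup A] (ϕ : H →* A)
    [H.FiniteIndex] (x : H)
    (key : ∀ (k : ℕ) (g₀ : G) (h : g₀⁻¹ * (x : G) ^ k * g₀ ∈ H),
      ϕ ⟨g₀⁻¹ * (x : G) ^ k * g₀, h⟩ = ϕ x ^ k) :
    MonoidHom.transfer ϕ (x : G) = ϕ x ^ H.index := by
  classical
  have : Fintype (Quotient (MulAction.orbitRel (zpowers (x : G)) (G ⧸ H))) :=
    Fintype.ofFinite _
  rw [index_eq_sum_minimalPeriod H (x : G), ← Finset.prod_pow_eq_pow_sum,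
    MonoidHom.transfer_eq_prod_quotient_orbitRel_zpowers_quot]
  apply Finset.prod_congr rfl
  intro q _
  exact key _ _ _

/-- The closure of a conjugation-invariant set is normal. -/
theorem closure_normal_of_conj_invariant {s : Set G} (hs : ∀ g ∈ s, ∀ x : G, x * g * x⁻¹ ∈ s) :
    (Subgroup.closure s).Normal := by
  have h : Subgroup.closure s = Subgroup.normalClosure s := by
    apply le_antisymm Subgroup.closure_le_normalClosure
    unfold Subgroup.normalClosure
    apply Subgroup.closure_mono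
    intro y hy
    obtain ⟨a, ha, hc⟩ := Group.mem_conjugatesOfSet_iff.1 hy
    obtain ⟨c, hc⟩ := isConj_iff.1 hc
    rw [← hc]
    exact hs a ha c
  rw [h]
  infer_instance

/-- The `p`-residual is a normal subgroup. -/
instance pResidual_normal (p : ℕ) : (Cfsg.pResidual p G).Normal := by
  unfold Cfsg.pResidual
  apply closure_normal_of_conj_invariant
  intro g hg x
  show Nat.Coprime (orderOf (x * g * x⁻¹)) p
  have : x * g * x⁻¹ = MulAut.conj x g := by simp [MulAut.conj_apply]
  rw [this, MulEquiv.orderOf_eq]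
  exact hg

/-- The quotient by the `p`-residual is a `p`-group. -/
theorem isPGroup_quotient_pResidual (p : ℕ) [hp : Fact p.Prime] [Finite G] :
    IsPGroup p (G ⧸ Cfsg.pResidual p G) := by
  intro q
  obtain ⟨g, rfl⟩ := QuotientGroup.mk_surjective q
  have hpos : orderOf g ≠ 0 := (orderOf_pos g).ne'
  obtain ⟨e, m, hm, hem⟩ := Nat.exists_eq_pow_mul_and_not_dvd hpos p hp.out.ne_one
  refine ⟨e, ?_⟩
  rw [← QuotientGroup.mk_pow, QuotientGroup.eq_one_iff]
  apply Subgroup.subset_closure
  show Nat.Coprime (orderOf (g ^ p ^ e)) p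
  have hdvd : p ^ e ∣ orderOf g := ⟨m, hem⟩
  rw [orderOf_pow_of_dvd (pow_ne_zero _ hp.out.ne_zero) hdvd, hem,
    Nat.mul_div_cancel_left _ (pow_pos hp.out.pos _)]
  exact (Nat.Coprime.symm ((Nat.Prime.coprime_iff_not_dvd hp.out).2 hm))

/-- A `2`-subgroup containing an isolated involution centralizes it. -/
theorem IsIsolated.le_centralizer_of_isPGroup [Finite G] {z : G}
    (hz : Cfsg.IsIsolatedInvolution z) {S : Subgroup G} (hS : IsPGroup 2 S) (hzS : z ∈ S) :
    S ≤ Subgroup.centralizer ({z} : Set G) := by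
  intro s hs
  rw [Subgroup.mem_centralizer_singleton_iff]
  have hodd := IsIsolated.odd_orderOf_mul hz s
  have hmem : z * (s * z * s⁻¹) ∈ S := S.mul_mem hzS (S.mul_mem (S.mul_mem hs hzS) (S.inv_mem hs))
  obtain ⟨k, hk⟩ := (IsPGroup.iff_orderOf.1 hS) ⟨_, hmem⟩
  rw [Subgroup.orderOf_mk] at hk
  have hk0 : k = 0 := by
    by_contra hk0
    rw [hk] at hodd
    exact (Nat.not_even_iff_odd.2 hodd) ((Nat.even_pow' hk0).2 even_two)
  rw [hk0, pow_zero, orderOf_eq_one_iff] at hk
  have hzz := mul_self_of_orderOf_two hz.1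
  -- z * (s z s⁻¹) = 1, so s z s⁻¹ = z
  have h1 : s * z * s⁻¹ = z := by
    have : s * z * s⁻¹ = z⁻¹ := (inv_eq_of_mul_eq_one_right hk).symm
    rw [this]
    exact inv_eq_of_mul_eq_one_right hzz
  calc s * z = s * z * s⁻¹ * s := by group
    _ = z * s := by rw [h1]

/-- The centralizer of an isolated involution has odd index. -/
theorem IsIsolated.odd_index_centralizer [Finite G] {z : G}
    (hz : Cfsg.IsIsolatedInvolution z) : Odd (Subgroup.centralizer ({z} : Set G)).index := by
  have : Fact (Nat.Prime 2) := ⟨Nat.prime_two⟩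
  have hZ : IsPGroup 2 (Subgroup.zpowers z) := by
    apply IsPGroup.of_card (n := 1)
    rw [Nat.card_zpowers, hz.1, pow_one]
  obtain ⟨S, hS⟩ := hZ.exists_le_sylow
  have hzS : z ∈ (S : Subgroup G) := hS (Subgroup.mem_zpowers z)
  have hle := IsIsolated.le_centralizer_of_isPGroup hz S.2 hzS
  have hdvd := Subgroup.index_dvd_of_le hle
  have hnd : ¬ 2 ∣ (S : Subgroup G).index := S.not_dvd_index
  rw [← Nat.not_even_iff_odd, even_iff_two_dvd]
  exact fun h => hnd (h.trans hdvd)

/-- Transfer into an abelian quotient of the centralizer `C` of an isolated involution is, on `C`,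
the `|G : C|`-th power map. -/
theorem IsIsolated.transfer_eq_pow [Finite G] {z : G} (hz : Cfsg.IsIsolatedInvolution z)
    {A : Type*} [CommGroup A] (ϕ : Subgroup.centralizer ({z} : Set G) →* A)
    (u : Subgroup.centralizer ({z} : Set G)) :
    MonoidHom.transfer ϕ (u : G) = ϕ u ^ (Subgroup.centralizer ({z} : Set G)).index := by
  apply transfer_eq_pow_of_fusion
  intro k g₀ h
  have hu : (u : G) ^ k ∈ Subgroup.centralizer ({z} : Set G) := Subgroup.pow_mem _ u.2 k
  obtain ⟨c, -, hcz, hc⟩ := Cfsg.Agent.S1182.result z hz ⊤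
    (by rw [Subgroup.mem_normalizer_iff]; intro h; simp) ((u : G) ^ k) (g₀⁻¹ * (u : G) ^ k * g₀)
    trivial trivial
    (Subgroup.mem_centralizer_singleton_iff.1 hu) (Subgroup.mem_centralizer_singleton_iff.1 h)
    g₀⁻¹ trivial (by rw [inv_inv])
  have hcC : c ∈ Subgroup.centralizer ({z} : Set G) :=
    Subgroup.mem_centralizer_singleton_iff.2 hcz.eq
  have : (⟨g₀⁻¹ * (u : G) ^ k * g₀, h⟩ : Subgroup.centralizer ({z} : Set G))
      = ⟨c, hcC⟩ * u ^ k * ⟨c, hcC⟩⁻¹ := by
    apply Subtype.ext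
    simp [hc]
  rw [this, map_mul, map_mul, map_inv, map_pow, mul_comm, ← mul_assoc, inv_mul_cancel, one_mul]

end Cfsg.Agent.Helper18
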