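import Mathlib

set_option autoImplicit false

/-!
# Simple CT-groups (S5748): shared definitions

`IsCT G`: commuting is a transitive relation on the non-identity elements of `G`.
`Loc A e`: the local data around `A = C_G(t)` (`t` an involution) in a simple CT-group.
`Geo Ω K e`: the permutation-theoretic data of the action on the cosets of `N_G(A)`
(`K γ` = the conjugate of `A` attached to the point `γ`).
-/

namespace Cfsg.Agent.Helper18.CT

/-- commuting is transitive on the non-identity elements -/
def IsCT (G : Type*) [Group G] : Prop :=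
  ∀ a b c : G, a ≠ 1 → b ≠ 1 → c ≠ 1 → Commute a b → Commute b c → Commute a c

variable {G : Type*} [Group G]

/-- Local data: `A` is an abelian subgroup containing the centralizer of each of its non-identity
elements, with exactly `e` involutions (`e` odd, `e ≥ 3`), `|N_G(A) : A| = e`, `e ∣ |A| - 1`, all
involutions of `G` are conjugate and the involutions of `N_G(A)` lie in `A`. -/
structure Loc (A : Subgroup G) (e : ℕ) : Prop where
  ct : IsCT G
  comm : ∀ x ∈ A, ∀ y ∈ A, x * y = y * x
  cent : ∀ a ∈ A, a ≠ 1 → ∀ x : G, x * a = a * x → x ∈ A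
  inv_conj : ∀ u v : G, orderOf u = 2 → orderOf v = 2 → ∃ g : G, g * u * g⁻¹ = v
  inv_card : Nat.card {a : G // a ∈ A ∧ orderOf a = 2} = e
  e_ge : 3 ≤ e
  e_odd : Odd e
  index : A.relIndex (Subgroup.normalizer (A : Set G)) = e
  dvd : e ∣ Nat.card A - 1
  inv_norm : ∀ u ∈ Subgroup.normalizer (A : Set G), orderOf u = 2 → u ∈ A

/-- Permutation data: a transitive action of the CT-group `G` on `Ω`, with a subgroup `K γ` of
each point stabilizer `G_γ`, normal in `G_γ` of index `e`, containing the involutions of `G_γ`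
and the centralizers of its non-identity elements, whose non-identity elements fix only `γ`;
every involution has a fixed point and each `G_γ` contains exactly `e` involutions. -/
structure Geo (Ω : Type*) [MulAction G Ω] (K : Ω → Subgroup G) (e : ℕ) : Prop where
  trans : MulAction.IsPretransitive G Ω
  ct : IsCT G
  K_le : ∀ γ, K γ ≤ MulAction.stabilizer G γ
  K_norm : ∀ γ, ∀ x ∈ MulAction.stabilizer G γ, ∀ a ∈ K γ, x * a * x⁻¹ ∈ K γ
  K_inv : ∀ (γ : Ω) (u : G), orderOf u = 2 → u • γ = γ → u ∈ K γ
  K_free : ∀ γ : Ω, ∀ a ∈ K γ, a ≠ 1 → ∀ δ : Ω, a • δ = δ → δ = γ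
  K_cent : ∀ γ, ∀ a ∈ K γ, a ≠ 1 → ∀ x : G, x * a = a * x → x ∈ K γ
  K_index : ∀ γ, (K γ).relIndex (MulAction.stabilizer G γ) = e
  inv_fix : ∀ u : G, orderOf u = 2 → ∃ γ : Ω, u • γ = γ
  inv_card : ∀ γ : Ω, Nat.card {u : G // orderOf u = 2 ∧ u • γ = γ} = e
  e_ge : 3 ≤ e
  e_odd : Odd e

/-- The conclusion of the first count, for a pair of points: the two-point stabilizer has order
`e`, exactly `e` involutions map `α` to `β`, and each of them inverts the two-point stabilizer. -/
def PairOK (G : Type*) [Group G] (Ω : Type*) [MulAction G Ω] (e : ℕ) (α β : Ω) : Prop :=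
  Nat.card ↥(MulAction.stabilizer G α ⊓ MulAction.stabilizer G β) = e ∧
  Nat.card {u : G // orderOf u = 2 ∧ u • α = β} = e ∧
  ∀ u : G, orderOf u = 2 → u • α = β →
    ∀ d ∈ MulAction.stabilizer G α ⊓ MulAction.stabilizer G β, u * d * u⁻¹ = d⁻¹

end Cfsg.Agent.Helper18.CT
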