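import Mathlib
import Cfsg.Agent.Helper18.CTDefs

set_option autoImplicit false

/-!
# Groups with abelian involution centralizers (S2202): shared definitions

`Hyp G`: the centralizer of every involution of `G` is commutative.
`HC G`: the centralizer of every involution of `G` is an elementary abelian `2`-group
(the hypothesis of the landed `S1226`–`S1230`).
`Loc1 T e`: the local data around a non-cyclic, non-normal Sylow `2`-subgroup `T`.
`Geo1 Ω K e`: the permutation data of the action on the cosets of `N_G(T)`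
(`K γ` = the conjugate of `C_G(T)` attached to the point `γ`).
`PairOK1 Ω K e α β`: the conclusion of the first count for the pair `α ≠ β`.
-/

namespace Cfsg.Agent.Helper18.AI

open MulAction

/-- the centralizer of every involution is commutative -/
def Hyp (G : Type*) [Group G] : Prop :=
  ∀ t : G, orderOf t = 2 → IsMulCommutative ↥(Subgroup.centralizer ({t} : Set G))

/-- the centralizer of every involution is an elementary abelian `2`-group -/
def HC (G : Type*) [Group G] : Prop :=
  ∀ t : G, orderOf t = 2 → IsMulCommutative ↥(Subgroup.centralizer ({t} : Set G)) ∧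
    ∀ c ∈ Subgroup.centralizer ({t} : Set G), c ^ 2 = 1

variable {G : Type*} [Group G]

theorem Hyp.comm (h : Hyp G) {t x y : G} (ht : orderOf t = 2) (hx : x * t = t * x)
    (hy : y * t = t * y) : x * y = y * x := by
  have hx' : x ∈ Subgroup.centralizer ({t} : Set G) := by
    rw [Subgroup.mem_centralizer_singleton_iff]; exact hx
  have hy' : y ∈ Subgroup.centralizer ({t} : Set G) := by
    rw [Subgroup.mem_centralizer_singleton_iff]; exact hy
  have := h t ht
  have h1 := mul_comm' (⟨x, hx'⟩ : ↥(Subgroup.centralizer ({t} : Set G))) ⟨y, hy'⟩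
  exact congrArg Subtype.val h1

theorem hyp_of_comm (h : ∀ t x y : G, orderOf t = 2 → x * t = t * x → y * t = t * y →
    x * y = y * x) : Hyp G := by
  intro t ht
  refine ⟨⟨fun a b => Subtype.ext ?_⟩⟩
  have ha := a.2
  have hb := b.2
  rw [Subgroup.mem_centralizer_singleton_iff] at ha hb
  exact h t a b ht ha hb

/-- the hypothesis passes to subgroups -/
theorem Hyp.subgroup (h : Hyp G) (Y : Subgroup G) : Hyp ↥Y := by
  apply hyp_of_comm
  intro t x y ht hx hy
  apply Subtype.ext
  have ht' : orderOf (t : G) = 2 := by rw [← ht]; exact Subgroup.orderOf_coe t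
  exact h.comm ht' (congrArg Subtype.val hx) (congrArg Subtype.val hy)

/-- Local data around a Sylow `2`-subgroup `T` (with `A = C_G(T)`): `A` is abelian and contains
`T`; `A` contains the centralizer of each involution of `T`; the involutions of `A` and of
`N_G(T)` lie in `T`; an involution of `T` conjugated back into `T` forces the conjugating element
into `N_G(T)`; every involution is conjugate into `T`; `T` has exactly `e` involutions,
`e ≥ 3` odd; `N_G(T) ≠ G`. -/
structure Loc1 (T : Sylow 2 G) (e : ℕ) : Prop where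
  comm : ∀ x ∈ Subgroup.centralizer ((T : Subgroup G) : Set G),
    ∀ y ∈ Subgroup.centralizer ((T : Subgroup G) : Set G), x * y = y * x
  T_le : (T : Subgroup G) ≤ Subgroup.centralizer ((T : Subgroup G) : Set G)
  cent : ∀ t ∈ (T : Subgroup G), orderOf t = 2 → ∀ x : G, x * t = t * x →
    x ∈ Subgroup.centralizer ((T : Subgroup G) : Set G)
  inv_mem : ∀ u ∈ Subgroup.centralizer ((T : Subgroup G) : Set G), orderOf u = 2 →
    u ∈ (T : Subgroup G)
  inv_norm : ∀ u ∈ Subgroup.normalizer ((T : Subgroup G) : Set G), orderOf u = 2 →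
    u ∈ (T : Subgroup G)
  ti : ∀ g : G, ∀ t ∈ (T : Subgroup G), orderOf t = 2 → g * t * g⁻¹ ∈ (T : Subgroup G) →
    g ∈ Subgroup.normalizer ((T : Subgroup G) : Set G)
  inv_conj_mem : ∀ u : G, orderOf u = 2 → ∃ g : G, g * u * g⁻¹ ∈ (T : Subgroup G)
  inv_card : Nat.card {t : G // t ∈ (T : Subgroup G) ∧ orderOf t = 2} = e
  e_ge : 3 ≤ e
  e_odd : Odd e
  ne_top : Subgroup.normalizer ((T : Subgroup G) : Set G) ≠ ⊤

/-- Permutation data: a transitive action of `G` on `Ω` (at least two points), with an abelian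
subgroup `K γ` of each point stabilizer, `K (g • γ) = g (K γ) g⁻¹`, containing the involutions of
`G_γ` and the centralizer of each of its involutions; every involution fixes exactly one point and
each `G_γ` contains exactly `e` involutions, `e ≥ 3` odd. -/
structure Geo1 (Ω : Type*) [MulAction G Ω] (K : Ω → Subgroup G) (e : ℕ) : Prop where
  trans : MulAction.IsPretransitive G Ω
  K_le : ∀ γ, K γ ≤ MulAction.stabilizer G γ
  K_conj : ∀ (g : G) (γ : Ω), ∀ a ∈ K γ, g * a * g⁻¹ ∈ K (g • γ)
  K_comm : ∀ γ, ∀ a ∈ K γ, ∀ b ∈ K γ, a * b = b * a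
  K_inv : ∀ (γ : Ω) (u : G), orderOf u = 2 → u • γ = γ → u ∈ K γ
  K_cent : ∀ (γ : Ω) (u : G), orderOf u = 2 → u ∈ K γ → ∀ x : G, x * u = u * x → x ∈ K γ
  inv_fix : ∀ u : G, orderOf u = 2 → ∃ γ : Ω, u • γ = γ
  inv_fix_unique : ∀ u : G, orderOf u = 2 → ∀ γ δ : Ω, u • γ = γ → u • δ = δ → γ = δ
  inv_card : ∀ γ : Ω, Nat.card {u : G // orderOf u = 2 ∧ u • γ = γ} = e
  e_ge : 3 ≤ e
  e_odd : Odd e
  two_le : 2 ≤ Nat.card Ω

/-- The conclusion of the first count for a pair `α ≠ β` (`D = G_α ∩ G_β`, `J` = the involutions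
mapping `α` to `β`): `|J| = e`; two elements of `J` whose product lies in `K α` are equal;
`G_α = K α · {u v | v ∈ J}` for each `u ∈ J`; every element of `J` centralizes `K α ∩ K β`;
`|D| = e · |K α ∩ G_β|`. -/
def PairOK1 (Ω : Type*) [MulAction G Ω] (K : Ω → Subgroup G) (e : ℕ) (α β : Ω) : Prop :=
  Nat.card {u : G // orderOf u = 2 ∧ u • α = β} = e ∧
  (∀ u v : G, orderOf u = 2 → u • α = β → orderOf v = 2 → v • α = β → u * v ∈ K α → u = v) ∧
  (∀ u : G, orderOf u = 2 → u • α = β → ∀ x ∈ MulAction.stabilizer G α,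
    ∃ c ∈ K α, ∃ v : G, orderOf v = 2 ∧ v • α = β ∧ x = c * (u * v)) ∧
  (∀ u : G, orderOf u = 2 → u • α = β → ∀ b ∈ K α ⊓ K β, u * b = b * u) ∧
  Nat.card ↥(MulAction.stabilizer G α ⊓ MulAction.stabilizer G β) =
    e * Nat.card ↥(K α ⊓ MulAction.stabilizer G β)

end Cfsg.Agent.Helper18.AI
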