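import Mathlib
import Cfsg.Prelude.Def_Solvable
import Cfsg.Agent.S0044
import Cfsg.Agent.Helper7.PConstrained
import Cfsg.Agent.Helper21.FrattiniAut
import Cfsg.Agent.Lead.FrattiniFaithful
import Cfsg.Agent.Helper14.PCore

/-!
Piece (A7a) of S3782 (Alperin): `X` solvable with `O_{p'}(X) = 1`; then `X / O_p(X)` acts faithfully
on the Frattini quotient of `O_p(X)`, so `|X : O_p(X)| ≤ M ^ M` for `M ≥ |O_p(X)/Φ(O_p(X))|`.
-/

set_option autoImplicit false

namespace Cfsg.Agent.Helper18.Alp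

open Cfsg Subgroup

/-- the kernel of the action of `X` on the Frattini quotient of `O_p(X)` is `O_p(X)` -/
theorem exists_hom_ker_eq_pCore {X : Type*} [Group X] [Finite X] {p : ℕ} [Fact p.Prime]
    (hsolv : Group.IsSolvable X) (hO : Cfsg.pPrimeCore p X = ⊥) :
    ∃ θ : X →* MulAut (↥(Cfsg.pCore p X) ⧸ frattini ↥(Cfsg.pCore p X)),
      θ.ker = Cfsg.pCore p X := by
  have hQn : (pCore p X).Normal := Cfsg.Agent.Helper14.pCore_normal p
  have hQp : IsPGroup p ↥(pCore p X) := Cfsg.Agent.Helper14.pCore_isPGroup p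
  have hcent : centralizer ((pCore p X : Subgroup X) : Set X) ≤ pCore p X := by
    have h1 := Cfsg.Agent.Helper7.fittingSubgroup_eq_pCore_of_pPrimeCore_eq_bot hO
    have h2 : centralizer (Cfsg.fittingSubgroup X : Set X) ≤ Cfsg.fittingSubgroup X :=
      Cfsg.Agent.S0044.result
    rw [h1] at h2
    exact h2
  have hmax : ∀ C : Subgroup X, C.Normal → IsPGroup p C → C ≤ pCore p X :=
    fun C hn hp => Cfsg.Agent.Helper14.le_pCore p hn hp
  let θ : X →* MulAut (↥(pCore p X) ⧸ frattini ↥(pCore p X)) :=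
    (Cfsg.Agent.Helper21.FrattiniAut.frattiniQuotHom ↥(pCore p X)).comp
      (MulAut.conjNormal (H := pCore p X))
  refine ⟨θ, ?_⟩
  ext g
  rw [MonoidHom.mem_ker, MonoidHom.comp_apply, ← MonoidHom.mem_ker,
    Cfsg.Agent.Helper21.FrattiniAut.mem_ker_frattiniQuotHom_iff,
    ← Cfsg.Agent.Lead.mem_iff_trivial_on_frattini_quotient (pCore p X) hQp hmax hcent g]
  constructor
  · intro h y hy
    refine ⟨_, h ⟨y, hy⟩, ?_⟩
    simp [MulAut.conjNormal_apply]
  · intro h y
    obtain ⟨z, hz, hzy⟩ := h y y.2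
    have : z = MulAut.conjNormal g y * y⁻¹ := by
      apply Subtype.ext
      have hzy' : (z : X) = g * ↑y * g⁻¹ * (↑y)⁻¹ := hzy
      rw [hzy']
      simp [MulAut.conjNormal_apply]
    rw [← this]
    exact hz

/-- (A7a) INDEX -/
theorem index_pCore_le {X : Type*} [Group X] [Finite X] {p : ℕ} [Fact p.Prime]
    (hsolv : Group.IsSolvable X) (hO : Cfsg.pPrimeCore p X = ⊥) (M : ℕ)
    (hM : Nat.card (↥(Cfsg.pCore p X) ⧸ frattini ↥(Cfsg.pCore p X)) ≤ M) :
    (Cfsg.pCore p X).index ≤ M ^ M := by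
  obtain ⟨θ, hker⟩ := exists_hom_ker_eq_pCore hsolv hO
  rw [← hker, Subgroup.index_ker]
  set V := ↥(Cfsg.pCore p X) ⧸ frattini ↥(Cfsg.pCore p X) with hV
  have h1 : Nat.card θ.range ≤ Nat.card (MulAut V) :=
    Nat.card_le_card_of_injective _ Subtype.val_injective
  have h2 : Nat.card (MulAut V) ≤ Nat.card (V → V) := by
    apply Nat.card_le_card_of_injective (fun α : MulAut V => (α : V → V))
    intro a b h
    exact MulEquiv.ext (fun x => congrFun h x)
  have h3 : Nat.card (V → V) = Nat.card V ^ Nat.card V := Nat.card_fun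
  have hpos : 0 < Nat.card V := Nat.card_pos
  calc Nat.card θ.range ≤ Nat.card V ^ Nat.card V := by rw [← h3]; exact h1.trans h2
    _ ≤ M ^ Nat.card V := Nat.pow_le_pow_left hM _
    _ ≤ M ^ M := Nat.pow_le_pow_right (lt_of_lt_of_le hpos hM) hM

end Cfsg.Agent.Helper18.Alp
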