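import Mathlib

/-! Maximal subgroups of `PSL₂(q)`, part 1: general Sylow/transfer lemmas for maximal subgroups
of finite simple groups. -/

set_option autoImplicit false

namespace Cfsg.Agent.Helper18.L2Max

open Subgroup

variable {G : Type*} [Group G]

/-- In a simple group, the normaliser of a nontrivial subgroup `N` of a maximal subgroup `A`
normalising `N` is `A` itself. -/
theorem normalizer_eq_of_coatom [IsSimpleGroup G] {A N : Subgroup G} (hA : IsCoatom A)
    (hN : N ≠ ⊥) (hNA : N ≤ A) (hAN : A ≤ normalizer (N : Set G)) :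
    normalizer (N : Set G) = A := by
  by_contra h
  have hlt : A < normalizer (N : Set G) := lt_of_le_of_ne hAN (Ne.symm h)
  have htop := hA.2 _ hlt
  have hn : N.Normal := normalizer_eq_top_iff.1 htop
  rcases hn.eq_bot_or_eq_top with h1 | h1
  · exact hN h1
  · exact hA.1 (top_le_iff.1 (h1 ▸ hNA))

/-- an `ℓ`-subgroup `P` of full `ℓ`-power order in `M` whose normaliser lies in `M` has full
`ℓ`-power order in `G` -/
theorem card_eq_of_normalizer_le [Finite G] (ℓ : ℕ) [Fact ℓ.Prime] {M P : Subgroup G}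
    (hN : normalizer (P : Set G) ≤ M)
    (hP : Nat.card P = ℓ ^ (Nat.card M).factorization ℓ) :
    Nat.card P = ℓ ^ (Nat.card G).factorization ℓ := by
  set n := (Nat.card M).factorization ℓ with hn
  have hℓ : ℓ.Prime := Fact.out
  have h1 : ℓ ^ n ∣ Nat.card G := hP ▸ Subgroup.card_subgroup_dvd_card P
  by_contra hne
  have hle : n ≤ (Nat.card G).factorization ℓ :=
    (hℓ.pow_dvd_iff_le_factorization (Nat.card_pos.ne')).1 h1
  have hne' : n ≠ (Nat.card G).factorization ℓ := fun h => hne (by rw [hP, h])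
  have h2 : ℓ ^ (n + 1) ∣ Nat.card G :=
    (hℓ.pow_dvd_iff_le_factorization (Nat.card_pos.ne')).2 (by omega)
  have h3 := Sylow.prime_dvd_card_quotient_normalizer h2 hP
  have h4 := Subgroup.card_eq_card_quotient_mul_card_subgroup
    (P.comap (normalizer (P : Set G)).subtype)
  have h5 : Nat.card (P.comap (normalizer (P : Set G)).subtype) = Nat.card P :=
    Nat.card_congr (Subgroup.subgroupOfEquivOfLe le_normalizer).toEquiv
  have h6 : ℓ ^ (n + 1) ∣ Nat.card (normalizer (P : Set G)) := by
    rw [h4, h5, hP, pow_succ, mul_comm]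
    exact Nat.mul_dvd_mul_right h3 _
  have h7 : ℓ ^ (n + 1) ∣ Nat.card M := h6.trans (Subgroup.card_dvd_of_le hN)
  have := (hℓ.pow_dvd_iff_le_factorization (Nat.card_pos.ne')).1 h7
  omega

/-- **Herstein, simple case**: a nonabelian finite simple group has no abelian maximal
subgroup. -/
theorem not_abelian_of_coatom [Finite G] [IsSimpleGroup G] (hG : ¬ ∀ a b : G, a * b = b * a)
    {M : Subgroup G} (hM : IsCoatom M) : ¬ ∀ a ∈ M, ∀ b ∈ M, a * b = b * a := by
  intro hab
  -- `M ≠ ⊥`
  have hMbot : M ≠ ⊥ := by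
    intro hMb
    apply hG
    obtain ⟨g, hg⟩ := exists_ne (1 : G)
    have hz : zpowers g = ⊤ := by
      apply hM.2
      rw [hMb]
      exact bot_lt_iff_ne_bot.2 (by rwa [Ne, zpowers_eq_bot])
    intro a b
    have ha : a ∈ zpowers g := hz ▸ mem_top a
    have hb : b ∈ zpowers g := hz ▸ mem_top b
    obtain ⟨k, rfl⟩ := ha
    obtain ⟨l, rfl⟩ := hb
    exact (Commute.zpow_zpow_self g k l).eq
  have hcM : 1 < Nat.card M := by
    rw [Subgroup.one_lt_card_iff_ne_bot]; exact hMbot
  obtain ⟨ℓ, hℓ, hℓM⟩ := Nat.exists_prime_and_dvd (Nat.ne_of_gt hcM)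
  have : Fact ℓ.Prime := ⟨hℓ⟩
  obtain ⟨P0⟩ : Nonempty (Sylow ℓ M) := inferInstance
  set P : Subgroup G := (P0 : Subgroup M).map M.subtype with hPdef
  have hPM : P ≤ M := Subgroup.map_subtype_le _
  have hcP : Nat.card P = ℓ ^ (Nat.card M).factorization ℓ := by
    rw [hPdef, Subgroup.card_map_of_injective M.subtype_injective]
    exact P0.card_eq_multiplicity
  have hPbot : P ≠ ⊥ := by
    intro h
    rw [h, Subgroup.card_bot] at hcP
    have hpos : 0 < (Nat.card M).factorization ℓ :=
      hℓ.factorization_pos_of_dvd (Nat.card_pos.ne') hℓM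
    have : 1 < ℓ ^ (Nat.card M).factorization ℓ := Nat.one_lt_pow hpos.ne' hℓ.one_lt
    omega
  have hMN : M ≤ normalizer (P : Set G) := by
    intro m hm
    rw [mem_normalizer_iff]
    intro x
    have key : ∀ y ∈ P, m * y * m⁻¹ = y := by
      intro y hy
      rw [hab m hm y (hPM hy), mul_inv_cancel_right]
    constructor
    · intro hx
      rw [key x hx]; exact hx
    · intro hx
      have h1 := key _ hx
      have h2 : x = m * x * m⁻¹ := by
        have h3 : m⁻¹ * (m * (m * x * m⁻¹) * m⁻¹) * m = m⁻¹ * (m * x * m⁻¹) * m := by rw [h1]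
        have e : m⁻¹ * (m * (m * x * m⁻¹) * m⁻¹) * m = m * x * m⁻¹ := by group
        have e' : m⁻¹ * (m * x * m⁻¹) * m = x := by group
        rw [e, e'] at h3
        exact h3.symm
      rw [h2]; exact hx
  have hN : normalizer (P : Set G) = M := normalizer_eq_of_coatom hM hPbot hPM hMN
  have hcPG := card_eq_of_normalizer_le ℓ hN.le hcP
  set Q : Sylow ℓ G := Sylow.ofCard P hcPG with hQ
  have hQP : (Q : Subgroup G) = P := rfl
  have hNC : normalizer ((Q : Subgroup G) : Set G) ≤ centralizer ((Q : Subgroup G) : Set G) := by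
    rw [hQP, hN]
    intro m hm
    rw [mem_centralizer_iff]
    intro y hy
    exact (hab m hm y (hPM hy)).symm
  have hcomp := MonoidHom.ker_transferSylow_isComplement' Q hNC
  have hcard := hcomp.card_mul_card
  have hker : (MonoidHom.transferSylow Q hNC).ker.Normal := inferInstance
  rcases hker.eq_bot_or_eq_top with hk | hk
  · rw [hk, Subgroup.card_bot, one_mul] at hcard
    have hQtop : (Q : Subgroup G) = ⊤ := Subgroup.eq_top_of_card_eq _ hcard
    rw [hQP] at hQtop
    exact hM.1 (top_le_iff.1 (hQtop ▸ hPM))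
  · rw [hk, Subgroup.card_top] at hcard
    have : Nat.card (Q : Subgroup G) = 1 := by
      have hpos : 0 < Nat.card G := Nat.card_pos
      nlinarith [Nat.card_pos (α := (Q : Subgroup G))]
    rw [Subgroup.card_eq_one] at this
    exact hPbot (hQP ▸ this)

theorem card_map_conj (A : Subgroup G) (g : G) :
    Nat.card (A.map (MulAut.conj g).toMonoidHom) = Nat.card A :=
  Subgroup.card_map_of_injective (MulAut.conj g).injective

/-- Sylow transport: if `S` has full `ℓ`-power order with `N_G(S) = M`, any subgroup `A` of order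
divisible by the full `ℓ`-power has a conjugate `A'` containing `S` with
`|A| = n * |A' ⊓ M|`, `n ≡ 1 mod ℓ`. -/
theorem exists_conj_sylow [Finite G] (ℓ : ℕ) [Fact ℓ.Prime] {M S A : Subgroup G}
    (hS : Nat.card S = ℓ ^ (Nat.card G).factorization ℓ) (hNS : normalizer (S : Set G) = M)
    (hA : ℓ ^ (Nat.card G).factorization ℓ ∣ Nat.card A) :
    ∃ g : G, S ≤ A.map (MulAut.conj g).toMonoidHom ∧
      ∃ n : ℕ, n % ℓ = 1 ∧
        Nat.card A = n * Nat.card (M ⊓ A.map (MulAut.conj g).toMonoidHom : Subgroup G) := by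
  have hℓ : ℓ.Prime := Fact.out
  obtain ⟨Q0⟩ : Nonempty (Sylow ℓ A) := inferInstance
  set Q : Subgroup G := (Q0 : Subgroup A).map A.subtype with hQdef
  have hQA : Q ≤ A := Subgroup.map_subtype_le _
  have hfac : (Nat.card A).factorization ℓ = (Nat.card G).factorization ℓ := by
    apply le_antisymm
    · exact (hℓ.pow_dvd_iff_le_factorization Nat.card_pos.ne').1
        ((Nat.ordProj_dvd _ _).trans (Subgroup.card_subgroup_dvd_card A))
    · exact (hℓ.pow_dvd_iff_le_factorization Nat.card_pos.ne').1 hA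
  have hcQ : Nat.card Q = ℓ ^ (Nat.card G).factorization ℓ := by
    rw [hQdef, Subgroup.card_map_of_injective A.subtype_injective, Q0.card_eq_multiplicity, hfac]
  set SG : Sylow ℓ G := Sylow.ofCard S hS with hSG
  set QG : Sylow ℓ G := Sylow.ofCard Q hcQ with hQG
  obtain ⟨g, hg⟩ := MulAction.exists_smul_eq G QG SG
  set A' : Subgroup G := A.map (MulAut.conj g).toMonoidHom with hA'
  have hSA' : S ≤ A' := by
    intro x hx
    have hx' : x ∈ (SG : Subgroup G) := hx
    rw [← hg, Sylow.coe_subgroup_smul, Subgroup.mem_smul_pointwise_iff_exists] at hx'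
    obtain ⟨s, hs, rfl⟩ := hx'
    exact ⟨s, hQA hs, rfl⟩
  refine ⟨g, hSA', ?_⟩
  have hcA' : Nat.card A' = Nat.card A := card_map_conj A g
  have hcS' : Nat.card (S.subgroupOf A') = ℓ ^ (Nat.card A').factorization ℓ := by
    rw [hcA', hfac, ← hS]
    exact Nat.card_congr (Subgroup.subgroupOfEquivOfLe hSA').toEquiv
  set S'' : Sylow ℓ A' := Sylow.ofCard (S.subgroupOf A') hcS' with hS''
  have h1 := Sylow.card_eq_index_normalizer S''
  have h2 : Nat.card (Sylow ℓ A') ≡ 1 [MOD ℓ] := card_sylow_modEq_one ℓ A'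
  have h3 : normalizer ((S'' : Subgroup A') : Set A') = M.subgroupOf A' := by
    show normalizer ((S.subgroupOf A' : Subgroup A') : Set A') = M.subgroupOf A'
    rw [← subgroupOf_normalizer_eq hSA', hNS]
  refine ⟨Nat.card (Sylow ℓ A'), ?_, ?_⟩
  · have := h2
    unfold Nat.ModEq at this
    rw [this, Nat.mod_eq_of_lt hℓ.one_lt]
  · have h1' : Nat.card (Sylow ℓ A') = (M.subgroupOf A').index := by
      rw [h1, ← h3]; rfl
    rw [h1', ← hcA', ← Subgroup.card_mul_index (M.subgroupOf A'), mul_comm]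
    congr 1
    rw [← Subgroup.inf_subgroupOf_right]
    exact Nat.card_congr (Subgroup.subgroupOfEquivOfLe inf_le_right).toEquiv

/-- a maximal subgroup that is an `ℓ`-group is, up to conjugacy, contained in every subgroup
whose order is divisible by the full power of `ℓ`. -/
theorem exists_conj_le_of_pgroup [Finite G] [IsSimpleGroup G] (ℓ : ℕ) [Fact ℓ.Prime]
    {M A : Subgroup G} (hM : IsCoatom M) (hMbot : M ≠ ⊥) (hMℓ : IsPGroup ℓ M)
    (hA : ℓ ^ (Nat.card G).factorization ℓ ∣ Nat.card A) :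
    Nat.card M = ℓ ^ (Nat.card G).factorization ℓ ∧
      ∃ g : G, M ≤ A.map (MulAut.conj g).toMonoidHom := by
  have hℓ : ℓ.Prime := Fact.out
  have hN : normalizer (M : Set G) = M := normalizer_eq_of_coatom hM hMbot le_rfl le_normalizer
  have hcM : Nat.card M = ℓ ^ (Nat.card M).factorization ℓ := by
    obtain ⟨k, hk⟩ := hMℓ.exists_card_eq
    rw [hk, Nat.Prime.factorization_pow hℓ]
    simp
  have hcM' := card_eq_of_normalizer_le ℓ hN.le hcM
  refine ⟨hcM', ?_⟩
  obtain ⟨g, hg, -⟩ := exists_conj_sylow ℓ hcM' hN hA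
  exact ⟨g, hg⟩

end Cfsg.Agent.Helper18.L2Max
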