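import Cfsg.Prelude.Def_Transfer
import Cfsg.Agent.Helper18.IsolatedTransfer
import Mathlib.GroupTheory.Transfer
import Mathlib.GroupTheory.Abelianization.Defs

/-!
# Transfer and control of `p`-fusion: `(O^p(G) G') ∩ H = O^p(H) H'`
-/

namespace Cfsg.Agent.Helper18

open Subgroup

variable {G : Type*} [Group G]

/-- Decomposition of an element of finite order into its `p`-part and `p'`-part. -/
theorem exists_pPart_decomp (p : ℕ) [hp : Fact p.Prime] [Finite G] (h : G) :
    ∃ x y : G, h = x * y ∧ x ∈ Subgroup.zpowers h ∧ y ∈ Subgroup.zpowers h ∧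
      (∃ k : ℕ, orderOf x = p ^ k) ∧ Nat.Coprime (orderOf y) p := by
  have hpos : orderOf h ≠ 0 := (orderOf_pos h).ne'
  obtain ⟨e, m, hm, hem⟩ := Nat.exists_eq_pow_mul_and_not_dvd hpos p hp.out.ne_one
  have hcop : Nat.Coprime (p ^ e) m :=
    Nat.Coprime.pow_left e ((Nat.Prime.coprime_iff_not_dvd hp.out).2 hm)
  have hbez := Nat.gcd_eq_gcd_ab (p ^ e) m
  rw [hcop.gcd_eq_one] at hbez
  -- x = (h^m)^B, y = (h^(p^e))^A
  refine ⟨(h ^ m) ^ (Nat.gcdB (p ^ e) m), (h ^ (p ^ e)) ^ (Nat.gcdA (p ^ e) m), ?_, ?_, ?_, ?_, ?_⟩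
  · rw [← zpow_natCast h m, ← zpow_natCast h (p ^ e), ← zpow_mul, ← zpow_mul, ← zpow_add]
    have : (m : ℤ) * Nat.gcdB (p ^ e) m + ((p ^ e : ℕ) : ℤ) * Nat.gcdA (p ^ e) m = 1 := by
      rw [add_comm]; exact hbez.symm
    rw [this, zpow_one]
  · exact Subgroup.zpow_mem _ (Subgroup.pow_mem _ (Subgroup.mem_zpowers h) _) _
  · exact Subgroup.zpow_mem _ (Subgroup.pow_mem _ (Subgroup.mem_zpowers h) _) _
  · have h1 : orderOf ((h ^ m) ^ (Nat.gcdB (p ^ e) m)) ∣ orderOf (h ^ m) :=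
      orderOf_dvd_of_mem_zpowers (Subgroup.zpow_mem _ (Subgroup.mem_zpowers _) _)
    have h2 : orderOf (h ^ m) = p ^ e := by
      rw [orderOf_pow_of_dvd (fun h0 => by rw [h0, mul_zero] at hem; exact hpos hem) ⟨p ^ e, by rw [hem, mul_comm]⟩,
        hem, Nat.mul_div_cancel _ (Nat.pos_of_ne_zero (fun h0 => by rw [h0, mul_zero] at hem; exact hpos hem))]
    rw [h2] at h1
    obtain ⟨k, -, hk⟩ := (Nat.dvd_prime_pow hp.out).1 h1
    exact ⟨k, hk⟩
  · have h1 : orderOf ((h ^ (p ^ e)) ^ (Nat.gcdA (p ^ e) m)) ∣ orderOf (h ^ (p ^ e)) :=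
      orderOf_dvd_of_mem_zpowers (Subgroup.zpow_mem _ (Subgroup.mem_zpowers _) _)
    have h2 : orderOf (h ^ (p ^ e)) = m := by
      rw [orderOf_pow_of_dvd (pow_ne_zero _ hp.out.ne_zero) ⟨m, hem⟩, hem,
        Nat.mul_div_cancel_left _ (pow_pos hp.out.pos _)]
    rw [h2] at h1
    exact Nat.Coprime.coprime_dvd_left h1 ((Nat.Prime.coprime_iff_not_dvd hp.out).2 hm).symm

/-- A quotient by a normal subgroup containing the `p`-residual is a `p`-group. -/
theorem isPGroup_quotient_of_pResidual_le (p : ℕ) [hp : Fact p.Prime] [Finite G]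
    (N : Subgroup G) [N.Normal] (hN : Cfsg.pResidual p G ≤ N) : IsPGroup p (G ⧸ N) := by
  intro q
  obtain ⟨g, rfl⟩ := QuotientGroup.mk_surjective q
  obtain ⟨k, hk⟩ := isPGroup_quotient_pResidual (G := G) p (QuotientGroup.mk g)
  refine ⟨k, ?_⟩
  rw [← QuotientGroup.mk_pow, QuotientGroup.eq_one_iff] at hk ⊢
  exact hN hk

/-- A homomorphism to a `p`-group kills the `p`-residual. -/
theorem pResidual_le_ker (p : ℕ) [hp : Fact p.Prime] {A : Type*} [Group A] (hA : IsPGroup p A)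
    (V : G →* A) : Cfsg.pResidual p G ≤ V.ker := by
  unfold Cfsg.pResidual
  rw [Subgroup.closure_le]
  intro x hx
  have hx' : Nat.Coprime (orderOf x) p := hx
  rw [SetLike.mem_coe, MonoidHom.mem_ker]
  obtain ⟨k, hk⟩ := (IsPGroup.iff_orderOf.1 hA) (V x)
  have hdvd : orderOf (V x) ∣ orderOf x := orderOf_map_dvd _ x
  by_cases hk0 : k = 0
  · rw [hk0, pow_zero, orderOf_eq_one_iff] at hk
    exact hk
  · exfalso
    have h2 : p ∣ orderOf x := (dvd_pow_self p hk0).trans (hk ▸ hdvd)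
    exact hp.out.ne_one (Nat.Coprime.eq_one_of_dvd hx'.symm h2)

/-- In a `p`-group, an element whose `n`-th power is trivial with `n` prime to `p` is trivial. -/
theorem eq_one_of_pow_eq_one_of_coprime (p : ℕ) [hp : Fact p.Prime] {A : Type*} [Group A]
    (hA : IsPGroup p A) {n : ℕ} (hn : Nat.Coprime p n) {a : A} (ha : a ^ n = 1) : a = 1 := by
  obtain ⟨k, hk⟩ := (IsPGroup.iff_orderOf.1 hA) a
  have hdvd : orderOf a ∣ n := orderOf_dvd_of_pow_eq_one ha
  by_cases hk0 : k = 0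
  · rw [hk0, pow_zero, orderOf_eq_one_iff] at hk
    exact hk
  · exfalso
    have h2 : p ∣ n := (dvd_pow_self p hk0).trans (hk ▸ hdvd)
    exact hp.out.ne_one (Nat.Coprime.eq_one_of_dvd hn h2)

/-- The `p`-residual of a subgroup lies in the `p`-residual of the group. -/
theorem map_subtype_pResidual_le (p : ℕ) (H : Subgroup G) :
    (Cfsg.pResidual p ↥H).map H.subtype ≤ Cfsg.pResidual p G := by
  rw [Subgroup.map_le_iff_le_comap]
  unfold Cfsg.pResidual
  rw [Subgroup.closure_le]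
  intro c hc
  have hc' : Nat.Coprime (orderOf c) p := hc
  rw [SetLike.mem_coe, Subgroup.mem_comap]
  apply Subgroup.subset_closure
  show Nat.Coprime (orderOf (H.subtype c)) p
  rw [Subgroup.coe_subtype, Subgroup.orderOf_coe]
  exact hc'

/-- The commutator subgroup of a subgroup lies in the commutator subgroup of the group. -/
theorem map_subtype_commutator_le (H : Subgroup G) :
    (commutator ↥H).map H.subtype ≤ commutator G := by
  rw [commutator_def, commutator_def, Subgroup.map_commutator]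
  exact Subgroup.commutator_mono le_top le_top

open scoped IsMulCommutative in
/-- Transfer and control of `p`-fusion: if `H` has index prime to `p` and controls fusion of its
`p`-elements, then `(O^p(G) G') ∩ H ≤ O^p(H) H'`. -/
theorem mem_residual_sup_commutator_of_fusion [Finite G] {p : ℕ} [hp : Fact p.Prime]
    (H : Subgroup G) (hidx : Nat.Coprime p H.index)
    (hfus : ∀ g ∈ H, (∃ k : ℕ, orderOf g = p ^ k) → ∀ a : G, a * g * a⁻¹ ∈ H →
      ∃ h ∈ H, h * g * h⁻¹ = a * g * a⁻¹)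
    (h : H) (hh : (h : G) ∈ Cfsg.pResidual p G ⊔ commutator G) :
    h ∈ Cfsg.pResidual p ↥H ⊔ commutator ↥H := by
  classical
  obtain ⟨H0, hH0⟩ : ∃ H0 : Subgroup H, H0 = Cfsg.pResidual p ↥H ⊔ commutator ↥H := ⟨_, rfl⟩
  have hN1 : (Cfsg.pResidual p ↥H).Normal := pResidual_normal p
  have hN2 : (commutator ↥H).Normal := inferInstance
  have hN : H0.Normal := by rw [hH0]; exact Subgroup.sup_normal _ _
  have hle1 : Cfsg.pResidual p ↥H ≤ H0 := by rw [hH0]; exact le_sup_left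
  have hle2 : commutator ↥H ≤ H0 := by rw [hH0]; exact le_sup_right
  have hcomm : IsMulCommutative (H ⧸ H0) :=
    Subgroup.Normal.quotient_commutative_iff_commutator_le.mpr hle2
  have hA : IsPGroup p (H ⧸ H0) := isPGroup_quotient_of_pResidual_le p H0 hle1
  have hker : Cfsg.pResidual p G ⊔ commutator G ≤
      (MonoidHom.transfer (QuotientGroup.mk' H0)).ker :=
    sup_le (pResidual_le_ker p hA _) (Abelianization.commutator_subset_ker _)
  obtain ⟨x, y, hxy, hx, hy, ⟨k, hk⟩, hyc⟩ := exists_pPart_decomp p h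
  have hy0 : y ∈ H0 := hle1 (Subgroup.subset_closure hyc)
  have hyG : (y : G) ∈ Cfsg.pResidual p G := by
    apply Subgroup.subset_closure
    show Nat.Coprime (orderOf (y : G)) p
    rw [Subgroup.orderOf_coe]
    exact hyc
  have hxG : (x : G) ∈ Cfsg.pResidual p G ⊔ commutator G := by
    have : (x : G) = (h : G) * (y : G)⁻¹ := by rw [hxy]; simp
    rw [this]
    exact mul_mem hh (inv_mem (le_sup_left (a := Cfsg.pResidual p G) hyG))
  have hVx : MonoidHom.transfer (QuotientGroup.mk' H0) (x : G) = 1 :=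
    MonoidHom.mem_ker.1 (hker hxG)
  have hpow : MonoidHom.transfer (QuotientGroup.mk' H0) (x : G) =
      (QuotientGroup.mk' H0) x ^ H.index := by
    apply transfer_eq_pow_of_fusion
    intro j g₀ hmem
    have hxj : (x : G) ^ j ∈ H := Subgroup.pow_mem _ x.2 j
    have hord : ∃ i : ℕ, orderOf ((x : G) ^ j) = p ^ i := by
      have h1 : orderOf ((x : G) ^ j) ∣ p ^ k := by
        rw [← hk, ← Subgroup.orderOf_coe]
        exact orderOf_pow_dvd j
      obtain ⟨i, -, hi⟩ := (Nat.dvd_prime_pow hp.out).1 h1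
      exact ⟨i, hi⟩
    obtain ⟨c, hc, hcx⟩ := hfus _ hxj hord g₀⁻¹ (by rw [inv_inv]; exact hmem)
    rw [inv_inv] at hcx
    have : (⟨g₀⁻¹ * (x : G) ^ j * g₀, hmem⟩ : H) = ⟨c, hc⟩ * x ^ j * ⟨c, hc⟩⁻¹ := by
      apply Subtype.ext
      simp [hcx]
    rw [this, map_mul, map_mul, map_inv, map_pow, mul_comm, ← mul_assoc, inv_mul_cancel, one_mul]
  have hx1 : (QuotientGroup.mk' H0) x = 1 :=
    eq_one_of_pow_eq_one_of_coprime p hA hidx (hpow ▸ hVx)
  have hx0 : x ∈ H0 := (QuotientGroup.eq_one_iff x).1 hx1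
  rw [← hH0, hxy]
  exact mul_mem hx0 hy0

end Cfsg.Agent.Helper18
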