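import Mathlib
import Cfsg.Prelude.Def_OddOrderLocal
import Cfsg.Agent.Helper9.BG12e
import Cfsg.Agent.Helper7.Layer

/-!
# B&G Theorem B (S1358–S1362): frozen statements used as hypotheses, and the basic facts on the
standard factorisation `M = K U M_σ`.
-/

set_option autoImplicit false
set_option linter.unusedSectionVars false
set_option linter.unusedVariables false

namespace Cfsg.Agent.Helper18.BG16B

open Subgroup Cfsg
open Cfsg.Agent.H9.BG12 (St1350 St1420)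

universe u

/-- frozen statement S1352 -/
def St1352 (G : Type u) [Group G] : Prop :=
  ∀ M : Subgroup G, IsCoatom M → ∀ K : Subgroup G, IsCyclic K → Cfsg.IsPiHallOf (Cfsg.kappa M) K M →
    (∃ U : Subgroup G, Cfsg.IsSigmaDecomposition M K U) ∧
      ∀ U : Subgroup G, Cfsg.IsSigmaDecomposition M K U →
        M ≤ Subgroup.normalizer ((U ⊔ Cfsg.sigmaCore M : Subgroup G) : Set G)

/-- frozen statement S1363 -/
def St1363 (G : Type u) [Group G] : Prop :=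
  ∀ M : Subgroup G, IsCoatom M → ∀ K U : Subgroup G, Cfsg.IsSigmaDecomposition M K U → K ≠ ⊥ →
    IsMulCommutative U ∧ ¬ Subgroup.normalizer (U : Set G) ≤ M

/-- frozen statement S1416 -/
def St1416 (G : Type u) [Group G] : Prop :=
  ∀ M : Subgroup G, IsCoatom M → ∀ (p : ℕ) [Fact p.Prime] (A : Subgroup G),
    (A ≤ M ∧ Cfsg.IsElementaryAbelian p A ∧ Nat.card A = p ^ 2) →
    Subgroup.centralizer (A : Set G) ≤ M ∧
      ((∀ A₀ : Subgroup G, A₀ ≤ A → Nat.card A₀ = p →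
          ¬ (Subgroup.normalizer (A₀ : Set G) ≤ M ∧ ∀ L : Subgroup G, IsCoatom L → Subgroup.normalizer (A₀ : Set G) ≤ L → L = M)) →
        p ∈ Cfsg.sigma M ∧ Cfsg.alphaCore M = ⊥ ∧ Group.IsNilpotent (Cfsg.sigmaCore M))

/-- frozen statement S1417 -/
def St1417 (G : Type u) [Group G] : Prop :=
  ∀ M : Subgroup G, IsCoatom M → ∀ (p : ℕ) [Fact p.Prime], p ∈ Cfsg.tau2 M → ∀ A : Subgroup G,
    (A ≤ M ∧ Cfsg.IsElementaryAbelian p A ∧ Nat.card A = p ^ 2) →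
    Group.IsNilpotent (Cfsg.sigmaCore M) ∧
      (∀ P : Sylow p M, IsMulCommutative (P : Subgroup M) ∧
        (A ≤ (P : Subgroup M).map M.subtype →
          (∀ x ∈ (P : Subgroup M).map M.subtype, x ^ p = 1 ↔ x ∈ A) ∧
          ¬ Subgroup.normalizer ((((P : Subgroup M).map M.subtype : Subgroup G)) : Set G) ≤ M)) ∧
      M ≤ Subgroup.normalizer ((Cfsg.sigmaCore M ⊔ A : Subgroup G) : Set G) ∧
      Cfsg.sigmaCore M ⊓ Subgroup.centralizer (A : Set G) = ⊥ ∧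
      (∀ Mstar : Subgroup G, IsCoatom Mstar → Mstar ≠ M → A ≤ Mstar → Cfsg.sigmaCore M ⊓ Mstar = ⊥) ∧
      ∃ A₁ : Subgroup G, A₁ ≤ A ∧ Nat.card A₁ = p ∧ Cfsg.sigmaCore M ⊓ Subgroup.centralizer (A₁ : Set G) = ⊥

/-- frozen statement S1421 -/
def St1421 (G : Type u) [Group G] : Prop :=
  ∀ M : Subgroup G, IsCoatom M → ∀ E : Subgroup G, Cfsg.IsComplIn E (Cfsg.sigmaCore M) M →
    (∀ e ∈ E, e ≠ 1 → (∀ p : ℕ, p.Prime → p ∣ orderOf e → p ∈ Cfsg.tau1 M ∪ Cfsg.tau3 M) →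
      Cfsg.sigmaCore M ⊓ Subgroup.centralizer ({e} : Set G) = ⊥) →
    (∃ A₀ : Subgroup G, A₀ ≤ E ∧ E ≤ Subgroup.normalizer (A₀ : Set G) ∧ IsMulCommutative A₀ ∧
        ∀ x ∈ Cfsg.sigmaCore M, x ≠ 1 → E ⊓ Subgroup.centralizer ({x} : Set G) ≤ A₀) ∧
      ∃ E₀ : Subgroup G, E₀ ≤ E ∧ Monoid.exponent E₀ = Monoid.exponent E ∧
        ∀ e ∈ E₀, e ≠ 1 → Cfsg.sigmaCore M ⊓ Subgroup.centralizer ({e} : Set G) = ⊥

variable {G : Type u} [Group G] [Finite G]

open Cfsg.Agent.H9.BG12 (sigmaCore_le le_normalizer_sigmaCore mem_sigma_of_dvd_card_sigmaCore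
  isComplement'_subgroupOf)

section decomp

variable {M K U : Subgroup G} (hKU : Cfsg.IsSigmaDecomposition M K U)
include hKU

theorem K_le : K ≤ M := hKU.hall.1
theorem U_le : U ≤ M := hKU.compl.1

/-- `K ∩ M_σ = 1` -/
theorem K_inf_sigmaCore : K ⊓ Cfsg.sigmaCore M = ⊥ := by
  rw [← disjoint_iff]
  apply Subgroup.disjoint_of_coprime_natCard
  apply Nat.coprime_of_dvd
  intro k hk hk1 hk2
  have h1 : k ∈ Cfsg.kappa M := hKU.hall.2.1 k hk hk1
  have h2 : k ∈ Cfsg.sigma M := mem_sigma_of_dvd_card_sigmaCore hk hk2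
  exact h1.2.2.1 h2

/-- `|M : K M_σ| = |U|` -/
theorem relIndex_sup_eq_card : (K ⊔ Cfsg.sigmaCore M).relIndex M = Nat.card U := by
  have hc := isComplement'_subgroupOf hKU.compl
  have h1 := hc.card_mul_card
  have h2 := ((K ⊔ Cfsg.sigmaCore M).subgroupOf M).index_mul_card
  have h3 : Nat.card (U.subgroupOf M) = Nat.card U :=
    Nat.card_congr (Subgroup.subgroupOfEquivOfLe hKU.compl.1).toEquiv
  have h4 : 0 < Nat.card ((K ⊔ Cfsg.sigmaCore M).subgroupOf M) := Nat.card_pos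
  unfold Subgroup.relIndex
  rw [← h3]
  nlinarith [h1, h2]

/-- the primes dividing `|U|` lie outside `σ(M)` (given that `M_σ` is a Hall subgroup) -/
theorem not_mem_sigma_of_dvd_card_U (h1350 : St1350 G) (hM : IsCoatom M) {p : ℕ} (hp : p.Prime)
    (hpU : p ∣ Nat.card U) : p ∉ Cfsg.sigma M := by
  intro hpσ
  obtain ⟨⟨hle, -, hidx⟩, -, -⟩ := h1350 M hM
  apply hidx p hp hpσ
  have h1 := Subgroup.relIndex_mul_relIndex (Cfsg.sigmaCore M) (K ⊔ Cfsg.sigmaCore M) M le_sup_right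
    hKU.compl.2.1
  rw [← h1, relIndex_sup_eq_card hKU]
  exact Dvd.dvd.mul_left hpU _

/-- the primes dividing `|U|` lie outside `κ(M)` -/
theorem not_mem_kappa_of_dvd_card_U {p : ℕ} (hp : p.Prime)
    (hpU : p ∣ Nat.card U) : p ∉ Cfsg.kappa M := by
  intro hpκ
  apply hKU.hall.2.2 p hp hpκ
  have h1 := Subgroup.relIndex_mul_relIndex K (K ⊔ Cfsg.sigmaCore M) M le_sup_left
    hKU.compl.2.1
  rw [← h1, relIndex_sup_eq_card hKU]
  exact Dvd.dvd.mul_left hpU _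

/-- `U K` is a complement of `M_σ` in `M` -/
theorem complIn_sup : Cfsg.IsComplIn (U ⊔ K) (Cfsg.sigmaCore M) M := by
  obtain ⟨hUM, hKM', hUK, hmul⟩ := hKU.compl
  have hKM : K ≤ M := hKU.hall.1
  have hmem := fun x => Cfsg.Agent.Helper7.mem_sup_of_le_normalizer (A := U) (B := K) hKU.normal (x := x)
  have hKσ : K ≤ normalizer (Cfsg.sigmaCore M : Set G) := hKM.trans (le_normalizer_sigmaCore M)
  have hmem2 := fun x => Cfsg.Agent.Helper7.mem_sup_of_le_normalizer (A := Cfsg.sigmaCore M) (B := K)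
    hKσ (x := x)
  refine ⟨sup_le hUM hKM, sigmaCore_le M, ?_, ?_⟩
  · rw [eq_bot_iff]
    rintro x ⟨hx1, hx2⟩
    have hx1' : x ∈ U ⊔ K := hx1
    have hx2' : x ∈ Cfsg.sigmaCore M := hx2
    clear hx1 hx2
    rw [hmem] at hx1'
    obtain ⟨a, ha, b, hb, rfl⟩ := hx1'
    have ha' : a ∈ K ⊔ Cfsg.sigmaCore M := by
      have : a = (a * b) * b⁻¹ := by group
      rw [this]
      exact Subgroup.mul_mem _ ((le_sup_right : Cfsg.sigmaCore M ≤ _) hx2')
        ((le_sup_left : K ≤ _) (Subgroup.inv_mem _ hb))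
    have ha1 : a = 1 := by
      have : a ∈ U ⊓ (K ⊔ Cfsg.sigmaCore M) := ⟨ha, ha'⟩
      rwa [hUK, Subgroup.mem_bot] at this
    rw [ha1, one_mul] at hx2' ⊢
    have : b ∈ K ⊓ Cfsg.sigmaCore M := ⟨hb, hx2'⟩
    rwa [K_inf_sigmaCore hKU, Subgroup.mem_bot] at this
  · intro m hm
    obtain ⟨a, ha, b, hb, rfl⟩ := hmul m hm
    rw [sup_comm, hmem2] at hb
    obtain ⟨s, hs, k, hk, rfl⟩ := hb
    refine ⟨a * k, ?_, k⁻¹ * s * k, ?_, by group⟩
    · exact Subgroup.mul_mem _ ((le_sup_left : U ≤ _) ha) ((le_sup_right : K ≤ _) hk)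
    · have hk' : k⁻¹ ∈ normalizer (Cfsg.sigmaCore M : Set G) := hKσ (Subgroup.inv_mem _ hk)
      have := (Subgroup.mem_normalizer_iff.mp hk' s).mp hs
      simpa using this

end decomp

end Cfsg.Agent.Helper18.BG16B
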