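import Cfsg.Agent.Helper18.Dickson10

/-! Dickson's theorem for `SL₂(q)`, `q` odd: a subgroup with more than one Sylow `p`-subgroup
contains `SL₂(p)`. -/

set_option autoImplicit false

open Polynomial

namespace Cfsg.Agent.Helper18.Dickson

theorem exists_root_quadratic_ext {F : Type*} [Field F] [Finite F] (p : ℕ) [Fact p.Prime]
    [CharP F p] (t : F) : ∃ μ : FiniteField.Extension F p 2,
      μ ^ 2 - algebraMap F (FiniteField.Extension F p 2) t * μ + 1 = 0 := by
  classical
  set E := FiniteField.Extension F p 2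
  let f : F[X] := X ^ 2 - C t * X + 1
  have hlt : (-(C t) * X + 1 : F[X]).degree < ((2 : ℕ) : WithBot ℕ) := by
    apply lt_of_le_of_lt (degree_add_le _ _)
    rw [max_lt_iff]
    constructor
    · apply lt_of_le_of_lt (degree_mul_le _ _)
      rw [← C_neg]
      calc (C (-t)).degree + (X : F[X]).degree ≤ 0 + 1 := add_le_add degree_C_le degree_X_le
        _ < ((2 : ℕ) : WithBot ℕ) := by norm_num
    · rw [degree_one]; norm_num
  have hfe : f = X ^ 2 + (-(C t) * X + 1) := by simp only [f]; ring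
  have hfm : f.Monic := by
    rw [hfe]
    exact Polynomial.monic_X_pow_add hlt
  have hfd : f.natDegree = 2 := by
    rw [hfe]
    apply natDegree_eq_of_degree_eq_some
    rw [degree_add_eq_left_of_degree_lt (by rw [degree_X_pow]; exact hlt), degree_X_pow]
  have heval : ∀ μ : E, eval μ (f.map (algebraMap F E)) = μ ^ 2 - algebraMap F E t * μ + 1 := by
    intro μ
    simp [f]
  by_cases hirr : Irreducible f
  · have h1 : f ∣ X ^ (Nat.card F) ^ 2 - X :=
      (hirr.natDegree_dvd_iff_dvd_X_pow_card_pow_sub_X (n := 2)).1 (by rw [hfd])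
    have h2 : (f.map (algebraMap F E)) ∣ (X ^ (Nat.card F) ^ 2 - X : F[X]).map (algebraMap F E) :=
      Polynomial.map_dvd _ h1
    have h3 : Splits ((X ^ (Nat.card F) ^ 2 - X : F[X]).map (algebraMap F E)) :=
      IsSplittingField.splits E (X ^ (Nat.card F) ^ 2 - X : F[X])
    have h4 : (X ^ (Nat.card F) ^ 2 - X : F[X]).map (algebraMap F E) ≠ 0 := by
      apply Polynomial.map_ne_zero
      exact FiniteField.X_pow_card_pow_sub_X_ne_zero F (by norm_num) Finite.one_lt_card
    have h5 : Splits (f.map (algebraMap F E)) := Splits.of_dvd h3 h4 h2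
    have h6 : (f.map (algebraMap F E)).degree ≠ 0 := by
      rw [degree_map, degree_eq_natDegree hfm.ne_zero, hfd]
      norm_num
    obtain ⟨μ, hμ⟩ := h5.exists_eval_eq_zero h6
    exact ⟨μ, by rw [← heval]; exact hμ⟩
  · have h1 : f.roots ≠ 0 := by
      intro h0
      exact hirr ((hfm.irreducible_iff_roots_eq_zero_of_degree_le_three (by rw [hfd])
        (by rw [hfd]; norm_num)).2 h0)
    obtain ⟨r, hr⟩ := Multiset.exists_mem_of_ne_zero h1
    have hr' : f.IsRoot r := (mem_roots hfm.ne_zero).1 hr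
    refine ⟨algebraMap F E r, ?_⟩
    rw [← heval, eval_map_algebraMap, aeval_algebraMap_apply_eq_algebraMap_eval, hr'.eq_zero,
      map_zero]

/-- **Dickson.** A subgroup of `SL₂(F)` (`F` finite of odd characteristic `p`) with more than one
Sylow `p`-subgroup contains a copy of `SL₂(p)`. Version for an injective hom from a finite
group. -/
theorem exists_sl2p_of_hom {F : Type*} [Field F] [Finite F] (p : ℕ) [Fact p.Prime] [CharP F p]
    (hp : p ≠ 2) {G : Type*} [Group G] [Finite G]
    (ψ : G →* Matrix.SpecialLinearGroup (Fin 2) F) (hinj : Function.Injective ψ)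
    (P Q : Sylow p G) (hPQ : P ≠ Q) :
    ∃ K : Subgroup G, Nonempty (K ≃* Matrix.SpecialLinearGroup (Fin 2) (ZMod p)) := by
  let E := FiniteField.Extension F p 2
  have : CharP E p := charP_of_injective_algebraMap (algebraMap F E).injective p
  let φ : Matrix.SpecialLinearGroup (Fin 2) F →* Matrix.SpecialLinearGroup (Fin 2) E :=
    Matrix.SpecialLinearGroup.map (algebraMap F E)
  have hφ : ∀ (g : Matrix.SpecialLinearGroup (Fin 2) F) (i j : Fin 2),
      ((φ g : Matrix.SpecialLinearGroup (Fin 2) E) : Matrix (Fin 2) (Fin 2) E) i j =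
        algebraMap F E ((g : Matrix (Fin 2) (Fin 2) F) i j) := by
    intro g i j
    show ((Matrix.SpecialLinearGroup.map (algebraMap F E) g :
      Matrix.SpecialLinearGroup (Fin 2) E) : Matrix (Fin 2) (Fin 2) E) i j = _
    rw [Matrix.SpecialLinearGroup.map_apply_coe, RingHom.mapMatrix_apply, Matrix.map_apply]
  have hφinj : Function.Injective φ := by
    intro g h hgh
    apply Subtype.ext
    ext i j
    have := congrArg (fun x : Matrix.SpecialLinearGroup (Fin 2) E =>
      (x : Matrix (Fin 2) (Fin 2) E) i j) hgh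
    simp only [hφ] at this
    exact (algebraMap F E).injective this
  apply main_of_hom (E := E) p hp (φ.comp ψ) (hφinj.comp hinj) _ P Q hPQ
  intro x
  obtain ⟨μ, hμ⟩ := exists_root_quadratic_ext p
    (((ψ x : Matrix.SpecialLinearGroup (Fin 2) F) : Matrix (Fin 2) (Fin 2) F) 0 0 +
      ((ψ x : Matrix.SpecialLinearGroup (Fin 2) F) : Matrix (Fin 2) (Fin 2) F) 1 1)
  refine ⟨μ, ?_⟩
  unfold tr
  rw [MonoidHom.comp_apply, hφ, hφ, ← map_add]
  exact hμ

/-- **Dickson.** A subgroup of `SL₂(F)` with more than one Sylow `p`-subgroup contains a copy of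
`SL₂(p)`. -/
theorem exists_sl2p_subgroup {F : Type*} [Field F] [Finite F] (p : ℕ) [Fact p.Prime] [CharP F p]
    (hp : p ≠ 2) (H : Subgroup (Matrix.SpecialLinearGroup (Fin 2) F))
    (hH : 1 < Nat.card (Sylow p H)) :
    ∃ K : Subgroup (Matrix.SpecialLinearGroup (Fin 2) F), K ≤ H ∧
      Nonempty (K ≃* Matrix.SpecialLinearGroup (Fin 2) (ZMod p)) := by
  have hnt : Nontrivial (Sylow p H) := Finite.one_lt_card_iff_nontrivial.1 hH
  obtain ⟨P, Q, hPQ⟩ := exists_pair_ne (Sylow p H)
  obtain ⟨K, ⟨e⟩⟩ := exists_sl2p_of_hom p hp H.subtype H.subtype_injective P Q hPQ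
  refine ⟨K.map H.subtype, ?_, ⟨?_⟩⟩
  · rintro x ⟨y, _, rfl⟩
    exact y.2
  · exact (K.equivMapOfInjective H.subtype H.subtype_injective).symm.trans e

end Cfsg.Agent.Helper18.Dickson
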