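import Mathlib
import Cfsg.Agent.Helper23.HallHigman

/-! Dual Hall–Higman Lemma 1.2.3: in a finite `p`-solvable group with `O_p(G) = 1`,
`C_G(O_{p'}(G)) ≤ O_{p'}(G)`. -/

set_option autoImplicit false

namespace Cfsg.Agent.Helper18.QuadPS

open Subgroup Cfsg.Agent.Helper23

/-- a central `p'`-subgroup `Z` of `M` with `|M| = |Z| p^m`: every Sylow `p`-subgroup is normal -/
theorem sylow_normal_of_central_coprime {M : Type*} [Group M] [Finite M] {p : ℕ}
    [hp : Fact p.Prime] (Z : Subgroup M) (hZc : Z ≤ center M) (hZ : (Nat.card Z).Coprime p)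
    (m : ℕ) (hM : Nat.card M = Nat.card Z * p ^ m) (S : Sylow p M) :
    (S : Subgroup M).Normal := by
  have hS : Nat.card (S : Subgroup M) = p ^ m := by
    rw [Sylow.card_eq_multiplicity, hM]
    congr 1
    rw [Nat.factorization_mul (Nat.card_pos.ne') (pow_ne_zero _ hp.out.ne_zero)]
    simp only [Finsupp.coe_add, Pi.add_apply]
    rw [Nat.factorization_eq_zero_of_not_dvd
      ((Nat.Prime.coprime_iff_not_dvd hp.out).mp hZ.symm), zero_add,
      hp.out.factorization_pow]
    simp
  have hle : (S : Subgroup M) ⊔ Z ≤ normalizer ((S : Subgroup M) : Set M) := by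
    apply sup_le le_normalizer
    intro z hz
    rw [mem_normalizer_iff]
    intro h
    have hzc := hZc hz
    rw [mem_center_iff] at hzc
    have : z * h * z⁻¹ = h := by
      rw [← hzc h, mul_inv_cancel_right]
    rw [this]
  have hd1 : p ^ m ∣ Nat.card ((S : Subgroup M) ⊔ Z : Subgroup M) := by
    rw [← hS]; exact Subgroup.card_dvd_of_le le_sup_left
  have hd2 : Nat.card Z ∣ Nat.card ((S : Subgroup M) ⊔ Z : Subgroup M) :=
    Subgroup.card_dvd_of_le le_sup_right
  have hcop : (Nat.card Z).Coprime (p ^ m) := Nat.Coprime.pow_right m hZ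
  have hd : Nat.card M ∣ Nat.card ((S : Subgroup M) ⊔ Z : Subgroup M) := by
    rw [hM]; exact Nat.Coprime.mul_dvd_of_dvd_of_dvd hcop hd2 hd1
  have htop : (S : Subgroup M) ⊔ Z = ⊤ := by
    apply Subgroup.eq_top_of_le_card
    exact Nat.le_of_dvd Nat.card_pos hd
  rw [htop, top_le_iff] at hle
  exact normalizer_eq_top_iff.mp hle

/-- **Dual Hall–Higman Lemma 1.2.3**: in a finite `p`-solvable group with `O_p(G) = 1`,
`C_G(O_{p'}(G)) ≤ O_{p'}(G)`. -/
theorem centralizer_pPrimeCore_le_of_isPSolvable {G : Type*} [Group G] [Finite G] {p : ℕ}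
    [hp : Fact p.Prime] (hsolv : Cfsg.IsPSolvable p G) (hO : Cfsg.pCore p G = ⊥) :
    centralizer (Cfsg.pPrimeCore p G : Set G) ≤ Cfsg.pPrimeCore p G := by
  by_contra hne
  set P := Cfsg.pPrimeCore p G with hP
  set C := centralizer (P : Set G) with hC
  have hPn : P.Normal := inferInstance
  have hCn : C.Normal := inferInstance
  have hPp : (Nat.card P).Coprime p := pPrimeCore_card_coprime p G
  set Z := P ⊓ C with hZ
  have hZn : Z.Normal := inferInstance
  have hZC : Z ≤ C := inf_le_right
  have hZp : (Nat.card Z).Coprime p :=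
    Nat.Coprime.coprime_dvd_left (Subgroup.card_dvd_of_le inf_le_left) hPp
  have hZcn : (Z.subgroupOf C).Normal := inferInstance
  have hY : Cfsg.IsPSolvable p (↥C ⧸ Z.subgroupOf C) :=
    Cfsg.Agent.Lead.isPSolvable_quotient
      (Cfsg.Agent.Helper21.PSolv.isPSolvable_subgroup hp.out hsolv C) (Z.subgroupOf C)
  have hYnt : Nontrivial (↥C ⧸ Z.subgroupOf C) := by
    obtain ⟨c, hcC, hcP⟩ := SetLike.not_le_iff_exists.mp hne
    refine ⟨⟨(QuotientGroup.mk' (Z.subgroupOf C)) ⟨c, hcC⟩, 1, ?_⟩⟩
    intro h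
    rw [QuotientGroup.mk'_apply, QuotientGroup.eq_one_iff, mem_subgroupOf] at h
    exact hcP h.1
  obtain ⟨Mb, hMbn, hMbne, hMb⟩ := Cfsg.Agent.Lead.exists_normal_of_isPSolvable hY
  set Mc := Mb.comap (QuotientGroup.mk' (Z.subgroupOf C)) with hMc
  have hMcn : Mc.Normal := inferInstance
  have hMccard : Nat.card Mc = Nat.card (Z.subgroupOf C) * Nat.card Mb := card_comap_mk' _ _
  have hZccard : Nat.card (Z.subgroupOf C) = Nat.card Z :=
    Nat.card_congr (Subgroup.subgroupOfEquivOfLe hZC).toEquiv
  set M := Mc.map C.subtype with hM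
  have hMC : M ≤ C := map_subtype_le _
  have hMcard : Nat.card M = Nat.card Z * Nat.card Mb := by
    rw [hM, Subgroup.card_map_of_injective C.subtype_injective, hMccard, hZccard]
  have hMsub : M.IsSubnormal :=
    Subgroup.IsSubnormal.trans' (Subgroup.Normal.isSubnormal hMcn) (Subgroup.Normal.isSubnormal hCn)
  have hZM : Z ≤ M := by
    intro z hz
    exact ⟨⟨z, hZC hz⟩, le_comap_mk' _ _ (mem_subgroupOf.mpr hz), rfl⟩
  have hMbcard : Nat.card Mb ≠ 1 := fun h => hMbne (Subgroup.card_eq_one.mp h)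
  rcases hMb with ⟨m, hm⟩ | hcop
  · -- `Z` is a central `p'`-subgroup of `M` of `p`-power index: the Sylow `p`-subgroup is normal
    have hZmc : Z.subgroupOf M ≤ center M := by
      intro z hz
      rw [mem_center_iff]
      intro x
      have hz' : (z : G) ∈ Z := hz
      have hx : (x : G) ∈ C := hMC x.2
      have := (mem_centralizer_iff.mp hx) (z : G) hz'.1
      exact Subtype.ext this.symm
    have hZmcard : Nat.card (Z.subgroupOf M) = Nat.card Z :=
      Nat.card_congr (Subgroup.subgroupOfEquivOfLe hZM).toEquiv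
    obtain ⟨S⟩ : Nonempty (Sylow p M) := inferInstance
    have hSn : (S : Subgroup M).Normal :=
      sylow_normal_of_central_coprime (Z.subgroupOf M) hZmc (by rw [hZmcard]; exact hZp) m
        (by rw [hZmcard, hMcard, hm]) S
    have hSsub : ((S : Subgroup M).map M.subtype).IsSubnormal :=
      Subgroup.IsSubnormal.trans' (Subgroup.Normal.isSubnormal hSn) hMsub
    have hSp : IsPGroup p ((S : Subgroup M).map M.subtype) := S.2.map _
    have hSle := Cfsg.Agent.Helper14.le_pCore_of_isSubnormal hSsub hSp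
    rw [hO, le_bot_iff] at hSle
    have hScard : Nat.card (S : Subgroup M) = 1 := by
      rw [← Subgroup.card_map_of_injective M.subtype_injective, hSle, Subgroup.card_bot]
    -- so `p ∤ |M|`
    have hnd : ¬ p ∣ Nat.card M := by
      intro hd
      have := S.dvd_card_of_dvd_card hd
      rw [hScard] at this
      exact hp.out.one_lt.ne' (Nat.dvd_one.mp this)
    have hm0 : m = 0 := by
      by_contra hm0
      apply hnd
      rw [hMcard, hm]
      exact Dvd.dvd.mul_left (dvd_pow_self p hm0) _
    rw [hm0, pow_zero] at hm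
    exact hMbcard hm
  · -- `M` is a subnormal `p'`-subgroup, hence inside `P ⊓ C = Z`
    have hMp : (Nat.card M).Coprime p := by
      rw [hMcard]; exact Nat.Coprime.mul_left hZp hcop
    have hMP : M ≤ P := Cfsg.Agent.Helper7.subnormal_coprime_le_pPrimeCore hMsub hMp
    have hMZ : M ≤ Z := le_inf hMP hMC
    have h1 : Nat.card M = Nat.card Z := by
      rw [le_antisymm hMZ hZM]
    rw [hMcard] at h1
    have hZpos : 0 < Nat.card Z := Nat.card_pos
    have : Nat.card Mb = 1 := by
      have h2 : Nat.card Z * Nat.card Mb = Nat.card Z * 1 := by rw [h1, mul_one]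
      exact Nat.eq_of_mul_eq_mul_left hZpos h2
    exact hMbcard this

end Cfsg.Agent.Helper18.QuadPS
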