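import Mathlib
import Cfsg.Agent.Helper12.BorelUnip
import Cfsg.Agent.Helper12.BlockSL2
import Cfsg.Agent.Helper12.SL2OrderFour

/-! `p`-elements of `SL₂(F)` (char `p` odd) normalising `p'`-subgroups: the key commutation lemma. -/

set_option autoImplicit false

namespace Cfsg.Agent.Helper18.SL2PNorm

open Cfsg Cfsg.Agent.Helper12

variable {F : Type*} [Field F]

local notation "S2" => Matrix.SpecialLinearGroup (Fin 2) F
local notation "M2" => Matrix (Fin 2) (Fin 2) F

theorem uMat_inv (c : F) : (uMat c)⁻¹ = uMat (-c) := by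
  rw [inv_eq_iff_mul_eq_one, uMat_mul, add_neg_cancel, uMat_zero]

theorem uMat_eq_one_iff (c : F) : uMat c = 1 ↔ c = 0 := by
  constructor
  · intro h
    have := congrArg (fun g : S2 => (g : M2) 0 1) h
    simpa [uMat_coe] using this
  · rintro rfl; exact uMat_zero

/-- matrix form of the key lemma -/
theorem entries_of_commute_conj (h2 : (2 : F) ≠ 0) (c : F) (hc : c ≠ 0) (t : S2)
    (h : Commute t (uMat c * t * (uMat c)⁻¹)) :
    (t : M2) 1 0 = 0 ∧ (t : M2) 0 0 = (t : M2) 1 1 := by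
  rw [uMat_inv] at h
  have h' : (t : M2) * ((uMat c : S2) : M2) * (t : M2) * ((uMat (-c) : S2) : M2)
      = ((uMat c : S2) : M2) * (t : M2) * ((uMat (-c) : S2) : M2) * (t : M2) := by
    have := congrArg (fun g : S2 => (g : M2)) h.eq
    simp only [Matrix.SpecialLinearGroup.coe_mul] at this
    simpa [Matrix.mul_assoc] using this
  rw [uMat_coe, uMat_coe, Matrix.eta_fin_two (t : M2)] at h'
  simp only [Matrix.mul_fin_two] at h'
  have e10 := congrFun (congrFun h' 1) 0
  have e01 := congrFun (congrFun h' 0) 1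
  simp only [Matrix.of_apply, Matrix.cons_val', Matrix.cons_val_zero, Matrix.cons_val_one,
    Matrix.empty_val', Matrix.cons_val_fin_one] at e10 e01
  have hz : (t : M2) 1 0 = 0 := by
    have : (2 * c) * ((t : M2) 1 0 * (t : M2) 1 0) = 0 := by linear_combination e10
    rcases mul_eq_zero.1 this with h0 | h0
    · exact absurd h0 (mul_ne_zero h2 hc)
    · exact mul_self_eq_zero.1 h0
  refine ⟨hz, ?_⟩
  rw [hz] at e01
  have : c * (((t : M2) 0 0 - (t : M2) 1 1) * ((t : M2) 0 0 - (t : M2) 1 1)) = 0 := by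
    linear_combination (-1 : F) * e01
  rcases mul_eq_zero.1 this with h0 | h0
  · exact absurd h0 hc
  · exact sub_eq_zero.1 (mul_self_eq_zero.1 h0)

theorem two_ne_zero_of_char (p : ℕ) [Fact p.Prime] [CharP F p] (hp : p ≠ 2) : (2 : F) ≠ 0 := by
  have hpp : p.Prime := Fact.out
  intro h
  have h' : ((2 : ℕ) : F) = 0 := by exact_mod_cast h
  have := (CharP.cast_eq_zero_iff F p 2).1 h'
  exact hp ((Nat.prime_dvd_prime_iff_eq hpp Nat.prime_two).1 this)

/-- **Key lemma.** If `a ≠ 1` is a `p`-element of `SL₂(F)` (char `p` odd) and `s` is a `p'`-element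
commuting with its conjugate `a s a⁻¹`, then `s = ±1`. -/
theorem eq_one_or_neg_one_of_commute_conj [Fintype F] (p : ℕ) [Fact p.Prime] [CharP F p]
    (hp : p ≠ 2) (a : S2) (ha : IsPGroup p (Subgroup.zpowers a)) (ha1 : a ≠ 1) (s : S2) (m : ℕ)
    (hm : s ^ m = 1) (hmp : m.Coprime p) (hcomm : Commute s (a * s * a⁻¹)) :
    s = 1 ∨ s = -1 := by
  classical
  have hpp : p.Prime := Fact.out
  have h2 : (2 : F) ≠ 0 := two_ne_zero_of_char p hp
  obtain ⟨P, hP⟩ := ha.exists_le_sylow
  obtain ⟨g, hg⟩ := exists_conj_sylow_eq_unipSL p P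
  have hga : g * a * g⁻¹ ∈ unipSL F := by
    rw [← hg]; exact ⟨a, hP (Subgroup.mem_zpowers a), rfl⟩
  obtain ⟨c, hc⟩ : ∃ c, c = ((g * a * g⁻¹ : S2) : M2) 0 1 := ⟨_, rfl⟩
  have hac : g * a * g⁻¹ = uMat c := by rw [hc]; exact eq_uMat_of_mem hga
  have hc0 : c ≠ 0 := by
    intro h0
    rw [h0, uMat_zero] at hac
    apply ha1
    have : a = g⁻¹ * (g * a * g⁻¹) * g := by group
    rw [this, hac]; group
  obtain ⟨t, ht⟩ : ∃ t, t = g * s * g⁻¹ := ⟨_, rfl⟩
  have hct : Commute t (uMat c * t * (uMat c)⁻¹) := by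
    rw [← hac, ht]
    have e1 : g * a * g⁻¹ * (g * s * g⁻¹) * (g * a * g⁻¹)⁻¹ = g * (a * s * a⁻¹) * g⁻¹ := by group
    rw [e1]
    show g * s * g⁻¹ * (g * (a * s * a⁻¹) * g⁻¹) = g * (a * s * a⁻¹) * g⁻¹ * (g * s * g⁻¹)
    have e := hcomm.eq
    calc g * s * g⁻¹ * (g * (a * s * a⁻¹) * g⁻¹) = g * (s * (a * s * a⁻¹)) * g⁻¹ := by group
      _ = g * ((a * s * a⁻¹) * s) * g⁻¹ := by rw [e]
      _ = g * (a * s * a⁻¹) * g⁻¹ * (g * s * g⁻¹) := by group
  obtain ⟨hz, hxw⟩ := entries_of_commute_conj h2 c hc0 t hct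
  have hdet := t.2
  rw [Matrix.det_fin_two, hz, ← hxw] at hdet
  have hx : (t : M2) 0 0 = 1 ∨ (t : M2) 0 0 = -1 := by
    have : ((t : M2) 0 0 - 1) * ((t : M2) 0 0 + 1) = 0 := by linear_combination hdet
    rcases mul_eq_zero.1 this with h | h
    · left; linear_combination h
    · right; linear_combination h
  have hx0 : (t : M2) 0 0 ≠ 0 := by
    rcases hx with h | h <;> rw [h] <;> simp
  have htt : t * t = uMat (2 * (t : M2) 0 0 * (t : M2) 0 1) := by
    apply Subtype.ext
    rw [Matrix.SpecialLinearGroup.coe_mul, uMat_coe]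
    ext i j
    fin_cases i <;> fin_cases j
    · simp [Matrix.mul_apply, Fin.sum_univ_two, hz]; linear_combination hdet
    · simp [Matrix.mul_apply, Fin.sum_univ_two, ← hxw]; ring
    · simp [Matrix.mul_apply, Fin.sum_univ_two, hz]
    · simp [Matrix.mul_apply, Fin.sum_univ_two, hz, ← hxw]; linear_combination hdet
  have htm : t ^ m = 1 := by rw [ht, conj_pow, hm]; group
  have httm : (t * t) ^ m = 1 := by rw [(Commute.refl t).mul_pow, htm, one_mul]
  rw [htt, uMat_pow, uMat_eq_one_iff] at httm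
  have hm0 : (m : F) ≠ 0 := by
    intro h
    have := (CharP.cast_eq_zero_iff F p m).1 h
    exact (Nat.Prime.coprime_iff_not_dvd hpp).1 hmp.symm this
  have hy : (t : M2) 0 1 = 0 := by
    rcases mul_eq_zero.1 httm with h | h
    · exact absurd h hm0
    · rcases mul_eq_zero.1 h with h | h
      · rcases mul_eq_zero.1 h with h | h
        · exact absurd h h2
        · exact absurd h hx0
      · exact h
  have hs : s = g⁻¹ * t * g := by rw [ht]; group
  rcases hx with h | h
  · left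
    have : t = 1 := by
      apply Subtype.ext
      rw [Matrix.SpecialLinearGroup.coe_one, Matrix.eta_fin_two (t : M2), hz, hy, ← hxw, h]
      exact Matrix.one_fin_two.symm
    rw [hs, this]; group
  · right
    have : t = -1 := by
      apply Subtype.ext
      rw [sl2_neg_one_coe, Matrix.eta_fin_two (t : M2), hz, hy, ← hxw, h, Matrix.one_fin_two]
      ext i j
      fin_cases i <;> fin_cases j <;> simp
    rw [hs, this]
    have hcen := sl2_neg_one_mem_center (F := F)
    rw [Subgroup.mem_center_iff] at hcen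
    rw [mul_assoc, ← hcen g]; group

end Cfsg.Agent.Helper18.SL2PNorm
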