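import Mathlib
import Cfsg.Agent.Helper18.SL2PNorm1
import Cfsg.Agent.Lead.CoprimeSylow
import Cfsg.Agent.Helper12.RedundantSL2B

/-! A `p'`-subgroup of `SL₂(F)` normalised by a nontrivial `p`-element is a `2`-group. -/

set_option autoImplicit false

namespace Cfsg.Agent.Helper18.SL2PNorm

open Cfsg Cfsg.Agent.Helper12 Subgroup

variable {F : Type*} [Field F]

local notation "S2" => Matrix.SpecialLinearGroup (Fin 2) F
local notation "M2" => Matrix (Fin 2) (Fin 2) F

theorem one_ne_neg_one (h2 : (2 : F) ≠ 0) : (1 : S2) ≠ -1 := by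
  intro h
  have := congrArg (fun g : S2 => (g : M2) 0 0) h
  simp only [Matrix.SpecialLinearGroup.coe_one, sl2_neg_one_coe, Matrix.one_apply_eq,
    Matrix.neg_apply] at this
  apply h2
  linear_combination this

/-- elements of an `a`-invariant commutative `p'`-subgroup are `±1` -/
theorem mem_pm_one_of_comm [Fintype F] (p : ℕ) [Fact p.Prime] [CharP F p]
    (hp : p ≠ 2) (a : S2) (ha : IsPGroup p (zpowers a)) (ha1 : a ≠ 1) (Q : Subgroup S2)
    (hQ : (Nat.card Q).Coprime p) (haQ : a ∈ normalizer (Q : Set S2))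
    (hcomm : ∀ x ∈ Q, ∀ y ∈ Q, x * y = y * x) (s : S2) (hs : s ∈ Q) : s = 1 ∨ s = -1 := by
  apply eq_one_or_neg_one_of_commute_conj p hp a ha ha1 s (Nat.card Q) ?_ hQ ?_
  · have h1 : ((⟨s, hs⟩ : Q) ^ Nat.card Q : Q) = 1 := pow_card_eq_one'
    simpa only [SubmonoidClass.coe_pow, OneMemClass.coe_one] using congrArg Subtype.val h1
  · exact hcomm s hs _ ((mem_normalizer_iff.1 haQ s).1 hs)

theorem not_dvd_card_of_odd [Fintype F] (p : ℕ) [Fact p.Prime] [CharP F p]
    (hp : p ≠ 2) (a : S2) (ha : IsPGroup p (zpowers a)) (ha1 : a ≠ 1) (R : Subgroup S2)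
    (hR : (Nat.card R).Coprime p) (haR : a ∈ normalizer (R : Set S2))
    (r : ℕ) [hr : Fact r.Prime] (hr2 : r ≠ 2) : ¬ r ∣ Nat.card R := by
  classical
  intro hdvd
  have h2 : (2 : F) ≠ 0 := two_ne_zero_of_char p hp
  have hAK : zpowers a ≤ normalizer (R : Set S2) := (zpowers_le).2 haR
  have hcop : (Nat.card (zpowers a)).Coprime (Nat.card R) := by
    obtain ⟨k, hk⟩ := IsPGroup.iff_card.1 ha
    rw [hk]
    exact Nat.Coprime.pow_left k hR.symm
  obtain ⟨P, hP⟩ := Cfsg.Agent.Lead.coprime_exists_invariant_sylow (zpowers a) R hAK hcop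
    (Or.inl inferInstance) r
  obtain ⟨Q, hQdef⟩ : ∃ Q : Subgroup S2, Q = (P : Subgroup R).map R.subtype := ⟨_, rfl⟩
  rw [← hQdef] at hP
  have hQR : Q ≤ R := by rw [hQdef]; exact map_subtype_le _
  have hQr : IsPGroup r Q := by rw [hQdef]; exact P.isPGroup'.map _
  have hcardQ : (Nat.card Q).Coprime p :=
    Nat.Coprime.coprime_dvd_left (Subgroup.card_dvd_of_le hQR) hR
  have haQ : a ∈ normalizer (Q : Set S2) := hP (mem_zpowers a)
  have hPne : (P : Subgroup R) ≠ ⊥ := P.ne_bot_of_dvd_card hdvd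
  have : Nontrivial (P : Subgroup R) := (Subgroup.nontrivial_iff_ne_bot _).2 hPne
  have := P.isPGroup'.center_nontrivial
  obtain ⟨z, hz⟩ := exists_ne (1 : center (P : Subgroup R))
  obtain ⟨z', hz'⟩ : ∃ z' : S2, z' = (((z : (P : Subgroup R)) : R) : S2) := ⟨_, rfl⟩
  have hz'1 : z' ≠ 1 := by
    intro h
    apply hz
    apply Subtype.ext
    apply Subtype.ext
    apply Subtype.ext
    rw [hz'] at h
    exact h
  have hodd : ∀ k : ℕ, Nat.Coprime 2 (r ^ k) := fun k =>
    Nat.Coprime.pow_right k ((Nat.coprime_primes Nat.prime_two hr.out).2 (Ne.symm hr2))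
  have hz'ns : ¬ IsScalar2 (z' : M2) := by
    intro hsc
    have hsq := sl2_sq_eq_one_of_isScalar2 z' hsc
    obtain ⟨k, hk⟩ := P.isPGroup' (z : (P : Subgroup R))
    have hk' : z' ^ (r ^ k) = 1 := by
      rw [hz']
      have := congrArg (fun y : (P : Subgroup R) => ((y : R) : S2)) hk
      simpa using this
    have hd : orderOf z' ∣ Nat.gcd 2 (r ^ k) :=
      Nat.dvd_gcd (orderOf_dvd_of_pow_eq_one hsq) (orderOf_dvd_of_pow_eq_one hk')
    rw [(hodd k)] at hd
    exact hz'1 (orderOf_eq_one_iff.1 (Nat.dvd_one.1 hd))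
  have hzcomm : ∀ x ∈ Q, x * z' = z' * x := by
    intro x hx
    rw [hQdef] at hx
    obtain ⟨x, hx, rfl⟩ := hx
    have := Subgroup.mem_center_iff.1 z.2 ⟨x, hx⟩
    have := congrArg (fun y : (P : Subgroup R) => ((y : R) : S2)) this
    rw [hz']
    simpa using this
  have hcommQ : ∀ x ∈ Q, ∀ y ∈ Q, x * y = y * x := fun x hx y hy =>
    sl2_comm_of_comm_nonscalar z' hz'ns x y (hzcomm x hx) (hzcomm y hy)
  have hQbot : Q = ⊥ := by
    rw [eq_bot_iff]
    intro s hs
    rcases mem_pm_one_of_comm p hp a ha ha1 Q hcardQ haQ hcommQ s hs with h | h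
    · exact Subgroup.mem_bot.2 h
    · exfalso
      obtain ⟨k, hk⟩ := hQr ⟨s, hs⟩
      have hk' : s ^ (r ^ k) = 1 := by
        have := congrArg Subtype.val hk
        simpa using this
      have hoddk : Odd (r ^ k) := (hr.out.odd_of_ne_two hr2).pow
      rw [h, hoddk.neg_one_pow] at hk'
      exact one_ne_neg_one h2 hk'.symm
  apply hPne
  rw [eq_bot_iff]
  intro x hx
  have hxQ : (x : S2) ∈ Q := by rw [hQdef]; exact ⟨x, hx, rfl⟩
  rw [hQbot] at hxQ
  exact Subgroup.mem_bot.2 (Subtype.ext (Subgroup.mem_bot.1 hxQ))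

theorem isPGroup_two [Fintype F] (p : ℕ) [Fact p.Prime] [CharP F p]
    (hp : p ≠ 2) (a : S2) (ha : IsPGroup p (zpowers a)) (ha1 : a ≠ 1) (R : Subgroup S2)
    (hR : (Nat.card R).Coprime p) (haR : a ∈ normalizer (R : Set S2)) : IsPGroup 2 R := by
  classical
  have : Fact (Nat.Prime 2) := ⟨Nat.prime_two⟩
  have hcard : ∀ d : ℕ, d.Prime → d ∣ Nat.card R → d = 2 := by
    intro d hd hdvd
    by_contra hne
    have : Fact d.Prime := ⟨hd⟩
    exact not_dvd_card_of_odd p hp a ha ha1 R hR haR d hne hdvd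
  have := Nat.eq_prime_pow_of_unique_prime_dvd (Nat.card_pos (α := R)).ne'
    (fun {d} hd hdvd => hcard d hd hdvd)
  exact IsPGroup.of_card this

end Cfsg.Agent.Helper18.SL2PNorm
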