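import Mathlib
import Cfsg.Agent.Helper9.QuatSylowSL23

/-! `Q₈` with an odd-order element `g`, `g ^ 3 = 1`, acting nontrivially: `Q⟨g⟩ ≅ Q₈ ⋊ C₃`. -/

set_option autoImplicit false

namespace Cfsg.Agent.Helper18.SL2PNorm

open Subgroup QuaternionGroup Cfsg.Agent.Helper2.QLift Cfsg.Agent.Helper9

universe u

variable {G : Type u} [Group G] [Finite G] (Q : Subgroup G) (eQ : Q ≃* QuaternionGroup 2)

include eQ in
theorem exists_adapted_hom (g : G) (hgN : g ∈ normalizer (Q : Set G))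
    (hodd : Nat.Coprime (orderOf g) 2) (hgC : g ∉ centralizer (Q : Set G)) :
    ∃ f : QuaternionGroup 2 →* G, Function.Injective f ∧ f.range = Q ∧
      ∀ q, g * f q * g⁻¹ = f (q8Sigma q) := by
  classical
  obtain ⟨x, y, hx, hy, hx2, hyy, hyxy, hgx, hgy⟩ := q8sub_exists_adapted Q eQ g hgN hodd hgC
  have hx4 : x ^ (2 * 2) = 1 := q8sub_pow_four Q eQ hx
  have hox : orderOf x = 2 * 2 := q8sub_orderOf_eq_four Q eQ hx hx2
  have hynz : y ∉ zpowers x := not_mem_zpowers_of_sq_ne x y hyxy hx2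
  obtain ⟨f, hf⟩ : ∃ f, f = quaternionLift 2 x y hx4 hyy hyxy := ⟨_, rfl⟩
  have hfinj : Function.Injective f := by
    rw [hf]; exact quaternionLift_injective 2 x y hx4 hyy hyxy hox hynz
  have hfa : f (a 1) = x := by
    rw [hf, quaternionLift_a]
    have := zp_natCast 2 x hx4 1
    rwa [Nat.cast_one, pow_one] at this
  have hfxa : f (xa 0) = y := by
    rw [hf, quaternionLift_xa, zp_zero, mul_one]
  have hrange : f.range = Q := by
    apply Subgroup.eq_of_le_of_card_ge (by rw [hf]; exact range_le 2 x y hx4 hyy hyxy Q hx hy)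
    rw [q8sub_card Q eQ, ← Nat.card_congr (MonoidHom.ofInjective hfinj).toEquiv,
      Nat.card_eq_fintype_card, QuaternionGroup.card]
  refine ⟨f, hfinj, hrange, ?_⟩
  have h : (MulAut.conj g).toMonoidHom.comp f = f.comp q8Sigma.toMonoidHom := by
    apply quaternion_hom_ext
    · simp only [MonoidHom.coe_comp, MulEquiv.coe_toMonoidHom, Function.comp_apply,
        MulAut.conj_apply, q8Sigma_a]
      rw [hfa, hfxa, hgx]
    · simp only [MonoidHom.coe_comp, MulEquiv.coe_toMonoidHom, Function.comp_apply,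
        MulAut.conj_apply, q8Sigma_xa]
      rw [map_mul, hfa, hfxa, hgy]
  intro q
  exact DFunLike.congr_fun h q

include eQ in
theorem pow_three_mem_centralizer (g : G) (hgN : g ∈ normalizer (Q : Set G))
    (hodd : Nat.Coprime (orderOf g) 2) (hgC : g ∉ centralizer (Q : Set G)) :
    g ^ 3 ∈ centralizer (Q : Set G) := by
  obtain ⟨f, _, hrange, hcompat⟩ := exists_adapted_hom Q eQ g hgN hodd hgC
  rw [mem_centralizer_iff]
  intro u hu
  have hu' : u ∈ f.range := by rw [hrange]; exact hu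
  obtain ⟨q, rfl⟩ := hu'
  have := q8c3_compat_pow f g hcompat 3 q
  rw [q8Sigma_pow_three, MulAut.one_apply] at this
  calc f q * g ^ 3 = (g ^ 3 * f q * (g ^ 3)⁻¹) * g ^ 3 := by rw [← this]
    _ = g ^ 3 * f q := by group

include eQ in
theorem nonempty_mulEquiv_q8c3_sup (g : G) (hgN : g ∈ normalizer (Q : Set G))
    (hodd : Nat.Coprime (orderOf g) 2) (hgC : g ∉ centralizer (Q : Set G)) (hg3 : g ^ 3 = 1) :
    Nonempty (Q8C3 ≃* ↥(Q ⊔ zpowers g)) := by
  classical
  obtain ⟨f, hfinj, hrange, hcompat⟩ := exists_adapted_hom Q eQ g hgN hodd hgC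
  have hfQ : ∀ q, f q ∈ Q := fun q => hrange ▸ (⟨q, rfl⟩ : f q ∈ f.range)
  obtain ⟨H, hH⟩ : ∃ H, H = Q ⊔ zpowers g := ⟨_, rfl⟩
  rw [← hH]
  have hQH : Q ≤ H := by rw [hH]; exact le_sup_left
  have hgH : g ∈ H := by rw [hH]; exact (le_sup_right : zpowers g ≤ _) (mem_zpowers g)
  obtain ⟨fH, hfH⟩ : ∃ fH : QuaternionGroup 2 →* H, fH = f.codRestrict H (fun q => hQH (hfQ q)) :=
    ⟨_, rfl⟩
  have hfHv : ∀ q, ((fH q : H) : G) = f q := by intro q; rw [hfH]; rfl
  obtain ⟨c, hc⟩ : ∃ c : H, c = ⟨g, hgH⟩ := ⟨_, rfl⟩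
  have hcv : (c : G) = g := by rw [hc]
  have hc3 : c ^ 3 = 1 := by
    apply Subtype.ext
    rw [SubmonoidClass.coe_pow, hcv, hg3]; rfl
  have hcompatH : ∀ q, c * fH q * c⁻¹ = fH (q8Sigma q) := by
    intro q
    apply Subtype.ext
    rw [Subgroup.coe_mul, Subgroup.coe_mul, Subgroup.coe_inv, hcv, hfHv, hfHv]
    exact hcompat q
  have hdisj : Q ⊓ zpowers g = ⊥ := by
    apply (Subgroup.disjoint_of_coprime_natCard ?_).eq_bot
    rw [q8sub_card Q eQ, Nat.card_zpowers]
    have : (8 : ℕ) = 2 ^ 3 := by norm_num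
    rw [this]
    exact (hodd.pow_right 3).symm
  have hinj : ∀ q (k : ℕ), k < 3 → fH q * c ^ k = 1 → q = 1 ∧ k = 0 := by
    intro q k hk hq
    have hq' : f q * g ^ k = 1 := by
      have := congrArg Subtype.val hq
      rw [Subgroup.coe_mul, SubmonoidClass.coe_pow, hcv, hfHv] at this
      exact this
    have h1 : f q ∈ zpowers g := by
      have h2 : f q = (g ^ k)⁻¹ := eq_inv_of_mul_eq_one_left hq'
      rw [h2]
      exact inv_mem (pow_mem (mem_zpowers g) k)
    have h2 : f q ∈ Q ⊓ zpowers g := ⟨hfQ q, h1⟩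
    rw [hdisj, mem_bot] at h2
    have hq1 : q = 1 := hfinj (h2.trans (map_one f).symm)
    rw [h2, one_mul] at hq'
    refine ⟨hq1, ?_⟩
    interval_cases k
    · rfl
    · exfalso; apply hgC
      rw [pow_one] at hq'
      rw [hq']; exact one_mem _
    · exfalso; apply hgC
      apply mem_of_mul_self_mem_of_odd _ g hodd
      rw [← sq, hq']; exact one_mem _
  have hsurj : ∀ ξ : H, ∃ q, ∃ k : ℤ, ξ = fH q * c ^ k := by
    rintro ⟨h, hh⟩
    rw [hH] at hh
    obtain ⟨u, hu, i, hui⟩ := exists_mul_zpow_of_mem_sup Q g hgN h hh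
    have hu' : u ∈ f.range := by rw [hrange]; exact hu
    obtain ⟨q, hq⟩ := hu'
    refine ⟨q, i, ?_⟩
    apply Subtype.ext
    rw [Subgroup.coe_mul, Subgroup.coe_zpow, hcv, hfHv, hq]
    exact hui
  exact nonempty_mulEquiv_q8c3_of_surj fH c hc3 hcompatH hinj hsurj

end Cfsg.Agent.Helper18.SL2PNorm
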