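import Mathlib
import Cfsg.Agent.Helper18.SL2PNorm2
import Cfsg.Agent.Helper18.SL2PNorm3
import Cfsg.Agent.Helper2.SL2Quaternion

/-! `p`-element of `SL₂(F)` (char `p` odd) normalising a `p'`-subgroup `R` nontrivially:
`p = 3`, `R ≅ Q₈`, `R⟨a⟩ ≅ SL₂(3)`. -/

set_option autoImplicit false

namespace Cfsg.Agent.Helper18.SL2PNorm

open Cfsg Cfsg.Agent.Helper12 Cfsg.Agent.Helper9 Subgroup

variable {F : Type*} [Field F]

local notation "S2" => Matrix.SpecialLinearGroup (Fin 2) F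
local notation "M2" => Matrix (Fin 2) (Fin 2) F

theorem main [Fintype F] (p : ℕ) [Fact p.Prime] [CharP F p]
    (hp : p ≠ 2) (g : S2) (ha : IsPGroup p (zpowers g)) (R : Subgroup S2)
    (hR : (Nat.card R).Coprime p) (haR : g ∈ normalizer (R : Set S2))
    (hnt : ⁅R, zpowers g⁆ ≠ ⊥) :
    p = 3 ∧ Nonempty (↥R ≃* QuaternionGroup 2) ∧
      Nonempty (↥(R ⊔ zpowers g) ≃* Matrix.SpecialLinearGroup (Fin 2) (ZMod 3)) := by
  classical
  have hpp : p.Prime := Fact.out
  have hgC : g ∉ centralizer (R : Set S2) := by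
    intro h
    apply hnt
    rw [Subgroup.commutator_eq_bot_iff_le_centralizer, Subgroup.le_centralizer_iff]
    exact (zpowers_le).2 h
  have ha1 : g ≠ 1 := by
    rintro rfl
    exact hgC (one_mem _)
  have hR2 := isPGroup_two p hp g ha ha1 R hR haR
  obtain ⟨k, hk⟩ := (IsPGroup.iff_orderOf.1 ha) ⟨g, mem_zpowers g⟩
  have hoa : orderOf g = p ^ k := by
    rw [← hk, Subgroup.orderOf_mk]
  have hodd : Nat.Coprime (orderOf g) 2 := by
    rw [hoa]
    exact Nat.Coprime.pow_left k ((Nat.coprime_primes hpp Nat.prime_two).2 hp)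
  have hF : Odd (Fintype.card F) := by
    obtain ⟨n, _, hn⟩ := FiniteField.card F p
    rw [hn]
    exact (hpp.odd_of_ne_two hp).pow
  obtain ⟨T, hRT⟩ := hR2.exists_le_sylow
  obtain ⟨n, _, ⟨e⟩⟩ := Cfsg.Agent.Helper2.SL2Q.sylow_quaternion hF T
  obtain ⟨eQ⟩ := nonempty_mulEquiv_q8_of_quaternion (T : Subgroup S2) T.isPGroup' n e R hRT g
    haR hodd hgC
  have hg3c := pow_three_mem_centralizer R eQ g haR hodd hgC
  -- `g ^ 3 = 1`
  have hg3 : g ^ 3 = 1 := by
    by_contra hne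
    obtain ⟨x, hx, hx2⟩ := q8sub_exists_order_four R eQ
    have hp3 : IsPGroup p (zpowers (g ^ 3)) :=
      ha.to_le (zpowers_le.2 (pow_mem (mem_zpowers g) 3))
    have hcomm : Commute x (g ^ 3 * x * (g ^ 3)⁻¹) := by
      have := mem_centralizer_iff.1 hg3c x hx
      have e : g ^ 3 * x * (g ^ 3)⁻¹ = x := by rw [← this]; group
      rw [e]
    have hx4 : x ^ 4 = 1 := q8sub_pow_four R eQ hx
    have hcop : Nat.Coprime 4 p := by
      have : (4 : ℕ) = 2 ^ 2 := by norm_num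
      rw [this]
      exact Nat.Coprime.pow_left 2 ((Nat.coprime_primes Nat.prime_two hpp).2 (Ne.symm hp))
    rcases eq_one_or_neg_one_of_commute_conj p hp (g ^ 3) hp3 hne x 4 hx4 hcop hcomm with h | h
    · apply hx2; rw [h, one_pow]
    · apply hx2; rw [h]; simp
  have hp3 : p = 3 := by
    have h3 : orderOf g ∣ 3 := orderOf_dvd_of_pow_eq_one hg3
    rw [hoa] at h3
    have hk0 : k ≠ 0 := by
      rintro rfl
      rw [pow_zero] at hoa
      exact ha1 (orderOf_eq_one_iff.1 hoa)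
    have : p ∣ 3 := (dvd_pow_self p hk0).trans h3
    exact (Nat.prime_dvd_prime_iff_eq hpp Nat.prime_three).1 this
  refine ⟨hp3, ⟨eQ⟩, ?_⟩
  obtain ⟨e1⟩ := nonempty_mulEquiv_q8c3_sup R eQ g haR hodd hgC hg3
  obtain ⟨e2⟩ := nonempty_mulEquiv_q8c3_G3
  exact ⟨e1.symm.trans e2⟩

end Cfsg.Agent.Helper18.SL2PNorm
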