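import Mathlib
import Cfsg.Agent.Helper18.QuadPS1
import Cfsg.Agent.Helper18.SL2PNorm4

/-! `p`-solvable subgroups of `SL₂(F)` generated by two elements of order `p`. -/

set_option autoImplicit false

namespace Cfsg.Agent.Helper18.QuadPS

open Cfsg Cfsg.Agent.Helper12 Cfsg.Agent.Helper18.SL2PNorm

theorem le_normalizer_map_subtype {G : Type*} [Group G] (X : Subgroup G) (N : Subgroup X)
    [hN : N.Normal] : X ≤ Subgroup.normalizer ((N.map X.subtype : Subgroup G) : Set G) := by
  have h := Subgroup.le_normalizer_map (H := N) X.subtype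
  rw [Subgroup.normalizer_eq_top_iff.2 hN, ← MonoidHom.range_eq_map, Subgroup.range_subtype] at h
  exact h

section SL2

variable {F : Type*} [Field F]

local notation "S2" => Matrix.SpecialLinearGroup (Fin 2) F
local notation "M2" => Matrix (Fin 2) (Fin 2) F

/-- an element conjugating a non-trivial unitriangular element into `U` is triangular -/
theorem mem_borelSL_of_conj_uMat (n : S2) (t : F) (ht : t ≠ 0)
    (h : n * uMat t * n⁻¹ ∈ unipSL F) : n ∈ borelSL F := by
  rw [mem_borelSL_iff]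
  have h1 := h.1
  rw [Matrix.SpecialLinearGroup.coe_mul, Matrix.SpecialLinearGroup.coe_mul,
    Matrix.SpecialLinearGroup.coe_inv, uMat_coe, Matrix.adjugate_fin_two,
    Matrix.eta_fin_two (n : M2)] at h1
  simp only [Matrix.mul_fin_two, Matrix.of_apply, Matrix.cons_val', Matrix.cons_val_zero,
    Matrix.cons_val_one, Matrix.empty_val', Matrix.cons_val_fin_one] at h1
  have : t * ((n : M2) 1 0 * (n : M2) 1 0) = 0 := by linear_combination (-1 : F) * h1
  rcases mul_eq_zero.1 this with h0 | h0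
  · exact absurd h0 ht
  · exact mul_self_eq_zero.1 h0

theorem pow_eq_one_of_mem_unipSL (p : ℕ) [CharP F p] {u : S2} (hu : u ∈ unipSL F) :
    u ^ p = 1 := by
  rw [eq_uMat_of_mem hu, uMat_pow, CharP.cast_eq_zero, zero_mul, uMat_zero]

/-- a group generated by two elements of order `p`, not a `p`-group, normalises no non-trivial
`p`-subgroup -/
theorem eq_bot_of_normalized_pGroup [Fintype F] (p : ℕ) [Fact p.Prime] [CharP F p] (x y : S2)
    (hx : x ^ p = 1) (hy : y ^ p = 1)
    (hnp : ¬ IsPGroup p (Subgroup.closure ({x, y} : Set S2))) (P : Subgroup S2)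
    (hP : IsPGroup p P)
    (hN : Subgroup.closure ({x, y} : Set S2) ≤ Subgroup.normalizer (P : Set S2)) : P = ⊥ := by
  classical
  by_contra hne
  obtain ⟨u, hu, hu1⟩ : ∃ u ∈ P, u ≠ 1 := by
    by_contra hcon
    push Not at hcon
    exact hne ((Subgroup.eq_bot_iff_forall _).2 hcon)
  obtain ⟨S, hS⟩ := hP.exists_le_sylow
  obtain ⟨g, hg⟩ := exists_conj_sylow_eq_unipSL p S
  have hconj : ∀ v ∈ P, g * v * g⁻¹ ∈ unipSL F := by
    intro v hv
    rw [← hg]; exact ⟨v, hS hv, rfl⟩
  obtain ⟨t, ht⟩ : ∃ t, t = ((g * u * g⁻¹ : S2) : M2) 0 1 := ⟨_, rfl⟩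
  have hut : g * u * g⁻¹ = uMat t := by rw [ht]; exact eq_uMat_of_mem (hconj u hu)
  have ht0 : t ≠ 0 := by
    intro h0
    rw [h0, uMat_zero] at hut
    apply hu1
    have : u = g⁻¹ * (g * u * g⁻¹) * g := by group
    rw [this, hut]; group
  have hborel : ∀ w ∈ Subgroup.closure ({x, y} : Set S2), g * w * g⁻¹ ∈ borelSL F := by
    intro w hw
    apply mem_borelSL_of_conj_uMat _ t ht0
    have h1 : w * u * w⁻¹ ∈ P := (Subgroup.mem_normalizer_iff.1 (hN hw) u).1 hu
    have h2 := hconj _ h1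
    have e : g * w * g⁻¹ * uMat t * (g * w * g⁻¹)⁻¹ = g * (w * u * w⁻¹) * g⁻¹ := by
      rw [← hut]; group
    rw [e]; exact h2
  have hunip : ∀ w : S2, w ^ p = 1 → g * w * g⁻¹ ∈ borelSL F → g * w * g⁻¹ ∈ unipSL F := by
    intro w hw hb
    apply mem_unipSL_of_pow_eq_one p hb 1
    rw [pow_one, conj_pow, hw]; group
  have hxu := hunip x hx (hborel x (Subgroup.subset_closure (by simp)))
  have hyu := hunip y hy (hborel y (Subgroup.subset_closure (by simp)))
  have hle : Subgroup.closure ({x, y} : Set S2) ≤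
      (unipSL F).comap (MulAut.conj g).toMonoidHom := by
    rw [Subgroup.closure_le]
    intro w hw
    rcases hw with rfl | hw
    · exact hxu
    · rw [Set.mem_singleton_iff] at hw
      subst hw
      exact hyu
  apply hnp
  rintro ⟨w, hw⟩
  refine ⟨1, ?_⟩
  apply Subtype.ext
  have h1 : g * w * g⁻¹ ∈ unipSL F := hle hw
  have h2 := pow_eq_one_of_mem_unipSL p h1
  rw [conj_pow] at h2
  rw [pow_one, SubmonoidClass.coe_pow]
  have : w ^ p = g⁻¹ * (g * w ^ p * g⁻¹) * g := by group
  rw [this, h2]; group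
  rfl

theorem isPGroup_zpowers_of_pow_eq_one (p : ℕ) {G : Type*} [Group G] (x : G) (hx : x ^ p = 1) :
    IsPGroup p (Subgroup.zpowers x) := by
  rintro ⟨z, hz⟩
  obtain ⟨i, rfl⟩ := Subgroup.mem_zpowers_iff.1 hz
  refine ⟨1, ?_⟩
  apply Subtype.ext
  rw [pow_one, SubmonoidClass.coe_pow, ← zpow_natCast, ← zpow_mul, mul_comm, zpow_mul,
    zpow_natCast, hx, one_zpow]
  rfl

/-- **`p`-solvable subgroups of `SL₂` generated by two elements of order `p`.** -/
theorem sl2_psolv_main [Fintype F] (p : ℕ) [Fact p.Prime] [CharP F p] (hp : p ≠ 2) (x y : S2)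
    (hx : x ^ p = 1) (hy : y ^ p = 1) (X : Subgroup S2)
    (hX : X = Subgroup.closure ({x, y} : Set S2)) (hnp : ¬ IsPGroup p X)
    (hsolv : Cfsg.IsPSolvable p X) :
    p = 3 ∧ ∃ R : Subgroup S2, R ≤ X ∧
      Nonempty (↥(R ⊔ Subgroup.zpowers x) ≃* Matrix.SpecialLinearGroup (Fin 2) (ZMod 3)) := by
  classical
  have hpp : p.Prime := Fact.out
  have hxX : x ∈ X := by rw [hX]; exact Subgroup.subset_closure (by simp)
  -- `O_p(X) = 1`
  have hO : Cfsg.pCore p X = ⊥ := by
    have hPp : IsPGroup p (Cfsg.pCore p X) := by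
      obtain ⟨a, ha⟩ := Cfsg.Agent.Helper23.pCore_card p X
      exact IsPGroup.of_card ha
    have hPn : (Cfsg.pCore p X).Normal := inferInstance
    have h1 : (Cfsg.pCore p X).map X.subtype = ⊥ := by
      apply eq_bot_of_normalized_pGroup p x y hx hy (by rw [← hX]; exact hnp) _ (hPp.map _)
      rw [← hX]
      exact le_normalizer_map_subtype X _
    exact (Subgroup.map_eq_bot_iff_of_injective _ X.subtype_injective).1 h1
  have hHH := centralizer_pPrimeCore_le_of_isPSolvable hsolv hO
  obtain ⟨R, hRdef⟩ : ∃ R, R = (Cfsg.pPrimeCore p X).map X.subtype := ⟨_, rfl⟩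
  have hRn : (Cfsg.pPrimeCore p X).Normal := inferInstance
  have hRX : R ≤ X := by rw [hRdef]; exact Subgroup.map_subtype_le _
  have hRc : (Nat.card R).Coprime p := by
    rw [hRdef, Subgroup.card_map_of_injective X.subtype_injective]
    exact Cfsg.Agent.Helper23.pPrimeCore_card_coprime p X
  have hxN : x ∈ Subgroup.normalizer (R : Set S2) := by
    rw [hRdef]
    exact le_normalizer_map_subtype X _ hxX
  have hxp : IsPGroup p (Subgroup.zpowers x) := isPGroup_zpowers_of_pow_eq_one p x hx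
  have hnt : ⁅R, Subgroup.zpowers x⁆ ≠ ⊥ := by
    intro hbot
    rw [Subgroup.commutator_eq_bot_iff_le_centralizer] at hbot
    -- `x` centralises `O_{p'}(X)`, hence lies in it
    have hxc : (⟨x, hxX⟩ : X) ∈ Subgroup.centralizer ((Cfsg.pPrimeCore p X : Subgroup X) : Set X) := by
      rw [Subgroup.mem_centralizer_iff]
      intro r hr
      have hrR : (r : S2) ∈ R := by rw [hRdef]; exact ⟨r, hr, rfl⟩
      have := (Subgroup.mem_centralizer_iff.1 (hbot hrR)) x (Subgroup.mem_zpowers x)
      apply Subtype.ext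
      exact this.symm
    have hxR : x ∈ R := by
      rw [hRdef]; exact ⟨⟨x, hxX⟩, hHH hxc, rfl⟩
    have hx1 : x = 1 := by
      have hd1 : orderOf x ∣ Nat.card R := by
        have := orderOf_dvd_natCard (⟨x, hxR⟩ : R)
        rwa [Subgroup.orderOf_mk] at this
      have hd2 : orderOf x ∣ p := orderOf_dvd_of_pow_eq_one hx
      have : orderOf x ∣ 1 := by
        have := Nat.dvd_gcd hd1 hd2
        rwa [hRc] at this
      exact orderOf_eq_one_iff.1 (Nat.dvd_one.1 this)
    apply hnp
    have hle : X ≤ Subgroup.zpowers y := by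
      rw [hX, Subgroup.closure_le]
      intro w hw
      rcases hw with rfl | hw
      · rw [hx1]; exact Subgroup.one_mem _
      · rw [Set.mem_singleton_iff] at hw
        subst hw
        exact Subgroup.mem_zpowers _
    exact (isPGroup_zpowers_of_pow_eq_one p y hy).to_le hle
  obtain ⟨h3, _, he⟩ := Cfsg.Agent.Helper18.SL2PNorm.main p hp x hxp R hRc hxN hnt
  exact ⟨h3, R, hRX, he⟩

end SL2

end Cfsg.Agent.Helper18.QuadPS
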