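import Mathlib
import Cfsg.Agent.Helper18.SL2PNorm4
import Cfsg.Agent.Helper26.QuadStable

/-! Two quadratic generators and a normal `p'`-subgroup not centralised by one of them:
`p = 3` and a section `SL(2,3)` (linear form). -/

set_option autoImplicit false

namespace Cfsg.Agent.Helper18.QuadSL23

open Cfsg Cfsg.Agent.Helper26 Polynomial

section LinearForm

variable {p : ℕ} [hp : Fact p.Prime] {H : Type*} [Group H] [Finite H]
variable {V : Type*} [AddCommGroup V] [Module (ZMod p) V] [Finite V]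

/-- a homomorphism to `SL₂` of a finite field, non-trivial on a given subgroup `Q'` -/
theorem exists_hom_sl2_finite (ρ : H →* Module.End (ZMod p) V) (a b : H)
    (hab : Subgroup.closure ({a, b} : Set H) = ⊤) (hA : IsQuadEnd (ρ a)) (hB : IsQuadEnd (ρ b))
    (Q' : Subgroup H) (hQ' : ∃ h ∈ Q', ρ h ≠ 1 ∧ (orderOf h).Coprime p) :
    ∃ (K : Type) (_ : Field K) (_ : Fintype K) (_ : CharP K p)
      (φ : H →* Matrix.SpecialLinearGroup (Fin 2) K), φ a ^ p = 1 ∧ Q'.map φ ≠ ⊥ := by
  classical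
  obtain ⟨n, hn⟩ : ∃ n, n = orderOf (a * b) := ⟨_, rfl⟩
  let f : (ZMod p)[X] := X ^ n - 1
  let K := f.SplittingField
  have hfin : Finite K := Module.finite_of_finite (ZMod p)
  have : Fintype K := Fintype.ofFinite K
  have hchar : CharP K p := charP_of_injective_algebraMap (algebraMap (ZMod p) K).injective p
  have hsplit : (X ^ n - 1 : K[X]).Splits := by
    have : f.map (algebraMap (ZMod p) K) = X ^ n - 1 := by
      simp [f]
    rw [← this]
    exact Polynomial.SplittingField.splits f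
  let 𝔟 := Module.finBasis (ZMod p) V
  let θ : Module.End (ZMod p) V →+* Module.End K (Fin (Module.finrank (ZMod p) V) → K) :=
    ((Matrix.toLinAlgEquiv' : Matrix (Fin (Module.finrank (ZMod p) V))
        (Fin (Module.finrank (ZMod p) V)) K ≃ₐ[K] _).toRingEquiv.toRingHom).comp
      (((algebraMap (ZMod p) K).mapMatrix).comp
        ((LinearMap.toMatrixAlgEquiv 𝔟 : Module.End (ZMod p) V ≃ₐ[ZMod p] _).toRingEquiv.toRingHom))
  have hθ : Function.Injective θ := by
    intro x y hxy
    have h1 : (algebraMap (ZMod p) K).mapMatrix (LinearMap.toMatrixAlgEquiv 𝔟 x) =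
        (algebraMap (ZMod p) K).mapMatrix (LinearMap.toMatrixAlgEquiv 𝔟 y) :=
      (Matrix.toLinAlgEquiv' : Matrix (Fin (Module.finrank (ZMod p) V))
        (Fin (Module.finrank (ZMod p) V)) K ≃ₐ[K] _).injective hxy
    have h3 : LinearMap.toMatrixAlgEquiv 𝔟 x = LinearMap.toMatrixAlgEquiv 𝔟 y :=
      Matrix.map_injective (algebraMap (ZMod p) K).injective h1
    exact (LinearMap.toMatrixAlgEquiv 𝔟).injective h3
  let ρK : H →* Module.End K (Fin (Module.finrank (ZMod p) V) → K) :=
    (θ : _ →* _).comp ρ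
  have hquad : ∀ x : H, IsQuadEnd (ρ x) → IsQuadEnd (ρK x) := by
    intro x hx
    rw [isQuadEnd_iff] at hx ⊢
    show (θ (ρ x) - 1) * (θ (ρ x) - 1) = 0
    rw [← map_one θ, ← map_sub, ← map_mul, hx, map_zero]
  have hnpK : ¬ IsPRepOn p ρK Q' := by
    intro hP
    obtain ⟨h, hhQ, hh1, hcop⟩ := hQ'
    obtain ⟨k, hk⟩ := hP h hhQ
    apply hh1
    have hk' : ρ (h ^ p ^ k) = 1 := by
      apply hθ
      rw [map_one]
      exact hk
    -- `h` is a power of `h ^ p ^ k`
    have hc : (orderOf h).Coprime (p ^ k) := Nat.Coprime.pow_right k hcop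
    obtain ⟨s, hs⟩ := exists_pow_eq_self_of_coprime hc.symm
    have h5 : h = (h ^ p ^ k) ^ s := hs.symm
    rw [h5, map_pow, hk', one_pow]
  have hn0 : 0 < n := by rw [hn]; exact orderOf_pos _
  obtain ⟨φ, hφ1, hφ2⟩ := exists_hom_sl2' (K := K) p a b hab n hn0
    (by rw [hn]; exact pow_orderOf_eq_one _) hsplit Q' _ _ ρK rfl (hquad a hA) (hquad b hB) hnpK
  refine ⟨K, inferInstance, inferInstance, hchar, φ, hφ1 a (hquad a hA), ?_⟩
  intro hbot
  apply hφ2
  rw [hbot]
  exact IsPGroup.of_bot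

end LinearForm

end Cfsg.Agent.Helper18.QuadSL23
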