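import Mathlib
import Cfsg.Agent.Helper18.QuadSL23a

/-! Linear main theorem: `p = 3` and `SL(2,3)` section. -/

set_option autoImplicit false

namespace Cfsg.Agent.Helper18.QuadSL23

open Cfsg Cfsg.Agent.Helper26 Polynomial

section LinearForm

variable {p : ℕ} [hp : Fact p.Prime] {H : Type*} [Group H] [Finite H]
variable {V : Type*} [AddCommGroup V] [Module (ZMod p) V] [Finite V]

theorem linear_main (hp2 : p ≠ 2) (ρ : H →* Module.End (ZMod p) V) (a b : H)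
    (hab : Subgroup.closure ({a, b} : Set H) = ⊤) (hA : IsQuadEnd (ρ a)) (hB : IsQuadEnd (ρ b))
    (Q : Subgroup H) [hQn : Q.Normal] (hQ : (Nat.card Q).Coprime p)
    (hQa : ∃ h ∈ ⁅Q, Subgroup.zpowers a⁆, ρ h ≠ 1) :
    p = 3 ∧ ∃ (M N : Subgroup H) (_ : N.Normal),
      Nonempty ((M ⧸ N.subgroupOf M) ≃* Matrix.SpecialLinearGroup (Fin 2) (ZMod 3)) := by
  classical
  obtain ⟨h, hh, hh1⟩ := hQa
  have hQ'le : ⁅Q, Subgroup.zpowers a⁆ ≤ Q := Subgroup.commutator_le_left Q _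
  have hcop : (orderOf h).Coprime p := by
    have hdvd : orderOf h ∣ Nat.card Q := by
      have := orderOf_dvd_natCard (⟨h, hQ'le hh⟩ : Q)
      rwa [Subgroup.orderOf_mk] at this
    exact Nat.Coprime.coprime_dvd_left hdvd hQ
  obtain ⟨K, _, _, _, φ, hφa, hφQ⟩ := exists_hom_sl2_finite ρ a b hab hA hB
    ⁅Q, Subgroup.zpowers a⁆ ⟨h, hh, hh1, hcop⟩
  have hg : IsPGroup p (Subgroup.zpowers (φ a)) := by
    rintro ⟨x, hx⟩
    obtain ⟨i, rfl⟩ := Subgroup.mem_zpowers_iff.1 hx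
    refine ⟨1, ?_⟩
    apply Subtype.ext
    rw [pow_one, SubmonoidClass.coe_pow, ← zpow_natCast, ← zpow_mul, mul_comm, zpow_mul,
      zpow_natCast, hφa, one_zpow]
    rfl
  have hR : (Nat.card (Q.map φ)).Coprime p :=
    Nat.Coprime.coprime_dvd_left (Subgroup.card_map_dvd Q φ) hQ
  have haR : φ a ∈ Subgroup.normalizer ((Q.map φ : Subgroup _) : Set _) := by
    rw [Subgroup.mem_normalizer_iff]
    intro y
    constructor
    · rintro ⟨q, hq, rfl⟩
      refine ⟨a * q * a⁻¹, hQn.conj_mem q hq a, ?_⟩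
      rw [map_mul, map_mul, map_inv]
    · rintro ⟨q, hq, hqy⟩
      refine ⟨a⁻¹ * q * a, ?_, ?_⟩
      · have := hQn.conj_mem q hq a⁻¹
        rwa [inv_inv] at this
      · rw [map_mul, map_mul, map_inv, hqy]; group
  have hnt : ⁅Q.map φ, Subgroup.zpowers (φ a)⁆ ≠ ⊥ := by
    rw [← MonoidHom.map_zpowers, ← Subgroup.map_commutator]
    exact hφQ
  obtain ⟨hp3, _, ⟨e⟩⟩ := Cfsg.Agent.Helper18.SL2PNorm.main p hp2 (φ a) hg (Q.map φ) hR haR hnt
  refine ⟨hp3, Q ⊔ Subgroup.zpowers a, φ.ker, inferInstance, ?_⟩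
  obtain ⟨M, hM⟩ : ∃ M, M = Q ⊔ Subgroup.zpowers a := ⟨_, rfl⟩
  rw [← hM]
  have hmap : M.map φ = Q.map φ ⊔ Subgroup.zpowers (φ a) := by
    rw [hM, Subgroup.map_sup, MonoidHom.map_zpowers]
  let ψ : M →* Matrix.SpecialLinearGroup (Fin 2) K := φ.comp M.subtype
  have hker : φ.ker.subgroupOf M = ψ.ker := rfl
  have hrange : ψ.range = Q.map φ ⊔ Subgroup.zpowers (φ a) := by
    rw [← hmap, MonoidHom.range_comp, Subgroup.range_subtype]
  exact ⟨(QuotientGroup.quotientMulEquivOfEq hker).trans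
    ((QuotientGroup.quotientKerEquivRange ψ).trans ((MulEquiv.subgroupCongr hrange).trans e))⟩

end LinearForm

end Cfsg.Agent.Helper18.QuadSL23
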