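import Mathlib
import Cfsg.Agent.Helper18.QuadSL23b

/-! Multiplicative and subgroup forms; transport of sections. -/

set_option autoImplicit false

namespace Cfsg.Agent.Helper18.QuadSL23

open Cfsg Cfsg.Agent.Helper26

/-- a section of a subgroup is a section of the group -/
theorem section_of_subgroup {G : Type*} [Group G] (H : Subgroup G) (M N : Subgroup H) [N.Normal]
    {X : Type*} [Group X] (e : (M ⧸ N.subgroupOf M) ≃* X) :
    ∃ (K L : Subgroup G) (_ : (L.subgroupOf K).Normal), K ≤ H ∧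
      Nonempty ((K ⧸ L.subgroupOf K) ≃* X) := by
  obtain ⟨K, hK⟩ : ∃ K, K = M.map H.subtype := ⟨_, rfl⟩
  obtain ⟨L, hL⟩ : ∃ L, L = N.map H.subtype := ⟨_, rfl⟩
  have hKH : K ≤ H := by
    rw [hK]; exact Subgroup.map_subtype_le M
  let ι : M ≃* (M.map H.subtype) := M.equivMapOfInjective H.subtype H.subtype_injective
  have hιv : ∀ m : M, ((ι m : M.map H.subtype) : G) = ((m : H) : G) := fun m => rfl
  subst hK
  have hmap : (N.subgroupOf M).map ι.toMonoidHom = L.subgroupOf (M.map H.subtype) := by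
    ext ⟨k, hk⟩
    rw [Subgroup.mem_subgroupOf, hL]
    constructor
    · rintro ⟨m', hm', hm'k⟩
      have h1 : ((m' : H) : G) = k := by
        have := congrArg Subtype.val hm'k
        exact this
      exact ⟨(m' : H), Subgroup.mem_subgroupOf.1 hm', h1⟩
    · rintro ⟨n, hn, hnk⟩
      obtain ⟨m, hm, hmk⟩ := hk
      have h1 : n = m := H.subtype_injective (hnk.trans hmk.symm)
      refine ⟨⟨n, h1 ▸ hm⟩, Subgroup.mem_subgroupOf.2 hn, ?_⟩
      apply Subtype.ext
      exact hnk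
  have hnorm : (L.subgroupOf (M.map H.subtype)).Normal := by
    rw [← hmap]
    exact Subgroup.Normal.map inferInstance _ ι.surjective
  refine ⟨M.map H.subtype, L, hnorm, hKH, ?_⟩
  exact ⟨(QuotientGroup.congr (N.subgroupOf M) (L.subgroupOf (M.map H.subtype)) ι hmap).symm.trans e⟩

section MulForm

variable {p : ℕ} [hp : Fact p.Prime] {H : Type*} [Group H] [Finite H]
variable {V : Type*} [CommGroup V] [Finite V]

theorem mul_main_aux [Module (ZMod p) (Additive V)] (hp2 : p ≠ 2) (ρ : H →* MulAut V)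
    (a b : H) (hab : Subgroup.closure ({a, b} : Set H) = ⊤)
    (ha : ∀ v : V, ρ a (ρ a v / v) = ρ a v / v) (hb : ∀ v : V, ρ b (ρ b v / v) = ρ b v / v)
    (Q : Subgroup H) [Q.Normal] (hQ : (Nat.card Q).Coprime p)
    (hQa : ∃ h ∈ ⁅Q, Subgroup.zpowers a⁆, ρ h ≠ 1) :
    p = 3 ∧ ∃ (M N : Subgroup H) (_ : N.Normal),
      Nonempty ((M ⧸ N.subgroupOf M) ≃* Matrix.SpecialLinearGroup (Fin 2) (ZMod 3)) := by
  let ρL : H →* Module.End (ZMod p) (Additive V) :=
    { toFun := fun h => (MonoidHom.toAdditive ((ρ h : V ≃* V) : V →* V)).toZModLinearMap p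
      map_one' := by
        ext x
        rw [map_one ρ]
        rfl
      map_mul' := fun g h => by
        ext x
        rw [map_mul ρ]
        rfl }
  have hone : ∀ h : H, ρL h = 1 → ρ h = 1 := by
    intro h hh
    ext v
    have := congrArg (fun f => f (Additive.ofMul v)) hh
    exact congrArg Additive.toMul this
  have hA : IsQuadEnd (ρL a) := by
    intro w
    exact congrArg Additive.ofMul (ha w.toMul)
  have hB : IsQuadEnd (ρL b) := by
    intro w
    exact congrArg Additive.ofMul (hb w.toMul)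
  obtain ⟨h, hh, hh1⟩ := hQa
  exact linear_main hp2 ρL a b hab hA hB Q hQ ⟨h, hh, fun h2 => hh1 (hone h h2)⟩

theorem mul_main (hp2 : p ≠ 2) (hV : ∀ v : V, v ^ p = 1) (ρ : H →* MulAut V)
    (a b : H) (hab : Subgroup.closure ({a, b} : Set H) = ⊤)
    (ha : ∀ v : V, ρ a (ρ a v / v) = ρ a v / v) (hb : ∀ v : V, ρ b (ρ b v / v) = ρ b v / v)
    (Q : Subgroup H) [Q.Normal] (hQ : (Nat.card Q).Coprime p)
    (hQa : ∃ h ∈ ⁅Q, Subgroup.zpowers a⁆, ρ h ≠ 1) :
    p = 3 ∧ ∃ (M N : Subgroup H) (_ : N.Normal),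
      Nonempty ((M ⧸ N.subgroupOf M) ≃* Matrix.SpecialLinearGroup (Fin 2) (ZMod 3)) :=
  @mul_main_aux p hp H _ _ V _ _ (AddCommGroup.zmodModule (by
    intro x
    exact congrArg Additive.ofMul (hV x.toMul))) hp2 ρ a b hab ha hb Q _ hQ hQa

end MulForm

end Cfsg.Agent.Helper18.QuadSL23
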