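import Mathlib
import Cfsg.Agent.Helper18.QuadSL23c

/-! Subgroup form of the quadratic pair ⇒ SL(2,3) section theorem. -/

set_option autoImplicit false

namespace Cfsg.Agent.Helper18.QuadSL23

open Cfsg Cfsg.Agent.Helper26
open scoped commutatorElement
open scoped IsMulCommutative
set_option linter.style.haveILetI false

theorem quad_conjRep {G : Type*} [Group G] [Finite G] (V H : Subgroup G)
    (hHV : H ≤ Subgroup.normalizer (V : Set G))
    (a : G) (haH : a ∈ H) (hq : ⁅⁅V, Subgroup.zpowers a⁆, Subgroup.zpowers a⁆ = ⊥) :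
    ∀ v : V, conjRep V H hHV ⟨a, haH⟩ (conjRep V H hHV ⟨a, haH⟩ v / v) =
      conjRep V H hHV ⟨a, haH⟩ v / v := by
  intro v
  apply Subtype.ext
  rw [conjRep_apply]
  have e : ((conjRep V H hHV ⟨a, haH⟩ v / v : V) : G) = a * (v : G) * a⁻¹ * (v : G)⁻¹ := by
    rw [Subgroup.coe_div, conjRep_apply, div_eq_mul_inv]
  rw [e]
  have hu : ⁅(v : G), a⁆ ∈ ⁅V, Subgroup.zpowers a⁆ :=
    Subgroup.commutator_mem_commutator v.2 (Subgroup.mem_zpowers a)
  have huu : ⁅⁅(v : G), a⁆, a⁆ ∈ ⁅⁅V, Subgroup.zpowers a⁆, Subgroup.zpowers a⁆ :=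
    Subgroup.commutator_mem_commutator hu (Subgroup.mem_zpowers a)
  rw [hq, Subgroup.mem_bot, commutatorElement_def, commutatorElement_def] at huu
  show a * (a * (v : G) * a⁻¹ * (v : G)⁻¹) * a⁻¹ = a * (v : G) * a⁻¹ * (v : G)⁻¹
  have h3 : (v : G) * a * (v : G)⁻¹ * a⁻¹ * a = a * ((v : G) * a * (v : G)⁻¹ * a⁻¹) := by
    have := congrArg (fun x => x * a * ((v : G) * a * (v : G)⁻¹ * a⁻¹)) huu
    simp only [one_mul] at this
    rw [← this]
    group
  have h4 : a * (v : G) * a⁻¹ * (v : G)⁻¹ = ((v : G) * a * (v : G)⁻¹ * a⁻¹)⁻¹ := by group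
  rw [h4]
  have h5 : Commute a ((v : G) * a * (v : G)⁻¹ * a⁻¹) := h3.symm
  have h6 := h5.inv_right
  rw [h6.eq]
  group

theorem sub_main {G : Type*} [Group G] [Finite G] {p : ℕ} [Fact p.Prime] (hp : p ≠ 2)
    (V H : Subgroup G) (hV : Cfsg.IsElementaryAbelian p V)
    (hHV : H ≤ Subgroup.normalizer (V : Set G))
    (hf : H ⊓ Subgroup.centralizer (V : Set G) = ⊥) (a b : G)
    (hab : H = Subgroup.closure {a, b})
    (ha : ⁅⁅V, Subgroup.zpowers a⁆, Subgroup.zpowers a⁆ = ⊥)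
    (hb : ⁅⁅V, Subgroup.zpowers b⁆, Subgroup.zpowers b⁆ = ⊥)
    (Q : Subgroup G) (hQH : Q ≤ H) (hQn : H ≤ Subgroup.normalizer (Q : Set G))
    (hQ : (Nat.card Q).Coprime p) (hQa : ⁅Q, Subgroup.zpowers a⁆ ≠ ⊥) :
    p = 3 ∧ ∃ (K L : Subgroup G) (_ : (L.subgroupOf K).Normal), K ≤ H ∧
      Nonempty ((K ⧸ L.subgroupOf K) ≃* Matrix.SpecialLinearGroup (Fin 2) (ZMod 3)) := by
  obtain ⟨hVc, hVp⟩ := hV
  haveI := hVc
  have haH : a ∈ H := by
    rw [hab]; exact Subgroup.subset_closure (by simp)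
  have hbH : b ∈ H := by
    rw [hab]; exact Subgroup.subset_closure (by simp)
  have hV' : ∀ v : V, v ^ p = 1 := by
    intro v
    apply Subtype.ext
    rw [Subgroup.coe_pow]
    exact hVp v v.2
  have htop := closure_pair_subtype_eq_top H a b hab haH hbH
  haveI hQ'n : (Q.subgroupOf H).Normal :=
    (Subgroup.normal_subgroupOf_iff_le_normalizer hQH).mpr hQn
  have hQ'c : (Nat.card (Q.subgroupOf H)).Coprime p := by
    rw [Nat.card_congr (Subgroup.subgroupOfEquivOfLe hQH).toEquiv]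
    exact hQ
  -- nontrivial commutator element
  have hex : ∃ h ∈ ⁅Q.subgroupOf H, Subgroup.zpowers (⟨a, haH⟩ : H)⁆,
      conjRep V H hHV h ≠ 1 := by
    have hmap : (⁅Q.subgroupOf H, Subgroup.zpowers (⟨a, haH⟩ : H)⁆).map H.subtype =
        ⁅Q, Subgroup.zpowers a⁆ := by
      rw [Subgroup.map_commutator, Subgroup.map_subgroupOf_eq_of_le hQH, MonoidHom.map_zpowers,
        Subgroup.subtype_apply]
    obtain ⟨x, hx, hx1⟩ : ∃ x ∈ ⁅Q, Subgroup.zpowers a⁆, x ≠ 1 := by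
      by_contra hcon
      push Not at hcon
      exact hQa ((Subgroup.eq_bot_iff_forall _).2 hcon)
    rw [← hmap] at hx
    obtain ⟨y, hy, hyx⟩ := hx
    refine ⟨y, hy, ?_⟩
    intro hy1
    have hk : y ∈ (conjRep V H hHV).ker := hy1
    rw [mem_conjRep_ker] at hk
    have : (y : G) ∈ H ⊓ Subgroup.centralizer (V : Set G) := ⟨y.2, hk⟩
    rw [hf, Subgroup.mem_bot] at this
    apply hx1
    rw [← hyx]
    exact this
  obtain ⟨h3, M, N, hN, ⟨e⟩⟩ := mul_main hp hV' (conjRep V H hHV) ⟨a, haH⟩ ⟨b, hbH⟩ htop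
    (quad_conjRep V H hHV a haH ha) (quad_conjRep V H hHV b hbH hb) (Q.subgroupOf H) hQ'c hex
  refine ⟨h3, ?_⟩
  haveI := hN
  exact section_of_subgroup H M N e

end Cfsg.Agent.Helper18.QuadSL23
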