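import Mathlib
import Cfsg.Agent.Helper18.QuadPS2
import Cfsg.Agent.Helper18.QuadSL23d

/-! Two quadratic generators of a `p`-solvable group that does not act as a `p`-group:
`p = 3` and a section `SL(2,3)`. -/

set_option autoImplicit false
set_option linter.style.haveILetI false

namespace Cfsg.Agent.Helper18.QuadPS

open Cfsg Cfsg.Agent.Helper26 Polynomial

theorem isPSolvable_equiv {G H : Type*} [Group G] [Group H] {p : ℕ} (e : G ≃* H)
    (hG : Cfsg.IsPSolvable p G) : Cfsg.IsPSolvable p H := by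
  obtain ⟨n, K, h0, hlast, hmono, hnorm, hfac⟩ := hG
  refine ⟨n, fun i => (K i).map e.toMonoidHom, ?_, ?_, ?_, ?_, ?_⟩
  · simp only [h0, Subgroup.map_bot]
  · simp only [hlast]
    exact Subgroup.map_top_of_surjective _ e.surjective
  · intro i j hij
    exact Subgroup.map_mono (hmono hij)
  · intro i
    exact (hnorm i).map _ e.surjective
  · intro i
    rw [Subgroup.relIndex_map_map_of_injective _ _ e.injective]
    exact hfac i

section LinearForm

variable {p : ℕ} [hp : Fact p.Prime] {H : Type*} [Group H] [Finite H]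
variable {V : Type*} [AddCommGroup V] [Module (ZMod p) V] [Finite V]

/-- a homomorphism to `SL₂` of a finite field whose image is not a `p`-group -/
theorem exists_hom_sl2_finite' (ρ : H →* Module.End (ZMod p) V) (a b : H)
    (hab : Subgroup.closure ({a, b} : Set H) = ⊤) (hA : IsQuadEnd (ρ a)) (hB : IsQuadEnd (ρ b))
    (hnp : ¬ IsPRepOn p ρ ⊤) :
    ∃ (K : Type) (_ : Field K) (_ : Fintype K) (_ : CharP K p)
      (φ : H →* Matrix.SpecialLinearGroup (Fin 2) K),
      φ a ^ p = 1 ∧ φ b ^ p = 1 ∧ ¬ IsPGroup p φ.range := by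
  classical
  obtain ⟨n, hn⟩ : ∃ n, n = orderOf (a * b) := ⟨_, rfl⟩
  let f : (ZMod p)[X] := X ^ n - 1
  let K := f.SplittingField
  have hfin : Finite K := Module.finite_of_finite (ZMod p)
  have : Fintype K := Fintype.ofFinite K
  have hchar : CharP K p := charP_of_injective_algebraMap (algebraMap (ZMod p) K).injective p
  have hsplit : (X ^ n - 1 : K[X]).Splits := by
    have : f.map (algebraMap (ZMod p) K) = X ^ n - 1 := by
      simp [f]
    rw [← this]
    exact Polynomial.SplittingField.splits f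
  let 𝔟 := Module.finBasis (ZMod p) V
  let θ : Module.End (ZMod p) V →+* Module.End K (Fin (Module.finrank (ZMod p) V) → K) :=
    ((Matrix.toLinAlgEquiv' : Matrix (Fin (Module.finrank (ZMod p) V))
        (Fin (Module.finrank (ZMod p) V)) K ≃ₐ[K] _).toRingEquiv.toRingHom).comp
      (((algebraMap (ZMod p) K).mapMatrix).comp
        ((LinearMap.toMatrixAlgEquiv 𝔟 : Module.End (ZMod p) V ≃ₐ[ZMod p] _).toRingEquiv.toRingHom))
  have hθ : Function.Injective θ := by
    intro x y hxy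
    have h1 : (algebraMap (ZMod p) K).mapMatrix (LinearMap.toMatrixAlgEquiv 𝔟 x) =
        (algebraMap (ZMod p) K).mapMatrix (LinearMap.toMatrixAlgEquiv 𝔟 y) :=
      (Matrix.toLinAlgEquiv' : Matrix (Fin (Module.finrank (ZMod p) V))
        (Fin (Module.finrank (ZMod p) V)) K ≃ₐ[K] _).injective hxy
    have h3 : LinearMap.toMatrixAlgEquiv 𝔟 x = LinearMap.toMatrixAlgEquiv 𝔟 y :=
      Matrix.map_injective (algebraMap (ZMod p) K).injective h1
    exact (LinearMap.toMatrixAlgEquiv 𝔟).injective h3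
  let ρK : H →* Module.End K (Fin (Module.finrank (ZMod p) V) → K) :=
    (θ : _ →* _).comp ρ
  have hquad : ∀ x : H, IsQuadEnd (ρ x) → IsQuadEnd (ρK x) := by
    intro x hx
    rw [isQuadEnd_iff] at hx ⊢
    show (θ (ρ x) - 1) * (θ (ρ x) - 1) = 0
    rw [← map_one θ, ← map_sub, ← map_mul, hx, map_zero]
  have hnpK : ¬ IsPRepOn p ρK ⊤ := by
    intro hP
    apply hnp
    intro h hh
    obtain ⟨k, hk⟩ := hP h hh
    refine ⟨k, ?_⟩
    apply hθ
    rw [map_one]
    exact hk
  have hn0 : 0 < n := by rw [hn]; exact orderOf_pos _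
  obtain ⟨φ, hφ1, hφ2⟩ := exists_hom_sl2' (K := K) p a b hab n hn0
    (by rw [hn]; exact pow_orderOf_eq_one _) hsplit ⊤ _ _ ρK rfl (hquad a hA) (hquad b hB) hnpK
  refine ⟨K, inferInstance, inferInstance, hchar, φ, hφ1 a (hquad a hA), hφ1 b (hquad b hB), ?_⟩
  rw [MonoidHom.range_eq_map]
  exact hφ2

theorem linear_pair (hp2 : p ≠ 2) (ρ : H →* Module.End (ZMod p) V) (a b : H)
    (hab : Subgroup.closure ({a, b} : Set H) = ⊤) (hA : IsQuadEnd (ρ a)) (hB : IsQuadEnd (ρ b))
    (hnp : ¬ IsPRepOn p ρ ⊤) (hsolv : Cfsg.IsPSolvable p H) :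
    p = 3 ∧ ∃ (M N : Subgroup H) (_ : N.Normal),
      Nonempty ((M ⧸ N.subgroupOf M) ≃* Matrix.SpecialLinearGroup (Fin 2) (ZMod 3)) := by
  classical
  obtain ⟨K, _, _, _, φ, hφa, hφb, hφnp⟩ := exists_hom_sl2_finite' ρ a b hab hA hB hnp
  have hX : φ.range = Subgroup.closure ({φ a, φ b} : Set _) := by
    rw [MonoidHom.range_eq_map, ← hab, MonoidHom.map_closure]
    congr 1
    ext x
    simp [Set.image_insert_eq, Set.image_singleton]
  have hsolvX : Cfsg.IsPSolvable p φ.range :=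
    isPSolvable_equiv (QuotientGroup.quotientKerEquivRange φ)
      (Cfsg.Agent.Lead.isPSolvable_quotient hsolv φ.ker)
  obtain ⟨hp3, R, hRX, ⟨e⟩⟩ := sl2_psolv_main p hp2 (φ a) (φ b) hφa hφb φ.range hX hφnp hsolvX
  refine ⟨hp3, R.comap φ ⊔ Subgroup.zpowers a, φ.ker, inferInstance, ?_⟩
  obtain ⟨M, hM⟩ : ∃ M, M = R.comap φ ⊔ Subgroup.zpowers a := ⟨_, rfl⟩
  rw [← hM]
  have hmap : M.map φ = R ⊔ Subgroup.zpowers (φ a) := by
    rw [hM, Subgroup.map_sup, MonoidHom.map_zpowers, Subgroup.map_comap_eq_self hRX]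
  let ψ : M →* Matrix.SpecialLinearGroup (Fin 2) K := φ.comp M.subtype
  have hker : φ.ker.subgroupOf M = ψ.ker := rfl
  have hrange : ψ.range = R ⊔ Subgroup.zpowers (φ a) := by
    rw [← hmap, MonoidHom.range_comp, Subgroup.range_subtype]
  exact ⟨(QuotientGroup.quotientMulEquivOfEq hker).trans
    ((QuotientGroup.quotientKerEquivRange ψ).trans ((MulEquiv.subgroupCongr hrange).trans e))⟩

end LinearForm

section MulForm

variable {p : ℕ} [hp : Fact p.Prime] {H : Type*} [Group H] [Finite H]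
variable {V : Type*} [CommGroup V] [Finite V]

theorem mul_pair_aux [Module (ZMod p) (Additive V)] (hp2 : p ≠ 2) (ρ : H →* MulAut V)
    (a b : H) (hab : Subgroup.closure ({a, b} : Set H) = ⊤)
    (ha : ∀ v : V, ρ a (ρ a v / v) = ρ a v / v) (hb : ∀ v : V, ρ b (ρ b v / v) = ρ b v / v)
    (hnp : ∃ h : H, ∀ k : ℕ, ρ (h ^ p ^ k) ≠ 1) (hsolv : Cfsg.IsPSolvable p H) :
    p = 3 ∧ ∃ (M N : Subgroup H) (_ : N.Normal),
      Nonempty ((M ⧸ N.subgroupOf M) ≃* Matrix.SpecialLinearGroup (Fin 2) (ZMod 3)) := by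
  let ρL : H →* Module.End (ZMod p) (Additive V) :=
    { toFun := fun h => (MonoidHom.toAdditive ((ρ h : V ≃* V) : V →* V)).toZModLinearMap p
      map_one' := by
        ext x
        rw [map_one ρ]
        rfl
      map_mul' := fun g h => by
        ext x
        rw [map_mul ρ]
        rfl }
  have hone : ∀ h : H, ρL h = 1 → ρ h = 1 := by
    intro h hh
    ext v
    have := congrArg (fun f => f (Additive.ofMul v)) hh
    exact congrArg Additive.toMul this
  have hA : IsQuadEnd (ρL a) := by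
    intro w
    exact congrArg Additive.ofMul (ha w.toMul)
  have hB : IsQuadEnd (ρL b) := by
    intro w
    exact congrArg Additive.ofMul (hb w.toMul)
  obtain ⟨h, hh⟩ := hnp
  refine linear_pair hp2 ρL a b hab hA hB ?_ hsolv
  intro hP
  obtain ⟨k, hk⟩ := hP h (Subgroup.mem_top h)
  exact hh k (hone _ hk)

theorem mul_pair (hp2 : p ≠ 2) (hV : ∀ v : V, v ^ p = 1) (ρ : H →* MulAut V)
    (a b : H) (hab : Subgroup.closure ({a, b} : Set H) = ⊤)
    (ha : ∀ v : V, ρ a (ρ a v / v) = ρ a v / v) (hb : ∀ v : V, ρ b (ρ b v / v) = ρ b v / v)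
    (hnp : ∃ h : H, ∀ k : ℕ, ρ (h ^ p ^ k) ≠ 1) (hsolv : Cfsg.IsPSolvable p H) :
    p = 3 ∧ ∃ (M N : Subgroup H) (_ : N.Normal),
      Nonempty ((M ⧸ N.subgroupOf M) ≃* Matrix.SpecialLinearGroup (Fin 2) (ZMod 3)) :=
  @mul_pair_aux p hp H _ _ V _ _ (AddCommGroup.zmodModule (by
    intro x
    exact congrArg Additive.ofMul (hV x.toMul))) hp2 ρ a b hab ha hb hnp hsolv

end MulForm

end Cfsg.Agent.Helper18.QuadPS
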