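import Mathlib
import Cfsg.Agent.Helper18.QuadPS3
import Cfsg.Agent.Helper14.PCore

/-! A quadratic element outside `O_p` of a faithful `p`-solvable group: `p = 3`, section `SL(2,3)`. -/

set_option autoImplicit false
set_option linter.style.haveILetI false

namespace Cfsg.Agent.Helper18.QuadPS

open Cfsg Cfsg.Agent.Helper26
open scoped commutatorElement
open scoped IsMulCommutative

/-- a section of a subgroup is a section of the group (weak normality form) -/
theorem section_of_subgroup' {G : Type*} [Group G] (H : Subgroup G) (M N : Subgroup H)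
    [hN : (N.subgroupOf M).Normal]
    {X : Type*} [Group X] (e : (M ⧸ N.subgroupOf M) ≃* X) :
    ∃ (K L : Subgroup G) (_ : (L.subgroupOf K).Normal), K ≤ H ∧
      Nonempty ((K ⧸ L.subgroupOf K) ≃* X) := by
  obtain ⟨K, hK⟩ : ∃ K, K = M.map H.subtype := ⟨_, rfl⟩
  obtain ⟨L, hL⟩ : ∃ L, L = N.map H.subtype := ⟨_, rfl⟩
  have hKH : K ≤ H := by
    rw [hK]; exact Subgroup.map_subtype_le M
  let ι : M ≃* (M.map H.subtype) := M.equivMapOfInjective H.subtype H.subtype_injective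
  have hιv : ∀ m : M, ((ι m : M.map H.subtype) : G) = ((m : H) : G) := fun m => rfl
  subst hK
  have hmap : (N.subgroupOf M).map ι.toMonoidHom = L.subgroupOf (M.map H.subtype) := by
    ext ⟨k, hk⟩
    rw [Subgroup.mem_subgroupOf, hL]
    constructor
    · rintro ⟨m', hm', hm'k⟩
      have h1 : ((m' : H) : G) = k := by
        have := congrArg Subtype.val hm'k
        exact this
      exact ⟨(m' : H), Subgroup.mem_subgroupOf.1 hm', h1⟩
    · rintro ⟨n, hn, hnk⟩
      obtain ⟨m, hm, hmk⟩ := hk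
      have h1 : n = m := H.subtype_injective (hnk.trans hmk.symm)
      refine ⟨⟨n, h1 ▸ hm⟩, Subgroup.mem_subgroupOf.2 hn, ?_⟩
      apply Subtype.ext
      exact hnk
  have hnorm : (L.subgroupOf (M.map H.subtype)).Normal := by
    rw [← hmap]
    exact Subgroup.Normal.map hN _ ι.surjective
  refine ⟨M.map H.subtype, L, hnorm, hKH, ?_⟩
  exact ⟨(QuotientGroup.congr (N.subgroupOf M) (L.subgroupOf (M.map H.subtype)) ι hmap).symm.trans e⟩

section MulForm

variable {p : ℕ} [hp : Fact p.Prime] {H : Type*} [Group H] [Finite H]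
variable {V : Type*} [CommGroup V] [Finite V]

theorem quad_conj (ρ : H →* MulAut V) (a g : H)
    (ha : ∀ v : V, ρ a (ρ a v / v) = ρ a v / v) :
    ∀ v : V, ρ (g * a * g⁻¹) (ρ (g * a * g⁻¹) v / v) = ρ (g * a * g⁻¹) v / v := by
  intro v
  have e : ∀ w : V, ρ (g * a * g⁻¹) w = ρ g (ρ a (ρ g⁻¹ w)) := by
    intro w
    rw [map_mul, map_mul, MulAut.mul_apply, MulAut.mul_apply]
  have hgi : ∀ w : V, ρ g (ρ g⁻¹ w) = w := by
    intro w
    rw [← MulAut.mul_apply, ← map_mul, mul_inv_cancel, map_one, MulAut.one_apply]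
  have hgi' : ∀ w : V, ρ g⁻¹ (ρ g w) = w := by
    intro w
    rw [← MulAut.mul_apply, ← map_mul, inv_mul_cancel, map_one, MulAut.one_apply]
  obtain ⟨w, hw⟩ : ∃ w, w = ρ g⁻¹ v := ⟨_, rfl⟩
  have hv : v = ρ g w := by rw [hw, hgi]
  have h1 : ρ (g * a * g⁻¹) v / v = ρ g (ρ a w / w) := by
    rw [e, ← hw, map_div, ← hv]
  rw [h1, e, hgi', ha]

theorem mul_psolv (hp2 : p ≠ 2) (hV : ∀ v : V, v ^ p = 1) (ρ : H →* MulAut V)
    (hinj : ∀ h : H, ρ h = 1 → h = 1) (hsolv : Cfsg.IsPSolvable p H) (a : H)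
    (ha : ∀ v : V, ρ a (ρ a v / v) = ρ a v / v) (hna : a ∉ Cfsg.pCore p H) :
    p = 3 ∧ ∃ (M N : Subgroup H) (_ : (N.subgroupOf M).Normal),
      Nonempty ((M ⧸ N.subgroupOf M) ≃* Matrix.SpecialLinearGroup (Fin 2) (ZMod 3)) := by
  classical
  -- Baer–Suzuki
  obtain ⟨g, hg⟩ : ∃ g : H, ¬ IsPGroup p (Subgroup.closure ({a, g * a * g⁻¹} : Set H)) := by
    by_contra hcon
    push Not at hcon
    apply hna
    have h1 := Cfsg.Agent.Helper16.baer_suzuki_elt p a hcon
    exact Cfsg.Agent.Helper14.le_pCore p (Cfsg.Agent.Helper16.iInf_sylow_normal p)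
      (Cfsg.Agent.Helper16.iInf_sylow_isPGroup p) h1
  obtain ⟨L, hL⟩ : ∃ L, L = Subgroup.closure ({a, g * a * g⁻¹} : Set H) := ⟨_, rfl⟩
  rw [← hL] at hg
  have ha0 : a ∈ L := by rw [hL]; exact Subgroup.subset_closure (Set.mem_insert _ _)
  have hb0 : g * a * g⁻¹ ∈ L := by
    rw [hL]; exact Subgroup.subset_closure (Set.mem_insert_of_mem _ rfl)
  have hgen : Subgroup.closure ({(⟨a, ha0⟩ : L), ⟨g * a * g⁻¹, hb0⟩} : Set L) = ⊤ := by
    subst hL
    have := Subgroup.closure_closure_coe_preimage (k := ({a, g * a * g⁻¹} : Set H))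
    rw [← this]
    congr 1
    ext x
    simp only [Set.mem_insert_iff, Set.mem_singleton_iff, Set.mem_preimage]
    constructor
    · rintro (h | h)
      · left; rw [h]
      · right; rw [h]
    · rintro (h | h)
      · left; exact Subtype.ext h
      · right; exact Subtype.ext h
  have hsolvL : Cfsg.IsPSolvable p L :=
    Cfsg.Agent.Helper21.PSolv.isPSolvable_subgroup hp.out hsolv L
  have hnp : ∃ h : L, ∀ k : ℕ, (ρ.comp L.subtype) (h ^ p ^ k) ≠ 1 := by
    by_contra hcon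
    push Not at hcon
    apply hg
    intro h
    obtain ⟨k, hk⟩ := hcon h
    refine ⟨k, ?_⟩
    apply Subtype.ext
    exact hinj _ hk
  obtain ⟨h3, M, N, hN, ⟨e⟩⟩ := mul_pair hp2 hV (ρ.comp L.subtype) ⟨a, ha0⟩ ⟨g * a * g⁻¹, hb0⟩ hgen
    ha (quad_conj ρ a g ha) hnp hsolvL
  refine ⟨h3, ?_⟩
  haveI : (N.subgroupOf M).Normal := inferInstance
  obtain ⟨K', L', hL'n, _, he⟩ := section_of_subgroup' L M N e
  exact ⟨K', L', hL'n, he⟩

end MulForm

theorem sub_psolv {G : Type*} [Group G] [Finite G] {p : ℕ} [Fact p.Prime] (hp : p ≠ 2)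
    (V H : Subgroup G) (hV : Cfsg.IsElementaryAbelian p V)
    (hHV : H ≤ Subgroup.normalizer (V : Set G))
    (hf : H ⊓ Subgroup.centralizer (V : Set G) = ⊥) (hsep : Cfsg.IsPSolvable p H) (a : G)
    (haH : a ∈ H) (hq : ⁅⁅V, Subgroup.zpowers a⁆, Subgroup.zpowers a⁆ = ⊥)
    (hna : a ∉ (Cfsg.pCore p H).map H.subtype) :
    p = 3 ∧ ∃ (K L : Subgroup G) (_ : (L.subgroupOf K).Normal), K ≤ H ∧
      Nonempty ((K ⧸ L.subgroupOf K) ≃* Matrix.SpecialLinearGroup (Fin 2) (ZMod 3)) := by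
  obtain ⟨hVc, hVp⟩ := hV
  haveI := hVc
  have hV' : ∀ v : V, v ^ p = 1 := by
    intro v
    apply Subtype.ext
    rw [Subgroup.coe_pow]
    exact hVp v v.2
  have hinj : ∀ h : H, conjRep V H hHV h = 1 → h = 1 := by
    intro h hh
    have hk : h ∈ (conjRep V H hHV).ker := hh
    rw [mem_conjRep_ker] at hk
    have : (h : G) ∈ H ⊓ Subgroup.centralizer (V : Set G) := ⟨h.2, hk⟩
    rw [hf, Subgroup.mem_bot] at this
    exact Subtype.ext this
  have hna' : (⟨a, haH⟩ : H) ∉ Cfsg.pCore p H := by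
    intro hmem
    exact hna ⟨⟨a, haH⟩, hmem, rfl⟩
  obtain ⟨h3, M, N, hN, ⟨e⟩⟩ := mul_psolv hp hV' (conjRep V H hHV) hinj hsep ⟨a, haH⟩
    (Cfsg.Agent.Helper18.QuadSL23.quad_conjRep V H hHV a haH hq) hna'
  refine ⟨h3, ?_⟩
  haveI := hN
  exact section_of_subgroup' H M N e

end Cfsg.Agent.Helper18.QuadPS
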