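import Mathlib
import Cfsg.Agent.Helper18.QuadPS4
import Cfsg.Agent.Helper18.Dickson11

/-! A quadratic element outside `O_p` of a faithful group on an elementary abelian `p`-group
(`p` odd): a section `SL(2,p)` (via Dickson's theorem). -/

set_option autoImplicit false
set_option linter.style.haveILetI false

namespace Cfsg.Agent.Helper18.QuadGen

open Cfsg Cfsg.Agent.Helper26 Cfsg.Agent.Helper18.QuadPS
open scoped commutatorElement
open scoped IsMulCommutative

/-- A subgroup of `SL₂(K)` generated by two `p`-elements which is not a `p`-group contains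
`SL₂(p)`. -/
theorem sl2_main {K : Type*} [Field K] [Finite K] (p : ℕ) [Fact p.Prime] [CharP K p] (hp : p ≠ 2)
    (x y : Matrix.SpecialLinearGroup (Fin 2) K)
    (hx : x ^ p = 1) (hy : y ^ p = 1) (X : Subgroup (Matrix.SpecialLinearGroup (Fin 2) K))
    (hX : X = Subgroup.closure ({x, y} : Set (Matrix.SpecialLinearGroup (Fin 2) K)))
    (hnp : ¬ IsPGroup p X) :
    ∃ R : Subgroup (Matrix.SpecialLinearGroup (Fin 2) K), R ≤ X ∧
      Nonempty (R ≃* Matrix.SpecialLinearGroup (Fin 2) (ZMod p)) := by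
  classical
  apply Cfsg.Agent.Helper18.Dickson.exists_sl2p_subgroup p hp X
  by_contra hcon
  have hle : Nat.card (Sylow p X) ≤ 1 := by omega
  have hss : Subsingleton (Sylow p X) := (Finite.card_le_one_iff_subsingleton).1 hle
  apply hnp
  obtain ⟨P⟩ : Nonempty (Sylow p X) := inferInstance
  have hxX : x ∈ X := by rw [hX]; exact Subgroup.subset_closure (by simp)
  have hyX : y ∈ X := by rw [hX]; exact Subgroup.subset_closure (by simp)
  have key : ∀ z : X, z ^ p = 1 → z ∈ (P : Subgroup X) := by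
    intro z hz
    obtain ⟨Q, hQ⟩ := (isPGroup_zpowers_of_pow_eq_one p z hz).exists_le_sylow
    rw [Subsingleton.elim P Q]
    exact hQ (Subgroup.mem_zpowers z)
  have htop : (P : Subgroup X) = ⊤ := by
    rw [eq_top_iff]
    have h1 : (⊤ : Subgroup X) = Subgroup.closure ({⟨x, hxX⟩, ⟨y, hyX⟩} : Set X) := by
      subst hX
      have := Subgroup.closure_closure_coe_preimage
        (k := ({x, y} : Set (Matrix.SpecialLinearGroup (Fin 2) K)))
      rw [← this]
      congr 1
      ext z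
      simp only [Set.mem_insert_iff, Set.mem_singleton_iff, Set.mem_preimage]
      constructor
      · rintro (h | h)
        · left; exact Subtype.ext h
        · right; exact Subtype.ext h
      · rintro (h | h)
        · left; rw [h]
        · right; rw [h]
    rw [h1, Subgroup.closure_le]
    rintro z (rfl | rfl)
    · exact key _ (Subtype.ext (by simpa using hx))
    · exact key _ (Subtype.ext (by simpa using hy))
  have := P.isPGroup'
  rw [htop] at this
  exact this.of_equiv Subgroup.topEquiv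

section LinearForm

variable {p : ℕ} [hp : Fact p.Prime] {H : Type*} [Group H] [Finite H]
variable {V : Type*} [AddCommGroup V] [Module (ZMod p) V] [Finite V]

theorem linear_pair_gen (hp2 : p ≠ 2) (ρ : H →* Module.End (ZMod p) V) (a b : H)
    (hab : Subgroup.closure ({a, b} : Set H) = ⊤) (hA : IsQuadEnd (ρ a)) (hB : IsQuadEnd (ρ b))
    (hnp : ¬ IsPRepOn p ρ ⊤) :
    ∃ (M N : Subgroup H) (_ : N.Normal),
      Nonempty ((M ⧸ N.subgroupOf M) ≃* Matrix.SpecialLinearGroup (Fin 2) (ZMod p)) := by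
  classical
  obtain ⟨K, _, _, _, φ, hφa, hφb, hφnp⟩ := exists_hom_sl2_finite' ρ a b hab hA hB hnp
  have hX : φ.range = Subgroup.closure ({φ a, φ b} : Set _) := by
    rw [MonoidHom.range_eq_map, ← hab, MonoidHom.map_closure]
    congr 1
    ext x
    simp [Set.image_insert_eq, Set.image_singleton]
  obtain ⟨R, hRX, ⟨e⟩⟩ := sl2_main p hp2 (φ a) (φ b) hφa hφb φ.range hX hφnp
  refine ⟨R.comap φ, φ.ker, inferInstance, ?_⟩
  obtain ⟨M, hM⟩ : ∃ M, M = R.comap φ := ⟨_, rfl⟩
  rw [← hM]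
  have hmap : M.map φ = R := by
    rw [hM, Subgroup.map_comap_eq_self hRX]
  let ψ : M →* Matrix.SpecialLinearGroup (Fin 2) K := φ.comp M.subtype
  have hker : φ.ker.subgroupOf M = ψ.ker := rfl
  have hrange : ψ.range = R := by
    rw [← hmap, MonoidHom.range_comp, Subgroup.range_subtype]
  exact ⟨(QuotientGroup.quotientMulEquivOfEq hker).trans
    ((QuotientGroup.quotientKerEquivRange ψ).trans ((MulEquiv.subgroupCongr hrange).trans e))⟩

end LinearForm

section MulForm

variable {p : ℕ} [hp : Fact p.Prime] {H : Type*} [Group H] [Finite H]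
variable {V : Type*} [CommGroup V] [Finite V]

theorem mul_pair_gen_aux [Module (ZMod p) (Additive V)] (hp2 : p ≠ 2) (ρ : H →* MulAut V)
    (a b : H) (hab : Subgroup.closure ({a, b} : Set H) = ⊤)
    (ha : ∀ v : V, ρ a (ρ a v / v) = ρ a v / v) (hb : ∀ v : V, ρ b (ρ b v / v) = ρ b v / v)
    (hnp : ∃ h : H, ∀ k : ℕ, ρ (h ^ p ^ k) ≠ 1) :
    ∃ (M N : Subgroup H) (_ : N.Normal),
      Nonempty ((M ⧸ N.subgroupOf M) ≃* Matrix.SpecialLinearGroup (Fin 2) (ZMod p)) := by
  let ρL : H →* Module.End (ZMod p) (Additive V) :=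
    { toFun := fun h => (MonoidHom.toAdditive ((ρ h : V ≃* V) : V →* V)).toZModLinearMap p
      map_one' := by
        ext x
        rw [map_one ρ]
        rfl
      map_mul' := fun g h => by
        ext x
        rw [map_mul ρ]
        rfl }
  have hone : ∀ h : H, ρL h = 1 → ρ h = 1 := by
    intro h hh
    ext v
    have := congrArg (fun f => f (Additive.ofMul v)) hh
    exact congrArg Additive.toMul this
  have hA : IsQuadEnd (ρL a) := by
    intro w
    exact congrArg Additive.ofMul (ha w.toMul)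
  have hB : IsQuadEnd (ρL b) := by
    intro w
    exact congrArg Additive.ofMul (hb w.toMul)
  obtain ⟨h, hh⟩ := hnp
  refine linear_pair_gen hp2 ρL a b hab hA hB ?_
  intro hP
  obtain ⟨k, hk⟩ := hP h (Subgroup.mem_top h)
  exact hh k (hone _ hk)

theorem mul_pair_gen (hp2 : p ≠ 2) (hV : ∀ v : V, v ^ p = 1) (ρ : H →* MulAut V)
    (a b : H) (hab : Subgroup.closure ({a, b} : Set H) = ⊤)
    (ha : ∀ v : V, ρ a (ρ a v / v) = ρ a v / v) (hb : ∀ v : V, ρ b (ρ b v / v) = ρ b v / v)
    (hnp : ∃ h : H, ∀ k : ℕ, ρ (h ^ p ^ k) ≠ 1) :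
    ∃ (M N : Subgroup H) (_ : N.Normal),
      Nonempty ((M ⧸ N.subgroupOf M) ≃* Matrix.SpecialLinearGroup (Fin 2) (ZMod p)) :=
  @mul_pair_gen_aux p hp H _ _ V _ _ (AddCommGroup.zmodModule (by
    intro x
    exact congrArg Additive.ofMul (hV x.toMul))) hp2 ρ a b hab ha hb hnp

theorem mul_gen (hp2 : p ≠ 2) (hV : ∀ v : V, v ^ p = 1) (ρ : H →* MulAut V)
    (hinj : ∀ h : H, ρ h = 1 → h = 1) (a : H)
    (ha : ∀ v : V, ρ a (ρ a v / v) = ρ a v / v) (hna : a ∉ Cfsg.pCore p H) :
    ∃ (M N : Subgroup H) (_ : (N.subgroupOf M).Normal),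
      Nonempty ((M ⧸ N.subgroupOf M) ≃* Matrix.SpecialLinearGroup (Fin 2) (ZMod p)) := by
  classical
  -- Baer–Suzuki
  obtain ⟨g, hg⟩ : ∃ g : H, ¬ IsPGroup p (Subgroup.closure ({a, g * a * g⁻¹} : Set H)) := by
    by_contra hcon
    push Not at hcon
    apply hna
    have h1 := Cfsg.Agent.Helper16.baer_suzuki_elt p a hcon
    exact Cfsg.Agent.Helper14.le_pCore p (Cfsg.Agent.Helper16.iInf_sylow_normal p)
      (Cfsg.Agent.Helper16.iInf_sylow_isPGroup p) h1
  obtain ⟨L, hL⟩ : ∃ L, L = Subgroup.closure ({a, g * a * g⁻¹} : Set H) := ⟨_, rfl⟩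
  rw [← hL] at hg
  have ha0 : a ∈ L := by rw [hL]; exact Subgroup.subset_closure (Set.mem_insert _ _)
  have hb0 : g * a * g⁻¹ ∈ L := by
    rw [hL]; exact Subgroup.subset_closure (Set.mem_insert_of_mem _ rfl)
  have hgen : Subgroup.closure ({(⟨a, ha0⟩ : L), ⟨g * a * g⁻¹, hb0⟩} : Set L) = ⊤ := by
    subst hL
    have := Subgroup.closure_closure_coe_preimage (k := ({a, g * a * g⁻¹} : Set H))
    rw [← this]
    congr 1
    ext x
    simp only [Set.mem_insert_iff, Set.mem_singleton_iff, Set.mem_preimage]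
    constructor
    · rintro (h | h)
      · left; rw [h]
      · right; rw [h]
    · rintro (h | h)
      · left; exact Subtype.ext h
      · right; exact Subtype.ext h
  have hnp : ∃ h : L, ∀ k : ℕ, (ρ.comp L.subtype) (h ^ p ^ k) ≠ 1 := by
    by_contra hcon
    push Not at hcon
    apply hg
    intro h
    obtain ⟨k, hk⟩ := hcon h
    refine ⟨k, ?_⟩
    apply Subtype.ext
    exact hinj _ hk
  obtain ⟨M, N, hN, ⟨e⟩⟩ := mul_pair_gen hp2 hV (ρ.comp L.subtype) ⟨a, ha0⟩ ⟨g * a * g⁻¹, hb0⟩ hgen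
    ha (quad_conj ρ a g ha) hnp
  haveI : (N.subgroupOf M).Normal := inferInstance
  obtain ⟨K', L', hL'n, _, he⟩ := section_of_subgroup' L M N e
  exact ⟨K', L', hL'n, he⟩

end MulForm

/-- **Quadratic element outside `O_p` gives a section `SL(2,p)`.** -/
theorem sub_gen {G : Type*} [Group G] [Finite G] {p : ℕ} [Fact p.Prime] (hp : p ≠ 2)
    (V H : Subgroup G) (hV : Cfsg.IsElementaryAbelian p V)
    (hHV : H ≤ Subgroup.normalizer (V : Set G))
    (hf : H ⊓ Subgroup.centralizer (V : Set G) = ⊥) (a : G)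
    (haH : a ∈ H) (hq : ⁅⁅V, Subgroup.zpowers a⁆, Subgroup.zpowers a⁆ = ⊥)
    (hna : a ∉ (Cfsg.pCore p H).map H.subtype) :
    ∃ (K L : Subgroup G) (_ : (L.subgroupOf K).Normal), K ≤ H ∧
      Nonempty ((K ⧸ L.subgroupOf K) ≃* Matrix.SpecialLinearGroup (Fin 2) (ZMod p)) := by
  obtain ⟨hVc, hVp⟩ := hV
  haveI := hVc
  have hV' : ∀ v : V, v ^ p = 1 := by
    intro v
    apply Subtype.ext
    rw [Subgroup.coe_pow]
    exact hVp v v.2
  have hinj : ∀ h : H, conjRep V H hHV h = 1 → h = 1 := by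
    intro h hh
    have hk : h ∈ (conjRep V H hHV).ker := hh
    rw [mem_conjRep_ker] at hk
    have : (h : G) ∈ H ⊓ Subgroup.centralizer (V : Set G) := ⟨h.2, hk⟩
    rw [hf, Subgroup.mem_bot] at this
    exact Subtype.ext this
  have hna' : (⟨a, haH⟩ : H) ∉ Cfsg.pCore p H := by
    intro hmem
    exact hna ⟨⟨a, haH⟩, hmem, rfl⟩
  obtain ⟨M, N, hN, ⟨e⟩⟩ := mul_gen hp hV' (conjRep V H hHV) hinj (⟨a, haH⟩ : H)
    (Cfsg.Agent.Helper18.QuadSL23.quad_conjRep V H hHV a haH hq) hna'
  haveI := hN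
  exact section_of_subgroup' H M N e

end Cfsg.Agent.Helper18.QuadGen
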