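import Mathlib
import Cfsg.Agent.Helper18.BG16Ba
import Cfsg.Agent.Helper21.BG13a
import Cfsg.Agent.S1403

/-!
# B&G Theorem B: elements of `M` of prime order outside `σ(M) ∪ κ(M)` with fixed points on `M_σ`
have order in `τ₂(M)`.
-/

set_option autoImplicit false
set_option linter.unusedSectionVars false
set_option linter.unusedVariables false

namespace Cfsg.Agent.Helper18.BG16B

open Subgroup Cfsg
open Cfsg.Agent.H9.BG12 (St1350 St1420)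
open Cfsg.Agent.Helper21.BG10 (Uniq96 rank_one_sylow conj_mem_sigmaCore alpha_subset_sigma)

universe u
variable {G : Type u} [Group G] [Finite G]

theorem uniq96 (hG : Cfsg.IsMinSimpleOddOrder G) : Uniq96 G :=
  fun K h1 h2 h3 => Cfsg.Agent.S1403.result hG K h1 h2 h3

theorem prime_ne_two (hG : Cfsg.IsMinSimpleOddOrder G) {M : Subgroup G} {p : ℕ}
    (hpM : p ∣ Nat.card M) : p ≠ 2 := by
  rintro rfl
  have h2 : 2 ∣ Nat.card G := hpM.trans (Subgroup.card_subgroup_dvd_card M)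
  exact (Nat.not_even_iff_odd.mpr hG.1) (even_iff_two_dvd.mpr h2)

/-- an element of order `p` of `M`, `p ∉ σ(M) ∪ κ(M)` of rank one, acts freely on `M_σ` -/
theorem fpf_of_rank_one_not_kappa {M : Subgroup G} {p : ℕ} [hp : Fact p.Prime] (hp2 : p ≠ 2)
    (hpM : p ∣ Nat.card M) (hpσ : p ∉ Cfsg.sigma M) (hpκ : p ∉ Cfsg.kappa M)
    (h1 : Cfsg.PRankLE p 1 ↥M) {z : G} (hzM : z ∈ M) (hz1 : z ≠ 1) (hzp : z ^ p = 1) :
    Cfsg.sigmaCore M ⊓ Subgroup.centralizer ({z} : Set G) = ⊥ := by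
  rw [eq_bot_iff]
  intro y hy
  rw [Subgroup.mem_bot]
  by_contra hy1
  obtain ⟨hyσ, hyz⟩ := Subgroup.mem_inf.mp hy
  rw [Subgroup.mem_centralizer_singleton_iff] at hyz
  have hκ : ¬ ∀ P : Sylow p M, IsCyclic P ∧
      ∃ x : M, x ∈ (P : Subgroup M) ∧ x ≠ 1 ∧ ∃ y ∈ Cfsg.sigmaCore M, y ≠ 1 ∧
        (x : G) * y = y * x := fun h => hpκ ⟨hp.out, hpM, hpσ, h⟩
  push Not at hκ
  obtain ⟨P₁, hP₁⟩ := hκ
  have hP₁1 : (P₁ : Subgroup M) ≠ ⊥ := Sylow.ne_bot_of_dvd_card P₁ hpM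
  obtain ⟨-, -, -, -, -, hP₁c⟩ := rank_one_sylow hp2 h1 P₁ hP₁1
  have hP₁' := hP₁ hP₁c
  -- a Sylow subgroup containing z
  set z₀ : M := ⟨z, hzM⟩ with hz₀
  have hz₀p : z₀ ^ p = 1 := Subtype.ext (by simpa using hzp)
  have hz₀1 : z₀ ≠ 1 := fun h => hz1 (congrArg Subtype.val h)
  have hZp : IsPGroup p (Subgroup.zpowers z₀) := by
    rintro ⟨_, i, rfl⟩
    refine ⟨1, ?_⟩
    apply Subtype.ext
    simp only [pow_one, Subgroup.coe_pow, Subgroup.coe_one]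
    rw [← zpow_natCast, ← zpow_mul, mul_comm, zpow_mul, zpow_natCast, hz₀p, one_zpow]
  obtain ⟨S, hS⟩ := hZp.exists_le_sylow
  have hz₀S : z₀ ∈ (S : Subgroup M) := hS (Subgroup.mem_zpowers z₀)
  obtain ⟨m, hm⟩ := MulAction.exists_smul_eq M S P₁
  have hx₁ : m * z₀ * m⁻¹ ∈ (P₁ : Subgroup M) := by
    rw [← hm, Sylow.coe_subgroup_smul, Subgroup.mem_pointwise_smul_iff_inv_smul_mem]
    have h3 : (MulAut.conj m)⁻¹ • (m * z₀ * m⁻¹) = z₀ := by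
      rw [MulAut.smul_def, MulAut.inv_apply, MulAut.conj_symm_apply]; group
    rw [h3]; exact hz₀S
  have hx₁1 : m * z₀ * m⁻¹ ≠ 1 := by
    intro h
    apply hz₀1
    have : z₀ = m⁻¹ * (m * z₀ * m⁻¹) * m := by group
    rw [this, h]; group
  have hy₁ : (m : G) * y * (m : G)⁻¹ ∈ Cfsg.sigmaCore M := conj_mem_sigmaCore m.2 hyσ
  have hy₁1 : (m : G) * y * (m : G)⁻¹ ≠ 1 := by
    intro h
    apply hy1
    have : y = (m : G)⁻¹ * ((m : G) * y * (m : G)⁻¹) * (m : G) := by group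
    rw [this, h]; group
  apply hP₁' (m * z₀ * m⁻¹) hx₁ hx₁1 _ hy₁ hy₁1
  push_cast
  show (m : G) * z * (m : G)⁻¹ * ((m : G) * y * (m : G)⁻¹) = _
  calc (m : G) * z * (m : G)⁻¹ * ((m : G) * y * (m : G)⁻¹)
      = (m : G) * (z * y) * (m : G)⁻¹ := by group
    _ = (m : G) * (y * z) * (m : G)⁻¹ := by rw [hyz]
    _ = (m : G) * y * (m : G)⁻¹ * ((m : G) * z * (m : G)⁻¹) := by group

/-- an element of order `p ∉ σ(M) ∪ κ(M)` of `M` with a fixed point on `M_σ` has `p ∈ τ₂(M)` -/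
theorem mem_tau2_of_fixed (hG : Cfsg.IsMinSimpleOddOrder G) {M : Subgroup G} (hM : IsCoatom M)
    {p : ℕ} (hp : p.Prime) (hpσ : p ∉ Cfsg.sigma M) (hpκ : p ∉ Cfsg.kappa M)
    {x y : G} (hxM : x ∈ M) (hx1 : x ≠ 1) (hxp : x ^ p = 1) (hy : y ∈ Cfsg.sigmaCore M)
    (hy1 : y ≠ 1) (hxy : x * y = y * x) : p ∈ Cfsg.tau2 M := by
  haveI : Fact p.Prime := ⟨hp⟩
  have hox : orderOf x = p := orderOf_eq_prime hxp hx1
  have hpM : p ∣ Nat.card M := by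
    have h1 : orderOf (⟨x, hxM⟩ : M) = orderOf x := Subgroup.orderOf_mk x hxM
    rw [← hox, ← h1]
    exact orderOf_dvd_natCard _
  have hp2 : p ≠ 2 := prime_ne_two hG hpM
  refine ⟨hp, hpσ, ?_, ?_⟩
  · by_contra h
    exact hpσ (alpha_subset_sigma hG (uniq96 hG) hM ⟨hp, h⟩)
  · intro h1
    have h2 := fpf_of_rank_one_not_kappa hp2 hpM hpσ hpκ h1 hxM hx1 hxp
    have h3 : y ∈ Cfsg.sigmaCore M ⊓ Subgroup.centralizer ({x} : Set G) := by
      refine Subgroup.mem_inf.mpr ⟨hy, ?_⟩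
      rw [Subgroup.mem_centralizer_singleton_iff]
      exact hxy.symm
    rw [h2, Subgroup.mem_bot] at h3
    exact hy1 h3

end Cfsg.Agent.Helper18.BG16B
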