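import Mathlib
import Cfsg.Prelude.Def_OddOrderLocal
import Cfsg.Agent.S1453
import Cfsg.Agent.Helper19.RankTwoStructC
import Cfsg.Agent.Helper26.Thompson

/-!
# B&G Lemma 5.2/5.3: a `p`-group (p odd) with a maximal elementary abelian subgroup of order `p ^ 2`
is narrow in the sense of `Cfsg.IsNarrow`.
-/

set_option autoImplicit false
set_option linter.unusedSectionVars false

namespace Cfsg.Agent.Helper18.BG108

open Subgroup

theorem isNarrow_of_max_elementary {R : Type*} [Group R] [Finite R] (p : ℕ) [hp : Fact p.Prime]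
    (hp2 : p ≠ 2) (hR : IsPGroup p R) (hr : ¬ Cfsg.PRankLE p 2 R)
    (E : Subgroup R) (hE : Cfsg.IsElementaryAbelian p E) (hE2 : Nat.card E = p ^ 2)
    (hEmax : ∀ B : Subgroup R, Cfsg.IsElementaryAbelian p B → E ≤ B → B = E) :
    Cfsg.IsNarrow p R := by
  obtain ⟨h1, h2, -, h4, h5⟩ := Cfsg.Agent.S1453.result p hp2 hR hr E hE hE2 hEmax
  set W := Subgroup.closure {x : R | x ∈ Subgroup.upperCentralSeries R 2 ∧ x ^ p = 1} with hW
  set T := Subgroup.centralizer (W : Set R) with hT
  set Z0 := Subgroup.closure {x : R | x ∈ Subgroup.center R ∧ x ^ p = 1} with hZ0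
  have hTn : T.Normal := inferInstance
  -- Z0 central
  have hZ0c : Z0 ≤ Subgroup.center R := by
    rw [hZ0, Subgroup.closure_le]
    intro x hx
    exact hx.1
  have hZ0p : ∀ z ∈ Z0, z ^ p = 1 := by
    intro z hz
    have h := pow_card_eq_one' (G := ↥Z0) (x := ⟨z, hz⟩)
    rw [h2] at h
    simpa using congrArg Subtype.val h
  have hZ0E : Cfsg.IsElementaryAbelian p Z0 := by
    rw [Cfsg.Agent.Helper26.isElementaryAbelian_iff]
    refine ⟨fun a ha b _ => ?_, hZ0p⟩
    exact ((Subgroup.mem_center_iff.mp (hZ0c ha)) b).symm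
  -- Z0 ≤ E
  have hZ0leE : Z0 ≤ E := by
    have hB : Cfsg.IsElementaryAbelian p (E ⊔ Z0) :=
      Cfsg.Agent.Helper26.isElementaryAbelian_sup hE hZ0E
        (fun a _ b hb => (Subgroup.mem_center_iff.mp (hZ0c hb)) a)
    have := hEmax _ hB le_sup_left
    rw [← this]
    exact le_sup_right
  have hcT : Subgroup.center R ≤ T := Subgroup.center_le_centralizer _
  -- pick s
  obtain ⟨s, hsE, hsT⟩ := SetLike.not_le_iff_exists.mp h1
  have hsp : s ^ p = 1 := hE.2 s hsE
  have hs1 : s ≠ 1 := fun h => hsT (h ▸ Subgroup.one_mem _)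
  have hos : orderOf s = p := orderOf_eq_prime hsp hs1
  -- decomposition
  have hdec : ∀ c : R, ∃ i : ℤ, (s ^ i)⁻¹ * c ∈ T := by
    intro c
    have hcard : Nat.card (R ⧸ T) = p := by
      rw [← Subgroup.index_eq_card]; exact h5
    have hne : (QuotientGroup.mk s : R ⧸ T) ≠ 1 := by
      intro h
      exact hsT ((QuotientGroup.eq_one_iff s).mp h)
    have hmem : (QuotientGroup.mk c : R ⧸ T) ∈ Subgroup.zpowers (QuotientGroup.mk s : R ⧸ T) :=
      mem_zpowers_of_prime_card hcard hne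
    obtain ⟨i, hi⟩ := Subgroup.mem_zpowers_iff.mp hmem
    refine ⟨i, ?_⟩
    rw [← QuotientGroup.eq_one_iff]
    rw [QuotientGroup.mk_mul, QuotientGroup.mk_inv, QuotientGroup.mk_zpow, hi]
    group
  -- E ⊓ T = Z0
  have hET : E ⊓ T = Z0 := by
    symm
    apply Subgroup.eq_of_le_of_card_ge (le_inf hZ0leE (hZ0c.trans hcT))
    rw [h2]
    have hdvd : Nat.card ↥(E ⊓ T) ∣ p ^ 2 := by
      rw [← hE2]; exact Subgroup.card_dvd_of_le inf_le_left
    obtain ⟨k, hk, hkc⟩ := (Nat.dvd_prime_pow hp.out).mp hdvd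
    have hk2 : k ≠ 2 := by
      intro hk2
      apply h1
      have : E ⊓ T = E := by
        apply Subgroup.eq_of_le_of_card_ge inf_le_left
        rw [hkc, hk2, hE2]
      rw [← this]; exact inf_le_right
    have hk1 : k ≤ 1 := by omega
    rw [hkc]
    calc p ^ k ≤ p ^ 1 := Nat.pow_le_pow_right hp.out.pos hk1
      _ = p := pow_one p
  -- every element of E is s^i * central
  have hEdec : ∀ e ∈ E, ∃ i : ℤ, (s ^ i)⁻¹ * e ∈ Z0 := by
    intro e he
    obtain ⟨i, hi⟩ := hdec e
    refine ⟨i, ?_⟩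
    rw [← hET]
    exact ⟨Subgroup.mul_mem _ (Subgroup.inv_mem _ (Subgroup.zpow_mem _ hsE i)) he, hi⟩
  -- the two subgroups
  set R0 := Subgroup.zpowers s with hR0
  set R1 := T ⊓ Subgroup.centralizer (R0 : Set R) with hR1
  have hcomm_s : ∀ x ∈ R1, x * s = s * x := by
    intro x hx
    have := Subgroup.mem_centralizer_iff.mp hx.2 s (Subgroup.mem_zpowers s)
    exact this.symm
  right
  refine ⟨R0, R1, ?_, ?_, ?_, ?_, ?_⟩
  · rw [hR0, Nat.card_zpowers, hos]
  · -- cyclic
    apply Cfsg.Agent.Helper19.RankTwoStruct.isCyclic_of_omega_le hp2 R1 Z0 (hR.to_subgroup R1) h2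
    intro x hx hxp
    -- x commutes with E
    have hxE : ∀ e ∈ E, x * e = e * x := by
      intro e he
      obtain ⟨i, hi⟩ := hEdec e he
      have hz : (s ^ i)⁻¹ * e ∈ Subgroup.center R := hZ0c hi
      have hxs : Commute x (s ^ i) := (Commute.zpow_right (hcomm_s x hx) i)
      obtain ⟨z, hzc, rfl⟩ : ∃ z ∈ Subgroup.center R, e = s ^ i * z :=
        ⟨(s ^ i)⁻¹ * e, hz, by group⟩
      have hxz : x * z = z * x := (Subgroup.mem_center_iff.mp hzc) x
      calc x * (s ^ i * z) = (x * s ^ i) * z := by rw [mul_assoc]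
        _ = (s ^ i * x) * z := by rw [hxs.eq]
        _ = s ^ i * (x * z) := by rw [mul_assoc]
        _ = s ^ i * (z * x) := by rw [hxz]
        _ = (s ^ i * z) * x := by rw [mul_assoc]
    have hB : Cfsg.IsElementaryAbelian p (E ⊔ Subgroup.zpowers x) := by
      apply Cfsg.Agent.Helper26.isElementaryAbelian_sup hE
        (Cfsg.Agent.Helper26.isElementaryAbelian_zpowers_of_orderOf_eq hxp)
      intro a ha b hb
      obtain ⟨j, rfl⟩ := Subgroup.mem_zpowers_iff.mp hb
      exact ((Commute.zpow_left (hxE a ha) j).eq).symm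
    have hBE := hEmax _ hB le_sup_left
    have hxinE : x ∈ E := by
      rw [← hBE]; exact (le_sup_right : Subgroup.zpowers x ≤ _) (Subgroup.mem_zpowers x)
    rw [← hET]
    exact ⟨hxinE, hx.1⟩
  · -- R0 ⊓ R1 = ⊥
    rw [Subgroup.eq_bot_iff_forall]
    intro x hx
    by_contra hx1
    obtain ⟨hx0, hxR1⟩ := hx
    -- x nontrivial in zpowers s of prime order => s ∈ zpowers x
    have hcardR0 : Nat.card R0 = p := by rw [hR0, Nat.card_zpowers, hos]
    have hne : (⟨x, hx0⟩ : ↥R0) ≠ 1 := by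
      intro h; exact hx1 (congrArg Subtype.val h)
    have hmem : (⟨s, Subgroup.mem_zpowers s⟩ : ↥R0) ∈ Subgroup.zpowers (⟨x, hx0⟩ : ↥R0) :=
      mem_zpowers_of_prime_card hcardR0 hne
    obtain ⟨j, hj⟩ := Subgroup.mem_zpowers_iff.mp hmem
    have hj' : x ^ j = s := by
      have := congrArg Subtype.val hj
      simpa using this
    apply hsT
    rw [← hj']
    exact Subgroup.zpow_mem _ hxR1.1 j
  · intro a ha b hb
    obtain ⟨j, rfl⟩ := Subgroup.mem_zpowers_iff.mp ha
    exact ((Commute.zpow_right (hcomm_s b hb) j).eq).symm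
  · apply le_antisymm
    · apply sup_le
      · -- R0 abelian
        intro a ha
        rw [Subgroup.mem_centralizer_iff]
        intro b hb
        obtain ⟨i, rfl⟩ := Subgroup.mem_zpowers_iff.mp ha
        obtain ⟨j, rfl⟩ := Subgroup.mem_zpowers_iff.mp (SetLike.mem_coe.mp hb)
        exact (zpow_mul_comm s j i)
      · exact inf_le_right
    · intro c hc
      obtain ⟨i, hi⟩ := hdec c
      have hc' : c = s ^ i * ((s ^ i)⁻¹ * c) := by group
      rw [hc']
      apply Subgroup.mul_mem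
      · exact (le_sup_left : R0 ≤ R0 ⊔ R1) (Subgroup.zpow_mem _ (Subgroup.mem_zpowers s) i)
      · apply (le_sup_right : R1 ≤ R0 ⊔ R1)
        refine ⟨hi, ?_⟩
        apply Subgroup.mul_mem _ _ hc
        apply Subgroup.inv_mem
        -- s^i ∈ centralizer R0
        rw [Subgroup.mem_centralizer_iff]
        intro b hb
        obtain ⟨j, rfl⟩ := Subgroup.mem_zpowers_iff.mp (SetLike.mem_coe.mp hb)
        exact (zpow_mul_comm s j i)

end Cfsg.Agent.Helper18.BG108
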