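import Mathlib
import Cfsg.Prelude.Def_OddOrderLocal
import Cfsg.Agent.Helper19.Cores

/-!
# Generic lemma: a finite group having a normal `p`-complement for every prime `p ∉ β` has a normal
Hall `β`-subgroup with nilpotent quotient, and a nilpotent Hall `β'`-subgroup.
-/

set_option autoImplicit false
set_option linter.unusedSectionVars false

namespace Cfsg.Agent.Helper18.BG108

open Subgroup

universe u

/-- the family of normal subgroups of prime power index for primes outside `β` -/
def resFam (β : Set ℕ) (D : Type u) [Group D] : Set (Subgroup D) :=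
  {K | K.Normal ∧ ∃ p : ℕ, p.Prime ∧ p ∉ β ∧ ∃ n : ℕ, K.index = p ^ n}

instance resFam_normal (β : Set ℕ) (D : Type u) [Group D] (K : resFam β D) :
    (K.1 : Subgroup D).Normal := K.2.1

/-- the canonical map to the product of the quotients -/
def resHom (β : Set ℕ) (D : Type u) [Group D] : D →* (∀ K : resFam β D, D ⧸ (K.1 : Subgroup D)) :=
  MonoidHom.pi (fun K => QuotientGroup.mk' (K.1 : Subgroup D))

theorem resHom_ker_le (β : Set ℕ) (D : Type u) [Group D] (K : resFam β D) :
    (resHom β D).ker ≤ K.1 := by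
  intro x hx
  rw [MonoidHom.mem_ker] at hx
  have h1 : (resHom β D x) K = 1 := by rw [hx]; rfl
  have h2 : (QuotientGroup.mk' (K.1 : Subgroup D)) x = 1 := h1
  rwa [QuotientGroup.mk'_apply, QuotientGroup.eq_one_iff] at h2

theorem exists_normal_hall_of_npc {D : Type u} [Group D] [Finite D] (β : Set ℕ)
    (h : ∀ p : ℕ, p.Prime → p ∉ β → Cfsg.HasNormalPComplement p D) :
    ∃ (N : Subgroup D) (_ : N.Normal), (∀ p : ℕ, p.Prime → p ∣ Nat.card N → p ∈ β) ∧
      (∀ p : ℕ, p.Prime → p ∣ N.index → p ∉ β) ∧ Group.IsNilpotent (D ⧸ N) := by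
  classical
  haveI : Fintype (resFam β D) := Fintype.ofFinite _
  refine ⟨(resHom β D).ker, inferInstance, ?_, ?_, ?_⟩
  · intro p hp hpd
    by_contra hpβ
    haveI : Fact p.Prime := ⟨hp⟩
    obtain ⟨P, K₀, hK₀n, hc⟩ := h p hp hpβ
    have hidx : K₀.index = Nat.card (P : Subgroup D) := by
      have h1 := hc.card_mul_card
      have h2 := K₀.index_mul_card
      have h3 : 0 < Nat.card K₀ := Nat.card_pos
      nlinarith [h1, h2]
    have hcardP : ∃ n, Nat.card (P : Subgroup D) = p ^ n := ⟨_, P.card_eq_multiplicity⟩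
    obtain ⟨n, hn⟩ := hcardP
    have hmem : K₀ ∈ resFam β D := ⟨hK₀n, p, hp, hpβ, n, by rw [hidx, hn]⟩
    have hle : (resHom β D).ker ≤ K₀ := resHom_ker_le β D ⟨K₀, hmem⟩
    have hd : Nat.card (resHom β D).ker ∣ Nat.card K₀ := Subgroup.card_dvd_of_le hle
    have hK₀ : Nat.card K₀ = (P : Subgroup D).index := (hc.index_eq_card).symm
    have := P.not_dvd_index
    rw [← hK₀] at this
    exact this (hpd.trans hd)
  · intro p hp hpd hpβ
    have e := QuotientGroup.quotientKerEquivRange (resHom β D)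
    have h1 : (resHom β D).ker.index = Nat.card (resHom β D).range := by
      rw [Subgroup.index_eq_card]; exact Nat.card_congr e.toEquiv
    have h2 : Nat.card (resHom β D).range ∣ Nat.card (∀ K : resFam β D, D ⧸ (K.1 : Subgroup D)) :=
      Subgroup.card_subgroup_dvd_card _
    rw [Nat.card_pi] at h2
    rw [h1] at hpd
    have h3 := hpd.trans h2
    rw [Prime.dvd_finset_prod_iff hp.prime] at h3
    obtain ⟨K, -, hK⟩ := h3
    obtain ⟨-, q, hq, hqβ, n, hn⟩ := K.2
    rw [← Subgroup.index_eq_card, hn] at hK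
    have := (Nat.prime_dvd_prime_iff_eq hp hq).mp (hp.dvd_of_dvd_pow hK)
    exact hqβ (this ▸ hpβ)
  · have e := QuotientGroup.quotientKerEquivRange (resHom β D)
    haveI : ∀ K : resFam β D, Group.IsNilpotent (D ⧸ (K.1 : Subgroup D)) := by
      intro K
      obtain ⟨-, q, hq, -, n, hn⟩ := K.2
      haveI : Fact q.Prime := ⟨hq⟩
      apply IsPGroup.isNilpotent (p := q)
      apply IsPGroup.of_card (n := n)
      rw [← Subgroup.index_eq_card, hn]
    haveI : Group.IsNilpotent (∀ K : resFam β D, D ⧸ (K.1 : Subgroup D)) := Group.isNilpotent_pi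
    haveI : Group.IsNilpotent (resHom β D).range := Subgroup.isNilpotent _
    exact Group.nilpotent_of_mulEquiv e.symm

/-- consequences: the `β`-core is a Hall `β`-subgroup, and there is a nilpotent Hall `β'`-subgroup -/
theorem hall_of_npc {D : Type u} [Group D] [Finite D] (β : Set ℕ)
    (h : ∀ p : ℕ, p.Prime → p ∉ β → Cfsg.HasNormalPComplement p D) :
    (∀ p : ℕ, p.Prime → p ∣ (Cfsg.piCore β D).index → p ∉ β) ∧
      ∃ H : Subgroup D, Group.IsNilpotent H ∧ (∀ p : ℕ, p.Prime → p ∣ Nat.card H → p ∉ β) ∧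
        (∀ p : ℕ, p.Prime → p ∉ β → ¬ p ∣ H.index) := by
  obtain ⟨N, hNn, hN1, hN2, hN3⟩ := exists_normal_hall_of_npc β h
  refine ⟨?_, ?_⟩
  · intro p hp hpd
    have hle : N ≤ Cfsg.piCore β D := Cfsg.Agent.Helper19.le_piCore hNn hN1
    exact hN2 p hp (hpd.trans (Subgroup.index_dvd_of_le hle))
  · have hcop : (Nat.card N).Coprime N.index := by
      apply Nat.Coprime.symm
      apply Nat.coprime_of_dvd
      intro k hk hk1 hk2
      exact hN2 k hk hk1 (hN1 k hk hk2)
    obtain ⟨H, hH⟩ := Subgroup.exists_right_complement'_of_coprime hcop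
    have e : D ⧸ N ≃* H := hH.symm.QuotientMulEquiv
    refine ⟨H, Group.nilpotent_of_mulEquiv e, ?_, ?_⟩
    · intro p hp hpd
      have : Nat.card H = N.index := by
        rw [Subgroup.index_eq_card]; exact (Nat.card_congr e.toEquiv).symm
      rw [this] at hpd
      exact hN2 p hp hpd
    · intro p hp hpβ hpd
      rw [hH.index_eq_card] at hpd
      exact hpβ (hN1 p hp hpd)

end Cfsg.Agent.Helper18.BG108
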