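import Mathlib
import Cfsg.Prelude.Def_OddOrderLocal
import Cfsg.Prelude.Def_Local
import Cfsg.Agent.Helper18.BG108a
import Cfsg.Agent.Helper18.BG108b
import Cfsg.Agent.Helper21.BG10b
import Cfsg.Agent.S1450
import Cfsg.Agent.S1455
import Cfsg.Agent.Lead.TNC2

/-!
# B&G Lemma 10.8 (= S1414), relative to the statements of 9.6 (S1403), 10.1(a) (S1404) and
10.6 (S1410).
-/

set_option autoImplicit false
set_option linter.unusedSectionVars false

namespace Cfsg.Agent.Helper18.BG108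

open Subgroup
open Cfsg.Agent.Helper21.BG10 (Uniq96 Ctl101)

universe u

/-- The statement of B&G Theorem 10.6 (S1410) for `G`. -/
def PLen106 (G : Type u) [Group G] : Prop :=
  ∀ (p : ℕ) [Fact p.Prime] (H : Subgroup G), H ≠ ⊤ → Cfsg.PLengthLE p 1 H

/-- narrowness through an injective homomorphism -/
theorem isNarrow_of_injective {R G : Type*} [Group R] [Finite R] [Group G] (p : ℕ)
    [hp : Fact p.Prime] (hp2 : p ≠ 2) (ι : R →* G) (hι : Function.Injective ι)
    (hR : IsPGroup p R) (hr : ¬ Cfsg.PRankLE p 2 R)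
    (A : Subgroup G) (hA : Cfsg.IsElementaryAbelian p A) (hA2 : Nat.card A = p ^ 2)
    (hAle : A ≤ ι.range)
    (hmax : ∀ B : Subgroup G, B ≤ ι.range → Cfsg.IsElementaryAbelian p B → ¬ A < B) :
    Cfsg.IsNarrow p R := by
  have hmap : (A.comap ι).map ι = A := Subgroup.map_comap_eq_self hAle
  have hE : Cfsg.IsElementaryAbelian p (A.comap ι) := by
    rw [Cfsg.Agent.Helper26.isElementaryAbelian_iff]
    rw [Cfsg.Agent.Helper26.isElementaryAbelian_iff] at hA
    refine ⟨fun a ha b hb => ?_, fun a ha => ?_⟩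
    · apply hι
      rw [map_mul, map_mul]
      exact hA.1 _ ha _ hb
    · apply hι
      rw [map_pow, map_one]
      exact hA.2 _ ha
  apply isNarrow_of_max_elementary p hp2 hR hr (A.comap ι) hE
  · rw [← hA2, ← hmap, Subgroup.card_map_of_injective hι, hmap]
  · intro B hB hle
    have h1 : A ≤ B.map ι := by rw [← hmap]; exact Subgroup.map_mono hle
    have h2 := hmax (B.map ι) (Subgroup.map_le_range ι B)
      (Cfsg.Agent.Helper26.isElementaryAbelian_map ι hB)
    have h3 : A = B.map ι := by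
      by_contra hne
      exact h2 (lt_of_le_of_ne h1 hne)
    rw [h3, Subgroup.comap_map_eq_self_of_injective hι]

variable {G : Type u} [Group G] [Finite G]

/-- for `p ∈ α(M) ∖ β(M)` (and `p ∈ σ(M)`), the Sylow `p`-subgroups of `M` are narrow -/
theorem exists_narrow_sylow {M : Subgroup G} {p : ℕ} [hp : Fact p.Prime] (hp2 : p ≠ 2)
    (hα : p ∈ Cfsg.alpha M) (hβ : p ∉ Cfsg.beta M) (hσ : p ∈ Cfsg.sigma M) :
    ∃ S : Sylow p M, Cfsg.IsNarrow p ↥(S : Subgroup M) := by
  obtain ⟨P, Q, hQP, -⟩ := Cfsg.Agent.Helper21.BG10.exists_sylow_of_mem_sigma hσ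
  refine ⟨P, ?_⟩
  -- p is not ideal
  have hrG : ¬ Cfsg.PRankLE p 2 G := fun h =>
    hα.2 (Cfsg.Agent.Helper7.PRankLE.of_injective M.subtype M.subtype_injective h)
  have hni : ¬ Cfsg.IsIdealPrime p G := fun h => hβ ⟨hα, h⟩
  unfold Cfsg.IsIdealPrime at hni
  push Not at hni
  obtain ⟨P₀, A, hAP₀, hAe, hA2, hAmax⟩ := hni hp.out hrG
  obtain ⟨g, hg⟩ := MulAction.exists_smul_eq G Q P₀
  -- the embedding
  let ι : ↥(P : Subgroup M) →* G :=
    ((MulAut.conj g).toMonoidHom.comp M.subtype).comp (P : Subgroup M).subtype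
  have hι : Function.Injective ι := by
    intro a b hab
    have h1 : g * ((a : M) : G) * g⁻¹ = g * ((b : M) : G) * g⁻¹ := hab
    have h2 : ((a : M) : G) = ((b : M) : G) := by
      have := congrArg (fun x => g⁻¹ * x * g) h1
      simpa [mul_assoc] using this
    exact Subtype.ext (Subtype.ext h2)
  have hrange : ι.range = (P₀ : Subgroup G) := by
    have h1 : ι.range = ((P : Subgroup M).map M.subtype).map (MulAut.conj g).toMonoidHom := by
      rw [MonoidHom.range_eq_map, ← Subgroup.map_map, ← MonoidHom.range_eq_map,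
        Subgroup.range_subtype, Subgroup.map_map]
    rw [h1, ← hQP, ← hg, Sylow.coe_subgroup_smul, Subgroup.pointwise_smul_def]
    rfl
  have hrP : ¬ Cfsg.PRankLE p 2 ↥(P : Subgroup M) := fun h =>
    hα.2 (Cfsg.Agent.S1455.pRankLE_of_sylow P h)
  apply isNarrow_of_injective p hp2 ι hι P.isPGroup' hrP A hAe hA2 (hrange ▸ hAP₀)
  intro B hB hBe hlt
  rw [hrange] at hB
  exact hAmax B hB hBe hlt

/-- B&G 10.8(c),(d) for the derived subgroup of `M` (as a subgroup of `M`). -/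
theorem npc_commutator (hG : Cfsg.IsMinSimpleOddOrder G) (h96 : Uniq96 G) (h106 : PLen106 G)
    {M : Subgroup G} (hM : IsCoatom M) {p : ℕ} (hp : p.Prime) (hpM : p ∣ Nat.card M)
    (hβ : p ∉ Cfsg.beta M) :
    Cfsg.HasNormalPComplement p ↥(commutator ↥M) ∧
      ∀ q : ℕ, q.Prime → q ∣ (Cfsg.pPrimeCore p ↥M).index → q ≤ p := by
  haveI : Fact p.Prime := ⟨hp⟩
  haveI : Group.IsSolvable ↥M := hG.2.2.2 M hM.1
  have hodd : Odd (Nat.card ↥M) := by
    have h1 : Nat.card ↥M ∣ Nat.card G := Subgroup.card_subgroup_dvd_card M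
    exact Odd.of_dvd_nat hG.1 h1
  have hp2 : p ≠ 2 := by
    rintro rfl
    exact (Nat.not_even_iff_odd.mpr hodd) (even_iff_two_dvd.mpr hpM)
  by_cases hr : Cfsg.PRankLE p 2 ↥M
  · obtain ⟨h1, -, h3, -⟩ := Cfsg.Agent.S1450.result hodd p hpM hr
    exact ⟨h3, h1⟩
  · have hα : p ∈ Cfsg.alpha M := ⟨hp, hr⟩
    have hσ : p ∈ Cfsg.sigma M := Cfsg.Agent.Helper21.BG10.alpha_subset_sigma hG h96 hM hα
    obtain ⟨S, hS⟩ := exists_narrow_sylow hp2 hα hβ hσ
    have hpl : Cfsg.PLengthLE p 1 ↥M := h106 p M hM.1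
    obtain ⟨h1, -, h3, -⟩ := Cfsg.Agent.S1455.result hodd p hpM S hS (fun _ => hpl)
    exact ⟨h3, h1⟩

end Cfsg.Agent.Helper18.BG108
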