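import Mathlib
import Cfsg.Agent.Helper18.BG108c

/-!
# B&G Lemma 10.8 (= S1414): final assembly, relative to 9.6 (S1403), 10.1(a) (S1404), 10.6 (S1410).
-/

set_option autoImplicit false
set_option linter.unusedSectionVars false

namespace Cfsg.Agent.Helper18.BG108

open Subgroup
open Cfsg.Agent.Helper21.BG10 (Uniq96 Ctl101)

universe u

variable {G : Type u} [Group G] [Finite G]

theorem isPiHallOf_map_subtype {K : Subgroup G} (π : Set ℕ) (H₂ : Subgroup K)
    (h1 : ∀ p : ℕ, p.Prime → p ∣ Nat.card H₂ → p ∈ π)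
    (h2 : ∀ p : ℕ, p.Prime → p ∈ π → ¬ p ∣ H₂.index) :
    Cfsg.IsPiHallOf π (H₂.map K.subtype) K := by
  refine ⟨Subgroup.map_subtype_le _, ?_, ?_⟩
  · intro p hp hpd
    rw [Subgroup.card_map_of_injective K.subtype_injective] at hpd
    exact h1 p hp hpd
  · intro p hp hpπ hpd
    have : (H₂.map K.subtype).relIndex K = H₂.index := by
      unfold Subgroup.relIndex Subgroup.subgroupOf
      rw [Subgroup.comap_map_eq_self_of_injective K.subtype_injective]
    rw [this] at hpd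
    exact h2 p hp hpπ hpd

theorem isNilpotent_map_subtype {K : Subgroup G} (H₂ : Subgroup K) (h : Group.IsNilpotent H₂) :
    Group.IsNilpotent ↥(H₂.map K.subtype) :=
  Group.nilpotent_of_mulEquiv (Subgroup.equivMapOfInjective H₂ K.subtype K.subtype_injective)

/-- `p ∈ σ(M)` does not divide the index of `M'` in `M` -/
theorem not_dvd_index_commutator (hG : Cfsg.IsMinSimpleOddOrder G) (h101 : Ctl101 G)
    {M : Subgroup G} (hM : IsCoatom M) {p : ℕ} (hp : p.Prime) (hσ : p ∈ Cfsg.sigma M) :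
    ¬ p ∣ (commutator ↥M).index ∧ ¬ p ∣ M.index := by
  haveI : Fact p.Prime := ⟨hp⟩
  obtain ⟨P, hP, hidx⟩ :=
    Cfsg.Agent.Helper21.BG10.sylow_le_commutator_of_mem_sigma hG h101 hM hσ
  refine ⟨fun hd => ?_, hidx⟩
  exact P.not_dvd_index (hd.trans (Subgroup.index_dvd_of_le hP))

theorem piCore_sigma_le_commutator (hG : Cfsg.IsMinSimpleOddOrder G) (h101 : Ctl101 G)
    {M : Subgroup G} (hM : IsCoatom M) :
    Cfsg.piCore (Cfsg.sigma M) ↥M ≤ commutator ↥M := by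
  intro x hx
  by_contra hxc
  have hne : (QuotientGroup.mk' (commutator ↥M)) x ≠ 1 := by
    intro h
    rw [QuotientGroup.mk'_apply, QuotientGroup.eq_one_iff] at h
    exact hxc h
  have ho : orderOf ((QuotientGroup.mk' (commutator ↥M)) x) ≠ 1 := by
    rwa [Ne, orderOf_eq_one_iff]
  obtain ⟨r, hr, hrd⟩ := Nat.exists_prime_and_dvd ho
  have h1 : r ∣ Nat.card (Cfsg.piCore (Cfsg.sigma M) ↥M) := by
    have h2 : orderOf ((QuotientGroup.mk' (commutator ↥M)) x) ∣ orderOf x :=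
      orderOf_map_dvd _ x
    have h3 : orderOf (⟨x, hx⟩ : Cfsg.piCore (Cfsg.sigma M) ↥M) = orderOf x :=
      Subgroup.orderOf_mk x hx
    have h4 : orderOf (⟨x, hx⟩ : Cfsg.piCore (Cfsg.sigma M) ↥M) ∣
        Nat.card (Cfsg.piCore (Cfsg.sigma M) ↥M) := orderOf_dvd_natCard _
    exact hrd.trans (h2.trans (h3 ▸ h4))
  have hrσ : r ∈ Cfsg.sigma M := Cfsg.Agent.Helper19.piCore_isPiNum _ r hr h1
  have h5 : r ∣ (commutator ↥M).index := by
    rw [Subgroup.index_eq_card]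
    exact hrd.trans (orderOf_dvd_natCard _)
  exact (not_dvd_index_commutator hG h101 hM hr hrσ).1 h5

theorem sigmaCore_le_commutator (hG : Cfsg.IsMinSimpleOddOrder G) (h101 : Ctl101 G)
    {M : Subgroup G} (hM : IsCoatom M) : Cfsg.sigmaCore M ≤ ⁅M, M⁆ := by
  unfold Cfsg.sigmaCore
  rw [← Subgroup.map_subtype_commutator]
  exact Subgroup.map_mono (piCore_sigma_le_commutator hG h101 hM)

/-- **B&G Lemma 10.8** (= S1414), relative to 9.6, 10.1(a) and 10.6. -/
theorem lemma_10_8 (hG : Cfsg.IsMinSimpleOddOrder G) (h96 : Uniq96 G) (h101 : Ctl101 G)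
    (h106 : PLen106 G) (M : Subgroup G) (hM : IsCoatom M) :
    Cfsg.IsPiHallOf (Cfsg.beta M) (Cfsg.piCoreOf (Cfsg.beta M) M) M ∧
      Cfsg.IsPiHall (Cfsg.beta M) (Cfsg.piCoreOf (Cfsg.beta M) M) ∧
      (∃ H : Subgroup G, Cfsg.IsPiHallOf {q | q.Prime ∧ q ∉ Cfsg.beta M} H ⁅M, M⁆ ∧
        Group.IsNilpotent H) ∧
      (∃ H : Subgroup G, Cfsg.IsPiHallOf {q | q.Prime ∧ q ∉ Cfsg.beta M} H (Cfsg.sigmaCore M) ∧
        Group.IsNilpotent H) ∧
      ∀ p : ℕ, p.Prime → p ∣ Nat.card M → p ∉ Cfsg.beta M →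
        Cfsg.HasNormalPComplement p ↥⁅M, M⁆ ∧ Cfsg.HasNormalPComplement p ↥(Cfsg.sigmaCore M) ∧
        ∀ q : ℕ, q.Prime → q ∣ (Cfsg.pPrimeCore p ↥M).index → q ≤ p := by
  have hβσ : Cfsg.beta M ⊆ Cfsg.sigma M := fun p hp =>
    Cfsg.Agent.Helper21.BG10.alpha_subset_sigma hG h96 hM hp.1
  -- normal p-complements of commutator M for all p ∉ β
  have npcD : ∀ p : ℕ, p.Prime → p ∉ Cfsg.beta M →
      Cfsg.HasNormalPComplement p ↥(commutator ↥M) := by
    intro p hp hpβ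
    haveI : Fact p.Prime := ⟨hp⟩
    by_cases hpM : p ∣ Nat.card M
    · exact (npc_commutator hG h96 h106 hM hp hpM hpβ).1
    · obtain ⟨P⟩ : Nonempty (Sylow p ↥(commutator ↥M)) := inferInstance
      apply Cfsg.Agent.Lead.TNC.npc_of_sylow_eq_bot P
      obtain ⟨n, hn⟩ := IsPGroup.iff_card.mp P.isPGroup'
      have hn0 : n = 0 := by
        by_contra h0
        apply hpM
        have h1 : p ∣ Nat.card (P : Subgroup ↥(commutator ↥M)) := hn ▸ dvd_pow_self p h0
        exact h1.trans ((Subgroup.card_subgroup_dvd_card _).trans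
          (Subgroup.card_subgroup_dvd_card _))
      rw [hn0, pow_zero] at hn
      exact Subgroup.card_eq_one.mp hn
  have e₁ : ↥(commutator ↥M) ≃* ↥⁅M, M⁆ :=
    (Subgroup.equivMapOfInjective (commutator ↥M) M.subtype M.subtype_injective).trans
      (MulEquiv.subgroupCongr (Subgroup.map_subtype_commutator M))
  have npcD₂ : ∀ p : ℕ, p.Prime → p ∉ Cfsg.beta M → Cfsg.HasNormalPComplement p ↥⁅M, M⁆ := by
    intro p hp hpβ
    haveI : Fact p.Prime := ⟨hp⟩
    exact Cfsg.Agent.Lead.TNC.npc_of_mulEquiv e₁ (npcD p hp hpβ)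
  have hσD : Cfsg.sigmaCore M ≤ ⁅M, M⁆ := sigmaCore_le_commutator hG h101 hM
  have npcD₃ : ∀ p : ℕ, p.Prime → p ∉ Cfsg.beta M →
      Cfsg.HasNormalPComplement p ↥(Cfsg.sigmaCore M) := by
    intro p hp hpβ
    haveI : Fact p.Prime := ⟨hp⟩
    exact Cfsg.Agent.Lead.TNC.npc_of_le hσD (npcD₂ p hp hpβ)
  -- (1)
  have h1 : Cfsg.IsPiHallOf (Cfsg.beta M) (Cfsg.piCoreOf (Cfsg.beta M) M) M := by
    unfold Cfsg.piCoreOf
    apply isPiHallOf_map_subtype
    · exact Cfsg.Agent.Helper19.piCore_isPiNum _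
    · intro p hp hpβ hpd
      obtain ⟨hidx, -⟩ := hall_of_npc (D := ↥(commutator ↥M)) (Cfsg.beta M) npcD
      haveI : (Cfsg.piCore (Cfsg.beta M) ↥(commutator ↥M)).Characteristic :=
        Cfsg.Agent.Helper19.piCore_characteristic _
      have hBn : ((Cfsg.piCore (Cfsg.beta M) ↥(commutator ↥M)).map
          (commutator ↥M).subtype).Normal := ConjAct.normal_of_characteristic_of_normal
      have hBle : (Cfsg.piCore (Cfsg.beta M) ↥(commutator ↥M)).map (commutator ↥M).subtype ≤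
          Cfsg.piCore (Cfsg.beta M) ↥M := by
        apply Cfsg.Agent.Helper19.le_piCore hBn
        rw [Subgroup.card_map_of_injective (Subgroup.subtype_injective _)]
        exact Cfsg.Agent.Helper19.piCore_isPiNum _
      have h2 := hpd.trans (Subgroup.index_dvd_of_le hBle)
      rw [Subgroup.index_map_subtype] at h2
      rcases (Nat.Prime.dvd_mul hp).mp h2 with h3 | h3
      · exact hidx p hp h3 hpβ
      · exact (not_dvd_index_commutator hG h101 hM hp (hβσ hpβ)).1 h3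
  refine ⟨h1, ⟨h1.2.1, ?_⟩, ?_, ?_, ?_⟩
  · intro p hp hpβ hpd
    rw [← Subgroup.relIndex_mul_index h1.1] at hpd
    rcases (Nat.Prime.dvd_mul hp).mp hpd with h3 | h3
    · exact h1.2.2 p hp hpβ h3
    · exact (not_dvd_index_commutator hG h101 hM hp (hβσ hpβ)).2 h3
  · obtain ⟨-, H, hHn, hH1, hH2⟩ := hall_of_npc (D := ↥⁅M, M⁆) (Cfsg.beta M) npcD₂
    refine ⟨H.map (⁅M, M⁆).subtype, ?_, isNilpotent_map_subtype H hHn⟩
    apply isPiHallOf_map_subtype
    · intro p hp hpd; exact ⟨hp, hH1 p hp hpd⟩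
    · intro p hp hpπ; exact hH2 p hp hpπ.2
  · obtain ⟨-, H, hHn, hH1, hH2⟩ := hall_of_npc (D := ↥(Cfsg.sigmaCore M)) (Cfsg.beta M) npcD₃
    refine ⟨H.map (Cfsg.sigmaCore M).subtype, ?_, isNilpotent_map_subtype H hHn⟩
    apply isPiHallOf_map_subtype
    · intro p hp hpd; exact ⟨hp, hH1 p hp hpd⟩
    · intro p hp hpπ; exact hH2 p hp hpπ.2
  · intro p hp hpM hpβ
    exact ⟨npcD₂ p hp hpβ, npcD₃ p hp hpβ, (npc_commutator hG h96 h106 hM hp hpM hpβ).2⟩

end Cfsg.Agent.Helper18.BG108
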