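import Mathlib
import Cfsg.Prelude.Def_OddOrderLocal
import Cfsg.Agent.Helper4.BG36L2a
import Cfsg.Agent.Helper9.BG12r

/-!
# B&G Theorem 12.7 (S1419), part 1: a `p`-element acting as a transvection on an elementary
abelian group of order `p ^ 2`.
-/

set_option autoImplicit false
set_option linter.unusedSectionVars false
set_option linter.unusedVariables false
set_option linter.style.haveILetI false

namespace Cfsg.Agent.Helper18.BG12

open Subgroup Cfsg
open Cfsg.Agent.Helper14 (cj cj_apply)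
open Cfsg.Agent.H9.BG12 (zpowers_eq_of_card_prime')

universe u
variable {G : Type u} [Group G] [Finite G] {p : ℕ} [hp : Fact p.Prime]

/-- a `p`-group normalizing a nontrivial `p`-group fixes a nonidentity element of it -/
theorem exists_fixed_ne_one {R A : Subgroup G} (hR : IsPGroup p R)
    (hRA : R ≤ normalizer (A : Set G)) (hA : IsPGroup p A) (hA1 : A ≠ ⊥) :
    ∃ a ∈ A, a ≠ 1 ∧ ∀ g ∈ R, g * a = a * g := by
  classical
  letI := Cfsg.Agent.Helper4.BG36L2.conjAction R A hRA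
  have hdvd : p ∣ Nat.card A := by
    haveI : Nontrivial A := (Subgroup.nontrivial_iff_ne_bot A).2 hA1
    obtain ⟨n, hn0, hn⟩ := hA.nontrivial_iff_card.mp inferInstance
    rw [hn]
    exact dvd_pow_self _ (ne_of_gt hn0)
  have hone : (1 : A) ∈ MulAction.fixedPoints R A := by
    rw [MulAction.mem_fixedPoints]
    intro g
    apply Subtype.ext
    show (g : G) * ((1 : A) : G) * (g : G)⁻¹ = ((1 : A) : G)
    simp
  obtain ⟨b, hb, hb1⟩ := hR.exists_fixed_point_of_prime_dvd_card_of_fixed_point A hdvd hone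
  refine ⟨(b : G), b.2, fun h => hb1 (Subtype.ext h.symm), ?_⟩
  intro g hg
  rw [MulAction.mem_fixedPoints] at hb
  have h1 := congrArg Subtype.val (hb ⟨g, hg⟩)
  have h2 : g * (b : G) * g⁻¹ = (b : G) := h1
  calc g * (b : G) = (g * (b : G) * g⁻¹) * g := by group
    _ = (b : G) * g := by rw [h2]

section Transvection

variable {A : Subgroup G} {u : G}

/-- the commutator map `a ↦ u a u⁻¹ a⁻¹` on an abelian group normalized by `u` -/
def deltaHom (hcomm : ∀ a ∈ A, ∀ b ∈ A, a * b = b * a) (hun : ∀ a ∈ A, u * a * u⁻¹ ∈ A) :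
    A →* A where
  toFun a := ⟨u * a * u⁻¹ * (a : G)⁻¹, A.mul_mem (hun a a.2) (A.inv_mem a.2)⟩
  map_one' := by
    apply Subtype.ext
    simp
  map_mul' a b := by
    apply Subtype.ext
    show u * ((a : G) * (b : G)) * u⁻¹ * ((a : G) * (b : G))⁻¹ =
      (u * a * u⁻¹ * (a : G)⁻¹) * (u * b * u⁻¹ * (b : G)⁻¹)
    have h1 : (u * (b : G) * u⁻¹) * (a : G)⁻¹ = (a : G)⁻¹ * (u * (b : G) * u⁻¹) :=
      hcomm _ (hun b b.2) _ (A.inv_mem a.2)
    have h2 : (b : G)⁻¹ * (a : G)⁻¹ = (a : G)⁻¹ * (b : G)⁻¹ :=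
      hcomm _ (A.inv_mem b.2) _ (A.inv_mem a.2)
    calc u * ((a : G) * (b : G)) * u⁻¹ * ((a : G) * (b : G))⁻¹
        = (u * a * u⁻¹) * (u * (b : G) * u⁻¹) * ((b : G)⁻¹ * (a : G)⁻¹) := by group
      _ = (u * a * u⁻¹) * ((u * (b : G) * u⁻¹) * (a : G)⁻¹) * (b : G)⁻¹ := by rw [h2]; group
      _ = (u * a * u⁻¹) * ((a : G)⁻¹ * (u * (b : G) * u⁻¹)) * (b : G)⁻¹ := by rw [h1]
      _ = (u * a * u⁻¹ * (a : G)⁻¹) * (u * b * u⁻¹ * (b : G)⁻¹) := by group

/-- hypotheses: `u` is a `p`-element normalizing but not centralizing the elementary abelian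
group `A` of order `p ^ 2` -/
structure Transv (p : ℕ) (A : Subgroup G) (u : G) : Prop where
  elem : Cfsg.IsElementaryAbelian p A
  card : Nat.card A = p ^ 2
  norm : u ∈ normalizer (A : Set G)
  ncent : u ∉ centralizer (A : Set G)
  pgrp : IsPGroup p (zpowers u)

namespace Transv

variable (h : Transv p A u)
include h

theorem comm : ∀ a ∈ A, ∀ b ∈ A, a * b = b * a :=
  (Cfsg.Agent.Helper26.isElementaryAbelian_iff.mp h.elem).1

theorem pow_p : ∀ a ∈ A, a ^ p = 1 := h.elem.2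

theorem conj_mem : ∀ a ∈ A, u * a * u⁻¹ ∈ A := fun a ha =>
  (mem_normalizer_iff.mp h.norm a).mp ha

theorem isPGroup : IsPGroup p A := IsPGroup.of_card h.card

theorem ne_bot : A ≠ ⊥ := by
  intro hb
  have := h.card
  rw [hb, Subgroup.card_bot] at this
  have h2 : 1 < p ^ 2 := Nat.one_lt_pow (by norm_num) hp.out.one_lt
  omega

/-- `C_A(u)` has order `p` -/
theorem card_fix : Nat.card ↥(A ⊓ centralizer ({u} : Set G)) = p := by
  have hle : A ⊓ centralizer ({u} : Set G) ≤ A := inf_le_left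
  have hdvd : Nat.card ↥(A ⊓ centralizer ({u} : Set G)) ∣ p ^ 2 := by
    rw [← h.card]; exact Subgroup.card_dvd_of_le hle
  obtain ⟨i, hi, hci⟩ := (Nat.dvd_prime_pow hp.out).mp hdvd
  have hzn : zpowers u ≤ normalizer (A : Set G) := zpowers_le.mpr h.norm
  obtain ⟨a, haA, ha1, hfix⟩ := exists_fixed_ne_one h.pgrp hzn h.isPGroup h.ne_bot
  have hi0 : i ≠ 0 := by
    rintro rfl
    rw [pow_zero] at hci
    have hbot : A ⊓ centralizer ({u} : Set G) = ⊥ := Subgroup.card_eq_one.mp hci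
    have : a ∈ A ⊓ centralizer ({u} : Set G) := by
      refine Subgroup.mem_inf.mpr ⟨haA, ?_⟩
      rw [Subgroup.mem_centralizer_singleton_iff]
      exact (hfix u (mem_zpowers u)).symm
    rw [hbot, Subgroup.mem_bot] at this
    exact ha1 this
  have hi2 : i ≠ 2 := by
    rintro rfl
    have heq : A ⊓ centralizer ({u} : Set G) = A :=
      Subgroup.eq_of_le_of_card_ge hle (by rw [hci, h.card])
    apply h.ncent
    rw [Subgroup.mem_centralizer_iff]
    intro b hb
    have hb' : b ∈ A ⊓ centralizer ({u} : Set G) := by rw [heq]; exact hb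
    have := (Subgroup.mem_inf.mp hb').2
    rw [Subgroup.mem_centralizer_singleton_iff] at this
    exact this
  have : i = 1 := by omega
  rw [hci, this, pow_one]

/-- the commutators `[u, a]`, `a ∈ A`, are centralized by `u` -/
theorem delta_mem_fix : ∀ a ∈ A, u * a * u⁻¹ * a⁻¹ ∈ A ⊓ centralizer ({u} : Set G) := by
  classical
  set δ := deltaHom h.comm h.conj_mem with hδ
  -- the kernel of δ
  have hker : ∀ a : A, a ∈ δ.ker ↔ (a : G) ∈ A ⊓ centralizer ({u} : Set G) := by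
    intro a
    rw [MonoidHom.mem_ker]
    constructor
    · intro h1
      have h2 : u * (a : G) * u⁻¹ * (a : G)⁻¹ = 1 := congrArg Subtype.val h1
      refine Subgroup.mem_inf.mpr ⟨a.2, ?_⟩
      rw [Subgroup.mem_centralizer_singleton_iff]
      calc (a : G) * u = (u * (a : G) * u⁻¹ * (a : G)⁻¹)⁻¹ * u * (a : G) := by group
        _ = u * (a : G) := by rw [h2]; group
    · intro h1
      have h2 := (Subgroup.mem_inf.mp h1).2
      rw [Subgroup.mem_centralizer_singleton_iff] at h2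
      apply Subtype.ext
      show u * (a : G) * u⁻¹ * (a : G)⁻¹ = 1
      rw [← h2]; group
  have hkercard : Nat.card δ.ker = p := by
    rw [← h.card_fix]
    refine Nat.card_congr ⟨fun a => ⟨(a : A), (hker _).mp a.2⟩,
      fun b => ⟨⟨(b : G), b.2.1⟩, (hker _).mpr b.2⟩, fun a => rfl, fun b => rfl⟩
  have hrange : Nat.card δ.range = p := by
    have h1 := δ.ker.card_mul_index
    rw [Subgroup.index_ker, hkercard, h.card] at h1
    have hp0 : 0 < p := hp.out.pos
    have : p * Nat.card δ.range = p * p := by rw [h1, sq]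
    exact Nat.eq_of_mul_eq_mul_left hp0 this
  -- the image, as a subgroup of G
  set W : Subgroup G := δ.range.map A.subtype with hW
  have hWcard : Nat.card W = p := by
    rw [hW, Subgroup.card_map_of_injective A.subtype_injective]
    exact hrange
  have hWmem : ∀ a ∈ A, u * a * u⁻¹ * a⁻¹ ∈ W := by
    intro a ha
    exact ⟨δ ⟨a, ha⟩, ⟨⟨a, ha⟩, rfl⟩, rfl⟩
  have hWA : W ≤ A := Subgroup.map_subtype_le _
  have hWu : u ∈ normalizer (W : Set G) := by
    rw [Cfsg.Agent.Helper14.mem_normalizer_iff_map_cj]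
    apply Subgroup.eq_of_le_of_card_ge
    · rintro _ ⟨w, hw, rfl⟩
      obtain ⟨_, ⟨a, rfl⟩, rfl⟩ := hw
      rw [cj_apply]
      have h1 : u * (A.subtype (δ a)) * u⁻¹ =
          u * (u * (a : G) * u⁻¹) * u⁻¹ * (u * (a : G) * u⁻¹)⁻¹ := by
        show u * (u * (a : G) * u⁻¹ * (a : G)⁻¹) * u⁻¹ = _
        group
      rw [h1]
      exact hWmem _ (h.conj_mem a a.2)
    · rw [Subgroup.card_map_of_injective (Cfsg.Agent.Helper14.cj_injective u)]
  have hzn : zpowers u ≤ normalizer (W : Set G) := zpowers_le.mpr hWu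
  have hzc := Cfsg.Agent.Helper4.BG36L2.le_centralizer_of_card_prime (zpowers u) W p h.pgrp hWcard hzn
  intro a ha
  have h1 := hWmem a ha
  refine Subgroup.mem_inf.mpr ⟨hWA h1, ?_⟩
  rw [Subgroup.mem_centralizer_singleton_iff]
  have h2 := hzc (mem_zpowers u)
  rw [Subgroup.mem_centralizer_iff] at h2
  exact h2 _ h1

/-- `u ^ i` conjugates `a ∈ A` to `a [u,a] ^ i` -/
theorem conj_pow (a : G) (ha : a ∈ A) (i : ℕ) :
    u ^ i * a * (u ^ i)⁻¹ = a * (u * a * u⁻¹ * a⁻¹) ^ i := by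
  induction i with
  | zero => simp
  | succ n ih =>
    set z := u * a * u⁻¹ * a⁻¹ with hz
    have hzm := h.delta_mem_fix a ha
    have hzu : z * u = u * z := Subgroup.mem_centralizer_singleton_iff.mp (Subgroup.mem_inf.mp hzm).2
    have hza : z * a = a * z := h.comm z (Subgroup.mem_inf.mp hzm).1 a ha
    have h1 : u * a * u⁻¹ = z * a := by rw [hz]; group
    have h2 : u * z ^ n * u⁻¹ = z ^ n := by
      have hc : Commute u (z ^ n) := Commute.pow_right hzu.symm n
      rw [hc.eq]; group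
    calc u ^ (n + 1) * a * (u ^ (n + 1))⁻¹ = u * (u ^ n * a * (u ^ n)⁻¹) * u⁻¹ := by
          rw [pow_succ']; group
      _ = u * (a * z ^ n) * u⁻¹ := by rw [ih]
      _ = (u * a * u⁻¹) * (u * z ^ n * u⁻¹) := by group
      _ = (z * a) * z ^ n := by rw [h1, h2]
      _ = a * z ^ (n + 1) := by rw [hza, pow_succ', mul_assoc]

/-- any two lines of `A` other than `C_A(u)` are conjugate under a power of `u` -/
theorem exists_conj_line {X Y : Subgroup G} (hXA : X ≤ A) (hX : Nat.card X = p)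
    (hXne : X ≠ A ⊓ centralizer ({u} : Set G)) (hYA : Y ≤ A) (hY : Nat.card Y = p)
    (hYne : Y ≠ A ⊓ centralizer ({u} : Set G)) : ∃ i : ℕ, Y = X.map (cj (u ^ i)) := by
  set A₂ : Subgroup G := A ⊓ centralizer ({u} : Set G) with hA₂
  have hA₂c : Nat.card A₂ = p := h.card_fix
  have hA₂A : A₂ ≤ A := inf_le_left
  have hX1 : X ≠ ⊥ := by
    intro hb; rw [hb, Subgroup.card_bot] at hX; exact hp.out.one_lt.ne hX
  obtain ⟨⟨x, hxX⟩, hx1'⟩ := (Subgroup.ne_bot_iff_exists_ne_one (H := X)).mp hX1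
  have hx1 : x ≠ 1 := fun h' => hx1' (Subtype.ext h')
  have hgenX : zpowers x = X := zpowers_eq_of_card_prime' hX hxX hx1
  have hxA : x ∈ A := hXA hxX
  have hxA₂ : x ∉ A₂ := by
    intro hx
    apply hXne
    rw [← hgenX]
    exact zpowers_eq_of_card_prime' hA₂c hx hx1
  set z := u * x * u⁻¹ * x⁻¹ with hz
  have hzm : z ∈ A₂ := h.delta_mem_fix x hxA
  have hz1 : z ≠ 1 := by
    intro hz1
    apply hxA₂
    refine Subgroup.mem_inf.mpr ⟨hxA, ?_⟩
    rw [Subgroup.mem_centralizer_singleton_iff]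
    calc x * u = (u * x * u⁻¹ * x⁻¹)⁻¹ * u * x := by group
      _ = u * x := by rw [← hz, hz1]; group
  have hgenZ : zpowers z = A₂ := zpowers_eq_of_card_prime' hA₂c hzm hz1
  -- `A = Y × A₂`
  have hYA₂ : Y ⊓ A₂ = ⊥ := by
    by_contra hne
    obtain ⟨⟨c, hc⟩, hc1'⟩ := (Subgroup.ne_bot_iff_exists_ne_one (H := Y ⊓ A₂)).mp hne
    have hc1 : c ≠ 1 := fun h' => hc1' (Subtype.ext h')
    have h1 : zpowers c = Y := zpowers_eq_of_card_prime' hY (Subgroup.mem_inf.mp hc).1 hc1
    have h2 : zpowers c = A₂ := zpowers_eq_of_card_prime' hA₂c (Subgroup.mem_inf.mp hc).2 hc1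
    exact hYne (h1.symm.trans h2)
  have hnorm : A₂ ≤ normalizer (Y : Set G) := by
    refine le_trans ?_ (centralizer_le_normalizer _)
    intro a ha
    rw [Subgroup.mem_centralizer_iff]
    intro y hy
    exact h.comm y (hYA hy) a (hA₂A ha)
  have hsup : Y ⊔ A₂ = A := by
    apply Subgroup.eq_of_le_of_card_ge (sup_le hYA hA₂A)
    have h1 := Cfsg.Agent.Helper17.card_sup_mul_card_inf Y A₂ hnorm
    rw [hYA₂, Subgroup.card_bot, mul_one, hY, hA₂c] at h1
    rw [h1, h.card, sq]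
  have hxs : x ∈ Y ⊔ A₂ := by rw [hsup]; exact hxA
  rw [Cfsg.Agent.Helper7.mem_sup_of_le_normalizer hnorm] at hxs
  obtain ⟨y', hy'Y, z₁, hz₁, hyz⟩ := hxs
  have hy'1 : y' ≠ 1 := by
    rintro rfl
    rw [one_mul] at hyz
    exact hxA₂ (hyz ▸ hz₁)
  have hz₁' : z₁⁻¹ ∈ zpowers z := by rw [hgenZ]; exact A₂.inv_mem hz₁
  rw [← mem_powers_iff_mem_zpowers, Submonoid.mem_powers_iff] at hz₁'
  obtain ⟨i, hi⟩ := hz₁'
  refine ⟨i, ?_⟩
  have hconj : u ^ i * x * (u ^ i)⁻¹ = y' := by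
    rw [h.conj_pow x hxA i, ← hz, hi, ← hyz]; group
  have hy'm : y' ∈ X.map (cj (u ^ i)) := ⟨x, hxX, by rw [cj_apply]; exact hconj⟩
  have hcard : Nat.card (X.map (cj (u ^ i))) = p := by
    rw [Subgroup.card_map_of_injective (Cfsg.Agent.Helper14.cj_injective _)]; exact hX
  have h1 : zpowers y' = Y := zpowers_eq_of_card_prime' hY hy'Y hy'1
  have h2 : zpowers y' = X.map (cj (u ^ i)) := zpowers_eq_of_card_prime' hcard hy'm hy'1
  exact h1.symm.trans h2

end Transv

end Transvection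

end Cfsg.Agent.Helper18.BG12
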