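import Mathlib
import Cfsg.Prelude.Def_OddOrderLocal
import Cfsg.Agent.Helper18.BG12a
import Cfsg.Agent.S1412
import Cfsg.Agent.S1453

/-!
# B&G Theorem 12.7 (S1419), part 2: in a nonabelian Sylow `p`-subgroup of `G`, a maximal
elementary abelian subgroup of order `p ^ 2` does not consist of `p`-th powers.
-/

set_option autoImplicit false
set_option linter.unusedSectionVars false
set_option linter.unusedVariables false
set_option linter.style.haveILetI false

namespace Cfsg.Agent.Helper18.BG12

open Subgroup Cfsg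

universe u
variable {G : Type u} [Group G] [Finite G] {p : ℕ} [hp : Fact p.Prime]

/-- an elementary abelian group of order `p ^ 2` is not cyclic -/
theorem not_isCyclic_of_elementary {A : Subgroup G} (hAe : Cfsg.IsElementaryAbelian p A)
    (hAc : Nat.card A = p ^ 2) : ¬ IsCyclic A := by
  intro hc
  obtain ⟨g, hg⟩ := IsCyclic.exists_generator (α := ↥A)
  have h1 : orderOf g = Nat.card A := orderOf_eq_card_of_forall_mem_zpowers hg
  have h2 : (g : G) ^ p = 1 := hAe.2 g g.2
  have h3 : g ^ p = 1 := Subtype.ext (by simpa using h2)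
  have h4 : orderOf g ∣ p := orderOf_dvd_of_pow_eq_one h3
  rw [h1, hAc] at h4
  have h5 := Nat.le_of_dvd hp.out.pos h4
  have h6 : p < p ^ 2 := by
    have := hp.out.one_lt
    nlinarith
  omega

theorem not_all_pth_powers (hG : Cfsg.IsMinSimpleOddOrder G) (S : Sylow p G)
    (hS : ¬ IsMulCommutative (S : Subgroup G)) {A : Subgroup G} (hAS : A ≤ (S : Subgroup G))
    (hAe : Cfsg.IsElementaryAbelian p A) (hAc : Nat.card A = p ^ 2)
    (hAmax : ∀ B : Subgroup G, Cfsg.IsElementaryAbelian p B → A ≤ B → B = A)
    (hpow : ∀ a ∈ A, ∃ v ∈ (S : Subgroup G), v ^ p = a) : False := by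
  by_cases hr : Cfsg.PRankLE p 2 (S : Subgroup G)
  · rcases Cfsg.Agent.S1412.result hG p S hr with hab | ⟨P₁, P₂, hsup, hcomm, -, -, hexp, hcyc, -⟩
    · exact hS hab
    · have hnorm : P₂ ≤ normalizer (P₁ : Set G) := by
        refine le_trans ?_ (centralizer_le_normalizer _)
        intro b hb
        rw [Subgroup.mem_centralizer_iff]
        intro a ha
        exact hcomm a ha b hb
      have hAP₂ : A ≤ P₂ := by
        intro a ha
        obtain ⟨v, hv, hva⟩ := hpow a ha
        rw [← hsup, Cfsg.Agent.Helper7.mem_sup_of_le_normalizer hnorm] at hv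
        obtain ⟨a₁, ha₁, b, hb, rfl⟩ := hv
        have h1 : (a₁ * b) ^ p = a₁ ^ p * b ^ p := (show Commute a₁ b from hcomm a₁ ha₁ b hb).mul_pow p
        have h2 : a₁ ^ p = 1 := by
          have := Monoid.pow_exponent_eq_one (⟨a₁, ha₁⟩ : ↥P₁)
          rw [hexp] at this
          have h3 := congrArg Subtype.val this
          simpa using h3
        rw [← hva, h1, h2, one_mul]
        exact P₂.pow_mem hb p
      apply not_isCyclic_of_elementary hAe hAc
      haveI := hcyc
      have e : ↥A ≃* ↥(A.subgroupOf P₂) := (Subgroup.subgroupOfEquivOfLe hAP₂).symm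
      exact isCyclic_of_surjective e.symm e.symm.surjective
  · have hpG : p ∣ Nat.card G := by
      have h1 : p ∣ Nat.card A := by rw [hAc]; exact dvd_pow_self p (by norm_num)
      exact h1.trans (Subgroup.card_subgroup_dvd_card A)
    have hp2 : p ≠ 2 := Cfsg.Agent.H9.BG12.prime_ne_two_of_dvd hG hpG
    have hR : IsPGroup p ↥(S : Subgroup G) := S.isPGroup'
    set E : Subgroup ↥(S : Subgroup G) := A.subgroupOf (S : Subgroup G) with hE
    have hEe : Cfsg.IsElementaryAbelian p E := by
      rw [Cfsg.Agent.Helper26.isElementaryAbelian_iff]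
      have hA' := Cfsg.Agent.Helper26.isElementaryAbelian_iff.mp hAe
      refine ⟨fun a ha b hb => ?_, fun a ha => ?_⟩
      · apply Subtype.ext
        exact hA'.1 _ (Subgroup.mem_subgroupOf.mp ha) _ (Subgroup.mem_subgroupOf.mp hb)
      · apply Subtype.ext
        have := hA'.2 _ (Subgroup.mem_subgroupOf.mp ha)
        simpa using this
    have hE2 : Nat.card E = p ^ 2 := by
      rw [← hAc]
      exact Nat.card_congr (Subgroup.subgroupOfEquivOfLe hAS).toEquiv
    have hEmax : ∀ B : Subgroup ↥(S : Subgroup G), Cfsg.IsElementaryAbelian p B → E ≤ B → B = E := by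
      intro B hB hEB
      have hB' := Cfsg.Agent.Helper26.isElementaryAbelian_iff.mp hB
      have hBe : Cfsg.IsElementaryAbelian p (B.map (S : Subgroup G).subtype) := by
        rw [Cfsg.Agent.Helper26.isElementaryAbelian_iff]
        refine ⟨?_, ?_⟩
        · rintro _ ⟨a, ha, rfl⟩ _ ⟨b, hb, rfl⟩
          have := hB'.1 a ha b hb
          have h2 := congrArg Subtype.val this
          simpa using h2
        · rintro _ ⟨a, ha, rfl⟩
          have := hB'.2 a ha
          have h2 := congrArg Subtype.val this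
          simpa using h2
      have hAB : A ≤ B.map (S : Subgroup G).subtype := by
        intro a ha
        exact ⟨⟨a, hAS ha⟩, hEB (Subgroup.mem_subgroupOf.mpr ha), rfl⟩
      have h1 := hAmax _ hBe hAB
      apply le_antisymm _ hEB
      intro b hb
      rw [hE, Subgroup.mem_subgroupOf, ← h1]
      exact ⟨b, hb, rfl⟩
    obtain ⟨hnT, -, -, hchar, hidx⟩ := Cfsg.Agent.S1453.result p hp2 hR hr E hEe hE2 hEmax
    apply hnT
    intro e he
    obtain ⟨v, hv, hve⟩ := hpow (e : G) (Subgroup.mem_subgroupOf.mp he)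
    haveI := hchar
    have h1 := Subgroup.pow_index_mem (Subgroup.centralizer ((Subgroup.closure {x : ↥(S : Subgroup G) |
      x ∈ Subgroup.upperCentralSeries ↥(S : Subgroup G) 2 ∧ x ^ p = 1} : Subgroup ↥(S : Subgroup G)) :
        Set ↥(S : Subgroup G))) (⟨v, hv⟩ : ↥(S : Subgroup G))
    rw [hidx] at h1
    have h2 : (⟨v, hv⟩ : ↥(S : Subgroup G)) ^ p = e := Subtype.ext (by simpa using hve)
    rw [h2] at h1
    exact h1

end Cfsg.Agent.Helper18.BG12
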