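import Mathlib
import Cfsg.Prelude.Def_OddOrderLocal
import Cfsg.Agent.Helper18.BG12b
import Cfsg.Agent.Helper9.TransvCent
import Cfsg.Agent.Helper4.BG12SD
import Cfsg.Agent.S1408
import Cfsg.Agent.S1409

/-!
# B&G Theorem 12.7 (S1419), part 3: the configuration `(M, A, P, S, u)` and the singular line.
-/

set_option autoImplicit false
set_option linter.unusedSectionVars false
set_option linter.unusedVariables false
set_option linter.style.haveILetI false

namespace Cfsg.Agent.Helper18.BG12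

open Subgroup Cfsg
open Cfsg.Agent.Helper14 (IsSylowIn cj cj_apply mem_normalizer_iff_map_cj cj_injective
  exists_isSylowIn_ge map_cj_centralizer mem_map_cj)
open Cfsg.Agent.H9.BG12 (St1416 St1417 St1418 zpowers_eq_of_card_prime' sigmaCore_le
  le_normalizer_sigmaCore mem_of_map_cj_eq)

universe u
variable {G : Type u} [Group G] [Finite G] {p : ℕ} [hp : Fact p.Prime]

/-- the configuration of B&G 12.7 -/
structure Cfg (M A P : Subgroup G) (S : Sylow p G) (u : G) : Prop where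
  sylM : IsSylowIn p P M
  AP : A ≤ P
  PS : P ≤ (S : Subgroup G)
  uS : u ∈ (S : Subgroup G)
  uN : u ∈ normalizer (P : Set G)
  uM : u ∉ M
  omega : ∀ x ∈ P, x ^ p = 1 ↔ x ∈ A
  comm : ∀ a ∈ P, ∀ b ∈ P, a * b = b * a
  tr : Transv p A u

theorem exists_cfg (h1416 : St1416 G) (h1417 : St1417 G)
    {M : Subgroup G} (hM : IsCoatom M) (hpτ : p ∈ Cfsg.tau2 M)
    (hS : ∀ S : Sylow p G, ¬ IsMulCommutative (S : Subgroup G))
    {A : Subgroup G} (hAM : A ≤ M) (hAe : Cfsg.IsElementaryAbelian p A)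
    (hAc : Nat.card A = p ^ 2) :
    ∃ (P : Subgroup G) (S : Sylow p G) (u : G), Cfg M A P S u := by
  have hAp : IsPGroup p A := IsPGroup.of_card hAc
  obtain ⟨P, hP, hAP⟩ := exists_isSylowIn_ge hAM hAp
  obtain ⟨-, hPstruct, -, -, -, -⟩ := h1417 M hM p hpτ A ⟨hAM, hAe, hAc⟩
  obtain ⟨hPc, hP2⟩ := hPstruct hP.toSylow
  rw [hP.toSylow_map] at hP2
  obtain ⟨hΩ, -⟩ := hP2 hAP
  have hcomm : ∀ a ∈ P, ∀ b ∈ P, a * b = b * a := by
    intro a ha b hb
    have := hPc.is_comm.comm ⟨⟨a, hP.1 ha⟩, Subgroup.mem_subgroupOf.mpr ha⟩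
      ⟨⟨b, hP.1 hb⟩, Subgroup.mem_subgroupOf.mpr hb⟩
    have h2 := congrArg (fun t : (hP.toSylow : Subgroup M) => ((t : M) : G)) this
    simpa using h2
  obtain ⟨S, hPS⟩ := IsPGroup.exists_le_sylow hP.2.1
  have hPne : P ≠ (S : Subgroup G) := by
    intro heq
    apply hS S
    rw [← heq]
    exact ⟨⟨fun a b => Subtype.ext (hcomm a a.2 b b.2)⟩⟩
  have hlt : P < (S : Subgroup G) := lt_of_le_of_ne hPS hPne
  obtain ⟨u, huS, huN, huP⟩ := Cfsg.Agent.Helper9.TransvCent.exists_normalizer_not_mem S.isPGroup' hlt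
  have huM : u ∉ M := by
    intro huM
    apply huP
    have hQM : P ⊔ zpowers u ≤ M := sup_le hP.1 (zpowers_le.mpr huM)
    have hQS : P ⊔ zpowers u ≤ (S : Subgroup G) := sup_le hPS (zpowers_le.mpr huS)
    have hQp : IsPGroup p ↥(P ⊔ zpowers u) := S.isPGroup'.to_le hQS
    have := hP.2.2 _ hQM hQp le_sup_left
    rw [← this]
    exact (le_sup_right : zpowers u ≤ _) (mem_zpowers u)
  have hconjP : ∀ y ∈ P, u * y * u⁻¹ ∈ P := fun y hy => (mem_normalizer_iff.mp huN y).mp hy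
  have huA : u ∈ normalizer (A : Set G) := by
    rw [mem_normalizer_iff_map_cj]
    apply Subgroup.eq_of_le_of_card_ge
    · rintro _ ⟨a, ha, rfl⟩
      rw [cj_apply]
      have h1 : u * a * u⁻¹ ∈ P := hconjP a (hAP ha)
      rw [← hΩ _ h1]
      have h2 : (u * a * u⁻¹) ^ p = u * a ^ p * u⁻¹ := conj_pow
      rw [h2, hAe.2 a ha]; group
    · rw [Subgroup.card_map_of_injective (cj_injective u)]
  have hCA : centralizer (A : Set G) ≤ M := (h1416 M hM p A ⟨hAM, hAe, hAc⟩).1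
  exact ⟨P, S, u, hP, hAP, hPS, huS, huN, huM, hΩ, hcomm,
    ⟨hAe, hAc, huA, fun h => huM (hCA h), S.isPGroup'.to_le (zpowers_le.mpr huS)⟩⟩

end Cfsg.Agent.Helper18.BG12
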