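import Mathlib
import Cfsg.Prelude.Def_OddOrderLocal
import Cfsg.Agent.Helper18.BG12c
import Cfsg.Agent.Helper18.BG16Bb
import Cfsg.Agent.Helper10.BG16A
import Cfsg.Agent.Lead.GenCent

/-!
# B&G Theorem 12.7 (S1419), part 4: the unique singular line `A₀ = C_A(M_σ)`.
-/

set_option autoImplicit false
set_option linter.unusedSectionVars false
set_option linter.unusedVariables false
set_option linter.style.haveILetI false

namespace Cfsg.Agent.Helper18.BG12

open Subgroup Cfsg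
open Cfsg.Agent.Helper14 (IsSylowIn cj cj_apply mem_normalizer_iff_map_cj cj_injective
  exists_isSylowIn_ge map_cj_centralizer mem_map_cj map_cj_le_iff map_cj_inv_map_cj)
open Cfsg.Agent.H9.BG12 (St1350 St1416 St1417 St1418 zpowers_eq_of_card_prime' sigmaCore_le
  le_normalizer_sigmaCore mem_of_map_cj_eq mem_sigma_of_dvd_card_sigmaCore)

universe u
variable {G : Type u} [Group G] [Finite G] {p : ℕ} [hp : Fact p.Prime]

/-- `M` is the unique maximal subgroup containing `C_G(X)` -/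
def COwns (M X : Subgroup G) : Prop :=
  centralizer (X : Set G) ≤ M ∧
    ∀ L : Subgroup G, IsCoatom L → centralizer (X : Set G) ≤ L → L = M

theorem COwns.map_cj {M X : Subgroup G} (h : COwns M X) (g : G) :
    COwns (M.map (cj g)) (X.map (cj g)) := by
  constructor
  · rw [← map_cj_centralizer]
    exact Subgroup.map_mono h.1
  · intro L hL hle
    rw [← map_cj_centralizer, map_cj_le_iff] at hle
    have h1 := h.2 _ (Cfsg.Agent.Lead.BG9.isCoatom_map_cj hL g⁻¹) hle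
    rw [← h1, map_cj_inv_map_cj]

theorem map_cj_eq_of_forall {X : Subgroup G} {g : G} (h : ∀ x ∈ X, g * x * g⁻¹ = x) :
    X.map (cj g) = X := by
  ext y
  constructor
  · rintro ⟨x, hx, rfl⟩
    rw [cj_apply, h x hx]; exact hx
  · intro hy
    exact ⟨y, hy, by rw [cj_apply, h y hy]⟩

theorem card_map_cj' (X : Subgroup G) (g : G) : Nat.card (X.map (cj g)) = Nat.card X :=
  Subgroup.card_map_of_injective (cj_injective g)

/-- the line generated by a nonidentity element of an elementary abelian group -/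
theorem line_of_mem {A : Subgroup G} (hAe : Cfsg.IsElementaryAbelian p A) {a : G} (ha : a ∈ A)
    (ha1 : a ≠ 1) : Nat.card (zpowers a) = p ∧ zpowers a ≤ A ∧
      centralizer ((zpowers a : Subgroup G) : Set G) = centralizer {a} := by
  refine ⟨?_, zpowers_le.mpr ha, Cfsg.Agent.Helper4.BG10.centralizer_zpowers_eq a⟩
  rw [Nat.card_zpowers]
  exact orderOf_eq_prime (hAe.2 a ha) ha1

theorem sing_line (hG : Cfsg.IsMinSimpleOddOrder G) (h1417 : St1417 G) (h1418 : St1418 G)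
    {M : Subgroup G} (hM : IsCoatom M) {E : Subgroup G}
    (hE : Cfsg.IsComplIn E (Cfsg.sigmaCore M) M) (hpτ : p ∈ Cfsg.tau2 M)
    {A : Subgroup G} (hAE : A ≤ E) (hAe : Cfsg.IsElementaryAbelian p A)
    (hAc : Nat.card A = p ^ 2) {P : Subgroup G} {S : Sylow p G} {u : G} (c : Cfg M A P S u) :
    Nat.card ↥(A ⊓ centralizer (Cfsg.sigmaCore M : Set G)) = p ∧
      COwns M (A ⊓ centralizer (Cfsg.sigmaCore M : Set G)) ∧
      A ⊓ centralizer (Cfsg.sigmaCore M : Set G) ≠ A ⊓ centralizer ({u} : Set G) ∧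
      ∀ X : Subgroup G, X ≤ A → Nat.card X = p → X ≠ A ⊓ centralizer (Cfsg.sigmaCore M : Set G) →
        Cfsg.sigmaCore M ⊓ centralizer (X : Set G) = ⊥ ∧ ¬ centralizer (X : Set G) ≤ M := by
  classical
  set Ms := Cfsg.sigmaCore M with hMs
  set A₂ := A ⊓ centralizer ({u} : Set G) with hA₂
  have hAM : A ≤ M := hAE.trans hE.1
  obtain ⟨-, -, hc418⟩ := h1418 M hM E hE p hpτ A ⟨hAE, hAe, hAc⟩
  obtain ⟨-, -, -, hfixA, -, -⟩ := h1417 M hM p hpτ A ⟨hAM, hAe, hAc⟩
  have h1350 : St1350 G := fun M hM => Cfsg.Agent.S1350.result hG M hM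
  have hMs1 : Ms ≠ ⊥ :=
    Cfsg.Agent.Helper10.BG16.sigmaCore_ne_bot hG h1350 (Cfsg.Agent.Helper18.BG16B.uniq96 hG) hM
  have hown : ∀ X : Subgroup G, X ≤ A → Nat.card X = p → Ms ⊓ centralizer (X : Set G) ≠ ⊥ →
      COwns M X := fun X hXA hX hs => hc418 X hXA hX hs
  have hB2 : ∀ X : Subgroup G, X ≤ A → Nat.card X = p → Ms ⊓ centralizer (X : Set G) ≠ ⊥ →
      ∀ g : G, X.map (cj g) ≤ A → Ms ⊓ centralizer ((X.map (cj g) : Subgroup G) : Set G) ≠ ⊥ →
      g ∈ M := by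
    intro X hXA hX hs g hgA hgs
    have h1 := (hown X hXA hX hs).map_cj g
    have h2 := hown (X.map (cj g)) hgA (by rw [card_map_cj', hX]) hgs
    have h3 : M = M.map (cj g) := h1.2 M hM h2.1
    exact mem_of_map_cj_eq hG hM h3.symm
  have hB3 : ∀ i : ℕ, u ^ i ∈ M → ∀ a ∈ A, u ^ i * a * (u ^ i)⁻¹ = a := by
    intro i hi a ha
    have hgP : u ^ i ∈ P := by
      have hgS : u ^ i ∈ (S : Subgroup G) := Subgroup.pow_mem _ c.uS i
      have hQM : P ⊔ zpowers (u ^ i) ≤ M := sup_le c.sylM.1 (zpowers_le.mpr hi)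
      have hQS : P ⊔ zpowers (u ^ i) ≤ (S : Subgroup G) := sup_le c.PS (zpowers_le.mpr hgS)
      have hQp : IsPGroup p ↥(P ⊔ zpowers (u ^ i)) := S.isPGroup'.to_le hQS
      have := c.sylM.2.2 _ hQM hQp le_sup_left
      rw [← this]
      exact (le_sup_right : zpowers (u ^ i) ≤ _) (mem_zpowers _)
    have := c.comm _ hgP a (c.AP ha)
    rw [this]; group
  have hB5 : Ms ⊓ centralizer (A₂ : Set G) = ⊥ := by
    by_contra hs
    have h1 := hown A₂ inf_le_left c.tr.card_fix hs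
    apply c.uM
    apply h1.1
    rw [Subgroup.mem_centralizer_iff]
    intro a ha
    exact Subgroup.mem_centralizer_singleton_iff.mp (Subgroup.mem_inf.mp ha).2
  have hB4 : ∀ X : Subgroup G, X ≤ A → Nat.card X = p → Ms ⊓ centralizer (X : Set G) ≠ ⊥ →
      ∀ Y : Subgroup G, Y ≤ A → Nat.card Y = p → Ms ⊓ centralizer (Y : Set G) ≠ ⊥ → Y = X := by
    intro X hXA hX hsX Y hYA hY hsY
    have hXne : X ≠ A₂ := fun h => hsX (h ▸ hB5)
    have hYne : Y ≠ A₂ := fun h => hsY (h ▸ hB5)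
    obtain ⟨i, hi⟩ := c.tr.exists_conj_line hXA hX hXne hYA hY hYne
    have hgM : u ^ i ∈ M := hB2 X hXA hX hsX (u ^ i) (hi ▸ hYA) (hi ▸ hsY)
    rw [hi]
    exact map_cj_eq_of_forall (fun x hx => hB3 i hgM x (hXA hx))
  -- existence of a singular line
  haveI : IsMulCommutative A := hAe.1
  have hncyc : ¬ IsCyclic A := not_isCyclic_of_elementary hAe hAc
  have hAn : A ≤ normalizer (Ms : Set G) := hAM.trans (le_normalizer_sigmaCore M)
  have hcop : (Nat.card A).Coprime (Nat.card Ms) := by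
    rw [hAc]
    apply Nat.Coprime.pow_left
    exact (Nat.Prime.coprime_iff_not_dvd hp.out).mpr
      (fun hd => hpτ.2.1 (mem_sigma_of_dvd_card_sigmaCore hp.out hd))
  have hgen := Cfsg.Agent.Lead.generated_by_centralizers A Ms hncyc hAn hcop
  have hex : ∃ a ∈ A, a ≠ 1 ∧ Ms ⊓ centralizer ({a} : Set G) ≠ ⊥ := by
    by_contra hno
    push Not at hno
    apply hMs1
    rw [eq_bot_iff]
    calc Ms = ⨆ a ∈ {a : G | a ∈ A ∧ a ≠ 1}, Ms ⊓ centralizer {a} := hgen.symm
      _ ≤ ⊥ := iSup₂_le (fun a ha => by rw [hno a ha.1 ha.2])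
  obtain ⟨a₀, ha₀A, ha₀1, ha₀s⟩ := hex
  set X₀ : Subgroup G := zpowers a₀ with hX₀def
  obtain ⟨hX₀c, hX₀A, hX₀C⟩ := line_of_mem hAe ha₀A ha₀1
  have hX₀s : Ms ⊓ centralizer (X₀ : Set G) ≠ ⊥ := by rw [hX₀C]; exact ha₀s
  have hMsC : Ms ≤ centralizer (X₀ : Set G) := by
    calc Ms = ⨆ a ∈ {a : G | a ∈ A ∧ a ≠ 1}, Ms ⊓ centralizer {a} := hgen.symm
      _ ≤ centralizer (X₀ : Set G) := iSup₂_le (fun a ha => by
          by_cases hs : Ms ⊓ centralizer ({a} : Set G) = ⊥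
          · rw [hs]; exact bot_le
          · obtain ⟨hc, hA', hC⟩ := line_of_mem hAe ha.1 ha.2
            have hs' : Ms ⊓ centralizer ((zpowers a : Subgroup G) : Set G) ≠ ⊥ := by
              rw [hC]; exact hs
            have h1 := hB4 X₀ hX₀A hX₀c hX₀s (zpowers a) hA' hc hs'
            rw [← hC, h1]; exact inf_le_right)
  set A₀ : Subgroup G := A ⊓ centralizer (Ms : Set G) with hA₀
  have hX₀A₀ : X₀ ≤ A₀ := le_inf hX₀A (Subgroup.le_centralizer_iff.mp hMsC)
  have hA₀ne : A₀ ≠ A := by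
    intro h
    have hAC : A ≤ centralizer (Ms : Set G) := by
      have : A₀ ≤ centralizer (Ms : Set G) := inf_le_right
      rwa [h] at this
    have h2 : Ms ≤ centralizer (A : Set G) := Subgroup.le_centralizer_iff.mp hAC
    apply hMs1
    rw [← hfixA]
    exact (inf_eq_left.mpr h2).symm
  have hA₀c : Nat.card A₀ = p := by
    have hdvd : Nat.card A₀ ∣ p ^ 2 := by
      rw [← hAc]; exact Subgroup.card_dvd_of_le inf_le_left
    obtain ⟨i, hi, hci⟩ := (Nat.dvd_prime_pow hp.out).mp hdvd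
    have h1 : p ∣ Nat.card A₀ := by
      rw [← hX₀c]; exact Subgroup.card_dvd_of_le hX₀A₀
    have hi0 : i ≠ 0 := by
      rintro rfl
      rw [hci, pow_zero] at h1
      exact hp.out.one_lt.ne' (Nat.dvd_one.mp h1)
    have hi2 : i ≠ 2 := by
      rintro rfl
      exact hA₀ne (Subgroup.eq_of_le_of_card_ge inf_le_left (by rw [hci, hAc]))
    have : i = 1 := by omega
    rw [hci, this, pow_one]
  have hA₀X₀ : X₀ = A₀ := Subgroup.eq_of_le_of_card_ge hX₀A₀ (by rw [hA₀c, hX₀c])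
  have hA₀s : Ms ⊓ centralizer (A₀ : Set G) ≠ ⊥ := hA₀X₀ ▸ hX₀s
  have hA₀A : A₀ ≤ A := inf_le_left
  refine ⟨hA₀c, hown A₀ hA₀A hA₀c hA₀s, fun h => hA₀s (h ▸ hB5), ?_⟩
  intro X hXA hX hXne
  have hreg : Ms ⊓ centralizer (X : Set G) = ⊥ := by
    by_contra hs
    exact hXne (hB4 A₀ hA₀A hA₀c hA₀s X hXA hX hs)
  refine ⟨hreg, ?_⟩
  intro hCX
  by_cases hX2 : X = A₂
  · apply c.uM
    apply hCX
    rw [hX2, Subgroup.mem_centralizer_iff]
    intro a ha
    exact Subgroup.mem_centralizer_singleton_iff.mp (Subgroup.mem_inf.mp ha).2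
  · have hA₀2 : A₀ ≠ A₂ := fun h => hA₀s (h ▸ hB5)
    obtain ⟨i, hi⟩ := c.tr.exists_conj_line hA₀A hA₀c hA₀2 hXA hX hX2
    have hgM : u ^ i ∉ M := by
      intro hgM
      apply hXne
      rw [hi]
      exact map_cj_eq_of_forall (fun x hx => hB3 i hgM x (hA₀A hx))
    apply hgM
    have h1 := (hown A₀ hA₀A hA₀c hA₀s).map_cj (u ^ i)
    rw [← hi] at h1
    have h3 : M = M.map (cj (u ^ i)) := h1.2 M hM hCX
    exact mem_of_map_cj_eq hG hM h3.symm

end Cfsg.Agent.Helper18.BG12
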