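import Mathlib
import Cfsg.Prelude.Def_OddOrderLocal
import Cfsg.Agent.Helper18.BG12d
import Cfsg.Agent.Helper29.Schmidt
import Cfsg.Agent.Helper9.BG12h

/-!
# B&G Theorem 12.7 (S1419), part 5: `τ₂(M) = {p}`.
-/

set_option autoImplicit false
set_option linter.unusedSectionVars false
set_option linter.unusedVariables false
set_option linter.style.haveILetI false

namespace Cfsg.Agent.Helper18.BG12

open Subgroup Cfsg
open Cfsg.Agent.Helper14 (IsSylowIn cj cj_apply mem_normalizer_iff_map_cj cj_injective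
  exists_isSylowIn_ge exists_isSylowIn map_cj_centralizer mem_map_cj map_cj_le_iff
  map_cj_inv_map_cj)
open Cfsg.Agent.H9.BG12 (St1350 St1416 St1417 St1418 zpowers_eq_of_card_prime' sigmaCore_le
  le_normalizer_sigmaCore mem_of_map_cj_eq mem_sigma_of_dvd_card_sigmaCore)

universe u
variable {G : Type u} [Group G] [Finite G] {p : ℕ} [hp : Fact p.Prime]

/-- Sylow `p`-subgroups of `M` are abelian for `p ∈ τ₂(M)` -/
theorem comm_of_isSylowIn (h1417 : St1417 G) {M : Subgroup G} (hM : IsCoatom M)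
    (hpτ : p ∈ Cfsg.tau2 M) {A : Subgroup G} (hAM : A ≤ M) (hAe : Cfsg.IsElementaryAbelian p A)
    (hAc : Nat.card A = p ^ 2) {Q : Subgroup G} (hQ : IsSylowIn p Q M) :
    ∀ a ∈ Q, ∀ b ∈ Q, a * b = b * a := by
  obtain ⟨-, hPstruct, -, -, -, -⟩ := h1417 M hM p hpτ A ⟨hAM, hAe, hAc⟩
  obtain ⟨hPc, -⟩ := hPstruct hQ.toSylow
  intro a ha b hb
  have := hPc.is_comm.comm ⟨⟨a, hQ.1 ha⟩, Subgroup.mem_subgroupOf.mpr ha⟩
    ⟨⟨b, hQ.1 hb⟩, Subgroup.mem_subgroupOf.mpr hb⟩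
  have h2 := congrArg (fun t : (hQ.toSylow : Subgroup M) => ((t : M) : G)) this
  simpa using h2

/-- a prime `q ∉ σ(L)` for which `L` contains an elementary abelian subgroup of order `q ^ 2`
lies in `τ₂(L)` -/
theorem mem_tau2_of_elementary (hG : Cfsg.IsMinSimpleOddOrder G) {L : Subgroup G}
    (hL : IsCoatom L) {q : ℕ} [hq : Fact q.Prime] (hqL : q ∉ Cfsg.sigma L) {B : Subgroup G}
    (hBL : B ≤ L) (hBe : Cfsg.IsElementaryAbelian q B) (hBc : Nat.card B = q ^ 2) :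
    q ∈ Cfsg.tau2 L := by
  refine ⟨hq.out, hqL, ?_, ?_⟩
  · by_contra h
    exact hqL (Cfsg.Agent.Helper21.BG10.alpha_subset_sigma hG
      (Cfsg.Agent.Helper18.BG16B.uniq96 hG) hL ⟨hq.out, h⟩)
  · apply Cfsg.Agent.Lead.BG9.not_pRankLE_of_elementary hBL hBe
    rw [hBc, pow_one]
    have := hq.out.one_lt
    nlinarith

theorem tau2_eq (hG : Cfsg.IsMinSimpleOddOrder G) (h1416 : St1416 G) (h1417 : St1417 G)
    (h1418 : St1418 G) {M : Subgroup G} (hM : IsCoatom M) {E : Subgroup G}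
    (hE : Cfsg.IsComplIn E (Cfsg.sigmaCore M) M) (hpτ : p ∈ Cfsg.tau2 M)
    (hS : ∀ S : Sylow p G, ¬ IsMulCommutative (S : Subgroup G))
    {A : Subgroup G} (hAE : A ≤ E) (hAe : Cfsg.IsElementaryAbelian p A)
    (hAc : Nat.card A = p ^ 2) {P : Subgroup G} {S : Sylow p G} {u : G} (c : Cfg M A P S u) :
    Cfsg.tau2 M = {p} := by
  classical
  ext r
  rw [Set.mem_singleton_iff]
  constructor
  swap
  · rintro rfl; exact hpτ
  intro hrτ
  by_contra hrp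
  haveI hrf : Fact r.Prime := ⟨hrτ.1⟩
  have h1350 : St1350 G := fun M hM => Cfsg.Agent.S1350.result hG M hM
  have hAM : A ≤ M := hAE.trans hE.1
  have hAp : IsPGroup p A := IsPGroup.of_card hAc
  have hA1 : A ≠ ⊥ := c.tr.ne_bot
  -- an elementary abelian `r`-subgroup of `E` of order `r ^ 2`
  obtain ⟨B₀, hB₀M, hB₀e, hB₀c'⟩ :=
    Cfsg.Agent.Lead.TT.exists_elementary_of_not_pRankLE' 1 M hrτ.2.2.2
  have hB₀c : Nat.card B₀ = r ^ 2 := by
    apply le_antisymm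
    · by_contra hlt
      push Not at hlt
      exact Cfsg.Agent.Lead.BG9.not_pRankLE_of_elementary hB₀M hB₀e hlt hrτ.2.2.1
    · simpa using hB₀c'
  have hsolvM : Group.IsSolvable M := Cfsg.Agent.H9.BG12.solvable_of_le_coatom hG hM le_rfl
  have hHallE := Cfsg.Agent.H9.BG12.isPiHallOf_compl h1350 hM hE
  have hB₀π : Cfsg.Agent.Lead.IsPiNum (Cfsg.sigma M)ᶜ (Nat.card B₀) := by
    intro q hq hd
    rw [hB₀c] at hd
    have := (Nat.prime_dvd_prime_iff_eq hq hrτ.1).mp (hq.dvd_of_dvd_pow hd)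
    rw [this]; exact hrτ.2.1
  obtain ⟨m, hm, hmE⟩ := Cfsg.Agent.H9.BG12.exists_conj_le_of_hall hsolvM hHallE hB₀M hB₀π
  set B : Subgroup G := B₀.map (cj m) with hB
  have hBE : B ≤ E := hmE
  have hBM : B ≤ M := hBE.trans hE.1
  have hBc : Nat.card B = r ^ 2 := by rw [hB, card_map_cj', hB₀c]
  have hBe : Cfsg.IsElementaryAbelian r B := by
    have h' := Cfsg.Agent.Helper26.isElementaryAbelian_iff.mp hB₀e
    rw [Cfsg.Agent.Helper26.isElementaryAbelian_iff]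
    refine ⟨?_, ?_⟩
    · rintro _ ⟨a, ha, rfl⟩ _ ⟨b, hb, rfl⟩
      rw [← map_mul, ← map_mul, h'.1 a ha b hb]
    · rintro _ ⟨a, ha, rfl⟩
      rw [← map_pow, h'.2 a ha, map_one]
  have hBr : IsPGroup r B := IsPGroup.of_card hBc
  -- the maximal subgroup `L ⊇ N_G(A)`
  obtain ⟨⟨hEN, -⟩, ⟨-, -, hNM⟩, -⟩ := h1418 M hM E hE p hpτ A ⟨hAE, hAe, hAc⟩
  have hAt : A ≠ ⊤ := fun h => hM.1 (top_le_iff.mp (h ▸ hAM))
  obtain ⟨L, hL, hNL⟩ := Cfsg.Agent.Helper21.BG10.exists_coatom_normalizer_le hG.2.1 hA1 hAt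
  have hLM : L ≠ M := fun h => hNM (h ▸ hNL)
  have hAL : A ≤ L := le_normalizer.trans hNL
  have hBL : B ≤ L := hBE.trans (hEN.trans hNL)
  have huL : u ∈ L := hNL c.tr.norm
  -- `p ∈ σ(L)`
  have hpσ : p ∈ Cfsg.sigma L := by
    by_contra hpL
    have hpτL := mem_tau2_of_elementary hG hL hpL hAL hAe hAc
    have hQL : A ⊔ zpowers u ≤ L := sup_le hAL (zpowers_le.mpr huL)
    have hQS : A ⊔ zpowers u ≤ (S : Subgroup G) :=
      sup_le (c.AP.trans c.PS) (zpowers_le.mpr c.uS)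
    have hQp : IsPGroup p ↥(A ⊔ zpowers u) := S.isPGroup'.to_le hQS
    obtain ⟨Q, hQ, hle⟩ := exists_isSylowIn_ge hQL hQp
    have hcomm := comm_of_isSylowIn h1417 hL hpτL hAL hAe hAc hQ
    apply c.tr.ncent
    rw [Subgroup.mem_centralizer_iff]
    intro a ha
    exact hcomm a (hle ((le_sup_left : A ≤ _) ha)) u
      (hle ((le_sup_right : zpowers u ≤ _) (mem_zpowers u)))
  -- `r ∈ σ(L)`
  have hrσ : r ∈ Cfsg.sigma L := by
    by_contra hrL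
    have hrτL := mem_tau2_of_elementary hG hL hrL hBL hBe hBc
    obtain ⟨-, -, -, -, hstar, -⟩ := h1417 L hL r hrτL B ⟨hBL, hBe, hBc⟩
    have h1 := hstar M hM hLM.symm hBM
    have h2 : A ≤ Cfsg.sigmaCore L :=
      Cfsg.Agent.H9.BG12.le_sigmaCore_of_isPGroup h1350 hL hpσ hAL hAp
    apply hA1
    rw [eq_bot_iff, ← h1]
    exact le_inf h2 hAM
  -- neither is in `β(L)`
  have hpβ : p ∉ Cfsg.beta L := fun h =>
    (Cfsg.Agent.S1408.result hG M hM p hpτ.2.1 hpτ.2.2.1 hpτ.2.2.2).1 h.2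
  have hrβ : r ∉ Cfsg.beta L := fun h =>
    (Cfsg.Agent.S1408.result hG M hM r hrτ.2.1 hrτ.2.2.1 hrτ.2.2.2).1 h.2
  obtain ⟨-, -, -, ⟨H, hH, hHnil⟩, -⟩ := Cfsg.Agent.S1414.result hG L hL
  -- Sylow subgroups of `H` are Sylow subgroups of `G`
  have hsyl : ∀ (q : ℕ) [Fact q.Prime], q ∈ Cfsg.sigma L → q ∉ Cfsg.beta L →
      ∃ Sq : Subgroup G, Sq ≤ H ∧ IsSylowIn q Sq ⊤ := by
    intro q hqf hqσ hqβ
    obtain ⟨Sq, hSq⟩ := exists_isSylowIn (p := q) H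
    have h1 : IsSylowIn q Sq (Cfsg.sigmaCore L) :=
      Cfsg.Agent.Helper10.BG16.isSylowIn_of_not_dvd_relIndex' hSq hH.1
        (hH.2.2 q hqf.out ⟨hqf.out, hqβ⟩)
    have h2 := Cfsg.Agent.Helper4.BG12SD.isSylowIn_of_isSylowIn_sigmaCore hG hL hqσ h1
    exact ⟨Sq, hSq.1, Cfsg.Agent.Helper4.BG10.sigma_isSylowIn_top hqσ h2⟩
  obtain ⟨Sp, hSpH, hSp⟩ := hsyl p hpσ hpβ
  obtain ⟨Sr, hSrH, hSr⟩ := hsyl r hrσ hrβ
  have hcommH := Cfsg.Agent.Helper29.commute_of_nilpotent_of_pgroups hHnil hSpH hSrH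
    (fun h => hrp h.symm) hSp.2.1 hSr.2.1
  -- conjugate `B` into `Sr`
  obtain ⟨Q', hQ', hBQ'⟩ := exists_isSylowIn_ge (le_top : B ≤ ⊤) hBr
  obtain ⟨g, -, hg⟩ := hSr.exists_conj hQ'
  have hBg : B ≤ Sr.map (cj g) := hg ▸ hBQ'
  have hCB : centralizer (B : Set G) ≤ M := (h1416 M hM r B ⟨hBM, hBe, hBc⟩).1
  have hSpM : Sp.map (cj g) ≤ M := by
    refine le_trans ?_ hCB
    rintro _ ⟨a, ha, rfl⟩
    rw [Subgroup.mem_centralizer_iff]
    intro b hb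
    obtain ⟨b', hb', rfl⟩ := hBg hb
    rw [← map_mul, ← map_mul, hcommH a ha b' hb']
  obtain ⟨Q, hQ, hle⟩ := exists_isSylowIn_ge hSpM (hSp.2.1.map _)
  have hcommQ := comm_of_isSylowIn h1417 hM hpτ hAM hAe hAc hQ
  obtain ⟨T, hT⟩ := IsPGroup.exists_le_sylow hSp.2.1
  have hTeq : (T : Subgroup G) = Sp := hSp.2.2 T le_top T.isPGroup' hT
  apply hS T
  rw [hTeq]
  refine ⟨⟨fun a b => Subtype.ext ?_⟩⟩
  have h1 := hcommQ _ (hle ⟨a, a.2, rfl⟩) _ (hle ⟨b, b.2, rfl⟩)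
  rw [← map_mul, ← map_mul] at h1
  exact cj_injective g h1

end Cfsg.Agent.Helper18.BG12
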