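import Mathlib
import Cfsg.Prelude.Def_OddOrderLocal
import Cfsg.Agent.Helper18.BG12e
import Cfsg.Agent.Lead.BL1
import Cfsg.Agent.Helper14.Amalgam5

/-!
# B&G Theorem 12.7 (S1419), part 6: `F(M) = M_σ × A₀`.
-/

set_option autoImplicit false
set_option linter.unusedSectionVars false
set_option linter.unusedVariables false
set_option linter.style.haveILetI false

namespace Cfsg.Agent.Helper18.BG12

open Subgroup Cfsg
open Cfsg.Agent.Helper14 (IsSylowIn cj cj_apply mem_normalizer_iff_map_cj cj_injective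
  exists_isSylowIn_ge exists_isSylowIn map_cj_centralizer mem_map_cj map_cj_le_iff
  map_cj_inv_map_cj le_normalizer_of_map_cj_le)
open Cfsg.Agent.H9.BG12 (St1350 St1416 St1417 St1418 zpowers_eq_of_card_prime' sigmaCore_le
  le_normalizer_sigmaCore mem_of_map_cj_eq mem_sigma_of_dvd_card_sigmaCore)

universe u
variable {G : Type u} [Group G] [Finite G] {p : ℕ} [hp : Fact p.Prime]

/-- two distinct lines generate an abelian group of order `p ^ 2` -/
theorem sup_eq_of_lines {A X Y : Subgroup G} (hcomm : ∀ a ∈ A, ∀ b ∈ A, a * b = b * a)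
    (hAc : Nat.card A = p ^ 2) (hXA : X ≤ A) (hYA : Y ≤ A) (hX : Nat.card X = p)
    (hY : Nat.card Y = p) (hne : X ≠ Y) : X ⊔ Y = A := by
  have hXY : X ⊓ Y = ⊥ := by
    by_contra hne'
    obtain ⟨⟨c, hc⟩, hc1'⟩ := (Subgroup.ne_bot_iff_exists_ne_one (H := X ⊓ Y)).mp hne'
    have hc1 : c ≠ 1 := fun h' => hc1' (Subtype.ext h')
    have h1 : zpowers c = X := zpowers_eq_of_card_prime' hX (Subgroup.mem_inf.mp hc).1 hc1
    have h2 : zpowers c = Y := zpowers_eq_of_card_prime' hY (Subgroup.mem_inf.mp hc).2 hc1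
    exact hne (h1.symm.trans h2)
  have hnorm : Y ≤ normalizer (X : Set G) := by
    refine le_trans ?_ (centralizer_le_normalizer _)
    intro a ha
    rw [Subgroup.mem_centralizer_iff]
    intro y hy
    exact hcomm y (hXA hy) a (hYA ha)
  apply Subgroup.eq_of_le_of_card_ge (sup_le hXA hYA)
  have h1 := Cfsg.Agent.Helper17.card_sup_mul_card_inf X Y hnorm
  rw [hXY, Subgroup.card_bot, mul_one, hX, hY] at h1
  rw [h1, hAc, sq]

/-- the `n`-th powers of an abelian subgroup -/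
def powSub (P : Subgroup G) (hc : ∀ a ∈ P, ∀ b ∈ P, a * b = b * a) (n : ℕ) : Subgroup G where
  carrier := {a | ∃ v ∈ P, v ^ n = a}
  one_mem' := ⟨1, P.one_mem, one_pow n⟩
  mul_mem' := by
    rintro _ _ ⟨v, hv, rfl⟩ ⟨v', hv', rfl⟩
    exact ⟨v * v', P.mul_mem hv hv', (show Commute v v' from hc v hv v' hv').mul_pow n⟩
  inv_mem' := by
    rintro _ ⟨v, hv, rfl⟩
    exact ⟨v⁻¹, P.inv_mem hv, inv_pow v n⟩

theorem mem_powSub {P : Subgroup G} {hc : ∀ a ∈ P, ∀ b ∈ P, a * b = b * a} {n : ℕ} {a : G} :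
    a ∈ powSub P hc n ↔ ∃ v ∈ P, v ^ n = a := Iff.rfl

/-- the elements of order dividing `n` of an abelian subgroup -/
def omegaSub (C : Subgroup G) (hc : ∀ a ∈ C, ∀ b ∈ C, a * b = b * a) (n : ℕ) : Subgroup G where
  carrier := {a | a ∈ C ∧ a ^ n = 1}
  one_mem' := ⟨C.one_mem, one_pow n⟩
  mul_mem' := by
    rintro a b ⟨ha, ha1⟩ ⟨hb, hb1⟩
    refine ⟨C.mul_mem ha hb, ?_⟩
    rw [(show Commute a b from hc a ha b hb).mul_pow n, ha1, hb1, one_mul]
  inv_mem' := by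
    rintro a ⟨ha, ha1⟩
    exact ⟨C.inv_mem ha, by rw [inv_pow, ha1, inv_one]⟩

theorem mem_omegaSub {C : Subgroup G} {hc : ∀ a ∈ C, ∀ b ∈ C, a * b = b * a} {n : ℕ} {a : G} :
    a ∈ omegaSub C hc n ↔ a ∈ C ∧ a ^ n = 1 := Iff.rfl

/-- no nonidentity element of `A₀` is a `p`-th power in `P` -/
theorem key_pow (hG : Cfsg.IsMinSimpleOddOrder G) (h1417 : St1417 G) (h1418 : St1418 G)
    {M : Subgroup G} (hM : IsCoatom M) {E : Subgroup G}
    (hE : Cfsg.IsComplIn E (Cfsg.sigmaCore M) M) (hpτ : p ∈ Cfsg.tau2 M)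
    (hS : ∀ S : Sylow p G, ¬ IsMulCommutative (S : Subgroup G))
    {A : Subgroup G} (hAE : A ≤ E) (hAe : Cfsg.IsElementaryAbelian p A)
    (hAc : Nat.card A = p ^ 2) {P : Subgroup G} {S : Sylow p G} {u : G} (c : Cfg M A P S u)
    {v : G} (hv : v ∈ P) (hvA : v ^ p ∈ A ⊓ centralizer (Cfsg.sigmaCore M : Set G)) :
    v ^ p = 1 := by
  by_contra hw1
  obtain ⟨hA₀c, -, hA₀ne2, -⟩ := sing_line hG h1417 h1418 hM hE hpτ hAE hAe hAc c
  set A₀ : Subgroup G := A ⊓ centralizer (Cfsg.sigmaCore M : Set G) with hA₀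
  set w := v ^ p with hw
  have hAM : A ≤ M := hAE.trans hE.1
  have hgen : zpowers w = A₀ := zpowers_eq_of_card_prime' hA₀c hvA hw1
  set Pp := powSub P c.comm p with hPp
  have hA₀Pp : A₀ ≤ Pp := by
    rw [← hgen, zpowers_le]
    exact ⟨v, hv, rfl⟩
  have hconjP : ∀ y ∈ P, u * y * u⁻¹ ∈ P := fun y hy => (mem_normalizer_iff.mp c.uN y).mp hy
  have hA₀'Pp : A₀.map (cj u) ≤ Pp := by
    rintro _ ⟨a, ha, rfl⟩
    obtain ⟨v', hv', rfl⟩ := hA₀Pp ha
    refine ⟨u * v' * u⁻¹, hconjP v' hv', ?_⟩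
    rw [cj_apply]
    exact conj_pow
  have hA₀A : A₀ ≤ A := inf_le_left
  have hA₀'A : A₀.map (cj u) ≤ A := by
    rintro _ ⟨a, ha, rfl⟩
    exact c.tr.conj_mem a (hA₀A ha)
  have hA₀'c : Nat.card (A₀.map (cj u)) = p := by rw [card_map_cj', hA₀c]
  have hne : A₀ ≠ A₀.map (cj u) := by
    intro heq
    have huN : u ∈ normalizer (A₀ : Set G) := mem_normalizer_iff_map_cj.mpr heq.symm
    have hzn : zpowers u ≤ normalizer (A₀ : Set G) := zpowers_le.mpr huN
    have hzc := Cfsg.Agent.Helper4.BG36L2.le_centralizer_of_card_prime (zpowers u) A₀ p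
      c.tr.pgrp hA₀c hzn
    have hle : A₀ ≤ A ⊓ centralizer ({u} : Set G) := by
      intro a ha
      refine Subgroup.mem_inf.mpr ⟨hA₀A ha, ?_⟩
      rw [Subgroup.mem_centralizer_singleton_iff]
      have h2 := hzc (mem_zpowers u)
      rw [Subgroup.mem_centralizer_iff] at h2
      exact h2 a ha
    exact hA₀ne2 (Subgroup.eq_of_le_of_card_ge hle (by rw [c.tr.card_fix, hA₀c]))
  have hsup : A₀ ⊔ A₀.map (cj u) = A :=
    sup_eq_of_lines c.tr.comm hAc hA₀A hA₀'A hA₀c hA₀'c hne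
  have hAPp : A ≤ Pp := by rw [← hsup]; exact sup_le hA₀Pp hA₀'Pp
  have hAmax := (Cfsg.Agent.S1408.result hG M hM p hpτ.2.1 hpτ.2.2.1 hpτ.2.2.2).2 A hAM hAe hAc
  apply not_all_pth_powers hG S (hS S) (c.AP.trans c.PS) hAe hAc hAmax
  intro a ha
  obtain ⟨v', hv', hva⟩ := hAPp ha
  exact ⟨v', c.PS hv', hva⟩

end Cfsg.Agent.Helper18.BG12
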