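import Mathlib
import Cfsg.Prelude.Def_OddOrderLocal
import Cfsg.Agent.Helper18.BG12f

/-!
# B&G Theorem 12.7 (S1419), part 7: `F(M) = M_σ × A₀` and the final statement.
-/

set_option autoImplicit false
set_option linter.unusedSectionVars false
set_option linter.unusedVariables false
set_option linter.style.haveILetI false

namespace Cfsg.Agent.Helper18.BG12

open Subgroup Cfsg
open Cfsg.Agent.Helper14 (IsSylowIn cj cj_apply mem_normalizer_iff_map_cj cj_injective
  exists_isSylowIn_ge exists_isSylowIn map_cj_centralizer mem_map_cj map_cj_le_iff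
  map_cj_inv_map_cj le_normalizer_of_map_cj_le pCoreOf_le pCoreOf_isPGroup le_normalizer_pCoreOf
  pCoreOf_le_of_isSylowIn)
open Cfsg.Agent.H9.BG12 (St1350 St1416 St1417 St1418 zpowers_eq_of_card_prime' sigmaCore_le
  le_normalizer_sigmaCore mem_of_map_cj_eq mem_sigma_of_dvd_card_sigmaCore)

universe u
variable {G : Type u} [Group G] [Finite G] {p : ℕ} [hp : Fact p.Prime]

/-- two subgroups normalizing each other and meeting trivially commute -/
theorem commute_of_normalize_of_inf_eq_bot {Y N : Subgroup G} (hYN : Y ≤ normalizer (N : Set G))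
    (hNY : N ≤ normalizer (Y : Set G)) (h : Y ⊓ N = ⊥) : Y ≤ centralizer (N : Set G) := by
  intro y hy
  rw [Subgroup.mem_centralizer_iff]
  intro x hx
  have h1 : y * x * y⁻¹ * x⁻¹ ∈ Y ⊓ N := by
    refine Subgroup.mem_inf.mpr ⟨?_, ?_⟩
    · have h2 : x * y⁻¹ * x⁻¹ ∈ Y := (mem_normalizer_iff.mp (hNY hx) y⁻¹).mp (Y.inv_mem hy)
      have : y * x * y⁻¹ * x⁻¹ = y * (x * y⁻¹ * x⁻¹) := by group
      rw [this]; exact Y.mul_mem hy h2
    · have h2 : y * x * y⁻¹ ∈ N := (mem_normalizer_iff.mp (hYN hy) x).mp hx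
      exact N.mul_mem h2 (N.inv_mem hx)
  rw [h, Subgroup.mem_bot] at h1
  calc x * y = (y * x * y⁻¹ * x⁻¹)⁻¹ * y * x := by group
    _ = y * x := by rw [h1]; group

/-- a nontrivial normal `s`-subgroup of `M`, `s ∉ σ(M)`, with `M` of `s`-rank one: impossible -/
theorem no_normal_rank_one (hG : Cfsg.IsMinSimpleOddOrder G) {M : Subgroup G} (hM : IsCoatom M)
    {s : ℕ} [hs : Fact s.Prime] (hsσ : s ∉ Cfsg.sigma M) (hr1 : Cfsg.PRankLE s 1 ↥M)
    {Y : Subgroup G} (hYM : Y ≤ M) (hYs : IsPGroup s Y) (hMY : M ≤ normalizer (Y : Set G))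
    (hY1 : Y ≠ ⊥) : False := by
  classical
  -- the centre of `Y`
  set C : Subgroup G := Y ⊓ centralizer (Y : Set G) with hC
  have hCc : ∀ a ∈ C, ∀ b ∈ C, a * b = b * a := by
    intro a ha b hb
    exact (Subgroup.mem_centralizer_iff.mp (Subgroup.mem_inf.mp hb).2 a (Subgroup.mem_inf.mp ha).1)
  set Z : Subgroup G := omegaSub C hCc s with hZ
  have hZC : Z ≤ C := fun a ha => (mem_omegaSub.mp ha).1
  have hZY : Z ≤ Y := hZC.trans inf_le_left
  have hZM : Z ≤ M := hZY.trans hYM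
  have hZe : Cfsg.IsElementaryAbelian s Z := by
    rw [Cfsg.Agent.Helper26.isElementaryAbelian_iff]
    exact ⟨fun a ha b hb => hCc a (hZC ha) b (hZC hb), fun a ha => (mem_omegaSub.mp ha).2⟩
  -- `Z ≠ 1`
  have hZ1 : Z ≠ ⊥ := by
    haveI : Nontrivial ↥Y := (Subgroup.nontrivial_iff_ne_bot Y).2 hY1
    obtain ⟨z, hz, hz1, hzc⟩ := Cfsg.Agent.Helper10.exists_ne_one_mem_inf_center hYs
      (⊤ : Subgroup ↥Y) (by simp)
    have hzC : (z : G) ∈ C := by
      refine Subgroup.mem_inf.mpr ⟨z.2, ?_⟩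
      rw [Subgroup.mem_centralizer_iff]
      intro y hy
      have := Subgroup.mem_center_iff.mp hzc ⟨y, hy⟩
      exact congrArg Subtype.val this
    have hz1' : (z : G) ≠ 1 := fun h => hz1 (Subtype.ext h)
    obtain ⟨k, hk⟩ := (IsPGroup.iff_orderOf.mp hYs) z
    rw [← Subgroup.orderOf_coe] at hk
    have hk0 : k ≠ 0 := by
      rintro rfl
      rw [pow_zero, orderOf_eq_one_iff] at hk
      exact hz1' hk
    have hsn : s ∣ orderOf (z : G) := by rw [hk]; exact dvd_pow_self s hk0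
    have hzo : orderOf ((z : G) ^ (orderOf (z : G) / s)) = s :=
      orderOf_pow_orderOf_div (orderOf_pos _).ne' hsn
    intro hbot
    have hmem : (z : G) ^ (orderOf (z : G) / s) ∈ Z := by
      refine mem_omegaSub.mpr ⟨C.pow_mem hzC _, ?_⟩
      have := pow_orderOf_eq_one ((z : G) ^ (orderOf (z : G) / s))
      rwa [hzo] at this
    rw [hbot, Subgroup.mem_bot] at hmem
    rw [hmem, orderOf_one] at hzo
    exact hs.out.one_lt.ne hzo
  -- `|Z| = s`
  have hZc : Nat.card Z = s := by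
    have hle : Nat.card Z ≤ s ^ 1 := by
      by_contra hlt
      push Not at hlt
      exact Cfsg.Agent.Lead.BG9.not_pRankLE_of_elementary hZM hZe hlt hr1
    have hZs : IsPGroup s Z := hYs.to_le hZY
    obtain ⟨k, hk⟩ := IsPGroup.iff_card.mp hZs
    have hk0 : k ≠ 0 := by
      rintro rfl
      rw [pow_zero] at hk
      exact hZ1 (Subgroup.card_eq_one.mp hk)
    rw [pow_one] at hle
    rw [hk] at hle ⊢
    have : k = 1 := by
      by_contra hk1
      have h2 : 2 ≤ k := by omega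
      have h3 : s ^ 2 ≤ s ^ k := Nat.pow_le_pow_right hs.out.pos h2
      have := hs.out.one_lt
      nlinarith
    rw [this, pow_one]
  -- `M` normalizes `Z`
  have hMZ : M ≤ normalizer (Z : Set G) := by
    apply le_normalizer_of_map_cj_le
    intro m hm
    rintro _ ⟨z, hz, rfl⟩
    obtain ⟨hzC, hzs⟩ := mem_omegaSub.mp hz
    rw [cj_apply]
    have hconjY : ∀ y ∈ Y, m * y * m⁻¹ ∈ Y := fun y hy =>
      (mem_normalizer_iff.mp (hMY hm) y).mp hy
    have hconjY' : ∀ y ∈ Y, m⁻¹ * y * m ∈ Y := fun y hy => by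
      have := (mem_normalizer_iff.mp (hMY (M.inv_mem hm)) y).mp hy
      simpa using this
    refine mem_omegaSub.mpr ⟨Subgroup.mem_inf.mpr ⟨hconjY z (Subgroup.mem_inf.mp hzC).1, ?_⟩, ?_⟩
    · rw [Subgroup.mem_centralizer_iff]
      intro y hy
      have h1 := Subgroup.mem_centralizer_iff.mp (Subgroup.mem_inf.mp hzC).2 _ (hconjY' y hy)
      calc y * (m * z * m⁻¹) = m * ((m⁻¹ * y * m) * z) * m⁻¹ := by group
        _ = m * (z * (m⁻¹ * y * m)) * m⁻¹ := by rw [h1]
        _ = m * z * m⁻¹ * y := by group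
    · rw [conj_pow, hzs]; group
  -- `N_G(Z) = M`
  have hNZ : normalizer (Z : Set G) ≤ M := by
    by_contra hnle
    have hlt : M < normalizer (Z : Set G) := lt_of_le_of_ne hMZ (fun h => hnle h.ge)
    have htop := hM.2 _ hlt
    have hZn : Z.Normal := Subgroup.normalizer_eq_top_iff.mp htop
    haveI := hG.2.1
    rcases hZn.eq_bot_or_eq_top with h1 | h1
    · exact hZ1 h1
    · exact hM.1 (top_le_iff.mp (h1 ▸ hZM))
  exact (Cfsg.Agent.S1409.result hG M hM s hsσ Z hZc hNZ).1.2 hr1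

theorem fitting_eq (hG : Cfsg.IsMinSimpleOddOrder G) (h1417 : St1417 G) (h1418 : St1418 G)
    {M : Subgroup G} (hM : IsCoatom M) {E : Subgroup G}
    (hE : Cfsg.IsComplIn E (Cfsg.sigmaCore M) M) (hpτ : p ∈ Cfsg.tau2 M)
    (hS : ∀ S : Sylow p G, ¬ IsMulCommutative (S : Subgroup G))
    {A : Subgroup G} (hAE : A ≤ E) (hAe : Cfsg.IsElementaryAbelian p A)
    (hAc : Nat.card A = p ^ 2) {P : Subgroup G} {S : Sylow p G} {u : G} (c : Cfg M A P S u)
    (hτ2 : Cfsg.tau2 M = {p}) :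
    Cfsg.fittingOf M =
      Cfsg.sigmaCore M ⊔ (A ⊓ centralizer (Cfsg.sigmaCore M : Set G)) := by
  classical
  obtain ⟨hA₀c, -, -, -⟩ := sing_line hG h1417 h1418 hM hE hpτ hAE hAe hAc c
  have h1350 : St1350 G := fun M hM => Cfsg.Agent.S1350.result hG M hM
  set Ms := Cfsg.sigmaCore M with hMs
  set A₀ : Subgroup G := A ⊓ centralizer (Ms : Set G) with hA₀
  have hAM : A ≤ M := hAE.trans hE.1
  have hA₀A : A₀ ≤ A := inf_le_left
  have hA₀M : A₀ ≤ M := hA₀A.trans hAM
  obtain ⟨hnil, -, -, -, -, -⟩ := h1417 M hM p hpτ A ⟨hAM, hAe, hAc⟩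
  obtain ⟨⟨hEN, -⟩, -, -⟩ := h1418 M hM E hE p hpτ A ⟨hAE, hAe, hAc⟩
  have hMsM : Ms ≤ M := sigmaCore_le M
  have hMMs : M ≤ normalizer (Ms : Set G) := le_normalizer_sigmaCore M
  apply le_antisymm
  · rw [Cfsg.Agent.Lead.Bender.fittingOf_eq_iSup]
    apply iSup_le
    rintro ⟨s, hsp⟩
    haveI hs : Fact s.Prime := ⟨hsp⟩
    show Cfsg.pCoreOf s M ≤ Ms ⊔ A₀
    set Y := Cfsg.pCoreOf s M with hY
    have hYM : Y ≤ M := pCoreOf_le s M
    have hYs : IsPGroup s Y := pCoreOf_isPGroup s M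
    have hMY : M ≤ normalizer (Y : Set G) := le_normalizer_pCoreOf s M
    by_cases hsσ : s ∈ Cfsg.sigma M
    · exact (Cfsg.Agent.H9.BG12.le_sigmaCore_of_isPGroup h1350 hM hsσ hYM hYs).trans le_sup_left
    by_cases hY1 : Y = ⊥
    · rw [hY1]; exact bot_le
    -- `Y` centralizes `M_σ`
    have hYMs : Y ⊓ Ms = ⊥ := by
      rw [← disjoint_iff]
      apply Subgroup.disjoint_of_coprime_natCard
      obtain ⟨k, hk⟩ := IsPGroup.iff_card.mp hYs
      rw [hk]
      apply Nat.Coprime.pow_left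
      exact (Nat.Prime.coprime_iff_not_dvd hsp).mpr
        (fun hd => hsσ (mem_sigma_of_dvd_card_sigmaCore hsp hd))
    have hYC : Y ≤ centralizer (Ms : Set G) :=
      commute_of_normalize_of_inf_eq_bot (hYM.trans hMMs) (hMsM.trans hMY) hYMs
    by_cases hsp' : s = p
    · subst hsp'
      have hYP : Y ≤ P := pCoreOf_le_of_isSylowIn c.sylM
      refine le_trans ?_ le_sup_right
      -- every element of `Y` has order dividing `s`
      have hexp : ∀ y ∈ Y, y ^ s = 1 := by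
        intro y hy
        by_contra hys
        obtain ⟨k, hk⟩ := (IsPGroup.iff_orderOf.mp hYs) ⟨y, hy⟩
        rw [Subgroup.orderOf_mk] at hk
        have hk2 : 2 ≤ k := by
          by_contra hlt
          push Not at hlt
          apply hys
          apply orderOf_dvd_iff_pow_eq_one.mp
          rw [hk]
          calc s ^ k ∣ s ^ 1 := pow_dvd_pow s (by omega)
            _ = s := pow_one s
        obtain ⟨j, rfl⟩ : ∃ j, k = j + 2 := ⟨k - 2, by omega⟩
        set v := y ^ (s ^ j) with hv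
        have hvY : v ∈ Y := Y.pow_mem hy _
        have hvp : v ^ s = y ^ (s ^ (j + 1)) := by rw [hv, ← pow_mul, ← pow_succ]
        have hvp1 : v ^ s ≠ 1 := by
          rw [hvp]
          intro h1
          have h2 := orderOf_dvd_of_pow_eq_one h1
          rw [hk] at h2
          have h3 := (Nat.pow_dvd_pow_iff_le_right hsp.one_lt).mp h2
          omega
        have hvpp : (v ^ s) ^ s = 1 := by
          rw [hvp, ← pow_mul, ← pow_succ]
          have := pow_orderOf_eq_one y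
          rwa [hk] at this
        apply hvp1
        apply key_pow hG h1417 h1418 hM hE hpτ hS hAE hAe hAc c (hYP hvY)
        refine Subgroup.mem_inf.mpr ⟨?_, hYC (Y.pow_mem hvY s)⟩
        exact (c.omega _ (hYP (Y.pow_mem hvY s))).mp hvpp
      intro y hy
      exact Subgroup.mem_inf.mpr ⟨(c.omega y (hYP hy)).mp (hexp y hy), hYC hy⟩
    · exfalso
      by_cases hr2 : Cfsg.PRankLE s 2 ↥M
      · by_cases hr1 : Cfsg.PRankLE s 1 ↥M
        · exact no_normal_rank_one hG hM hsσ hr1 hYM hYs hMY hY1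
        · have : s ∈ Cfsg.tau2 M := ⟨hsp, hsσ, hr2, hr1⟩
          rw [hτ2, Set.mem_singleton_iff] at this
          exact hsp' this
      · exact hsσ (Cfsg.Agent.Helper21.BG10.alpha_subset_sigma hG
          (Cfsg.Agent.Helper18.BG16B.uniq96 hG) hM ⟨hsp, hr2⟩)
  · apply sup_le
    · exact Cfsg.Agent.Lead.BL.le_fittingOf_of_chain hMsM hMMs le_rfl le_normalizer le_rfl
        le_normalizer hnil
    · have hMsA₀ : Ms ≤ normalizer (A₀ : Set G) := by
        refine le_trans ?_ (centralizer_le_normalizer _)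
        rw [Subgroup.le_centralizer_iff]
        exact inf_le_right
      have hEA₀ : E ≤ normalizer (A₀ : Set G) :=
        Cfsg.Agent.Lead.le_normalizer_inf' hEN
          ((hE.1.trans hMMs).trans (Cfsg.Agent.Lead.normalizer_le_normalizer_centralizer _))
      have hMA₀ : M ≤ normalizer (A₀ : Set G) := by
        intro m hm
        obtain ⟨a, ha, b, hb, rfl⟩ := hE.2.2.2 m hm
        exact Subgroup.mul_mem _ (hEA₀ ha) (hMsA₀ hb)
      have hnilA₀ : Group.IsNilpotent A₀ :=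
        (IsPGroup.of_card (n := 1) (by rw [hA₀c, pow_one])).isNilpotent
      exact Cfsg.Agent.Lead.BL.le_fittingOf_of_chain hA₀M hMA₀ le_rfl le_normalizer le_rfl
        le_normalizer hnilA₀

/-- **B&G Theorem 12.7** (= S1419) relative to S1416, S1417 (and S1418). -/
theorem s1419_of (hG : Cfsg.IsMinSimpleOddOrder G) (h1416 : St1416 G) (h1417 : St1417 G)
    (h1418 : St1418 G) (M : Subgroup G) (hM : IsCoatom M) (E : Subgroup G)
    (hE : Cfsg.IsComplIn E (Cfsg.sigmaCore M) M) (p : ℕ) [Fact p.Prime] (hp : p ∈ Cfsg.tau2 M)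
    (hS : ∀ S : Sylow p G, ¬ IsMulCommutative (S : Subgroup G))
    (A : Subgroup G) (hA : (A ≤ E ∧ Cfsg.IsElementaryAbelian p A ∧ Nat.card A = p ^ 2)) :
    Cfsg.tau2 M = {p} ∧
      (Nat.card ↥(A ⊓ Subgroup.centralizer (Cfsg.sigmaCore M : Set G)) = p ∧
        Cfsg.fittingOf M = Cfsg.sigmaCore M ⊔ (A ⊓ Subgroup.centralizer (Cfsg.sigmaCore M : Set G))) ∧
      ∀ X : Subgroup G, X ≤ E → Nat.card X = p → X ≠ A ⊓ Subgroup.centralizer (Cfsg.sigmaCore M : Set G) →
        Cfsg.sigmaCore M ⊓ Subgroup.centralizer (X : Set G) = ⊥ ∧ ¬ Subgroup.centralizer (X : Set G) ≤ M := by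
  obtain ⟨hAE, hAe, hAc⟩ := hA
  have hAM : A ≤ M := hAE.trans hE.1
  obtain ⟨P, S, u, c⟩ := exists_cfg h1416 h1417 hM hp hS hAM hAe hAc
  have hτ2 := tau2_eq hG h1416 h1417 h1418 hM hE hp hS hAE hAe hAc c
  obtain ⟨hA₀c, -, -, hlines⟩ := sing_line hG h1417 h1418 hM hE hp hAE hAe hAc c
  obtain ⟨⟨-, hXA⟩, -, -⟩ := h1418 M hM E hE p hp A ⟨hAE, hAe, hAc⟩
  refine ⟨hτ2, ⟨hA₀c, fitting_eq hG h1417 h1418 hM hE hp hS hAE hAe hAc c hτ2⟩, ?_⟩
  intro X hXE hX hXne
  exact hlines X (hXA X hXE hX) hX hXne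

end Cfsg.Agent.Helper18.BG12
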