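import Mathlib
import Cfsg.Prelude.Def_Blocks
import Cfsg.Agent.Helper5.StrongOrth
import Cfsg.Agent.Helper5.ThirdMain
import Cfsg.Agent.Helper5.Central
import Cfsg.Agent.Helper24.ColumnOrth
import Cfsg.Agent.Helper24.Restrict

/-!
# Tools for the Brauer–Suzuki theorem: class sums, strong block orthogonality for one column
-/

set_option autoImplicit false

namespace Cfsg.Agent.Helper18.BS

open Module Cfsg Cfsg.Agent.Helper24 Cfsg.Agent.Helper5 Cfsg.Agent.Helper5.CC Cfsg.Agent.Helper5.Loc

variable {G : Type*} [Group G] [Fintype G] {M : Ideal AlgInt}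

/-- Class sum identity: `∑_a χ(v · a u a⁻¹) = |G| χ(u) χ(v) / χ(1)`. -/
theorem sum_char_mul_conj (χ : IrrCharacter G) (u v : G) :
    ∑ a : G, (χ : G → ℂ) (v * (a * u * a⁻¹)) =
      (Fintype.card G : ℂ) * (χ : G → ℂ) u / (χ : G → ℂ) 1 * (χ : G → ℂ) v := by
  obtain ⟨f, m, ρ, hirr, rfl⟩ := χ
  have := hirr
  show ∑ a : G, ρ.character (v * (a * u * a⁻¹)) =
    (Fintype.card G : ℂ) * ρ.character u / ρ.character 1 * ρ.character v
  have h1 : ∀ a : G, ρ.character (v * (a * u * a⁻¹)) =
      LinearMap.trace ℂ _ (ρ v * ρ (a * u * a⁻¹)) := by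
    intro a; rw [← map_mul]; rfl
  simp_rw [h1]
  rw [← map_sum, ← Finset.mul_sum]
  have h2 : ∑ a : G, ρ (a * u * a⁻¹) = conjSum ρ u := rfl
  rw [h2, conjSum_eq_smul ρ u, mul_smul_comm, map_smul, smul_eq_mul]
  have h3 : ρ v * LinearMap.id = ρ v := mul_one _
  rw [h3, Representation.char_one]
  rfl

/-- The sum of a class function over a subgroup of order 8 consisting of `1`, `t` and six
conjugates of `x`. -/
theorem sum_subgroup_eight (S : Subgroup G) [Fintype S] (x t : G) (htS : t ∈ S) (ht1 : t ≠ 1)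
    (hS8 : Nat.card S = 8) (hS : ∀ s ∈ S, s = 1 ∨ s = t ∨ IsConj x s)
    (F : G → ℂ) (hF : IsClassFunction G F) :
    ∑ s : S, F s = F 1 + F t + 6 * F x := by
  classical
  have h1 : ∑ s : S, (F s - F x) = (F 1 - F x) + (F t - F x) := by
    rw [Finset.sum_eq_add (⟨1, S.one_mem⟩ : S) ⟨t, htS⟩]
    · intro h
      apply ht1
      exact (congrArg Subtype.val h).symm
    · intro c _ hc
      rcases hS c c.2 with h | h | h
      · exact absurd (Subtype.ext h) hc.1
      · exact absurd (Subtype.ext h) hc.2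
      · rw [IsClassFunction.eq_of_isConj hF h, sub_self]
    · intro h; exact absurd (Finset.mem_univ _) h
    · intro h; exact absurd (Finset.mem_univ _) h
  have h2 : ∑ s : S, F s = ∑ s : S, (F s - F x) + ∑ _s : S, F x := by
    rw [← Finset.sum_add_distrib]
    refine Finset.sum_congr rfl fun s _ => ?_
    ring
  rw [h2, h1, Finset.sum_const, Finset.card_univ, ← Nat.card_eq_fintype_card, hS8]
  simp only [nsmul_eq_mul]
  push_cast
  ring

/-- **Strong block orthogonality for the column of `x`.** If no element `u c` (`c` a `2`-regular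
element commuting with the `2`-element `u`) is conjugate to `x`, then the principal-block part of
the column of `x` vanishes at `u y`. -/
theorem theta_vanish [Fintype (IrrCharacter G)] [DecidablePred (· ∈ principalBlock M G)]
    {p : ℕ} [hp : Fact p.Prime] (hM : IsPModular p M)
    (x u : G) (hu : ∃ k : ℕ, orderOf u = p ^ k)
    (hnc : ∀ c : G, u * c = c * u → ¬ p ∣ orderOf c → ¬ IsConj x (u * c))
    (y : G) (hyu : u * y = y * u) (hy : ¬ p ∣ orderOf y) :
    ∑ χ : IrrCharacter G, (if χ ∈ principalBlock M G then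
      (starRingEnd ℂ) ((χ : G → ℂ) x) * (χ : G → ℂ) (u * y) else 0) = 0 := by
  classical
  set C : Subgroup G := Subgroup.centralizer ({u} : Set G) with hC
  have hmem : ∀ g : G, g ∈ C ↔ u * g = g * u := by
    intro g
    show g ∈ Subgroup.centralizer ({u} : Set G) ↔ _
    rw [Subgroup.mem_centralizer_iff]
    constructor
    · intro h; exact h u (Set.mem_singleton u)
    · intro h w hw
      rw [Set.mem_singleton_iff] at hw
      rw [hw]; exact h
  have huC : u ∈ C := (hmem u).mpr rfl
  have hcomm : ∀ c : C, u * (c : G) = (c : G) * u := fun c => (hmem c).mp c.2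
  set cx : ℂ := (Nat.card (Subgroup.centralizer ({x} : Set G)) : ℂ) with hcx
  set ϑ : G → ℂ := cx • classIndicator x with hϑdef
  have hϑ : IsClassFunction G ϑ := isClassFunction_smul cx (isClassFunction_classIndicator x)
  have hvan : ∀ c : C, ¬ p ∣ orderOf c → ϑ (u * (c : G)) = 0 := by
    intro c hc
    have hc' : ¬ p ∣ orderOf (c : G) := by rwa [Subgroup.orderOf_coe]
    have := hnc c (hcomm c) hc'
    show cx • classIndicator x (u * (c : G)) = 0
    rw [classIndicator_of_not_isConj this, smul_zero]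
  have hy' : ¬ p ∣ orderOf (⟨y, (hmem y).mpr hyu⟩ : C) := by
    rwa [← Subgroup.orderOf_coe]
  have key := blockPart_eq_zero_of_section hM u hu C huC hcomm (le_refl _) hϑ hvan
    (principalBlock M G) isPBlock_principalBlock ⟨y, (hmem y).mpr hyu⟩ hy'
  have hinner : ∀ χ : IrrCharacter G, classInner ϑ (χ : G → ℂ) =
      (starRingEnd ℂ) ((χ : G → ℂ) x) := by
    intro χ
    rw [hϑdef, classInner_smul_left, classInner_classIndicator x _ (isClassFunction_irr χ)]
    have hcard : (Nat.card {g : G // IsConj x g} : ℂ) * cx = (Nat.card G : ℂ) := by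
      rw [hcx]; exact_mod_cast card_conj_mul_card_centralizer x
    have hG : (Nat.card G : ℂ) ≠ 0 := card_ne_zero_complex
    rw [← hcard]
    have h1 : (Nat.card {g : G // IsConj x g} : ℂ) ≠ 0 := by
      intro h0; rw [h0, zero_mul] at hcard; exact hG hcard.symm
    have h2 : cx ≠ 0 := by
      intro h0; rw [h0, mul_zero] at hcard; exact hG hcard.symm
    field_simp
  have hinst : Fintype.ofFinite G = ‹Fintype G› := Subsingleton.elim _ _
  simp only [blockPart] at key
  rw [hinst, finsum_mem_eq_sum_ite] at key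
  refine Eq.trans (Finset.sum_congr rfl fun χ _ => ?_) key
  split_ifs
  · rw [hinner χ]
  · rfl

end Cfsg.Agent.Helper18.BS
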