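import Mathlib
import Cfsg.Prelude.Def_TwoFusion
import Cfsg.Prelude.Def_IsolatedElements
import Cfsg.Prelude.Def_Local
import Cfsg.Agent.Helper6.Isolated
import Cfsg.Agent.Helper15.Isolated
import Cfsg.Agent.Helper15.ZStarMin2
import Cfsg.Agent.Helper18.Isolated
import Cfsg.Agent.S0229
import Cfsg.Agent.S1182

/-!
# Glauberman's Z*-theorem: group-theoretic preliminaries
-/

set_option autoImplicit false

namespace Cfsg.Agent.Helper18.ZS

open Cfsg Cfsg.Agent.Helper6 Cfsg.Agent.Helper15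
open scoped Pointwise

universe u

variable {G : Type u} [Group G]

/-- Dihedral data for two involutions `t`, `s` whose product has order `2 (2j+1)`. -/
theorem dihedral_data {t s : G} (ht : t * t = 1) (hs : s * s = 1) (j : ℕ)
    (hord : orderOf (t * s) = 2 * (2 * j + 1)) :
    (t * s) ^ (2 * j + 1) * (t * s) ^ (2 * j + 1) = 1 ∧
    (t * s) ^ (2 * j + 1) ≠ 1 ∧
    Commute ((t * s) ^ (2 * j + 1)) t ∧
    Commute ((t * s) ^ (2 * j + 2)) ((t * s) ^ (2 * j + 1)) ∧
    t * s = (t * s) ^ (2 * j + 1) * (t * s) ^ (2 * j + 2) ∧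
    t * (t * s) ^ (2 * j + 2) * t⁻¹ = ((t * s) ^ (2 * j + 2))⁻¹ ∧
    ((t * s) ^ (2 * j + 2)) ^ (2 * j + 1) = 1 ∧
    (((t * s) ^ j)⁻¹ * s * (t * s) ^ j = t * (t * s) ^ (2 * j + 1)) := by
  set w := t * s with hw
  have hti : t⁻¹ = t := inv_eq_self_of_mul_self ht
  have hsi : s⁻¹ = s := inv_eq_self_of_mul_self hs
  have hwpow : w ^ (2 * (2 * j + 1)) = 1 := by rw [← hord]; exact pow_orderOf_eq_one w
  have hinv : t * w * t⁻¹ = w⁻¹ := by
    rw [hw, mul_inv_rev, hsi, hti]
    calc t * (t * s) * t = (t * t) * s * t := by group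
      _ = s * t := by rw [ht, one_mul]
  have hzz : w ^ (2 * j + 1) * w ^ (2 * j + 1) = 1 := by
    rw [← pow_add, ← two_mul]; exact hwpow
  refine ⟨hzz, ?_, ?_, ?_, ?_, ?_, ?_, ?_⟩
  · intro h1
    have hdvd := orderOf_dvd_of_pow_eq_one h1
    rw [hord] at hdvd
    have := Nat.le_of_dvd (by omega) hdvd
    omega
  · -- commute z t
    have h1 : t * w ^ (2 * j + 1) * t⁻¹ = (w ^ (2 * j + 1))⁻¹ := by
      rw [← conj_pow, hinv, inv_pow]
    have h2 : (w ^ (2 * j + 1))⁻¹ = w ^ (2 * j + 1) := inv_eq_self_of_mul_self hzz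
    rw [h2] at h1
    show w ^ (2 * j + 1) * t = t * w ^ (2 * j + 1)
    calc w ^ (2 * j + 1) * t = (t * w ^ (2 * j + 1) * t⁻¹) * t := by rw [h1]
      _ = t * w ^ (2 * j + 1) := by group
  · exact (Commute.refl w).pow_pow _ _
  · rw [← pow_add]
    have : 2 * j + 1 + (2 * j + 2) = 2 * (2 * j + 1) + 1 := by ring
    rw [this, pow_succ, hwpow, one_mul]
  · rw [← conj_pow, hinv, inv_pow]
  · rw [← pow_mul]
    have : (2 * j + 2) * (2 * j + 1) = 2 * (2 * j + 1) * (j + 1) := by ring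
    rw [this, pow_mul, hwpow, one_pow]
  · exact invol_conj_odd ht hs j

/-- An isolated involution lies in a Sylow `2`-subgroup in which it has no other conjugate. -/
theorem exists_sylow_of_isolated [Finite G] {t : G} (ht : orderOf t = 2) (hiso : IsIsolated t) :
    ∃ S : Sylow 2 G, t ∈ S ∧ ∀ g : G, g * t * g⁻¹ ∈ S → g * t * g⁻¹ = t := by
  have : Fact (Nat.Prime 2) := ⟨Nat.prime_two⟩
  have hp : IsPGroup 2 (Subgroup.zpowers t) := by
    apply IsPGroup.of_card (n := 1)
    rw [Nat.card_zpowers, ht, pow_one]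
  obtain ⟨S, hS⟩ := hp.exists_le_sylow
  have htS : t ∈ S := hS (Subgroup.mem_zpowers t)
  refine ⟨S, htS, ?_⟩
  intro g hg
  have hcent := le_centralizer_of_isolated hiso S.isPGroup' htS
  have h1 := Subgroup.mem_centralizer_singleton_iff.mp (hcent hg)
  exact hiso g h1.symm

/-- Conversely, the Sylow form of isolation implies isolation. -/
theorem isolated_of_sylow [Finite G] (P : Sylow 2 G) {u : G} (hu : orderOf u = 2) (huP : u ∈ P)
    (hiso : ∀ g : G, g * u * g⁻¹ ∈ P → g * u * g⁻¹ = u) : IsIsolated u := by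
  have : Fact (Nat.Prime 2) := ⟨Nat.prime_two⟩
  intro g hcomm
  have huu : u * u = 1 := by rw [← pow_two, ← hu, pow_orderOf_eq_one]
  set v := g * u * g⁻¹ with hv
  have hvv : v * v = 1 := conj_mul_self huu g
  -- the subgroup generated by u and v is a 2-group
  have hpu : IsPGroup 2 (Subgroup.zpowers u) := by
    apply IsPGroup.of_card (n := 1)
    rw [Nat.card_zpowers, hu, pow_one]
  have hpv : IsPGroup 2 (Subgroup.zpowers v) := by
    apply IsPGroup.of_card (n := 1)
    rw [Nat.card_zpowers, hv, orderOf_conj_eq, hu, pow_one]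
  have hnorm : Subgroup.zpowers u ≤ Subgroup.normalizer ((Subgroup.zpowers v : Subgroup G) : Set G) := by
    rw [Subgroup.zpowers_le]
    rw [Subgroup.mem_normalizer_iff]
    intro y
    have hcy : ∀ y ∈ Subgroup.zpowers v, u * y * u⁻¹ = y := by
      intro y hy
      obtain ⟨k, rfl⟩ := Subgroup.mem_zpowers_iff.mp hy
      have : Commute u (v ^ k) := hcomm.zpow_right k
      rw [this.eq]; group
    constructor
    · intro hy; rw [hcy y hy]; exact hy
    · intro hy
      have h2 := hcy _ hy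
      have h3 : u * y * u⁻¹ = y := by
        have : u * (u * y * u⁻¹) * u⁻¹ = u * y * u⁻¹ := h2
        have h4 : u * (u * y * u⁻¹) * u⁻¹ = (u * u) * y * (u * u)⁻¹ := by group
        rw [h4, huu] at this
        simpa using this.symm
      rw [← h3]; exact hy
  have hsup : IsPGroup 2 (Subgroup.zpowers u ⊔ Subgroup.zpowers v : Subgroup G) :=
    IsPGroup.to_sup_of_normal_right' hpu hpv hnorm
  obtain ⟨Q, hQ⟩ := hsup.exists_le_sylow
  obtain ⟨h, hh⟩ := MulAction.exists_smul_eq G Q P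
  have huQ : u ∈ Q := hQ (Subgroup.mem_sup_left (Subgroup.mem_zpowers u))
  have hvQ : v ∈ Q := hQ (Subgroup.mem_sup_right (Subgroup.mem_zpowers v))
  have hmem : ∀ x ∈ Q, h * x * h⁻¹ ∈ P := by
    intro x hx
    have h5 : MulAut.conj h • x ∈ MulAut.conj h • (Q : Subgroup G) :=
      Subgroup.smul_mem_pointwise_smul x (MulAut.conj h) Q hx
    rw [← Sylow.coe_subgroup_smul, hh] at h5
    rw [MulAut.smul_def, MulAut.conj_apply] at h5
    exact h5
  have h1 := hiso h (hmem u huQ)
  have h2 : (h * g) * u * (h * g)⁻¹ = u := by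
    apply hiso (h * g)
    have : (h * g) * u * (h * g)⁻¹ = h * v * h⁻¹ := by rw [hv]; group
    rw [this]; exact hmem v hvQ
  have h3 : h * v * h⁻¹ = h * u * h⁻¹ := by
    rw [h1, ← h2, hv]; group
  have := mul_left_cancel (mul_right_cancel h3)
  exact this

end Cfsg.Agent.Helper18.ZS
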