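import Mathlib
import Cfsg.Agent.Helper18.ZStar1

/-!
# Glauberman's Z*-theorem: the key conjugacy lemma in a minimal counterexample
-/

set_option autoImplicit false

namespace Cfsg.Agent.Helper18.ZS

open Cfsg Cfsg.Agent.Helper6 Cfsg.Agent.Helper15

universe u

variable {G : Type u} [Group G]

/-- In a minimal counterexample, for an involution `u ≠ t` commuting with `t`, every product
`t * u^g` is of the form `z ρ` with `z` an involution conjugate to `t u` and `ρ ∈ O(C(z))`. -/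
theorem key_conj [Finite G] {t : G} (h : ZStarMinCE 2 t) (u : G) (hu : orderOf u = 2)
    (hut : Commute u t) (hne : u ≠ t) (g : G) :
    ∃ z ρ c : G, t * (g * u * g⁻¹) = z * ρ ∧ orderOf z = 2 ∧ ρ ∈ centralizerPPrimeCore 2 z ∧
      c * (t * u) * c⁻¹ = z := by
  have : Fact (Nat.Prime 2) := ⟨Nat.prime_two⟩
  have ht2 : orderOf t = 2 := h.hx
  have htt : t * t = 1 := by rw [← pow_two, ← ht2, pow_orderOf_eq_one]
  have huu : u * u = 1 := by rw [← pow_two, ← hu, pow_orderOf_eq_one]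
  have hti : t⁻¹ = t := inv_eq_self_of_mul_self htt
  have hisoI : IsIsolatedInvolution t := ⟨h.hx, h.hiso⟩
  set s := g * u * g⁻¹ with hs
  have hss : s * s = 1 := conj_mul_self huu g
  have hs2 : orderOf s = 2 := by rw [hs, orderOf_conj_eq, hu]
  have hns : ¬ IsConj s t := by
    intro hc
    obtain ⟨c, hc⟩ := isConj_iff.mp hc
    -- u = (c g)⁻¹ t (c g)
    have h1 : (c * g)⁻¹ * t * (c * g)⁻¹⁻¹ = u := by
      rw [← hc, hs]; group
    have h2 := h.hiso (c * g)⁻¹ (by rw [h1]; exact hut.symm)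
    rw [h1] at h2
    exact hne h2
  obtain ⟨S, htS, hS⟩ := exists_sylow_of_isolated h.hx h.hiso
  have h4 := Cfsg.Agent.S0229.result S t ht2 htS hS s hs2 hns
  rw [← Cfsg.Agent.Helper18.orderOf_mul_comm'] at h4
  obtain ⟨j, hj⟩ : ∃ j, orderOf (t * s) = 2 * (2 * j + 1) := ⟨orderOf (t * s) / 4, by omega⟩
  obtain ⟨hzz, hz1, hzt, hρz, hw, hinv, hρpow, hconj⟩ := dihedral_data htt hss j hj
  set w := t * s with hwdef
  set z := w ^ (2 * j + 1) with hz
  set ρ := w ^ (2 * j + 2) with hρ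
  have hz2 : orderOf z = 2 := orderOf_eq_prime (by rw [pow_two]; exact hzz) hz1
  -- the centralizer of z
  set H : Subgroup G := Subgroup.centralizer ({z} : Set G) with hH
  have htH : t ∈ H := Subgroup.mem_centralizer_singleton_iff.mpr hzt.symm.eq
  have hρH : ρ ∈ H := Subgroup.mem_centralizer_singleton_iff.mpr hρz.eq
  have hHtop : H ≠ ⊤ := by
    intro htop
    apply hz1
    have hzc : z ∈ Subgroup.center G := by
      rw [Subgroup.mem_center_iff]
      intro a
      have : a ∈ H := by rw [htop]; trivial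
      exact Subgroup.mem_centralizer_singleton_iff.mp this
    rw [h.center_eq_bot, Subgroup.mem_bot] at hzc
    exact hzc
  have hcm := h.comm_mem H htH hHtop ρ hρH
  have hsq : ρ * t * ρ⁻¹ * t⁻¹ = ρ ^ 2 := by
    have : ρ * t * ρ⁻¹ * t⁻¹ = ρ * (t * ρ * t⁻¹)⁻¹ := by group
    rw [this, hinv, inv_inv, pow_two]
  rw [hsq] at hcm
  have hρeq : ρ = (ρ ^ 2) ^ (j + 1) := by
    rw [← pow_mul]
    have : 2 * (j + 1) = (2 * j + 1) + 1 := by ring
    rw [this, pow_succ, hρpow, one_mul]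
  have hρmem : ρ ∈ centralizerPPrimeCore 2 z := by
    show ρ ∈ (pPrimeCore 2 ↥(Subgroup.centralizer ({z} : Set G))).map
      (Subgroup.centralizer ({z} : Set G)).subtype
    rw [hρeq]
    exact Subgroup.pow_mem _ hcm _
  -- conjugacy
  have hconj' : ((w ^ j)⁻¹ * g) * u * ((w ^ j)⁻¹ * g)⁻¹ = t * z := by
    rw [← hconj, hs]; group
  have htz : Commute (t * z) t := (Commute.refl t).mul_left hzt
  obtain ⟨c, -, hct, hcu⟩ := Cfsg.Agent.S1182.result t hisoI ⊤
    (by rw [Subgroup.normalizer_eq_top]; trivial) u (t * z)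
    (Subgroup.mem_top _) (Subgroup.mem_top _) hut htz ((w ^ j)⁻¹ * g) (Subgroup.mem_top _) hconj'
  refine ⟨z, ρ, c, hw, hz2, hρmem, ?_⟩
  have h1 : c * (t * u) * c⁻¹ = (c * t * c⁻¹) * (c * u * c⁻¹) := by group
  have h2 : c * t * c⁻¹ = t := by rw [hct.eq]; group
  rw [h1, h2, hcu, ← mul_assoc, htt, one_mul]

end Cfsg.Agent.Helper18.ZS
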