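import Mathlib
import Cfsg.Prelude.Def_CaseTheorems
import Cfsg.Agent.Helper11.DihedralLift

/-!
Structure of quasi-dihedral (semidihedral) 2-groups: normal form `r i`, `sr i` (`i : ZMod (2^n)`),
multiplication table, arithmetic facts in `ZMod (2^n)`.
-/

set_option autoImplicit false

namespace Cfsg.Agent.Helper18.QD

open Cfsg.Agent.Helper11

section zmod
variable {n : ℕ}

/-- the element `2^(n-1)` of `ZMod (2^n)` -/
def hh (n : ℕ) : ZMod (2 ^ n) := 2 ^ (n - 1)

/-- the element `2^(n-2)` of `ZMod (2^n)` -/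
def qq (n : ℕ) : ZMod (2 ^ n) := 2 ^ (n - 2)

theorem two_pow_self_eq_zero (n : ℕ) : (2 : ZMod (2 ^ n)) ^ n = 0 := by
  have := ZMod.natCast_self (2 ^ n)
  push_cast at this
  exact this

theorem two_mul_hh (hn : 1 ≤ n) : 2 * hh n = 0 := by
  unfold hh
  rw [← pow_succ']
  have : n - 1 + 1 = n := by omega
  rw [this]
  exact two_pow_self_eq_zero n

theorem two_mul_qq (hn : 2 ≤ n) : 2 * qq n = hh n := by
  unfold hh qq; rw [← pow_succ']; congr 1; omega

theorem hh_ne_zero (hn : 1 ≤ n) : hh n ≠ 0 := by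
  unfold hh
  intro h
  have h2 : ((2 ^ (n - 1) : ℕ) : ZMod (2 ^ n)) = 0 := by push_cast; exact h
  rw [ZMod.natCast_eq_zero_iff] at h2
  have h3 := Nat.le_of_dvd (by positivity) h2
  have h4 : 2 ^ (n - 1) < 2 ^ n := Nat.pow_lt_pow_right (by norm_num) (by omega)
  omega

theorem hh_mul_hh (hn : 2 ≤ n) : hh n * hh n = 0 := by
  unfold hh
  rw [← pow_add]
  have : n - 1 + (n - 1) = n + (n - 2) := by omega
  rw [this, pow_add, two_pow_self_eq_zero, zero_mul]

theorem qq_mul_hh (hn : 3 ≤ n) : qq n * hh n = 0 := by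
  unfold hh qq
  rw [← pow_add]
  have : n - 2 + (n - 1) = n + (n - 3) := by omega
  rw [this, pow_add, two_pow_self_eq_zero, zero_mul]

theorem neg_hh (hn : 1 ≤ n) : - hh n = hh n := by
  have := two_mul_hh hn
  linear_combination -this

theorem four_mul_qq (hn : 2 ≤ n) : 4 * qq n = 0 := by
  have h1 := two_mul_qq hn
  have h2 := two_mul_hh (n := n) (by omega)
  linear_combination 2 * h1 + h2

theorem qq_add_hh (hn : 2 ≤ n) : qq n + hh n = - qq n := by
  have h1 := two_mul_qq hn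
  have h2 := two_mul_hh (n := n) (by omega)
  linear_combination h1 + h2

theorem unit_identity (hn : 3 ≤ n) : (2 - hh n) * (1 + qq n) = 2 := by
  have h1 := two_mul_qq (n := n) (by omega)
  have h2 := qq_mul_hh hn
  linear_combination h1 - h2

theorem two_mul_eq_zero_of_mul (hn : 3 ≤ n) {c : ZMod (2 ^ n)} (h : c * (2 - hh n) = 0) :
    2 * c = 0 := by
  have := unit_identity hn
  calc 2 * c = c * ((2 - hh n) * (1 + qq n)) := by rw [this]; ring
    _ = (c * (2 - hh n)) * (1 + qq n) := by ring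
    _ = 0 := by rw [h, zero_mul]

theorem even_or_odd (i : ZMod (2 ^ n)) : (∃ j, i = 2 * j) ∨ (∃ j, i = 2 * j + 1) := by
  have hi : ((i.val : ℕ) : ZMod (2 ^ n)) = i := ZMod.natCast_zmod_val i
  rcases Nat.even_or_odd' i.val with ⟨m, hm | hm⟩
  · left; refine ⟨(m : ZMod (2 ^ n)), ?_⟩
    rw [← hi, hm]; push_cast; ring
  · right; refine ⟨(m : ZMod (2 ^ n)), ?_⟩
    rw [← hi, hm]; push_cast; ring

theorem hh_mul_even (hn : 1 ≤ n) (j : ZMod (2 ^ n)) : hh n * (2 * j) = 0 := by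
  have := two_mul_hh hn
  linear_combination j * this

theorem hh_mul_odd (hn : 1 ≤ n) (j : ZMod (2 ^ n)) : hh n * (2 * j + 1) = hh n := by
  have := two_mul_hh hn
  linear_combination j * this

theorem two_mul_ne_odd (hn : 1 ≤ n) (j j' : ZMod (2 ^ n)) : 2 * j ≠ 2 * j' + 1 := by
  intro h
  have h1 := hh_mul_even hn j
  have h2 := hh_mul_odd hn j'
  rw [h, h2] at h1
  exact hh_ne_zero hn h1

theorem two_mul_eq_zero_iff (hn : 1 ≤ n) (i : ZMod (2 ^ n)) : 2 * i = 0 ↔ i = 0 ∨ i = hh n := by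
  constructor
  · intro h
    have hi : ((i.val : ℕ) : ZMod (2 ^ n)) = i := ZMod.natCast_zmod_val i
    have hlt : i.val < 2 ^ n := ZMod.val_lt i
    have h2 : ((2 * i.val : ℕ) : ZMod (2 ^ n)) = 0 := by push_cast; rw [hi]; exact h
    rw [ZMod.natCast_eq_zero_iff] at h2
    have hpow : 2 ^ n = 2 * 2 ^ (n - 1) := by
      rw [← pow_succ']; congr 1; omega
    have h2' : 2 * 2 ^ (n - 1) ∣ 2 * i.val := by rw [← hpow]; exact h2
    have hlt' : i.val < 2 * 2 ^ (n - 1) := by rw [← hpow]; exact hlt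
    have h3 : 2 ^ (n - 1) ∣ i.val := (Nat.mul_dvd_mul_iff_left (by norm_num)).mp h2'
    obtain ⟨c, hc⟩ := h3
    have hpos : 0 < 2 ^ (n - 1) := by positivity
    have hc2 : c < 2 := by
      by_contra hcon
      push Not at hcon
      have : 2 * 2 ^ (n - 1) ≤ 2 ^ (n - 1) * c := by
        calc 2 * 2 ^ (n - 1) = 2 ^ (n - 1) * 2 := by ring
          _ ≤ 2 ^ (n - 1) * c := Nat.mul_le_mul_left _ hcon
      omega
    interval_cases c
    · left; rw [← hi, hc]; simp
    · right; rw [← hi, hc]; unfold hh; push_cast; ring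
  · rintro (rfl | rfl)
    · simp
    · exact two_mul_hh hn

theorem two_mul_eq_two_mul_iff (hn : 1 ≤ n) (i j : ZMod (2 ^ n)) :
    2 * i = 2 * j ↔ i = j ∨ i = j + hh n := by
  have := two_mul_eq_zero_iff hn (i - j)
  constructor
  · intro h
    have h' : 2 * (i - j) = 0 := by linear_combination h
    rcases this.mp h' with h1 | h1
    · left; linear_combination h1
    · right; linear_combination h1
  · rintro (rfl | rfl)
    · rfl
    · have := two_mul_hh hn; linear_combination this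

theorem qq_ne_zero (hn : 2 ≤ n) : qq n ≠ 0 := by
  intro h
  have := two_mul_qq hn
  rw [h, mul_zero] at this
  exact hh_ne_zero (by omega) this.symm

theorem qq_ne_hh (hn : 3 ≤ n) : qq n ≠ hh n := by
  intro h
  -- qq = hh = 2 qq → qq = 0
  have := two_mul_qq (n := n) (by omega)
  have h0 : qq n = 0 := by linear_combination this - h
  exact qq_ne_zero (by omega) h0

end zmod

/-- data of a quasi-dihedral group -/
structure QDData (S : Type*) [Group S] where
  n : ℕ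
  hn : 3 ≤ n
  card : Nat.card S = 2 ^ (n + 1)
  x : S
  y : S
  hx : orderOf x = 2 ^ n
  hy : orderOf y = 2
  hxy : y * x * y⁻¹ = x ^ (2 ^ (n - 1) - 1)

theorem exists_qdData {S : Type*} [Group S] (h : Cfsg.IsQuasiDihedral S) : Nonempty (QDData S) := by
  obtain ⟨n, hn, hc, x, y, hx, hy, hxy⟩ := h
  exact ⟨⟨n, hn, hc, x, y, hx, hy, hxy⟩⟩

namespace QDData

variable {S : Type*} [Group S] (D : QDData S)

theorem x_pow : D.x ^ (2 ^ D.n) = 1 := by rw [← D.hx]; exact pow_orderOf_eq_one _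

theorem hn1 : 1 ≤ D.n := le_trans (by norm_num) D.hn
theorem hn2 : 2 ≤ D.n := le_trans (by norm_num) D.hn

/-- `x ^ i` -/
noncomputable def r (i : ZMod (2 ^ D.n)) : S := (zmodPow (2 ^ D.n) D.x D.x_pow i).toMul

/-- `x ^ i * y` -/
noncomputable def sr (i : ZMod (2 ^ D.n)) : S := D.r i * D.y

/-- the conjugation exponent -/
def k : ZMod (2 ^ D.n) := hh D.n - 1

theorem k_mul_k : D.k * D.k = 1 := by
  have h1 := hh_mul_hh D.hn2
  have h2 := two_mul_hh D.hn1
  unfold k
  linear_combination h1 - h2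

theorem r_add (i j : ZMod (2 ^ D.n)) : D.r (i + j) = D.r i * D.r j := zmodPow_add _ _ _ i j
theorem r_zero : D.r 0 = 1 := zmodPow_zero _ _ _
theorem r_neg (i : ZMod (2 ^ D.n)) : D.r (-i) = (D.r i)⁻¹ := zmodPow_neg _ _ _ i
theorem r_sub (i j : ZMod (2 ^ D.n)) : D.r (i - j) = D.r i * (D.r j)⁻¹ := by
  rw [sub_eq_add_neg, r_add, r_neg]

theorem r_eq_zpow (i : ZMod (2 ^ D.n)) : D.r i = D.x ^ (ZMod.cast i : ℤ) := zmodPow_eq_zpow _ _ _ i

theorem r_intCast (m : ℤ) : D.r (m : ZMod (2 ^ D.n)) = D.x ^ m := zmodPow_intCast _ _ _ m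

theorem r_natCast (m : ℕ) : D.r (m : ZMod (2 ^ D.n)) = D.x ^ m := by
  have := D.r_intCast (m : ℤ)
  rw [Int.cast_natCast, zpow_natCast] at this
  exact this

theorem r_one : D.r 1 = D.x := by
  have := D.r_natCast 1
  rwa [Nat.cast_one, pow_one] at this

theorem r_comm (i j : ZMod (2 ^ D.n)) : D.r i * D.r j = D.r j * D.r i := by
  rw [← r_add, ← r_add, add_comm]

theorem r_natCast_mul (c : ℕ) (i : ZMod (2 ^ D.n)) : D.r (c * i) = D.r i ^ c := by
  induction c with
  | zero => simp [r_zero]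
  | succ c ih =>
    rw [Nat.cast_succ, add_mul, one_mul, r_add, ih, pow_succ]

theorem r_eq_one_iff (i : ZMod (2 ^ D.n)) : D.r i = 1 ↔ i = 0 := by
  constructor
  · intro h
    rw [r_eq_zpow] at h
    have h2 := orderOf_dvd_iff_zpow_eq_one.mpr h
    rw [D.hx] at h2
    have h3 : ((ZMod.cast i : ℤ) : ZMod (2 ^ D.n)) = 0 := by
      rw [ZMod.intCast_zmod_eq_zero_iff_dvd]
      exact_mod_cast h2
    rwa [ZMod.intCast_zmod_cast] at h3
  · rintro rfl; exact D.r_zero

theorem r_inj {i j : ZMod (2 ^ D.n)} : D.r i = D.r j ↔ i = j := by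
  constructor
  · intro h
    have : D.r (i - j) = 1 := by rw [r_sub, h, mul_inv_cancel]
    rw [r_eq_one_iff] at this
    exact sub_eq_zero.mp this
  · rintro rfl; rfl

theorem y_mul_y : D.y * D.y = 1 := by
  have := pow_orderOf_eq_one D.y
  rwa [D.hy, pow_two] at this

theorem y_inv : D.y⁻¹ = D.y := inv_eq_of_mul_eq_one_left D.y_mul_y

theorem y_ne_one : D.y ≠ 1 := by
  intro h
  have := D.hy
  rw [h, orderOf_one] at this
  norm_num at this

theorem k_eq_natCast : D.k = ((2 ^ (D.n - 1) - 1 : ℕ) : ZMod (2 ^ D.n)) := by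
  unfold k hh
  rw [Nat.cast_sub (Nat.one_le_two_pow)]
  push_cast
  rfl

theorem y_conj_r (i : ZMod (2 ^ D.n)) : D.y * D.r i * D.y⁻¹ = D.r (D.k * i) := by
  rw [k_eq_natCast, r_natCast_mul, r_eq_zpow]
  have h1 : D.y * D.x ^ (ZMod.cast i : ℤ) * D.y⁻¹ = (D.y * D.x * D.y⁻¹) ^ (ZMod.cast i : ℤ) := by
    rw [conj_zpow]
  rw [h1, D.hxy, ← zpow_natCast, ← zpow_natCast, ← zpow_mul, ← zpow_mul, mul_comm]

theorem y_mul_r (i : ZMod (2 ^ D.n)) : D.y * D.r i = D.r (D.k * i) * D.y := by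
  rw [← y_conj_r, inv_mul_cancel_right]

theorem r_mul_sr (i j : ZMod (2 ^ D.n)) : D.r i * D.sr j = D.sr (i + j) := by
  unfold sr; rw [r_add, mul_assoc]

theorem sr_mul_r (i j : ZMod (2 ^ D.n)) : D.sr i * D.r j = D.sr (i + D.k * j) := by
  unfold sr; rw [mul_assoc, y_mul_r, r_add, mul_assoc]

theorem sr_mul_sr (i j : ZMod (2 ^ D.n)) : D.sr i * D.sr j = D.r (i + D.k * j) := by
  unfold sr
  rw [mul_assoc, ← mul_assoc D.y, y_mul_r, mul_assoc, D.y_mul_y, mul_one, r_add]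

theorem sr_zero : D.sr 0 = D.y := by unfold sr; rw [r_zero, one_mul]

theorem sr_eq (i : ZMod (2 ^ D.n)) : D.sr i = D.r i * D.y := rfl

theorem k_ne_one : D.k ≠ 1 := by
  intro h
  unfold k at h
  -- hh = 2, so 2 * 2 = 2 hh = 0, i.e. 4 = 0; 4 * qq... use: hh * hh = 0 → 4 = 0; then hh = 2 = 2 * 1, hh ≠ ...
  have h2 : hh D.n = 2 := by linear_combination h
  -- hh = 2 qq → 2 (qq - 1) = 0 → qq = 1 or qq = 1 + hh = 3
  have h3 := two_mul_qq D.hn2
  have h4 := qq_mul_hh D.hn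
  -- qq * hh = 0 with hh = 2 → 2 qq = 0 → hh = 0
  have : hh D.n = 0 := by
    rw [h2] at h4
    rw [← h3]; linear_combination h4
  exact hh_ne_zero D.hn1 this

theorem y_not_mem : ∀ i, D.y ≠ D.r i := by
  intro i h
  have h1 := D.y_conj_r 1
  rw [h, mul_one, ← r_add, ← r_neg, ← r_add, r_inj] at h1
  apply D.k_ne_one
  linear_combination -h1

theorem r_ne_sr (i j : ZMod (2 ^ D.n)) : D.r i ≠ D.sr j := by
  intro h
  unfold sr at h
  apply D.y_not_mem (-j + i)
  rw [r_add, r_neg, h, inv_mul_cancel_left]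

theorem sr_inj {i j : ZMod (2 ^ D.n)} : D.sr i = D.sr j ↔ i = j := by
  unfold sr
  rw [mul_left_inj, r_inj]

theorem exists_rep [Finite S] (s : S) : (∃ i, s = D.r i) ∨ (∃ i, s = D.sr i) := by
  let f : ZMod (2 ^ D.n) ⊕ ZMod (2 ^ D.n) → S := Sum.elim D.r D.sr
  have hinj : Function.Injective f := by
    rintro (a | a) (b | b) hab
    · exact congrArg _ (D.r_inj.mp hab)
    · exact absurd hab (D.r_ne_sr a b)
    · exact absurd hab.symm (D.r_ne_sr b a)
    · exact congrArg _ (D.sr_inj.mp hab)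
  have hbij : Function.Bijective f := by
    apply hinj.bijective_of_nat_card_le
    rw [D.card, Nat.card_sum, Nat.card_eq_fintype_card, ZMod.card]
    rw [pow_succ]; omega
  obtain ⟨a | a, ha⟩ := hbij.2 s
  · left; exact ⟨a, ha.symm⟩
  · right; exact ⟨a, ha.symm⟩

theorem r_inv (i : ZMod (2 ^ D.n)) : (D.r i)⁻¹ = D.r (-i) := (D.r_neg i).symm

theorem sr_mul_self (i : ZMod (2 ^ D.n)) : D.sr i * D.sr i = D.r (hh D.n * i) := by
  rw [sr_mul_sr]; congr 1; unfold k; ring

theorem sr_inv (i : ZMod (2 ^ D.n)) : (D.sr i)⁻¹ = D.sr (i + hh D.n * i) := by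
  apply inv_eq_of_mul_eq_one_right
  rw [sr_mul_sr, r_eq_one_iff]
  unfold k
  have h1 := hh_mul_hh D.hn2
  linear_combination i * h1

/-- the central involution -/
noncomputable def z : S := D.r (hh D.n)

theorem z_ne_one : D.z ≠ 1 := by
  unfold z; rw [Ne, r_eq_one_iff]; exact hh_ne_zero D.hn1

theorem z_mul_z : D.z * D.z = 1 := by
  unfold z; rw [← r_add, r_eq_one_iff]
  have := two_mul_hh D.hn1
  linear_combination this

theorem z_comm_r (i : ZMod (2 ^ D.n)) : D.z * D.r i = D.r i * D.z := D.r_comm _ _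

theorem z_mul_sr (i : ZMod (2 ^ D.n)) : D.z * D.sr i = D.sr (i + hh D.n) := by
  unfold z; rw [r_mul_sr, add_comm]

theorem sr_mul_z (i : ZMod (2 ^ D.n)) : D.sr i * D.z = D.sr (i + hh D.n) := by
  unfold z; rw [sr_mul_r]; congr 1
  unfold k
  have h1 := hh_mul_hh D.hn2
  have h2 := neg_hh D.hn1
  linear_combination h1 + h2

theorem z_central [Finite S] (s : S) : D.z * s = s * D.z := by
  rcases D.exists_rep s with ⟨i, rfl⟩ | ⟨i, rfl⟩
  · exact D.z_comm_r i
  · rw [z_mul_sr, sr_mul_z]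

/-- conjugating `sr b` by `r a` -/
theorem r_conj_sr (a b : ZMod (2 ^ D.n)) :
    D.r a * D.sr b * (D.r a)⁻¹ = D.sr (b + a * (2 - hh D.n)) := by
  rw [r_inv, r_mul_sr, sr_mul_r]; congr 1; unfold k; ring

/-- `sr b` and `sr (b + 2 j)` are conjugate -/
theorem r_conj_sr_two (j b : ZMod (2 ^ D.n)) :
    D.r (j * (1 + qq D.n)) * D.sr b * (D.r (j * (1 + qq D.n)))⁻¹ = D.sr (b + 2 * j) := by
  rw [r_conj_sr]; congr 1
  have := unit_identity D.hn
  linear_combination j * this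

theorem sr_conj_r (a b : ZMod (2 ^ D.n)) :
    D.sr a * D.r b * (D.sr a)⁻¹ = D.r (D.k * b) := by
  rw [sr_inv, sr_mul_r, sr_mul_sr, r_inj]
  have h1 := D.k_mul_k
  have h2 := hh_mul_hh D.hn2
  have h3 := two_mul_hh D.hn1
  unfold k at *
  linear_combination a * h2

theorem r_conj_r (a b : ZMod (2 ^ D.n)) : D.r a * D.r b * (D.r a)⁻¹ = D.r b := by
  rw [r_comm, mul_inv_cancel_right]

end QDData

end Cfsg.Agent.Helper18.QD
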