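import Mathlib
import Cfsg.Agent.Helper18.QD

/-!
Quasi-dihedral groups: elements of order 2 and 4 and their conjugacy classes (S1189).
-/

set_option autoImplicit false

namespace Cfsg.Agent.Helper18.QD

theorem orderOf_eq_two_iff {G : Type*} [Group G] (s : G) : orderOf s = 2 ↔ s ^ 2 = 1 ∧ s ≠ 1 := by
  have : Fact (Nat.Prime 2) := ⟨Nat.prime_two⟩
  exact orderOf_eq_prime_iff

theorem orderOf_eq_four_iff {G : Type*} [Group G] (s : G) :
    orderOf s = 4 ↔ s ^ 4 = 1 ∧ s ^ 2 ≠ 1 := by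
  have : Fact (Nat.Prime 2) := ⟨Nat.prime_two⟩
  constructor
  · intro h
    refine ⟨by rw [← h]; exact pow_orderOf_eq_one s, ?_⟩
    intro h2
    have := orderOf_dvd_of_pow_eq_one h2
    rw [h] at this
    norm_num at this
  · rintro ⟨h4, h2⟩
    have := orderOf_eq_prime_pow (x := s) (p := 2) (n := 1) (by simpa using h2) (by simpa using h4)
    simpa using this

namespace QDData

variable {S : Type*} [Group S] (D : QDData S)

theorem r_sq (i : ZMod (2 ^ D.n)) : D.r i ^ 2 = D.r (2 * i) := by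
  have := D.r_natCast_mul 2 i
  rw [Nat.cast_ofNat] at this
  exact this.symm

theorem sr_sq (i : ZMod (2 ^ D.n)) : D.sr i ^ 2 = D.r (hh D.n * i) := by
  rw [pow_two, sr_mul_self]

theorem sr_even_sq (j : ZMod (2 ^ D.n)) : D.sr (2 * j) ^ 2 = 1 := by
  rw [sr_sq, hh_mul_even D.hn1, r_zero]

theorem sr_odd_sq (j : ZMod (2 ^ D.n)) : D.sr (2 * j + 1) ^ 2 = D.z := by
  rw [sr_sq, hh_mul_odd D.hn1]; rfl

theorem sr_ne_one (i : ZMod (2 ^ D.n)) : D.sr i ≠ 1 := by
  rw [← D.r_zero]; exact (D.r_ne_sr 0 i).symm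

theorem invol_iff [Finite S] (s : S) :
    orderOf s = 2 ↔ s = D.z ∨ ∃ j, s = D.sr (2 * j) := by
  rw [orderOf_eq_two_iff]
  constructor
  · rintro ⟨h2, h1⟩
    rcases D.exists_rep s with ⟨i, rfl⟩ | ⟨i, rfl⟩
    · left
      rw [r_sq, r_eq_one_iff, two_mul_eq_zero_iff D.hn1] at h2
      rcases h2 with rfl | rfl
      · exact absurd D.r_zero h1
      · rfl
    · right
      rcases even_or_odd i with ⟨j, rfl⟩ | ⟨j, rfl⟩
      · exact ⟨j, rfl⟩
      · rw [sr_odd_sq] at h2
        exact absurd h2 D.z_ne_one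
  · rintro (rfl | ⟨j, rfl⟩)
    · exact ⟨by rw [pow_two]; exact D.z_mul_z, D.z_ne_one⟩
    · exact ⟨D.sr_even_sq j, D.sr_ne_one _⟩

theorem order_four_iff [Finite S] (s : S) :
    orderOf s = 4 ↔ s = D.r (qq D.n) ∨ s = D.r (- qq D.n) ∨ ∃ j, s = D.sr (2 * j + 1) := by
  rw [orderOf_eq_four_iff]
  have h4 : ∀ t : S, t ^ 4 = (t ^ 2) ^ 2 := fun t => by rw [← pow_mul]
  constructor
  · rintro ⟨h4', h2⟩
    rcases D.exists_rep s with ⟨i, rfl⟩ | ⟨i, rfl⟩
    · rw [h4, r_sq, r_sq, r_eq_one_iff, two_mul_eq_zero_iff D.hn1] at h4'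
      rw [r_sq, Ne, r_eq_one_iff] at h2
      rcases h4' with h | h
      · exact absurd h h2
      · rw [← two_mul_qq D.hn2, two_mul_eq_two_mul_iff D.hn1] at h
        rcases h with rfl | rfl
        · left; rfl
        · right; left; rw [qq_add_hh D.hn2]
    · right; right
      rcases even_or_odd i with ⟨j, rfl⟩ | ⟨j, rfl⟩
      · exact absurd (D.sr_even_sq j) h2
      · exact ⟨j, rfl⟩
  · rintro (rfl | rfl | ⟨j, rfl⟩)
    · rw [h4, r_sq, r_sq, Ne, r_eq_one_iff, r_eq_one_iff, two_mul_qq D.hn2]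
      exact ⟨two_mul_hh D.hn1, hh_ne_zero D.hn1⟩
    · rw [h4, r_sq, r_sq, Ne, r_eq_one_iff, r_eq_one_iff]
      have e : 2 * - qq D.n = hh D.n := by
        have h1 := two_mul_qq D.hn2
        have h2 := neg_hh D.hn1
        linear_combination -h1 + h2
      rw [e]
      exact ⟨two_mul_hh D.hn1, hh_ne_zero D.hn1⟩
    · rw [h4, sr_odd_sq]
      exact ⟨by rw [pow_two]; exact D.z_mul_z, D.z_ne_one⟩

theorem z_conj [Finite S] (c : S) : c * D.z * c⁻¹ = D.z := by
  rw [← D.z_central c, mul_inv_cancel_right]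

/-- conjugates of `r i` are `r i` or `r (k i)` -/
theorem conj_r [Finite S] (c : S) (i : ZMod (2 ^ D.n)) :
    c * D.r i * c⁻¹ = D.r i ∨ c * D.r i * c⁻¹ = D.r (D.k * i) := by
  rcases D.exists_rep c with ⟨a, rfl⟩ | ⟨a, rfl⟩
  · left; exact D.r_conj_r a i
  · right; exact D.sr_conj_r a i

theorem classes_main [Finite S] (D : QDData S) :
    Nat.card {C : ConjClasses S // ∃ t : S, orderOf t = 2 ∧ ConjClasses.mk t = C} = 2 ∧
    Nat.card {C : ConjClasses S // ∃ t : S, orderOf t = 4 ∧ ConjClasses.mk t = C} = 2 := by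
  constructor
  · have hset : {C : ConjClasses S | ∃ t : S, orderOf t = 2 ∧ ConjClasses.mk t = C} =
        {ConjClasses.mk D.z, ConjClasses.mk D.y} := by
      ext C
      simp only [Set.mem_ofPred_eq, Set.mem_insert_iff, Set.mem_singleton_iff]
      constructor
      · rintro ⟨t, ht, rfl⟩
        rcases (D.invol_iff t).mp ht with rfl | ⟨j, rfl⟩
        · left; rfl
        · right
          rw [ConjClasses.mk_eq_mk_iff_isConj, isConj_comm, isConj_iff]
          refine ⟨D.r (j * (1 + qq D.n)), ?_⟩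
          have := D.r_conj_sr_two j 0
          rw [zero_add, sr_zero] at this
          exact this
      · rintro (rfl | rfl)
        · exact ⟨D.z, (D.invol_iff _).mpr (Or.inl rfl), rfl⟩
        · exact ⟨D.y, D.hy, rfl⟩
    have hne : ConjClasses.mk D.z ≠ ConjClasses.mk D.y := by
      rw [Ne, ConjClasses.mk_eq_mk_iff_isConj, isConj_iff]
      rintro ⟨c, hc⟩
      rw [z_conj, ← D.sr_zero] at hc
      exact D.r_ne_sr _ _ hc
    show Nat.card ↥{C : ConjClasses S | ∃ t : S, orderOf t = 2 ∧ ConjClasses.mk t = C} = 2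
    rw [Nat.card_coe_set_eq, hset, Set.ncard_pair hne]
  · have hset : {C : ConjClasses S | ∃ t : S, orderOf t = 4 ∧ ConjClasses.mk t = C} =
        {ConjClasses.mk (D.r (qq D.n)), ConjClasses.mk (D.sr 1)} := by
      ext C
      simp only [Set.mem_ofPred_eq, Set.mem_insert_iff, Set.mem_singleton_iff]
      constructor
      · rintro ⟨t, ht, rfl⟩
        rcases (D.order_four_iff t).mp ht with rfl | rfl | ⟨j, rfl⟩
        · left; rfl
        · left
          rw [ConjClasses.mk_eq_mk_iff_isConj, isConj_comm, isConj_iff]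
          refine ⟨D.y, ?_⟩
          rw [y_conj_r, r_inj]
          unfold k
          have h1 := qq_mul_hh D.hn
          linear_combination h1
        · right
          rw [ConjClasses.mk_eq_mk_iff_isConj, isConj_comm, isConj_iff]
          refine ⟨D.r (j * (1 + qq D.n)), ?_⟩
          have := D.r_conj_sr_two j 1
          rw [this, add_comm]
      · rintro (rfl | rfl)
        · exact ⟨_, (D.order_four_iff _).mpr (Or.inl rfl), rfl⟩
        · exact ⟨_, (D.order_four_iff _).mpr (Or.inr (Or.inr ⟨0, by rw [mul_zero, zero_add]⟩)), rfl⟩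
    have hne : ConjClasses.mk (D.r (qq D.n)) ≠ ConjClasses.mk (D.sr 1) := by
      rw [Ne, ConjClasses.mk_eq_mk_iff_isConj, isConj_iff]
      rintro ⟨c, hc⟩
      rcases D.conj_r c (qq D.n) with h | h
      · rw [h] at hc; exact D.r_ne_sr _ _ hc
      · rw [h] at hc; exact D.r_ne_sr _ _ hc
    show Nat.card ↥{C : ConjClasses S | ∃ t : S, orderOf t = 4 ∧ ConjClasses.mk t = C} = 2
    rw [Nat.card_coe_set_eq, hset, Set.ncard_pair hne]

end QDData

end Cfsg.Agent.Helper18.QD
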