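import Mathlib
import Cfsg.Prelude.Def_CaseTheorems
import Cfsg.Agent.Helper11.DihedralLift
import Cfsg.Agent.Helper18.QD

/-!
Structure of wreathed 2-groups `Z_{2^n} ≀ Z_2`: normal form `u a b = x^a y^b`, `uz a b = x^a y^b z`
(`a b : ZMod (2^n)`), multiplication table.
-/

set_option autoImplicit false

namespace Cfsg.Agent.Helper18.Wr

open Cfsg.Agent.Helper11
open Cfsg.Agent.Helper18.QD (hh two_mul_hh hh_ne_zero two_mul_eq_zero_iff neg_hh)

/-- data of a wreathed group -/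
structure WrData (S : Type*) [Group S] where
  n : ℕ
  hn : 2 ≤ n
  card : Nat.card S = 2 ^ (2 * n + 1)
  x : S
  y : S
  z : S
  hx : orderOf x = 2 ^ n
  hxy : x * y = y * x
  hinf : Subgroup.zpowers x ⊓ Subgroup.zpowers y = ⊥
  hz : orderOf z = 2
  hzx : z * x * z⁻¹ = y

theorem exists_wrData {S : Type*} [Group S] (h : Cfsg.IsWreathed S) : Nonempty (WrData S) := by
  obtain ⟨n, hn, hc, x, y, z, hx, hxy, hinf, hz, hzx⟩ := h
  exact ⟨⟨n, hn, hc, x, y, z, hx, hxy, hinf, hz, hzx⟩⟩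

namespace WrData

variable {S : Type*} [Group S] (D : WrData S)

theorem hn1 : 1 ≤ D.n := le_trans (by norm_num) D.hn

theorem z_mul_z : D.z * D.z = 1 := by
  have := pow_orderOf_eq_one D.z
  rwa [D.hz, pow_two] at this

theorem z_inv : D.z⁻¹ = D.z := inv_eq_of_mul_eq_one_left D.z_mul_z

theorem z_ne_one : D.z ≠ 1 := by
  intro h
  have := D.hz
  rw [h, orderOf_one] at this
  norm_num at this

theorem hy : orderOf D.y = 2 ^ D.n := by
  have := MulEquiv.orderOf_eq (MulAut.conj D.z) D.x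
  rw [MulAut.conj_apply, D.hzx, D.hx] at this
  exact this

theorem hzy : D.z * D.y * D.z⁻¹ = D.x := by
  rw [← D.hzx, D.z_inv]
  calc D.z * (D.z * D.x * D.z) * D.z = (D.z * D.z) * D.x * (D.z * D.z) := by group
    _ = D.x := by rw [D.z_mul_z, one_mul, mul_one]

theorem x_pow : D.x ^ (2 ^ D.n) = 1 := by rw [← D.hx]; exact pow_orderOf_eq_one _
theorem y_pow : D.y ^ (2 ^ D.n) = 1 := by rw [← D.hy]; exact pow_orderOf_eq_one _

/-- `x ^ a` -/
noncomputable def rx (a : ZMod (2 ^ D.n)) : S := (zmodPow (2 ^ D.n) D.x D.x_pow a).toMul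
/-- `y ^ b` -/
noncomputable def ry (b : ZMod (2 ^ D.n)) : S := (zmodPow (2 ^ D.n) D.y D.y_pow b).toMul

theorem rx_add (i j : ZMod (2 ^ D.n)) : D.rx (i + j) = D.rx i * D.rx j := zmodPow_add _ _ _ i j
theorem rx_zero : D.rx 0 = 1 := zmodPow_zero _ _ _
theorem rx_neg (i : ZMod (2 ^ D.n)) : D.rx (-i) = (D.rx i)⁻¹ := zmodPow_neg _ _ _ i
theorem rx_eq_zpow (i : ZMod (2 ^ D.n)) : D.rx i = D.x ^ (ZMod.cast i : ℤ) := zmodPow_eq_zpow _ _ _ i
theorem ry_add (i j : ZMod (2 ^ D.n)) : D.ry (i + j) = D.ry i * D.ry j := zmodPow_add _ _ _ i j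
theorem ry_zero : D.ry 0 = 1 := zmodPow_zero _ _ _
theorem ry_neg (i : ZMod (2 ^ D.n)) : D.ry (-i) = (D.ry i)⁻¹ := zmodPow_neg _ _ _ i
theorem ry_eq_zpow (i : ZMod (2 ^ D.n)) : D.ry i = D.y ^ (ZMod.cast i : ℤ) := zmodPow_eq_zpow _ _ _ i

theorem rx_natCast (m : ℕ) : D.rx (m : ZMod (2 ^ D.n)) = D.x ^ m := by
  have := zmodPow_intCast (2 ^ D.n) D.x D.x_pow (m : ℤ)
  rw [Int.cast_natCast, zpow_natCast] at this
  exact this

theorem ry_natCast (m : ℕ) : D.ry (m : ZMod (2 ^ D.n)) = D.y ^ m := by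
  have := zmodPow_intCast (2 ^ D.n) D.y D.y_pow (m : ℤ)
  rw [Int.cast_natCast, zpow_natCast] at this
  exact this

theorem rx_one : D.rx 1 = D.x := by
  have := D.rx_natCast 1
  rwa [Nat.cast_one, pow_one] at this

theorem ry_one : D.ry 1 = D.y := by
  have := D.ry_natCast 1
  rwa [Nat.cast_one, pow_one] at this

theorem rx_eq_one_iff (i : ZMod (2 ^ D.n)) : D.rx i = 1 ↔ i = 0 := by
  constructor
  · intro h
    rw [rx_eq_zpow] at h
    have h2 := orderOf_dvd_iff_zpow_eq_one.mpr h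
    rw [D.hx] at h2
    have h3 : ((ZMod.cast i : ℤ) : ZMod (2 ^ D.n)) = 0 := by
      rw [ZMod.intCast_zmod_eq_zero_iff_dvd]
      exact_mod_cast h2
    rwa [ZMod.intCast_zmod_cast] at h3
  · rintro rfl; exact D.rx_zero

theorem ry_eq_one_iff (i : ZMod (2 ^ D.n)) : D.ry i = 1 ↔ i = 0 := by
  constructor
  · intro h
    rw [ry_eq_zpow] at h
    have h2 := orderOf_dvd_iff_zpow_eq_one.mpr h
    rw [D.hy] at h2
    have h3 : ((ZMod.cast i : ℤ) : ZMod (2 ^ D.n)) = 0 := by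
      rw [ZMod.intCast_zmod_eq_zero_iff_dvd]
      exact_mod_cast h2
    rwa [ZMod.intCast_zmod_cast] at h3
  · rintro rfl; exact D.ry_zero

theorem rx_ry_comm (a b : ZMod (2 ^ D.n)) : D.rx a * D.ry b = D.ry b * D.rx a := by
  rw [rx_eq_zpow, ry_eq_zpow]
  have : Commute D.x D.y := D.hxy
  exact (this.zpow_zpow _ _).eq

theorem z_conj_rx (a : ZMod (2 ^ D.n)) : D.z * D.rx a * D.z⁻¹ = D.ry a := by
  rw [rx_eq_zpow, ry_eq_zpow, ← D.hzx, conj_zpow]

theorem z_conj_ry (a : ZMod (2 ^ D.n)) : D.z * D.ry a * D.z⁻¹ = D.rx a := by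
  rw [rx_eq_zpow, ry_eq_zpow, ← D.hzy, conj_zpow]

/-- `x^a y^b` -/
noncomputable def u (a b : ZMod (2 ^ D.n)) : S := D.rx a * D.ry b

/-- `x^a y^b z` -/
noncomputable def uz (a b : ZMod (2 ^ D.n)) : S := D.u a b * D.z

theorem u_zero : D.u 0 0 = 1 := by unfold u; rw [rx_zero, ry_zero, one_mul]

theorem u_mul_u (a b c d : ZMod (2 ^ D.n)) : D.u a b * D.u c d = D.u (a + c) (b + d) := by
  unfold u
  rw [rx_add, ry_add]
  calc D.rx a * D.ry b * (D.rx c * D.ry d) = D.rx a * (D.ry b * D.rx c) * D.ry d := by group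
    _ = D.rx a * (D.rx c * D.ry b) * D.ry d := by rw [rx_ry_comm]
    _ = _ := by group

theorem u_inv (a b : ZMod (2 ^ D.n)) : (D.u a b)⁻¹ = D.u (-a) (-b) := by
  apply inv_eq_of_mul_eq_one_right
  rw [u_mul_u, add_neg_cancel, add_neg_cancel, u_zero]

theorem z_mul_u (a b : ZMod (2 ^ D.n)) : D.z * D.u a b = D.u b a * D.z := by
  unfold u
  have h1 := D.z_conj_rx a
  have h2 := D.z_conj_ry b
  calc D.z * (D.rx a * D.ry b) = (D.z * D.rx a * D.z⁻¹) * (D.z * D.ry b * D.z⁻¹) * D.z := by group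
    _ = D.ry a * D.rx b * D.z := by rw [h1, h2]
    _ = D.rx b * D.ry a * D.z := by rw [D.rx_ry_comm b a]

theorem u_mul_uz (a b c d : ZMod (2 ^ D.n)) : D.u a b * D.uz c d = D.uz (a + c) (b + d) := by
  unfold uz; rw [← mul_assoc, u_mul_u]

theorem uz_mul_u (a b c d : ZMod (2 ^ D.n)) : D.uz a b * D.u c d = D.uz (a + d) (b + c) := by
  unfold uz; rw [mul_assoc, z_mul_u, ← mul_assoc, u_mul_u]

theorem uz_mul_uz (a b c d : ZMod (2 ^ D.n)) : D.uz a b * D.uz c d = D.u (a + d) (b + c) := by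
  unfold uz
  rw [mul_assoc, ← mul_assoc D.z, z_mul_u, mul_assoc, D.z_mul_z, mul_one, u_mul_u]

theorem uz_zero : D.uz 0 0 = D.z := by unfold uz; rw [u_zero, one_mul]

theorem uz_inv (a b : ZMod (2 ^ D.n)) : (D.uz a b)⁻¹ = D.uz (-b) (-a) := by
  apply inv_eq_of_mul_eq_one_right
  rw [uz_mul_uz, add_neg_cancel, add_neg_cancel, u_zero]

theorem u_eq_one_iff (a b : ZMod (2 ^ D.n)) : D.u a b = 1 ↔ a = 0 ∧ b = 0 := by
  constructor
  · intro h
    unfold u at h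
    have h1 : D.rx a = (D.ry b)⁻¹ := eq_inv_of_mul_eq_one_left h
    have h2 : D.rx a ∈ Subgroup.zpowers D.x ⊓ Subgroup.zpowers D.y := by
      constructor
      · rw [rx_eq_zpow]; exact Subgroup.zpow_mem_zpowers _ _
      · rw [h1, ry_eq_zpow]; exact Subgroup.inv_mem _ (Subgroup.zpow_mem_zpowers _ _)
    rw [D.hinf, Subgroup.mem_bot] at h2
    rw [h2, one_mul] at h
    exact ⟨(D.rx_eq_one_iff a).mp h2, (D.ry_eq_one_iff b).mp h⟩
  · rintro ⟨rfl, rfl⟩; exact D.u_zero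

theorem u_inj {a b c d : ZMod (2 ^ D.n)} : D.u a b = D.u c d ↔ a = c ∧ b = d := by
  constructor
  · intro h
    have : D.u (a - c) (b - d) = 1 := by
      rw [sub_eq_add_neg, sub_eq_add_neg, ← u_mul_u, ← u_inv, h, mul_inv_cancel]
    rw [u_eq_one_iff] at this
    exact ⟨sub_eq_zero.mp this.1, sub_eq_zero.mp this.2⟩
  · rintro ⟨rfl, rfl⟩; rfl

theorem z_ne_u (a b : ZMod (2 ^ D.n)) : D.z ≠ D.u a b := by
  intro h
  have h1 : D.z * D.x * D.z⁻¹ = D.x := by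
    rw [h, ← D.rx_one]
    have : D.rx 1 = D.u 1 0 := by unfold u; rw [ry_zero, mul_one]
    rw [this, u_inv, u_mul_u, u_mul_u, u_inj]
    constructor <;> ring
  rw [D.hzx] at h1
  have h2 : D.x ∈ Subgroup.zpowers D.x ⊓ Subgroup.zpowers D.y := by
    constructor
    · exact Subgroup.mem_zpowers _
    · rw [h1]; exact Subgroup.mem_zpowers _
  rw [D.hinf, Subgroup.mem_bot] at h2
  have := D.hx
  rw [h2, orderOf_one] at this
  have : 1 < 2 ^ D.n := Nat.one_lt_two_pow (by have := D.hn; omega)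
  omega

theorem u_ne_uz (a b c d : ZMod (2 ^ D.n)) : D.u a b ≠ D.uz c d := by
  intro h
  unfold uz at h
  apply D.z_ne_u (a - c) (b - d)
  have : D.z = (D.u c d)⁻¹ * D.u a b := by rw [h, inv_mul_cancel_left]
  rw [this, u_inv, u_mul_u, u_inj]
  constructor <;> ring

theorem uz_inj {a b c d : ZMod (2 ^ D.n)} : D.uz a b = D.uz c d ↔ a = c ∧ b = d := by
  unfold uz
  rw [mul_left_inj, u_inj]

theorem exists_rep [Finite S] (s : S) : (∃ a b, s = D.u a b) ∨ (∃ a b, s = D.uz a b) := by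
  let f : (ZMod (2 ^ D.n) × ZMod (2 ^ D.n)) ⊕ (ZMod (2 ^ D.n) × ZMod (2 ^ D.n)) → S :=
    Sum.elim (fun p => D.u p.1 p.2) (fun p => D.uz p.1 p.2)
  have hinj : Function.Injective f := by
    rintro (⟨a, b⟩ | ⟨a, b⟩) (⟨c, d⟩ | ⟨c, d⟩) hab
    · obtain ⟨h1, h2⟩ := D.u_inj.mp hab; exact congrArg Sum.inl (Prod.ext h1 h2)
    · exact absurd hab (D.u_ne_uz a b c d)
    · exact absurd hab.symm (D.u_ne_uz c d a b)
    · obtain ⟨h1, h2⟩ := D.uz_inj.mp hab; exact congrArg Sum.inr (Prod.ext h1 h2)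
  have hbij : Function.Bijective f := by
    apply hinj.bijective_of_nat_card_le
    rw [D.card, Nat.card_sum, Nat.card_prod, Nat.card_eq_fintype_card, ZMod.card]
    have : 2 ^ (2 * D.n + 1) = 2 ^ D.n * 2 ^ D.n + 2 ^ D.n * 2 ^ D.n := by
      rw [pow_succ, two_mul, pow_add]; ring
    omega
  obtain ⟨⟨a, b⟩ | ⟨a, b⟩, ha⟩ := hbij.2 s
  · left; exact ⟨a, b, ha.symm⟩
  · right; exact ⟨a, b, ha.symm⟩

/-- conjugation of `uz a b` by `u c d` -/
theorem u_conj_uz (a b c d : ZMod (2 ^ D.n)) :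
    D.u c d * D.uz a b * (D.u c d)⁻¹ = D.uz (a + c - d) (b + d - c) := by
  rw [u_inv, u_mul_uz, uz_mul_u, uz_inj]
  constructor <;> ring

theorem z_conj_u (a b : ZMod (2 ^ D.n)) : D.z * D.u a b * D.z⁻¹ = D.u b a := by
  rw [z_mul_u, mul_assoc, mul_inv_cancel, mul_one]

theorem uz_conj_u (a b c d : ZMod (2 ^ D.n)) :
    D.uz a b * D.u c d * (D.uz a b)⁻¹ = D.u d c := by
  rw [uz_inv, uz_mul_u, uz_mul_uz, u_inj]
  constructor <;> ring

theorem u_conj_u (a b c d : ZMod (2 ^ D.n)) : D.u a b * D.u c d * (D.u a b)⁻¹ = D.u c d := by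
  rw [u_inv, u_mul_u, u_mul_u, u_inj]
  constructor <;> ring

theorem uz_conj_uz (a b c d : ZMod (2 ^ D.n)) :
    D.uz a b * D.uz c d * (D.uz a b)⁻¹ = D.uz (a - b + d) (b - a + c) := by
  rw [uz_inv, uz_mul_uz, u_mul_uz, uz_inj]
  constructor <;> ring

theorem u_sq (a b : ZMod (2 ^ D.n)) : D.u a b ^ 2 = D.u (2 * a) (2 * b) := by
  rw [pow_two, u_mul_u, two_mul, two_mul]

theorem uz_sq (a b : ZMod (2 ^ D.n)) : D.uz a b ^ 2 = D.u (a + b) (a + b) := by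
  rw [pow_two, uz_mul_uz, add_comm b a]

theorem uz_ne_one (a b : ZMod (2 ^ D.n)) : D.uz a b ≠ 1 := by
  rw [← D.u_zero]; exact (D.u_ne_uz 0 0 a b).symm

end WrData

end Cfsg.Agent.Helper18.Wr
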