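import Mathlib
import Cfsg.Agent.Helper18.Wr
import Cfsg.Agent.Helper18.QD2

/-!
Wreathed 2-groups: involutions and their conjugacy classes (S1195).
-/

set_option autoImplicit false

namespace Cfsg.Agent.Helper18.Wr

open Cfsg.Agent.Helper18.QD (hh two_mul_hh hh_ne_zero two_mul_eq_zero_iff neg_hh)

namespace WrData

variable {S : Type*} [Group S] (D : WrData S)

theorem invol_iff [Finite S] (s : S) :
    orderOf s = 2 ↔ s = D.u (hh D.n) 0 ∨ s = D.u 0 (hh D.n) ∨ s = D.u (hh D.n) (hh D.n) ∨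
      ∃ a, s = D.uz a (-a) := by
  rw [Cfsg.Agent.Helper18.QD.orderOf_eq_two_iff]
  have h2h := two_mul_hh D.hn1
  have hne := hh_ne_zero D.hn1
  constructor
  · rintro ⟨h2, h1⟩
    rcases D.exists_rep s with ⟨a, b, rfl⟩ | ⟨a, b, rfl⟩
    · rw [u_sq, u_eq_one_iff, two_mul_eq_zero_iff D.hn1, two_mul_eq_zero_iff D.hn1] at h2
      rcases h2 with ⟨rfl | rfl, rfl | rfl⟩
      · exact absurd D.u_zero h1
      · right; left; rfl
      · left; rfl
      · right; right; left; rfl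
    · right; right; right
      rw [uz_sq, u_eq_one_iff] at h2
      refine ⟨a, ?_⟩
      congr 1
      linear_combination h2.1
  · rintro (rfl | rfl | rfl | ⟨a, rfl⟩)
    · refine ⟨?_, ?_⟩
      · rw [u_sq, u_eq_one_iff]; exact ⟨h2h, mul_zero _⟩
      · rw [Ne, u_eq_one_iff]; exact fun h => hne h.1
    · refine ⟨?_, ?_⟩
      · rw [u_sq, u_eq_one_iff]; exact ⟨mul_zero _, h2h⟩
      · rw [Ne, u_eq_one_iff]; exact fun h => hne h.2
    · refine ⟨?_, ?_⟩
      · rw [u_sq, u_eq_one_iff]; exact ⟨h2h, h2h⟩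
      · rw [Ne, u_eq_one_iff]; exact fun h => hne h.1
    · refine ⟨?_, D.uz_ne_one _ _⟩
      rw [uz_sq, u_eq_one_iff]; exact ⟨add_neg_cancel a, add_neg_cancel a⟩

/-- conjugates of `u a b` -/
theorem conj_u [Finite S] (c : S) (a b : ZMod (2 ^ D.n)) :
    c * D.u a b * c⁻¹ = D.u a b ∨ c * D.u a b * c⁻¹ = D.u b a := by
  rcases D.exists_rep c with ⟨p, q, rfl⟩ | ⟨p, q, rfl⟩
  · left; exact D.u_conj_u p q a b
  · right; exact D.uz_conj_u p q a b

theorem classes_main [Finite S] (D : WrData S) :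
    Nat.card {C : ConjClasses S // ∃ t : S, orderOf t = 2 ∧ ConjClasses.mk t = C} = 3 := by
  have hne := hh_ne_zero D.hn1
  have hset : {C : ConjClasses S | ∃ t : S, orderOf t = 2 ∧ ConjClasses.mk t = C} =
      {ConjClasses.mk (D.u (hh D.n) (hh D.n)), ConjClasses.mk (D.u (hh D.n) 0),
        ConjClasses.mk D.z} := by
    ext C
    simp only [Set.mem_ofPred_eq, Set.mem_insert_iff, Set.mem_singleton_iff]
    constructor
    · rintro ⟨t, ht, rfl⟩
      rcases (D.invol_iff t).mp ht with rfl | rfl | rfl | ⟨a, rfl⟩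
      · right; left; rfl
      · right; left
        rw [ConjClasses.mk_eq_mk_iff_isConj, isConj_comm, isConj_iff]
        exact ⟨D.z, D.z_conj_u _ _⟩
      · left; rfl
      · right; right
        rw [ConjClasses.mk_eq_mk_iff_isConj, isConj_comm, isConj_iff]
        refine ⟨D.u a 0, ?_⟩
        rw [← D.uz_zero, u_conj_uz, uz_inj]
        constructor <;> ring
    · rintro (rfl | rfl | rfl)
      · exact ⟨_, (D.invol_iff _).mpr (Or.inr (Or.inr (Or.inl rfl))), rfl⟩
      · exact ⟨_, (D.invol_iff _).mpr (Or.inl rfl), rfl⟩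
      · exact ⟨_, D.hz, rfl⟩
  show Nat.card ↥{C : ConjClasses S | ∃ t : S, orderOf t = 2 ∧ ConjClasses.mk t = C} = 3
  rw [Nat.card_coe_set_eq, hset, Set.ncard_eq_three]
  refine ⟨_, _, _, ?_, ?_, ?_, rfl⟩
  · rw [Ne, ConjClasses.mk_eq_mk_iff_isConj, isConj_iff]
    rintro ⟨c, hc⟩
    rcases D.conj_u c (hh D.n) (hh D.n) with h | h
    · rw [h, u_inj] at hc; exact hne hc.2
    · rw [h, u_inj] at hc; exact hne hc.2
  · rw [Ne, ConjClasses.mk_eq_mk_iff_isConj, isConj_iff]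
    rintro ⟨c, hc⟩
    rw [← D.uz_zero] at hc
    rcases D.conj_u c (hh D.n) (hh D.n) with h | h
    · rw [h] at hc; exact D.u_ne_uz _ _ _ _ hc
    · rw [h] at hc; exact D.u_ne_uz _ _ _ _ hc
  · rw [Ne, ConjClasses.mk_eq_mk_iff_isConj, isConj_iff]
    rintro ⟨c, hc⟩
    rw [← D.uz_zero] at hc
    rcases D.conj_u c (hh D.n) 0 with h | h
    · rw [h] at hc; exact D.u_ne_uz _ _ _ _ hc
    · rw [h] at hc; exact D.u_ne_uz _ _ _ _ hc

end WrData

end Cfsg.Agent.Helper18.Wr
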