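import Mathlib
import Cfsg.Agent.Helper18.Wr2

/-!
Wreathed 2-groups: the abelian subgroup `U`, centre, commutator subgroup, central quotient (S1197).
-/

set_option autoImplicit false

namespace Cfsg.Agent.Helper18.Wr

open scoped commutatorElement
open Cfsg.Agent.Helper18.QD (hh two_mul_hh hh_ne_zero two_mul_eq_zero_iff neg_hh)

namespace WrData

variable {S : Type*} [Group S] (D : WrData S)

theorem one_ne_zero' : (1 : ZMod (2 ^ D.n)) ≠ 0 := by
  intro h
  have := hh_ne_zero D.hn1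
  apply this
  calc hh D.n = hh D.n * 1 := (mul_one _).symm
    _ = 0 := by rw [h, mul_zero]

/-- the abelian maximal subgroup -/
def U : Subgroup S where
  carrier := {s | ∃ a b, s = D.u a b}
  mul_mem' := by rintro _ _ ⟨a, b, rfl⟩ ⟨c, d, rfl⟩; exact ⟨_, _, D.u_mul_u a b c d⟩
  one_mem' := ⟨0, 0, D.u_zero.symm⟩
  inv_mem' := by rintro _ ⟨a, b, rfl⟩; exact ⟨_, _, D.u_inv a b⟩

theorem mem_U {s : S} : s ∈ D.U ↔ ∃ a b, s = D.u a b := Iff.rfl
theorem u_mem_U (a b : ZMod (2 ^ D.n)) : D.u a b ∈ D.U := ⟨a, b, rfl⟩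
theorem uz_not_mem_U (a b : ZMod (2 ^ D.n)) : D.uz a b ∉ D.U := by
  rintro ⟨c, d, h⟩; exact D.u_ne_uz _ _ _ _ h.symm

theorem u_pow (a b : ZMod (2 ^ D.n)) (m : ℕ) : D.u a b ^ m = D.u (m * a) (m * b) := by
  induction m with
  | zero => simp [u_zero]
  | succ m ih =>
    rw [pow_succ, ih, u_mul_u, u_inj]
    constructor <;> (push_cast; ring)

theorem orderOf_u_one_left (b : ZMod (2 ^ D.n)) : orderOf (D.u 1 b) = 2 ^ D.n := by
  rw [orderOf_eq_iff (by positivity)]
  constructor
  · rw [u_pow, u_eq_one_iff]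
    have : ((2 ^ D.n : ℕ) : ZMod (2 ^ D.n)) = 0 := ZMod.natCast_self _
    rw [this]; exact ⟨zero_mul _, zero_mul _⟩
  · intro m hm hm0 h
    rw [u_pow, u_eq_one_iff, mul_one, ZMod.natCast_eq_zero_iff] at h
    have := Nat.le_of_dvd hm0 h.1
    omega

theorem mem_zpowers_u {a b : ZMod (2 ^ D.n)} (m : ZMod (2 ^ D.n)) :
    D.u (m * a) (m * b) ∈ Subgroup.zpowers (D.u a b) := by
  have hm : ((m.val : ℕ) : ZMod (2 ^ D.n)) = m := ZMod.natCast_zmod_val m
  rw [← hm, ← u_pow]
  exact Subgroup.pow_mem _ (Subgroup.mem_zpowers _) _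

theorem mem_center_iff [Finite S] (s : S) : s ∈ Subgroup.center S ↔ ∃ a, s = D.u a a := by
  rw [Subgroup.mem_center_iff]
  constructor
  · intro hs
    rcases D.exists_rep s with ⟨a, b, rfl⟩ | ⟨a, b, rfl⟩
    · have := hs D.z
      rw [z_mul_u] at this
      have h2 := D.uz_inj.mp this
      exact ⟨a, by rw [h2.1]⟩
    · exfalso
      have := hs (D.u 1 0)
      rw [u_mul_uz, uz_mul_u, uz_inj] at this
      apply D.one_ne_zero'
      linear_combination this.1
  · rintro ⟨a, rfl⟩ g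
    rcases D.exists_rep g with ⟨c, d, rfl⟩ | ⟨c, d, rfl⟩
    · rw [u_mul_u, u_mul_u, u_inj]; constructor <;> ring
    · rw [uz_mul_u, u_mul_uz, uz_inj]; constructor <;> ring

theorem center_eq [Finite S] : Subgroup.center S = Subgroup.zpowers (D.u 1 1) := by
  ext s
  rw [D.mem_center_iff]
  constructor
  · rintro ⟨a, rfl⟩
    have := D.mem_zpowers_u (a := 1) (b := 1) a
    rwa [mul_one] at this
  · intro hs
    obtain ⟨k, rfl⟩ := Subgroup.mem_zpowers_iff.mp hs
    have : D.u 1 1 ∈ Subgroup.center S := (D.mem_center_iff _).mpr ⟨1, rfl⟩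
    exact (D.mem_center_iff _).mp (Subgroup.zpow_mem _ this k)

theorem card_center [Finite S] (D : WrData S) : Nat.card (Subgroup.center S) = 2 ^ D.n := by
  rw [D.center_eq, Nat.card_zpowers, orderOf_u_one_left]

theorem mem_commutator_iff [Finite S] (s : S) : s ∈ commutator S ↔ ∃ t, s = D.u t (-t) := by
  have hA : ∀ s, s ∈ Subgroup.zpowers (D.u 1 (-1)) ↔ ∃ t, s = D.u t (-t) := by
    intro s
    constructor
    · intro hs
      obtain ⟨k, rfl⟩ := Subgroup.mem_zpowers_iff.mp hs
      have hk : D.u 1 (-1) ^ k ∈ D.U := Subgroup.zpow_mem _ (D.u_mem_U _ _) k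
      obtain ⟨a, b, hab⟩ := hk
      -- use the sum: need b = -a; use natural power
      obtain ⟨m, hm⟩ : ∃ m : ℕ, D.u 1 (-1) ^ k = D.u 1 (-1) ^ m := by
        have hfin : IsOfFinOrder (D.u 1 (-1)) := isOfFinOrder_of_finite _
        obtain ⟨m, hm⟩ := hfin.mem_powers_iff_mem_zpowers.mpr ⟨k, rfl⟩
        exact ⟨m, hm.symm⟩
      rw [hm, u_pow]
      exact ⟨m * 1, by rw [mul_neg]⟩
    · rintro ⟨t, rfl⟩
      have := D.mem_zpowers_u (a := 1) (b := -1) t
      rwa [mul_one, mul_neg, mul_one] at this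
  have hcomm : commutator S = Subgroup.zpowers (D.u 1 (-1)) := by
    apply le_antisymm
    · rw [commutator_def, Subgroup.commutator_le]
      have key : ∀ a b c d, ⁅D.u a b, D.uz c d⁆ ∈ Subgroup.zpowers (D.u 1 (-1)) := by
        intro a b c d
        rw [hA, commutatorElement_def, u_conj_uz, uz_inv, uz_mul_uz]
        exact ⟨a - b, by rw [u_inj]; constructor <;> ring⟩
      intro g₁ _ g₂ _
      rcases D.exists_rep g₁ with ⟨a, b, rfl⟩ | ⟨a, b, rfl⟩ <;>
        rcases D.exists_rep g₂ with ⟨c, d, rfl⟩ | ⟨c, d, rfl⟩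
      · rw [commutatorElement_def, u_conj_u, mul_inv_cancel]; exact Subgroup.one_mem _
      · exact key a b c d
      · rw [← commutatorElement_inv]; exact Subgroup.inv_mem _ (key c d a b)
      · rw [hA, commutatorElement_def, uz_conj_uz, uz_inv, uz_mul_uz]
        exact ⟨a - b + d - c, by rw [u_inj]; constructor <;> ring⟩
    · rw [Subgroup.zpowers_le]
      have hc : ⁅D.u 1 0, D.z⁆ ∈ commutator S := by
        rw [commutator_def]
        exact Subgroup.commutator_mem_commutator (Subgroup.mem_top _) (Subgroup.mem_top _)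
      have e : ⁅D.u 1 0, D.z⁆ = D.u 1 (-1) := by
        rw [commutatorElement_def, mul_assoc (D.u 1 0), mul_assoc (D.u 1 0), u_inv, z_conj_u,
          u_mul_u, u_inj]
        constructor <;> ring
      rwa [e] at hc
  rw [hcomm, hA]

theorem commutator_eq [Finite S] : commutator S = Subgroup.zpowers (D.u 1 (-1)) := by
  ext s
  rw [D.mem_commutator_iff]
  constructor
  · rintro ⟨t, rfl⟩
    have := D.mem_zpowers_u (a := 1) (b := -1) t
    rwa [mul_one, mul_neg, mul_one] at this
  · intro hs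
    obtain ⟨k, rfl⟩ := Subgroup.mem_zpowers_iff.mp hs
    have : D.u 1 (-1) ∈ commutator S := (D.mem_commutator_iff _).mpr ⟨1, rfl⟩
    exact (D.mem_commutator_iff _).mp (Subgroup.zpow_mem _ this k)

theorem n_eq {n : ℕ} (hn : Nat.card S = 2 ^ (2 * n + 1)) : n = D.n := by
  have := D.card
  rw [hn] at this
  have h2 := Nat.pow_right_injective (le_refl 2) this
  omega

theorem center_main [Finite S] (D : WrData S) (n : ℕ) (hn : Nat.card S = 2 ^ (2 * n + 1)) :
    IsCyclic (Subgroup.center S) ∧ Nat.card (Subgroup.center S) = 2 ^ n ∧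
      IsCyclic (commutator S) ∧ Nat.card (commutator S) = 2 ^ n ∧
      Nonempty (S ⧸ Subgroup.center S ≃* DihedralGroup (2 ^ n)) := by
  obtain rfl := D.n_eq hn
  refine ⟨?_, D.card_center, ?_, ?_, ?_⟩
  · rw [D.center_eq]; infer_instance
  · rw [D.commutator_eq]; infer_instance
  · rw [D.commutator_eq, Nat.card_zpowers, orderOf_u_one_left]
  · have hidx : Nat.card (S ⧸ Subgroup.center S) = 2 * 2 ^ D.n := by
      rw [← Subgroup.index_eq_card]
      have := Subgroup.card_mul_index (Subgroup.center S)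
      rw [D.card_center, D.card] at this
      have h2 : 2 ^ (2 * D.n + 1) = 2 ^ D.n * (2 * 2 ^ D.n) := by
        rw [pow_succ, two_mul, pow_add]; ring
      rw [h2] at this
      exact Nat.eq_of_mul_eq_mul_left (by positivity) this
    refine Cfsg.Agent.Helper11.nonempty_mulEquiv_dihedralGroup (2 ^ D.n) hidx
      (QuotientGroup.mk (D.u 1 0)) (QuotientGroup.mk D.z) ?_ ?_ ?_ ?_
    · rw [orderOf_eq_iff (by positivity)]
      constructor
      · rw [← QuotientGroup.mk_pow, QuotientGroup.eq_one_iff, u_pow]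
        have : ((2 ^ D.n : ℕ) : ZMod (2 ^ D.n)) = 0 := ZMod.natCast_self _
        rw [this, zero_mul, zero_mul, u_zero]
        exact Subgroup.one_mem _
      · intro m hm hm0 h
        rw [← QuotientGroup.mk_pow, QuotientGroup.eq_one_iff, u_pow, D.mem_center_iff] at h
        obtain ⟨a, ha⟩ := h
        rw [u_inj, mul_one, mul_zero] at ha
        have h0 : (m : ZMod (2 ^ D.n)) = 0 := by rw [ha.1, ← ha.2]
        rw [ZMod.natCast_eq_zero_iff] at h0
        have := Nat.le_of_dvd hm0 h0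
        omega
    · rw [← QuotientGroup.mk_mul, D.z_mul_z]; rfl
    · rw [← QuotientGroup.mk_mul, ← QuotientGroup.mk_mul, ← QuotientGroup.mk_inv, QuotientGroup.eq]
      have hz : D.z * D.u 1 0 * D.z = D.u 0 1 := by
        have := D.z_conj_u 1 0
        rwa [D.z_inv] at this
      rw [hz, u_inv, u_inv, u_mul_u, D.mem_center_iff]
      exact ⟨-1, by rw [u_inj]; constructor <;> ring⟩
    · intro h
      obtain ⟨k, hk⟩ := Subgroup.mem_zpowers_iff.mp h
      rw [← QuotientGroup.mk_zpow, QuotientGroup.eq] at hk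
      have hU : D.u 1 0 ^ k ∈ D.U := Subgroup.zpow_mem _ (D.u_mem_U _ _) k
      obtain ⟨a, b, hab⟩ := hU
      rw [hab, u_inv, D.mem_center_iff] at hk
      obtain ⟨c, hc⟩ := hk
      have : D.z = D.u (a + c) (b + c) := by
        rw [← u_mul_u, ← hc, ← mul_assoc, u_mul_u, add_neg_cancel, add_neg_cancel, u_zero, one_mul]
      exact D.z_ne_u _ _ this

end WrData

end Cfsg.Agent.Helper18.Wr
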