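import Mathlib
import Cfsg.Agent.Helper18.Wr3

/-!
Wreathed 2-groups: the unique abelian maximal subgroup (S1196); centres of non-abelian subgroups (S1201).
-/

set_option autoImplicit false

namespace Cfsg.Agent.Helper18.Wr

open Cfsg.Agent.Helper18.QD (hh two_mul_hh hh_ne_zero two_mul_eq_zero_iff neg_hh)

namespace WrData

variable {S : Type*} [Group S] (D : WrData S)

theorem U_comm : ∀ a ∈ D.U, ∀ b ∈ D.U, a * b = b * a := by
  rintro _ ⟨a, b, rfl⟩ _ ⟨c, d, rfl⟩
  rw [u_mul_u, u_mul_u, u_inj]; constructor <;> ring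

theorem U_isMulCommutative : IsMulCommutative D.U :=
  ⟨⟨fun a b => Subtype.ext (D.U_comm a a.2 b b.2)⟩⟩

theorem U_index [Finite S] : D.U.index = 2 := by
  rw [Subgroup.index_eq_two_iff]
  refine ⟨D.z, fun b => ?_⟩
  rcases D.exists_rep b with ⟨a, c, rfl⟩ | ⟨a, c, rfl⟩
  · exact Or.inr ⟨D.u_mem_U a c, D.uz_not_mem_U a c⟩
  · refine Or.inl ⟨?_, D.uz_not_mem_U a c⟩
    rw [← D.uz_zero, uz_mul_uz]; exact D.u_mem_U _ _

theorem card_U [Finite S] : Nat.card D.U = 2 ^ (2 * D.n) := by
  have := Subgroup.card_mul_index D.U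
  rw [D.U_index, D.card, pow_succ] at this
  omega

/-- `(a, b) ↦ x^a y^b` -/
noncomputable def uHom : Multiplicative (ZMod (2 ^ D.n) × ZMod (2 ^ D.n)) →* S where
  toFun p := D.u (Multiplicative.toAdd p).1 (Multiplicative.toAdd p).2
  map_one' := D.u_zero
  map_mul' _ _ := (D.u_mul_u _ _ _ _).symm

theorem uHom_injective : Function.Injective D.uHom := by
  intro p q h
  have := D.u_inj.mp h
  exact Multiplicative.toAdd.injective (Prod.ext this.1 this.2)

theorem uHom_range : D.uHom.range = D.U := by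
  ext s
  constructor
  · rintro ⟨p, rfl⟩; exact D.u_mem_U _ _
  · rintro ⟨a, b, rfl⟩; exact ⟨Multiplicative.ofAdd (a, b), rfl⟩

theorem U_equiv : Nonempty (D.U ≃* Multiplicative (ZMod (2 ^ D.n) × ZMod (2 ^ D.n))) :=
  ⟨((MonoidHom.ofInjective D.uHom_injective).trans (MulEquiv.subgroupCongr D.uHom_range)).symm⟩

/-- an abelian subgroup not contained in `U` meets `U` in the centre -/
theorem abelian_inf_U_le_center [Finite S] (A : Subgroup S) (hA : ∀ a ∈ A, ∀ b ∈ A, a * b = b * a)
    (hAU : ¬ A ≤ D.U) : A ⊓ D.U ≤ Subgroup.center S := by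
  obtain ⟨g, hgA, hgU⟩ := SetLike.not_le_iff_exists.mp hAU
  rcases D.exists_rep g with ⟨p, q, rfl⟩ | ⟨p, q, rfl⟩
  · exact absurd (D.u_mem_U p q) hgU
  rintro v ⟨hvA, c, d, rfl⟩
  rw [D.mem_center_iff]
  have := hA _ hvA _ hgA
  rw [u_mul_uz, uz_mul_u, uz_inj] at this
  refine ⟨c, ?_⟩
  have h1 : c = d := by linear_combination this.1
  rw [← h1]

theorem relIndex_U [Finite S] (A : Subgroup S) (hAU : ¬ A ≤ D.U) : D.U.relIndex A = 2 := by
  have : D.U.Normal := Subgroup.normal_of_index_eq_two D.U_index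
  have h1 : D.U.relIndex A ∣ 2 := by
    rw [← D.U_index]; exact Subgroup.relIndex_dvd_index_of_normal _ _
  have h2 : D.U.relIndex A ≠ 1 := by
    rw [Ne, Subgroup.relIndex_eq_one]; exact hAU
  rcases (Nat.dvd_prime Nat.prime_two).mp h1 with h | h
  · exact absurd h h2
  · exact h

theorem card_inf_U [Finite S] (A : Subgroup S) (hAU : ¬ A ≤ D.U) :
    Nat.card ↥(A ⊓ D.U) * 2 = Nat.card A := by
  have h1 := Subgroup.relIndex_mul_relIndex (⊥ : Subgroup S) (A ⊓ D.U) A bot_le inf_le_left
  rwa [Subgroup.relIndex_bot_left, Subgroup.relIndex_bot_left,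
    Subgroup.inf_relIndex_left, D.relIndex_U A hAU] at h1

theorem abelian_unique [Finite S] (A : Subgroup S) (hA : IsMulCommutative A)
    (hcard : Nat.card A = 2 ^ (2 * D.n)) : A = D.U := by
  by_cases hAU : A ≤ D.U
  · exact Subgroup.eq_of_le_of_card_ge hAU (by rw [hcard, D.card_U])
  · exfalso
    have hcomm : ∀ a ∈ A, ∀ b ∈ A, a * b = b * a := by
      intro a ha b hb
      have := hA.is_comm.comm (⟨a, ha⟩ : A) ⟨b, hb⟩
      exact congrArg Subtype.val this
    have h1 := Subgroup.card_le_of_le (D.abelian_inf_U_le_center A hcomm hAU)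
    have h2 := D.card_inf_U A hAU
    rw [D.card_center] at h1
    rw [hcard] at h2
    have h3 : 2 ^ (2 * D.n) = 2 ^ D.n * 2 ^ D.n := by rw [two_mul, pow_add]
    have h4 : 4 ≤ 2 ^ D.n := by
      calc 4 = 2 ^ 2 := by norm_num
        _ ≤ 2 ^ D.n := Nat.pow_le_pow_right (by norm_num) D.hn
    have h5 : Nat.card ↥(A ⊓ D.U) * 2 ≤ 2 ^ D.n * 2 := Nat.mul_le_mul_right 2 h1
    rw [h2, h3] at h5
    have h6 : 2 ^ D.n * 4 ≤ 2 ^ D.n * 2 ^ D.n := Nat.mul_le_mul_left _ h4
    have hpos : 0 < 2 ^ D.n := by positivity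
    nlinarith

theorem abelian_main [Finite S] (D : WrData S) (n : ℕ) (hn : Nat.card S = 2 ^ (2 * n + 1)) :
    (∃! U : Subgroup S, IsMulCommutative U ∧ Nat.card U = 2 ^ (2 * n)) ∧
    ∀ U : Subgroup S, IsMulCommutative U → Nat.card U = 2 ^ (2 * n) →
      Nonempty (U ≃* Multiplicative (ZMod (2 ^ n) × ZMod (2 ^ n))) := by
  obtain rfl := D.n_eq hn
  constructor
  · exact ⟨D.U, ⟨D.U_isMulCommutative, D.card_U⟩, fun A hA => D.abelian_unique A hA.1 hA.2⟩
  · intro A hA hcard
    rw [D.abelian_unique A hA hcard]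
    exact D.U_equiv

theorem center_nonabelian [Finite S] (D : WrData S) (X : Subgroup S) (hX : ¬ IsMulCommutative X) :
    (Subgroup.center X).map X.subtype ≤ Subgroup.center S := by
  rintro _ ⟨⟨c, hcX⟩, hcen, rfl⟩
  rw [SetLike.mem_coe, Subgroup.mem_center_iff] at hcen
  have hcomm : ∀ g ∈ X, g * c = c * g := by
    intro g hg
    exact congrArg Subtype.val (hcen ⟨g, hg⟩)
  show c ∈ Subgroup.center S
  by_contra hnot
  apply hX
  -- every element of X is central or central times c
  have hP : ∀ g ∈ X, g ∈ Subgroup.center S ∨ g * c⁻¹ ∈ Subgroup.center S := by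
    intro g hg
    rcases D.exists_rep c with ⟨a, b, rfl⟩ | ⟨a, b, rfl⟩
    · -- c = u a b, not central
      rcases D.exists_rep g with ⟨p, q, rfl⟩ | ⟨p, q, rfl⟩
      · -- X ≤ U would make X abelian; treat directly: show contradiction unavailable, so
        -- we show instead the claim fails gracefully: use that some element of X is outside U
        by_cases hXU : X ≤ D.U
        · exfalso
          apply hX
          exact ⟨⟨fun x y => Subtype.ext (D.U_comm x (hXU x.2) y (hXU y.2))⟩⟩
        · obtain ⟨w, hwX, hwU⟩ := SetLike.not_le_iff_exists.mp hXU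
          rcases D.exists_rep w with ⟨p', q', rfl⟩ | ⟨p', q', rfl⟩
          · exact absurd (D.u_mem_U _ _) hwU
          · exfalso
            have := hcomm _ hwX
            rw [uz_mul_u, u_mul_uz, uz_inj] at this
            apply hnot
            rw [D.mem_center_iff]
            refine ⟨a, ?_⟩
            have h1 : a = b := by linear_combination -this.1
            rw [← h1]
      · exfalso
        have := hcomm _ hg
        rw [uz_mul_u, u_mul_uz, uz_inj] at this
        apply hnot
        rw [D.mem_center_iff]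
        refine ⟨a, ?_⟩
        have h1 : a = b := by linear_combination -this.1
        rw [← h1]
    · -- c = uz a b
      rcases D.exists_rep g with ⟨p, q, rfl⟩ | ⟨p, q, rfl⟩
      · left
        have := hcomm _ hg
        rw [u_mul_uz, uz_mul_u, uz_inj] at this
        rw [D.mem_center_iff]
        refine ⟨p, ?_⟩
        have h1 : p = q := by linear_combination this.1
        rw [← h1]
      · right
        have hmem : D.uz p q * (D.uz a b)⁻¹ ∈ X := X.mul_mem hg (X.inv_mem hcX)
        have := hcomm _ hmem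
        rw [uz_inv, uz_mul_uz, u_mul_uz, uz_mul_u, uz_inj] at this
        rw [uz_inv, uz_mul_uz, D.mem_center_iff]
        refine ⟨p + -a, ?_⟩
        rw [u_inj]
        refine ⟨rfl, ?_⟩
        linear_combination -this.1
  refine ⟨⟨fun x y => Subtype.ext ?_⟩⟩
  show (x : S) * y = y * x
  rcases hP x x.2 with hx | hx
  · rw [Subgroup.mem_center_iff] at hx; exact (hx y).symm
  · rcases hP y y.2 with hy | hy
    · rw [Subgroup.mem_center_iff] at hy; exact hy x
    · rw [Subgroup.mem_center_iff] at hx hy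
      -- x = v c, y = w c with v, w central
      have ex : (x : S) = (x * c⁻¹) * c := by group
      have ey : (y : S) = (y * c⁻¹) * c := by group
      rw [ex, ey]
      set v := (x : S) * c⁻¹
      set w := (y : S) * c⁻¹
      calc v * c * (w * c) = v * (c * w) * c := by group
        _ = v * (w * c) * c := by rw [hy c]
        _ = (v * w) * c * c := by group
        _ = (w * v) * c * c := by rw [hx w]
        _ = w * (v * c) * c := by group
        _ = w * (c * v) * c := by rw [hx c]
        _ = w * c * (v * c) := by group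

end WrData

end Cfsg.Agent.Helper18.Wr
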