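import Mathlib
import Cfsg.Agent.Helper18.Wr4

/-!
Wreathed 2-groups: Klein four subgroups (S1198) and the subgroup generated by involutions (S1200).
-/

set_option autoImplicit false

namespace Cfsg.Agent.Helper18.Wr

open Cfsg.Agent.Helper18.QD (hh two_mul_hh hh_ne_zero two_mul_eq_zero_iff neg_hh)

theorem isKleinFour_of_card_of_sq {G : Type*} [Group G] (V : Subgroup G) (hcard : Nat.card V = 4)
    (hsq : ∀ v ∈ V, v * v = 1) : IsKleinFour V := by
  refine ⟨hcard, ?_⟩
  have hfin : Finite V := Nat.finite_of_card_ne_zero (by rw [hcard]; norm_num)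
  have h1 : Monoid.exponent V ∣ 2 := Monoid.exponent_dvd_of_forall_pow_eq_one (fun g => by
    apply Subtype.ext
    rw [pow_two]
    exact hsq g g.2)
  have h2 : Monoid.exponent V ≠ 1 := by
    rw [Ne, Monoid.exp_eq_one_iff]
    intro hs
    have := Finite.card_le_one_iff_subsingleton.mpr hs
    omega
  rcases (Nat.dvd_prime Nat.prime_two).mp h1 with h | h
  · exact absurd h h2
  · exact h

theorem card_eq_four_of_carrier {G : Type*} [Group G] (V : Subgroup G) (a b c : G)
    (h : ∀ v, v ∈ V ↔ v = 1 ∨ v = a ∨ v = b ∨ v = c) (ha : a ≠ 1) (hb : b ≠ 1) (hc : c ≠ 1)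
    (hab : a ≠ b) (hac : a ≠ c) (hbc : b ≠ c) : Nat.card V = 4 := by
  have hset : (V : Set G) = {1, a, b, c} := by
    ext v
    simp only [SetLike.mem_coe, Set.mem_insert_iff, Set.mem_singleton_iff]
    exact h v
  show Nat.card ↥(V : Set G) = 4
  rw [Nat.card_coe_set_eq, hset, Set.ncard_insert_of_notMem, Set.ncard_insert_of_notMem,
    Set.ncard_pair hbc]
  · simp only [Set.mem_insert_iff, Set.mem_singleton_iff, not_or]
    exact ⟨hab, hac⟩
  · simp only [Set.mem_insert_iff, Set.mem_singleton_iff, not_or]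
    exact ⟨ha.symm, hb.symm, hc.symm⟩

namespace WrData

variable {S : Type*} [Group S] (D : WrData S)

/-- `Ω₁(U)`, the normal four-subgroup -/
def T : Subgroup S where
  carrier := {s | ∃ a b, 2 * a = 0 ∧ 2 * b = 0 ∧ s = D.u a b}
  mul_mem' := by
    rintro _ _ ⟨a, b, ha, hb, rfl⟩ ⟨c, d, hc, hd, rfl⟩
    exact ⟨a + c, b + d, by rw [mul_add, ha, hc, add_zero], by rw [mul_add, hb, hd, add_zero],
      D.u_mul_u a b c d⟩
  one_mem' := ⟨0, 0, mul_zero _, mul_zero _, D.u_zero.symm⟩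
  inv_mem' := by
    rintro _ ⟨a, b, ha, hb, rfl⟩
    exact ⟨-a, -b, by rw [mul_neg, ha, neg_zero], by rw [mul_neg, hb, neg_zero], D.u_inv a b⟩

/-- the other four-subgroups -/
def W (p : ZMod (2 ^ D.n)) : Subgroup S where
  carrier := {s | (∃ a, 2 * a = 0 ∧ s = D.u a a) ∨
    (∃ c, 2 * c = 0 ∧ s = D.uz (p + c) (-(p + c)))}
  mul_mem' := by
    rintro _ _ (⟨a, ha, rfl⟩ | ⟨c, hc, rfl⟩) (⟨a', ha', rfl⟩ | ⟨c', hc', rfl⟩)
    · exact Or.inl ⟨a + a', by rw [mul_add, ha, ha', add_zero], D.u_mul_u _ _ _ _⟩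
    · refine Or.inr ⟨a + c', by rw [mul_add, ha, hc', add_zero], ?_⟩
      rw [u_mul_uz, uz_inj]
      constructor
      · ring
      · linear_combination ha
    · refine Or.inr ⟨c + a', by rw [mul_add, hc, ha', add_zero], ?_⟩
      rw [uz_mul_u, uz_inj]
      constructor
      · ring
      · linear_combination ha'
    · refine Or.inl ⟨c - c', by rw [mul_sub, hc, hc', sub_zero], ?_⟩
      rw [uz_mul_uz, u_inj]
      constructor
      · ring
      · linear_combination hc' - hc
  one_mem' := Or.inl ⟨0, mul_zero _, D.u_zero.symm⟩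
  inv_mem' := by
    rintro _ (⟨a, ha, rfl⟩ | ⟨c, hc, rfl⟩)
    · exact Or.inl ⟨-a, by rw [mul_neg, ha, neg_zero], D.u_inv a a⟩
    · refine Or.inr ⟨c, hc, ?_⟩
      rw [uz_inv, neg_neg]

theorem T_le_U : D.T ≤ D.U := by
  rintro _ ⟨a, b, _, _, rfl⟩; exact D.u_mem_U a b

theorem mem_T_iff (s : S) : s ∈ D.T ↔
    s = 1 ∨ s = D.u (hh D.n) 0 ∨ s = D.u 0 (hh D.n) ∨ s = D.u (hh D.n) (hh D.n) := by
  constructor
  · rintro ⟨a, b, ha, hb, rfl⟩
    rcases (two_mul_eq_zero_iff D.hn1 a).mp ha with rfl | rfl <;>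
      rcases (two_mul_eq_zero_iff D.hn1 b).mp hb with rfl | rfl
    · left; exact D.u_zero
    · right; right; left; rfl
    · right; left; rfl
    · right; right; right; rfl
  · have h2h := two_mul_hh D.hn1
    rintro (rfl | rfl | rfl | rfl)
    · exact D.T.one_mem
    · exact ⟨_, _, h2h, mul_zero _, rfl⟩
    · exact ⟨_, _, mul_zero _, h2h, rfl⟩
    · exact ⟨_, _, h2h, h2h, rfl⟩

theorem card_T : Nat.card D.T = 4 := by
  have hne := hh_ne_zero D.hn1
  apply card_eq_four_of_carrier D.T _ _ _ D.mem_T_iff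
  · rw [Ne, u_eq_one_iff]; exact fun h => hne h.1
  · rw [Ne, u_eq_one_iff]; exact fun h => hne h.2
  · rw [Ne, u_eq_one_iff]; exact fun h => hne h.1
  · rw [Ne, u_inj]; exact fun h => hne h.1
  · rw [Ne, u_inj]; exact fun h => hne h.2.symm
  · rw [Ne, u_inj]; exact fun h => hne h.1.symm

theorem mem_W_iff (p : ZMod (2 ^ D.n)) (s : S) : s ∈ D.W p ↔
    s = 1 ∨ s = D.u (hh D.n) (hh D.n) ∨ s = D.uz p (-p) ∨
      s = D.uz (p + hh D.n) (-(p + hh D.n)) := by
  constructor
  · rintro (⟨a, ha, rfl⟩ | ⟨c, hc, rfl⟩)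
    · rcases (two_mul_eq_zero_iff D.hn1 a).mp ha with rfl | rfl
      · left; exact D.u_zero
      · right; left; rfl
    · rcases (two_mul_eq_zero_iff D.hn1 c).mp hc with rfl | rfl
      · right; right; left; rw [add_zero]
      · right; right; right; rfl
  · have h2h := two_mul_hh D.hn1
    rintro (rfl | rfl | rfl | rfl)
    · exact (D.W p).one_mem
    · exact Or.inl ⟨_, h2h, rfl⟩
    · exact Or.inr ⟨0, mul_zero _, by rw [add_zero]⟩
    · exact Or.inr ⟨_, h2h, rfl⟩

theorem card_W (p : ZMod (2 ^ D.n)) : Nat.card (D.W p) = 4 := by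
  have hne := hh_ne_zero D.hn1
  apply card_eq_four_of_carrier (D.W p) _ _ _ (D.mem_W_iff p)
  · rw [Ne, u_eq_one_iff]; exact fun h => hne h.1
  · exact D.uz_ne_one _ _
  · exact D.uz_ne_one _ _
  · exact D.u_ne_uz _ _ _ _
  · exact D.u_ne_uz _ _ _ _
  · rw [Ne, uz_inj]
    intro h
    apply hne
    linear_combination -h.1

theorem T_sq : ∀ v ∈ D.T, v * v = 1 := by
  rintro _ ⟨a, b, ha, hb, rfl⟩
  rw [u_mul_u, u_eq_one_iff]
  exact ⟨by linear_combination ha, by linear_combination hb⟩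

theorem W_sq (p : ZMod (2 ^ D.n)) : ∀ v ∈ D.W p, v * v = 1 := by
  rintro _ (⟨a, ha, rfl⟩ | ⟨c, hc, rfl⟩)
  · rw [u_mul_u, u_eq_one_iff]
    exact ⟨by linear_combination ha, by linear_combination ha⟩
  · rw [uz_mul_uz, u_eq_one_iff]
    exact ⟨by ring, by ring⟩

theorem T_klein : IsKleinFour D.T := isKleinFour_of_card_of_sq _ D.card_T D.T_sq
theorem W_klein (p : ZMod (2 ^ D.n)) : IsKleinFour (D.W p) :=
  isKleinFour_of_card_of_sq _ (D.card_W p) (D.W_sq p)

theorem T_normal [Finite S] : D.T.Normal := by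
  refine ⟨fun v hv g => ?_⟩
  obtain ⟨a, b, ha, hb, rfl⟩ := hv
  rcases D.conj_u g a b with h | h
  · rw [h]; exact ⟨a, b, ha, hb, rfl⟩
  · rw [h]; exact ⟨b, a, hb, ha, rfl⟩

theorem klein_cases [Finite S] (V : Subgroup S) [IsKleinFour V] : V = D.T ∨ ∃ p, V = D.W p := by
  have hcard : Nat.card V = 4 := IsKleinFour.card_four
  have hsq : ∀ v ∈ V, v * v = 1 := by
    intro v hv
    exact congrArg Subtype.val (IsKleinFour.mul_self (⟨v, hv⟩ : V))
  have hcomm : ∀ a ∈ V, ∀ b ∈ V, a * b = b * a := by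
    intro a ha b hb
    have h1 := IsKleinFour.isMulCommutative (G := V)
    exact congrArg Subtype.val (h1.is_comm.comm (⟨a, ha⟩ : V) ⟨b, hb⟩)
  by_cases hVU : V ≤ D.U
  · left
    apply Subgroup.eq_of_le_of_card_ge
    · intro v hv
      obtain ⟨a, b, rfl⟩ := hVU hv
      have := hsq _ hv
      rw [u_mul_u, u_eq_one_iff] at this
      exact ⟨a, b, by linear_combination this.1, by linear_combination this.2, rfl⟩
    · rw [hcard, D.card_T]
  · right
    obtain ⟨g, hgV, hgU⟩ := SetLike.not_le_iff_exists.mp hVU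
    rcases D.exists_rep g with ⟨p, q, rfl⟩ | ⟨p, q, rfl⟩
    · exact absurd (D.u_mem_U p q) hgU
    have hq := hsq _ hgV
    rw [uz_mul_uz, u_eq_one_iff] at hq
    obtain rfl : q = -p := by linear_combination hq.2
    refine ⟨p, ?_⟩
    apply Subgroup.eq_of_le_of_card_ge
    · intro v hv
      have h1 := hsq _ hv
      have h2 := hcomm _ hv _ hgV
      rcases D.exists_rep v with ⟨a, b, rfl⟩ | ⟨a, b, rfl⟩
      · rw [u_mul_uz, uz_mul_u, uz_inj] at h2
        rw [u_mul_u, u_eq_one_iff] at h1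
        obtain rfl : a = b := by linear_combination h2.1
        exact Or.inl ⟨a, by linear_combination h1.1, rfl⟩
      · rw [uz_mul_uz, uz_mul_uz, u_inj] at h2
        rw [uz_mul_uz, u_eq_one_iff] at h1
        obtain rfl : b = -a := by linear_combination h1.2
        refine Or.inr ⟨a - p, by linear_combination h2.1, ?_⟩
        rw [uz_inj]; constructor <;> ring
    · rw [hcard, D.card_W]

theorem map_conj_W (p e : ZMod (2 ^ D.n)) :
    (D.W p).map (MulAut.conj (D.u e 0)).toMonoidHom = D.W (p + e) := by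
  have hfin : Finite (D.W (p + e)) := Nat.finite_of_card_ne_zero (by rw [D.card_W]; norm_num)
  apply Subgroup.eq_of_le_of_card_ge
  · rintro _ ⟨v, hv, rfl⟩
    rcases hv with ⟨a, ha, rfl⟩ | ⟨c, hc, rfl⟩
    · show D.u e 0 * D.u a a * (D.u e 0)⁻¹ ∈ _
      rw [u_conj_u]; exact Or.inl ⟨a, ha, rfl⟩
    · show D.u e 0 * D.uz (p + c) (-(p + c)) * (D.u e 0)⁻¹ ∈ _
      rw [u_conj_uz]
      refine Or.inr ⟨c, hc, ?_⟩
      rw [uz_inj]; constructor <;> ring
  · rw [Subgroup.card_map_of_injective (MulAut.conj (D.u e 0)).injective, D.card_W, D.card_W]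

theorem klein_main [Finite S] (D : WrData S) :
    ∃ T : Subgroup S, IsKleinFour T ∧ T.Normal ∧ (∃ T₀ : Subgroup S, IsKleinFour T₀ ∧ T₀ ≠ T) ∧
      ∀ T₁ T₂ : Subgroup S, IsKleinFour T₁ → IsKleinFour T₂ → T₁ ≠ T → T₂ ≠ T →
        ∃ s : S, T₁.map (MulAut.conj s).toMonoidHom = T₂ := by
  refine ⟨D.T, D.T_klein, D.T_normal, ⟨D.W 0, D.W_klein 0, ?_⟩, ?_⟩
  · intro h
    have hz : D.z ∈ D.W 0 := by
      rw [← D.uz_zero]
      exact Or.inr ⟨0, mul_zero _, by rw [add_zero, neg_zero]⟩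
    rw [h] at hz
    have := D.T_le_U hz
    rw [← D.uz_zero] at this
    exact D.uz_not_mem_U _ _ this
  · intro T₁ T₂ h₁ h₂ hne₁ hne₂
    rcases D.klein_cases T₁ with rfl | ⟨p₁, rfl⟩
    · exact absurd rfl hne₁
    rcases D.klein_cases T₂ with rfl | ⟨p₂, rfl⟩
    · exact absurd rfl hne₂
    refine ⟨D.u (p₂ - p₁) 0, ?_⟩
    rw [map_conj_W]; congr 1; ring

/-! ### the subgroup generated by the involutions -/

/-- `Ω₁(S)` -/
def Om : Subgroup S where
  carrier := {s | (∃ a b, 2 * (a + b) = 0 ∧ s = D.u a b) ∨ (∃ a b, 2 * (a + b) = 0 ∧ s = D.uz a b)}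
  mul_mem' := by
    rintro _ _ (⟨a, b, h, rfl⟩ | ⟨a, b, h, rfl⟩) (⟨c, d, h', rfl⟩ | ⟨c, d, h', rfl⟩)
    · exact Or.inl ⟨_, _, by linear_combination h + h', D.u_mul_u _ _ _ _⟩
    · exact Or.inr ⟨_, _, by linear_combination h + h', D.u_mul_uz _ _ _ _⟩
    · exact Or.inr ⟨_, _, by linear_combination h + h', D.uz_mul_u _ _ _ _⟩
    · exact Or.inl ⟨_, _, by linear_combination h + h', D.uz_mul_uz _ _ _ _⟩
  one_mem' := Or.inl ⟨0, 0, by rw [add_zero, mul_zero], D.u_zero.symm⟩
  inv_mem' := by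
    rintro _ (⟨a, b, h, rfl⟩ | ⟨a, b, h, rfl⟩)
    · exact Or.inl ⟨_, _, by linear_combination -h, D.u_inv _ _⟩
    · exact Or.inr ⟨_, _, by linear_combination -h, D.uz_inv _ _⟩

theorem closure_invol_eq [Finite S] : Subgroup.closure {x : S | orderOf x = 2} = D.Om := by
  have h2h := two_mul_hh D.hn1
  apply le_antisymm
  · rw [Subgroup.closure_le]
    intro t ht
    rcases (D.invol_iff t).mp ht with rfl | rfl | rfl | ⟨a, rfl⟩
    · exact Or.inl ⟨_, _, by linear_combination h2h, rfl⟩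
    · exact Or.inl ⟨_, _, by linear_combination h2h, rfl⟩
    · exact Or.inl ⟨_, _, by linear_combination 2 * h2h, rfl⟩
    · exact Or.inr ⟨_, _, by rw [add_neg_cancel, mul_zero], rfl⟩
  · have hz : D.z ∈ Subgroup.closure {x : S | orderOf x = 2} := Subgroup.subset_closure D.hz
    have hu0 : ∀ a, D.u a (-a) ∈ Subgroup.closure {x : S | orderOf x = 2} := by
      intro a
      have h1 : D.uz a (-a) ∈ Subgroup.closure {x : S | orderOf x = 2} :=
        Subgroup.subset_closure ((D.invol_iff _).mpr (Or.inr (Or.inr (Or.inr ⟨a, rfl⟩))))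
      have := Subgroup.mul_mem _ h1 hz
      rw [← D.uz_zero, uz_mul_uz, add_zero, add_zero] at this
      exact this
    have hu : ∀ a b, 2 * (a + b) = 0 → D.u a b ∈ Subgroup.closure {x : S | orderOf x = 2} := by
      intro a b hab
      rcases (two_mul_eq_zero_iff D.hn1 _).mp hab with h | h
      · obtain rfl : b = -a := by linear_combination h
        exact hu0 a
      · have h1 : D.u 0 (hh D.n) ∈ Subgroup.closure {x : S | orderOf x = 2} :=
          Subgroup.subset_closure ((D.invol_iff _).mpr (Or.inr (Or.inl rfl)))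
        have := Subgroup.mul_mem _ (hu0 a) h1
        rw [u_mul_u] at this
        have e : -a + hh D.n = b := by linear_combination -h
        rwa [add_zero, e] at this
    rintro _ (⟨a, b, h, rfl⟩ | ⟨a, b, h, rfl⟩)
    · exact hu a b h
    · exact Subgroup.mul_mem _ (hu a b h) hz

theorem card_Om [Finite S] : Nat.card D.Om = 2 ^ (D.n + 2) := by
  let bh : Bool → ZMod (2 ^ D.n) := fun ε => if ε then hh D.n else 0
  let f : ZMod (2 ^ D.n) × Bool × Bool → S := fun t =>
    if t.2.2 then D.uz t.1 (bh t.2.1 - t.1) else D.u t.1 (bh t.2.1 - t.1)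
  have hne := hh_ne_zero D.hn1
  have hbh : ∀ ε ε', bh ε = bh ε' → ε = ε' := by
    intro ε ε' h
    cases ε <;> cases ε' <;> simp [bh] at h ⊢
    · exact hne h.symm
    · exact hne h
  have hinj : Function.Injective f := by
    rintro ⟨a, ε, e⟩ ⟨a', ε', e'⟩ h
    cases e <;> cases e' <;> simp only [f, Bool.false_eq_true, if_false, if_true] at h
    · obtain ⟨h1, h2⟩ := D.u_inj.mp h
      subst h1
      have := hbh ε ε' (by linear_combination h2)
      subst this; rfl
    · exact absurd h (D.u_ne_uz _ _ _ _)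
    · exact absurd h.symm (D.u_ne_uz _ _ _ _)
    · obtain ⟨h1, h2⟩ := D.uz_inj.mp h
      subst h1
      have := hbh ε ε' (by linear_combination h2)
      subst this; rfl
  have hrange : (D.Om : Set S) = Set.range f := by
    ext s
    constructor
    · rintro (⟨a, b, h, rfl⟩ | ⟨a, b, h, rfl⟩)
      · rcases (two_mul_eq_zero_iff D.hn1 _).mp h with h0 | h0
        · refine ⟨(a, false, false), ?_⟩
          simp only [f, bh, Bool.false_eq_true, if_false]
          congr 1; linear_combination -h0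
        · refine ⟨(a, true, false), ?_⟩
          simp only [f, bh, Bool.false_eq_true, if_false, if_true]
          congr 1; linear_combination -h0
      · rcases (two_mul_eq_zero_iff D.hn1 _).mp h with h0 | h0
        · refine ⟨(a, false, true), ?_⟩
          simp only [f, bh, Bool.false_eq_true, if_false, if_true]
          congr 1; linear_combination -h0
        · refine ⟨(a, true, true), ?_⟩
          simp only [f, bh, if_true]
          congr 1; linear_combination -h0
    · rintro ⟨⟨a, ε, e⟩, rfl⟩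
      have h2h := two_mul_hh D.hn1
      have hb : 2 * (a + (bh ε - a)) = 0 := by
        cases ε <;> simp only [bh, Bool.false_eq_true, if_false, if_true]
        · ring
        · linear_combination h2h
      cases e <;> simp only [f, Bool.false_eq_true, if_false, if_true]
      · exact Or.inl ⟨_, _, hb, rfl⟩
      · exact Or.inr ⟨_, _, hb, rfl⟩
  show Nat.card ↥(D.Om : Set S) = _
  rw [Nat.card_coe_set_eq, hrange, Set.ncard_range_of_injective hinj, Nat.card_prod, Nat.card_prod,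
    Nat.card_eq_fintype_card, ZMod.card, Nat.card_eq_fintype_card, Fintype.card_bool]
  rw [pow_add]; norm_num

theorem omega_main [Finite S] (D : WrData S) (n : ℕ) (hn : Nat.card S = 2 ^ (2 * n + 1)) :
    Nat.card (Subgroup.closure {x : S | orderOf x = 2}) = 2 ^ (n + 2) ∧
      ∃ s : S, Subgroup.closure {x : S | orderOf x = 2} ⊔ Subgroup.zpowers s = ⊤ := by
  obtain rfl := D.n_eq hn
  rw [D.closure_invol_eq]
  refine ⟨D.card_Om, D.u 1 0, ?_⟩
  rw [eq_top_iff]
  intro g _
  have hpow : ∀ c : ZMod (2 ^ D.n), D.u c 0 ∈ Subgroup.zpowers (D.u 1 0) := by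
    intro c
    have := D.mem_zpowers_u (a := 1) (b := 0) c
    rwa [mul_one, mul_zero] at this
  rcases D.exists_rep g with ⟨a, b, rfl⟩ | ⟨a, b, rfl⟩
  · have e : D.u a b = D.u (-b) b * D.u (a + b) 0 := by
      rw [u_mul_u, u_inj]; constructor <;> ring
    rw [e]
    exact Subgroup.mul_mem_sup (Or.inl ⟨_, _, by rw [neg_add_cancel, mul_zero], rfl⟩) (hpow _)
  · have e : D.uz a b = D.u (a + b) 0 * D.uz (-b) b := by
      rw [u_mul_uz, uz_inj]; constructor <;> ring
    rw [e]
    exact Subgroup.mul_mem _ (Subgroup.mem_sup_right (hpow _))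
      (Subgroup.mem_sup_left (Or.inr ⟨_, _, by rw [neg_add_cancel, mul_zero], rfl⟩))

end WrData

end Cfsg.Agent.Helper18.Wr
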