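import Mathlib
import Cfsg.Prelude.Def_Characters
import Cfsg.Agent.Helper24.CharBasic
import Cfsg.Agent.Helper23.CharGalois

/-!
# Character values at an element of order dividing four
-/

set_option autoImplicit false

namespace Cfsg.Agent.Helper18.BS

open Module Cfsg Cfsg.Agent.Helper24 Cfsg.Agent.Helper23

variable {G V : Type*} [Group G] [Finite G] [AddCommGroup V] [Module ℂ V] [FiniteDimensional ℂ V]

theorem fourth_root_cases {μ : ℂ} (h : μ ^ 4 = 1) :
    μ = 1 ∨ μ = Complex.I ∨ μ = -1 ∨ μ = -Complex.I := by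
  have h1 : (μ - 1) * (μ - Complex.I) * (μ + 1) * (μ + Complex.I) = 0 := by
    have hI : Complex.I ^ 2 = -1 := Complex.I_sq
    have : (μ - 1) * (μ - Complex.I) * (μ + 1) * (μ + Complex.I) =
        (μ ^ 2 - 1) * (μ ^ 2 - Complex.I ^ 2) := by ring
    rw [this, hI]
    have : (μ ^ 2 - 1) * (μ ^ 2 - -1) = μ ^ 4 - 1 := by ring
    rw [this, h, sub_self]
  rcases mul_eq_zero.mp h1 with h2 | h2
  · rcases mul_eq_zero.mp h2 with h3 | h3
    · rcases mul_eq_zero.mp h3 with h4 | h4
      · left; exact sub_eq_zero.mp h4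
      · right; left; exact sub_eq_zero.mp h4
    · right; right; left; exact eq_neg_of_add_eq_zero_left h3
  · right; right; right; exact eq_neg_of_add_eq_zero_left h2

/-- Character values on the powers of an element `g` with `g ^ 4 = 1`. -/
theorem char_order_four (ρ : Representation ℂ G V) (g : G) (hg : g ^ 4 = 1) :
    ∃ m0 m1 m2 m3 : ℕ,
      ρ.character 1 = (m0 : ℂ) + m1 + m2 + m3 ∧
      ρ.character g = (m0 : ℂ) - m2 + Complex.I * ((m1 : ℂ) - m3) ∧
      ρ.character (g ^ 2) = (m0 : ℂ) - m1 + m2 - m3 ∧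
      ρ.character (g ^ 3) = (m0 : ℂ) - m2 - Complex.I * ((m1 : ℂ) - m3) := by
  classical
  set m : ℂ → ℕ := fun μ => Module.finrank ℂ (Module.End.eigenspace (ρ g) μ) with hm
  set R : Finset ℂ := {1, Complex.I, -1, -Complex.I} with hR
  have hI2 : Complex.I ^ 2 = -1 := Complex.I_sq
  have hsub : eigenFinset (ρ g) ⊆ R := by
    intro μ hμ
    have h1 := rho_eigenvalue_pow ρ g (mem_eigenFinset.mp hμ)
    have h4 : μ ^ 4 = 1 := by
      obtain ⟨c, hc⟩ := orderOf_dvd_of_pow_eq_one hg
      rw [hc, pow_mul, h1, one_pow]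
    rw [hR]
    simp only [Finset.mem_insert, Finset.mem_singleton]
    exact fourth_root_cases h4
  have hsum : ∀ k : ℕ, ρ.character (g ^ k) = ∑ μ ∈ R, μ ^ k * (m μ : ℂ) := by
    intro k
    rw [char_pow_eq_sum_eigen ρ g k]
    apply Finset.sum_subset hsub
    intro μ _ hμ
    have : Module.End.eigenspace (ρ g) μ = ⊥ := by
      by_contra hne
      exact hμ (mem_eigenFinset.mpr hne)
    show μ ^ k * ((Module.finrank ℂ (Module.End.eigenspace (ρ g) μ) : ℕ) : ℂ) = 0
    rw [this, finrank_bot, Nat.cast_zero, mul_zero]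
  have hne1 : (1 : ℂ) ≠ Complex.I := by
    intro h
    have := congrArg Complex.im h
    simp at this
  have hne2 : (1 : ℂ) ≠ -1 := by
    intro h
    have := congrArg Complex.re h
    norm_num at this
  have hne3 : (1 : ℂ) ≠ -Complex.I := by
    intro h
    have := congrArg Complex.im h
    simp at this
  have hne4 : Complex.I ≠ -1 := by
    intro h
    have := congrArg Complex.im h
    simp at this
  have hne5 : Complex.I ≠ -Complex.I := by
    intro h
    have := congrArg Complex.im h
    simp at this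
    norm_num at this
  have hne6 : (-1 : ℂ) ≠ -Complex.I := by
    intro h
    have := congrArg Complex.im h
    simp at this
  have hexp : ∀ F : ℂ → ℂ, ∑ μ ∈ R, F μ = F 1 + F Complex.I + F (-1) + F (-Complex.I) := by
    intro F
    rw [hR, Finset.sum_insert, Finset.sum_insert, Finset.sum_insert, Finset.sum_singleton]
    · ring
    · simp only [Finset.mem_singleton]; exact hne6
    · simp only [Finset.mem_insert, Finset.mem_singleton]
      rintro (h | h)
      · exact hne4 h
      · exact hne5 h
    · simp only [Finset.mem_insert, Finset.mem_singleton]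
      rintro (h | h | h)
      · exact hne1 h
      · exact hne2 h
      · exact hne3 h
  refine ⟨m 1, m Complex.I, m (-1), m (-Complex.I), ?_, ?_, ?_, ?_⟩
  · have := hsum 0
    rw [pow_zero, hexp] at this
    rw [this]; simp only [pow_zero, one_mul]
  · have := hsum 1
    rw [pow_one, hexp] at this
    rw [this]; simp only [pow_one]; ring
  · have := hsum 2
    rw [hexp] at this
    rw [this]
    have e1 : (-Complex.I) ^ 2 = -1 := by rw [neg_sq, hI2]
    have e2 : (-1 : ℂ) ^ 2 = 1 := by norm_num
    rw [e1, e2, hI2]; ring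
  · have := hsum 3
    rw [hexp] at this
    rw [this]
    have e0 : Complex.I ^ 3 = -Complex.I := by
      rw [pow_succ, hI2]; ring
    have e1 : (-Complex.I) ^ 3 = Complex.I := by
      rw [Odd.neg_pow (by decide), e0]; ring
    have e2 : (-1 : ℂ) ^ 3 = -1 := by norm_num
    rw [e0, e1, e2]; ring

/-- For an irreducible character and an element `x` of order dividing 4 that is conjugate to its
inverse: the value at `x` is an integer `n`, the value at `x ^ 2` is `a - 4 e` with `e` a natural
number and `a` the degree. -/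
theorem irr_order_four (χ : IrrCharacter G) (x : G) (hx : x ^ 4 = 1) (hconj : IsConj x x⁻¹) :
    ∃ (n : ℤ) (a e : ℕ), (χ : G → ℂ) x = (n : ℂ) ∧ (χ : G → ℂ) 1 = (a : ℂ) ∧
      (χ : G → ℂ) (x ^ 2) = (a : ℂ) - 4 * (e : ℂ) := by
  obtain ⟨f, k, ρ, hirr, rfl⟩ := χ
  obtain ⟨m0, m1, m2, m3, h0, h1, h2, h3⟩ := char_order_four ρ x hx
  have hx3 : x ^ 3 = x⁻¹ := by
    have : x ^ 3 * x = 1 := by rw [← pow_succ]; exact hx
    exact eq_inv_of_mul_eq_one_left this
  have heq : ρ.character (x ^ 3) = ρ.character x := by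
    rw [hx3]
    obtain ⟨c, hc⟩ := isConj_iff.mp hconj
    rw [← hc]
    exact Representation.char_conj ρ x c
  have hm : (m1 : ℂ) = m3 := by
    rw [h1, h3] at heq
    have h4 : Complex.I * (((m1 : ℂ) - m3) * 2) = 0 := by linear_combination (-1 : ℂ) * heq
    rcases mul_eq_zero.mp h4 with h5 | h5
    · exact absurd h5 Complex.I_ne_zero
    · have : (m1 : ℂ) - m3 = 0 := by
        rcases mul_eq_zero.mp h5 with h6 | h6
        · exact h6
        · norm_num at h6
      exact sub_eq_zero.mp this
  have hm' : m1 = m3 := by exact_mod_cast hm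
  subst hm'
  refine ⟨(m0 : ℤ) - m2, m0 + m1 + m2 + m1, m1, ?_, ?_, ?_⟩
  · show ρ.character x = _
    rw [h1]; push_cast; ring
  · show ρ.character 1 = _
    rw [h0]; push_cast; ring
  · show ρ.character (x ^ 2) = _
    rw [h2]; push_cast; ring

end Cfsg.Agent.Helper18.BS
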