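import Mathlib

/-!
# Number theory for the Brauer–Suzuki theorem (quaternion Sylow 2-subgroup of order 8)
-/

set_option autoImplicit false

namespace Cfsg.Agent.Helper18.BS

theorem zmod4_odd_even : ∀ u v a1 a2 : ZMod 4, a1 = 2 * u - 1 → a2 = 2 * v - 1 →
    (u = 1 ∨ u = 3 ∨ v = 1 ∨ v = 3) → (u * a2 - v * a1) ^ 2 ≠ u ^ 2 * a2 + v ^ 2 * a1 := by
  intro u v a1 a2 h1 h2
  subst h1 h2
  revert u v
  decide

theorem zmod4_descent : ∀ u v : ZMod 4, (u = 1 ∨ u = 3 ∨ v = 1 ∨ v = 3) →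
    (u * 3 - v * 3) ^ 2 ≠ u ^ 2 * 3 + v ^ 2 * 3 := by
  decide

theorem zmod4_cases (f : ℤ) : (2 ∣ f) ∨ ((f : ZMod 4) = 1 ∨ (f : ZMod 4) = 3) := by
  rcases Int.emod_two_eq_zero_or_one f with h | h
  · left; exact Int.dvd_of_emod_eq_zero h
  · right
    have h4 : f % 4 = 1 ∨ f % 4 = 3 := by omega
    rcases h4 with h4 | h4
    · left
      have : f = 4 * (f / 4) + 1 := by omega
      rw [this]; push_cast
      have h0 : (4 : ZMod 4) = 0 := by decide
      rw [h0]; ring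
    · right
      have : f = 4 * (f / 4) + 3 := by omega
      rw [this]; push_cast
      have h0 : (4 : ZMod 4) = 0 := by decide
      rw [h0]; ring

theorem cast_of_emod {a : ℤ} {r : ℤ} (h : a % 4 = r) : (a : ZMod 4) = (r : ZMod 4) := by
  have : a = 4 * (a / 4) + r := by omega
  rw [this]; push_cast
  have h0 : (4 : ZMod 4) = 0 := by decide
  rw [h0]; ring

/-- Infinite descent: for `a1 ≡ a2 ≡ 3 (mod 4)` the equation has only the zero solution. -/
theorem descent (a1 a2 : ℤ) (h1 : a1 % 4 = 3) (h2 : a2 % 4 = 3) :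
    ∀ (n : ℕ) (f1 f2 : ℤ), f1.natAbs + f2.natAbs = n →
      (f1 * a2 - f2 * a1) ^ 2 = f1 ^ 2 * a2 + f2 ^ 2 * a1 → f1 = 0 ∧ f2 = 0 := by
  intro n
  induction n using Nat.strong_induction_on with
  | _ n ih =>
    intro f1 f2 hn heq
    by_cases hz : f1 = 0 ∧ f2 = 0
    · exact hz
    exfalso
    rcases zmod4_cases f1 with hf1 | hf1
    · rcases zmod4_cases f2 with hf2 | hf2
      · obtain ⟨g1, rfl⟩ := hf1
        obtain ⟨g2, rfl⟩ := hf2
        have heq' : (g1 * a2 - g2 * a1) ^ 2 = g1 ^ 2 * a2 + g2 ^ 2 * a1 := by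
          have : 4 * ((g1 * a2 - g2 * a1) ^ 2) = 4 * (g1 ^ 2 * a2 + g2 ^ 2 * a1) := by
            linear_combination heq
          linarith
        have hlt : g1.natAbs + g2.natAbs < n := by
          rw [← hn]
          have h1' : (2 * g1).natAbs = 2 * g1.natAbs := by
            rw [Int.natAbs_mul]; rfl
          have h2' : (2 * g2).natAbs = 2 * g2.natAbs := by
            rw [Int.natAbs_mul]; rfl
          rw [h1', h2']
          have : g1 ≠ 0 ∨ g2 ≠ 0 := by
            by_contra hc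
            push Not at hc
            apply hz
            rw [hc.1, hc.2]; simp
          rcases this with h | h
          · have := Int.natAbs_pos.mpr h; omega
          · have := Int.natAbs_pos.mpr h; omega
        have := ih _ hlt g1 g2 rfl heq'
        apply hz
        rw [this.1, this.2]; simp
      · have hc := congrArg (Int.cast : ℤ → ZMod 4) heq
        push_cast at hc
        rw [cast_of_emod h1, cast_of_emod h2] at hc
        push_cast at hc
        exact zmod4_descent _ _ (Or.inr (Or.inr hf2)) hc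
    · have hc := congrArg (Int.cast : ℤ → ZMod 4) heq
      push_cast at hc
      rw [cast_of_emod h1, cast_of_emod h2] at hc
      push_cast at hc
      refine zmod4_descent _ _ ?_ hc
      rcases hf1 with h | h
      · exact Or.inl h
      · exact Or.inr (Or.inl h)

/-- The core diophantine lemma. -/
theorem core (a1 a2 e1 e2 : ℤ) (h : (e1 * a2 - e2 * a1) ^ 2 = e1 ^ 2 * a2 + e2 ^ 2 * a1)
    (h41 : (a1 - 2 * e1 + 1) % 4 = 0) (h42 : (a2 - 2 * e2 + 1) % 4 = 0) : e1 = 0 ∧ e2 = 0 := by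
  have c1 : (a1 : ZMod 4) = 2 * (e1 : ZMod 4) - 1 := by
    have := cast_of_emod h41
    push_cast at this
    linear_combination this
  have c2 : (a2 : ZMod 4) = 2 * (e2 : ZMod 4) - 1 := by
    have := cast_of_emod h42
    push_cast at this
    linear_combination this
  have hc := congrArg (Int.cast : ℤ → ZMod 4) h
  push_cast at hc
  rcases zmod4_cases e1 with hf1 | hf1
  · rcases zmod4_cases e2 with hf2 | hf2
    · have ha1 : a1 % 4 = 3 := by
        obtain ⟨g, rfl⟩ := hf1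
        omega
      have ha2 : a2 % 4 = 3 := by
        obtain ⟨g, rfl⟩ := hf2
        omega
      exact descent a1 a2 ha1 ha2 _ e1 e2 rfl h
    · exact absurd hc (zmod4_odd_even _ _ _ _ c1 c2 (Or.inr (Or.inr hf2)))
  · refine absurd hc (zmod4_odd_even _ _ _ _ c1 c2 ?_)
    rcases hf1 with h | h
    · exact Or.inl h
    · exact Or.inr (Or.inl h)

/-- The case where the third sign is the minority sign `+1`. -/
theorem pattern_mmp (a1 a2 a3 e1 e2 e3 : ℤ)
    (hE1 : -e1 - e2 + e3 = 0) (h1 : 1 - a1 - a2 + a3 = 0)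
    (hE3 : -(e1 ^ 2 * a2 * a3) - e2 ^ 2 * a1 * a3 + e3 ^ 2 * a1 * a2 = 0)
    (h41 : (a1 - 2 * e1 + 1) % 4 = 0) (h42 : (a2 - 2 * e2 + 1) % 4 = 0) : e1 = 0 ∧ e2 = 0 := by
  have he3 : e3 = e1 + e2 := by linarith
  have ha3 : a3 = a1 + a2 - 1 := by linarith
  subst he3 ha3
  apply core a1 a2 e1 e2 _ h41 h42
  linear_combination (-1 : ℤ) * hE3

/-- The case where the third sign is the minority sign `-1`. -/
theorem pattern_ppm (a1 a2 a3 e1 e2 e3 : ℤ) (ha1 : 0 < a1) (ha2 : 0 < a2)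
    (hE1 : e1 + e2 - e3 = 0) (h1 : 1 + a1 + a2 - a3 = 0)
    (hE3 : e1 ^ 2 * a2 * a3 + e2 ^ 2 * a1 * a3 - e3 ^ 2 * a1 * a2 = 0) : e1 = 0 ∧ e2 = 0 := by
  have he3 : e3 = e1 + e2 := by linarith
  have ha3 : a3 = a1 + a2 + 1 := by linarith
  subst he3 ha3
  have key : (e1 * a2 - e2 * a1) ^ 2 + e1 ^ 2 * a2 + e2 ^ 2 * a1 = 0 := by
    linear_combination hE3
  have p1 : 0 ≤ (e1 * a2 - e2 * a1) ^ 2 := sq_nonneg _
  have p2 : 0 ≤ e1 ^ 2 * a2 := mul_nonneg (sq_nonneg _) ha2.le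
  have p3 : 0 ≤ e2 ^ 2 * a1 := mul_nonneg (sq_nonneg _) ha1.le
  have z2 : e1 ^ 2 * a2 = 0 := by linarith
  have z3 : e2 ^ 2 * a1 = 0 := by linarith
  constructor
  · rcases mul_eq_zero.mp z2 with h | h
    · exact pow_eq_zero_iff (by norm_num) |>.mp h
    · omega
  · rcases mul_eq_zero.mp z3 with h | h
    · exact pow_eq_zero_iff (by norm_num) |>.mp h
    · omega

/-- **Main numerical lemma.** -/
theorem numeric (d1 d2 d3 a1 a2 a3 e1 e2 e3 : ℤ)
    (hd1 : d1 = 1 ∨ d1 = -1) (hd2 : d2 = 1 ∨ d2 = -1) (hd3 : d3 = 1 ∨ d3 = -1)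
    (ha1 : 0 < a1) (ha2 : 0 < a2) (ha3 : 0 < a3) (he1 : 0 ≤ e1) (he2 : 0 ≤ e2) (he3 : 0 ≤ e3)
    (h1 : 1 + d1 * a1 + d2 * a2 + d3 * a3 = 0)
    (h2 : 1 + d1 * (a1 - 4 * e1) + d2 * (a2 - 4 * e2) + d3 * (a3 - 4 * e3) = 0)
    (h3 : a1 * a2 * a3 + d1 * (a1 - 4 * e1) ^ 2 * a2 * a3 + d2 * (a2 - 4 * e2) ^ 2 * a1 * a3
      + d3 * (a3 - 4 * e3) ^ 2 * a1 * a2 = 0)
    (h41 : (a1 - 2 * e1 - d1) % 4 = 0) (h42 : (a2 - 2 * e2 - d2) % 4 = 0)
    (h43 : (a3 - 2 * e3 - d3) % 4 = 0) : e1 = 0 ∨ e2 = 0 ∨ e3 = 0 := by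
  have hE1 : d1 * e1 + d2 * e2 + d3 * e3 = 0 := by linarith
  have hE3 : d1 * e1 ^ 2 * a2 * a3 + d2 * e2 ^ 2 * a1 * a3 + d3 * e3 ^ 2 * a1 * a2 = 0 := by
    have : 16 * (d1 * e1 ^ 2 * a2 * a3 + d2 * e2 ^ 2 * a1 * a3 + d3 * e3 ^ 2 * a1 * a2) = 0 := by
      linear_combination h3 - (a1 * a2 * a3) * h1 + 8 * a1 * a2 * a3 * hE1
    linarith
  rcases hd1 with rfl | rfl <;> rcases hd2 with rfl | rfl <;> rcases hd3 with rfl | rfl
  · -- + + +
    exfalso; linarith
  · -- + + -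
    left
    exact (pattern_ppm a1 a2 a3 e1 e2 e3 ha1 ha2 (by linarith) (by linarith)
      (by linear_combination hE3)).1
  · -- + - +
    left
    exact (pattern_ppm a1 a3 a2 e1 e3 e2 ha1 ha3 (by linarith) (by linarith)
      (by linear_combination hE3)).1
  · -- + - -
    right; left
    exact (pattern_mmp a2 a3 a1 e2 e3 e1 (by linarith) (by linarith)
      (by linear_combination hE3) (by
        have : (a2 - 2 * e2 + 1) = (a2 - 2 * e2 - -1) := by ring
        rw [this]; exact h42) (by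
        have : (a3 - 2 * e3 + 1) = (a3 - 2 * e3 - -1) := by ring
        rw [this]; exact h43)).1
  · -- - + +
    right; left
    exact (pattern_ppm a2 a3 a1 e2 e3 e1 ha2 ha3 (by linarith) (by linarith)
      (by linear_combination hE3)).1
  · -- - + -
    left
    exact (pattern_mmp a1 a3 a2 e1 e3 e2 (by linarith) (by linarith)
      (by linear_combination hE3) (by
        have : (a1 - 2 * e1 + 1) = (a1 - 2 * e1 - -1) := by ring
        rw [this]; exact h41) (by
        have : (a3 - 2 * e3 + 1) = (a3 - 2 * e3 - -1) := by ring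
        rw [this]; exact h43)).1
  · -- - - +
    left
    exact (pattern_mmp a1 a2 a3 e1 e2 e3 (by linarith) (by linarith)
      (by linear_combination hE3) (by
        have : (a1 - 2 * e1 + 1) = (a1 - 2 * e1 - -1) := by ring
        rw [this]; exact h41) (by
        have : (a2 - 2 * e2 + 1) = (a2 - 2 * e2 - -1) := by ring
        rw [this]; exact h42)).1
  · -- - - -
    left
    have : e1 + e2 + e3 = 0 := by linarith
    omega

end Cfsg.Agent.Helper18.BS
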