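import Mathlib
import Cfsg.Agent.S0947
import Cfsg.Agent.Helper18.BSChar1
import Cfsg.Agent.Helper18.BSChar2
import Cfsg.Agent.Helper18.BSNum

/-!
# The character-theoretic heart of the Brauer–Suzuki theorem for `Q₈`
-/

set_option autoImplicit false

namespace Cfsg.Agent.Helper18.BS

open Module Cfsg Cfsg.Agent.Helper24 Cfsg.Agent.Helper5 Cfsg.Agent.Helper5.CC Cfsg.Agent.Helper5.Loc

variable {G : Type*} [Group G] [Fintype G] {M : Ideal AlgInt}

theorem orderOf_conj4 {H : Type*} [Group H] (g x : H) : orderOf (g * x * g⁻¹) = orderOf x := by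
  have := MulEquiv.orderOf_eq (MulAut.conj g) x
  rwa [MulAut.conj_apply] at this

/-- Integers with squares summing to `3` over a finset, all nonzero: exactly three, each `±1`. -/
theorem three_squares {ι : Type*} (T : Finset ι) (n : ι → ℤ) (hne : ∀ i ∈ T, n i ≠ 0)
    (hsum : ∑ i ∈ T, (n i) ^ 2 = 3) : T.card = 3 ∧ ∀ i ∈ T, (n i = 1 ∨ n i = -1) := by
  have hsq : ∀ i ∈ T, (n i) ^ 2 = 1 := by
    intro i hi
    have hle : (n i) ^ 2 ≤ ∑ j ∈ T, (n j) ^ 2 :=
      Finset.single_le_sum (f := fun j => (n j) ^ 2) (fun j _ => sq_nonneg _) hi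
    rw [hsum] at hle
    have h0 := hne i hi
    have hcases : n i ≤ -2 ∨ n i = -1 ∨ n i = 0 ∨ n i = 1 ∨ 2 ≤ n i := by omega
    rcases hcases with h | h | h | h | h
    · nlinarith
    · rw [h]; norm_num
    · exact absurd h h0
    · rw [h]; norm_num
    · nlinarith
  constructor
  · have : ∑ i ∈ T, (n i) ^ 2 = ∑ _i ∈ T, (1 : ℤ) := Finset.sum_congr rfl hsq
    rw [hsum, Finset.sum_const, nsmul_eq_mul, mul_one] at this
    exact_mod_cast this.symm
  · intro i hi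
    have h1 := hsq i hi
    have h2 : (n i - 1) * (n i + 1) = 0 := by linear_combination h1
    rcases mul_eq_zero.mp h2 with h | h
    · left; omega
    · right; omega

/-- **Main character-theoretic theorem.** -/
theorem exists_irr_kernel [Fintype (IrrCharacter G)] (hM : IsPModular 2 M)
    (x t : G) (hx4 : orderOf x = 4) (ht : t = x ^ 2)
    (hxinv : IsConj x x⁻¹)
    (hidx : ∃ k : ℕ, (pPrimeCore 2 (Subgroup.centralizer ({x} : Set G))).index = 2 ^ k)
    (hfac : (Nat.card (Subgroup.centralizer ({x} : Set G))).factorization 2 = 2)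
    (hodd : ∀ g : G, Odd (orderOf (t * (g * t * g⁻¹))))
    (S : Subgroup G) (htS : t ∈ S) (hS8 : Nat.card S = 8)
    (hS : ∀ s ∈ S, s = 1 ∨ s = t ∨ IsConj x s) :
    ∃ χ : IrrCharacter G, χ ≠ trivIrr G ∧ (χ : G → ℂ) t = (χ : G → ℂ) 1 := by
  classical
  haveI : Fact (Nat.Prime 2) := ⟨Nat.prime_two⟩
  haveI : Fintype S := Fintype.ofFinite S
  have hMp := isPrime_of_isPModular hM
  have hx4' : x ^ 4 = 1 := by rw [← hx4]; exact pow_orderOf_eq_one x
  have hx1 : x ≠ 1 := by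
    intro h; rw [h, orderOf_one] at hx4; omega
  have ht1 : t ≠ 1 := by
    intro h
    rw [ht] at h
    have := orderOf_dvd_of_pow_eq_one h
    rw [hx4] at this
    omega
  have htt : t * t = 1 := by
    rw [ht, ← pow_add]; exact hx4'
  have ht2 : orderOf t = 2 := orderOf_eq_prime (by rw [pow_two]; exact htt) ht1
  -- the data of each character
  have hdata : ∀ χ : IrrCharacter G, ∃ (n : ℤ) (a e : ℕ), (χ : G → ℂ) x = (n : ℂ) ∧
      (χ : G → ℂ) 1 = (a : ℂ) ∧ (χ : G → ℂ) t = (a : ℂ) - 4 * (e : ℂ) := by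
    intro χ; rw [ht]; exact irr_order_four χ x hx4' hxinv
  choose n a e hn ha he using hdata
  have hapos : ∀ χ : IrrCharacter G, 0 < a χ := by
    intro χ
    rcases Nat.eq_zero_or_pos (a χ) with h | h
    · exfalso
      have := ha χ
      rw [h, Nat.cast_zero] at this
      exact irr_one_ne_zero χ this
    · exact h
  -- the trivial character
  have htrivB : trivIrr G ∈ principalBlock M G := trivIrr_mem_principalBlock hMp
  have hntriv : n (trivIrr G) = 1 := by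
    have := hn (trivIrr G)
    rw [trivIrr_apply] at this
    exact_mod_cast this.symm
  -- sum of squares
  have hsum := (Cfsg.Agent.S0947.result 2 M hM x ⟨2, by rw [hx4]; norm_num⟩ hx1
    (1 : Subgroup.centralizer ({x} : Set G)) (by rw [orderOf_one]; norm_num)).2 hidx
  rw [hfac] at hsum
  simp only [Subgroup.coe_one, mul_one] at hsum
  rw [finsum_mem_eq_sum_ite'] at hsum
  have hZ : ∑ ζ : IrrCharacter G, (if ζ ∈ principalBlock M G then (n ζ) ^ 2 else 0) = 4 := by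
    have : ((∑ ζ : IrrCharacter G, (if ζ ∈ principalBlock M G then (n ζ) ^ 2 else 0) : ℤ) : ℝ) =
        4 := by
      have h4 : (((2 ^ 2 : ℕ) : ℕ) : ℝ) = 4 := by norm_num
      rw [← h4, ← hsum]
      push_cast
      refine Finset.sum_congr rfl fun ζ _ => ?_
      split_ifs
      · rw [hn ζ, Complex.norm_intCast, sq_abs]
      · rfl
    exact_mod_cast this
  -- the set of characters in the block not vanishing at x, without the trivial character
  set T : Finset (IrrCharacter G) :=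
    Finset.univ.filter (fun ζ => ζ ∈ principalBlock M G ∧ n ζ ≠ 0 ∧ ζ ≠ trivIrr G) with hT
  have hsplit : ∀ F : IrrCharacter G → ℂ,
      ∑ ζ : IrrCharacter G, (if ζ ∈ principalBlock M G then (n ζ : ℂ) * F ζ else 0) =
        F (trivIrr G) + ∑ ζ ∈ T, (n ζ : ℂ) * F ζ := by
    intro F
    rw [← Finset.sum_filter_add_sum_filter_not Finset.univ (fun ζ => ζ = trivIrr G)]
    congr 1
    · rw [Finset.filter_eq' , if_pos (Finset.mem_univ _), Finset.sum_singleton, if_pos htrivB,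
        hntriv]
      push_cast; ring
    · rw [hT]
      rw [← Finset.sum_filter_add_sum_filter_not (Finset.univ.filter fun ζ => ¬ ζ = trivIrr G)
        (fun ζ => ζ ∈ principalBlock M G ∧ n ζ ≠ 0)]
      have hz : ∑ ζ ∈ (Finset.univ.filter fun ζ => ¬ ζ = trivIrr G).filter
          (fun ζ => ¬ (ζ ∈ principalBlock M G ∧ n ζ ≠ 0)),
          (if ζ ∈ principalBlock M G then (n ζ : ℂ) * F ζ else 0) = 0 := by
        apply Finset.sum_eq_zero
        intro ζ hζ
        rw [Finset.mem_filter] at hζ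
        split_ifs with hB
        · have : n ζ = 0 := by
            by_contra h0
            exact hζ.2 ⟨hB, h0⟩
          rw [this]; push_cast; ring
        · rfl
      rw [hz, add_zero, Finset.filter_filter]
      apply Finset.sum_congr
      · ext ζ
        simp only [Finset.mem_filter, Finset.mem_univ, true_and]
        tauto
      · intro ζ hζ
        rw [Finset.mem_filter] at hζ
        rw [if_pos hζ.2.1]
  have hT3 : ∑ ζ ∈ T, (n ζ) ^ 2 = 3 := by
    have h1 : ∑ ζ : IrrCharacter G, (if ζ ∈ principalBlock M G then (n ζ) ^ 2 else 0) =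
        1 + ∑ ζ ∈ T, (n ζ) ^ 2 := by
      have := hsplit (fun ζ => (n ζ : ℂ))
      have h2 : (∑ ζ : IrrCharacter G, (if ζ ∈ principalBlock M G then ((n ζ : ℂ)) ^ 2 else 0)) =
          1 + ∑ ζ ∈ T, ((n ζ : ℂ)) ^ 2 := by
        have e1 : ∀ ζ : IrrCharacter G, (if ζ ∈ principalBlock M G then ((n ζ : ℂ)) ^ 2 else 0) =
            (if ζ ∈ principalBlock M G then (n ζ : ℂ) * (n ζ : ℂ) else 0) := by
          intro ζ; split_ifs
          · ring
          · rfl
        rw [Finset.sum_congr rfl (fun ζ _ => e1 ζ), this, hntriv]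
        push_cast
        congr 1
        refine Finset.sum_congr rfl fun ζ _ => ?_
        ring
      exact_mod_cast h2
    rw [hZ] at h1
    omega
  obtain ⟨hcard, hpm⟩ := three_squares T n (fun ζ hζ => by
    rw [hT, Finset.mem_filter] at hζ; exact hζ.2.2.1) hT3
  obtain ⟨χ1, χ2, χ3, h12, h13, h23, hT'⟩ := Finset.card_eq_three.mp hcard
  have hmem1 : χ1 ∈ T := by rw [hT']; simp
  have hmem2 : χ2 ∈ T := by rw [hT']; simp
  have hmem3 : χ3 ∈ T := by rw [hT']; simp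
  have hsplit3 : ∀ F : IrrCharacter G → ℂ,
      ∑ ζ : IrrCharacter G, (if ζ ∈ principalBlock M G then (n ζ : ℂ) * F ζ else 0) =
        F (trivIrr G) + (n χ1 : ℂ) * F χ1 + (n χ2 : ℂ) * F χ2 + (n χ3 : ℂ) * F χ3 := by
    intro F
    rw [hsplit F, hT', Finset.sum_insert, Finset.sum_insert, Finset.sum_singleton]
    · ring
    · simp only [Finset.mem_singleton]; exact h23
    · simp only [Finset.mem_insert, Finset.mem_singleton]
      rintro (h | h)
      · exact h12 h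
      · exact h13 h
  -- the column relation in general form
  have hconjn : ∀ ζ : IrrCharacter G, (starRingEnd ℂ) ((ζ : G → ℂ) x) = (n ζ : ℂ) := by
    intro ζ; rw [hn ζ, map_intCast]
  have hcol : ∀ (u : G), (∃ k : ℕ, orderOf u = 2 ^ k) →
      (∀ c : G, u * c = c * u → ¬ 2 ∣ orderOf c → ¬ IsConj x (u * c)) →
      ∀ y : G, u * y = y * u → ¬ 2 ∣ orderOf y →
      1 + (n χ1 : ℂ) * (χ1 : G → ℂ) (u * y) + (n χ2 : ℂ) * (χ2 : G → ℂ) (u * y) +
        (n χ3 : ℂ) * (χ3 : G → ℂ) (u * y) = 0 := by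
    intro u hu hnc y hyu hy
    have key := theta_vanish hM x u hu hnc y hyu hy
    simp_rw [hconjn] at key
    rw [hsplit3 (fun ζ => (ζ : G → ℂ) (u * y)), trivIrr_apply] at key
    exact key
  -- odd order elements
  have hoddcol : ∀ y : G, Odd (orderOf y) →
      1 + (n χ1 : ℂ) * (χ1 : G → ℂ) y + (n χ2 : ℂ) * (χ2 : G → ℂ) y +
        (n χ3 : ℂ) * (χ3 : G → ℂ) y = 0 := by
    intro y hy
    have hy2 : ¬ 2 ∣ orderOf y := by
      rw [← even_iff_two_dvd, Nat.not_even_iff_odd]; exact hy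
    have := hcol 1 ⟨0, by simp⟩ (by
      intro c _ hc hconj
      rw [one_mul] at hconj
      have h1 : orderOf x = orderOf c := by
        obtain ⟨g, hg⟩ := isConj_iff.mp hconj
        rw [← hg, orderOf_conj4]
      rw [hx4] at h1
      apply hc
      rw [← h1]; norm_num) y (by simp) hy2
    simpa using this
  -- R1
  have R1 : 1 + (n χ1 : ℂ) * (a χ1 : ℂ) + (n χ2 : ℂ) * (a χ2 : ℂ) + (n χ3 : ℂ) * (a χ3 : ℂ) = 0 := by
    have := hoddcol 1 (by simp)
    rw [ha χ1, ha χ2, ha χ3] at this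
    exact this
  -- R2
  have R2 : 1 + (n χ1 : ℂ) * ((a χ1 : ℂ) - 4 * (e χ1 : ℂ)) +
      (n χ2 : ℂ) * ((a χ2 : ℂ) - 4 * (e χ2 : ℂ)) +
      (n χ3 : ℂ) * ((a χ3 : ℂ) - 4 * (e χ3 : ℂ)) = 0 := by
    have := hcol t ⟨1, by rw [ht2, pow_one]⟩ (by
      intro c hct hc hconj
      have h1 : orderOf (t * c) = 4 := by
        obtain ⟨g, hg⟩ := isConj_iff.mp hconj
        rw [← hg, orderOf_conj4, hx4]
      have h2 : (t * c) ^ 4 = 1 := by rw [← h1]; exact pow_orderOf_eq_one _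
      have hcomm : Commute t c := hct
      rw [hcomm.mul_pow] at h2
      have h3 : t ^ 4 = 1 := by
        have : t ^ 4 = (t * t) * (t * t) := by
          rw [← pow_two, ← pow_two, ← pow_mul]
        rw [this, htt, one_mul]
      rw [h3, one_mul] at h2
      have h4 : orderOf c ∣ 4 := orderOf_dvd_of_pow_eq_one h2
      have h5 : orderOf c = 1 := by
        have h6 : orderOf c ∣ 2 ^ 2 := by norm_num; exact h4
        obtain ⟨k, _, hk⟩ := (Nat.dvd_prime_pow Nat.prime_two).mp h6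
        rcases k with _ | k
        · simpa using hk
        · exfalso; apply hc; rw [hk, pow_succ]; exact dvd_mul_left 2 _
      rw [orderOf_eq_one_iff] at h5
      rw [h5, mul_one, ht2] at h1
      omega) 1 (by simp) (by rw [orderOf_one]; norm_num)
    rw [mul_one, he χ1, he χ2, he χ3] at this
    exact this
  -- R3
  have R3 : 1 + (n χ1 : ℂ) * ((a χ1 : ℂ) - 4 * (e χ1 : ℂ)) ^ 2 / (a χ1 : ℂ) +
      (n χ2 : ℂ) * ((a χ2 : ℂ) - 4 * (e χ2 : ℂ)) ^ 2 / (a χ2 : ℂ) +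
      (n χ3 : ℂ) * ((a χ3 : ℂ) - 4 * (e χ3 : ℂ)) ^ 2 / (a χ3 : ℂ) = 0 := by
    have h0 : ∑ g : G, (1 + (n χ1 : ℂ) * (χ1 : G → ℂ) (t * (g * t * g⁻¹)) +
        (n χ2 : ℂ) * (χ2 : G → ℂ) (t * (g * t * g⁻¹)) +
        (n χ3 : ℂ) * (χ3 : G → ℂ) (t * (g * t * g⁻¹))) = 0 := by
      apply Finset.sum_eq_zero
      intro g _
      exact hoddcol _ (hodd g)
    rw [Finset.sum_add_distrib, Finset.sum_add_distrib, Finset.sum_add_distrib,
      ← Finset.mul_sum, ← Finset.mul_sum, ← Finset.mul_sum,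
      sum_char_mul_conj χ1 t t, sum_char_mul_conj χ2 t t, sum_char_mul_conj χ3 t t,
      Finset.sum_const, Finset.card_univ, nsmul_eq_mul, mul_one,
      he χ1, he χ2, he χ3, ha χ1, ha χ2, ha χ3] at h0
    have hG : (Fintype.card G : ℂ) ≠ 0 := by exact_mod_cast Fintype.card_ne_zero
    have : (Fintype.card G : ℂ) * (1 + (n χ1 : ℂ) * ((a χ1 : ℂ) - 4 * (e χ1 : ℂ)) ^ 2 / (a χ1 : ℂ) +
      (n χ2 : ℂ) * ((a χ2 : ℂ) - 4 * (e χ2 : ℂ)) ^ 2 / (a χ2 : ℂ) +
      (n χ3 : ℂ) * ((a χ3 : ℂ) - 4 * (e χ3 : ℂ)) ^ 2 / (a χ3 : ℂ)) = 0 := by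
      rw [← h0]; ring
    rcases mul_eq_zero.mp this with h | h
    · exact absurd h hG
    · exact h
  -- R4
  have R4 : ∀ χ : IrrCharacter G, ((a χ : ℤ) - 2 * (e χ : ℤ) - n χ) % 4 = 0 := by
    intro χ
    have hres : IsCharacter S (fun s : S => (χ : G → ℂ) s) :=
      Cfsg.Agent.Helper8.isCharacter_restrict S (IsIrrCharacter.isCharacter χ.2)
    haveI : Fintype (IrrCharacter S) := Fintype.ofFinite _
    obtain ⟨k, hk⟩ := IsCharacter.classInner_nat hres (isCharacter_const_one (G := S))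
    unfold classInner at hk
    have hs := sum_subgroup_eight S x t htS ht1 hS8 hS (χ : G → ℂ) (isClassFunction_irr χ)
    have hs' : ∑ g : S, (χ : G → ℂ) g * (starRingEnd ℂ) (1 : ℂ) =
        (χ : G → ℂ) 1 + (χ : G → ℂ) t + 6 * (χ : G → ℂ) x := by
      rw [← hs]
      refine Finset.sum_congr rfl fun s _ => ?_
      rw [map_one, mul_one]
    rw [hs', hS8, ha χ, he χ, hn χ] at hk
    have h8 : ((a χ : ℂ) + ((a χ : ℂ) - 4 * (e χ : ℂ)) + 6 * (n χ : ℂ)) = 8 * (k : ℂ) := by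
      have h8' : ((8 : ℕ) : ℂ) ≠ 0 := by norm_num
      field_simp at hk
      push_cast at hk
      linear_combination hk
    have h8z : (a χ : ℤ) + ((a χ : ℤ) - 4 * (e χ : ℤ)) + 6 * n χ = 8 * (k : ℤ) := by
      exact_mod_cast h8
    omega
  -- apply the numerical lemma
  have N1 : 1 + n χ1 * (a χ1 : ℤ) + n χ2 * (a χ2 : ℤ) + n χ3 * (a χ3 : ℤ) = 0 := by
    exact_mod_cast R1
  have N2 : 1 + n χ1 * ((a χ1 : ℤ) - 4 * (e χ1 : ℤ)) + n χ2 * ((a χ2 : ℤ) - 4 * (e χ2 : ℤ)) +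
      n χ3 * ((a χ3 : ℤ) - 4 * (e χ3 : ℤ)) = 0 := by
    exact_mod_cast R2
  have N3 : (a χ1 : ℤ) * (a χ2 : ℤ) * (a χ3 : ℤ) +
      n χ1 * ((a χ1 : ℤ) - 4 * (e χ1 : ℤ)) ^ 2 * (a χ2 : ℤ) * (a χ3 : ℤ) +
      n χ2 * ((a χ2 : ℤ) - 4 * (e χ2 : ℤ)) ^ 2 * (a χ1 : ℤ) * (a χ3 : ℤ) +
      n χ3 * ((a χ3 : ℤ) - 4 * (e χ3 : ℤ)) ^ 2 * (a χ1 : ℤ) * (a χ2 : ℤ) = 0 := by
    have h1 : (a χ1 : ℂ) ≠ 0 := by exact_mod_cast (hapos χ1).ne'
    have h2 : (a χ2 : ℂ) ≠ 0 := by exact_mod_cast (hapos χ2).ne'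
    have h3 : (a χ3 : ℂ) ≠ 0 := by exact_mod_cast (hapos χ3).ne'
    have : ((a χ1 : ℂ) * (a χ2 : ℂ) * (a χ3 : ℂ) +
      (n χ1 : ℂ) * ((a χ1 : ℂ) - 4 * (e χ1 : ℂ)) ^ 2 * (a χ2 : ℂ) * (a χ3 : ℂ) +
      (n χ2 : ℂ) * ((a χ2 : ℂ) - 4 * (e χ2 : ℂ)) ^ 2 * (a χ1 : ℂ) * (a χ3 : ℂ) +
      (n χ3 : ℂ) * ((a χ3 : ℂ) - 4 * (e χ3 : ℂ)) ^ 2 * (a χ1 : ℂ) * (a χ2 : ℂ)) = 0 := by
      have := congrArg (fun z => z * ((a χ1 : ℂ) * (a χ2 : ℂ) * (a χ3 : ℂ))) R3
      simp only [zero_mul] at this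
      rw [← this]
      field_simp
    exact_mod_cast this
  have hres := numeric (n χ1) (n χ2) (n χ3) (a χ1) (a χ2) (a χ3) (e χ1) (e χ2) (e χ3)
    (hpm χ1 hmem1) (hpm χ2 hmem2) (hpm χ3 hmem3)
    (by exact_mod_cast hapos χ1) (by exact_mod_cast hapos χ2) (by exact_mod_cast hapos χ3)
    (by positivity) (by positivity) (by positivity) N1 N2 N3 (R4 χ1) (R4 χ2) (R4 χ3)
  have hfin : ∀ χ ∈ T, (e χ : ℤ) = 0 → χ ≠ trivIrr G ∧ (χ : G → ℂ) t = (χ : G → ℂ) 1 := by
    intro χ hχ h0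
    rw [hT, Finset.mem_filter] at hχ
    refine ⟨hχ.2.2.2, ?_⟩
    rw [he χ, ha χ]
    have : (e χ : ℂ) = 0 := by exact_mod_cast h0
    rw [this]; ring
  rcases hres with h | h | h
  · exact ⟨χ1, hfin χ1 hmem1 h⟩
  · exact ⟨χ2, hfin χ2 hmem2 h⟩
  · exact ⟨χ3, hfin χ3 hmem3 h⟩

end Cfsg.Agent.Helper18.BS
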