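import Mathlib
import Cfsg.Prelude.Def_TwoFusion
import Cfsg.Prelude.Def_Solvable
import Cfsg.Agent.Helper8.QuatInvol
import Cfsg.Agent.Helper8.QuatExc6
import Cfsg.Agent.Helper9.Q8Sylow
import Cfsg.Agent.Helper7.PPrimeCore
import Cfsg.Agent.S0950

/-!
# Group theory for the Brauer–Suzuki theorem with quaternion Sylow 2-subgroups of order 8
-/

set_option autoImplicit false

namespace Cfsg.Agent.Helper18.BS

open Cfsg Cfsg.Agent.Helper9 Cfsg.Agent.Helper8.QuatInvol

universe u

theorem q8_conj_inv : ∀ z : QuaternionGroup 2, ∃ w : QuaternionGroup 2, w * z * w⁻¹ = z⁻¹ := by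
  decide

theorem q8_center : ∀ z : QuaternionGroup 2, (∀ w : QuaternionGroup 2, w * z = z * w) →
    z ^ 2 = 1 := by
  decide

section

variable {G : Type u} [Group G] [Finite G] (S : Sylow 2 G)
  (e : (S : Subgroup G) ≃* QuaternionGroup 2)

include e

theorem conj_inv_of_mem {x : G} (hx : x ∈ (S : Subgroup G)) : IsConj x x⁻¹ := by
  obtain ⟨w, hw⟩ := q8_conj_inv (e ⟨x, hx⟩)
  rw [isConj_iff]
  refine ⟨((e.symm w : (S : Subgroup G)) : G), ?_⟩
  have h1 : e (e.symm w * ⟨x, hx⟩ * (e.symm w)⁻¹) = e (⟨x, hx⟩⁻¹) := by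
    rw [map_mul, map_mul, map_inv, map_inv, MulEquiv.apply_symm_apply]
    exact hw
  have h2 := e.injective h1
  have h3 := congrArg Subtype.val h2
  simpa using h3

theorem exists_not_commute {x : G} (hx : x ∈ (S : Subgroup G)) (hx2 : x ^ 2 ≠ 1) :
    ∃ s ∈ (S : Subgroup G), s * x ≠ x * s := by
  by_contra hcon
  push Not at hcon
  apply hx2
  have h1 := q8_center (e ⟨x, hx⟩) (by
    intro w
    have := hcon (e.symm w : (S : Subgroup G)) (e.symm w).2
    have h2 : e.symm w * ⟨x, hx⟩ = ⟨x, hx⟩ * e.symm w := Subtype.ext this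
    have h3 := congrArg e h2
    rw [map_mul, map_mul, MulEquiv.apply_symm_apply] at h3
    exact h3)
  rw [← map_pow, EmbeddingLike.map_eq_one_iff] at h1
  have := congrArg Subtype.val h1
  simpa using this

/-- The involution of `S` is isolated in `G`. -/
theorem isolated_of_mem {t : G} (ht2 : orderOf t = 2) : Cfsg.IsIsolatedInvolution t := by
  refine ⟨ht2, ?_⟩
  intro g hcomm
  have h1 : orderOf (g * t * g⁻¹) = 2 := by
    have := MulEquiv.orderOf_eq (MulAut.conj g) t
    rw [MulAut.conj_apply] at this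
    rw [this, ht2]
  exact (eq_of_commute S 2 e ht2 h1 hcomm.eq).symm

/-- Elements of `S`: `1`, the involution, or of order 4. -/
theorem mem_cases {t : G} (htS : t ∈ (S : Subgroup G)) (ht2 : orderOf t = 2) {s : G}
    (hs : s ∈ (S : Subgroup G)) : s = 1 ∨ s = t ∨ orderOf s = 4 := by
  by_cases h1 : s = 1
  · left; exact h1
  by_cases h2 : s ^ 2 = 1
  · right; left
    have ht : t ^ 2 = 1 := by rw [← ht2]; exact pow_orderOf_eq_one t
    have ht1 : t ≠ 1 := by
      intro h; rw [h, orderOf_one] at ht2; omega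
    exact q8sub_invol_unique (S : Subgroup G) e hs htS h2 ht h1 ht1
  · right; right
    exact q8sub_orderOf_eq_four (S : Subgroup G) e hs h2

/-- The square of an element of order 4 of `S` is the involution. -/
theorem sq_eq {t : G} (htS : t ∈ (S : Subgroup G)) (ht2 : orderOf t = 2) {x : G}
    (hx : x ∈ (S : Subgroup G)) (hx4 : orderOf x = 4) : x ^ 2 = t := by
  have h1 : orderOf (x ^ 2) = 2 := by
    rw [orderOf_pow' x (by norm_num), hx4]; rfl
  exact eq_of_orderOf_eq_two_of_mem S 2 e ((S : Subgroup G).pow_mem hx 2) htS h1 ht2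

/-- If `S` has no normal complement, all elements of order 4 of `S` are conjugate in `G`. -/
theorem all_conj (hnc : ∀ N : Subgroup G, N.Normal → ¬ Subgroup.IsComplement' N (S : Subgroup G))
    {x s : G} (hx : x ∈ (S : Subgroup G)) (hx4 : orderOf x = 4)
    (hs : s ∈ (S : Subgroup G)) (hs4 : orderOf s = 4) : IsConj x s := by
  have hA4 : Nat.card (Subgroup.zpowers x) = 4 := by rw [Nat.card_zpowers, hx4]
  have hB4 : Nat.card (Subgroup.zpowers s) = 4 := by rw [Nat.card_zpowers, hs4]
  obtain ⟨n, _, hn⟩ := Cfsg.Agent.S0950.result S e hnc (Subgroup.zpowers x) (Subgroup.zpowers s)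
    (Subgroup.zpowers_le.mpr hx) (Subgroup.zpowers_le.mpr hs) hA4 hB4
  have hsB : s ∈ (Subgroup.zpowers x).map (MulAut.conj n).toMonoidHom := by
    rw [← hn]; exact Subgroup.mem_zpowers s
  obtain ⟨a, ha, has⟩ := hsB
  have has' : n * a * n⁻¹ = s := by
    simpa [MulAut.conj_apply] using has
  have hoa : orderOf a = 4 := by
    have := MulEquiv.orderOf_eq (MulAut.conj n) a
    rw [MulAut.conj_apply, has', hs4] at this
    exact this.symm
  obtain ⟨k, hk⟩ := Subgroup.mem_zpowers_iff.mp ha
  have hk' : x ^ (k % 4) = a := by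
    have := zpow_mod_orderOf x k
    rw [hx4] at this
    rw [← hk]; exact_mod_cast this
  have hx4' : x ^ 4 = 1 := by rw [← hx4]; exact pow_orderOf_eq_one x
  have hcases : k % 4 = 0 ∨ k % 4 = 1 ∨ k % 4 = 2 ∨ k % 4 = 3 := by omega
  have hax : a = x ∨ a = x⁻¹ := by
    rcases hcases with h | h | h | h
    · exfalso
      rw [h, zpow_zero] at hk'
      rw [← hk', orderOf_one] at hoa; omega
    · left; rw [h, zpow_one] at hk'; exact hk'.symm
    · exfalso
      rw [h] at hk'
      have h2 : a ^ 2 = 1 := by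
        rw [← hk']
        have : (x ^ (2 : ℤ)) ^ 2 = x ^ 4 := by
          rw [← zpow_natCast, ← zpow_mul]; norm_num
        rw [this, hx4']
      have := orderOf_dvd_of_pow_eq_one h2
      rw [hoa] at this; omega
    · right
      rw [h] at hk'
      rw [← hk']
      have : x ^ (3 : ℤ) * x = 1 := by
        have : x ^ (3 : ℤ) * x = x ^ (4 : ℤ) := by
          rw [← zpow_add_one]; norm_num
        rw [this]; exact_mod_cast hx4'
      exact eq_inv_of_mul_eq_one_left this
  rcases hax with h | h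
  · rw [isConj_iff]; exact ⟨n, by rw [← h]; exact has'⟩
  · have h1 : IsConj x x⁻¹ := conj_inv_of_mem S e hx
    have h2 : IsConj x⁻¹ s := by
      rw [isConj_iff]; exact ⟨n, by rw [← h]; exact has'⟩
    exact h1.trans h2

end

end Cfsg.Agent.Helper18.BS
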