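import Mathlib
import Cfsg.Agent.Helper18.BSGroup1

/-!
# The centralizer of an element of order 4 (quaternion Sylow 2-subgroup of order 8)
-/

set_option autoImplicit false

namespace Cfsg.Agent.Helper18.BS

open Cfsg Cfsg.Agent.Helper9 Cfsg.Agent.Helper8.QuatInvol Cfsg.Agent.Helper7

universe u

variable {G : Type u} [Group G] [Finite G] (S : Sylow 2 G)
  (e : (S : Subgroup G) ≃* QuaternionGroup 2)

include e

theorem factorization_card_eq_three : (Nat.card G).factorization 2 = 3 := by
  haveI : Fact (Nat.Prime 2) := ⟨Nat.prime_two⟩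
  have h1 := S.card_eq_multiplicity
  rw [q8sub_card (S : Subgroup G) e] at h1
  have : (2 : ℕ) ^ 3 = 2 ^ (Nat.card G).factorization 2 := by rw [← h1]; norm_num
  exact (Nat.pow_right_injective (le_refl 2) this).symm

/-- The centralizer of an element of order 4 of `S`: its order has `2`-part `4` and the index
of its `2'`-core is a power of 2. -/
theorem centralizer_data {x : G} (hx : x ∈ (S : Subgroup G)) (hx4 : orderOf x = 4) :
    (Nat.card (Subgroup.centralizer ({x} : Set G))).factorization 2 = 2 ∧
      ∃ k : ℕ, (pPrimeCore 2 (Subgroup.centralizer ({x} : Set G))).index = 2 ^ k := by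
  classical
  haveI : Fact (Nat.Prime 2) := ⟨Nat.prime_two⟩
  set C : Subgroup G := Subgroup.centralizer ({x} : Set G) with hC
  have hmem : ∀ y : G, y ∈ C ↔ x * y = y * x := by
    intro y
    show y ∈ Subgroup.centralizer ({x} : Set G) ↔ _
    rw [Subgroup.mem_centralizer_iff]
    constructor
    · intro h; exact h x (Set.mem_singleton x)
    · intro h w hw
      rw [Set.mem_singleton_iff] at hw
      rw [hw]; exact h
  have hxC : x ∈ C := (hmem x).mpr rfl
  have hzC : Subgroup.zpowers x ≤ C := Subgroup.zpowers_le.mpr hxC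
  have hz4 : Nat.card (Subgroup.zpowers x) = 4 := by rw [Nat.card_zpowers, hx4]
  have hC0 : Nat.card C ≠ 0 := Nat.card_pos.ne'
  have hx2 : x ^ 2 ≠ 1 := by
    intro h
    have := orderOf_dvd_of_pow_eq_one h
    rw [hx4] at this; omega
  -- a Sylow subgroup of `C` containing `x`
  have hp : IsPGroup 2 ((Subgroup.zpowers x).subgroupOf C) := by
    have : IsPGroup 2 (Subgroup.zpowers x) := by
      apply IsPGroup.of_card (n := 2)
      rw [hz4]; norm_num
    exact this.comap_subtype
  obtain ⟨Q, hQ⟩ := hp.exists_le_sylow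
  have hxQ : (⟨x, hxC⟩ : C) ∈ (Q : Subgroup C) := by
    apply hQ
    rw [Subgroup.mem_subgroupOf]
    exact Subgroup.mem_zpowers x
  have hQcard := Q.card_eq_multiplicity
  -- `2`-part at least 4
  have h4 : 2 ≤ (Nat.card C).factorization 2 := by
    have h1 : 2 ^ 2 ∣ Nat.card C := by
      have := Subgroup.card_dvd_of_le hzC
      rw [hz4] at this
      exact this
    exact (Nat.Prime.pow_dvd_iff_le_factorization Nat.prime_two hC0).mp h1
  -- `2`-part at most 4
  have h8 : (Nat.card C).factorization 2 ≤ 2 := by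
    by_contra hcon
    push Not at hcon
    set Q' : Subgroup G := (Q : Subgroup C).map C.subtype with hQ'
    have hQ'card : Nat.card Q' = Nat.card (Q : Subgroup C) :=
      Subgroup.card_map_of_injective C.subtype_injective
    have hQ'p : IsPGroup 2 Q' := Q.2.map _
    obtain ⟨P, hP⟩ := hQ'p.exists_le_sylow
    have hPcard : Nat.card (P : Subgroup G) = 8 := by
      rw [P.card_eq_multiplicity, factorization_card_eq_three S e]; norm_num
    have hQ'8 : 8 ≤ Nat.card Q' := by
      rw [hQ'card, hQcard]
      calc 8 = 2 ^ 3 := by norm_num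
        _ ≤ 2 ^ (Nat.card C).factorization 2 := Nat.pow_le_pow_right (by norm_num) hcon
    have hQP : Q' = (P : Subgroup G) := by
      apply Subgroup.eq_of_le_of_card_ge hP
      rw [hPcard]; exact hQ'8
    obtain ⟨g, hg⟩ := MulAction.exists_smul_eq G S P
    -- `y = g⁻¹ x g` is a central element of order 4 of `S`
    have hxP : x ∈ (P : Subgroup G) := by
      rw [← hQP]
      exact ⟨⟨x, hxC⟩, hxQ, rfl⟩
    have hconjS : ∀ w : G, w ∈ (P : Subgroup G) ↔ g⁻¹ * w * g ∈ (S : Subgroup G) := by
      intro w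
      rw [← hg, Sylow.coe_subgroup_smul, Subgroup.mem_smul_pointwise_iff_exists]
      constructor
      · rintro ⟨s, hs, rfl⟩
        have : g⁻¹ * (MulAut.conj g • s) * g = s := by
          rw [MulAut.smul_def, MulAut.conj_apply]; group
        rw [this]; exact hs
      · intro h
        exact ⟨g⁻¹ * w * g, h, by rw [MulAut.smul_def, MulAut.conj_apply]; group⟩
    have hyS : g⁻¹ * x * g ∈ (S : Subgroup G) := (hconjS x).mp hxP
    have hy2 : (g⁻¹ * x * g) ^ 2 ≠ 1 := by
      intro h
      apply hx2
      have : (g⁻¹ * x * g) ^ 2 = g⁻¹ * x ^ 2 * g := by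
        rw [pow_two, pow_two]; group
      rw [this] at h
      have : x ^ 2 = g * (g⁻¹ * x ^ 2 * g) * g⁻¹ := by group
      rw [this, h]; group
    obtain ⟨s, hsS, hsne⟩ := exists_not_commute S e hyS hy2
    apply hsne
    have hsP : g * s * g⁻¹ ∈ (P : Subgroup G) := by
      rw [hconjS]
      have : g⁻¹ * (g * s * g⁻¹) * g = s := by group
      rw [this]; exact hsS
    have hsC : g * s * g⁻¹ ∈ C := by
      rw [← hQP] at hsP
      obtain ⟨c, _, hc⟩ := hsP
      rw [← hc]; exact c.2
    have hcomm := (hmem _).mp hsC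
    calc s * (g⁻¹ * x * g) = g⁻¹ * ((g * s * g⁻¹) * x) * g := by group
      _ = g⁻¹ * (x * (g * s * g⁻¹)) * g := by rw [hcomm]
      _ = g⁻¹ * x * g * s := by group
  have hfac : (Nat.card C).factorization 2 = 2 := le_antisymm h8 h4
  refine ⟨hfac, ?_⟩
  -- the Sylow subgroup `Q` is cyclic
  have hQ4 : Nat.card (Q : Subgroup C) = 4 := by rw [hQcard, hfac]; norm_num
  have hQeq : (Subgroup.zpowers x).subgroupOf C = (Q : Subgroup C) := by
    apply Subgroup.eq_of_le_of_card_ge hQ
    rw [hQ4, Nat.card_congr (Subgroup.subgroupOfEquivOfLe hzC).toEquiv, hz4]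
  have hQcyc : IsCyclic (Q : Subgroup C) := by
    rw [← hQeq]
    have e1 : (Subgroup.zpowers x).subgroupOf C ≃* Subgroup.zpowers x :=
      Subgroup.subgroupOfEquivOfLe hzC
    exact isCyclic_of_surjective e1.symm e1.symm.surjective
  have heven : 2 ∣ Nat.card C := by
    have := Subgroup.card_dvd_of_le hzC
    rw [hz4] at this
    exact dvd_trans (by norm_num) this
  have hmin : (Nat.card C).minFac = 2 := (Nat.minFac_eq_two_iff _).mpr heven
  have hcomp := IsCyclic.isComplement' hmin hQcyc
  set L := (MonoidHom.transferSylow Q (hQcyc.normalizer_le_centralizer hmin)).ker with hL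
  have hidx : (Q : Subgroup C).index = Nat.card L := hcomp.index_eq_card
  have hodd : Nat.Coprime (Nat.card L) 2 := by
    rw [← hidx, Nat.coprime_two_right, ← Nat.not_even_iff_odd, even_iff_two_dvd]
    exact Q.not_dvd_index
  have hLidx : L.index = Nat.card (Q : Subgroup C) := hcomp.symm.index_eq_card
  have hle : L ≤ pPrimeCore 2 C := le_pPrimeCore inferInstance hodd
  have hdvd : (pPrimeCore 2 C).index ∣ L.index := Subgroup.index_dvd_of_le hle
  rw [hLidx, hQ4] at hdvd
  have : (pPrimeCore 2 C).index ∣ 2 ^ 2 := by norm_num; exact hdvd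
  obtain ⟨k, _, hk⟩ := (Nat.dvd_prime_pow Nat.prime_two).mp this
  exact ⟨k, hk⟩

end Cfsg.Agent.Helper18.BS
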