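import Mathlib
import Cfsg.Agent.Helper18.BSGroup2
import Cfsg.Agent.Helper18.BSChar3
import Cfsg.Agent.Helper18.Isolated
import Cfsg.Agent.Helper9.Frobenius
import Cfsg.Agent.Helper5.CharKer
import Cfsg.Agent.Helper24.DefectZero

/-!
# The Brauer–Suzuki theorem for quaternion Sylow 2-subgroups of order 8
-/

set_option autoImplicit false

namespace Cfsg.Agent.Helper18.BS

open Cfsg Cfsg.Agent.Helper9 Cfsg.Agent.Helper8.QuatInvol Cfsg.Agent.Helper7
  Cfsg.Agent.Helper24 Cfsg.Agent.Helper5

universe u

/-- The statement proved by induction. -/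
def BSProp (H : Type u) [Group H] [Finite H] : Prop :=
  ∀ (S : Sylow 2 H), Nonempty ((S : Subgroup H) ≃* QuaternionGroup 2) →
    (∀ N : Subgroup H, N.Normal → Odd (Nat.card N) → N = ⊥) →
    ∃ t : H, orderOf t = 2 ∧ t ∈ Subgroup.center H

section

variable {G : Type u} [Group G] [Finite G] (S : Sylow 2 G)
  (e : (S : Subgroup G) ≃* QuaternionGroup 2)

include e

/-- If the involution `t` of `S` lies in a proper normal subgroup, it is central. -/
theorem central_of_normal (hO : ∀ N : Subgroup G, N.Normal → Odd (Nat.card N) → N = ⊥)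
    (ih : ∀ N : Subgroup G, N ≠ ⊤ → BSProp N)
    {t : G} (htS : t ∈ (S : Subgroup G)) (ht2 : orderOf t = 2)
    (N : Subgroup G) [hNn : N.Normal] (hN : N ≠ ⊤) (htN : t ∈ N) :
    t ∈ Subgroup.center G := by
  classical
  haveI : Fact (Nat.Prime 2) := ⟨Nat.prime_two⟩
  have hiso := isolated_of_mem S e ht2
  suffices h : ∀ n ∈ N, t * n = n * t by
    rw [Subgroup.mem_center_iff]
    intro g
    have h1 : g * t * g⁻¹ ∈ N := hNn.conj_mem t htN g
    have h2 := hiso.2 g (h _ h1)
    calc g * t = (g * t * g⁻¹) * g := by group
      _ = t * g := by rw [h2]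
  obtain ⟨PK, hPK⟩ := exists_sylow_of_normal S N
  by_cases hSN : (S : Subgroup G) ≤ N
  · -- `N` has a quaternion Sylow subgroup
    have hinf : (S : Subgroup G) ⊓ N = (S : Subgroup G) := inf_eq_left.mpr hSN
    have e1 : (PK : Subgroup N) ≃* ((S : Subgroup G).subgroupOf N) :=
      MulEquiv.subgroupCongr (by rw [hPK, hinf])
    have e2 : ((S : Subgroup G).subgroupOf N) ≃* (S : Subgroup G) :=
      Subgroup.subgroupOfEquivOfLe hSN
    have hO' : ∀ K : Subgroup N, K.Normal → Odd (Nat.card K) → K = ⊥ := by
      intro K hK hKodd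
      have hle : K ≤ pPrimeCore 2 N := le_pPrimeCore hK (Nat.coprime_two_right.mpr hKodd)
      have hn : ((pPrimeCore 2 N).map N.subtype).Normal :=
        ConjAct.normal_of_characteristic_of_normal
      have hodd : Odd (Nat.card ((pPrimeCore 2 N).map N.subtype)) := by
        rw [Subgroup.card_map_of_injective N.subtype_injective]
        exact Nat.coprime_two_right.mp (Cfsg.Agent.Helper19.pPrimeCore_coprime 2)
      have hbot := hO _ hn hodd
      have hbot' : pPrimeCore 2 N = ⊥ := by
        rw [← Subgroup.map_eq_bot_iff_of_injective _ N.subtype_injective]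
        exact hbot
      rw [hbot'] at hle
      exact le_bot_iff.mp hle
    obtain ⟨t', ht'2, ht'c⟩ := ih N hN PK ⟨e1.trans (e2.trans e)⟩ hO'
    have ht'2G : orderOf (t' : G) = 2 := by rw [Subgroup.orderOf_coe]; exact ht'2
    have hcomm : ∀ n : N, n * t' = t' * n := fun n => Subgroup.mem_center_iff.mp ht'c n
    have hc1 : t * (t' : G) = (t' : G) * t := by
      have := congrArg Subtype.val (hcomm ⟨t, htN⟩)
      simpa using this
    have heq : t = (t' : G) := eq_of_commute S 2 e ht2 ht'2G hc1
    intro n hn
    have := congrArg Subtype.val (hcomm ⟨n, hn⟩)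
    rw [heq]
    simpa using this.symm
  · -- `N` has a cyclic Sylow subgroup
    have hne : (S : Subgroup G) ⊓ N ≠ (S : Subgroup G) := by
      intro h; exact hSN (inf_eq_left.mp h)
    have hcyc0 : IsCyclic ((S : Subgroup G) ⊓ N : Subgroup G) :=
      q8sub_isCyclic_of_ne (S : Subgroup G) e _ inf_le_left hne
    have hcyc : IsCyclic (PK : Subgroup N) := by
      rw [hPK]
      have e1 : (((S : Subgroup G) ⊓ N).subgroupOf N) ≃* ((S : Subgroup G) ⊓ N : Subgroup G) :=
        Subgroup.subgroupOfEquivOfLe inf_le_right
      exact isCyclic_of_surjective e1.symm e1.symm.surjective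
    have heven : 2 ∣ Nat.card N := by
      have := Subgroup.orderOf_dvd_natCard N htN
      rwa [ht2] at this
    obtain ⟨L, hLn, hLodd, hLmem, hLcomm⟩ :=
      Cfsg.Agent.Helper8.QuatExc.exists_odd_normal_of_cyclic_sylow heven PK hcyc
    have hOn : (L.map N.subtype).Normal := by
      constructor
      rintro _ ⟨l, hl, rfl⟩ g
      have hmem : g * (l : G) * g⁻¹ ∈ N := hNn.conj_mem _ l.2 g
      refine ⟨⟨_, hmem⟩, ?_, rfl⟩
      apply hLmem
      rw [← Subgroup.orderOf_coe]
      show Odd (orderOf (g * (l : G) * g⁻¹))
      have h1 : orderOf (g * (l : G) * g⁻¹) = orderOf (l : G) := by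
        have := MulEquiv.orderOf_eq (MulAut.conj g) (l : G)
        rwa [MulAut.conj_apply] at this
      rw [h1, Subgroup.orderOf_coe]
      exact Odd.of_dvd_nat hLodd (Subgroup.orderOf_dvd_natCard L hl)
    have hOodd : Odd (Nat.card (L.map N.subtype)) := by
      rw [Subgroup.card_map_of_injective N.subtype_injective]
      exact hLodd
    have hObot := hO _ hOn hOodd
    have hLbot : L = ⊥ := by
      rw [← Subgroup.map_eq_bot_iff_of_injective L N.subtype_injective]
      exact hObot
    intro n hn
    have := hLcomm hLbot ⟨t, htN⟩ ⟨n, hn⟩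
    exact congrArg Subtype.val this

end

theorem q8_exists_four : ∃ z : QuaternionGroup 2, z ^ 2 ≠ 1 := by decide

/-- **Brauer–Suzuki for `Q₈`**, inductive form. -/
theorem bs8_main : ∀ (n : ℕ) (G : Type u) [Group G] [Finite G], Nat.card G = n → BSProp G := by
  intro n
  induction n using Nat.strong_induction_on with
  | _ n ih =>
    intro G _ _ hn S ⟨e⟩ hO
    classical
    haveI : Fact (Nat.Prime 2) := ⟨Nat.prime_two⟩
    obtain ⟨t, htS, ht2⟩ := exists_involution S 2 e
    refine ⟨t, ht2, ?_⟩
    have hiso := isolated_of_mem S e ht2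
    by_cases hnc : ∀ N : Subgroup G, N.Normal → ¬ Subgroup.IsComplement' N (S : Subgroup G)
    · -- the main case
      obtain ⟨z, hz⟩ := q8_exists_four
      set x : G := ((e.symm z : (S : Subgroup G)) : G) with hx
      have hxS : x ∈ (S : Subgroup G) := (e.symm z).2
      have hx2 : x ^ 2 ≠ 1 := by
        intro h
        apply hz
        have h1 : (e.symm z) ^ 2 = 1 := Subtype.ext (by simpa using h)
        have h2 := congrArg e h1
        rwa [map_pow, MulEquiv.apply_symm_apply, map_one] at h2
      have hx4 : orderOf x = 4 := q8sub_orderOf_eq_four (S : Subgroup G) e hxS hx2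
      have htx : t = x ^ 2 := (sq_eq S e htS ht2 hxS hx4).symm
      have hxinv := conj_inv_of_mem S e hxS
      obtain ⟨hfac, hidx⟩ := centralizer_data S e hxS hx4
      have hodd : ∀ g : G, Odd (orderOf (t * (g * t * g⁻¹))) :=
        fun g => Cfsg.Agent.Helper18.IsIsolated.odd_orderOf_mul hiso g
      have hS : ∀ s ∈ (S : Subgroup G), s = 1 ∨ s = t ∨ IsConj x s := by
        intro s hs
        rcases mem_cases S e htS ht2 hs with h | h | h
        · left; exact h
        · right; left; exact h
        · right; right; exact all_conj S e hnc hxS hx4 hs h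
      obtain ⟨M, hM⟩ := Cfsg.Agent.Helper24.exists_isPModular 2 Nat.prime_two
      haveI : Fintype G := Fintype.ofFinite G
      haveI : Fintype (IrrCharacter G) := Fintype.ofFinite _
      obtain ⟨χ, hχ1, hχt⟩ := exists_irr_kernel hM x t hx4 htx hxinv hidx hfac hodd
        (S : Subgroup G) htS (q8sub_card (S : Subgroup G) e) hS
      have hNtop : charKer χ ≠ ⊤ := by
        intro htop
        apply hχ1
        have hall : ∀ g : G, (χ : G → ℂ) g = (χ : G → ℂ) 1 := by
          intro g
          have : g ∈ charKer χ := by rw [htop]; trivial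
          exact (mem_charKer χ g).mp this
        have hnorm := classInner_irr_self χ
        unfold classInner at hnorm
        have hd := irrDeg_spec χ
        have hsum : ∑ g : G, (χ : G → ℂ) g * (starRingEnd ℂ) ((χ : G → ℂ) g) =
            (Nat.card G : ℂ) * ((irrDeg χ : ℂ) * (irrDeg χ : ℂ)) := by
          rw [Finset.sum_congr rfl (fun g _ => by rw [hall g, hd, Complex.conj_natCast])]
          rw [Finset.sum_const, Finset.card_univ, nsmul_eq_mul, Nat.card_eq_fintype_card]
        rw [hsum] at hnorm
        have hG : (Nat.card G : ℂ) ≠ 0 := by exact_mod_cast (Nat.card_pos (α := G)).ne'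
        rw [← mul_assoc, inv_mul_cancel₀ hG, one_mul] at hnorm
        have h1 : irrDeg χ * irrDeg χ = 1 := by exact_mod_cast hnorm
        have h2 : irrDeg χ = 1 := Nat.eq_one_of_mul_eq_one_left h1
        apply Subtype.ext
        funext g
        rw [hall g, hd, h2, trivIrr_apply]
        norm_num
      have htN : t ∈ charKer χ := (mem_charKer χ t).mpr hχt
      have ih' : ∀ N : Subgroup G, N ≠ ⊤ → BSProp N := by
        intro N hN
        have hlt : Nat.card N < n := by
          rw [← hn]
          apply lt_of_le_of_ne (Subgroup.card_le_card_group N)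
          intro he
          exact hN ((Subgroup.card_eq_iff_eq_top N).1 he)
        exact ih (Nat.card N) hlt N rfl
      exact central_of_normal S e hO ih' htS ht2 (charKer χ) hNtop htN
    · -- `S` has a normal complement, which must be trivial
      push Not at hnc
      obtain ⟨N, hNn, hcomp⟩ := hnc
      have hidx : (S : Subgroup G).index = Nat.card N := hcomp.index_eq_card
      have hodd : Odd (Nat.card N) := by
        rw [← hidx, ← Nat.not_even_iff_odd, even_iff_two_dvd]
        exact S.not_dvd_index
      have hbot := hO N hNn hodd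
      rw [hbot] at hcomp
      have htop : (S : Subgroup G) = ⊤ := Subgroup.isComplement'_bot_left.mp hcomp
      rw [Subgroup.mem_center_iff]
      intro g
      have hgS : g * t * g⁻¹ ∈ (S : Subgroup G) := by rw [htop]; trivial
      have h1 : orderOf (g * t * g⁻¹) = 2 := by
        have := MulEquiv.orderOf_eq (MulAut.conj g) t
        rw [MulAut.conj_apply] at this
        rw [this, ht2]
      have h2 := eq_of_orderOf_eq_two_of_mem S 2 e hgS htS h1 ht2
      calc g * t = (g * t * g⁻¹) * g := by group
        _ = t * g := by rw [h2]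

end Cfsg.Agent.Helper18.BS
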