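import Mathlib
import Cfsg.Agent.Helper18.BSGroup3

/-!
# Brauer–Suzuki for `Q₈`: the centre has order 2
-/

set_option autoImplicit false

namespace Cfsg.Agent.Helper18.BS

open Cfsg Cfsg.Agent.Helper9 Cfsg.Agent.Helper8.QuatInvol

universe u

/-- **Brauer–Suzuki theorem for a quaternion Sylow 2-subgroup of order 8.** -/
theorem card_center_eq_two_q8 {G : Type u} [Group G] [Finite G] (S : Sylow 2 G)
    (e : (S : Subgroup G) ≃* QuaternionGroup 2)
    (hO : ∀ N : Subgroup G, N.Normal → Odd (Nat.card N) → N = ⊥) :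
    Nat.card (Subgroup.center G) = 2 := by
  classical
  haveI : Fact (Nat.Prime 2) := ⟨Nat.prime_two⟩
  obtain ⟨z, hz, hzc⟩ := bs8_main (Nat.card G) G rfl S ⟨e⟩ hO
  have hz1 : z ≠ 1 := by
    intro h
    rw [h, orderOf_one] at hz
    omega
  have huniq : ∀ x : G, orderOf x = 2 → x = z := by
    intro x hx
    apply eq_of_commute S 2 e hx hz
    exact (Subgroup.mem_center_iff.mp hzc x)
  -- every central element is `1` or `z`
  have hcen : ∀ c ∈ Subgroup.center G, c = 1 ∨ c = z := by
    intro c hc
    have hcomm : ∀ g : G, g * c = c * g := fun g => Subgroup.mem_center_iff.mp hc g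
    -- the odd part of `c` is trivial
    obtain ⟨k, b, hb, hkb⟩ := Nat.exists_eq_two_pow_mul_odd (orderOf_pos c).ne'
    have hc' : c ^ 2 ^ k ∈ Subgroup.center G := Subgroup.pow_mem _ hc _
    have hord : orderOf (c ^ 2 ^ k) = b := by
      rw [orderOf_pow' c (by positivity), hkb]
      have : Nat.gcd (2 ^ k * b) (2 ^ k) = 2 ^ k := Nat.gcd_eq_right (Dvd.intro _ rfl)
      rw [this, Nat.mul_div_cancel_left _ (by positivity)]
    have hnorm : (Subgroup.zpowers (c ^ 2 ^ k)).Normal := by
      constructor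
      rintro _ ⟨j, rfl⟩ g
      refine ⟨j, ?_⟩
      have h1 : Commute g ((c ^ 2 ^ k) ^ j) :=
        Commute.zpow_right (Subgroup.mem_center_iff.mp hc' g) j
      show (c ^ 2 ^ k) ^ j = g * (c ^ 2 ^ k) ^ j * g⁻¹
      rw [h1.eq, mul_inv_cancel_right]
    have hbot := hO _ hnorm (by rw [Nat.card_zpowers, hord]; exact hb)
    have hb1 : b = 1 := by
      rw [← hord, orderOf_eq_one_iff]
      have : c ^ 2 ^ k ∈ Subgroup.zpowers (c ^ 2 ^ k) := Subgroup.mem_zpowers _
      rw [hbot] at this
      exact Subgroup.mem_bot.mp this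
    rw [hb1, mul_one] at hkb
    -- `c` lies in `S`
    have hp : IsPGroup 2 (Subgroup.zpowers c) := by
      apply IsPGroup.of_card (n := k)
      rw [Nat.card_zpowers, hkb]
    obtain ⟨P, hP⟩ := hp.exists_le_sylow
    obtain ⟨g, hg⟩ := MulAction.exists_smul_eq G P S
    have hcS : c ∈ (S : Subgroup G) := by
      rw [← hg, Sylow.coe_subgroup_smul, Subgroup.mem_smul_pointwise_iff_exists]
      refine ⟨c, hP (Subgroup.mem_zpowers c), ?_⟩
      simp only [MulAut.smul_def, MulAut.conj_apply]
      rw [hcomm g, mul_inv_cancel_right]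
    have hsq : c ^ 2 = 1 := by
      by_contra hne
      obtain ⟨s, _, hs⟩ := exists_not_commute S e hcS hne
      exact hs (hcomm s)
    by_cases hc1 : c = 1
    · left; exact hc1
    · right
      exact huniq c (orderOf_eq_prime hsq hc1)
  -- count
  have hset : ((Subgroup.center G : Subgroup G) : Set G) = {1, z} := by
    ext c
    constructor
    · intro hc
      rcases hcen c hc with h | h
      · rw [h]; exact Set.mem_insert _ _
      · rw [h]; exact Set.mem_insert_of_mem _ rfl
    · rintro (h | h)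
      · rw [h]; exact Subgroup.one_mem _
      · rw [Set.mem_singleton_iff.mp h]; exact hzc
  have : Nat.card (Subgroup.center G) = Nat.card (({1, z} : Set G)) := by
    rw [← hset]
    rfl
  rw [this, Nat.card_coe_set_eq, Set.ncard_pair (Ne.symm hz1)]

end Cfsg.Agent.Helper18.BS
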