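import Mathlib
import Cfsg.Agent.Helper18.ZStar1
import Cfsg.Agent.Helper8.TwoRankOne
import Cfsg.Agent.Helper7.PPrimeCore
import Cfsg.Agent.S0201

/-!
# Glauberman's Z*-theorem: the case of 2-rank one in a minimal counterexample
-/

set_option autoImplicit false

namespace Cfsg.Agent.Helper18.ZS

open Cfsg Cfsg.Agent.Helper6 Cfsg.Agent.Helper15
open scoped Pointwise

universe u

variable {G : Type u} [Group G]

/-- In a minimal counterexample there is an involution `u ≠ t` commuting with `t`. -/
theorem exists_invol_commute [Finite G] {t : G} (h : ZStarMinCE 2 t) :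
    ∃ u : G, orderOf u = 2 ∧ Commute u t ∧ u ≠ t := by
  have : Fact (Nat.Prime 2) := ⟨Nat.prime_two⟩
  by_contra hno
  push Not at hno
  have ht2 : orderOf t = 2 := h.hx
  -- no Klein four subgroups
  have hrank : ∀ E : Subgroup G, ¬ IsKleinFour E := by
    intro E hE
    have hEp : IsPGroup 2 E := by
      apply IsPGroup.of_card (n := 2)
      rw [hE.card_four]; norm_num
    obtain ⟨Q, hQ⟩ := hEp.exists_le_sylow
    obtain ⟨S, htS, hS⟩ := exists_sylow_of_isolated h.hx h.hiso
    obtain ⟨g, hg⟩ := MulAction.exists_smul_eq G Q S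
    -- E conjugated into S
    have hmem : ∀ x ∈ E, g * x * g⁻¹ ∈ S := by
      intro x hx
      have h5 : MulAut.conj g • x ∈ MulAut.conj g • (Q : Subgroup G) :=
        Subgroup.smul_mem_pointwise_smul x (MulAut.conj g) Q (hQ hx)
      rw [← Sylow.coe_subgroup_smul, hg] at h5
      rw [MulAut.smul_def, MulAut.conj_apply] at h5
      exact h5
    have hcent := le_centralizer_of_isolated h.hiso S.isPGroup' htS
    -- an element of E outside {1, g⁻¹ t g}
    have hex : ∃ a ∈ E, a ≠ 1 ∧ g * a * g⁻¹ ≠ t := by
      by_contra hcon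
      push Not at hcon
      have hsub : (E : Set G) ⊆ {1, g⁻¹ * t * g} := by
        intro a ha
        by_cases ha1 : a = 1
        · left; exact ha1
        · right
          have := hcon a ha ha1
          rw [Set.mem_singleton_iff, ← this]; group
      have hfin : ({1, g⁻¹ * t * g} : Set G).Finite := Set.toFinite _
      have hle := Set.ncard_le_ncard hsub hfin
      have h2 : ({1, g⁻¹ * t * g} : Set G).ncard ≤ 2 := by
        calc ({1, g⁻¹ * t * g} : Set G).ncard ≤ ({g⁻¹ * t * g} : Set G).ncard + 1 :=
              Set.ncard_insert_le _ _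
          _ = 2 := by rw [Set.ncard_singleton]
      have h4 : (E : Set G).ncard = 4 := by
        rw [← hE.card_four]; rfl
      omega
    obtain ⟨a, haE, ha1, hat⟩ := hex
    have ha2 : orderOf a = 2 := by
      apply orderOf_eq_prime _ ha1
      have h1 : (⟨a, haE⟩ : E) ^ 2 = 1 := by
        rw [← hE.exponent_two]; exact Monoid.pow_exponent_eq_one _
      exact congrArg Subtype.val h1
    have hb2 : orderOf (g * a * g⁻¹) = 2 := by rw [orderOf_conj_eq, ha2]
    have hbc : Commute (g * a * g⁻¹) t :=
      Subgroup.mem_centralizer_singleton_iff.mp (hcent (hmem a haE))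
    exact hat (hno _ hb2 hbc)
  have heven : Even (Nat.card G) := by
    rw [even_iff_two_dvd, ← ht2]
    exact orderOf_dvd_natCard t
  obtain ⟨z, hz2, N, hNn, hNodd, hN⟩ := Cfsg.Agent.Helper8.TwoRankOne.main
    (fun H _ _ S n e hO => Cfsg.Agent.S0201.result S n e hO) heven hrank
  have hNle : N ≤ pPrimeCore 2 G :=
    Cfsg.Agent.Helper7.le_pPrimeCore hNn (Nat.coprime_two_right.mpr hNodd)
  rw [h.pPrimeCore_eq_bot] at hNle
  have hzc : z ∈ Subgroup.center G := by
    rw [Subgroup.mem_center_iff]
    intro a
    have h3 := hNle (hN a)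
    rw [Subgroup.mem_bot] at h3
    calc a * z = (z * a * z⁻¹ * a⁻¹)⁻¹ * (z * a) := by group
      _ = z * a := by rw [h3, inv_one, one_mul]
  rw [h.center_eq_bot, Subgroup.mem_bot] at hzc
  rw [hzc, orderOf_one] at hz2
  omega

end Cfsg.Agent.Helper18.ZS
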