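import Mathlib
import Cfsg.Agent.Helper18.ZStar2
import Cfsg.Agent.Helper18.ZStar3
import Cfsg.Agent.Helper18.BSChar2
import Cfsg.Agent.Helper5.CharKer
import Cfsg.Agent.Helper24.DefectZero
import Cfsg.Agent.S0942
import Cfsg.Agent.S0943

/-!
# Glauberman's Z*-theorem: the character-theoretic contradiction
-/

set_option autoImplicit false

namespace Cfsg.Agent.Helper18.ZS

open Cfsg Cfsg.Agent.Helper6 Cfsg.Agent.Helper15 Cfsg.Agent.Helper24 Cfsg.Agent.Helper5
  Cfsg.Agent.Helper5.CC

universe u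

variable {G : Type u} [Group G]

/-- An irreducible character whose kernel is everything is the trivial character. -/
theorem eq_trivIrr_of_charKer_eq_top [Finite G] (χ : IrrCharacter G) (htop : charKer χ = ⊤) :
    χ = trivIrr G := by
  haveI : Fintype G := Fintype.ofFinite G
  have hall : ∀ g : G, (χ : G → ℂ) g = (χ : G → ℂ) 1 := by
    intro g
    have : g ∈ charKer χ := by rw [htop]; trivial
    exact (mem_charKer χ g).mp this
  have hnorm := classInner_irr_self χ
  unfold classInner at hnorm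
  have hd := irrDeg_spec χ
  have hsum : ∑ g : G, (χ : G → ℂ) g * (starRingEnd ℂ) ((χ : G → ℂ) g) =
      (Nat.card G : ℂ) * ((irrDeg χ : ℂ) * (irrDeg χ : ℂ)) := by
    rw [Finset.sum_congr rfl (fun g _ => by rw [hall g, hd, Complex.conj_natCast])]
    rw [Finset.sum_const, Finset.card_univ, nsmul_eq_mul, Nat.card_eq_fintype_card]
  rw [hsum] at hnorm
  have hG : (Nat.card G : ℂ) ≠ 0 := by exact_mod_cast (Nat.card_pos (α := G)).ne'
  rw [← mul_assoc, inv_mul_cancel₀ hG, one_mul] at hnorm
  have h1 : irrDeg χ * irrDeg χ = 1 := by exact_mod_cast hnorm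
  have h2 : irrDeg χ = 1 := Nat.eq_one_of_mul_eq_one_left h1
  apply Subtype.ext
  funext g
  rw [hall g, hd, h2, trivIrr_apply]
  norm_num

/-- The key identity `χ(t) χ(u) = χ(1) χ(tu)` for principal block characters. -/
theorem key_identity [Finite G] {t : G} (h : ZStarMinCE 2 t) {M : Ideal AlgInt}
    (hM : IsPModular 2 M) (u : G) (hu : orderOf u = 2) (hut : Commute u t) (hne : u ≠ t)
    (χ : IrrCharacter G) (hχ : χ ∈ principalBlock M G) :
    (χ : G → ℂ) t * (χ : G → ℂ) u = (χ : G → ℂ) 1 * (χ : G → ℂ) (t * u) := by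
  have : Fact (Nat.Prime 2) := ⟨Nat.prime_two⟩
  apply Cfsg.Agent.S0943.result χ t u
  intro x y hx hy
  obtain ⟨a, ha⟩ := isConj_iff.mp hx
  obtain ⟨b, hb⟩ := isConj_iff.mp hy
  have hcf := isClassFunction_irr χ
  have h1 : x * y = a * (t * ((a⁻¹ * b) * u * (a⁻¹ * b)⁻¹)) * a⁻¹ := by
    rw [← ha, ← hb]; group
  rw [h1, hcf]
  obtain ⟨z, ρ, c, hzρ, hz2, hρ, hc⟩ := key_conj h u hu hut hne (a⁻¹ * b)
  rw [hzρ, Cfsg.Agent.S0942.result 2 M hM z ⟨1, by rw [hz2, pow_one]⟩ ρ hρ χ hχ, ← hc, hcf]

/-- The final contradiction. -/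
theorem final [Finite G] {t : G} (h : ZStarMinCE 2 t) (u : G) (hu : orderOf u = 2)
    (hut : Commute u t) (hne : u ≠ t) : False := by
  classical
  have : Fact (Nat.Prime 2) := ⟨Nat.prime_two⟩
  obtain ⟨M, hM⟩ := exists_isPModular 2 Nat.prime_two
  haveI : Fintype G := Fintype.ofFinite G
  haveI : Fintype (IrrCharacter G) := Fintype.ofFinite _
  have ht2 : orderOf t = 2 := h.hx
  have htt : t * t = 1 := by rw [← pow_two, ← ht2, pow_orderOf_eq_one]
  have huu : u * u = 1 := by rw [← pow_two, ← hu, pow_orderOf_eq_one]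
  have hu1 : u ≠ 1 := by
    intro h1; rw [h1, orderOf_one] at hu; omega
  -- the involution v = t u
  set v := t * u with hv
  have hvv : v * v = 1 := by
    rw [hv]
    calc t * u * (t * u) = t * (u * t) * u := by group
      _ = t * (t * u) * u := by rw [hut.eq]
      _ = (t * t) * (u * u) := by group
      _ = 1 := by rw [htt, huu, one_mul]
  have hv1 : v ≠ 1 := by
    intro h1
    apply hne
    have : t * u = t * t := by rw [htt]; exact h1
    exact mul_left_cancel this
  have hv2 : orderOf v = 2 := orderOf_eq_prime (by rw [pow_two]; exact hvv) hv1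
  have hvt : Commute v t := (Commute.refl t).mul_left hut
  have hvne : v ≠ t := by
    intro h1
    apply hu1
    have : t * u = t * 1 := by rw [mul_one]; exact h1
    exact mul_left_cancel this
  have htv : t * v = u := by rw [hv, ← mul_assoc, htt, one_mul]
  -- the quadratic relation
  have hquad : ∀ χ : IrrCharacter G, χ ∈ principalBlock M G →
      ((χ : G → ℂ) t * (χ : G → ℂ) t - (χ : G → ℂ) 1 * (χ : G → ℂ) 1) * (χ : G → ℂ) u = 0 := by
    intro χ hχ
    have e1 := key_identity h hM u hu hut hne χ hχ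
    have e2 := key_identity h hM v hv2 hvt hvne χ hχ
    rw [htv] at e2
    rw [← hv] at e1
    linear_combination (χ : G → ℂ) t * e1 + (χ : G → ℂ) 1 * e2
  -- block orthogonality
  have hnc1 : ∀ c : G, 1 * c = c * 1 → ¬ 2 ∣ orderOf c → ¬ IsConj u (1 * c) := by
    intro c _ hc hconj
    obtain ⟨k, hk⟩ := isConj_iff.mp hconj
    rw [one_mul] at hk
    rw [← hk, orderOf_conj_eq, hu] at hc
    exact hc dvd_rfl
  have hnct : ∀ c : G, t * c = c * t → ¬ 2 ∣ orderOf c → ¬ IsConj u (t * c) := by
    intro c hcomm hc hconj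
    obtain ⟨k, hk⟩ := isConj_iff.mp hconj
    have hord : orderOf (t * c) = 2 := by rw [← hk, orderOf_conj_eq, hu]
    have hsq : (t * c) ^ 2 = 1 := by rw [← hord]; exact pow_orderOf_eq_one _
    have hc2 : c ^ 2 = 1 := by
      have hcm : Commute t c := hcomm
      rw [hcm.mul_pow, pow_two t, htt, one_mul] at hsq
      exact hsq
    have hdvd : orderOf c ∣ 2 := orderOf_dvd_of_pow_eq_one hc2
    have hc1 : orderOf c = 1 := by
      rcases (Nat.dvd_prime Nat.prime_two).mp hdvd with h1 | h1
      · exact h1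
      · exact absurd (h1 ▸ dvd_rfl) hc
    rw [orderOf_eq_one_iff] at hc1
    rw [hc1, mul_one] at hk
    -- u = k⁻¹ t k commutes with t
    have h1 : k⁻¹ * t * k⁻¹⁻¹ = u := by rw [← hk]; group
    have h2 := h.hiso k⁻¹ (by rw [h1]; exact hut.symm)
    rw [h1] at h2
    exact hne h2
  have o1 := BS.theta_vanish hM u 1 ⟨0, by simp⟩ hnc1 1 (by simp)
    (by rw [orderOf_one]; norm_num)
  have o2 := BS.theta_vanish hM u t ⟨1, by rw [ht2, pow_one]⟩ hnct 1 (by simp)
    (by rw [orderOf_one]; norm_num)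
  rw [mul_one] at o1 o2
  have hsum : ∑ χ : IrrCharacter G, (if χ ∈ principalBlock M G then
      (starRingEnd ℂ) ((χ : G → ℂ) u) * ((χ : G → ℂ) 1 + (χ : G → ℂ) t) else 0) = 0 := by
    have : ∀ χ : IrrCharacter G, (if χ ∈ principalBlock M G then
        (starRingEnd ℂ) ((χ : G → ℂ) u) * ((χ : G → ℂ) 1 + (χ : G → ℂ) t) else 0) =
        (if χ ∈ principalBlock M G then (starRingEnd ℂ) ((χ : G → ℂ) u) * (χ : G → ℂ) 1 else 0) +
        (if χ ∈ principalBlock M G then (starRingEnd ℂ) ((χ : G → ℂ) u) * (χ : G → ℂ) t else 0) := by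
      intro χ
      by_cases hχ : χ ∈ principalBlock M G
      · simp only [if_pos hχ]; ring
      · simp only [if_neg hχ]; ring
    rw [Finset.sum_congr rfl (fun χ _ => this χ), Finset.sum_add_distrib, o1, o2, add_zero]
  have hprime : M.IsPrime := Loc.isPrime_of_isPModular hM
  have htriv : trivIrr G ∈ principalBlock M G := trivIrr_mem_principalBlock hprime
  rw [Finset.sum_eq_single (trivIrr G)] at hsum
  · rw [if_pos htriv] at hsum
    simp only [trivIrr_apply, map_one] at hsum
    norm_num at hsum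
  · intro χ _ hχne
    by_cases hχ : χ ∈ principalBlock M G
    · rw [if_pos hχ]
      have hq := hquad χ hχ
      rcases mul_eq_zero.mp hq with hq | hq
      · have hq' : (χ : G → ℂ) t * (χ : G → ℂ) t = (χ : G → ℂ) 1 * (χ : G → ℂ) 1 :=
          sub_eq_zero.mp hq
        rcases mul_self_eq_mul_self_iff.mp hq' with h1 | h1
        · exfalso
          apply hχne
          apply eq_trivIrr_of_charKer_eq_top
          have htk : t ∈ charKer χ := (mem_charKer χ t).mpr h1
          have hle : Subgroup.normalClosure ({t} : Set G) ≤ charKer χ :=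
            Subgroup.normalClosure_le_normal (Set.singleton_subset_iff.mpr htk)
          rw [h.normalClosure_eq_top] at hle
          exact top_le_iff.mp hle
        · rw [h1]; ring
      · rw [hq, map_zero, zero_mul]
    · rw [if_neg hχ]
  · intro hn
    exact absurd (Finset.mem_univ _) hn

end Cfsg.Agent.Helper18.ZS
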