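import Mathlib
import Cfsg.Agent.Helper18.ZStar4
import Cfsg.Agent.S1181

/-!
# Glauberman's Z*-theorem
-/

set_option autoImplicit false

namespace Cfsg.Agent.Helper18.ZS

open Cfsg Cfsg.Agent.Helper6 Cfsg.Agent.Helper15

universe u

/-- A minimal counterexample does not exist. -/
theorem no_minCE {G : Type u} [Group G] [Finite G] {t : G} (h : ZStarMinCE 2 t) : False := by
  obtain ⟨u, hu, hut, hne⟩ := exists_invol_commute h
  exact final h u hu hut hne

/-- **Glauberman's Z*-theorem**, inductive form. -/
theorem zstar_aux : ∀ (n : ℕ) (G : Type u) [Group G] [Finite G], Nat.card G = n →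
    ∀ t : G, IsIsolatedInvolution t → InZStar 2 t := by
  intro n
  induction n using Nat.strong_induction_on with
  | _ n ih =>
    intro G _ _ hn t ht
    by_contra hnz
    apply no_minCE (G := G) (t := t)
    refine ⟨ht.1, ht.2, hnz, ?_, ?_⟩
    · intro H htH hH
      have hlt : Nat.card H < n := by
        rw [← hn]
        apply lt_of_le_of_ne (Subgroup.card_le_card_group H)
        intro he
        exact hH ((Subgroup.card_eq_iff_eq_top H).1 he)
      apply ih (Nat.card H) hlt H rfl
      refine ⟨?_, ?_⟩
      · rw [← Subgroup.orderOf_coe]; exact ht.1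
      · intro g hcomm
        apply Subtype.ext
        have h1 : Commute t ((g : G) * t * (g : G)⁻¹) := by
          have := congrArg Subtype.val hcomm.eq
          show t * ((g : G) * t * (g : G)⁻¹) = (g : G) * t * (g : G)⁻¹ * t
          simpa using this
        have := ht.2 (g : G) h1
        simpa using this
    · intro N hNn hN
      by_cases htN : t ∈ N
      · intro q
        have h1 : (QuotientGroup.mk t : G ⧸ N) = 1 := (QuotientGroup.eq_one_iff t).mpr htN
        rw [h1]
        have : q * 1 * q⁻¹ * (1 : G ⧸ N)⁻¹ = 1 := by group
        rw [this]; exact Subgroup.one_mem _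
      · have hlt : Nat.card (G ⧸ N) < n := by
          rw [← hn, Subgroup.card_eq_card_quotient_mul_card_subgroup N]
          have hNcard : 1 < Nat.card N := by
            rw [Subgroup.one_lt_card_iff_ne_bot]; exact hN
          have hpos : 0 < Nat.card (G ⧸ N) := Nat.card_pos
          nlinarith
        exact ih (Nat.card (G ⧸ N)) hlt (G ⧸ N) rfl _
          (Cfsg.Agent.S1181.result t ht N htN).2

/-- **Glauberman's Z*-theorem**: an isolated involution is central modulo `O(G)`. -/
theorem zstar {G : Type u} [Group G] [Finite G] (t : G) (ht : IsIsolatedInvolution t) :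
    InZStar 2 t :=
  zstar_aux (Nat.card G) G rfl t ht

end Cfsg.Agent.Helper18.ZS
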