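import Mathlib
import Cfsg.Agent.Helper18.ZStar5
import Cfsg.Agent.Helper15.Isolated2
import Cfsg.Agent.Helper15.ZStarMin
import Cfsg.Agent.Helper15.NoncycCentralizes

/-!
# Glauberman's Z*-theorem for isolated 2-elements of arbitrary order
-/

set_option autoImplicit false

namespace Cfsg.Agent.Helper18.ZS

open Cfsg Cfsg.Agent.Helper6 Cfsg.Agent.Helper15
open scoped Pointwise

universe u

section
variable {G : Type u} [Group G]

/-- Sylow form of isolation implies isolation, for `p`-elements. -/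
theorem isolated_of_sylow' [Finite G] {p : ℕ} [Fact p.Prime] (P : Sylow p G) {x : G}
    (hx : ∃ k : ℕ, orderOf x = p ^ k)
    (hiso : ∀ g : G, g * x * g⁻¹ ∈ P → g * x * g⁻¹ = x) : IsIsolated x := by
  intro g hcomm
  set v := g * x * g⁻¹ with hv
  have hpu : IsPGroup p (Subgroup.zpowers x) := isPGroup_zpowers_of_orderOf hx
  have hpv : IsPGroup p (Subgroup.zpowers v) := by
    apply isPGroup_zpowers_of_orderOf
    obtain ⟨k, hk⟩ := hx
    exact ⟨k, by rw [hv, orderOf_conj_eq, hk]⟩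
  have hnorm : Subgroup.zpowers x ≤
      Subgroup.normalizer ((Subgroup.zpowers v : Subgroup G) : Set G) := by
    apply Cfsg.Agent.Helper15.le_normalizer_of_conj_mem
    intro a ha y hy
    obtain ⟨i, rfl⟩ := Subgroup.mem_zpowers_iff.mp ha
    obtain ⟨k, rfl⟩ := Subgroup.mem_zpowers_iff.mp hy
    have : Commute (x ^ i) (v ^ k) := hcomm.zpow_zpow i k
    rw [this.eq, mul_inv_cancel_right]
    exact Subgroup.zpow_mem _ (Subgroup.mem_zpowers v) k
  have hsup : IsPGroup p (Subgroup.zpowers x ⊔ Subgroup.zpowers v : Subgroup G) :=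
    IsPGroup.to_sup_of_normal_right' hpu hpv hnorm
  obtain ⟨Q, hQ⟩ := hsup.exists_le_sylow
  obtain ⟨h, hh⟩ := MulAction.exists_smul_eq G Q P
  have huQ : x ∈ Q := hQ (Subgroup.mem_sup_left (Subgroup.mem_zpowers x))
  have hvQ : v ∈ Q := hQ (Subgroup.mem_sup_right (Subgroup.mem_zpowers v))
  have hmem : ∀ y ∈ Q, h * y * h⁻¹ ∈ P := by
    intro y hy
    have h5 : MulAut.conj h • y ∈ MulAut.conj h • (Q : Subgroup G) :=
      Subgroup.smul_mem_pointwise_smul y (MulAut.conj h) Q hy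
    rw [← Sylow.coe_subgroup_smul, hh] at h5
    rw [MulAut.smul_def, MulAut.conj_apply] at h5
    exact h5
  have h1 := hiso h (hmem x huQ)
  have h2 : (h * g) * x * (h * g)⁻¹ = x := by
    apply hiso (h * g)
    have : (h * g) * x * (h * g)⁻¹ = h * v * h⁻¹ := by rw [hv]; group
    rw [this]; exact hmem v hvQ
  have h3 : h * v * h⁻¹ = h * x * h⁻¹ := by
    rw [h1, ← h2, hv]; group
  exact mul_left_cancel (mul_right_cancel h3)

/-- Powers of an isolated `p`-element are isolated. -/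
theorem isolated_pow [Finite G] {p : ℕ} [Fact p.Prime] {x : G}
    (hx : ∃ k : ℕ, orderOf x = p ^ k) (hiso : IsIsolated x) (m : ℕ) : IsIsolated (x ^ m) := by
  have hpx : IsPGroup p (Subgroup.zpowers x) := isPGroup_zpowers_of_orderOf hx
  obtain ⟨S₀, hS₀⟩ := hpx.exists_le_sylow
  have hxS₀ : x ∈ S₀ := hS₀ (Subgroup.mem_zpowers x)
  -- the key claim
  have key : ∀ (R : Subgroup G), IsPGroup p R → x ∈ R → ∀ g : G, g * x ^ m * g⁻¹ ∈ R →
      g * x ^ m * g⁻¹ = x ^ m := by
    intro R hR hxR g hg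
    set y' := g * x ^ m * g⁻¹ with hy'
    set x' := g * x * g⁻¹ with hx'
    have hx'y' : y' = x' ^ m := by rw [hy', hx', conj_pow]
    have hRc := le_centralizer_of_isolated hiso hR hxR
    have h1 : x ∈ Subgroup.centralizer ({y'} : Set G) := by
      rw [Subgroup.mem_centralizer_singleton_iff]
      exact (Subgroup.mem_centralizer_singleton_iff.mp (hRc hg)).symm
    have h2 : x' ∈ Subgroup.centralizer ({y'} : Set G) := by
      rw [Subgroup.mem_centralizer_singleton_iff, hx'y']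
      exact ((Commute.refl x').pow_right m).eq
    have hpx' : IsPGroup p (Subgroup.zpowers x') := by
      apply isPGroup_zpowers_of_orderOf
      obtain ⟨k, hk⟩ := hx
      exact ⟨k, by rw [hx', orderOf_conj_eq, hk]⟩
    obtain ⟨n, hn, R', hR', hR'N, hxR', hnR'⟩ :=
      exists_common_pSubgroup (Subgroup.centralizer ({y'} : Set G)) h1 h2 hpx hpx'
    have h3 : (n * g) * x * (n * g)⁻¹ = x := by
      apply conj_eq_of_isolated hiso hR' hxR'
      have : (n * g) * x * (n * g)⁻¹ = n * x' * n⁻¹ := by rw [hx']; group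
      rw [this]; exact hnR'
    have h4 : n * x' * n⁻¹ = x := by
      rw [← h3, hx']; group
    have h5 : n * y' * n⁻¹ = x ^ m := by
      rw [hx'y', ← conj_pow, h4]
    have h6 : n * y' * n⁻¹ = y' := by
      have := Subgroup.mem_centralizer_singleton_iff.mp hn
      rw [this]; group
    rw [← h6, h5]
  intro g hcomm
  set y := x ^ m with hy
  set v := g * y * g⁻¹ with hv
  obtain ⟨k, hk⟩ := hx
  have hpy : IsPGroup p (Subgroup.zpowers y) := by
    have : Subgroup.zpowers y ≤ Subgroup.zpowers x :=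
      Subgroup.zpowers_le.mpr (Subgroup.pow_mem _ (Subgroup.mem_zpowers x) m)
    exact hpx.to_le this
  have hpv : IsPGroup p (Subgroup.zpowers v) := by
    have : Subgroup.zpowers v = (Subgroup.zpowers y).map (MulAut.conj g).toMonoidHom := by
      rw [MonoidHom.map_zpowers]; rfl
    rw [this]; exact hpy.map _
  have hnorm : Subgroup.zpowers y ≤
      Subgroup.normalizer ((Subgroup.zpowers v : Subgroup G) : Set G) := by
    apply Cfsg.Agent.Helper15.le_normalizer_of_conj_mem
    intro a ha z hz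
    obtain ⟨i, rfl⟩ := Subgroup.mem_zpowers_iff.mp ha
    obtain ⟨j, rfl⟩ := Subgroup.mem_zpowers_iff.mp hz
    have : Commute (y ^ i) (v ^ j) := hcomm.zpow_zpow i j
    rw [this.eq, mul_inv_cancel_right]
    exact Subgroup.zpow_mem _ (Subgroup.mem_zpowers v) j
  have hsup : IsPGroup p (Subgroup.zpowers y ⊔ Subgroup.zpowers v : Subgroup G) :=
    IsPGroup.to_sup_of_normal_right' hpy hpv hnorm
  obtain ⟨Q, hQ⟩ := hsup.exists_le_sylow
  obtain ⟨h, hh⟩ := MulAction.exists_smul_eq G Q S₀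
  have hyQ : y ∈ Q := hQ (Subgroup.mem_sup_left (Subgroup.mem_zpowers y))
  have hvQ : v ∈ Q := hQ (Subgroup.mem_sup_right (Subgroup.mem_zpowers v))
  have hmem : ∀ z ∈ Q, h * z * h⁻¹ ∈ S₀ := by
    intro z hz
    have h5 : MulAut.conj h • z ∈ MulAut.conj h • (Q : Subgroup G) :=
      Subgroup.smul_mem_pointwise_smul z (MulAut.conj h) Q hz
    rw [← Sylow.coe_subgroup_smul, hh] at h5
    rw [MulAut.smul_def, MulAut.conj_apply] at h5
    exact h5
  have h1 : h * y * h⁻¹ = y := key S₀ S₀.isPGroup' hxS₀ h (hmem y hyQ)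
  have h2 : (h * g) * y * (h * g)⁻¹ = y := by
    apply key S₀ S₀.isPGroup' hxS₀ (h * g)
    have : (h * g) * y * (h * g)⁻¹ = h * v * h⁻¹ := by rw [hv]; group
    rw [hy] at this
    rw [this]; exact hmem v hvQ
  have h3 : h * v * h⁻¹ = h * y * h⁻¹ := by
    rw [h1, ← h2, hv]; group
  exact mul_left_cancel (mul_right_cancel h3)

end

/-- **Z*-theorem for isolated 2-elements**, inductive form. -/
theorem zstar_gen_aux : ∀ (k : ℕ) (G : Type u) [Group G] [Finite G] (x : G),
    orderOf x ∣ 2 ^ k → IsIsolated x → InZStar 2 x := by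
  have : Fact (Nat.Prime 2) := ⟨Nat.prime_two⟩
  intro k
  induction k with
  | zero =>
    intro G _ _ x hx _ g
    rw [pow_zero, Nat.dvd_one, orderOf_eq_one_iff] at hx
    rw [hx]
    have : g * 1 * g⁻¹ * (1 : G)⁻¹ = 1 := by group
    rw [this]; exact Subgroup.one_mem _
  | succ k ih =>
    intro G _ _ x hx hiso g
    by_cases hx1 : x = 1
    · rw [hx1]
      have : g * 1 * g⁻¹ * (1 : G)⁻¹ = 1 := by group
      rw [this]; exact Subgroup.one_mem _
    obtain ⟨j, hjle, hj⟩ := (Nat.dvd_prime_pow Nat.prime_two).mp hx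
    have hjpos : 0 < j := by
      rcases Nat.eq_zero_or_pos j with h0 | h0
      · rw [h0, pow_zero, orderOf_eq_one_iff] at hj
        exact absurd hj hx1
      · exact h0
    obtain ⟨i, rfl⟩ : ∃ i, j = i + 1 := ⟨j - 1, by omega⟩
    -- the involution of ⟨x⟩
    set t := x ^ (2 ^ i) with ht
    have ht2 : orderOf t = 2 := by
      rw [ht, orderOf_pow' x (by positivity : 2 ^ i ≠ 0), hj, pow_succ,
        Nat.gcd_eq_right (Dvd.intro _ rfl)]
      exact Nat.mul_div_cancel_left 2 (by positivity)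
    have htiso : IsIsolated t := isolated_pow (p := 2) ⟨i + 1, hj⟩ hiso _
    have htz : InZStar 2 t := zstar t ⟨ht2, htiso⟩
    -- pass to the quotient by the core
    set K := pPrimeCore 2 G with hK
    have hKn : K.Normal := Cfsg.pPrimeCore_normal 2 G
    set xb : G ⧸ K := QuotientGroup.mk x with hxb
    have hcoreb : pPrimeCore 2 (G ⧸ K) = ⊥ := Cfsg.Agent.Helper7.pPrimeCore_quotient_eq_bot 2
    have hxbiso : IsIsolated xb := isolated_quotient (p := 2) x ⟨i + 1, hj⟩ hiso K
    have hxbord : orderOf xb ∣ 2 ^ (i + 1) := by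
      rw [← hj]
      exact orderOf_map_dvd (QuotientGroup.mk' K) x
    have htb : xb ^ (2 ^ i) ∈ Subgroup.center (G ⧸ K) := by
      rw [Subgroup.mem_center_iff]
      intro q
      obtain ⟨a, rfl⟩ := QuotientGroup.mk_surjective q
      have h1 := htz a
      have h2 : ((a * t * a⁻¹ * t⁻¹ : G) : G ⧸ K) = 1 := (QuotientGroup.eq_one_iff _).mpr h1
      have h3 : xb ^ (2 ^ i) = ((t : G) : G ⧸ K) := by rw [hxb, ht]; rfl
      rw [h3]
      have h4 : ((a * t * a⁻¹ * t⁻¹ : G) : G ⧸ K) =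
          (a : G ⧸ K) * (t : G ⧸ K) * (a : G ⧸ K)⁻¹ * (t : G ⧸ K)⁻¹ := by
        simp only [QuotientGroup.mk_mul, QuotientGroup.mk_inv]
      rw [h4] at h2
      calc (a : G ⧸ K) * (t : G ⧸ K) =
            ((a : G ⧸ K) * (t : G ⧸ K) * (a : G ⧸ K)⁻¹ * (t : G ⧸ K)⁻¹) * ((t : G ⧸ K) * a) := by
              group
        _ = (t : G ⧸ K) * a := by rw [h2, one_mul]
    -- pass to the quotient by the centre
    set Z := Subgroup.center (G ⧸ K) with hZ
    set xh : (G ⧸ K) ⧸ Z := QuotientGroup.mk xb with hxh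
    have hxbp : ∃ l : ℕ, orderOf xb = 2 ^ l := by
      obtain ⟨l, -, hl⟩ := (Nat.dvd_prime_pow Nat.prime_two).mp hxbord
      exact ⟨l, hl⟩
    have hxhiso : IsIsolated xh := isolated_quotient (p := 2) xb hxbp hxbiso Z
    have hxhord : orderOf xh ∣ 2 ^ k := by
      have h1 : xh ^ (2 ^ i) = 1 := by
        rw [hxh, ← QuotientGroup.mk_pow]
        exact (QuotientGroup.eq_one_iff _).mpr htb
      have h2 := orderOf_dvd_of_pow_eq_one h1
      exact h2.trans (pow_dvd_pow 2 (by omega))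
    have hzh := ih ((G ⧸ K) ⧸ Z) xh hxhord hxhiso
    have hcoreh : pPrimeCore 2 ((G ⧸ K) ⧸ Z) = ⊥ := pPrimeCore_quotient_center_eq_bot hcoreb
    -- conclusion
    have hfin : (QuotientGroup.mk g : G ⧸ K) * xb * (QuotientGroup.mk g : G ⧸ K)⁻¹ = xb := by
      apply hxbiso
      have h1 := hzh (QuotientGroup.mk (QuotientGroup.mk g : G ⧸ K))
      rw [hcoreh, Subgroup.mem_bot] at h1
      set gb : G ⧸ K := QuotientGroup.mk g with hgb
      have h2 : ((gb * xb * gb⁻¹ * xb⁻¹ : G ⧸ K) : (G ⧸ K) ⧸ Z) = 1 := by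
        simpa only [QuotientGroup.mk_mul, QuotientGroup.mk_inv] using h1
      have h3 : gb * xb * gb⁻¹ * xb⁻¹ ∈ Z := (QuotientGroup.eq_one_iff _).mp h2
      have h4 := Subgroup.mem_center_iff.mp h3 xb
      -- xb commutes with gb xb gb⁻¹ = c * xb
      show xb * (gb * xb * gb⁻¹) = gb * xb * gb⁻¹ * xb
      have h5 : gb * xb * gb⁻¹ = (gb * xb * gb⁻¹ * xb⁻¹) * xb := by group
      rw [h5, ← mul_assoc, h4]
    have h6 : ((g * x * g⁻¹ * x⁻¹ : G) : G ⧸ K) = 1 := by
      simp only [QuotientGroup.mk_mul, QuotientGroup.mk_inv]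
      rw [← hxb, hfin, mul_inv_cancel]
    exact (QuotientGroup.eq_one_iff _).mp h6

/-- **Z*-theorem for isolated 2-elements**. -/
theorem zstar_gen {G : Type u} [Group G] [Finite G] (x : G) (hx : ∃ k : ℕ, orderOf x = 2 ^ k)
    (hiso : IsIsolated x) : InZStar 2 x := by
  obtain ⟨k, hk⟩ := hx
  exact zstar_gen_aux k G x (by rw [hk]) hiso

end Cfsg.Agent.Helper18.ZS
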