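import Mathlib
import Cfsg.Agent.Helper18.QuadPS4
import Cfsg.Agent.Helper26.QuadStable2

/-! `p`-stability of `p`-solvable groups for `p ≥ 5` (quadratic elements act inside `O_p`). -/

set_option autoImplicit false
set_option linter.unusedSectionVars false
set_option linter.unusedVariables false
set_option linter.style.haveILetI false

namespace Cfsg.Agent.Helper18.QuadPS

open Cfsg Cfsg.Agent.Helper26
open scoped commutatorElement
open scoped IsMulCommutative

section MulForm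

variable {p : ℕ} [hp : Fact p.Prime] {H : Type*} [Group H] [Finite H]
variable {V : Type*} [CommGroup V] [Finite V]

/-- `p ≠ 2, 3`: in a `p`-solvable group acting on an elementary abelian `p`-group, a quadratic
element lies in a normal subgroup acting as a `p`-group. -/
theorem exists_normal_of_quad_mul_psolv (hp2 : p ≠ 2) (hp3 : p ≠ 3) (hV : ∀ v : V, v ^ p = 1)
    (ρ : H →* MulAut V) (hsolv : Cfsg.IsPSolvable p H) (a : H)
    (ha : ∀ v : V, ρ a (ρ a v / v) = ρ a v / v) :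
    ∃ D : Subgroup H, D.Normal ∧ ρ.ker ≤ D ∧ (∀ d ∈ D, ∃ k : ℕ, d ^ p ^ k ∈ ρ.ker) ∧ a ∈ D := by
  classical
  let ρb : H ⧸ ρ.ker →* MulAut V := QuotientGroup.lift ρ.ker ρ le_rfl
  have hρb : ∀ x : H ⧸ ρ.ker, ρb x = 1 → x = 1 := by
    intro x hx
    induction x using QuotientGroup.induction_on with
    | H x =>
      have : ρ x = 1 := hx
      exact (QuotientGroup.eq_one_iff x).mpr this
  have hsolvQ : Cfsg.IsPSolvable p (H ⧸ ρ.ker) := Cfsg.Agent.Lead.isPSolvable_quotient hsolv ρ.ker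
  have hmem : (QuotientGroup.mk' ρ.ker a) ∈ Cfsg.pCore p (H ⧸ ρ.ker) := by
    by_contra hmem
    have ha' : ∀ v : V, ρb (QuotientGroup.mk' ρ.ker a) (ρb (QuotientGroup.mk' ρ.ker a) v / v) =
        ρb (QuotientGroup.mk' ρ.ker a) v / v := ha
    exact hp3 (mul_psolv hp2 hV ρb hρb hsolvQ _ ha' hmem).1
  have hIp : IsPGroup p (Cfsg.pCore p (H ⧸ ρ.ker)) := Cfsg.Agent.Helper14.pCore_isPGroup p
  have hIn : (Cfsg.pCore p (H ⧸ ρ.ker)).Normal := inferInstance
  refine ⟨(Cfsg.pCore p (H ⧸ ρ.ker)).comap (QuotientGroup.mk' ρ.ker), hIn.comap _, ?_, ?_, ?_⟩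
  · intro x hx
    rw [Subgroup.mem_comap]
    have : QuotientGroup.mk' ρ.ker x = 1 := (QuotientGroup.eq_one_iff x).mpr hx
    rw [this]
    exact Subgroup.one_mem _
  · intro d hd
    rw [Subgroup.mem_comap] at hd
    obtain ⟨k, hk⟩ := hIp ⟨_, hd⟩
    refine ⟨k, ?_⟩
    have h1 := congrArg Subtype.val hk
    simp only [Subgroup.coe_pow, Subgroup.coe_one] at h1
    rw [← map_pow] at h1
    exact (QuotientGroup.eq_one_iff _).mp h1
  · rw [Subgroup.mem_comap]
    exact hmem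

end MulForm

section FratSection

variable {L : Type*} [Group L] [Finite L] {p : ℕ} [hp : Fact p.Prime]

theorem exists_normal_of_quad_frat_psolv_aux (hp2 : p ≠ 2) (hp3 : p ≠ 3) (A : Subgroup L)
    [A.Normal]
    [IsMulCommutative (↥A ⧸ frattini ↥A)] (hAp : IsPGroup p A) (h2 : Cfsg.IsPSolvable p L) (a : L)
    (hq : ∀ x ∈ A, ⁅⁅x, a⁆, a⁆ ∈ (frattini ↥A).map A.subtype) :
    ∃ D : Subgroup L, D.Normal ∧ Cfsg.Agent.Helper14.fratStab A ≤ D ∧
      (∀ d ∈ D, ∃ k : ℕ, d ^ p ^ k ∈ Cfsg.Agent.Helper14.fratStab A) ∧ a ∈ D := by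
  have hV : ∀ v : ↥A ⧸ frattini ↥A, v ^ p = 1 := by
    intro v
    induction v using QuotientGroup.induction_on with
    | H x =>
      rw [← QuotientGroup.mk_pow, QuotientGroup.eq_one_iff]
      exact Cfsg.Agent.Helper1.IsPGroup.pow_mem_frattini hAp x
  have ha : ∀ v : ↥A ⧸ frattini ↥A, fratRep A a (fratRep A a v / v) = fratRep A a v / v := by
    intro v
    induction v using QuotientGroup.induction_on with
    | H x =>
      rw [fratRep_mk, ← QuotientGroup.mk_div, fratRep_mk, QuotientGroup.eq]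
      obtain ⟨y, hy, hyx⟩ := hq x x.2
      have e : (MulAut.conjNormal a (MulAut.conjNormal a x / x))⁻¹ * (MulAut.conjNormal a x / x)
          = y⁻¹ := by
        apply Subtype.ext
        simp only [Subgroup.coe_mul, Subgroup.coe_inv, MulAut.conjNormal_apply, Subgroup.coe_div]
        have : (y : L) = ⁅⁅(x : L), a⁆, a⁆ := hyx
        rw [this, commutatorElement_def, commutatorElement_def]
        simp only [div_eq_mul_inv]
        group
      rw [e]
      exact Subgroup.inv_mem _ hy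
  obtain ⟨D, hDn, hD1, hD2, hD3⟩ :=
    exists_normal_of_quad_mul_psolv hp2 hp3 hV (fratRep A) h2 a ha
  rw [fratRep_ker] at hD1 hD2
  exact ⟨D, hDn, hD1, hD2, hD3⟩

theorem exists_normal_of_quad_frat_psolv (hp2 : p ≠ 2) (hp3 : p ≠ 3) (A : Subgroup L) [A.Normal]
    (hAp : IsPGroup p A) (h2 : Cfsg.IsPSolvable p L) (a : L)
    (hq : ∀ x ∈ A, ⁅⁅x, a⁆, a⁆ ∈ (frattini ↥A).map A.subtype) :
    ∃ D : Subgroup L, D.Normal ∧ Cfsg.Agent.Helper14.fratStab A ≤ D ∧
      (∀ d ∈ D, ∃ k : ℕ, d ^ p ^ k ∈ Cfsg.Agent.Helper14.fratStab A) ∧ a ∈ D := by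
  have hc : IsMulCommutative (↥A ⧸ frattini ↥A) := by
    refine ⟨⟨?_⟩⟩
    intro u v
    induction u using QuotientGroup.induction_on with
    | H x =>
      induction v using QuotientGroup.induction_on with
      | H y =>
        rw [← QuotientGroup.mk_mul, ← QuotientGroup.mk_mul, QuotientGroup.eq]
        have h1 : ⁅y⁻¹, x⁻¹⁆ ∈ frattini ↥A :=
          Cfsg.Agent.Helper1.IsPGroup.commutator_le_frattini hAp
            (Subgroup.commutator_mem_commutator (Subgroup.mem_top _) (Subgroup.mem_top _))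
        have e : (x * y)⁻¹ * (y * x) = ⁅y⁻¹, x⁻¹⁆ := by
          rw [commutatorElement_def]; group
        rw [e]
        exact h1
  exact exists_normal_of_quad_frat_psolv_aux hp2 hp3 A hAp h2 a hq

theorem exists_normal_of_quad_frat_psolv' (hp2 : p ≠ 2) (hp3 : p ≠ 3) (A : Subgroup L) [A.Normal]
    (hAp : IsPGroup p A) (h2 : Cfsg.IsPSolvable p L) (a : L)
    (hq : ∀ x ∈ A, ⁅⁅x, a⁆, a⁆ ∈ (frattini ↥A).map A.subtype) :
    ∃ D : Subgroup L, D.Normal ∧ Subgroup.centralizer (A : Set L) ≤ D ∧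
      (∀ d ∈ D, ∃ k : ℕ, d ^ p ^ k ∈ Subgroup.centralizer (A : Set L)) ∧ a ∈ D := by
  obtain ⟨D, hDn, hD1, hD2, hD3⟩ := exists_normal_of_quad_frat_psolv hp2 hp3 A hAp h2 a hq
  refine ⟨D, hDn, (Cfsg.Agent.Helper14.centralizer_le_fratStab A).trans hD1, ?_, hD3⟩
  intro d hd
  obtain ⟨k, hk⟩ := hD2 d hd
  obtain ⟨n, hn⟩ := Cfsg.Agent.Helper14.exists_pow_mem_centralizer_of_mem_fratStab A hAp _ hk
  refine ⟨k + n, ?_⟩
  rw [pow_add, pow_mul]
  exact hn

open Subgroup in
/-- `p`-stability on a normal elementary abelian subgroup of a `p`-solvable group, `p ≥ 5` -/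
theorem isPStableOn_of_psolv {X : Type*} [Group X] [Finite X] {p : ℕ} [Fact p.Prime] (hp : p ≠ 2)
    (hp3 : p ≠ 3)
    (h2 : Cfsg.IsPSolvable p X) (V : Subgroup X) [V.Normal]
    (hV : Cfsg.IsElementaryAbelian p V) : Cfsg.IsPStableOn p V := by
  intro a hq
  have hVp : IsPGroup p V := by
    rintro ⟨x, hx⟩
    refine ⟨1, ?_⟩
    apply Subtype.ext
    simp only [pow_one, SubgroupClass.coe_pow, OneMemClass.coe_one]
    exact hV.2 x hx
  have hq' : ∀ x ∈ V, ⁅⁅x, a⁆, a⁆ ∈ (frattini ↥V).map V.subtype := by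
    intro x hx
    have h1 : ⁅⁅x, a⁆, a⁆ ∈ ⁅⁅V, zpowers a⁆, zpowers a⁆ :=
      commutator_mem_commutator (commutator_mem_commutator hx (mem_zpowers a)) (mem_zpowers a)
    rw [hq, mem_bot] at h1
    rw [h1]
    exact one_mem _
  obtain ⟨D, hDn, hD1, hD2, hD3⟩ :=
    exists_normal_of_quad_frat_psolv' hp hp3 V hVp h2 a hq'
  set π := QuotientGroup.mk' (centralizer (V : Set X)) with hπ
  have hDmn : (D.map π).Normal := hDn.map π (QuotientGroup.mk'_surjective _)
  have hDmp : IsPGroup p (D.map π) := by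
    rintro ⟨y, hy⟩
    obtain ⟨d, hd, rfl⟩ := Subgroup.mem_map.mp hy
    obtain ⟨k, hk⟩ := hD2 d hd
    refine ⟨k, ?_⟩
    apply Subtype.ext
    simp only [SubgroupClass.coe_pow, OneMemClass.coe_one]
    rw [← map_pow]
    exact (QuotientGroup.eq_one_iff _).mpr hk
  exact Cfsg.Agent.Helper14.le_pCore p hDmn hDmp (Subgroup.mem_map_of_mem π hD3)

open Subgroup in
theorem sectionKernel_frattini_eq' {L : Type*} [Group L] (A : Subgroup L) [A.Normal]
    [hN : ((frattini ↥A).map A.subtype).Normal] :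
    Cfsg.sectionKernel A ((frattini ↥A).map A.subtype) = Cfsg.Agent.Helper14.fratStab A := by
  ext g
  unfold Cfsg.sectionKernel
  rw [mem_comap, mem_centralizer_iff, Cfsg.Agent.Helper14.mem_fratStab]
  constructor
  · intro h a ha
    have h1 := h _ (mem_map_of_mem (QuotientGroup.mk' _) ha)
    rw [← map_mul, ← map_mul] at h1
    have h2 := QuotientGroup.eq.mp h1
    have h3 := hN.conj_mem _ h2 (g * a)
    have e : g * a * ((a * g)⁻¹ * (g * a)) * (g * a)⁻¹ = (g * a * g⁻¹ * a⁻¹) := by group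
    rw [e] at h3
    exact h3
  · rintro h _ ⟨a, ha, rfl⟩
    rw [← map_mul, ← map_mul]
    apply QuotientGroup.eq.mpr
    have h3 := hN.conj_mem _ (h a ha) (g * a)⁻¹
    have e : (g * a)⁻¹ * (g * a * g⁻¹ * a⁻¹) * (g * a)⁻¹⁻¹ = (a * g)⁻¹ * (g * a) := by group
    rw [e] at h3
    exact h3

end FratSection

end Cfsg.Agent.Helper18.QuadPS
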