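import Mathlib
import Cfsg.Agent.Helper27.LChDefs

set_option autoImplicit false

/-! # S0406 piece Q3: the code of a Leech-type lattice is doubly even of minimum weight ≥ 8 -/

namespace Cfsg.Agent.Helper18.LCh

open Cfsg Matrix
open Cfsg.Agent.Helper27.LCh

variable {L : AddSubgroup (Fin 24 → ℤ)}

/-- the sign vector: `1` on the support of `c`, except `ε` at `i0`; `0` off the support -/
def sgn (c : Fin 24 → ZMod 2) (i0 : Fin 24) (ε : ℤ) : Fin 24 → ℤ :=
  fun i => if c i = 0 then 0 else if i = i0 then ε else 1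

theorem zmod2_eq_one {x : ZMod 2} (h : x ≠ 0) : x = 1 := by
  revert x; decide

theorem sgn_cast (c : Fin 24 → ZMod 2) (i0 : Fin 24) (ε : ℤ) (hε : ε = 1 ∨ ε = -1) (i : Fin 24) :
    ((sgn c i0 ε i : ℤ) : ZMod 2) = c i := by
  unfold sgn
  by_cases h : c i = 0
  · simp [h]
  · rw [if_neg h, zmod2_eq_one h]
    by_cases h2 : i = i0
    · rw [if_pos h2]
      rcases hε with rfl | rfl
      · simp
      · decide
    · rw [if_neg h2]; simp

theorem sgn_sq (c : Fin 24 → ZMod 2) (i0 : Fin 24) (ε : ℤ) (hε : ε = 1 ∨ ε = -1) (i : Fin 24) :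
    sgn c i0 ε i * sgn c i0 ε i = if c i ≠ 0 then 1 else 0 := by
  unfold sgn
  by_cases h : c i = 0
  · simp [h]
  · by_cases h2 : i = i0
    · subst h2
      rcases hε with rfl | rfl <;> simp [h]
    · simp [h, h2]

theorem code_weight_of (hL : Lat L)
    (hQ2 : ∀ v : Fin 24 → ℤ, (∀ i, (4 : ℤ) ∣ v i) → (8 : ℤ) ∣ ∑ i, v i → v ∈ L)
    {c : Fin 24 → ZMod 2} (hc : c ∈ code L) (h0 : c ≠ 0) :
    4 ∣ hammingNorm c ∧ 8 ≤ hammingNorm c := by
  obtain ⟨t, ht, htc⟩ := hc
  obtain ⟨i0, hi0⟩ : ∃ i0, c i0 ≠ 0 := by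
    by_contra hcon
    push Not at hcon
    exact h0 (funext hcon)
  -- the difference vector
  have hdiv4 : ∀ ε : ℤ, (ε = 1 ∨ ε = -1) → ∀ i, (4 : ℤ) ∣ 2 * t i - 2 * sgn c i0 ε i := by
    intro ε hε i
    have h2 : (2 : ℤ) ∣ t i - sgn c i0 ε i := by
      have : ((t i - sgn c i0 ε i : ℤ) : ZMod 2) = 0 := by
        rw [Int.cast_sub, htc i, sgn_cast c i0 ε hε i, sub_self]
      exact (ZMod.intCast_zmod_eq_zero_iff_dvd _ 2).mp this
    obtain ⟨k, hk⟩ := h2
    exact ⟨k, by rw [← mul_sub, hk]; ring⟩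
  have hsum : ∑ i, (2 * t i - 2 * sgn c i0 (-1) i) = ∑ i, (2 * t i - 2 * sgn c i0 1 i) + 4 := by
    have : ∀ i, 2 * t i - 2 * sgn c i0 (-1) i =
        (2 * t i - 2 * sgn c i0 1 i) + (if i = i0 then 4 else 0) := by
      intro i
      unfold sgn
      by_cases h : c i = 0
      · have hne : i ≠ i0 := by
          rintro rfl; exact hi0 h
        simp [h, hne]
      · by_cases h2 : i = i0
        · subst h2
          simp [h]; ring
        · simp [h, h2]
    rw [Finset.sum_congr rfl (fun i _ => this i), Finset.sum_add_distrib, Finset.sum_ite_eq']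
    simp
  have h4sum : (4 : ℤ) ∣ ∑ i, (2 * t i - 2 * sgn c i0 1 i) :=
    Finset.dvd_sum (fun i _ => hdiv4 1 (Or.inl rfl) i)
  obtain ⟨ε, hε, h8⟩ : ∃ ε : ℤ, (ε = 1 ∨ ε = -1) ∧ (8 : ℤ) ∣ ∑ i, (2 * t i - 2 * sgn c i0 ε i) := by
    have : (8 : ℤ) ∣ ∑ i, (2 * t i - 2 * sgn c i0 1 i) ∨
        (8 : ℤ) ∣ ∑ i, (2 * t i - 2 * sgn c i0 1 i) + 4 := by omega
    rcases this with h | h
    · exact ⟨1, Or.inl rfl, h⟩
    · exact ⟨-1, Or.inr rfl, by rw [hsum]; exact h⟩
  have hmem : (fun i => 2 * t i - 2 * sgn c i0 ε i) ∈ L := hQ2 _ (hdiv4 ε hε) h8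
  have hw : (fun i => 2 * sgn c i0 ε i) ∈ L := by
    have := L.sub_mem ht hmem
    convert this using 1
    funext i
    simp
  have hwne : (fun i => 2 * sgn c i0 ε i) ≠ 0 := by
    intro h
    have := congrFun h i0
    unfold sgn at this
    simp [hi0] at this
    rcases hε with rfl | rfl <;> simp at this
  have hnorm : (fun i => 2 * sgn c i0 ε i) ⬝ᵥ (fun i => 2 * sgn c i0 ε i) =
      4 * (hammingNorm c : ℤ) := by
    unfold dotProduct hammingNorm
    have : ∀ i, 2 * sgn c i0 ε i * (2 * sgn c i0 ε i) = 4 * (if c i ≠ 0 then 1 else 0) := by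
      intro i
      rw [← sgn_sq c i0 ε hε i]; ring
    rw [Finset.sum_congr rfl (fun i _ => this i), ← Finset.mul_sum, Finset.sum_boole]
  have h16 := hL.even16 _ hw
  have h32 := hL.min32 _ hw hwne
  rw [hnorm] at h16 h32
  constructor
  · have : (4 : ℤ) ∣ (hammingNorm c : ℤ) := by omega
    exact_mod_cast this
  · have : (8 : ℤ) ≤ (hammingNorm c : ℤ) := by omega
    exact_mod_cast this

/-- (own copy of Q2) `L` contains every vector with entries `≡ 0 mod 4` and sum `≡ 0 mod 8` -/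
theorem mem_of_four_dvd' (hL : Lat L) (v : Fin 24 → ℤ) (h4 : ∀ i, (4 : ℤ) ∣ v i)
    (h8 : (8 : ℤ) ∣ ∑ i, v i) : v ∈ L := by
  choose a ha using h4
  obtain ⟨b, hb⟩ := h8
  have hterm : ∀ i, (Pi.single i 4 - Pi.single 0 4 : Fin 24 → ℤ) ∈ L := by
    intro i
    by_cases h : i = 0
    · subst h
      rw [sub_self]; exact L.zero_mem
    · exact hL.e4m i 0 h
  have hsum : ∑ i, a i = 2 * b := by
    have : ∑ i, v i = 4 * ∑ i, a i := by
      rw [Finset.mul_sum]
      exact Finset.sum_congr rfl (fun i _ => ha i)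
    rw [this] at hb
    omega
  have hv : v = ∑ i, a i • (Pi.single i 4 - Pi.single 0 4 : Fin 24 → ℤ) +
      b • (Pi.single 0 8 : Fin 24 → ℤ) := by
    funext j
    simp only [Pi.add_apply, Finset.sum_apply, Pi.smul_apply, Pi.sub_apply, Pi.single_apply,
      smul_eq_mul, mul_sub, Finset.sum_sub_distrib, mul_ite, mul_zero, Finset.sum_ite_eq,
      Finset.mem_univ, if_true]
    by_cases hj : j = 0
    · subst hj
      simp only [if_true]
      rw [← Finset.sum_mul, hsum, ha 0]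
      ring
    · simp only [if_neg hj, Finset.sum_const_zero, sub_zero, add_zero]
      rw [ha j]; ring
  rw [hv]
  refine L.add_mem (L.sum_mem fun i _ => L.zsmul_mem (hterm i) _) (L.zsmul_mem (hL.e8 0) _)

theorem code_weight (hL : Lat L) {c : Fin 24 → ZMod 2} (hc : c ∈ code L) (h0 : c ≠ 0) :
    4 ∣ hammingNorm c ∧ 8 ≤ hammingNorm c :=
  code_weight_of hL (mem_of_four_dvd' hL) hc h0

end Cfsg.Agent.Helper18.LCh
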