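import Mathlib
import Cfsg.Prelude.Def_Transfer
import Cfsg.Agent.S0071
import Cfsg.Agent.Helper9.NPC
import Cfsg.Agent.Helper16.AutTwoGroup

/-!
Groups with dihedral Sylow 2-subgroups: normal 2-complement criterion via four-subgroups (S1254).
-/

set_option autoImplicit false

namespace Cfsg.Agent.Helper18.DihSylow

theorem isKleinFour_of_card_of_sq' {G : Type*} [Group G] (V : Subgroup G) (hcard : Nat.card V = 4)
    (hsq : ∀ v ∈ V, v * v = 1) : IsKleinFour V := by
  refine ⟨hcard, ?_⟩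
  have hfin : Finite V := Nat.finite_of_card_ne_zero (by rw [hcard]; norm_num)
  have h1 : Monoid.exponent V ∣ 2 := Monoid.exponent_dvd_of_forall_pow_eq_one (fun g => by
    apply Subtype.ext
    rw [pow_two]
    exact hsq g g.2)
  have h2 : Monoid.exponent V ≠ 1 := by
    rw [Ne, Monoid.exp_eq_one_iff]
    intro hs
    have := Finite.card_le_one_iff_subsingleton.mpr hs
    omega
  rcases (Nat.dvd_prime Nat.prime_two).mp h1 with h | h
  · exact absurd h h2
  · exact h

/-- subgroups of a dihedral 2-group: the automorphism group is a 2-group, or the subgroup is a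
four-group -/
theorem dihedral_subgroup_aut (m : ℕ) (K : Subgroup (DihedralGroup m)) (a : ℕ)
    (hcard : Nat.card (DihedralGroup m) = 2 ^ a) :
    IsPGroup 2 (MulAut K) ∨ (Nat.card K = 4 ∧ ∀ g ∈ K, g * g = 1) := by
  have hfin : Finite (DihedralGroup m) := Nat.finite_of_card_ne_zero (by rw [hcard]; positivity)
  obtain ⟨b, -, hb⟩ := (Nat.dvd_prime_pow Nat.prime_two).mp
    (hcard ▸ Subgroup.card_subgroup_dvd_card K)
  set Rot : Subgroup (DihedralGroup m) := Subgroup.zpowers (DihedralGroup.r 1) with hRot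
  have hr_mem : ∀ i : ZMod m, DihedralGroup.r i ∈ Rot := by
    intro i
    rw [hRot, Subgroup.mem_zpowers_iff]
    refine ⟨(ZMod.cast i : ℤ), ?_⟩
    rw [DihedralGroup.r_one_zpow, ZMod.intCast_zmod_cast]
  have hsr_not : ∀ i : ZMod m, DihedralGroup.sr i ∉ Rot := by
    intro i h
    rw [hRot, Subgroup.mem_zpowers_iff] at h
    obtain ⟨k, hk⟩ := h
    rw [DihedralGroup.r_one_zpow] at hk
    cases hk
  by_cases hK : K ≤ Rot
  · left
    have : IsCyclic K := Subgroup.isCyclic_of_le hK
    exact Cfsg.Agent.Helper16.isPGroup_mulAut_of_isCyclic b hb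
  · obtain ⟨g, hgK, hgR⟩ := SetLike.not_le_iff_exists.mp hK
    rcases g with i | i₀
    · exact absurd (hr_mem i) hgR
    have hB : IsCyclic ↥(K ⊓ Rot) := Subgroup.isCyclic_of_le inf_le_right
    obtain ⟨⟨x, hxB⟩, hgen⟩ := IsCyclic.exists_generator (α := ↥(K ⊓ Rot))
    set x' : K := ⟨x, hxB.1⟩ with hx'
    have hmem : ∀ y : K, y ∈ Subgroup.zpowers x' ↔ (y : DihedralGroup m) ∈ Rot := by
      intro y
      constructor
      · intro hy
        obtain ⟨k, rfl⟩ := Subgroup.mem_zpowers_iff.mp hy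
        rw [Subgroup.coe_zpow]
        exact Subgroup.zpow_mem _ hxB.2 k
      · intro hy
        obtain ⟨k, hk⟩ := Subgroup.mem_zpowers_iff.mp (hgen ⟨y, ⟨y.2, hy⟩⟩)
        rw [Subgroup.mem_zpowers_iff]
        refine ⟨k, ?_⟩
        apply Subtype.ext
        have := congrArg Subtype.val hk
        rw [Subgroup.coe_zpow] at this ⊢
        exact this
    have hidx : (Subgroup.zpowers x').index = 2 := by
      rw [Subgroup.index_eq_two_iff]
      refine ⟨⟨DihedralGroup.sr i₀, hgK⟩, fun y => ?_⟩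
      rw [hmem, hmem]
      obtain ⟨y, hy⟩ := y
      rcases y with i | i
      · refine Or.inr ⟨hr_mem i, ?_⟩
        show DihedralGroup.r i * DihedralGroup.sr i₀ ∉ Rot
        rw [DihedralGroup.r_mul_sr]; exact hsr_not _
      · refine Or.inl ⟨?_, hsr_not i⟩
        show DihedralGroup.sr i * DihedralGroup.sr i₀ ∈ Rot
        rw [DihedralGroup.sr_mul_sr]; exact hr_mem _
    obtain ⟨j, -, hj⟩ := (Nat.dvd_prime_pow Nat.prime_two).mp (hb ▸ orderOf_dvd_natCard x')
    have hcardK : Nat.card K = 2 ^ j * 2 := by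
      have := Subgroup.card_mul_index (Subgroup.zpowers x')
      rw [hidx, Nat.card_zpowers, hj] at this
      exact this.symm
    have hout : ∀ y : K, y ∉ Subgroup.zpowers x' → (y : DihedralGroup m) * y = 1 := by
      intro y hy
      rw [hmem] at hy
      obtain ⟨y, hyK⟩ := y
      rcases y with i | i
      · exact absurd (hr_mem i) hy
      · exact DihedralGroup.sr_mul_self i
    rcases j with _ | _ | j
    · left
      rw [pow_zero, one_mul] at hcardK
      have hp : Fact (Nat.Prime 2) := ⟨Nat.prime_two⟩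
      have : IsCyclic K := isCyclic_of_prime_card hcardK
      exact Cfsg.Agent.Helper16.isPGroup_mulAut_of_isCyclic 1 (by rw [hcardK]; norm_num)
    · right
      refine ⟨by rw [hcardK]; norm_num, ?_⟩
      intro g hg
      by_cases hgz : (⟨g, hg⟩ : K) ∈ Subgroup.zpowers x'
      · obtain ⟨k, hk⟩ := Subgroup.mem_zpowers_iff.mp hgz
        have h2 : x' ^ 2 = 1 := by
          have := pow_orderOf_eq_one x'
          rwa [hj] at this
        have : (⟨g, hg⟩ : K) * ⟨g, hg⟩ = 1 := by
          rw [← hk, ← zpow_add, ← two_mul, zpow_mul, zpow_ofNat, h2, one_zpow]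
        exact congrArg Subtype.val this
      · exact hout ⟨g, hg⟩ hgz
    · left
      refine Cfsg.Agent.Helper16.isPGroup_mulAut_of_index_two x' (j + 1 + 1) (by omega) hj hidx ?_
      intro y hy hord
      have h1 := hout y hy
      have h2 : y ^ 2 = 1 := by
        apply Subtype.ext
        rw [pow_two]; exact h1
      have h3 := orderOf_dvd_of_pow_eq_one h2
      rw [hord] at h3
      have h4 := Nat.le_of_dvd (by norm_num) h3
      have : 4 ≤ 2 ^ (j + 1 + 1) := by
        calc 4 = 2 ^ 2 := by norm_num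
          _ ≤ 2 ^ (j + 1 + 1) := Nat.pow_le_pow_right (by norm_num) (by omega)
      omega

section main

variable {X : Type*} [Group X] [Finite X]

/-- odd-order elements of `N(Q)` centralize `Q` when `Aut(Q)` is a 2-group -/
theorem mem_centralizer_of_aut_pgroup (Q : Subgroup X) (hA : IsPGroup 2 (MulAut Q)) (g : X)
    (hg : g ∈ Subgroup.normalizer (Q : Set X)) (hodd : Nat.Coprime (orderOf g) 2) :
    g ∈ Subgroup.centralizer (Q : Set X) := by
  set ψ := Q.normalizerMonoidHom
  have h1 : (ψ ⟨g, hg⟩) ^ orderOf g = 1 := by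
    rw [← map_pow]
    have : (⟨g, hg⟩ : Subgroup.normalizer (Q : Set X)) ^ orderOf g = 1 := by
      apply Subtype.ext
      rw [Subgroup.coe_pow]
      exact pow_orderOf_eq_one g
    rw [this, map_one]
  obtain ⟨k, hk⟩ := hA (ψ ⟨g, hg⟩)
  have h2 := orderOf_dvd_of_pow_eq_one h1
  have h3 := orderOf_dvd_of_pow_eq_one hk
  have h4 : orderOf (ψ ⟨g, hg⟩) = 1 :=
    Nat.eq_one_of_dvd_coprimes (Nat.Coprime.pow_right k hodd) h2 h3
  rw [orderOf_eq_one_iff] at h4
  have h5 : (⟨g, hg⟩ : Subgroup.normalizer (Q : Set X)) ∈ ψ.ker := h4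
  rw [Subgroup.normalizerMonoidHom_ker, Subgroup.mem_subgroupOf] at h5
  exact h5

/-- odd-order elements of `N(Q)` centralize `Q` when `N(Q) = C(Q) (S ∩ N(Q))` for a 2-group `S` -/
theorem mem_centralizer_of_normalizer_eq (Q S : Subgroup X) (hS : IsPGroup 2 S)
    (hN : Subgroup.normalizer (Q : Set X) =
      Subgroup.centralizer (Q : Set X) ⊔ (S ⊓ Subgroup.normalizer (Q : Set X)))
    (g : X) (hg : g ∈ Subgroup.normalizer (Q : Set X)) (hodd : Nat.Coprime (orderOf g) 2) :
    g ∈ Subgroup.centralizer (Q : Set X) := by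
  set N := Subgroup.normalizer (Q : Set X) with hNdef
  set ψ := Q.normalizerMonoidHom
  set T' : Subgroup N := (S ⊓ N).subgroupOf N
  have hT' : IsPGroup 2 T' := by
    intro t
    obtain ⟨k, hk⟩ := hS ⟨(t : N), (Subgroup.mem_subgroupOf.mp t.2).1⟩
    refine ⟨k, ?_⟩
    apply Subtype.ext
    apply Subtype.ext
    have := congrArg Subtype.val hk
    simpa using this
  have hM : IsPGroup 2 (T'.map ψ) := hT'.map ψ
  set L : Subgroup X := ((T'.map ψ).comap ψ).map N.subtype
  have hCL : Subgroup.centralizer (Q : Set X) ≤ L := by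
    intro c hc
    have hcN : c ∈ N := Subgroup.centralizer_le_normalizer (Q : Set X) hc
    refine ⟨⟨c, hcN⟩, ?_, rfl⟩
    have : (⟨c, hcN⟩ : N) ∈ ψ.ker := by
      rw [Subgroup.normalizerMonoidHom_ker, Subgroup.mem_subgroupOf]; exact hc
    show ψ ⟨c, hcN⟩ ∈ T'.map ψ
    rw [MonoidHom.mem_ker.mp this]
    exact Subgroup.one_mem _
  have hSL : S ⊓ N ≤ L := by
    intro s hs
    refine ⟨⟨s, hs.2⟩, ?_, rfl⟩
    show ψ ⟨s, hs.2⟩ ∈ T'.map ψ
    exact Subgroup.mem_map_of_mem ψ (Subgroup.mem_subgroupOf.mpr hs)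
  have hgL : g ∈ L := by
    have : N ≤ L := by
      conv_lhs => rw [hN]
      exact sup_le hCL hSL
    exact this hg
  obtain ⟨n, hn, hng⟩ := hgL
  have hn' : n = ⟨g, hg⟩ := Subtype.ext hng
  rw [hn'] at hn
  have hn2 : ψ ⟨g, hg⟩ ∈ T'.map ψ := hn
  obtain ⟨k, hk⟩ := hM ⟨_, hn2⟩
  have hk' : (ψ ⟨g, hg⟩) ^ 2 ^ k = 1 := by
    have := congrArg Subtype.val hk
    simpa using this
  have h1 : (ψ ⟨g, hg⟩) ^ orderOf g = 1 := by
    rw [← map_pow]
    have : (⟨g, hg⟩ : N) ^ orderOf g = 1 := by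
      apply Subtype.ext
      rw [Subgroup.coe_pow]
      exact pow_orderOf_eq_one g
    rw [this, map_one]
  have h2 := orderOf_dvd_of_pow_eq_one h1
  have h3 := orderOf_dvd_of_pow_eq_one hk'
  have h4 : orderOf (ψ ⟨g, hg⟩) = 1 :=
    Nat.eq_one_of_dvd_coprimes (Nat.Coprime.pow_right k hodd) h2 h3
  rw [orderOf_eq_one_iff] at h4
  have h5 : (⟨g, hg⟩ : N) ∈ ψ.ker := h4
  rw [Subgroup.normalizerMonoidHom_ker, Subgroup.mem_subgroupOf] at h5
  exact h5

/-- transfer of the dihedral subgroup dichotomy to subgroups of a Sylow subgroup -/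
theorem subgroup_dichotomy (S : Subgroup X) (m : ℕ) (eS : S ≃* DihedralGroup m) (a : ℕ)
    (hSa : Nat.card S = 2 ^ a) (Q : Subgroup X) (hQS : Q ≤ S) :
    IsPGroup 2 (MulAut Q) ∨ IsKleinFour Q := by
  have hcard : Nat.card (DihedralGroup m) = 2 ^ a := by
    rw [← Nat.card_congr eS.toEquiv, hSa]
  set K : Subgroup (DihedralGroup m) := (Q.subgroupOf S).map eS.toMonoidHom with hK
  have φ₁ : Q.subgroupOf S ≃* Q := Subgroup.subgroupOfEquivOfLe hQS
  have φ₂ : Q.subgroupOf S ≃* K := (Q.subgroupOf S).equivMapOfInjective _ eS.injective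
  have φ : Q ≃* K := φ₁.symm.trans φ₂
  rcases dihedral_subgroup_aut m K a hcard with h | ⟨h4, hsq⟩
  · left
    exact h.of_equiv (MulAut.congr φ).symm
  · right
    apply isKleinFour_of_card_of_sq'
    · rw [Nat.card_congr φ.toEquiv, h4]
    · intro q hq
      have h1 := hsq (φ ⟨q, hq⟩) (φ ⟨q, hq⟩).2
      have h2 : φ (⟨q, hq⟩ * ⟨q, hq⟩) = 1 := by
        rw [map_mul]
        apply Subtype.ext
        exact h1
      rw [← map_one φ] at h2
      have := congrArg Subtype.val (φ.injective h2)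
      exact this

theorem normalizer_eq_of_complement (S K U : Subgroup X) [K.Normal] (hc : K.IsComplement' S)
    (hUS : U ≤ S) :
    Subgroup.normalizer (U : Set X) =
      Subgroup.centralizer (U : Set X) ⊔ (S ⊓ Subgroup.normalizer (U : Set X)) := by
  apply le_antisymm
  · intro g hg
    have htop : K ⊔ S = ⊤ := hc.sup_eq_top
    have hgm : g ∈ K ⊔ S := by rw [htop]; trivial
    rw [Subgroup.mem_sup_of_normal_left] at hgm
    obtain ⟨k, hk, s, hs, rfl⟩ := hgm
    have hdisj : ∀ y, y ∈ K → y ∈ S → y = 1 := fun y h1 h2 =>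
      Subgroup.disjoint_def.mp hc.disjoint h1 h2
    -- k centralizes s U s⁻¹
    have hkey : ∀ u ∈ U, k * (s * u * s⁻¹) * k⁻¹ = s * u * s⁻¹ := by
      intro u hu
      have h1 : k * s * u * (k * s)⁻¹ ∈ U := ((Subgroup.mem_normalizer_iff.mp hg) u).mp hu
      have h2 : k * s * u * (k * s)⁻¹ = k * (s * u * s⁻¹) * k⁻¹ := by group
      rw [h2] at h1
      set u' := s * u * s⁻¹ with hu'
      have hu'S : u' ∈ S := S.mul_mem (S.mul_mem hs (hUS hu)) (S.inv_mem hs)
      have h3 : k * u' * k⁻¹ * u'⁻¹ ∈ K := by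
        have : k * u' * k⁻¹ * u'⁻¹ = k * (u' * k⁻¹ * u'⁻¹) := by group
        rw [this]
        exact K.mul_mem hk (Subgroup.Normal.conj_mem inferInstance _ (K.inv_mem hk) _)
      have h4 : k * u' * k⁻¹ * u'⁻¹ ∈ S := S.mul_mem (hUS h1) (S.inv_mem hu'S)
      have h5 := hdisj _ h3 h4
      exact mul_inv_eq_one.mp h5
    have hsU : ∀ u ∈ U, s * u * s⁻¹ ∈ U := by
      intro u hu
      have h1 : k * s * u * (k * s)⁻¹ ∈ U := ((Subgroup.mem_normalizer_iff.mp hg) u).mp hu
      have h2 : k * s * u * (k * s)⁻¹ = k * (s * u * s⁻¹) * k⁻¹ := by group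
      rw [h2, hkey u hu] at h1
      exact h1
    have hsN : s ∈ Subgroup.normalizer (U : Set X) := by
      rw [Subgroup.mem_normalizer_iff_map_conj_eq]
      apply Subgroup.eq_of_le_of_card_ge
      · rintro _ ⟨u, hu, rfl⟩
        exact hsU u hu
      · rw [Subgroup.card_map_of_injective (MulAut.conj s).injective]
    have hkN : k ∈ Subgroup.normalizer (U : Set X) := by
      have : k = (k * s) * s⁻¹ := by group
      rw [this]
      exact Subgroup.mul_mem _ hg (Subgroup.inv_mem _ hsN)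
    have hkC : k ∈ Subgroup.centralizer (U : Set X) := by
      rw [Subgroup.mem_centralizer_iff]
      intro u hu
      -- u = s u₀ s⁻¹ with u₀ = s⁻¹ u s ∈ U
      have hu₀ : s⁻¹ * u * s ∈ U := by
        have := ((Subgroup.mem_normalizer_iff''.mp hsN) u).mp hu
        exact this
      have := hkey _ hu₀
      have e : s * (s⁻¹ * u * s) * s⁻¹ = u := by group
      rw [e] at this
      calc u * k = (k * u * k⁻¹) * k := by rw [this]
        _ = k * u := by group
    exact Subgroup.mul_mem_sup hkC ⟨hs, hsN⟩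
  · exact sup_le (Subgroup.centralizer_le_normalizer _) inf_le_right

theorem main (S : Sylow 2 X) (m : ℕ) (eS : (S : Subgroup X) ≃* DihedralGroup m) :
    Cfsg.HasNormalPComplement 2 X ↔ ∀ U : Subgroup X, U ≤ S → IsKleinFour U →
      Subgroup.normalizer (U : Set X) =
        Subgroup.centralizer (U : Set X) ⊔ ((S : Subgroup X) ⊓ Subgroup.normalizer (U : Set X)) := by
  have hp : Fact (Nat.Prime 2) := ⟨Nat.prime_two⟩
  constructor
  · intro h U hUS _
    obtain ⟨K, hK, hc⟩ := (Cfsg.Agent.Helper9.hasNormalPComplement_iff S).mp h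
    exact normalizer_eq_of_complement (S : Subgroup X) K U hc hUS
  · intro h
    obtain ⟨a, ha⟩ := IsPGroup.exists_card_eq S.isPGroup'
    have h71 := (Cfsg.Agent.S0071.result S).mpr (by
      intro Q hQS g hg hodd
      rcases subgroup_dichotomy (S : Subgroup X) m eS a ha Q hQS with hA | hKl
      · exact mem_centralizer_of_aut_pgroup Q hA g hg hodd
      · exact mem_centralizer_of_normalizer_eq Q S S.isPGroup' (h Q hQS hKl) g hg hodd)
    obtain ⟨N, hN, hc⟩ := h71
    exact ⟨S, N, hN, hc⟩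

end main

end Cfsg.Agent.Helper18.DihSylow
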