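import Mathlib
import Cfsg.Prelude.Def_RootSubgroups
import Cfsg.Agent.Helper2.RootSub
import Cfsg.Agent.Helper25.RankOne

set_option autoImplicit false
set_option linter.unusedSectionVars false
set_option linter.unusedVariables false

/-! QUADPAIR-2 (blueprint `departures/helper18_QUADPAIR2_blueprint.md`), piece TRANS:
transport of the root-subgroup notions between a family `S` of subgroups of `𝔾` and the family
`Sub S` of subgroups of the group `⨆ B ∈ S, B` generated by it. -/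

namespace Cfsg.Agent.QP2

open Cfsg Cfsg.Agent.Helper25 Cfsg.Agent.Helper2.RootSub Cfsg.Agent.Helper2.RootGeneric

variable {𝔾 : Type*} [Group 𝔾]

theorem TRANS_map_subgroupOf {H A : Subgroup 𝔾} (hA : A ≤ H) :
    (A.subgroupOf H).map H.subtype = A := by
  rw [Subgroup.subgroupOf_map_subtype, inf_eq_left.mpr hA]

theorem TRANS_subgroupOf_inj {H A B : Subgroup 𝔾} (hA : A ≤ H) (hB : B ≤ H) :
    A.subgroupOf H = B.subgroupOf H ↔ A = B := by
  constructor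
  · intro h
    rw [← TRANS_map_subgroupOf hA, ← TRANS_map_subgroupOf hB, h]
  · rintro rfl; rfl

theorem TRANS_cond_down {H A B : Subgroup 𝔾} (hA : A ≤ H) (hB : B ≤ H)
    (h : RankOneCondition A B) : RankOneCondition (A.subgroupOf H) (B.subgroupOf H) := by
  intro a ha ha1
  have ha' : (a : 𝔾) ∈ A := Subgroup.mem_subgroupOf.mp ha
  have ha1' : (a : 𝔾) ≠ 1 := fun h0 => ha1 (Subtype.ext h0)
  obtain ⟨b, hb, hb1, hab⟩ := h a ha' ha1'
  refine ⟨⟨b, hB hb⟩, Subgroup.mem_subgroupOf.mpr hb, fun h0 => hb1 (congrArg Subtype.val h0), ?_⟩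
  have e1 := conjBy_subgroupOf H A (⟨b, hB hb⟩ : ↥H)⁻¹
  have e2 := conjBy_subgroupOf H B a⁻¹
  rw [e1, e2]
  have e3 : (((⟨b, hB hb⟩ : ↥H)⁻¹ : ↥H) : 𝔾) = b⁻¹ := rfl
  have e4 : ((a⁻¹ : ↥H) : 𝔾) = (a : 𝔾)⁻¹ := rfl
  rw [e3, e4, hab]

theorem TRANS_rk_down {H A B : Subgroup 𝔾} (hA : A ≤ H) (hB : B ≤ H) (h : IsRankOnePair A B) :
    IsRankOnePair (A.subgroupOf H) (B.subgroupOf H) := by
  refine ⟨?_, ?_, ?_, TRANS_cond_down hA hB h.cond_left, TRANS_cond_down hB hA h.cond_right⟩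
  · intro he
    exact h.ne ((TRANS_subgroupOf_inj hA hB).mp he)
  · exact (Group.isNilpotent_congr (Subgroup.subgroupOfEquivOfLe hA)).mpr h.nilpotent_left
  · exact (Group.isNilpotent_congr (Subgroup.subgroupOfEquivOfLe hB)).mpr h.nilpotent_right

theorem TRANS_rk_up {H A B : Subgroup 𝔾} (hA : A ≤ H) (hB : B ≤ H)
    (h : IsRankOnePair (A.subgroupOf H) (B.subgroupOf H)) : IsRankOnePair A B := by
  have := isRankOnePair_map H.subtype H.subtype_injective h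
  rwa [TRANS_map_subgroupOf hA, TRANS_map_subgroupOf hB] at this

theorem TRANS_rk {H A B : Subgroup 𝔾} (hA : A ≤ H) (hB : B ≤ H) :
    IsRankOnePair A B ↔ IsRankOnePair (A.subgroupOf H) (B.subgroupOf H) :=
  ⟨TRANS_rk_down hA hB, TRANS_rk_up hA hB⟩

theorem TRANS_comm {H A B : Subgroup 𝔾} (hA : A ≤ H) (hB : B ≤ H) :
    ⁅A.subgroupOf H, B.subgroupOf H⁆ = (⁅A, B⁆ : Subgroup 𝔾).subgroupOf H := by
  apply Subgroup.map_injective H.subtype_injective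
  have hAB : (⁅A, B⁆ : Subgroup 𝔾) ≤ H := (Subgroup.commutator_mono hA hB).trans (Subgroup.commutator_le_self H)
  rw [Subgroup.map_commutator, TRANS_map_subgroupOf hA, TRANS_map_subgroupOf hB,
    TRANS_map_subgroupOf hAB]

theorem TRANS_comm_bot {H A B : Subgroup 𝔾} (hA : A ≤ H) (hB : B ≤ H) :
    ⁅A.subgroupOf H, B.subgroupOf H⁆ = ⊥ ↔ (⁅A, B⁆ : Subgroup 𝔾) = ⊥ := by
  rw [TRANS_comm hA hB]
  have hAB : (⁅A, B⁆ : Subgroup 𝔾) ≤ H := (Subgroup.commutator_mono hA hB).trans (Subgroup.commutator_le_self H)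
  constructor
  · intro h
    rw [← TRANS_map_subgroupOf hAB, h, Subgroup.map_bot]
  · intro h
    rw [h]
    exact Subgroup.bot_subgroupOf H

theorem TRANS_closure_image {H : Subgroup 𝔾} (a : ↥H) {B T : Subgroup 𝔾} (hB : B ≤ H) (hT : T ≤ H)
    (h : Subgroup.closure ((fun b : 𝔾 => (a : 𝔾) * b * (a : 𝔾)⁻¹ * b⁻¹) '' (B : Set 𝔾)) = T) :
    Subgroup.closure ((fun b : ↥H => a * b * a⁻¹ * b⁻¹) '' ((B.subgroupOf H : Subgroup ↥H) : Set ↥H))
      = T.subgroupOf H := by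
  apply Subgroup.map_injective H.subtype_injective
  rw [MonoidHom.map_closure, TRANS_map_subgroupOf hT, ← h]
  congr 1
  ext x
  constructor
  · rintro ⟨_, ⟨b, hb, rfl⟩, rfl⟩
    exact ⟨(b : 𝔾), Subgroup.mem_subgroupOf.mp hb, rfl⟩
  · rintro ⟨b, hb, rfl⟩
    exact ⟨_, ⟨⟨b, hB hb⟩, Subgroup.mem_subgroupOf.mpr hb, rfl⟩, rfl⟩

theorem TRANS_closure_image' {H : Subgroup 𝔾} (b : ↥H) {A T : Subgroup 𝔾} (hA : A ≤ H) (hT : T ≤ H)
    (h : Subgroup.closure ((fun a : 𝔾 => a * (b : 𝔾) * a⁻¹ * (b : 𝔾)⁻¹) '' (A : Set 𝔾)) = T) :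
    Subgroup.closure ((fun a : ↥H => a * b * a⁻¹ * b⁻¹) '' ((A.subgroupOf H : Subgroup ↥H) : Set ↥H))
      = T.subgroupOf H := by
  apply Subgroup.map_injective H.subtype_injective
  rw [MonoidHom.map_closure, TRANS_map_subgroupOf hT, ← h]
  congr 1
  ext x
  constructor
  · rintro ⟨_, ⟨a, ha, rfl⟩, rfl⟩
    exact ⟨(a : 𝔾), Subgroup.mem_subgroupOf.mp ha, rfl⟩
  · rintro ⟨a, ha, rfl⟩
    exact ⟨_, ⟨⟨a, hA ha⟩, Subgroup.mem_subgroupOf.mpr ha, rfl⟩, rfl⟩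

/-- the commutator case passes to the family inside the generated subgroup -/
theorem TRANS_cc {S : Set (Subgroup 𝔾)} {A B : Subgroup 𝔾} (hA : A ∈ S) (hB : B ∈ S)
    (h : RootCommutatorCase S A B) :
    RootCommutatorCase (Helper2.RootSub.Sub S) (A.subgroupOf (⨆ B ∈ S, B)) (B.subgroupOf (⨆ B ∈ S, B)) := by
  obtain ⟨h1, h2, h3, h4⟩ := h
  have hA' := le_gen hA
  have hB' := le_gen hB
  have hT' := le_gen h1
  refine ⟨?_, ?_, ?_, ?_⟩
  · rw [TRANS_comm hA' hB']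
    exact ⟨_, h1, rfl⟩
  · intro c hc x hx
    rw [TRANS_comm hA' hB'] at hc
    have hx' : (x : 𝔾) ∈ A ⊔ B := by
      have : x ∈ (A ⊔ B).subgroupOf (⨆ B ∈ S, B) := by
        rw [Subgroup.subgroupOf_sup hA' hB']; exact hx
      exact Subgroup.mem_subgroupOf.mp this
    exact Subtype.ext (h2 c (Subgroup.mem_subgroupOf.mp hc) x hx')
  · intro a ha ha1
    rw [TRANS_comm hA' hB']
    exact TRANS_closure_image a hB' hT'
      (h3 a (Subgroup.mem_subgroupOf.mp ha) (fun h0 => ha1 (Subtype.ext h0)))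
  · intro b hb hb1
    rw [TRANS_comm hA' hB']
    exact TRANS_closure_image' b hA' hT'
      (h4 b (Subgroup.mem_subgroupOf.mp hb) (fun h0 => hb1 (Subtype.ext h0)))

/-- TRANS.main: a family with the pair trichotomy is a set of abstract root subgroups of the
subgroup it generates. -/
theorem TRANS_main {S : Set (Subgroup 𝔾)}
    (hcomm : ∀ A ∈ S, IsMulCommutative A) (hne : ∀ A ∈ S, A ≠ ⊥)
    (hconj : ∀ A ∈ S, ∀ g ∈ (⨆ B ∈ S, B), conjBy A g ∈ S)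
    (hpair : ∀ A ∈ S, ∀ B ∈ S, (⁅A, B⁆ : Subgroup 𝔾) = ⊥ ∨ IsRankOnePair A B ∨ RootCommutatorCase S A B) :
    IsRootSubgroupSet (Helper2.RootSub.Sub S) := by
  refine ⟨?_, ?_, ?_, ?_, ?_⟩
  · rintro _ ⟨A, hA, rfl⟩
    refine ⟨⟨fun x y => ?_⟩⟩
    have hc := (hcomm A hA).is_comm.comm ⟨x.1.1, Subgroup.mem_subgroupOf.mp x.2⟩
      ⟨y.1.1, Subgroup.mem_subgroupOf.mp y.2⟩
    apply Subtype.ext
    apply Subtype.ext
    exact congrArg (fun z : ↥A => (z : 𝔾)) hc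
  · rintro _ ⟨A, hA, rfl⟩ hbot
    apply hne A hA
    have hbot' : A.subgroupOf (⨆ B ∈ S, B) = ⊥ := hbot
    rw [← TRANS_map_subgroupOf (le_gen hA), hbot', Subgroup.map_bot]
  · rw [eq_top_iff]
    intro x _
    have h1 : (⨆ B ∈ S, B) ≤ (⨆ A' ∈ Helper2.RootSub.Sub S, A').map (Subgroup.subtype _) := by
      apply iSup₂_le
      intro A hA a ha
      refine ⟨⟨a, le_gen hA ha⟩, ?_, rfl⟩
      have h2 : A.subgroupOf (⨆ B ∈ S, B) ≤ ⨆ A' ∈ Helper2.RootSub.Sub S, A' :=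
        le_iSup₂ (f := fun A' (_ : A' ∈ Helper2.RootSub.Sub S) => A') _ ⟨A, hA, rfl⟩
      exact h2 (Subgroup.mem_subgroupOf.mpr ha)
    obtain ⟨y, hy, hyx⟩ := h1 x.2
    have h3 : y = x := Subtype.ext hyx
    rw [← h3]; exact hy
  · rintro _ ⟨A, hA, rfl⟩ g
    rw [conjBy_subgroupOf]
    exact ⟨_, hconj A hA g.1 g.2, rfl⟩
  · rintro _ ⟨A, hA, rfl⟩ _ ⟨B, hB, rfl⟩
    rcases hpair A hA B hB with h | h | h
    · exact Or.inl ((TRANS_comm_bot (le_gen hA) (le_gen hB)).mpr h)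
    · exact Or.inr (Or.inl (TRANS_rk_down (le_gen hA) (le_gen hB) h))
    · exact Or.inr (Or.inr (TRANS_cc hA hB h))

/-- adjacency in the rank one graph transports -/
theorem TRANS_fadj {S : Set (Subgroup 𝔾)} {A B : Subgroup 𝔾} (hA : A ∈ S) (hB : B ∈ S) :
    FAdj S A B ↔ FAdj (Helper2.RootSub.Sub S) (A.subgroupOf (⨆ B ∈ S, B)) (B.subgroupOf (⨆ B ∈ S, B)) := by
  constructor
  · rintro ⟨-, -, h⟩
    exact ⟨⟨A, hA, rfl⟩, ⟨B, hB, rfl⟩, TRANS_rk_down (le_gen hA) (le_gen hB) h⟩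
  · rintro ⟨-, -, h⟩
    exact ⟨hA, hB, TRANS_rk_up (le_gen hA) (le_gen hB) h⟩

theorem TRANS_reach_down {S : Set (Subgroup 𝔾)} {A B : Subgroup 𝔾}
    (h : Relation.ReflTransGen (FAdj S) A B) :
    Relation.ReflTransGen (FAdj (Helper2.RootSub.Sub S)) (A.subgroupOf (⨆ B ∈ S, B)) (B.subgroupOf (⨆ B ∈ S, B)) := by
  refine Relation.ReflTransGen.lift (fun A : Subgroup 𝔾 => A.subgroupOf (⨆ B ∈ S, B)) ?_ A B h
  intro X Y hXY
  exact (TRANS_fadj hXY.1 hXY.2.1).mp hXY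

theorem TRANS_reach_up {S : Set (Subgroup 𝔾)} {A B : Subgroup 𝔾} (hA : A ∈ S) (hB : B ∈ S)
    (h : Relation.ReflTransGen (FAdj (Helper2.RootSub.Sub S)) (A.subgroupOf (⨆ B ∈ S, B)) (B.subgroupOf (⨆ B ∈ S, B))) :
    Relation.ReflTransGen (FAdj S) A B := by
  have key : ∀ X Y : Subgroup ↥(⨆ B ∈ S, B), FAdj (Helper2.RootSub.Sub S) X Y →
      FAdj S (X.map (Subgroup.subtype _)) (Y.map (Subgroup.subtype _)) := by
    rintro _ _ ⟨⟨X, hX, rfl⟩, ⟨Y, hY, rfl⟩, h⟩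
    rw [TRANS_map_subgroupOf (le_gen hX), TRANS_map_subgroupOf (le_gen hY)]
    exact ⟨hX, hY, TRANS_rk_up (le_gen hX) (le_gen hY) h⟩
  have := Relation.ReflTransGen.lift (fun X : Subgroup ↥(⨆ B ∈ S, B) => X.map (Subgroup.subtype _)) key _ _ h
  simp only [Function.onFun] at this
  simpa only [TRANS_map_subgroupOf (le_gen hA), TRANS_map_subgroupOf (le_gen hB)] using this

end Cfsg.Agent.QP2
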