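import Mathlib
import Cfsg.Prelude.Def_RootSubgroups
import Cfsg.Agent.Helper25.RootComm5
import Cfsg.Agent.Helper18.QP2TRANS

set_option autoImplicit false
set_option linter.unusedSectionVars false
set_option linter.unusedVariables false

/-! QUADPAIR-2 (blueprint `departures/helper18_QUADPAIR2_blueprint.md`), piece COMP (abstract part):
the connected components of the rank one graph of a set of abstract root subgroups without
isolated vertices: different components commute, a component is a class of abstract root subgroups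
of the subgroup it generates. -/

namespace Cfsg.Agent.QP2

open Cfsg Cfsg.Agent.Helper25 Cfsg.Agent.Helper2.RootSub

variable {G : Type*} [Group G] {S : Set (Subgroup G)}

theorem COMP_mem_of_reach {A B : Subgroup G} (h : Relation.ReflTransGen (FAdj S) A B) (hA : A ∈ S) :
    B ∈ S := by
  induction h with
  | refl => exact hA
  | tail _ hbc _ => exact hbc.2.1

/-- in the commutator case `A`, `B` and `⁅A, B⁆` lie in the same component -/
theorem COMP_cc (hS : IsRootSubgroupSet S) (hF : ∀ A ∈ S, ∃ E ∈ S, IsRankOnePair A E)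
    {A B : Subgroup G} (hA : A ∈ S) (hB : B ∈ S) (hc : RootCommutatorCase S A B) :
    Relation.ReflTransGen (FAdj S) A ⁅A, B⁆ ∧ Relation.ReflTransGen (FAdj S) B ⁅A, B⁆ := by
  obtain ⟨E, hE, hAE⟩ := hF A hA
  obtain ⟨K, hK, hBK⟩ := hF B hB
  obtain ⟨T', hT', hTT'⟩ := hF _ hc.1
  have h1 := root_line_reach hS hc.1 hA hT' hE hTT' hAE (cc_linePartner hS hA hc hE hAE)
  have hc' := rootCommutatorCase_symm hc
  have e : (⁅B, A⁆ : Subgroup G) = ⁅A, B⁆ := Subgroup.commutator_comm B A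
  have h2' := cc_linePartner hS hB hc' hK hBK
  rw [e] at h2'
  have h2 := root_line_reach hS hc.1 hB hT' hK hTT' hBK h2'
  exact ⟨fadj_reach_symm h1, fadj_reach_symm h2⟩

/-- members of different components commute -/
theorem COMP_comm (hS : IsRootSubgroupSet S) (hF : ∀ A ∈ S, ∃ E ∈ S, IsRankOnePair A E)
    {A B : Subgroup G} (hA : A ∈ S) (hB : B ∈ S)
    (hn : ¬ Relation.ReflTransGen (FAdj S) A B) : (⁅A, B⁆ : Subgroup G) = ⊥ := by
  rcases hS.pair A hA B hB with h | h | h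
  · exact h
  · exact absurd (Relation.ReflTransGen.single ⟨hA, hB, h⟩) hn
  · obtain ⟨h1, h2⟩ := COMP_cc hS hF hA hB h
    exact absurd (h1.trans (fadj_reach_symm h2)) hn

theorem COMP_conj (hS : IsRootSubgroupSet S) (hF : ∀ A ∈ S, ∃ E ∈ S, IsRankOnePair A E)
    {A : Subgroup G} (hA : A ∈ S) (g : G) : Relation.ReflTransGen (FAdj S) A (conjBy A g) :=
  root_reach_conj hS hF hA g

/-- a path inside `S` starting in the component `𝒞` is a path inside `𝒞` -/
theorem COMP_reach_in {A₀ X Y : Subgroup G}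
    (hX : X ∈ componentOf (FAdj S) S A₀) (h : Relation.ReflTransGen (FAdj S) X Y) :
    Relation.ReflTransGen (FAdj (componentOf (FAdj S) S A₀)) X Y := by
  induction h with
  | refl => exact Relation.ReflTransGen.refl
  | tail hab hbc ih =>
    refine Relation.ReflTransGen.tail ih ⟨?_, ?_, hbc.2.2⟩
    · exact ⟨hbc.1, hX.2.trans hab⟩
    · exact ⟨hbc.2.1, (hX.2.trans hab).trans (Relation.ReflTransGen.single hbc)⟩

/-- the facts about a family `S` of subgroups (of any group) needed for the component theory -/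
structure CompHyp (S : Set (Subgroup G)) : Prop where
  comm : ∀ A ∈ S, IsMulCommutative A
  ne_bot : ∀ A ∈ S, A ≠ ⊥
  pair : ∀ A ∈ S, ∀ B ∈ S, (⁅A, B⁆ : Subgroup G) = ⊥ ∨ IsRankOnePair A B ∨ RootCommutatorCase S A B
  conj : ∀ A ∈ S, ∀ g ∈ (⨆ B ∈ S, B), conjBy A g ∈ S ∧ Relation.ReflTransGen (FAdj S) A (conjBy A g)
  cc : ∀ A ∈ S, ∀ B ∈ S, RootCommutatorCase S A B →
    Relation.ReflTransGen (FAdj S) A ⁅A, B⁆ ∧ Relation.ReflTransGen (FAdj S) B ⁅A, B⁆
  partner : ∀ A ∈ S, ∃ E ∈ S, IsRankOnePair A E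

theorem CompHyp.of_rootSet (hS : IsRootSubgroupSet S) (hF : ∀ A ∈ S, ∃ E ∈ S, IsRankOnePair A E) :
    CompHyp S :=
  ⟨hS.commutative, hS.ne_bot, hS.pair,
    fun A hA g _ => ⟨hS.conj_mem A hA g, COMP_conj hS hF hA g⟩,
    fun A hA B hB hc => COMP_cc hS hF hA hB hc, hF⟩

theorem CompHyp.comm_of_not_reach (H : CompHyp S) {A B : Subgroup G} (hA : A ∈ S) (hB : B ∈ S)
    (hn : ¬ Relation.ReflTransGen (FAdj S) A B) : (⁅A, B⁆ : Subgroup G) = ⊥ := by
  rcases H.pair A hA B hB with h | h | h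
  · exact h
  · exact absurd (Relation.ReflTransGen.single ⟨hA, hB, h⟩) hn
  · obtain ⟨h1, h2⟩ := H.cc A hA B hB h
    exact absurd (h1.trans (fadj_reach_symm h2)) hn

theorem COMP_le_gen {A₀ : Subgroup G} :
    (⨆ B ∈ componentOf (FAdj S) S A₀, B) ≤ ⨆ B ∈ S, B :=
  iSup₂_le fun B hB => le_iSup₂_of_le B hB.1 le_rfl

/-- a component is a class of abstract root subgroups of the subgroup it generates -/
theorem COMP_class (H : CompHyp S) {A₀ : Subgroup G} (hA₀ : A₀ ∈ S) :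
    IsRootSubgroupClass (Helper2.RootSub.Sub (componentOf (FAdj S) S A₀)) ∧
      IsConnectedFamily (FAdj (Helper2.RootSub.Sub (componentOf (FAdj S) S A₀)))
        (Helper2.RootSub.Sub (componentOf (FAdj S) S A₀)) := by
  set 𝒞 := componentOf (FAdj S) S A₀ with h𝒞
  have hmem : A₀ ∈ 𝒞 := ⟨hA₀, Relation.ReflTransGen.refl⟩
  have hroot : IsRootSubgroupSet (Helper2.RootSub.Sub 𝒞) := by
    refine TRANS_main (fun A hA => H.comm A hA.1) (fun A hA => H.ne_bot A hA.1) ?_ ?_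
    · intro A hA g hg
      obtain ⟨h1, h2⟩ := H.conj A hA.1 g (COMP_le_gen hg)
      exact ⟨h1, hA.2.trans h2⟩
    · intro A hA B hB
      rcases H.pair A hA.1 B hB.1 with h | h | h
      · exact Or.inl h
      · exact Or.inr (Or.inl h)
      · refine Or.inr (Or.inr ⟨⟨h.1, hA.2.trans (H.cc A hA.1 B hB.1 h).1⟩, h.2⟩)
  have hconn : IsConnectedFamily (FAdj (Helper2.RootSub.Sub 𝒞)) (Helper2.RootSub.Sub 𝒞) := by
    rintro _ ⟨X, hX, rfl⟩ _ ⟨Y, hY, rfl⟩
    apply TRANS_reach_down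
    exact COMP_reach_in hX ((fadj_reach_symm hX.2).trans hY.2)
  refine ⟨⟨hroot, ⟨_, A₀, hmem, rfl⟩, ?_⟩, hconn⟩
  intro X hX Y hY
  exact fadj_reach_conj (hconn X hX Y hY)

/-- the component hypotheses for a family `S` of subgroups of an arbitrary group `G`, from the
pair trichotomy in `G` and conjugation invariance under the generated subgroup -/
theorem CompHyp.of_family
    (hcomm : ∀ A ∈ S, IsMulCommutative A) (hne : ∀ A ∈ S, A ≠ ⊥)
    (hconj : ∀ A ∈ S, ∀ g ∈ (⨆ B ∈ S, B), conjBy A g ∈ S)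
    (hpair : ∀ A ∈ S, ∀ B ∈ S, (⁅A, B⁆ : Subgroup G) = ⊥ ∨ IsRankOnePair A B ∨ RootCommutatorCase S A B)
    (hF : ∀ A ∈ S, ∃ E ∈ S, IsRankOnePair A E) : CompHyp S := by
  have hS' : IsRootSubgroupSet (Helper2.RootSub.Sub S) := TRANS_main hcomm hne hconj hpair
  have hF' : ∀ A' ∈ Helper2.RootSub.Sub S, ∃ E' ∈ Helper2.RootSub.Sub S, IsRankOnePair A' E' := by
    rintro _ ⟨A, hA, rfl⟩
    obtain ⟨E, hE, hAE⟩ := hF A hA
    exact ⟨_, ⟨E, hE, rfl⟩, TRANS_rk_down (le_gen hA) (le_gen hE) hAE⟩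
  refine ⟨hcomm, hne, hpair, ?_, ?_, hF⟩
  · intro A hA g hg
    refine ⟨hconj A hA g hg, ?_⟩
    have h1 := COMP_conj hS' hF' ⟨A, hA, rfl⟩ (⟨g, hg⟩ : ↥(⨆ B ∈ S, B))
    rw [conjBy_subgroupOf] at h1
    exact TRANS_reach_up hA (hconj A hA g hg) h1
  · intro A hA B hB hc
    have h1 := COMP_cc hS' hF' ⟨A, hA, rfl⟩ ⟨B, hB, rfl⟩ (TRANS_cc hA hB hc)
    rw [TRANS_comm (le_gen hA) (le_gen hB)] at h1
    exact ⟨TRANS_reach_up hA hc.1 h1.1, TRANS_reach_up hB hc.1 h1.2⟩

end Cfsg.Agent.QP2
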