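import Mathlib
import Cfsg.Prelude.Def_RootSubgroups
import Cfsg.Agent.Helper18.QP2COMP
import Cfsg.Agent.Helper23.QP2FIN
import Cfsg.Agent.S5013

set_option autoImplicit false
set_option linter.unusedSectionVars false
set_option linter.unusedVariables false

/-! QUADPAIR-2 (blueprint `departures/helper18_QUADPAIR2_blueprint.md`), piece FIN + partition:
the rank one graph of a family `S` of subgroups of `GL(M)` satisfying the component hypotheses
has finitely many connected components; they partition `S` and the subgroups they generate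
commute pairwise. -/

namespace Cfsg.Agent.QP2

open Cfsg Cfsg.Agent.Helper25 Cfsg.Agent.Helper2.RootSub

section abstract

variable {𝔾 : Type*} [Group 𝔾] {S : Set (Subgroup 𝔾)}

theorem PART_comp_eq {A B : Subgroup 𝔾} (h : Relation.ReflTransGen (FAdj S) A B) :
    componentOf (FAdj S) S A = componentOf (FAdj S) S B := by
  ext X
  constructor
  · rintro ⟨hX, hAX⟩
    exact ⟨hX, (fadj_reach_symm h).trans hAX⟩
  · rintro ⟨hX, hBX⟩
    exact ⟨hX, h.trans hBX⟩

/-- the subgroups generated by different components commute -/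
theorem PART_comm (H : CompHyp S) {A B : Subgroup 𝔾} (hA : A ∈ S) (hB : B ∈ S)
    (hn : ¬ Relation.ReflTransGen (FAdj S) A B) :
    (⁅(⨆ X ∈ componentOf (FAdj S) S A, X), (⨆ Y ∈ componentOf (FAdj S) S B, Y)⁆ : Subgroup 𝔾) = ⊥ := by
  rw [Subgroup.commutator_eq_bot_iff_le_centralizer]
  refine iSup₂_le fun X hX => ?_
  rw [← Subgroup.commutator_eq_bot_iff_le_centralizer, Subgroup.commutator_comm,
    Subgroup.commutator_eq_bot_iff_le_centralizer]
  refine iSup₂_le fun Y hY => ?_
  rw [← Subgroup.commutator_eq_bot_iff_le_centralizer]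
  apply H.comm_of_not_reach hY.1 hX.1
  intro h
  exact hn ((hX.2.trans (fadj_reach_symm h)).trans (fadj_reach_symm hY.2))

end abstract

section linear

variable {k : Type*} [Field k] {M : Type*} [AddCommGroup M] [Module k M]

local notation "GLkM" => LinearMap.GeneralLinearGroup k M

theorem PART_finite [FiniteDimensional k M] {S : Set (Subgroup GLkM)} (H : CompHyp S) :
    Finite {𝒞 : Set (Subgroup GLkM) // ∃ A ∈ S, 𝒞 = componentOf (FAdj S) S A} := by
  classical
  set ι := {𝒞 : Set (Subgroup GLkM) // ∃ A ∈ S, 𝒞 = componentOf (FAdj S) S A} with hι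
  -- choices
  have hch : ∀ i : ι, ∃ A F : Subgroup GLkM, ∃ s : GLkM, A ∈ S ∧ i.1 = componentOf (FAdj S) S A ∧
      F ∈ S ∧ IsRankOnePair A F ∧ s ∈ A ∧ s ≠ 1 := by
    rintro ⟨𝒞, A, hA, rfl⟩
    obtain ⟨F, hF, hAF⟩ := H.partner A hA
    obtain ⟨s, hs, hs1⟩ := rankOne_exists_ne_one hAF
    exact ⟨A, F, s, hA, rfl, hF, hAF, hs, hs1⟩
  choose A F s hA hi hF hAF hs hs1 using hch
  have hAi : ∀ i : ι, A i ∈ i.1 := fun i => by
    rw [hi i]; exact ⟨hA i, Relation.ReflTransGen.refl⟩
  refine FIN_finite (fun i : ι => ⨆ B ∈ i.1, B) s (fun i => le_gen (S := i.1) (hAi i) (hs i)) ?_ ?_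
  · intro i j hij x hx y hy
    have hn : ¬ Relation.ReflTransGen (FAdj S) (A i) (A j) := by
      intro h
      apply hij
      apply Subtype.ext
      rw [hi i, hi j]
      exact PART_comp_eq h
    have h1 := PART_comm H (hA i) (hA j) hn
    rw [Subgroup.commutator_eq_bot_iff_le_centralizer] at h1
    have hx' : x ∈ ⨆ X ∈ componentOf (FAdj S) S (A i), X := by
      rw [← hi i]; exact hx
    have hy' : y ∈ ⨆ X ∈ componentOf (FAdj S) S (A j), X := by
      rw [← hi j]; exact hy
    have h2 := Subgroup.mem_centralizer_iff.mp (h1 hx') y hy'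
    exact h2.symm
  · intro i
    by_contra hcon
    push Not at hcon
    have hFi : F i ∈ i.1 := by
      rw [hi i]
      exact ⟨hF i, Relation.ReflTransGen.single ⟨hA i, hF i, hAF i⟩⟩
    have hnorm : s i ∈ Subgroup.normalizer ((F i : Subgroup GLkM) : Set GLkM) := by
      apply Subgroup.centralizer_le_normalizer
      rw [Subgroup.mem_centralizer_iff]
      intro y hy
      exact hcon y (le_gen (S := i.1) hFi hy)
    have hbot := (Cfsg.Agent.S5013.result (hAF i)).2.2.1
    have : s i ∈ A i ⊓ Subgroup.normalizer ((F i : Subgroup GLkM) : Set GLkM) := ⟨hs i, hnorm⟩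
    rw [hbot] at this
    exact hs1 i (Subgroup.mem_bot.mp this)

/-- the partition of `S` into finitely many components -/
theorem PART_main [FiniteDimensional k M] {S : Set (Subgroup GLkM)} (H : CompHyp S) :
    ∃ (r : ℕ) (part : Fin r → Set (Subgroup GLkM)),
      (⋃ i, part i) = S ∧ (∀ i j, i ≠ j → Disjoint (part i) (part j)) ∧ (∀ i, (part i).Nonempty) ∧
      (∀ i j, i ≠ j → (⁅(⨆ A ∈ part i, A), (⨆ A ∈ part j, A)⁆ : Subgroup GLkM) = ⊥) ∧
      ∀ i, ∃ A₀ ∈ S, part i = componentOf (FAdj S) S A₀ := by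
  classical
  have := PART_finite H
  obtain ⟨r, ⟨e⟩⟩ := Finite.exists_equiv_fin
    {𝒞 : Set (Subgroup GLkM) // ∃ A ∈ S, 𝒞 = componentOf (FAdj S) S A}
  refine ⟨r, fun i => (e.symm i).1, ?_, ?_, ?_, ?_, ?_⟩ <;> beta_reduce
  · ext X
    simp only [Set.mem_iUnion]
    constructor
    · rintro ⟨i, hX⟩
      obtain ⟨A, hA, hi⟩ := (e.symm i).2
      rw [hi] at hX
      exact hX.1
    · intro hX
      refine ⟨e ⟨componentOf (FAdj S) S X, X, hX, rfl⟩, ?_⟩
      rw [Equiv.symm_apply_apply]
      exact ⟨hX, Relation.ReflTransGen.refl⟩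
  · intro i j hij
    rw [Set.disjoint_left]
    intro X hXi hXj
    apply hij
    obtain ⟨A, hA, hi⟩ := (e.symm i).2
    obtain ⟨B, hB, hj⟩ := (e.symm j).2
    rw [hi] at hXi
    rw [hj] at hXj
    have h1 : (e.symm i).1 = (e.symm j).1 := by
      rw [hi, hj]
      exact PART_comp_eq (hXi.2.trans (fadj_reach_symm hXj.2))
    exact e.symm.injective (Subtype.ext h1)
  · intro i
    obtain ⟨A, hA, hi⟩ := (e.symm i).2
    exact ⟨A, by rw [hi]; exact ⟨hA, Relation.ReflTransGen.refl⟩⟩
  · intro i j hij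
    obtain ⟨A, hA, hi⟩ := (e.symm i).2
    obtain ⟨B, hB, hj⟩ := (e.symm j).2
    simp only [hi, hj]
    apply PART_comm H hA hB
    intro h
    apply hij
    have h1 : (e.symm i).1 = (e.symm j).1 := by
      rw [hi, hj]
      exact PART_comp_eq h
    exact e.symm.injective (Subtype.ext h1)
  · intro i
    obtain ⟨A, hA, hi⟩ := (e.symm i).2
    exact ⟨A, hA, hi⟩

end linear

end Cfsg.Agent.QP2
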