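import Mathlib
import Cfsg.Prelude.Def_RootSubgroups
import Cfsg.Agent.Helper25.RootComm5
import Cfsg.Agent.Helper18.QP2TRANS
import Cfsg.Agent.S5013
import Cfsg.Agent.S5017

set_option autoImplicit false
set_option linter.unusedSectionVars false
set_option linter.unusedVariables false

/-! QUADPAIR-2 (blueprint `departures/helper18_QUADPAIR2_blueprint.md`), piece QS.a-d (abstract part):
in a group generated by a class `𝒟` of abstract root subgroups in which every member has a rank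
one partner and every rank one group `⟨A, B⟩` is perfect, a proper normal subgroup `N` satisfies
`⁅E, nEn⁻¹⁆ = ⊥` for all `E ∈ 𝒟`, `n ∈ N`. -/

namespace Cfsg.Agent.QP2

open Cfsg Cfsg.Agent.Helper25 Cfsg.Agent.Helper2.RootSub Cfsg.Agent.Helper2.RootGeneric

variable {Γ : Type*} [Group Γ] {𝒟 : Set (Subgroup Γ)}

/-- QS.a: a normal subgroup containing a member of a class of root subgroups is everything -/
theorem QSA_top (hS : IsRootSubgroupSet 𝒟) (hcl : IsConjClassOfSubgroups 𝒟)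
    {N : Subgroup Γ} (hN : N.Normal) {E : Subgroup Γ} (hE : E ∈ 𝒟) (hEN : E ≤ N) : N = ⊤ := by
  rw [eq_top_iff, ← hS.generates]
  refine iSup₂_le fun B hB => ?_
  obtain ⟨g, rfl⟩ := hcl.2 E hE B hB
  rintro _ ⟨x, hx, rfl⟩
  exact hN.conj_mem x (hEN hx) g

/-- QS.b: `N ⊓ X` is central in a perfect rank one group `X = ⟨E, F⟩` -/
theorem QSA_central (hS : IsRootSubgroupSet 𝒟) (hcl : IsConjClassOfSubgroups 𝒟)
    {N : Subgroup Γ} (hN : N.Normal) (hne : N ≠ ⊤) {E F : Subgroup Γ} (hE : E ∈ 𝒟) (hF : F ∈ 𝒟)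
    (hEF : IsRankOnePair E F) (hperf : (⁅E ⊔ F, E ⊔ F⁆ : Subgroup Γ) = E ⊔ F) :
    ∀ z ∈ N, z ∈ E ⊔ F → ∀ x ∈ E ⊔ F, z * x = x * z := by
  set X : Subgroup Γ := E ⊔ F with hX
  have hEX : E ≤ X := le_sup_left
  have hFX : F ≤ X := le_sup_right
  have hrk : IsRankOneGroup ↥X (E.subgroupOf X) (F.subgroupOf X) := by
    refine ⟨?_, TRANS_rk_down hEX hFX hEF⟩
    rw [← Subgroup.subgroupOf_sup hEX hFX, Subgroup.subgroupOf_self]
  have hN' : (N.subgroupOf X).Normal := hN.subgroupOf X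
  rcases (Cfsg.Agent.S5017.result hrk).1 (N.subgroupOf X) hN' with h | h
  · exfalso
    have := hN'
    have hc : IsMulCommutative ↥(E.subgroupOf X) := by
      refine ⟨⟨fun a b => ?_⟩⟩
      apply Subtype.ext
      apply Subtype.ext
      have := (hS.commutative E hE).is_comm.comm ⟨a.1.1, Subgroup.mem_subgroupOf.mp a.2⟩
        ⟨b.1.1, Subgroup.mem_subgroupOf.mp b.2⟩
      have := congrArg Subtype.val this
      simpa using this
    have h1 := Subgroup.Normal.commutator_le_of_self_sup_commutative_eq_top h hc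
    -- commutator ↥X = ⊤
    have h2 : (commutator ↥X).map X.subtype = X := by
      rw [commutator_def, Subgroup.map_commutator, ← MonoidHom.range_eq_map, Subgroup.range_subtype]
      exact hperf
    have h3 : X ≤ N := by
      intro x hx
      rw [← h2] at hx
      obtain ⟨y, hy, rfl⟩ := hx
      exact Subgroup.mem_subgroupOf.mp (h1 hy)
    exact hne (QSA_top hS hcl hN hE (hEX.trans h3))
  · intro z hzN hzX x hx
    have hz : (⟨z, hzX⟩ : ↥X) ∈ N.subgroupOf X := Subgroup.mem_subgroupOf.mpr hzN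
    have := Subgroup.mem_center_iff.mp (h hz) ⟨x, hx⟩
    have := congrArg Subtype.val this
    simpa using this.symm

/-- QS.c + QS.d: in a group generated by a class of abstract root subgroups with perfect rank one
groups, a proper normal subgroup `N` satisfies `⁅E, nEn⁻¹⁆ = ⊥` for `E ∈ 𝒟`, `n ∈ N` -/
theorem QSA_commute (hS : IsRootSubgroupSet 𝒟) (hcl : IsConjClassOfSubgroups 𝒟)
    (hF : ∀ A ∈ 𝒟, ∃ E ∈ 𝒟, IsRankOnePair A E)
    (hperf : ∀ A ∈ 𝒟, ∀ B ∈ 𝒟, IsRankOnePair A B → (⁅A ⊔ B, A ⊔ B⁆ : Subgroup Γ) = A ⊔ B)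
    {N : Subgroup Γ} (hN : N.Normal) (hne : N ≠ ⊤) :
    ∀ E ∈ 𝒟, ∀ n ∈ N, (⁅E, conjBy E n⁆ : Subgroup Γ) = ⊥ := by
  intro E hE n hn
  have hE' : conjBy E n ∈ 𝒟 := hS.conj_mem E hE n
  have hEc : ∀ x ∈ E, ∀ y ∈ E, x * y = y * x := by
    intro x hx y hy
    have := (hS.commutative E hE).is_comm.comm ⟨x, hx⟩ ⟨y, hy⟩
    exact congrArg Subtype.val this
  have hE'c : ∀ x ∈ conjBy E n, ∀ y ∈ conjBy E n, x * y = y * x := by
    intro x hx y hy
    have := (hS.commutative _ hE').is_comm.comm ⟨x, hx⟩ ⟨y, hy⟩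
    exact congrArg Subtype.val this
  rcases hS.pair E hE _ hE' with h | h | h
  · exact h
  · -- rank one case
    exfalso
    obtain ⟨e, he, he1⟩ := rankOne_exists_ne_one h
    have hen : n * e * n⁻¹ ∈ conjBy E n := conj_mem_conjBy he
    set z : Γ := n * e * n⁻¹ * e⁻¹ with hz
    have hzN : z ∈ N := by
      have : z = n * (e * n⁻¹ * e⁻¹) := by rw [hz]; group
      rw [this]
      exact N.mul_mem hn (hN.conj_mem _ (N.inv_mem hn) e)
    have hzX : z ∈ E ⊔ conjBy E n :=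
      Subgroup.mul_mem _ (Subgroup.mem_sup_right hen) (Subgroup.mem_sup_left (E.inv_mem he))
    have hcen := QSA_central hS hcl hN hne hE hE' h (hperf E hE _ hE' h) z hzN hzX
    -- e centralises conjBy E n
    have hcomm : ∀ y ∈ conjBy E n, e * y = y * e := by
      intro y hy
      have h1 := hcen y (Subgroup.mem_sup_right hy)
      have h2 := hE'c _ hen y hy
      -- z * y = y * z, z = (n e n⁻¹) e⁻¹
      have h3 : n * e * n⁻¹ * (e⁻¹ * y) = n * e * n⁻¹ * (y * e⁻¹) := by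
        calc n * e * n⁻¹ * (e⁻¹ * y) = z * y := by rw [hz]; group
          _ = y * z := h1
          _ = y * (n * e * n⁻¹) * e⁻¹ := by rw [hz]; group
          _ = n * e * n⁻¹ * y * e⁻¹ := by rw [h2]
          _ = n * e * n⁻¹ * (y * e⁻¹) := by group
      have h4 : e⁻¹ * y = y * e⁻¹ := mul_left_cancel h3
      calc e * y = e * (y * e⁻¹) * e := by group
        _ = e * (e⁻¹ * y) * e := by rw [h4]
        _ = y * e := by group
    have hnorm : e ∈ Subgroup.normalizer ((conjBy E n : Subgroup Γ) : Set Γ) := by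
      apply Subgroup.centralizer_le_normalizer
      rw [Subgroup.mem_centralizer_iff]
      intro y hy
      exact (hcomm y hy).symm
    have hbot := (Cfsg.Agent.S5013.result h).2.2.1
    have : e ∈ E ⊓ Subgroup.normalizer ((conjBy E n : Subgroup Γ) : Set Γ) := ⟨he, hnorm⟩
    rw [hbot] at this
    exact he1 (Subgroup.mem_bot.mp this)
  · -- commutator case
    exfalso
    obtain ⟨hT, hTc, hcl1, hcl2⟩ := h
    set T : Subgroup Γ := ⁅E, conjBy E n⁆ with hTdef
    have hTne : T ≠ ⊥ := hS.ne_bot T hT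
    obtain ⟨a, ha, ha1⟩ : ∃ a ∈ E, a ≠ 1 := by
      by_contra hcon
      push Not at hcon
      apply hS.ne_bot E hE
      rw [eq_bot_iff]
      intro x hx
      exact Subgroup.mem_bot.mpr (hcon x hx)
    -- some commutator a b a⁻¹ b⁻¹ ≠ 1
    obtain ⟨b, hb, hab⟩ : ∃ b ∈ conjBy E n, a * b * a⁻¹ * b⁻¹ ≠ 1 := by
      by_contra hcon
      push Not at hcon
      apply hTne
      rw [← hcl1 a ha ha1, Subgroup.closure_eq_bot_iff]
      rintro _ ⟨b, hb, rfl⟩
      exact Set.mem_singleton_iff.mpr (hcon b hb)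
    obtain ⟨e₁, he₁, rfl⟩ := hb
    have hbe : (MulAut.conj n).toMonoidHom e₁ = n * e₁ * n⁻¹ := by simp
    rw [hbe] at hab
    set c : Γ := a * (n * e₁ * n⁻¹) * a⁻¹ * (n * e₁ * n⁻¹)⁻¹ with hc
    have hcT : c ∈ T := by
      rw [hTdef]
      exact Subgroup.commutator_mem_commutator ha (conj_mem_conjBy he₁)
    set z : Γ := n * e₁ * n⁻¹ * e₁⁻¹ with hz
    have hzN : z ∈ N := by
      have : z = n * (e₁ * n⁻¹ * e₁⁻¹) := by rw [hz]; group
      rw [this]
      exact N.mul_mem hn (hN.conj_mem _ (N.inv_mem hn) e₁)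
    have hcz : c = a * z * a⁻¹ * z⁻¹ := by
      have h1 : e₁ * a⁻¹ = a⁻¹ * e₁ := hEc e₁ he₁ a⁻¹ (E.inv_mem ha)
      have h2 : n * e₁ * n⁻¹ = z * e₁ := by rw [hz]; group
      calc c = a * (z * e₁) * a⁻¹ * (z * e₁)⁻¹ := by rw [hc, h2]
        _ = a * z * (e₁ * a⁻¹) * e₁⁻¹ * z⁻¹ := by group
        _ = a * z * (a⁻¹ * e₁) * e₁⁻¹ * z⁻¹ := by rw [h1]
        _ = a * z * a⁻¹ * z⁻¹ := by group
    have hcN : c ∈ N := by
      rw [hcz]
      exact N.mul_mem (hN.conj_mem z hzN a) (N.inv_mem hzN)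
    obtain ⟨T', hT', hTT'⟩ := hF T hT
    have hcen := QSA_central hS hcl hN hne hT hT' hTT' (hperf T hT T' hT' hTT') c hcN
      (Subgroup.mem_sup_left hcT)
    have hnorm : c ∈ Subgroup.normalizer ((T' : Subgroup Γ) : Set Γ) := by
      apply Subgroup.centralizer_le_normalizer
      rw [Subgroup.mem_centralizer_iff]
      intro y hy
      exact (hcen y (Subgroup.mem_sup_right hy)).symm
    have hbot := (Cfsg.Agent.S5013.result hTT').2.2.1
    have : c ∈ T ⊓ Subgroup.normalizer ((T' : Subgroup Γ) : Set Γ) := ⟨hcT, hnorm⟩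
    rw [hbot] at this
    exact hab (Subgroup.mem_bot.mp this)

end Cfsg.Agent.QP2
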