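import Mathlib
import Cfsg.Prelude.Def_RootSubgroups
import Cfsg.Agent.Helper25.UnipFamily
import Cfsg.Agent.S5061
import Cfsg.Agent.Helper25.RankOne

set_option autoImplicit false
set_option linter.unusedSectionVars false
set_option linter.unusedVariables false

/-! QUADPAIR-2 (blueprint `departures/helper18_QUADPAIR2_blueprint.md`), piece UNI:
generic facts on unipotent subgroups of `GL(M)`: fixed vectors, irreducibility kills normal
unipotent subgroups, lifting a normal unipotent subgroup along `H ⊴ H'`. -/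

namespace Cfsg.Agent.QP2

open Cfsg Cfsg.Agent.Helper25.Unip Cfsg.Agent.Helper25

variable {k : Type*} [Field k] {M : Type*} [AddCommGroup M] [Module k M]

local notation "GLkM" => LinearMap.GeneralLinearGroup k M

theorem UNI_mono {H K : Subgroup GLkM} (hKH : K ≤ H) (h : IsUnipotentOn H) : IsUnipotentOn K :=
  isUnipotentOn_of_aug_le (aug_mono hKH) h

/-- a unipotent group on a nonzero space has a nonzero fixed vector -/
theorem UNI_fixed {U : Subgroup GLkM} (hU : IsUnipotentOn U) (hM : ∃ m : M, m ≠ 0) :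
    fixedSubmodule U ≠ ⊥ := by
  classical
  rw [isUnipotentOn_def'] at hU
  have hne : (1 : Module.End k M) ≠ 0 := by
    obtain ⟨m, hm⟩ := hM
    intro h
    apply hm
    have := congrArg (fun f : Module.End k M => f m) h
    simpa using this
  have hex : ∃ n : ℕ, ∀ l : List GLkM, (∀ g ∈ l, g ∈ U) → l.length = n →
      (l.map fun g : GLkM => ((g : Module.End k M) - 1)).prod = 0 := hU
  have hmin : ∀ {m : ℕ}, m < Nat.find hex → ¬ ∀ l : List GLkM, (∀ g ∈ l, g ∈ U) → l.length = m →
      (l.map fun g : GLkM => ((g : Module.End k M) - 1)).prod = 0 := fun {m} hm => Nat.find_min hex hm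
  have hspec := Nat.find_spec hex
  set n := Nat.find hex with hn
  have hn0 : n ≠ 0 := by
    intro h0
    have := hspec [] (by simp) (by simp [h0])
    simp at this
    exact hne this
  obtain ⟨n', hn'⟩ := Nat.exists_eq_succ_of_ne_zero hn0
  have hlt : n' < n := by omega
  have hnot := hmin hlt
  push Not at hnot
  obtain ⟨l, hlU, hlen, hP⟩ := hnot
  set P := (l.map fun g : GLkM => ((g : Module.End k M) - 1)).prod with hPdef
  have hle : LinearMap.range P ≤ fixedSubmodule U := by
    unfold fixedSubmodule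
    refine le_iInf₂ (fun g hg => ?_)
    rintro _ ⟨m, rfl⟩
    rw [LinearMap.mem_ker]
    have h1 := hspec (g :: l) (by
      intro x hx
      rcases List.mem_cons.mp hx with rfl | hx
      · exact hg
      · exact hlU x hx) (by simp [hlen, hn'])
    rw [List.map_cons, List.prod_cons] at h1
    have := congrArg (fun f : Module.End k M => f m) h1
    simpa using this
  intro hbot
  rw [hbot, le_bot_iff, LinearMap.range_eq_bot] at hle
  exact hP hle

/-- an irreducible group has no nontrivial normal unipotent subgroup -/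
theorem UNI_irr {G U : Subgroup GLkM} (hG : IsIrreducibleFor G) (hUG : U ≤ G)
    (hconj : ∀ g ∈ G, ∀ u ∈ U, g * u * g⁻¹ ∈ U) (hU : IsUnipotentOn U) : U = ⊥ := by
  have hfix := UNI_fixed hU hG.1
  have hinv : ∀ g ∈ G, ∀ w ∈ fixedSubmodule U, (g : M →ₗ[k] M) w ∈ fixedSubmodule U := by
    intro g hg w hw
    unfold fixedSubmodule at hw ⊢
    simp only [Submodule.mem_iInf] at hw ⊢
    intro u hu
    have h1 := hw (g⁻¹ * u * g) (by
      have := hconj g⁻¹ (G.inv_mem hg) u hu
      simpa using this)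
    rw [LinearMap.mem_ker, LinearMap.sub_apply, sub_eq_zero] at h1 ⊢
    have h2 : ((g⁻¹ * u * g : GLkM) : M →ₗ[k] M) w = (1 : M →ₗ[k] M) w := h1
    have h3 : (u : M →ₗ[k] M) ((g : M →ₗ[k] M) w)
        = (g : M →ₗ[k] M) (((g⁻¹ * u * g : GLkM) : M →ₗ[k] M) w) := by
      have e : (g * (g⁻¹ * u * g) : GLkM) = u * g := by group
      have := congrArg (fun x : GLkM => (x : M →ₗ[k] M) w) e
      simp only [Units.val_mul, Module.End.mul_apply] at this ⊢
      exact this.symm
    rw [h3, h2]
    rfl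
  rcases hG.2 _ hinv with h | h
  · exact absurd h hfix
  · rw [eq_bot_iff]
    intro u hu
    rw [Subgroup.mem_bot]
    apply Units.ext
    apply LinearMap.ext
    intro m
    have hm : m ∈ fixedSubmodule U := by rw [h]; trivial
    unfold fixedSubmodule at hm
    simp only [Submodule.mem_iInf] at hm
    have := hm u hu
    rw [LinearMap.mem_ker, LinearMap.sub_apply, sub_eq_zero] at this
    exact this

theorem UNI_conjBy {U : Subgroup GLkM} (hU : IsUnipotentOn U) (g : GLkM) :
    IsUnipotentOn (conjBy U g) := by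
  obtain ⟨n, hn⟩ := aug_pow_of_isUnipotentOn hU
  rw [isUnipotentOn_def'] at hU ⊢
  obtain ⟨n, hn⟩ := hU
  refine ⟨n, fun l hl hlen => ?_⟩
  -- every element of l is g * u * g⁻¹
  have key : ∀ l : List GLkM, (∀ x ∈ l, x ∈ conjBy U g) →
      ∃ l' : List GLkM, (∀ x ∈ l', x ∈ U) ∧ l'.length = l.length ∧
        (l.map fun x : GLkM => ((x : Module.End k M) - 1)).prod
          = (g : Module.End k M) * (l'.map fun x : GLkM => ((x : Module.End k M) - 1)).prod
            * ((g⁻¹ : GLkM) : Module.End k M) := by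
    intro l
    induction l with
    | nil =>
      intro _
      refine ⟨[], by simp, rfl, ?_⟩
      simp only [List.map_nil, List.prod_nil, mul_one]
      rw [← Units.val_mul, mul_inv_cancel, Units.val_one]
    | cons a l ih =>
      intro h
      obtain ⟨l', hl'U, hl'len, hl'⟩ := ih (fun x hx => h x (List.mem_cons_of_mem _ hx))
      obtain ⟨u, hu, hua⟩ := h a (by simp)
      refine ⟨u :: l', ?_, by simp [hl'len], ?_⟩
      · intro x hx
        rcases List.mem_cons.mp hx with rfl | hx
        · exact hu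
        · exact hl'U x hx
      · rw [List.map_cons, List.prod_cons, hl', List.map_cons, List.prod_cons]
        have e : ((a : GLkM) : Module.End k M) - 1
            = (g : Module.End k M) * ((u : Module.End k M) - 1) * ((g⁻¹ : GLkM) : Module.End k M) := by
          have : a = g * u * g⁻¹ := by
            rw [← hua]; rfl
          rw [this, mul_sub, sub_mul, mul_one, Units.val_mul, Units.val_mul]
          congr 1
          rw [← Units.val_mul, mul_inv_cancel, Units.val_one]
        rw [e]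
        have e2 : ((g⁻¹ : GLkM) : Module.End k M) * (g : Module.End k M) = 1 := by
          rw [← Units.val_mul, inv_mul_cancel, Units.val_one]
        simp only [mul_assoc]
        rw [← mul_assoc ((g⁻¹ : GLkM) : Module.End k M) (g : Module.End k M), e2, one_mul]
  obtain ⟨l', hl'U, hl'len, hl'⟩ := key l hl
  rw [hl', hn l' hl'U (by rw [hl'len, hlen]), mul_zero, zero_mul]


/-- the family of `H'`-conjugates of `U` -/
def UNI_conjFamily (U H' : Subgroup GLkM) : Set (Subgroup GLkM) := {A | ∃ g ∈ H', A = conjBy U g}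

/-- lifting a normal unipotent subgroup of `H` along `H ⊴ H'` -/
theorem UNI_lift [FiniteDimensional k M] {H H' U : Subgroup GLkM} (hHH' : H ≤ H')
    (hnorm : ∀ g ∈ H', ∀ h ∈ H, g * h * g⁻¹ ∈ H)
    (hUH : U ≤ H) (hUn : ∀ h ∈ H, ∀ u ∈ U, h * u * h⁻¹ ∈ U) (hU : IsUnipotentOn U) :
    IsUnipotentOn (⨆ A ∈ UNI_conjFamily U H', A) ∧
    (⨆ A ∈ UNI_conjFamily U H', A) ≤ H ∧
    (∀ g ∈ H', ∀ x ∈ (⨆ A ∈ UNI_conjFamily U H', A), g * x * g⁻¹ ∈ (⨆ A ∈ UNI_conjFamily U H', A)) ∧
    U ≤ ⨆ A ∈ UNI_conjFamily U H', A := by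
  have hle : ∀ A ∈ UNI_conjFamily U H', A ≤ H := by
    rintro _ ⟨g, hg, rfl⟩ x hx
    rw [mem_conjBy_iff] at hx
    have h1 := hnorm g hg _ (hUH hx)
    have e : g * (g⁻¹ * x * g) * g⁻¹ = x := by group
    rwa [e] at h1
  have hnormA : ∀ A ∈ UNI_conjFamily U H', ∀ h ∈ H, ∀ a ∈ A, h * a * h⁻¹ ∈ A := by
    rintro _ ⟨g, hg, rfl⟩ h hh a ha
    rw [mem_conjBy_iff] at ha ⊢
    have h1 : g⁻¹ * h * g ∈ H := by
      have := hnorm g⁻¹ (H'.inv_mem hg) h hh
      simpa using this
    have h2 := hUn _ h1 _ ha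
    have e : g⁻¹ * h * g * (g⁻¹ * a * g) * (g⁻¹ * h * g)⁻¹ = g⁻¹ * (h * a * h⁻¹) * g := by group
    rwa [e] at h2
  have hWG : ∀ A ∈ UNI_conjFamily U H', A ≤ H' := fun A hA => (hle A hA).trans hHH'
  have hWW : ∀ A ∈ UNI_conjFamily U H', ∀ B ∈ UNI_conjFamily U H', IsUnipotentOn (A ⊔ B) := by
    intro A hA B hB
    have hAu : IsUnipotentOn A := by
      obtain ⟨g, -, rfl⟩ := hA
      exact UNI_conjBy hU g
    have hBu : IsUnipotentOn B := by
      obtain ⟨g, -, rfl⟩ := hB
      exact UNI_conjBy hU g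
    exact isUnipotentOn_sup hAu hBu (fun y hy d hd => hnormA A hA y (hle B hB hy) d hd)
  have hWconj : ∀ A ∈ UNI_conjFamily U H', ∀ g ∈ H', conjBy A g ∈ UNI_conjFamily U H' := by
    rintro _ ⟨g, hg, rfl⟩ g' hg'
    exact ⟨g' * g, H'.mul_mem hg' hg, conjBy_conjBy U g g'⟩
  obtain ⟨h1, h2⟩ := Cfsg.Agent.S5061.result hWG hWW hWconj
  refine ⟨h1, iSup₂_le hle, ?_, ?_⟩
  · intro g hg x hx
    have := h2 g hg
    rw [← this]
    exact conj_mem_conjBy hx
  · exact le_iSup₂_of_le U ⟨1, H'.one_mem, (conjBy_one U).symm⟩ le_rfl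

end Cfsg.Agent.QP2
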