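import Mathlib
import Cfsg.Prelude.Def_RootSubgroups
import Cfsg.Agent.Helper18.QP2UNI

set_option autoImplicit false
set_option linter.unusedSectionVars false
set_option linter.unusedVariables false

/-! QUADPAIR-2 (blueprint `departures/helper18_QUADPAIR2_blueprint.md`), piece QS.e-f (linear part of
quasisimplicity): if `N ⊴ L ⊴ G₀ ⊴ G`, `G` irreducible, and `E ≤ L` is such that all `N`-conjugates of `E`
pairwise generate unipotent groups, then `E` centralises `N`. -/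

namespace Cfsg.Agent.QP2

open Cfsg Cfsg.Agent.Helper25.Unip Cfsg.Agent.Helper25
open scoped commutatorElement

variable {k : Type*} [Field k] {M : Type*} [AddCommGroup M] [Module k M]

local notation "GLkM" => LinearMap.GeneralLinearGroup k M

theorem QSL_central [FiniteDimensional k M] {G G₀ L N E : Subgroup GLkM} (hG : IsIrreducibleFor G)
    (hG₀G : G₀ ≤ G) (hG₀n : ∀ g ∈ G, ∀ x ∈ G₀, g * x * g⁻¹ ∈ G₀)
    (hLG₀ : L ≤ G₀) (hLn : ∀ g ∈ G₀, ∀ x ∈ L, g * x * g⁻¹ ∈ L)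
    (hNL : N ≤ L) (hNn : ∀ l ∈ L, ∀ n ∈ N, l * n * l⁻¹ ∈ N)
    (hEL : E ≤ L)
    (hpair : ∀ n ∈ N, ∀ n' ∈ N, IsUnipotentOn (conjBy E n ⊔ conjBy E n')) :
    ∀ e ∈ E, ∀ n ∈ N, e * n = n * e := by
  -- the family of N-conjugates of E inside the group E ⊔ N
  set W : Set (Subgroup GLkM) := {A | ∃ n ∈ N, A = conjBy E n} with hW
  have hcomm_mem : ∀ e ∈ E, ∀ n ∈ N, e * n * e⁻¹ * n⁻¹ ∈ N := fun e he n hn =>
    N.mul_mem (hNn e (hEL he) n hn) (N.inv_mem hn)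
  have hWG : ∀ A ∈ W, A ≤ E ⊔ N := by
    rintro _ ⟨n, hn, rfl⟩ x hx
    rw [mem_conjBy_iff] at hx
    have e1 : x = n * (n⁻¹ * x * n) * n⁻¹ := by group
    rw [e1]
    exact Subgroup.mul_mem _ (Subgroup.mul_mem _ (Subgroup.mem_sup_right hn) (Subgroup.mem_sup_left hx))
      (Subgroup.inv_mem _ (Subgroup.mem_sup_right hn))
  have hWW : ∀ A ∈ W, ∀ B ∈ W, IsUnipotentOn (A ⊔ B) := by
    rintro _ ⟨n, hn, rfl⟩ _ ⟨n', hn', rfl⟩
    exact hpair n hn n' hn'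
  -- every element of E ⊔ N is n * e
  have hEN : ∀ g ∈ E ⊔ N, ∃ n ∈ N, ∃ e ∈ E, g = n * e := by
    let P : Subgroup GLkM :=
      { carrier := {g | ∃ n ∈ N, ∃ e ∈ E, g = n * e}
        one_mem' := ⟨1, N.one_mem, 1, E.one_mem, by simp⟩
        mul_mem' := by
          rintro x y ⟨n, hn, e, he, rfl⟩ ⟨n', hn', e', he', rfl⟩
          refine ⟨n * (e * n' * e⁻¹), N.mul_mem hn (hNn e (hEL he) n' hn'), e * e', E.mul_mem he he', ?_⟩
          group
        inv_mem' := by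
          rintro x ⟨n, hn, e, he, rfl⟩
          refine ⟨e⁻¹ * n⁻¹ * e⁻¹⁻¹, ?_, e⁻¹, E.inv_mem he, by group⟩
          exact hNn e⁻¹ (hEL (E.inv_mem he)) n⁻¹ (N.inv_mem hn) }
    have hle : E ⊔ N ≤ P := by
      refine sup_le ?_ ?_
      · intro x hx
        exact ⟨1, N.one_mem, x, hx, by simp⟩
      · intro x hx
        exact ⟨x, hx, 1, E.one_mem, by simp⟩
    intro g hg
    exact hle hg
  have hWconj : ∀ A ∈ W, ∀ g ∈ E ⊔ N, conjBy A g ∈ W := by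
    rintro _ ⟨n, hn, rfl⟩ g hg
    obtain ⟨n', hn', e, he, hgn⟩ := hEN (g * n) (Subgroup.mul_mem _ hg (Subgroup.mem_sup_right hn))
    refine ⟨n', hn', ?_⟩
    rw [conjBy_conjBy, hgn, ← conjBy_conjBy, conjBy_eq_self_of_mem he]
  obtain ⟨hV, -⟩ := Cfsg.Agent.S5061.result hWG hWW hWconj
  -- U := ⁅E, N⁆
  have hUV : (⁅E, N⁆ : Subgroup GLkM) ≤ ⨆ A ∈ W, A := by
    rw [Subgroup.commutator_le]
    intro e he n hn
    have h1 : e ∈ ⨆ A ∈ W, A :=
      (le_iSup₂_of_le E ⟨1, N.one_mem, (conjBy_one E).symm⟩ le_rfl : E ≤ ⨆ A ∈ W, A) he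
    have h2 : n * e⁻¹ * n⁻¹ ∈ ⨆ A ∈ W, A :=
      (le_iSup₂_of_le (conjBy E n) ⟨n, hn, rfl⟩ le_rfl : conjBy E n ≤ ⨆ A ∈ W, A)
        (conj_mem_conjBy (E.inv_mem he))
    have e1 : ⁅e, n⁆ = e * (n * e⁻¹ * n⁻¹) := by
      rw [commutatorElement_def]; group
    rw [e1]
    exact Subgroup.mul_mem _ h1 h2
  have hU : IsUnipotentOn (⁅E, N⁆ : Subgroup GLkM) := UNI_mono hUV hV
  have hUN : (⁅E, N⁆ : Subgroup GLkM) ≤ N := by
    rw [Subgroup.commutator_le]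
    intro e he n hn
    rw [commutatorElement_def]
    exact hcomm_mem e he n hn
  have hUnorm : ∀ n ∈ N, ∀ u ∈ (⁅E, N⁆ : Subgroup GLkM), n * u * n⁻¹ ∈ (⁅E, N⁆ : Subgroup GLkM) := by
    intro n hn u hu
    -- conjugation by n maps ⁅E,N⁆ into itself
    have hle : (⁅E, N⁆ : Subgroup GLkM) ≤
        (⁅E, N⁆ : Subgroup GLkM).comap (MulAut.conj n).toMonoidHom := by
      rw [Subgroup.commutator_le]
      intro e he m hm
      rw [Subgroup.mem_comap]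
      show n * ⁅e, m⁆ * n⁻¹ ∈ _
      have e1 : n * ⁅e, m⁆ * n⁻¹ = ⁅e, n⁆⁻¹ * ⁅e, n * m⁆ := by
        simp only [commutatorElement_def]; group
      rw [e1]
      exact Subgroup.mul_mem _ (Subgroup.inv_mem _ (Subgroup.commutator_mem_commutator he hn))
        (Subgroup.commutator_mem_commutator he (N.mul_mem hn hm))
    exact hle hu
  -- lift three times
  obtain ⟨h1u, h1le, h1n, h1U⟩ := UNI_lift hNL hNn hUN hUnorm hU
  obtain ⟨h2u, h2le, h2n, h2U⟩ := UNI_lift hLG₀ hLn (h1le.trans hNL)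
    (fun l hl x hx => h1n l hl x hx) h1u
  obtain ⟨h3u, h3le, h3n, h3U⟩ := UNI_lift hG₀G hG₀n (h2le.trans hLG₀)
    (fun g hg x hx => h2n g hg x hx) h2u
  have hbot := UNI_irr hG (h3le.trans hG₀G) h3n h3u
  intro e he n hn
  have h4 : ⁅e, n⁆ ∈ (⊥ : Subgroup GLkM) := by
    rw [← hbot]
    exact h3U (h2U (h1U (Subgroup.commutator_mem_commutator he hn)))
  rw [Subgroup.mem_bot, commutatorElement_eq_one_iff_mul_comm] at h4
  exact h4

end Cfsg.Agent.QP2
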