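import Mathlib
import Cfsg.Prelude.Def_RootSubgroups
import Cfsg.Agent.Helper18.QP2COMP
import Cfsg.Agent.Helper18.QP2QSA
import Cfsg.Agent.Helper18.QP2QSL
import Cfsg.Agent.Helper9.S5033QS

set_option autoImplicit false
set_option linter.unusedSectionVars false
set_option linter.unusedVariables false

/-! QUADPAIR-2 (blueprint `departures/helper18_QUADPAIR2_blueprint.md`), piece QS: the subgroup generated
by a connected component of the rank one graph is quasisimple. -/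

namespace Cfsg.Agent.QP2

open Cfsg Cfsg.Agent.Helper25 Cfsg.Agent.Helper2.RootSub Cfsg.Agent.Helper2.RootGeneric

section abstract

variable {𝔾 : Type*} [Group 𝔾] {S : Set (Subgroup 𝔾)}

theorem QS_partner_mem (H : CompHyp S) {A₀ A E : Subgroup 𝔾}
    (hA : A ∈ componentOf (FAdj S) S A₀) (hE : E ∈ S) (hAE : IsRankOnePair A E) :
    E ∈ componentOf (FAdj S) S A₀ :=
  ⟨hE, hA.2.trans (Relation.ReflTransGen.single ⟨hA.1, hE, hAE⟩)⟩

theorem QS_conj_mem (H : CompHyp S) {A₀ A : Subgroup 𝔾}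
    (hA : A ∈ componentOf (FAdj S) S A₀) {g : 𝔾} (hg : g ∈ ⨆ B ∈ S, B) :
    conjBy A g ∈ componentOf (FAdj S) S A₀ :=
  ⟨(H.conj A hA.1 g hg).1, hA.2.trans (H.conj A hA.1 g hg).2⟩

/-- QS.a-d transferred to a component: a proper subgroup `N` of `L = ⨆ 𝒞` normalised by `L`
satisfies `⁅E, nEn⁻¹⁆ = ⊥` for `E ∈ 𝒞`, `n ∈ N` -/
theorem QS_commute (H : CompHyp S) {A₀ : Subgroup 𝔾} (hA₀ : A₀ ∈ S)
    (hperf : ∀ A ∈ S, ∀ B ∈ S, IsRankOnePair A B → (⁅A ⊔ B, A ⊔ B⁆ : Subgroup 𝔾) = A ⊔ B)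
    {N : Subgroup 𝔾} (hNL : N ≤ ⨆ B ∈ componentOf (FAdj S) S A₀, B)
    (hNn : (⨆ B ∈ componentOf (FAdj S) S A₀, B) ≤ Subgroup.normalizer (N : Set 𝔾))
    (hne : N ≠ ⨆ B ∈ componentOf (FAdj S) S A₀, B) :
    ∀ E ∈ componentOf (FAdj S) S A₀, ∀ n ∈ N, (⁅E, conjBy E n⁆ : Subgroup 𝔾) = ⊥ := by
  set 𝒞 := componentOf (FAdj S) S A₀ with h𝒞
  set L : Subgroup 𝔾 := ⨆ B ∈ 𝒞, B with hL
  obtain ⟨⟨hroot, hcl⟩, -⟩ := COMP_class H hA₀
  have hleL : ∀ A ∈ 𝒞, A ≤ L := fun A hA => le_gen hA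
  have hF' : ∀ A' ∈ Helper2.RootSub.Sub 𝒞, ∃ E' ∈ Helper2.RootSub.Sub 𝒞, IsRankOnePair A' E' := by
    rintro _ ⟨A, hA, rfl⟩
    obtain ⟨E, hE, hAE⟩ := H.partner A hA.1
    have hE𝒞 : E ∈ 𝒞 := QS_partner_mem H hA hE hAE
    exact ⟨_, ⟨E, hE𝒞, rfl⟩, TRANS_rk_down (hleL A hA) (hleL E hE𝒞) hAE⟩
  have hperf' : ∀ A' ∈ Helper2.RootSub.Sub 𝒞, ∀ B' ∈ Helper2.RootSub.Sub 𝒞, IsRankOnePair A' B' →
      (⁅A' ⊔ B', A' ⊔ B'⁆ : Subgroup ↥L) = A' ⊔ B' := by
    rintro _ ⟨A, hA, rfl⟩ _ ⟨B, hB, rfl⟩ hAB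
    have hAB' : IsRankOnePair A B := TRANS_rk_up (hleL A hA) (hleL B hB) hAB
    have h1 := hperf A hA.1 B hB.1 hAB'
    have hle : A ⊔ B ≤ L := sup_le (hleL A hA) (hleL B hB)
    rw [← Subgroup.subgroupOf_sup (hleL A hA) (hleL B hB), TRANS_comm hle hle, h1]
  have hN' : (N.subgroupOf L).Normal := Subgroup.normal_subgroupOf_of_le_normalizer hNn
  have hne' : N.subgroupOf L ≠ ⊤ := by
    intro h
    rw [Subgroup.subgroupOf_eq_top] at h
    exact hne (le_antisymm hNL h)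
  intro E hE n hn
  have h1 := QSA_commute hroot hcl hF' hperf' hN' hne' (E.subgroupOf L) ⟨E, hE, rfl⟩
    ⟨n, hNL hn⟩ (Subgroup.mem_subgroupOf.mpr hn)
  rw [conjBy_subgroupOf] at h1
  have hconjL : conjBy E n ≤ L := by
    rintro _ ⟨x, hx, rfl⟩
    have : (MulAut.conj n).toMonoidHom x = n * x * n⁻¹ := by simp
    rw [this]
    exact L.mul_mem (L.mul_mem (hNL hn) (hleL E hE hx)) (L.inv_mem (hNL hn))
  exact (TRANS_comm_bot (hleL E hE) hconjL).mp h1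

/-- the subgroup generated by a component is perfect -/
theorem QS_perfect (H : CompHyp S) {A₀ : Subgroup 𝔾} (hA₀ : A₀ ∈ S)
    (hperf : ∀ A ∈ S, ∀ B ∈ S, IsRankOnePair A B → (⁅A ⊔ B, A ⊔ B⁆ : Subgroup 𝔾) = A ⊔ B) :
    (⁅(⨆ B ∈ componentOf (FAdj S) S A₀, B), (⨆ B ∈ componentOf (FAdj S) S A₀, B)⁆ : Subgroup 𝔾) =
      ⨆ B ∈ componentOf (FAdj S) S A₀, B := by
  apply le_antisymm (Subgroup.commutator_le_self _)
  refine iSup₂_le fun A hA => ?_
  obtain ⟨E, hE, hAE⟩ := H.partner A hA.1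
  have hE𝒞 := QS_partner_mem H hA hE hAE
  have hle : A ⊔ E ≤ ⨆ B ∈ componentOf (FAdj S) S A₀, B := sup_le (le_gen hA) (le_gen hE𝒞)
  calc A ≤ A ⊔ E := le_sup_left
    _ = ⁅A ⊔ E, A ⊔ E⁆ := (hperf A hA.1 E hE hAE).symm
    _ ≤ _ := Subgroup.commutator_mono hle hle

end abstract

section linear

variable {k : Type*} [Field k] {M : Type*} [AddCommGroup M] [Module k M]

local notation "GLkM" => LinearMap.GeneralLinearGroup k M

/-- QS: the subgroup generated by a component of the rank one graph of a family `S` of subgroups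
of an irreducible linear group `G` (invariant under `G`, with commuting members generating
unipotent groups and perfect rank one groups) is quasisimple -/
theorem QS_main [FiniteDimensional k M] {G : Subgroup GLkM} (hG : IsIrreducibleFor G)
    {S : Set (Subgroup GLkM)} (H : CompHyp S) (hSG : ∀ A ∈ S, A ≤ G)
    (hSconj : ∀ A ∈ S, ∀ g ∈ G, conjBy A g ∈ S)
    (hperf : ∀ A ∈ S, ∀ B ∈ S, IsRankOnePair A B → (⁅A ⊔ B, A ⊔ B⁆ : Subgroup GLkM) = A ⊔ B)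
    (hunip : ∀ A ∈ S, ∀ B ∈ S, (⁅A, B⁆ : Subgroup GLkM) = ⊥ → IsUnipotentOn (A ⊔ B))
    {A₀ : Subgroup GLkM} (hA₀ : A₀ ∈ S) :
    IsQuasisimple ↥(⨆ B ∈ componentOf (FAdj S) S A₀, B) := by
  set 𝒞 := componentOf (FAdj S) S A₀ with h𝒞
  set L : Subgroup GLkM := ⨆ B ∈ 𝒞, B with hL
  set G₀ : Subgroup GLkM := ⨆ B ∈ S, B with hG₀
  have hmem : A₀ ∈ 𝒞 := ⟨hA₀, Relation.ReflTransGen.refl⟩
  have hleL : ∀ A ∈ 𝒞, A ≤ L := fun A hA => le_gen hA
  have hLG₀ : L ≤ G₀ := COMP_le_gen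
  have hG₀G : G₀ ≤ G := iSup₂_le hSG
  have hG₀n : ∀ g ∈ G, ∀ x ∈ G₀, g * x * g⁻¹ ∈ G₀ := by
    intro g hg x hx
    have h1 : conjBy G₀ g ≤ G₀ := by
      rw [hG₀]
      unfold conjBy
      rw [Subgroup.map_iSup]
      refine iSup_le fun B => ?_
      rw [Subgroup.map_iSup]
      refine iSup_le fun hB => ?_
      exact le_gen (hSconj B hB g hg)
    exact h1 (conj_mem_conjBy hx)
  have hLn : ∀ g ∈ G₀, ∀ x ∈ L, g * x * g⁻¹ ∈ L := by
    intro g hg x hx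
    have h1 : conjBy L g ≤ L := by
      rw [hL]
      unfold conjBy
      rw [Subgroup.map_iSup]
      refine iSup_le fun B => ?_
      rw [Subgroup.map_iSup]
      refine iSup_le fun hB => ?_
      exact le_gen (QS_conj_mem H hB hg)
    exact h1 (conj_mem_conjBy hx)
  refine Cfsg.Agent.S5033P.QS ?_ (QS_perfect H hA₀ hperf) ?_
  · intro h
    apply H.ne_bot A₀ hA₀
    rw [eq_bot_iff, ← h]
    exact hleL A₀ hmem
  · intro K hKL hKn
    by_cases hne : K = L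
    · exact Or.inl hne
    right
    have hcomm := QS_commute H hA₀ hperf hKL hKn hne
    have hKn' : ∀ l ∈ L, ∀ n ∈ K, l * n * l⁻¹ ∈ K := Subgroup.le_normalizer_iff.mp hKn
    -- every member of 𝒞 centralises K
    have hcen : ∀ E ∈ 𝒞, ∀ e ∈ E, ∀ n ∈ K, e * n = n * e := by
      intro E hE
      refine QSL_central hG hG₀G hG₀n hLG₀ hLn hKL hKn' (hleL E hE) ?_
      intro n hn n' hn'
      have hEn : conjBy E n ∈ 𝒞 := QS_conj_mem H hE (hLG₀ (hKL hn))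
      have hEn' : conjBy E n' ∈ 𝒞 := QS_conj_mem H hE (hLG₀ (hKL hn'))
      have h1 := hcomm (conjBy E n) hEn (n' * n⁻¹) (K.mul_mem hn' (K.inv_mem hn))
      rw [conjBy_conjBy] at h1
      have h2 : n' * n⁻¹ * n = n' := by group
      rw [h2] at h1
      exact hunip _ hEn.1 _ hEn'.1 h1
    intro x hx
    rw [Subgroup.mem_centralizer_iff]
    -- L ≤ centralizer {x}
    have hLx : L ≤ Subgroup.centralizer ({x} : Set GLkM) := by
      rw [hL]
      refine iSup₂_le fun E hE e he => ?_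
      rw [Subgroup.mem_centralizer_iff]
      intro y hy
      rw [Set.mem_singleton_iff] at hy
      subst hy
      exact (hcen E hE e he y hx).symm
    intro l hl
    have := Subgroup.mem_centralizer_iff.mp (hLx hl) x (Set.mem_singleton x)
    exact this.symm

end linear

end Cfsg.Agent.QP2
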