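import Mathlib
import Cfsg.Prelude.Def_RootSubgroups
import Cfsg.Agent.Helper18.QP2COMP
import Cfsg.Agent.Helper18.QP2UNI
import Cfsg.Agent.S5018
import Cfsg.Agent.S5061

set_option autoImplicit false
set_option linter.unusedSectionVars false
set_option linter.unusedVariables false

/-! QUADPAIR-2 (blueprint `departures/helper18_QUADPAIR2_blueprint.md`), pieces OPP, RS1, RKNU, PERF
in generic form: for a family `S` of subgroups of an irreducible linear group `G` in which any two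
members generate a unipotent group or form a rank one pair. -/

namespace Cfsg.Agent.QP2

open Cfsg Cfsg.Agent.Helper25 Cfsg.Agent.Helper2.RootSub Cfsg.Agent.Helper2.RootGeneric

section group

variable {𝔾 : Type*} [Group 𝔾]

/-- a rank one pair does not commute and does not generate a group of class at most two -/
theorem RKNU_aux {A B : Subgroup 𝔾} (hAB : IsRankOnePair A B) :
    (⁅A, B⁆ : Subgroup 𝔾) ≠ ⊥ ∧ (⁅⁅A ⊔ B, A ⊔ B⁆, A ⊔ B⁆ : Subgroup 𝔾) ≠ ⊥ := by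
  constructor
  · intro h
    rw [Subgroup.commutator_eq_bot_iff_le_centralizer] at h
    refine not_isRankOnePair_of_commute (fun a ha b hb => ?_) hAB
    exact (Subgroup.mem_centralizer_iff.mp (h ha) b hb).symm
  · intro h
    set X : Subgroup 𝔾 := A ⊔ B with hX
    have hAX : A ≤ X := le_sup_left
    have hBX : B ≤ X := le_sup_right
    have hrk : IsRankOneGroup ↥X (A.subgroupOf X) (B.subgroupOf X) := by
      refine ⟨?_, TRANS_rk_down hAX hBX hAB⟩
      rw [← Subgroup.subgroupOf_sup hAX hBX, Subgroup.subgroupOf_self]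
    apply (Cfsg.Agent.S5018.result hrk).2
    exact Subgroup.isNilpotent_of_lowerCentralSeries_eq_bot (S := X) (n := 2) h

/-- `SL₂(K)` is perfect for a field with more than three elements -/
theorem PERF_SL2 {K : Type*} [Field K] (hK : 3 < ENat.card K) :
    commutator (Matrix.SpecialLinearGroup (Fin 2) K) = ⊤ := by
  classical
  obtain ⟨a, ha, ha2⟩ : ∃ a : K, a ≠ 0 ∧ a ^ 2 ≠ 1 := by
    by_contra hcon
    push Not at hcon
    have hall : ∀ a : K, a ∈ ({0, 1, -1} : Finset K) := by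
      intro a
      by_cases h0 : a = 0
      · simp [h0]
      · have h1 := hcon a h0
        have h2 : (a - 1) * (a + 1) = 0 := by ring_nf; rw [h1]; ring
        rcases mul_eq_zero.mp h2 with h | h
        · have : a = 1 := by linear_combination h
          simp [this]
        · have : a = -1 := by linear_combination h
          simp [this]
    let _ : Fintype K := ⟨{0, 1, -1}, hall⟩
    have hc : Fintype.card K ≤ 3 := by
      show (({0, 1, -1} : Finset K)).card ≤ 3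
      exact Finset.card_le_three
    rw [ENat.card_eq_coe_fintype_card] at hK
    have : (3 : ℕ∞) < (3 : ℕ) := lt_of_lt_of_le hK (by exact_mod_cast hc)
    exact lt_irrefl _ this
  exact Matrix.SL2.commutator_eq_top ha ha2

/-- the image of `SL₂(K)`, `|K| > 3`, is perfect -/
theorem PERF_range {K : Type*} [Field K] (hK : 3 < ENat.card K)
    (φ : Matrix.SpecialLinearGroup (Fin 2) K →* 𝔾) : (⁅φ.range, φ.range⁆ : Subgroup 𝔾) = φ.range := by
  have h := PERF_SL2 hK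
  rw [commutator_def] at h
  rw [MonoidHom.range_eq_map, ← Subgroup.map_commutator, h]

/-- perfectness of `A ⊔ B` from `PSL₂`-pairs through every non-identity element -/
theorem PERF_main.{w} {A B : Subgroup 𝔾}
    (hA : ∀ x ∈ A, x ≠ 1 → ∃ A₀ B₀ : Subgroup 𝔾, x ∈ A₀ ∧ A₀ ≤ A ∧ B₀ ≤ B ∧
      ∃ (K : Type w) (_ : Field K), 3 < ENat.card K ∧ IsPSL2PairOver K A₀ B₀)
    (hB : ∀ y ∈ B, y ≠ 1 → ∃ A₀ B₀ : Subgroup 𝔾, y ∈ B₀ ∧ A₀ ≤ A ∧ B₀ ≤ B ∧
      ∃ (K : Type w) (_ : Field K), 3 < ENat.card K ∧ IsPSL2PairOver K A₀ B₀) :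
    (⁅A ⊔ B, A ⊔ B⁆ : Subgroup 𝔾) = A ⊔ B := by
  apply le_antisymm (Subgroup.commutator_le_self _)
  have key : ∀ A₀ B₀ : Subgroup 𝔾, A₀ ≤ A → B₀ ≤ B →
      (∃ (K : Type w) (_ : Field K), 3 < ENat.card K ∧ IsPSL2PairOver K A₀ B₀) →
      A₀ ⊔ B₀ ≤ ⁅A ⊔ B, A ⊔ B⁆ := by
    rintro A₀ B₀ hA₀ hB₀ ⟨K, _, hK, φ, hφ, -, -, -⟩
    have h1 := PERF_range hK φ
    rw [hφ] at h1
    rw [← h1]
    exact Subgroup.commutator_mono (sup_le_sup hA₀ hB₀) (sup_le_sup hA₀ hB₀)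
  refine sup_le ?_ ?_
  · intro x hx
    by_cases hx1 : x = 1
    · rw [hx1]; exact Subgroup.one_mem _
    obtain ⟨A₀, B₀, hxA₀, hA₀, hB₀, hK⟩ := hA x hx hx1
    exact key A₀ B₀ hA₀ hB₀ hK (Subgroup.mem_sup_left hxA₀)
  · intro y hy
    by_cases hy1 : y = 1
    · rw [hy1]; exact Subgroup.one_mem _
    obtain ⟨A₀, B₀, hyB₀, hA₀, hB₀, hK⟩ := hB y hy hy1
    exact key A₀ B₀ hA₀ hB₀ hK (Subgroup.mem_sup_right hyB₀)

end group

section linear

variable {k : Type*} [Field k] {M : Type*} [AddCommGroup M] [Module k M]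

local notation "GLkM" => LinearMap.GeneralLinearGroup k M

theorem RS_conjBy_sup (A B : Subgroup GLkM) (g : GLkM) :
    conjBy (A ⊔ B) g = conjBy A g ⊔ conjBy B g := Subgroup.map_sup A B _

/-- OPP: every member of `S` forms a rank one pair with one of its `G`-conjugates -/
theorem OPP_main [FiniteDimensional k M] {G : Subgroup GLkM} (hG : IsIrreducibleFor G)
    {S : Set (Subgroup GLkM)} (hSG : ∀ A ∈ S, A ≤ G) (hne : ∀ A ∈ S, A ≠ ⊥)
    (hSconj : ∀ A ∈ S, ∀ g ∈ G, conjBy A g ∈ S)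
    (h65 : ∀ A ∈ S, ∀ B ∈ S, IsUnipotentOn (A ⊔ B) ∨ IsRankOnePair A B)
    {A : Subgroup GLkM} (hA : A ∈ S) : ∃ g ∈ G, IsRankOnePair A (conjBy A g) := by
  by_contra hcon
  push Not at hcon
  set W : Set (Subgroup GLkM) := {B | ∃ g ∈ G, B = conjBy A g} with hW
  have hWG : ∀ B ∈ W, B ≤ G := by
    rintro _ ⟨g, hg, rfl⟩
    exact hSG _ (hSconj A hA g hg)
  have hWW : ∀ B ∈ W, ∀ C ∈ W, IsUnipotentOn (B ⊔ C) := by
    rintro _ ⟨g, hg, rfl⟩ _ ⟨h, hh, rfl⟩
    have hu : g⁻¹ * h ∈ G := G.mul_mem (G.inv_mem hg) hh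
    have h1 : IsUnipotentOn (A ⊔ conjBy A (g⁻¹ * h)) := by
      rcases h65 A hA _ (hSconj A hA _ hu) with h | h
      · exact h
      · exact absurd h (hcon _ hu)
    have h2 := UNI_conjBy h1 g
    rw [RS_conjBy_sup, conjBy_conjBy] at h2
    have h3 : g * (g⁻¹ * h) = h := by group
    rwa [h3] at h2
  have hWconj : ∀ B ∈ W, ∀ g ∈ G, conjBy B g ∈ W := by
    rintro _ ⟨h, hh, rfl⟩ g hg
    exact ⟨g * h, G.mul_mem hg hh, conjBy_conjBy A h g⟩
  obtain ⟨hU, hUn⟩ := Cfsg.Agent.S5061.result hWG hWW hWconj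
  have hUG : (⨆ B ∈ W, B) ≤ G := iSup₂_le hWG
  have hbot : (⨆ B ∈ W, B) = ⊥ := by
    refine UNI_irr hG hUG ?_ hU
    intro g hg u hu
    rw [← hUn g hg]
    exact conj_mem_conjBy hu
  apply hne A hA
  rw [eq_bot_iff, ← hbot]
  exact le_iSup₂_of_le A ⟨1, G.one_mem, (conjBy_one A).symm⟩ le_rfl

/-- RS1: the component hypotheses for `S` -/
theorem RS1_compHyp [FiniteDimensional k M] {G : Subgroup GLkM} (hG : IsIrreducibleFor G)
    {S : Set (Subgroup GLkM)} (hcomm : ∀ A ∈ S, IsMulCommutative A)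
    (hSG : ∀ A ∈ S, A ≤ G) (hne : ∀ A ∈ S, A ≠ ⊥)
    (hSconj : ∀ A ∈ S, ∀ g ∈ G, conjBy A g ∈ S)
    (h65 : ∀ A ∈ S, ∀ B ∈ S, IsUnipotentOn (A ⊔ B) ∨ IsRankOnePair A B)
    (h68 : ∀ A ∈ S, ∀ B ∈ S, IsUnipotentOn (A ⊔ B) →
      (⁅A, B⁆ : Subgroup GLkM) = ⊥ ∨ RootCommutatorCase S A B) : CompHyp S := by
  have hgen : (⨆ B ∈ S, B) ≤ G := iSup₂_le hSG
  refine CompHyp.of_family hcomm hne (fun A hA g hg => hSconj A hA g (hgen hg)) ?_ ?_
  · intro A hA B hB
    rcases h65 A hA B hB with h | h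
    · rcases h68 A hA B hB h with h' | h'
      · exact Or.inl h'
      · exact Or.inr (Or.inr h')
    · exact Or.inr (Or.inl h)
  · intro A hA
    obtain ⟨g, hg, h⟩ := OPP_main hG hSG hne hSconj h65 hA
    exact ⟨_, hSconj A hA g hg, h⟩

/-- RKNU: a rank one pair of members of `S` does not generate a unipotent group -/
theorem RKNU_main {S : Set (Subgroup GLkM)}
    (h68 : ∀ A ∈ S, ∀ B ∈ S, IsUnipotentOn (A ⊔ B) →
      (⁅A, B⁆ : Subgroup GLkM) = ⊥ ∨ (⁅⁅A ⊔ B, A ⊔ B⁆, A ⊔ B⁆ : Subgroup GLkM) = ⊥)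
    {A B : Subgroup GLkM} (hA : A ∈ S) (hB : B ∈ S) (hAB : IsRankOnePair A B) :
    ¬ IsUnipotentOn (A ⊔ B) := by
  intro hu
  rcases h68 A hA B hB hu with h | h
  · exact (RKNU_aux hAB).1 h
  · exact (RKNU_aux hAB).2 h

/-- commuting members of `S` generate a unipotent group -/
theorem RS_unip_of_comm {S : Set (Subgroup GLkM)}
    (h65 : ∀ A ∈ S, ∀ B ∈ S, IsUnipotentOn (A ⊔ B) ∨ IsRankOnePair A B)
    {A B : Subgroup GLkM} (hA : A ∈ S) (hB : B ∈ S) (h : (⁅A, B⁆ : Subgroup GLkM) = ⊥) :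
    IsUnipotentOn (A ⊔ B) := by
  rcases h65 A hA B hB with h' | h'
  · exact h'
  · exact absurd h (RKNU_aux h').1

end linear

end Cfsg.Agent.QP2
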