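import Mathlib
import Cfsg.Prelude.Def_RootSubgroups
import Cfsg.Agent.Helper18.QP2RS
import Cfsg.Agent.Helper18.QP2QS
import Cfsg.Agent.Helper18.QP2PART

set_option autoImplicit false
set_option linter.unusedSectionVars false
set_option linter.unusedVariables false

/-! QUADPAIR-2 (blueprint `departures/helper18_QUADPAIR2_blueprint.md`): the conclusions of S5062 and
S5069 for a family `S` of subgroups of an irreducible linear group `G` satisfying the hypotheses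
`QPHyp` (which for `S = quadraticRootSubgroups G` follow from S5059, S5065, S5068 and the
structure theorem for non-unipotent pairs). -/

namespace Cfsg.Agent.QP2

open Cfsg Cfsg.Agent.Helper25 Cfsg.Agent.Helper2.RootSub Cfsg.Agent.Helper2.RootGeneric

universe u v w

variable {k : Type u} [Field k] {M : Type v} [AddCommGroup M] [Module k M]

local notation "GLkM" => LinearMap.GeneralLinearGroup k M

/-- the facts about the family `S` used in the proofs of S5062 and S5069 -/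
structure QPHyp (G : Subgroup (LinearMap.GeneralLinearGroup k M))
    (S : Set (Subgroup (LinearMap.GeneralLinearGroup k M))) : Prop where
  irr : IsIrreducibleFor G
  comm : ∀ A ∈ S, IsMulCommutative A
  le : ∀ A ∈ S, A ≤ G
  ne_bot : ∀ A ∈ S, A ≠ ⊥
  conj : ∀ A ∈ S, ∀ g ∈ G, conjBy A g ∈ S
  h65 : ∀ A ∈ S, ∀ B ∈ S, IsUnipotentOn (A ⊔ B) ∨ IsRankOnePair A B
  h68 : ∀ A ∈ S, ∀ B ∈ S, IsUnipotentOn (A ⊔ B) →
    (⁅A, B⁆ : Subgroup (LinearMap.GeneralLinearGroup k M)) = ⊥ ∨ (RootCommutatorCase S A B ∧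
      (⁅⁅A ⊔ B, A ⊔ B⁆, A ⊔ B⁆ : Subgroup (LinearMap.GeneralLinearGroup k M)) = ⊥)
  psl : ∀ A ∈ S, ∀ B ∈ S, ¬ IsUnipotentOn (A ⊔ B) →
    (∀ x ∈ A, x ≠ 1 → ∃ A₀ B₀ : Subgroup (LinearMap.GeneralLinearGroup k M),
      x ∈ A₀ ∧ A₀ ≤ A ∧ B₀ ≤ B ∧
      ∃ (K : Type w) (_ : Field K), 3 < ENat.card K ∧ IsPSL2PairOver K A₀ B₀) ∧
    (∀ y ∈ B, y ≠ 1 → ∃ A₀ B₀ : Subgroup (LinearMap.GeneralLinearGroup k M),
      y ∈ B₀ ∧ A₀ ≤ A ∧ B₀ ≤ B ∧
      ∃ (K : Type w) (_ : Field K), 3 < ENat.card K ∧ IsPSL2PairOver K A₀ B₀)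

theorem QPHyp.compHyp [FiniteDimensional k M] {G : Subgroup GLkM} {S : Set (Subgroup GLkM)}
    (H : QPHyp.{u, v, w} G S) : CompHyp S :=
  RS1_compHyp H.irr H.comm H.le H.ne_bot H.conj H.h65 (fun A hA B hB hu => by
    rcases H.h68 A hA B hB hu with h | h
    · exact Or.inl h
    · exact Or.inr h.1)

theorem QPHyp.not_unip {G : Subgroup GLkM} {S : Set (Subgroup GLkM)} (H : QPHyp.{u, v, w} G S) {A B : Subgroup GLkM} (hA : A ∈ S) (hB : B ∈ S)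
    (hAB : IsRankOnePair A B) : ¬ IsUnipotentOn (A ⊔ B) :=
  RKNU_main (fun A hA B hB hu => by
    rcases H.h68 A hA B hB hu with h | h
    · exact Or.inl h
    · exact Or.inr h.2) hA hB hAB

theorem QPHyp.psl_pair {G : Subgroup GLkM} {S : Set (Subgroup GLkM)} (H : QPHyp.{u, v, w} G S) {A B : Subgroup GLkM} (hA : A ∈ S) (hB : B ∈ S)
    (hAB : IsRankOnePair A B) :
    ∃ A₀ B₀ : Subgroup GLkM, A₀ ≤ A ∧ B₀ ≤ B ∧
      ∃ (k₁ : Type w) (_ : Field k₁), 3 < ENat.card k₁ ∧ IsPSL2PairOver k₁ A₀ B₀ := by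
  obtain ⟨x, hx, hx1⟩ := rankOne_exists_ne_one hAB
  obtain ⟨A₀, B₀, -, hA₀, hB₀, h⟩ := (H.psl A hA B hB (H.not_unip hA hB hAB)).1 x hx hx1
  exact ⟨A₀, B₀, hA₀, hB₀, h⟩

theorem QPHyp.perfect {G : Subgroup GLkM} {S : Set (Subgroup GLkM)} (H : QPHyp.{u, v, w} G S) {A B : Subgroup GLkM} (hA : A ∈ S) (hB : B ∈ S)
    (hAB : IsRankOnePair A B) : (⁅A ⊔ B, A ⊔ B⁆ : Subgroup GLkM) = A ⊔ B := by
  obtain ⟨h1, h2⟩ := H.psl A hA B hB (H.not_unip hA hB hAB)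
  exact PERF_main h1 h2

/-- the conclusion of S5062 for `S` -/
theorem S5062_of [FiniteDimensional k M] {G : Subgroup GLkM} {S : Set (Subgroup GLkM)}
    (H : QPHyp.{u, v, w} G S) :
    IsRootSubgroupSet ((fun A : Subgroup GLkM => A.subgroupOf (⨆ B ∈ S, B)) '' S) ∧
    (∀ A ∈ S, ¬ IsIsolatedIn (FAdj S) S A) ∧
    (∀ A ∈ S, ∀ B ∈ rankOnePartners S A,
      (∀ C ∈ componentOf (FAdj S) S A, ∀ D ∈ componentOf (FAdj S) S A,
          ¬ RootCommutatorCase S C D) →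
      ∃ A₀ B₀ : Subgroup GLkM, A₀ ≤ A ∧ B₀ ≤ B ∧
        ∃ (k₁ : Type w) (_ : Field k₁), 3 < ENat.card k₁ ∧ IsPSL2PairOver k₁ A₀ B₀) := by
  have hC := H.compHyp
  have hgen : (⨆ B ∈ S, B) ≤ G := iSup₂_le H.le
  refine ⟨?_, ?_, ?_⟩
  · exact TRANS_main hC.comm hC.ne_bot (fun A hA g hg => H.conj A hA g (hgen hg)) hC.pair
  · intro A hA hiso
    obtain ⟨E, hE, hAE⟩ := hC.partner A hA
    exact (hiso.2 E).1 ⟨hA, hE, hAE⟩
  · intro A hA B hB _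
    exact H.psl_pair hA hB.1 hB.2

/-- the conclusion of S5069 for `S` -/
theorem S5069_of [FiniteDimensional k M] {G : Subgroup GLkM} {S : Set (Subgroup GLkM)}
    (H : QPHyp.{u, v, w} G S) :
    ∃ (r : ℕ) (part : Fin r → Set (Subgroup GLkM)),
      (⋃ i, part i) = S ∧ (∀ i j, i ≠ j → Disjoint (part i) (part j)) ∧ (∀ i, (part i).Nonempty) ∧
      (∀ i j, i ≠ j → (⁅(⨆ A ∈ part i, A), (⨆ A ∈ part j, A)⁆ : Subgroup GLkM) = ⊥) ∧
      (∀ i, IsQuasisimple ↥(⨆ A ∈ part i, A) ∧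
        IsRootSubgroupClass ((fun A : Subgroup GLkM => A.subgroupOf (⨆ B ∈ part i, B)) '' (part i)) ∧
        ∀ A ∈ part i, ∀ B ∈ rankOnePartners (part i) A, ∃ A₀ B₀ : Subgroup GLkM, A₀ ≤ A ∧ B₀ ≤ B ∧
          ∃ (k₁ : Type w) (_ : Field k₁), 3 < ENat.card k₁ ∧ IsPSL2PairOver k₁ A₀ B₀) := by
  have hC := H.compHyp
  obtain ⟨r, part, h1, h2, h3, h4, h5⟩ := PART_main hC
  refine ⟨r, part, h1, h2, h3, h4, fun i => ?_⟩
  obtain ⟨A₀, hA₀, hi⟩ := h5 i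
  rw [hi]
  refine ⟨?_, (COMP_class hC hA₀).1, ?_⟩
  · exact QS_main H.irr hC H.le H.conj (fun A hA B hB hAB => H.perfect hA hB hAB)
      (fun A hA B hB h => RS_unip_of_comm H.h65 hA hB h) hA₀
  · intro A hA B hB
    exact H.psl_pair hA.1 hB.1.1 hB.2

end Cfsg.Agent.QP2
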