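import Mathlib
import Cfsg.Agent.Helper2.Transvec

/-! Natural `SL₂(F)`-modules, part 1: elementary matrices and relations in `SL₂(F)`. -/

set_option autoImplicit false

namespace Cfsg.Agent.Helper18.NatMod

variable {F : Type*} [Field F]

local notation "SF" => Matrix.SpecialLinearGroup (Fin 2) F
local notation "MF" => Matrix (Fin 2) (Fin 2) F

/-- upper unitriangular -/
def uu (a : F) : SF := ⟨!![1, a; 0, 1], by simp [Matrix.det_fin_two_of]⟩

/-- lower unitriangular -/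
def ll (b : F) : SF := ⟨!![1, 0; b, 1], by simp [Matrix.det_fin_two_of]⟩

/-- the Weyl element -/
def ww : SF := ⟨!![0, 1; -1, 0], by simp [Matrix.det_fin_two_of]⟩

/-- torus elements -/
def hh (t : Fˣ) : SF := ⟨!![(t : F), 0; 0, ((t⁻¹ : Fˣ) : F)], by simp [Matrix.det_fin_two_of]⟩

theorem uu_coe (a : F) : ((uu a : SF) : MF) = !![1, a; 0, 1] := rfl
theorem ll_coe (b : F) : ((ll b : SF) : MF) = !![1, 0; b, 1] := rfl
theorem ww_coe : ((ww : SF) : MF) = !![0, 1; -1, 0] := rfl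
theorem hh_coe (t : Fˣ) : ((hh t : SF) : MF) = !![(t : F), 0; 0, ((t⁻¹ : Fˣ) : F)] := rfl

theorem sl_ext (g h : SF) (h00 : (g : MF) 0 0 = (h : MF) 0 0) (h01 : (g : MF) 0 1 = (h : MF) 0 1)
    (h10 : (g : MF) 1 0 = (h : MF) 1 0) (h11 : (g : MF) 1 1 = (h : MF) 1 1) : g = h := by
  apply Subtype.ext
  ext i j
  fin_cases i <;> fin_cases j
  · exact h00
  · exact h01
  · exact h10
  · exact h11

theorem uu_mul (a b : F) : uu a * uu b = uu (a + b) := by
  apply Subtype.ext
  rw [Matrix.SpecialLinearGroup.coe_mul, uu_coe, uu_coe, uu_coe]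
  simp [add_comm]

theorem uu_zero : uu (0 : F) = 1 := by
  apply Subtype.ext
  rw [uu_coe]
  exact Matrix.one_fin_two.symm

theorem uu_inv (a : F) : (uu a)⁻¹ = uu (-a) := by
  rw [inv_eq_iff_mul_eq_one, uu_mul, add_neg_cancel, uu_zero]

theorem ll_mul (a b : F) : ll a * ll b = ll (a + b) := by
  apply Subtype.ext
  rw [Matrix.SpecialLinearGroup.coe_mul, ll_coe, ll_coe, ll_coe]
  simp [add_comm]

theorem ll_zero : ll (0 : F) = 1 := by
  apply Subtype.ext
  rw [ll_coe]
  exact Matrix.one_fin_two.symm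

theorem ll_inv (a : F) : (ll a)⁻¹ = ll (-a) := by
  rw [inv_eq_iff_mul_eq_one, ll_mul, add_neg_cancel, ll_zero]

theorem hh_mul (s t : Fˣ) : hh s * hh t = hh (s * t) := by
  apply Subtype.ext
  rw [Matrix.SpecialLinearGroup.coe_mul, hh_coe, hh_coe, hh_coe]
  simp [mul_comm]

theorem hh_one : hh (1 : Fˣ) = 1 := by
  apply Subtype.ext
  rw [hh_coe]
  simp [Matrix.one_fin_two]

theorem hh_inv (t : Fˣ) : (hh t)⁻¹ = hh t⁻¹ := by
  rw [inv_eq_iff_mul_eq_one, hh_mul, mul_inv_cancel, hh_one]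

theorem ww_mul_ww : (ww : SF) * ww = hh (-1) := by
  apply Subtype.ext
  rw [Matrix.SpecialLinearGroup.coe_mul, ww_coe, hh_coe]
  simp [Matrix.mul_fin_two]

theorem ww_inv : (ww : SF)⁻¹ = ww * hh (-1) := by
  rw [inv_eq_iff_mul_eq_one, ← mul_assoc, ww_mul_ww, hh_mul]
  simp [hh_one]

/-- `w l(y) = u(-y) w` -/
theorem ww_mul_ll (y : F) : (ww : SF) * ll y = uu (-y) * ww := by
  apply Subtype.ext
  rw [Matrix.SpecialLinearGroup.coe_mul, Matrix.SpecialLinearGroup.coe_mul, ww_coe, ll_coe, uu_coe]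
  simp [Matrix.mul_fin_two]

/-- `w u(x) = l(-x) w` -/
theorem ww_mul_uu (x : F) : (ww : SF) * uu x = ll (-x) * ww := by
  apply Subtype.ext
  rw [Matrix.SpecialLinearGroup.coe_mul, Matrix.SpecialLinearGroup.coe_mul, ww_coe, ll_coe, uu_coe]
  simp [Matrix.mul_fin_two]

/-- `h(t) u(x) = u(t² x) h(t)` -/
theorem hh_mul_uu (t : Fˣ) (x : F) : hh t * uu x = uu ((t : F) ^ 2 * x) * hh t := by
  apply Subtype.ext
  rw [Matrix.SpecialLinearGroup.coe_mul, Matrix.SpecialLinearGroup.coe_mul, hh_coe, uu_coe, uu_coe]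
  simp [Matrix.mul_fin_two]
  field_simp

/-- `h(t) l(x) = l(t⁻² x) h(t)` -/
theorem hh_mul_ll (t : Fˣ) (x : F) :
    hh t * ll x = ll ((((t⁻¹ : Fˣ) : F)) ^ 2 * x) * hh t := by
  apply Subtype.ext
  rw [Matrix.SpecialLinearGroup.coe_mul, Matrix.SpecialLinearGroup.coe_mul, hh_coe, ll_coe, ll_coe]
  simp [Matrix.mul_fin_two]
  field_simp

/-- `h(t) w = w h(t⁻¹)` -/
theorem hh_mul_ww (t : Fˣ) : hh t * (ww : SF) = ww * hh t⁻¹ := by
  apply Subtype.ext
  rw [Matrix.SpecialLinearGroup.coe_mul, Matrix.SpecialLinearGroup.coe_mul, hh_coe, ww_coe, hh_coe]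
  simp [Matrix.mul_fin_two]

/-- the key relation `u(t) l(-t⁻¹) u(t) = w h(t⁻¹)` -/
theorem uu_ll_uu (t : Fˣ) :
    uu (t : F) * ll (-((t⁻¹ : Fˣ) : F)) * uu (t : F) = ww * hh t⁻¹ := by
  apply Subtype.ext
  rw [Matrix.SpecialLinearGroup.coe_mul, Matrix.SpecialLinearGroup.coe_mul,
    Matrix.SpecialLinearGroup.coe_mul, uu_coe, ll_coe, ww_coe, hh_coe]
  simp [Matrix.mul_fin_two]

/-- `u(t) = w h(t⁻¹) u(-t) l(t⁻¹)` -/
theorem uu_eq (t : Fˣ) :
    uu (t : F) = ww * hh t⁻¹ * uu (-(t : F)) * ll (((t⁻¹ : Fˣ) : F)) := by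
  rw [← uu_ll_uu t, ← uu_inv, mul_assoc, mul_assoc, mul_assoc, mul_inv_cancel_left, ← ll_inv,
    ← mul_assoc]
  simp

/-- `SL₂(F)` is generated by the elementary matrices -/
theorem eq_top_of_uu_ll (H : Subgroup SF) (hu : ∀ x : F, uu x ∈ H) (hl : ∀ x : F, ll x ∈ H) :
    H = ⊤ := by
  rw [eq_top_iff]
  intro g _
  refine Cfsg.Agent.Helper2.SL_transvection_induction (fun g => g ∈ H) ?_
    (fun A B hA hB => Subgroup.mul_mem _ hA hB) g
  intro i j hij c
  fin_cases i <;> fin_cases j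
  · exact absurd rfl hij
  · have e : Matrix.SpecialLinearGroup.transvection hij c = uu c := by
      apply Subtype.ext
      ext a b
      fin_cases a <;> fin_cases b <;>
        simp [Matrix.SpecialLinearGroup.transvection, Matrix.transvection, uu_coe, Matrix.single]
    rw [e]
    exact hu c
  · have e : Matrix.SpecialLinearGroup.transvection hij c = ll c := by
      apply Subtype.ext
      ext a b
      fin_cases a <;> fin_cases b <;>
        simp [Matrix.SpecialLinearGroup.transvection, Matrix.transvection, ll_coe, Matrix.single]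
    rw [e]
    exact hl c
  · exact absurd rfl hij

/-- `SL₂(F)` is generated by the upper unitriangular matrices and the Weyl element -/
theorem eq_top_of_uu_ww (H : Subgroup SF) (hu : ∀ x : F, uu x ∈ H) (hw : (ww : SF) ∈ H) :
    H = ⊤ := by
  apply eq_top_of_uu_ll H hu
  intro y
  have h1 : ll y = ww⁻¹ * uu (-y) * ww := by
    rw [mul_assoc, ← ww_mul_ll, inv_mul_cancel_left]
  rw [h1]
  exact H.mul_mem (H.mul_mem (H.inv_mem hw) (hu _)) hw

theorem uu_injective : Function.Injective (uu : F → SF) := by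
  intro a b h
  have := congrArg (fun g : SF => (g : MF) 0 1) h
  simpa [uu_coe] using this

theorem uu_mulVec (x : F) (v : Fin 2 → F) :
    ((uu x : SF) : MF).mulVec v = ![v 0 + x * v 1, v 1] := by
  rw [uu_coe]
  ext i
  fin_cases i <;> simp [Matrix.mulVec, dotProduct, Fin.sum_univ_two]

theorem ww_mulVec (v : Fin 2 → F) :
    ((ww : SF) : MF).mulVec v = ![v 1, -v 0] := by
  rw [ww_coe]
  ext i
  fin_cases i <;> simp [Matrix.mulVec, dotProduct, Fin.sum_univ_two]

/-- an element fixing `e₀` is upper unitriangular -/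
theorem eq_uu_of_fix (g : SF) (h : ((g : MF)).mulVec ![1, 0] = ![1, 0]) :
    g = uu ((g : MF) 0 1) := by
  have h0 : (g : MF) 0 0 = 1 := by
    have := congrFun h 0
    simpa [Matrix.mulVec, dotProduct, Fin.sum_univ_two] using this
  have h1 : (g : MF) 1 0 = 0 := by
    have := congrFun h 1
    simpa [Matrix.mulVec, dotProduct, Fin.sum_univ_two] using this
  have hd : (g : MF) 0 0 * (g : MF) 1 1 - (g : MF) 0 1 * (g : MF) 1 0 = 1 := by
    have := g.2
    rwa [Matrix.det_fin_two] at this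
  rw [h0, h1] at hd
  apply sl_ext
  · rw [uu_coe, h0]; simp
  · rw [uu_coe]; simp
  · rw [uu_coe, h1]; simp
  · rw [uu_coe]
    simp only [Matrix.of_apply, Matrix.cons_val', Matrix.cons_val_one, Matrix.cons_val_fin_one]
    linear_combination hd

end Cfsg.Agent.Helper18.NatMod
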