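import Mathlib
import Cfsg.Agent.Helper18.NatMod1

/-! `⟨u(k), l(kα)⟩ = SL₂(k(α))`, part 1: diagonal conjugation, the torus trick, multipliers. -/

set_option autoImplicit false

namespace Cfsg.Agent.Helper18.SL2Ext

open Cfsg.Agent.Helper18.NatMod

variable {K : Type*} [Field K]

local notation "SK" => Matrix.SpecialLinearGroup (Fin 2) K
local notation "MK" => Matrix (Fin 2) (Fin 2) K

theorem det_eq (g : SK) : (g : MK) 0 0 * (g : MK) 1 1 - (g : MK) 0 1 * (g : MK) 1 0 = 1 := by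
  have h := g.det_coe
  rw [Matrix.det_fin_two] at h
  exact h

theorem inv_00 (g : SK) : ((g⁻¹ : SK) : MK) 0 0 = (g : MK) 1 1 := by
  rw [Matrix.SpecialLinearGroup.coe_inv, Matrix.adjugate_fin_two]; simp
theorem inv_01 (g : SK) : ((g⁻¹ : SK) : MK) 0 1 = -(g : MK) 0 1 := by
  rw [Matrix.SpecialLinearGroup.coe_inv, Matrix.adjugate_fin_two]; simp
theorem inv_10 (g : SK) : ((g⁻¹ : SK) : MK) 1 0 = -(g : MK) 1 0 := by
  rw [Matrix.SpecialLinearGroup.coe_inv, Matrix.adjugate_fin_two]; simp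
theorem inv_11 (g : SK) : ((g⁻¹ : SK) : MK) 1 1 = (g : MK) 0 0 := by
  rw [Matrix.SpecialLinearGroup.coe_inv, Matrix.adjugate_fin_two]; simp

theorem mul_00 (g h : SK) : ((g * h : SK) : MK) 0 0 = (g : MK) 0 0 * (h : MK) 0 0 + (g : MK) 0 1 * (h : MK) 1 0 := by
  rw [Matrix.SpecialLinearGroup.coe_mul, Matrix.mul_apply, Fin.sum_univ_two]
theorem mul_01 (g h : SK) : ((g * h : SK) : MK) 0 1 = (g : MK) 0 0 * (h : MK) 0 1 + (g : MK) 0 1 * (h : MK) 1 1 := by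
  rw [Matrix.SpecialLinearGroup.coe_mul, Matrix.mul_apply, Fin.sum_univ_two]
theorem mul_10 (g h : SK) : ((g * h : SK) : MK) 1 0 = (g : MK) 1 0 * (h : MK) 0 0 + (g : MK) 1 1 * (h : MK) 1 0 := by
  rw [Matrix.SpecialLinearGroup.coe_mul, Matrix.mul_apply, Fin.sum_univ_two]
theorem mul_11 (g h : SK) : ((g * h : SK) : MK) 1 1 = (g : MK) 1 0 * (h : MK) 0 1 + (g : MK) 1 1 * (h : MK) 1 1 := by
  rw [Matrix.SpecialLinearGroup.coe_mul, Matrix.mul_apply, Fin.sum_univ_two]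

@[simp] theorem uu_00 (a : K) : ((uu a : SK) : MK) 0 0 = 1 := by simp [uu_coe]
@[simp] theorem uu_01 (a : K) : ((uu a : SK) : MK) 0 1 = a := by simp [uu_coe]
@[simp] theorem uu_10 (a : K) : ((uu a : SK) : MK) 1 0 = 0 := by simp [uu_coe]
@[simp] theorem uu_11 (a : K) : ((uu a : SK) : MK) 1 1 = 1 := by simp [uu_coe]
@[simp] theorem ll_00 (a : K) : ((ll a : SK) : MK) 0 0 = 1 := by simp [ll_coe]
@[simp] theorem ll_01 (a : K) : ((ll a : SK) : MK) 0 1 = 0 := by simp [ll_coe]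
@[simp] theorem ll_10 (a : K) : ((ll a : SK) : MK) 1 0 = a := by simp [ll_coe]
@[simp] theorem ll_11 (a : K) : ((ll a : SK) : MK) 1 1 = 1 := by simp [ll_coe]
@[simp] theorem hh_00 (t : Kˣ) : ((hh t : SK) : MK) 0 0 = (t : K) := by simp [hh_coe]
@[simp] theorem hh_01 (t : Kˣ) : ((hh t : SK) : MK) 0 1 = 0 := by simp [hh_coe]
@[simp] theorem hh_10 (t : Kˣ) : ((hh t : SK) : MK) 1 0 = 0 := by simp [hh_coe]
@[simp] theorem hh_11 (t : Kˣ) : ((hh t : SK) : MK) 1 1 = ((t⁻¹ : Kˣ) : K) := by simp [hh_coe]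

/-- conjugation by `diag(c, 1)`, as a function -/
def dconjFun (c : Kˣ) (g : SK) : SK :=
  ⟨!![(g : MK) 0 0, (c : K) * (g : MK) 0 1; ((c⁻¹ : Kˣ) : K) * (g : MK) 1 0, (g : MK) 1 1], by
    rw [Matrix.det_fin_two_of]
    have h := det_eq g
    have hc : (c : K) * ((c⁻¹ : Kˣ) : K) = 1 := by simp
    linear_combination h - ((g : MK) 0 1 * (g : MK) 1 0) * hc⟩

theorem dconjFun_00 (c : Kˣ) (g : SK) : ((dconjFun c g : SK) : MK) 0 0 = (g : MK) 0 0 := rfl
theorem dconjFun_01 (c : Kˣ) (g : SK) : ((dconjFun c g : SK) : MK) 0 1 = (c : K) * (g : MK) 0 1 := rfl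
theorem dconjFun_10 (c : Kˣ) (g : SK) :
    ((dconjFun c g : SK) : MK) 1 0 = ((c⁻¹ : Kˣ) : K) * (g : MK) 1 0 := rfl
theorem dconjFun_11 (c : Kˣ) (g : SK) : ((dconjFun c g : SK) : MK) 1 1 = (g : MK) 1 1 := rfl

/-- conjugation by `diag(c, 1)` -/
def dconj (c : Kˣ) : SK →* SK where
  toFun := dconjFun c
  map_one' := by
    apply sl_ext <;> simp [dconjFun_00, dconjFun_01, dconjFun_10, dconjFun_11]
  map_mul' g h := by
    have hc : (c : K) * ((c⁻¹ : Kˣ) : K) = 1 := by simp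
    apply sl_ext
    · rw [mul_00, dconjFun_00, dconjFun_00, dconjFun_01, dconjFun_10, dconjFun_00, mul_00]
      linear_combination (-(g : MK) 0 1 * (h : MK) 1 0) * hc
    · rw [mul_01, dconjFun_00, dconjFun_01, dconjFun_01, dconjFun_11, dconjFun_01, mul_01]
      ring
    · rw [mul_10, dconjFun_10, dconjFun_00, dconjFun_11, dconjFun_10, dconjFun_10, mul_10]
      ring
    · rw [mul_11, dconjFun_10, dconjFun_01, dconjFun_11, dconjFun_11, dconjFun_11, mul_11]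
      linear_combination (-(g : MK) 1 0 * (h : MK) 0 1) * hc

theorem dconj_00 (c : Kˣ) (g : SK) : ((dconj c g : SK) : MK) 0 0 = (g : MK) 0 0 := rfl
theorem dconj_01 (c : Kˣ) (g : SK) : ((dconj c g : SK) : MK) 0 1 = (c : K) * (g : MK) 0 1 := rfl
theorem dconj_10 (c : Kˣ) (g : SK) :
    ((dconj c g : SK) : MK) 1 0 = ((c⁻¹ : Kˣ) : K) * (g : MK) 1 0 := rfl
theorem dconj_11 (c : Kˣ) (g : SK) : ((dconj c g : SK) : MK) 1 1 = (g : MK) 1 1 := rfl

theorem dconj_uu (c : Kˣ) (x : K) : dconj c (uu x) = uu ((c : K) * x) := by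
  apply sl_ext <;> simp [dconj_00, dconj_01, dconj_10, dconj_11]

theorem dconj_ll (c : Kˣ) (x : K) : dconj c (ll x) = ll (((c⁻¹ : Kˣ) : K) * x) := by
  apply sl_ext <;> simp [dconj_00, dconj_01, dconj_10, dconj_11]

/-- The subgroup `⟨u(c), l(cα) : c ∈ k⟩` -/
def HH (k : Subfield K) (α : K) : Subgroup SK :=
  Subgroup.closure ({g | ∃ c ∈ k, g = uu c} ∪ {g | ∃ c ∈ k, g = ll (c * α)})

theorem uu_mem_HH (k : Subfield K) (α : K) {c : K} (hc : c ∈ k) : uu c ∈ HH k α :=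
  Subgroup.subset_closure (Or.inl ⟨c, hc, rfl⟩)

theorem ll_mem_HH (k : Subfield K) (α : K) {c : K} (hc : c ∈ k) : ll (c * α) ∈ HH k α :=
  Subgroup.subset_closure (Or.inr ⟨c, hc, rfl⟩)

theorem HH_le (k : Subfield K) (α : K) (N : Subgroup SK) (hu : ∀ c ∈ k, uu c ∈ N)
    (hl : ∀ c ∈ k, ll (c * α) ∈ N) : HH k α ≤ N := by
  rw [HH, Subgroup.closure_le]
  rintro g (⟨c, hc, rfl⟩ | ⟨c, hc, rfl⟩)
  · exact hu c hc
  · exact hl c hc

theorem dconj_mem (k : Subfield K) (α : K) (c : Kˣ) (hc : (c : K) ∈ k) {g : SK} (hg : g ∈ HH k α) :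
    dconj c g ∈ HH k α := by
  have h : HH k α ≤ (HH k α).comap (dconj c) := by
    apply HH_le
    · intro x hx
      rw [Subgroup.mem_comap, dconj_uu]
      exact uu_mem_HH k α (k.mul_mem hc hx)
    · intro x hx
      rw [Subgroup.mem_comap, dconj_ll, ← mul_assoc]
      refine ll_mem_HH k α (k.mul_mem ?_ hx)
      have : ((c⁻¹ : Kˣ) : K) = (c : K)⁻¹ := by simp
      rw [this]
      exact k.inv_mem hc
  exact h hg

/-- `R` is a `k`-subspace -/
theorem uu_smul_mem (k : Subfield K) (α : K) {c r : K} (hc : c ∈ k) (hr : uu r ∈ HH k α) :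
    uu (c * r) ∈ HH k α := by
  by_cases h0 : c = 0
  · rw [h0, zero_mul, uu_zero]; exact Subgroup.one_mem _
  · have := dconj_mem k α (Units.mk0 c h0) hc hr
    rwa [dconj_uu] at this

/-- `S` is a `k`-subspace -/
theorem ll_smul_mem (k : Subfield K) (α : K) {c r : K} (hc : c ∈ k) (hr : ll r ∈ HH k α) :
    ll (c * r) ∈ HH k α := by
  by_cases h0 : c = 0
  · rw [h0, zero_mul, ll_zero]; exact Subgroup.one_mem _
  · have := dconj_mem k α (Units.mk0 c⁻¹ (inv_ne_zero h0)) (k.inv_mem hc) hr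
    rw [dconj_ll] at this
    simpa using this

theorem uu_add_mem (k : Subfield K) (α : K) {r s : K} (hr : uu r ∈ HH k α) (hs : uu s ∈ HH k α) :
    uu (r + s) ∈ HH k α := by
  rw [← uu_mul]; exact Subgroup.mul_mem _ hr hs

theorem ll_add_mem (k : Subfield K) (α : K) {r s : K} (hr : ll r ∈ HH k α) (hs : ll s ∈ HH k α) :
    ll (r + s) ∈ HH k α := by
  rw [← ll_mul]; exact Subgroup.mul_mem _ hr hs

theorem uu_neg_mem (k : Subfield K) (α : K) {r : K} (hr : uu r ∈ HH k α) :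
    uu (-r) ∈ HH k α := by
  rw [← uu_inv]; exact Subgroup.inv_mem _ hr

theorem ll_neg_mem (k : Subfield K) (α : K) {r : K} (hr : ll r ∈ HH k α) :
    ll (-r) ∈ HH k α := by
  rw [← ll_inv]; exact Subgroup.inv_mem _ hr

/-- The torus trick, first half: an upper triangular `g ∈ H` gives `u(g₀₁/g₀₀) ∈ H`. -/
theorem torus_uu (k : Subfield K) (α : K) (hk : ∃ c ∈ k, c ≠ 0 ∧ c ≠ 1) {g : SK}
    (hg : g ∈ HH k α) (h10 : (g : MK) 1 0 = 0) :
    uu ((g : MK) 0 1 / (g : MK) 0 0) ∈ HH k α := by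
  obtain ⟨c, hck, hc0, hc1⟩ := hk
  have hdet := det_eq g
  rw [h10, mul_zero, sub_zero] at hdet
  have h00 : (g : MK) 0 0 ≠ 0 := left_ne_zero_of_mul_eq_one hdet
  have h1 : g⁻¹ * dconj (Units.mk0 c hc0) g ∈ HH k α :=
    Subgroup.mul_mem _ (Subgroup.inv_mem _ hg) (dconj_mem k α _ hck hg)
  have h2 : g⁻¹ * dconj (Units.mk0 c hc0) g = uu ((c - 1) * ((g : MK) 0 1 / (g : MK) 0 0)) := by
    apply sl_ext
    · rw [mul_00, inv_00, inv_01, dconj_00, dconj_10, h10, uu_00, mul_zero, mul_zero, add_zero,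
        mul_comm, hdet]
    · rw [mul_01, inv_00, inv_01, dconj_01, dconj_11, uu_01]
      simp only [Units.val_mk0]
      have h11 : (g : MK) 1 1 = ((g : MK) 0 0)⁻¹ := eq_inv_of_mul_eq_one_right hdet
      rw [h11]
      field_simp
      ring
    · rw [mul_10, inv_10, inv_11, dconj_00, dconj_10, h10, uu_10]
      ring
    · rw [mul_11, inv_10, inv_11, dconj_01, dconj_11, h10, uu_11, neg_zero, zero_mul, zero_add, hdet]
  rw [h2] at h1
  have hc1' : c - 1 ≠ 0 := sub_ne_zero.mpr hc1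
  have h3 := uu_smul_mem k α (k.inv_mem (k.sub_mem hck k.one_mem)) h1
  rwa [← mul_assoc, inv_mul_cancel₀ hc1', one_mul] at h3

/-- The torus trick: an upper triangular `g ∈ H` gives `h(g₀₀) ∈ H`. -/
theorem torus_hh (k : Subfield K) (α : K) (hk : ∃ c ∈ k, c ≠ 0 ∧ c ≠ 1) {g : SK}
    (hg : g ∈ HH k α) (h10 : (g : MK) 1 0 = 0) (ρ : Kˣ) (hρ : (g : MK) 0 0 = ρ) :
    hh ρ ∈ HH k α := by
  have h1 := torus_uu k α hk hg h10
  have hdet := det_eq g
  rw [h10, mul_zero, sub_zero] at hdet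
  have h11 : (g : MK) 1 1 = ((g : MK) 0 0)⁻¹ := eq_inv_of_mul_eq_one_right hdet
  have h2 : hh ρ = g * uu (-((g : MK) 0 1 / (g : MK) 0 0)) := by
    apply sl_ext
    · rw [mul_00, uu_00, uu_10, hh_00, mul_one, mul_zero, add_zero, hρ]
    · rw [mul_01, uu_01, uu_11, hh_01, hρ]
      field_simp
      ring
    · rw [mul_10, uu_00, uu_10, hh_10, h10]; ring
    · rw [mul_11, uu_01, uu_11, hh_11, h10, h11, hρ]; simp
  rw [h2]
  exact Subgroup.mul_mem _ hg (uu_neg_mem k α h1)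

end Cfsg.Agent.Helper18.SL2Ext
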