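import Mathlib
import Cfsg.Agent.Helper18.SL2Ext1

/-! `⟨u(k), l(kα)⟩ = SL₂(k(α))`, part 2: multipliers, matrices with entries in a subfield. -/

set_option autoImplicit false

namespace Cfsg.Agent.Helper18.SL2Ext

open Cfsg.Agent.Helper18.NatMod

variable {K : Type*} [Field K]

local notation "SK" => Matrix.SpecialLinearGroup (Fin 2) K
local notation "MK" => Matrix (Fin 2) (Fin 2) K

/-- the algebra of multipliers of `R` and `S` -/
def Lam (k : Subfield K) (α : K) : Subalgebra k K where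
  carrier := {x | (∀ r, uu r ∈ HH k α → uu (x * r) ∈ HH k α) ∧
    (∀ s, ll s ∈ HH k α → ll (x * s) ∈ HH k α)}
  mul_mem' := by
    rintro a b ⟨ha1, ha2⟩ ⟨hb1, hb2⟩
    exact ⟨fun r hr => by rw [mul_assoc]; exact ha1 _ (hb1 r hr),
      fun r hr => by rw [mul_assoc]; exact ha2 _ (hb2 r hr)⟩
  add_mem' := by
    rintro a b ⟨ha1, ha2⟩ ⟨hb1, hb2⟩
    exact ⟨fun r hr => by rw [add_mul]; exact uu_add_mem k α (ha1 r hr) (hb1 r hr),
      fun r hr => by rw [add_mul]; exact ll_add_mem k α (ha2 r hr) (hb2 r hr)⟩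
  algebraMap_mem' := by
    intro c
    exact ⟨fun r hr => uu_smul_mem k α c.2 hr, fun s hs => ll_smul_mem k α c.2 hs⟩

theorem mem_Lam (k : Subfield K) (α : K) (x : K) :
    x ∈ Lam k α ↔ (∀ r, uu r ∈ HH k α → uu (x * r) ∈ HH k α) ∧
    (∀ s, ll s ∈ HH k α → ll (x * s) ∈ HH k α) := Iff.rfl

theorem mem_Lam_of_mem (k : Subfield K) (α : K) {c : K} (hc : c ∈ k) : c ∈ Lam k α :=
  (Lam k α).algebraMap_mem ⟨c, hc⟩

theorem sq_mem_Lam (k : Subfield K) (α : K) (ρ : Kˣ) (h : hh ρ ∈ HH k α) :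
    (ρ : K) ^ 2 ∈ Lam k α := by
  have h' : hh ρ⁻¹ ∈ HH k α := by rw [← hh_inv]; exact Subgroup.inv_mem _ h
  constructor
  · intro r hr
    have e : uu ((ρ : K) ^ 2 * r) = hh ρ * uu r * (hh ρ)⁻¹ := by
      rw [hh_mul_uu, mul_inv_cancel_right]
    rw [e]
    exact Subgroup.mul_mem _ (Subgroup.mul_mem _ h hr) (Subgroup.inv_mem _ h)
  · intro s hs
    have e : ll ((ρ : K) ^ 2 * s) = hh ρ⁻¹ * ll s * (hh ρ⁻¹)⁻¹ := by
      rw [hh_mul_ll, mul_inv_cancel_right, inv_inv]
    rw [e]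
    exact Subgroup.mul_mem _ (Subgroup.mul_mem _ h' hs) (Subgroup.inv_mem _ h')

/-- matrices with entries in a subfield -/
def entriesIn (L : Subfield K) : Subgroup SK where
  carrier := {g | ∀ i j, (g : MK) i j ∈ L}
  mul_mem' := by
    intro g h hg hh' i j
    rw [Matrix.SpecialLinearGroup.coe_mul, Matrix.mul_apply, Fin.sum_univ_two]
    exact L.add_mem (L.mul_mem (hg _ _) (hh' _ _)) (L.mul_mem (hg _ _) (hh' _ _))
  one_mem' := by
    intro i j
    rw [Matrix.SpecialLinearGroup.coe_one, Matrix.one_apply]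
    split_ifs
    · exact L.one_mem
    · exact L.zero_mem
  inv_mem' := by
    intro g hg i j
    fin_cases i <;> fin_cases j
    · change ((g⁻¹ : SK) : MK) 0 0 ∈ L
      rw [inv_00]; exact hg _ _
    · change ((g⁻¹ : SK) : MK) 0 1 ∈ L
      rw [inv_01]; exact L.neg_mem (hg _ _)
    · change ((g⁻¹ : SK) : MK) 1 0 ∈ L
      rw [inv_10]; exact L.neg_mem (hg _ _)
    · change ((g⁻¹ : SK) : MK) 1 1 ∈ L
      rw [inv_11]; exact hg _ _

theorem mem_entriesIn (L : Subfield K) (g : SK) :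
    g ∈ entriesIn L ↔ ∀ i j, (g : MK) i j ∈ L := Iff.rfl

theorem uu_mem_entriesIn (L : Subfield K) {x : K} (hx : x ∈ L) : uu x ∈ entriesIn L := by
  intro i j
  fin_cases i <;> fin_cases j
  · change ((uu x : SK) : MK) 0 0 ∈ L
    rw [uu_00]; exact L.one_mem
  · change ((uu x : SK) : MK) 0 1 ∈ L
    rw [uu_01]; exact hx
  · change ((uu x : SK) : MK) 1 0 ∈ L
    rw [uu_10]; exact L.zero_mem
  · change ((uu x : SK) : MK) 1 1 ∈ L
    rw [uu_11]; exact L.one_mem

theorem ll_mem_entriesIn (L : Subfield K) {x : K} (hx : x ∈ L) : ll x ∈ entriesIn L := by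
  intro i j
  fin_cases i <;> fin_cases j
  · change ((ll x : SK) : MK) 0 0 ∈ L
    rw [ll_00]; exact L.one_mem
  · change ((ll x : SK) : MK) 0 1 ∈ L
    rw [ll_01]; exact L.zero_mem
  · change ((ll x : SK) : MK) 1 0 ∈ L
    rw [ll_10]; exact hx
  · change ((ll x : SK) : MK) 1 1 ∈ L
    rw [ll_11]; exact L.one_mem

theorem mem_of_entries_aux (N : Subgroup SK) (L : Subfield K) (hu : ∀ x ∈ L, uu x ∈ N)
    (hl : ∀ x ∈ L, ll x ∈ N) (g : SK) (hg : g ∈ entriesIn L) (h10 : (g : MK) 1 0 ≠ 0) :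
    g ∈ N := by
  have hdet := det_eq g
  have e : g = uu (((g : MK) 0 0 - 1) / (g : MK) 1 0) * ll ((g : MK) 1 0) *
      uu (((g : MK) 1 1 - 1) / (g : MK) 1 0) := by
    apply sl_ext
    · rw [mul_00, mul_00, mul_01]
      simp only [uu_00, uu_01, uu_10, uu_11, ll_00, ll_01, ll_10, ll_11]
      field_simp
      ring
    · rw [mul_01, mul_00, mul_01]
      simp only [uu_00, uu_01, uu_10, uu_11, ll_00, ll_01, ll_10, ll_11]
      field_simp
      linear_combination -hdet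
    · rw [mul_10, mul_10, mul_11]
      simp only [uu_00, uu_01, uu_10, uu_11, ll_00, ll_01, ll_10, ll_11]
      ring
    · rw [mul_11, mul_10, mul_11]
      simp only [uu_00, uu_01, uu_10, uu_11, ll_00, ll_01, ll_10, ll_11]
      field_simp
      ring
  rw [e]
  refine N.mul_mem (N.mul_mem (hu _ ?_) (hl _ (hg _ _))) (hu _ ?_)
  · exact L.div_mem (L.sub_mem (hg _ _) L.one_mem) (hg _ _)
  · exact L.div_mem (L.sub_mem (hg _ _) L.one_mem) (hg _ _)

/-- a subgroup containing `u(L)` and `l(L)` contains all matrices with entries in `L` -/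
theorem mem_of_entries (N : Subgroup SK) (L : Subfield K) (hu : ∀ x ∈ L, uu x ∈ N)
    (hl : ∀ x ∈ L, ll x ∈ N) (g : SK) (hg : g ∈ entriesIn L) : g ∈ N := by
  by_cases h10 : (g : MK) 1 0 = 0
  · have hdet := det_eq g
    rw [h10, mul_zero, sub_zero] at hdet
    have h00 : (g : MK) 0 0 ≠ 0 := left_ne_zero_of_mul_eq_one hdet
    have h1 : ll 1 * g ∈ N := by
      apply mem_of_entries_aux N L hu hl
      · exact (entriesIn L).mul_mem (ll_mem_entriesIn L L.one_mem) hg
      · rw [mul_10, ll_10, ll_11, h10, one_mul, one_mul, add_zero]; exact h00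
    have e : g = (ll 1)⁻¹ * (ll 1 * g) := by rw [inv_mul_cancel_left]
    rw [e]
    exact N.mul_mem (N.inv_mem (hl 1 L.one_mem)) h1
  · exact mem_of_entries_aux N L hu hl g hg h10

theorem ww_mem_entriesIn (L : Subfield K) : (ww : SK) ∈ entriesIn L := by
  intro i j
  fin_cases i <;> fin_cases j
  · change ((ww : SK) : MK) 0 0 ∈ L
    rw [ww_coe]; simp
  · change ((ww : SK) : MK) 0 1 ∈ L
    rw [ww_coe]; simp
  · change ((ww : SK) : MK) 1 0 ∈ L
    rw [ww_coe]; simp
  · change ((ww : SK) : MK) 1 1 ∈ L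
    rw [ww_coe]; simp

theorem hh_mem_entriesIn (L : Subfield K) (t : Kˣ) (ht : (t : K) ∈ L) : hh t ∈ entriesIn L := by
  intro i j
  fin_cases i <;> fin_cases j
  · change ((hh t : SK) : MK) 0 0 ∈ L
    rw [hh_00]; exact ht
  · change ((hh t : SK) : MK) 0 1 ∈ L
    rw [hh_01]; exact L.zero_mem
  · change ((hh t : SK) : MK) 1 0 ∈ L
    rw [hh_10]; exact L.zero_mem
  · change ((hh t : SK) : MK) 1 1 ∈ L
    rw [hh_11]
    have : ((t⁻¹ : Kˣ) : K) = (t : K)⁻¹ := by simp
    rw [this]; exact L.inv_mem ht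

/-- A subalgebra (over `k`) containing an algebraic `β` contains `k(β)`. -/
theorem closure_le_subalgebra (k : Subfield K) (β : K) (hβ : IsAlgebraic k β)
    (Λ : Subalgebra k K) (hβΛ : β ∈ Λ) {x : K}
    (hx : x ∈ Subfield.closure ((k : Set K) ∪ {β})) : x ∈ Λ := by
  have e := IntermediateField.adjoin_simple_toSubalgebra_of_isAlgebraic hβ
  have hr : Set.range (algebraMap k K) = (k : Set K) := by
    ext y
    constructor
    · rintro ⟨z, rfl⟩; exact z.2
    · intro hy; exact ⟨⟨y, hy⟩, rfl⟩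
  have h1 : x ∈ (IntermediateField.adjoin k ({β} : Set K)).toSubfield := by
    rw [IntermediateField.adjoin_toSubfield, hr]; exact hx
  have h2 : x ∈ (IntermediateField.adjoin k ({β} : Set K)).toSubalgebra := h1
  rw [e] at h2
  have h3 : Algebra.adjoin k ({β} : Set K) ≤ Λ := by
    rw [Algebra.adjoin_le_iff]
    intro y hy
    rw [Set.mem_singleton_iff] at hy
    rw [hy]; exact hβΛ
  exact h3 h2

end Cfsg.Agent.Helper18.SL2Ext
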