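import Mathlib
import Cfsg.Agent.Helper18.SL2Ext2

/-! `⟨u(k), l(kα)⟩ = SL₂(k(α))`, part 3: the conjugation chain and the relation among 2-power
powers; a 2-power power of `α` is a multiplier. -/

set_option autoImplicit false

namespace Cfsg.Agent.Helper18.SL2Ext

open Cfsg.Agent.Helper18.NatMod

variable {K : Type*} [Field K]

local notation "SK" => Matrix.SpecialLinearGroup (Fin 2) K
local notation "MK" => Matrix (Fin 2) (Fin 2) K

/-- `Orb k α μ z`: some element of `H` maps `e₁` to `μ (z, 1)` -/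
def Orb (k : Subfield K) (α μ z : K) : Prop :=
  ∃ h ∈ HH k α, (h : MK) 0 0 = μ * z ∧ (h : MK) 1 0 = μ

theorem orb_base (k : Subfield K) (α : K) (hα : α ≠ 0) {b : K} (hb : b ∈ k) (hb0 : b ≠ 0) :
    Orb k α (b * α) (b * α)⁻¹ :=
  ⟨ll (b * α), ll_mem_HH k α hb, by rw [ll_00, mul_inv_cancel₀ (mul_ne_zero hb0 hα)], ll_10 _⟩

theorem orb_step (k : Subfield K) (α : K) {μ z c : K} (h : Orb k α μ z) (hc : c ∈ k) (hc0 : c ≠ 0)
    (hμ : μ ≠ 0) : Orb k α (c * μ ^ 2) (z + (c * μ ^ 2)⁻¹) := by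
  obtain ⟨h, hh, h00, h10⟩ := h
  have hdet := det_eq h
  refine ⟨h * uu (-c) * h⁻¹,
    Subgroup.mul_mem _ (Subgroup.mul_mem _ hh (uu_mem_HH k α (k.neg_mem hc))) (Subgroup.inv_mem _ hh),
    ?_, ?_⟩
  · rw [mul_00, mul_00, mul_01, inv_00, inv_10, uu_00, uu_01, uu_10, uu_11]
    rw [h00, h10] at hdet ⊢
    have hne : c * μ ^ 2 ≠ 0 := mul_ne_zero hc0 (pow_ne_zero _ hμ)
    rw [mul_add, mul_inv_cancel₀ hne]
    linear_combination hdet
  · rw [mul_10, mul_10, mul_11, inv_00, inv_10, uu_00, uu_01, uu_10, uu_11, h10]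
    ring

theorem orb_chain (k : Subfield K) (α : K) (hα : α ≠ 0) (κ : ℕ → K) (hκ : ∀ j, κ j ∈ k)
    (hκ0 : ∀ j, κ j ≠ 0) (m : ℕ) :
    Orb k α (κ m * α ^ (2 ^ m)) (∑ j ∈ Finset.range (m + 1), (κ j * α ^ (2 ^ j))⁻¹) := by
  induction m with
  | zero =>
    have := orb_base k α hα (hκ 0) (hκ0 0)
    simpa using this
  | succ m ih =>
    have hμ : κ m * α ^ (2 ^ m) ≠ 0 := mul_ne_zero (hκ0 m) (pow_ne_zero _ hα)
    have hc : κ (m + 1) / (κ m) ^ 2 ∈ k := k.div_mem (hκ _) (k.pow_mem (hκ _) 2)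
    have hc0 : κ (m + 1) / (κ m) ^ 2 ≠ 0 := div_ne_zero (hκ0 _) (pow_ne_zero _ (hκ0 _))
    have h1 := orb_step k α ih hc hc0 hμ
    have e : κ (m + 1) / (κ m) ^ 2 * (κ m * α ^ (2 ^ m)) ^ 2 = κ (m + 1) * α ^ (2 ^ (m + 1)) := by
      have : α ^ (2 ^ (m + 1)) = (α ^ (2 ^ m)) ^ 2 := by rw [← pow_mul, pow_succ]
      rw [this]
      have := hκ0 m
      field_simp
    rw [e] at h1
    rw [Finset.sum_range_succ]
    exact h1

theorem orb_torus (k : Subfield K) (α : K) (hk : ∃ c ∈ k, c ≠ 0 ∧ c ≠ 1) {μ μ' z : K}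
    (h : Orb k α μ z) (h' : Orb k α μ' z) (ρ : Kˣ) (hρ : (ρ : K) * μ' = μ) :
    hh ρ ∈ HH k α := by
  obtain ⟨g, hg, g00, g10⟩ := h
  obtain ⟨g', hg', g'00, g'10⟩ := h'
  have hdet := det_eq g'
  rw [g'00, g'10] at hdet
  apply torus_hh k α hk (g := g'⁻¹ * g) (Subgroup.mul_mem _ (Subgroup.inv_mem _ hg') hg)
  · rw [mul_10, inv_10, inv_11, g00, g10, g'00, g'10]; ring
  · rw [mul_00, inv_00, inv_01, g00, g10, ← hρ]
    linear_combination (ρ : K) * hdet

/-- a linear relation among the `2`-power powers of an algebraic element -/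
theorem exists_relation (k : Subfield K) (a : K) (ha : IsAlgebraic k a) (ha0 : a ≠ 0) :
    ∃ (N : ℕ) (e : ℕ → K), (∀ j, e j ∈ k) ∧
      ∑ j ∈ Finset.range (N + 1), e j * a ^ (2 ^ j) + a ^ (2 ^ (N + 1)) = 0 := by
  have : FiniteDimensional k (IntermediateField.adjoin k ({a} : Set K)) :=
    IntermediateField.adjoin.finiteDimensional ha.isIntegral
  have hmem : a ∈ IntermediateField.adjoin k ({a} : Set K) :=
    IntermediateField.mem_adjoin_simple_self k a
  let f : ℕ → IntermediateField.adjoin k ({a} : Set K) := fun j => ⟨a, hmem⟩ ^ (2 ^ j)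
  have hnli : ¬ LinearIndependent k f := by
    intro hli
    have := hli.finite_of_isNoetherian
    exact not_finite ℕ
  rw [not_linearIndependent_iff] at hnli
  obtain ⟨s, g, hsum, i0, hi0, hgi0⟩ := hnli
  -- push the relation to `K`
  have hsumK : ∑ i ∈ s, ((g i : k) : K) * a ^ (2 ^ i) = 0 := by
    have := congrArg (fun x : IntermediateField.adjoin k ({a} : Set K) => (x : K)) hsum
    simp only [f, Algebra.smul_def, AddSubmonoidClass.coe_finsetSum, MulMemClass.coe_mul,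
      SubmonoidClass.coe_pow, ZeroMemClass.coe_zero] at this
    exact this
  classical
  obtain ⟨s', hs'⟩ : ∃ s' : Finset ℕ, s' = s.filter (fun i => g i ≠ 0) := ⟨_, rfl⟩
  have hne : s'.Nonempty := ⟨i0, by rw [hs']; exact Finset.mem_filter.mpr ⟨hi0, hgi0⟩⟩
  obtain ⟨M, hMdef⟩ : ∃ M, M = s'.max' hne := ⟨_, rfl⟩
  have hM : M ∈ s' := by rw [hMdef]; exact Finset.max'_mem _ _
  have hgM : g M ≠ 0 := by rw [hs'] at hM; exact (Finset.mem_filter.mp hM).2
  have hgMK : ((g M : k) : K) ≠ 0 := by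
    intro h; apply hgM; exact Subtype.ext h
  have hsum' : ∑ i ∈ s', ((g i : k) : K) * a ^ (2 ^ i) = 0 := by
    rw [← hsumK, hs']
    apply Finset.sum_filter_of_ne
    intro x _ hx h0
    apply hx
    rw [h0]; simp
  have hsub : s' ⊆ Finset.range (M + 1) := by
    intro i hi
    rw [Finset.mem_range, Nat.lt_succ_iff, hMdef]
    exact Finset.le_max' _ _ hi
  have hsum'' : ∑ i ∈ Finset.range (M + 1),
      ((g i : k) : K) * a ^ (2 ^ i) * (if i ∈ s' then 1 else 0) = 0 := by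
    have h1 : ∑ i ∈ s', ((g i : k) : K) * a ^ (2 ^ i) * (if i ∈ s' then 1 else 0) =
        ∑ i ∈ Finset.range (M + 1), ((g i : k) : K) * a ^ (2 ^ i) * (if i ∈ s' then 1 else 0) :=
      Finset.sum_subset hsub (fun i _ hi => by rw [if_neg hi, mul_zero])
    calc _ = ∑ i ∈ s', ((g i : k) : K) * a ^ (2 ^ i) * (if i ∈ s' then 1 else 0) := h1.symm
      _ = ∑ i ∈ s', ((g i : k) : K) * a ^ (2 ^ i) :=
        Finset.sum_congr rfl (fun i hi => by rw [if_pos hi, mul_one])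
      _ = 0 := hsum'
  -- `M ≥ 1`
  have hM1 : M ≠ 0 := by
    intro hM0
    rw [hM0] at hsum'' hM hgMK
    rw [Finset.sum_range_one, if_pos hM, mul_one, pow_zero, pow_one] at hsum''
    rcases mul_eq_zero.mp hsum'' with h | h
    · exact hgMK h
    · exact ha0 h
  obtain ⟨N, hN⟩ : ∃ N, M = N + 1 := Nat.exists_eq_add_one_of_ne_zero hM1
  rw [hN] at hsum'' hM hgMK
  refine ⟨N, fun j => (if j ∈ s' then ((g j : k) : K) else 0) / ((g (N + 1) : k) : K), ?_, ?_⟩
  · intro j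
    apply k.div_mem _ (g (N + 1)).2
    split_ifs
    · exact (g j).2
    · exact k.zero_mem
  · rw [Finset.sum_range_succ, if_pos hM, mul_one] at hsum''
    have e : ∑ j ∈ Finset.range (N + 1),
        (if j ∈ s' then ((g j : k) : K) else 0) / ((g (N + 1) : k) : K) * a ^ (2 ^ j) =
        (∑ x ∈ Finset.range (N + 1), ((g x : k) : K) * a ^ (2 ^ x) * if x ∈ s' then 1 else 0) /
          ((g (N + 1) : k) : K) := by
      rw [Finset.sum_div]
      apply Finset.sum_congr rfl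
      intro j _
      split_ifs <;> ring
    rw [e]
    field_simp
    linear_combination hsum''

theorem HH_le_of_Lam (k k' : Subfield K) (α : K) (h : ∀ x ∈ k', x ∈ Lam k α) :
    HH k' α ≤ HH k α := by
  apply HH_le
  · intro c hc
    have h1 := ((mem_Lam k α c).mp (h c hc)).1 1 (uu_mem_HH k α k.one_mem)
    rwa [mul_one] at h1
  · intro c hc
    have h0 : ll α ∈ HH k α := by
      have := ll_mem_HH k α k.one_mem
      rwa [one_mul] at this
    exact ((mem_Lam k α c).mp (h c hc)).2 α h0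

/-- some `2`-power power of `α` is a multiplier -/
theorem exists_pow_mem_Lam (k : Subfield K) (hk : ∃ c ∈ k, c ≠ 0 ∧ c ≠ 1) (α : K)
    (hα : IsAlgebraic k α) (hα0 : α ≠ 0) : ∃ M : ℕ, α ^ (2 ^ M) ∈ Lam k α := by
  obtain ⟨N, e, he, hrel⟩ := exists_relation k α⁻¹ hα.inv (inv_ne_zero hα0)
  have hch : ∀ x ∈ k, ∃ d ∈ k, d ≠ 0 ∧ d ≠ x := by
    obtain ⟨c, hck, hc0, hc1⟩ := hk
    intro x _
    by_cases hx : x = 1
    · exact ⟨c, hck, hc0, by rw [hx]; exact hc1⟩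
    · exact ⟨1, k.one_mem, one_ne_zero, fun h => hx h.symm⟩
  choose d hdk hd0 hde using fun j => hch (e j) (he j)
  -- the two sequences
  have hde' : ∀ j, d j - e j ≠ 0 := fun j => sub_ne_zero.mpr (hde j)
  have h1 := orb_chain k α hα0 (fun j => if j ≤ N then (d j)⁻¹ else 1)
    (fun j => by
      show (if j ≤ N then (d j)⁻¹ else 1) ∈ k
      split_ifs
      · exact k.inv_mem (hdk j)
      · exact k.one_mem)
    (fun j => by
      show (if j ≤ N then (d j)⁻¹ else 1) ≠ 0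
      split_ifs
      · exact inv_ne_zero (hd0 j)
      · exact one_ne_zero) (N + 1)
  have h2 := orb_chain k α hα0 (fun j => (d j - e j)⁻¹)
    (fun j => k.inv_mem (k.sub_mem (hdk j) (he j))) (fun j => inv_ne_zero (hde' j)) N
  beta_reduce at h1 h2
  rw [if_neg (by omega), one_mul] at h1
  -- the two sums agree
  have hs : ∑ j ∈ Finset.range (N + 1 + 1), ((if j ≤ N then (d j)⁻¹ else 1) * α ^ (2 ^ j))⁻¹ =
      ∑ j ∈ Finset.range (N + 1), ((d j - e j)⁻¹ * α ^ (2 ^ j))⁻¹ := by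
    rw [Finset.sum_range_succ, if_neg (by omega), one_mul]
    have e1 : ∑ j ∈ Finset.range (N + 1), ((if j ≤ N then (d j)⁻¹ else 1) * α ^ (2 ^ j))⁻¹ =
        ∑ j ∈ Finset.range (N + 1), (d j * α⁻¹ ^ (2 ^ j)) := by
      apply Finset.sum_congr rfl
      intro j hj
      rw [Finset.mem_range] at hj
      rw [if_pos (by omega), mul_inv, inv_inv, inv_pow]
    have e2 : ∑ j ∈ Finset.range (N + 1), ((d j - e j)⁻¹ * α ^ (2 ^ j))⁻¹ =
        ∑ j ∈ Finset.range (N + 1), (d j * α⁻¹ ^ (2 ^ j)) -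
        ∑ j ∈ Finset.range (N + 1), (e j * α⁻¹ ^ (2 ^ j)) := by
      rw [← Finset.sum_sub_distrib]
      apply Finset.sum_congr rfl
      intro j _
      rw [mul_inv, inv_inv, inv_pow]; ring
    rw [e1, e2, ← inv_pow]
    linear_combination hrel
  rw [hs] at h1
  -- the torus element
  have hρ0 : (d N - e N) * α ^ (2 ^ N) ≠ 0 := mul_ne_zero (hde' N) (pow_ne_zero _ hα0)
  have h3 := orb_torus k α hk h1 h2 (Units.mk0 _ hρ0) (by
    rw [Units.val_mk0]
    have : α ^ (2 ^ (N + 1)) = (α ^ (2 ^ N)) ^ 2 := by rw [← pow_mul, pow_succ]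
    rw [this]
    have := hde' N
    field_simp)
  have h4 := sq_mem_Lam k α _ h3
  rw [Units.val_mk0] at h4
  refine ⟨N + 1, ?_⟩
  have h5 : ((d N - e N)⁻¹) ^ 2 ∈ Lam k α :=
    mem_Lam_of_mem k α (k.pow_mem (k.inv_mem (k.sub_mem (hdk N) (he N))) 2)
  have h6 := (Lam k α).mul_mem h5 h4
  have e3 : ((d N - e N)⁻¹) ^ 2 * ((d N - e N) * α ^ (2 ^ N)) ^ 2 = α ^ (2 ^ (N + 1)) := by
    have : α ^ (2 ^ (N + 1)) = (α ^ (2 ^ N)) ^ 2 := by rw [← pow_mul, pow_succ]
    rw [this]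
    have := hde' N
    field_simp
  rwa [e3] at h6

end Cfsg.Agent.Helper18.SL2Ext
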