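import Mathlib
import Cfsg.Agent.Helper18.SL2Ext3

/-! `⟨u(k), l(kα)⟩ = SL₂(k(α))`, part 4: the case where a `2`-power power of `α` lies in `k`. -/

set_option autoImplicit false

namespace Cfsg.Agent.Helper18.SL2Ext

open Cfsg.Agent.Helper18.NatMod

variable {K : Type*} [Field K]

local notation "SK" => Matrix.SpecialLinearGroup (Fin 2) K
local notation "MK" => Matrix (Fin 2) (Fin 2) K

theorem isAlgebraic_of_pow_mem (k : Subfield K) (α : K) (n : ℕ) (hn : 0 < n) (h : α ^ n ∈ k) :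
    IsAlgebraic k α := by
  refine ⟨Polynomial.X ^ n - Polynomial.C ⟨α ^ n, h⟩, Polynomial.X_pow_sub_C_ne_zero hn _, ?_⟩
  simp only [map_sub, map_pow, Polynomial.aeval_X, Polynomial.aeval_C]
  exact sub_self _

/-- `u(z) l(cα²) u(z)⁻¹ = l(α) u(-c) l(α)⁻¹` for `z = α⁻¹` -/
theorem conj_ll_sq (α c : K) (hα0 : α ≠ 0) :
    uu α⁻¹ * ll (c * α ^ 2) * (uu α⁻¹)⁻¹ = ll α * uu (-c) * (ll α)⁻¹ := by
  rw [uu_inv, ll_inv]
  apply sl_ext
  · rw [mul_00, mul_00, mul_01, mul_00, mul_00, mul_01]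
    simp only [uu_00, uu_01, uu_10, uu_11, ll_00, ll_01, ll_10, ll_11]
    field_simp
    ring
  · rw [mul_01, mul_00, mul_01, mul_01, mul_00, mul_01]
    simp only [uu_00, uu_01, uu_10, uu_11, ll_00, ll_01, ll_10, ll_11]
    field_simp
    ring
  · rw [mul_10, mul_10, mul_11, mul_10, mul_10, mul_11]
    simp only [uu_00, uu_01, uu_10, uu_11, ll_00, ll_01, ll_10, ll_11]
    field_simp
    ring
  · rw [mul_11, mul_10, mul_11, mul_11, mul_10, mul_11]
    simp only [uu_00, uu_01, uu_10, uu_11, ll_00, ll_01, ll_10, ll_11]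
    field_simp
    ring

theorem conj_uu (z c : K) : uu z * uu c * (uu z)⁻¹ = (uu c : SK) := by
  rw [uu_inv, uu_mul, uu_mul]
  congr 1
  ring

/-- conjugation by `u(α⁻¹)` maps `H(k, α²)` into `H(k, α)` -/
theorem conj_mem (k : Subfield K) (α : K) (hα0 : α ≠ 0) {g : SK} (hg : g ∈ HH k (α ^ 2)) :
    uu α⁻¹ * g * (uu α⁻¹)⁻¹ ∈ HH k α := by
  have h : HH k (α ^ 2) ≤ (HH k α).comap (MulAut.conj (uu α⁻¹)).toMonoidHom := by
    apply HH_le
    · intro c hc
      rw [Subgroup.mem_comap]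
      show uu α⁻¹ * uu c * (uu α⁻¹)⁻¹ ∈ HH k α
      rw [conj_uu]
      exact uu_mem_HH k α hc
    · intro c hc
      rw [Subgroup.mem_comap]
      show uu α⁻¹ * ll (c * α ^ 2) * (uu α⁻¹)⁻¹ ∈ HH k α
      rw [conj_ll_sq α c hα0]
      have h0 : ll α ∈ HH k α := by
        have := ll_mem_HH k α k.one_mem
        rwa [one_mul] at this
      exact Subgroup.mul_mem _ (Subgroup.mul_mem _ h0 (uu_mem_HH k α (k.neg_mem hc)))
        (Subgroup.inv_mem _ h0)
  exact h hg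

/-- the algebra `k' + k'α` when `α² ∈ k'` -/
def quadAlg (k k' : Subfield K) (hkk' : k ≤ k') (α : K) (hα : α ^ 2 ∈ k') : Subalgebra k K where
  carrier := {y | ∃ a b, a ∈ k' ∧ b ∈ k' ∧ y = a + b * α}
  mul_mem' := by
    rintro _ _ ⟨a, b, ha, hb, rfl⟩ ⟨a', b', ha', hb', rfl⟩
    refine ⟨a * a' + b * b' * α ^ 2, a * b' + a' * b,
      k'.add_mem (k'.mul_mem ha ha') (k'.mul_mem (k'.mul_mem hb hb') hα),
      k'.add_mem (k'.mul_mem ha hb') (k'.mul_mem ha' hb), ?_⟩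
    ring
  add_mem' := by
    rintro _ _ ⟨a, b, ha, hb, rfl⟩ ⟨a', b', ha', hb', rfl⟩
    exact ⟨a + a', b + b', k'.add_mem ha ha', k'.add_mem hb hb', by ring⟩
  algebraMap_mem' := by
    intro c
    exact ⟨c, 0, hkk' c.2, k'.zero_mem, by simp; rfl⟩

theorem radical (h2 : (2 : K) ≠ 0) : ∀ (i : ℕ) (k : Subfield K)
    (_ : ∃ c ∈ k, c ≠ 0 ∧ c ≠ 1 ∧ c ≠ -1) (α : K) (_ : α ≠ 0) (_ : α ^ (2 ^ i) ∈ k),
    ∀ x ∈ Subfield.closure ((k : Set K) ∪ {α}), uu x ∈ HH k α ∧ ll x ∈ HH k α := by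
  intro i
  induction i with
  | zero =>
    intro k _ α hα0 hα x hx
    rw [pow_zero, pow_one] at hα
    have hle : Subfield.closure ((k : Set K) ∪ {α}) ≤ k := by
      rw [Subfield.closure_le]
      rintro y (hy | hy)
      · exact hy
      · rw [Set.mem_singleton_iff] at hy; rw [hy]; exact hα
    have hxk := hle hx
    refine ⟨uu_mem_HH k α hxk, ?_⟩
    have := ll_mem_HH k α (k.div_mem hxk hα)
    rwa [div_mul_cancel₀ _ hα0] at this
  | succ i ih =>
    intro k hk α hα0 hα x hx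
    have hα2 : (α ^ 2) ^ (2 ^ i) ∈ k := by
      rw [← pow_mul, ← pow_succ']; exact hα
    have hk' : ∃ c ∈ k, c ≠ 0 ∧ c ≠ 1 := by
      obtain ⟨c, hc, h0, h1, _⟩ := hk
      exact ⟨c, hc, h0, h1⟩
    have IH := ih k hk (α ^ 2) (pow_ne_zero _ hα0) hα2
    obtain ⟨k', hk'def⟩ : ∃ k' : Subfield K, k' = Subfield.closure ((k : Set K) ∪ {α ^ 2}) :=
      ⟨_, rfl⟩
    rw [← hk'def] at IH
    have hkk' : k ≤ k' := by
      rw [hk'def]
      intro y hy
      exact Subfield.subset_closure (Or.inl hy)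
    have hα2k' : α ^ 2 ∈ k' := by
      rw [hk'def]
      exact Subfield.subset_closure (Or.inr rfl)
    -- `u(α⁻¹) ∈ H`
    obtain ⟨c, hck, hc0, hc1, hc2⟩ := hk
    have hhc : hh (Units.mk0 c hc0) ∈ HH k (α ^ 2) :=
      mem_of_entries _ k' (fun y hy => (IH y hy).1) (fun y hy => (IH y hy).2) _
        (hh_mem_entriesIn k' _ (hkk' hck))
    have hg0 := conj_mem k α hα0 hhc
    have hcc : c⁻¹ ^ 2 - 1 ≠ 0 := by
      intro h
      have h3 : c ^ 2 = 1 := by
        have : c⁻¹ ^ 2 = 1 := sub_eq_zero.mp h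
        rw [inv_pow, inv_eq_one] at this
        exact this
      rcases sq_eq_one_iff.mp h3 with h | h
      · exact hc1 h
      · exact hc2 h
    have huz : uu α⁻¹ ∈ HH k α := by
      have h1 := torus_uu k α hk' hg0 (by
        rw [uu_inv, mul_10, mul_10, mul_11]
        simp only [uu_00, uu_01, uu_10, uu_11, hh_00, hh_01, hh_10, hh_11]
        ring)
      have e : ((uu α⁻¹ * hh (Units.mk0 c hc0) * (uu α⁻¹)⁻¹ : SK) : MK) 0 1 /
          ((uu α⁻¹ * hh (Units.mk0 c hc0) * (uu α⁻¹)⁻¹ : SK) : MK) 0 0 =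
          (c⁻¹ ^ 2 - 1) * α⁻¹ := by
        rw [uu_inv, mul_01, mul_00, mul_01, mul_00, mul_00, mul_01]
        simp only [uu_00, uu_01, uu_10, uu_11, hh_00, hh_01, hh_10, hh_11, Units.val_mk0]
        have : ((Units.mk0 c hc0)⁻¹ : Kˣ) = Units.mk0 c⁻¹ (inv_ne_zero hc0) := by
          ext; simp
        rw [this, Units.val_mk0]
        field_simp
        ring
      rw [e] at h1
      have h3 := uu_smul_mem k α
        (k.inv_mem (k.sub_mem (k.pow_mem (k.inv_mem hck) 2) k.one_mem)) h1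
      rwa [← mul_assoc, inv_mul_cancel₀ hcc, one_mul] at h3
    -- `H(k, α²) ≤ H(k, α)`
    have hle : HH k (α ^ 2) ≤ HH k α := by
      intro g hg
      have h1 := conj_mem k α hα0 hg
      have e : g = (uu α⁻¹)⁻¹ * (uu α⁻¹ * g * (uu α⁻¹)⁻¹) * uu α⁻¹ := by group
      rw [e]
      exact Subgroup.mul_mem _ (Subgroup.mul_mem _ (Subgroup.inv_mem _ huz) h1) huz
    have hu' : ∀ y ∈ k', uu y ∈ HH k α := fun y hy => hle (IH y hy).1
    have hl' : ∀ y ∈ k', ll y ∈ HH k α := fun y hy => hle (IH y hy).2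
    have hww : (ww : SK) ∈ HH k α := mem_of_entries _ k' hu' hl' _ (ww_mem_entriesIn k')
    -- `k' ⊆ Λ`
    have hsq : ∀ y ∈ k', y ^ 2 ∈ Lam k α := by
      intro y hy
      by_cases hy0 : y = 0
      · rw [hy0]; simp
      · have := sq_mem_Lam k α (Units.mk0 y hy0)
          (mem_of_entries _ k' hu' hl' _ (hh_mem_entriesIn k' _ hy))
        rwa [Units.val_mk0] at this
    have hLam : ∀ y ∈ k', y ∈ Lam k α := by
      intro y hy
      have e : y = ((y + 1) / 2) ^ 2 - ((y - 1) / 2) ^ 2 := by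
        field_simp
        ring
      have h2k : (2 : K) ∈ k' := by
        have : (2 : K) = 1 + 1 := by norm_num
        rw [this]; exact k'.add_mem k'.one_mem k'.one_mem
      rw [e]
      exact (Lam k α).sub_mem (hsq _ (k'.div_mem (k'.add_mem hy k'.one_mem) h2k))
        (hsq _ (k'.div_mem (k'.sub_mem hy k'.one_mem) h2k))
    -- `u(α) ∈ H`
    have hlα : ll α ∈ HH k α := by
      have := ll_mem_HH k α k.one_mem
      rwa [one_mul] at this
    have huα : uu α ∈ HH k α := by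
      have e : uu α = ((ww : SK) * ll α * ww⁻¹)⁻¹ := by
        rw [ww_mul_ll, mul_inv_cancel_right, uu_inv, neg_neg]
      rw [e]
      exact Subgroup.inv_mem _ (Subgroup.mul_mem _ (Subgroup.mul_mem _ hww hlα)
        (Subgroup.inv_mem _ hww))
    -- all of `k(α)`
    have halg : IsAlgebraic k α := isAlgebraic_of_pow_mem k α (2 ^ (i + 1)) (by positivity) hα
    have hx' := closure_le_subalgebra k α halg (quadAlg k k' hkk' α hα2k')
      ⟨0, 1, k'.zero_mem, k'.one_mem, by ring⟩ hx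
    obtain ⟨a, b, ha, hb, rfl⟩ := hx'
    have hub : uu (b * α) ∈ HH k α := ((mem_Lam k α b).mp (hLam b hb)).1 α huα
    have hu : uu (a + b * α) ∈ HH k α := uu_add_mem k α (hu' a ha) hub
    refine ⟨hu, ?_⟩
    have e : ll (a + b * α) = (ww : SK) * (uu (a + b * α))⁻¹ * ww⁻¹ := by
      rw [uu_inv, ww_mul_uu, mul_inv_cancel_right, neg_neg]
    rw [e]
    exact Subgroup.mul_mem _ (Subgroup.mul_mem _ hww (Subgroup.inv_mem _ hu))
      (Subgroup.inv_mem _ hww)

end Cfsg.Agent.Helper18.SL2Ext
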