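import Mathlib
import Cfsg.Agent.Helper18.SL2Ext4

/-! `⟨u(k), l(kα)⟩ = SL₂(k(α))`, part 5: the main theorem. -/

set_option autoImplicit false

namespace Cfsg.Agent.Helper18.SL2Ext

open Cfsg.Agent.Helper18.NatMod

variable {K : Type*} [Field K]

local notation "SK" => Matrix.SpecialLinearGroup (Fin 2) K
local notation "MK" => Matrix (Fin 2) (Fin 2) K

theorem main_subfield (h2 : (2 : K) ≠ 0) (k : Subfield K)
    (hk : ∃ c ∈ k, c ≠ 0 ∧ c ≠ 1 ∧ c ≠ -1) (α : K) (hα : IsAlgebraic k α) (hα0 : α ≠ 0) :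
    ∀ x ∈ Subfield.closure ((k : Set K) ∪ {α}), uu x ∈ HH k α ∧ ll x ∈ HH k α := by
  have hk' : ∃ c ∈ k, c ≠ 0 ∧ c ≠ 1 := by
    obtain ⟨c, hc, h0, h1, _⟩ := hk
    exact ⟨c, hc, h0, h1⟩
  obtain ⟨M, hM⟩ := exists_pow_mem_Lam k hk' α hα hα0
  obtain ⟨k', hk'def⟩ : ∃ k' : Subfield K, k' = Subfield.closure ((k : Set K) ∪ {α ^ (2 ^ M)}) :=
    ⟨_, rfl⟩
  have hβ : IsAlgebraic k (α ^ (2 ^ M)) := hα.pow _
  have hLam : ∀ x ∈ k', x ∈ Lam k α := by
    intro x hx
    rw [hk'def] at hx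
    exact closure_le_subalgebra k _ hβ (Lam k α) hM hx
  have hle := HH_le_of_Lam k k' α hLam
  have hkk' : k ≤ k' := by
    rw [hk'def]
    intro y hy
    exact Subfield.subset_closure (Or.inl hy)
  have hβk' : α ^ (2 ^ M) ∈ k' := by
    rw [hk'def]
    exact Subfield.subset_closure (Or.inr rfl)
  have hk'' : ∃ c ∈ k', c ≠ 0 ∧ c ≠ 1 ∧ c ≠ -1 := by
    obtain ⟨c, hc, h⟩ := hk
    exact ⟨c, hkk' hc, h⟩
  have hrad := radical h2 M k' hk'' α hα0 hβk'
  intro x hx
  have hx' : x ∈ Subfield.closure ((k' : Set K) ∪ {α}) := by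
    refine Subfield.closure_mono ?_ hx
    rintro y (hy | hy)
    · exact Or.inl (hkk' hy)
    · exact Or.inr hy
  exact ⟨hle (hrad x hx').1, hle (hrad x hx').2⟩

theorem HH_eq_entriesIn (h2 : (2 : K) ≠ 0) (k : Subfield K)
    (hk : ∃ c ∈ k, c ≠ 0 ∧ c ≠ 1 ∧ c ≠ -1) (α : K) (hα : IsAlgebraic k α) (hα0 : α ≠ 0) :
    HH k α = entriesIn (Subfield.closure ((k : Set K) ∪ {α})) := by
  apply le_antisymm
  · apply HH_le
    · intro c hc
      exact uu_mem_entriesIn _ (Subfield.subset_closure (Or.inl hc))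
    · intro c hc
      exact ll_mem_entriesIn _ (Subfield.mul_mem _ (Subfield.subset_closure (Or.inl hc))
        (Subfield.subset_closure (Or.inr rfl)))
  · intro g hg
    have h := main_subfield h2 k hk α hα hα0
    exact mem_of_entries _ _ (fun x hx => (h x hx).1) (fun x hx => (h x hx).2) g hg

theorem exists_good_of_card {k : Type*} [Field k] (hk2 : ringChar k ≠ 2) (hk3 : Nat.card k ≠ 3) :
    ∃ c : k, c ≠ 0 ∧ c ≠ 1 ∧ c ≠ -1 := by
  by_contra hcon
  push Not at hcon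
  apply hk3
  have h20 : (2 : k) ≠ 0 := Ring.two_ne_zero hk2
  have h11 : (1 : k) ≠ -1 := by
    intro h
    apply h20
    have : (2 : k) = 1 + 1 := by norm_num
    rw [this]
    nth_rewrite 2 [h]
    ring
  have huniv : (Set.univ : Set k) = {0, 1, -1} := by
    ext c
    simp only [Set.mem_univ, Set.mem_insert_iff, Set.mem_singleton_iff, true_iff]
    by_cases h0 : c = 0
    · exact Or.inl h0
    · by_cases h1 : c = 1
      · exact Or.inr (Or.inl h1)
      · exact Or.inr (Or.inr (hcon c h0 h1))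
  rw [← Set.ncard_univ, huniv, Set.ncard_insert_of_notMem, Set.ncard_pair h11]
  · simp only [Set.mem_insert_iff, Set.mem_singleton_iff, not_or]
    exact ⟨zero_ne_one, fun h => one_ne_zero (neg_eq_zero.mp h.symm)⟩

/-- The theorem in the form of statement S5060. -/
theorem sl_two_generated {k K : Type*} [Field k] [Field K] [Algebra k K] (hk2 : ringChar k ≠ 2)
    (hk3 : Nat.card k ≠ 3) (α : K) (hα : IsAlgebraic k α) (hα0 : α ≠ 0) :
    (Subgroup.closure ({g : Matrix.SpecialLinearGroup (Fin 2) K | ∃ c : k,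
        (g : Matrix (Fin 2) (Fin 2) K) = !![1, algebraMap k K c; 0, 1]} ∪
        {g : Matrix.SpecialLinearGroup (Fin 2) K | ∃ c : k,
          (g : Matrix (Fin 2) (Fin 2) K) = !![1, 0; algebraMap k K c * α, 1]}) :
      Set (Matrix.SpecialLinearGroup (Fin 2) K)) =
    {g : Matrix.SpecialLinearGroup (Fin 2) K | ∀ i j : Fin 2,
      (g : Matrix (Fin 2) (Fin 2) K) i j ∈ IntermediateField.adjoin k ({α} : Set K)} := by
  obtain ⟨k₀, hk₀⟩ : ∃ k₀ : Subfield K, k₀ = (algebraMap k K).fieldRange := ⟨_, rfl⟩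
  have hmem : ∀ y : K, y ∈ k₀ ↔ ∃ c : k, algebraMap k K c = y := by
    intro y
    rw [hk₀, RingHom.mem_fieldRange]
  have h2 : (2 : K) ≠ 0 := by
    have h20 : (2 : k) ≠ 0 := Ring.two_ne_zero hk2
    intro h
    apply h20
    apply (algebraMap k K).injective
    rw [map_ofNat, map_zero]
    exact h
  have hk : ∃ c ∈ k₀, c ≠ 0 ∧ c ≠ 1 ∧ c ≠ -1 := by
    obtain ⟨c, h0, h1, h11⟩ := exists_good_of_card hk2 hk3
    refine ⟨algebraMap k K c, (hmem _).mpr ⟨c, rfl⟩, ?_, ?_, ?_⟩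
    · intro h
      apply h0
      apply (algebraMap k K).injective
      rw [h, map_zero]
    · intro h
      apply h1
      apply (algebraMap k K).injective
      rw [h, map_one]
    · intro h
      apply h11
      apply (algebraMap k K).injective
      rw [h, map_neg, map_one]
  have hα' : IsAlgebraic k₀ α := by
    subst hk₀
    exact hα.ringHom_of_comp_eq (algebraMap k K).rangeRestrictField (RingHom.id K)
      (RingHom.injective _) (by ext; rfl)
  have hgen : ({g : Matrix.SpecialLinearGroup (Fin 2) K | ∃ c : k,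
        (g : Matrix (Fin 2) (Fin 2) K) = !![1, algebraMap k K c; 0, 1]} ∪
        {g : Matrix.SpecialLinearGroup (Fin 2) K | ∃ c : k,
          (g : Matrix (Fin 2) (Fin 2) K) = !![1, 0; algebraMap k K c * α, 1]}) =
      ({g | ∃ c ∈ k₀, g = uu c} ∪ {g | ∃ c ∈ k₀, g = ll (c * α)}) := by
    congr 1
    · ext g
      simp only [Set.mem_ofPred_eq]
      constructor
      · rintro ⟨c, hc⟩
        exact ⟨algebraMap k K c, (hmem _).mpr ⟨c, rfl⟩, Subtype.ext hc⟩
      · rintro ⟨y, hy, rfl⟩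
        obtain ⟨c, rfl⟩ := (hmem _).mp hy
        exact ⟨c, rfl⟩
    · ext g
      simp only [Set.mem_ofPred_eq]
      constructor
      · rintro ⟨c, hc⟩
        exact ⟨algebraMap k K c, (hmem _).mpr ⟨c, rfl⟩, Subtype.ext hc⟩
      · rintro ⟨y, hy, rfl⟩
        obtain ⟨c, rfl⟩ := (hmem _).mp hy
        exact ⟨c, rfl⟩
  rw [hgen]
  have hmain := HH_eq_entriesIn h2 k₀ hk α hα' hα0
  rw [HH] at hmain
  rw [hmain]
  have hL : (IntermediateField.adjoin k ({α} : Set K)).toSubfield =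
      Subfield.closure ((k₀ : Set K) ∪ {α}) := by
    rw [IntermediateField.adjoin_toSubfield, hk₀, RingHom.coe_fieldRange]
  ext g
  rw [SetLike.mem_coe, mem_entriesIn, ← hL]
  rfl

end Cfsg.Agent.Helper18.SL2Ext
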