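import Mathlib
import Cfsg.Agent.Helper25.QPDefs2
import Cfsg.Agent.Helper25.QPAct
import Cfsg.Agent.Helper25.UnipAlg
import Cfsg.Agent.Helper4.QPROOT
import Cfsg.Agent.Helper15.QPFIXC
import Cfsg.Agent.Helper18.QP2RS
import Cfsg.Agent.Helper19.QP68UP
import Cfsg.Agent.Helper19.QP68FLAG68
import Cfsg.Agent.Helper21.QP68AUG
import Cfsg.Agent.Helper27.QP68CLASS2
import Cfsg.Agent.Helper20.QP68COMMF
import Cfsg.Agent.Helper13.QP68CO
import Cfsg.Agent.Helper20.QP68NZ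
import Cfsg.Agent.Helper17.QPNONU2

set_option autoImplicit false
set_option linter.unusedSectionVars false
set_option linter.unusedVariables false

/-! Board `s5068pieces` (S5068 + S5066): DIM, SURJ68, CENT, UCORE and the two assemblies `S5068_of`,
`S5066_of` from the hypothesis structure `H65` (S5065 dichotomy + `S5065U` + `OPP`).
Math: `departures/helper18_QUADPAIR_G2.md`. -/

noncomputable section

universe u v

namespace Cfsg.Agent.QP68

open Cfsg Cfsg.Agent.Helper25.QP Cfsg.Agent.Helper25.QuadPair Cfsg.Agent.QPP Cfsg.Agent.Helper25.Unip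
open Cfsg.Agent.Helper25 Cfsg.Agent.QP2

variable {k : Type u} [Field k] {M : Type v} [AddCommGroup M] [Module k M]

local notation "GLkM" => LinearMap.GeneralLinearGroup k M

/-! ### members of `Σ` -/

theorem SIG_mem {G : Subgroup GLkM} {σ : GLkM} (hσ : σ ∈ minimalQuadraticElements G) :
    sameActionSubgroup G σ ∈ quadraticRootSubgroups G := ⟨σ, hσ, rfl⟩

theorem SIG_le [FiniteDimensional k M] {G : Subgroup GLkM} {A : Subgroup GLkM}
    (hA : A ∈ quadraticRootSubgroups G) : A ≤ G := by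
  obtain ⟨σ, hσ, rfl⟩ := hA
  exact ROOT_le hσ

theorem SIG_ne_bot [FiniteDimensional k M] {G : Subgroup GLkM} {A : Subgroup GLkM}
    (hA : A ∈ quadraticRootSubgroups G) : A ≠ ⊥ := by
  obtain ⟨σ, hσ, rfl⟩ := hA
  intro h
  have := (ROOT_self hσ).1
  rw [h, Subgroup.mem_bot] at this
  exact (ROOT_self hσ).2 this

theorem SIG_conj [FiniteDimensional k M] {G : Subgroup GLkM} {A : Subgroup GLkM}
    (hA : A ∈ quadraticRootSubgroups G) {g : GLkM} (hg : g ∈ G) :
    conjBy A g ∈ quadraticRootSubgroups G := by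
  obtain ⟨σ, hσ, rfl⟩ := hA
  exact ⟨_, (ROOT_conj hσ hg).1, (ROOT_conj hσ hg).2⟩

/-- a non-identity element of a root subgroup determines it -/
theorem SIG_eq [FiniteDimensional k M] {G : Subgroup GLkM} {σ e : GLkM}
    (hσ : σ ∈ minimalQuadraticElements G) (he : e ∈ sameActionSubgroup G σ) (he1 : e ≠ 1) :
    e ∈ minimalQuadraticElements G ∧ sameActionSubgroup G e = sameActionSubgroup G σ := by
  rcases (ROOT_mem hσ e).1 he with h | h
  · exact absurd h he1
  · exact ⟨h.1, ROOT_eq h.1 hσ h.2.1 h.2.2⟩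

/-! ### OPPN : a conjugate generating a non-unipotent group -/

theorem OPPN [FiniteDimensional k M] {G : Subgroup GLkM} (hG : IsIrreducibleFor G)
    {S : Set (Subgroup GLkM)} (hSG : ∀ A ∈ S, A ≤ G) (hne : ∀ A ∈ S, A ≠ ⊥)
    (hSconj : ∀ A ∈ S, ∀ g ∈ G, conjBy A g ∈ S)
    {A : Subgroup GLkM} (hA : A ∈ S) : ∃ g ∈ G, ¬ IsUnipotentOn (A ⊔ conjBy A g) := by
  by_contra hcon
  push Not at hcon
  set W : Set (Subgroup GLkM) := {B | ∃ g ∈ G, B = conjBy A g} with hW
  have hWG : ∀ B ∈ W, B ≤ G := by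
    rintro _ ⟨g, hg, rfl⟩
    exact hSG _ (hSconj A hA g hg)
  have hWW : ∀ B ∈ W, ∀ C ∈ W, IsUnipotentOn (B ⊔ C) := by
    rintro _ ⟨g, hg, rfl⟩ _ ⟨h, hh, rfl⟩
    have hu : g⁻¹ * h ∈ G := G.mul_mem (G.inv_mem hg) hh
    have h2 := UNI_conjBy (hcon _ hu) g
    rw [RS_conjBy_sup, conjBy_conjBy] at h2
    have h3 : g * (g⁻¹ * h) = h := by group
    rwa [h3] at h2
  have hWconj : ∀ B ∈ W, ∀ g ∈ G, conjBy B g ∈ W := by
    rintro _ ⟨h, hh, rfl⟩ g hg
    exact ⟨g * h, G.mul_mem hg hh, conjBy_conjBy A h g⟩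
  obtain ⟨hU, hUn⟩ := Cfsg.Agent.S5061.result hWG hWW hWconj
  have hUG : (⨆ B ∈ W, B) ≤ G := iSup₂_le hWG
  have hbot : (⨆ B ∈ W, B) = ⊥ := by
    refine UNI_irr hG hUG ?_ hU
    intro g hg u hu
    rw [← hUn g hg]
    exact conj_mem_conjBy hu
  apply hne A hA
  rw [eq_bot_iff, ← hbot]
  exact le_iSup₂_of_le A ⟨1, G.one_mem, (conjBy_one A).symm⟩ le_rfl

/-! ### the hypotheses coming from S5065 and its pieces -/

/-- what is used of S5065 and of its pieces `S5065U`, `OPP` -/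
structure H65 (G : Subgroup (LinearMap.GeneralLinearGroup k M)) : Prop where
  dich : ∀ σ τ : LinearMap.GeneralLinearGroup k M, σ ∈ minimalQuadraticElements G →
    τ ∈ minimalQuadraticElements G →
    IsUnipotentOn (sameActionSubgroup G σ ⊔ sameActionSubgroup G τ) ∨
      IsRankOnePair (sameActionSubgroup G σ) (sameActionSubgroup G τ)
  unip : ∀ σ τ : LinearMap.GeneralLinearGroup k M, σ ∈ minimalQuadraticElements G →
    τ ∈ minimalQuadraticElements G →
    AllUnip (sameActionSubgroup G σ) (sameActionSubgroup G τ) →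
    IsUnipotentOn (sameActionSubgroup G σ ⊔ sameActionSubgroup G τ)
  opp : ∀ σ τ : LinearMap.GeneralLinearGroup k M, σ ∈ minimalQuadraticElements G →
    τ ∈ minimalQuadraticElements G →
    ¬ AllUnip (sameActionSubgroup G σ) (sameActionSubgroup G τ) →
    OppPair ((σ : Module.End k M) - 1) ((τ : Module.End k M) - 1)

/-! ### DIM : `dim 𝔢 = dim 𝔯` -/

theorem DIM_val_uu_conj [FiniteDimensional k M] (a b : Module.End k M) (hb : b * b = 0) (c : k) (σ : GLkM)
    (hσa : (σ : Module.End k M) - 1 = a) :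
    ((uu b hb c * σ * (uu b hb c)⁻¹ : GLkM) : Module.End k M) - 1
      = (1 + c • b) * a * (1 - c • b) := by
  rw [ROOT_aux_val, hσa, val_uu]
  have hsq : ((uu b hb c : GLkM) : Module.End k M) - 1 = c • b := by rw [val_uu]; abel
  have h0 : (((uu b hb c : GLkM) : Module.End k M) - 1) * (((uu b hb c : GLkM) : Module.End k M) - 1)
      = 0 := by
    rw [hsq, smul_mul_smul_comm, hb, smul_zero]
  rw [val_inv_of_sq_zero h0, hsq]

theorem DIM [FiniteDimensional k M] (hk2 : ringChar k ≠ 2) {G : Subgroup GLkM}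
    (hG : IsIrreducibleFor G) (H : H65 G) {σ τ : GLkM}
    (hσ : σ ∈ minimalQuadraticElements G) (hτ : τ ∈ minimalQuadraticElements G)
    (hU : AllUnip (sameActionSubgroup G σ) (sameActionSubgroup G τ))
    (hne : ((σ : Module.End k M) - 1) * ((τ : Module.End k M) - 1)
      ≠ ((τ : Module.End k M) - 1) * ((σ : Module.End k M) - 1)) :
    Module.finrank k ↥(aug (sameActionSubgroup G σ))
      = Module.finrank k ↥(aug (sameActionSubgroup G (σ * τ * σ⁻¹ * τ⁻¹))) := by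
  obtain ⟨hρ, -, -, -⟩ := NZ hk2 hσ hτ hU hne
  have h2k : (2 : k) ≠ 0 := Ring.two_ne_zero hk2
  obtain ⟨hmin, hQa⟩ := TRANS_Qd hσ
  have hQb : Qd G (commutatorRank σ) ((τ : Module.End k M) - 1) := by
    rw [TRANS_rank hσ hτ]; exact (TRANS_Qd hτ).2
  obtain ⟨n, hn⟩ := hU σ (ROOT_self hσ).1 τ (ROOT_self hτ).1
  obtain ⟨h1, h2⟩ := star h2k hmin n hQa.1 hQb.1 hQa.2 hQb.2 hn
  have hc₀ := COMMF (e := σ) (f := τ) hQa.1.1 hQb.1.1 h1 h2
  -- a conjugate of R generating a non-unipotent group with R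
  obtain ⟨g, hg, hnu⟩ := OPPN hG (S := quadraticRootSubgroups G) (fun A hA => SIG_le hA)
    (fun A hA => SIG_ne_bot hA) (fun A hA g hg => SIG_conj hA hg) (SIG_mem hρ)
  obtain ⟨hρ', hconj⟩ := ROOT_conj hρ hg
  rw [hconj] at hnu
  have hnA : ¬ AllUnip (sameActionSubgroup G (σ * τ * σ⁻¹ * τ⁻¹))
      (sameActionSubgroup G (g * (σ * τ * σ⁻¹ * τ⁻¹) * g⁻¹)) := fun h => hnu (H.unip _ _ hρ hρ' h)
  have hopp := H.opp _ _ hρ hρ' hnA
  have hQρ : Qd G (commutatorRank σ) (((σ * τ * σ⁻¹ * τ⁻¹ : GLkM) : Module.End k M) - 1) := by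
    rw [TRANS_rank hσ hρ]; exact (TRANS_Qd hρ).2
  have hQρ' : Qd G (commutatorRank σ)
      (((g * (σ * τ * σ⁻¹ * τ⁻¹) * g⁻¹ : GLkM) : Module.End k M) - 1) := by
    rw [TRANS_rank hσ hρ']; exact (TRANS_Qd hρ').2
  have hnu' := NONU2 hopp hQρ.1.1 hQρ'.1.1 hρ.1.2.1.2
  rw [hc₀] at hnu'
  obtain ⟨c, hc⟩ := CO hk2 hmin hQa hQb hQρ' h1 h2 hnu'
  have ht : uu ((τ : Module.End k M) - 1) hQb.1.1 c ∈ G := uu_mem hQb.1 c
  obtain ⟨hσc, hconjσ⟩ := ROOT_conj hσ ht
  rw [← DIM_val_uu_conj _ _ hQb.1.1 c σ rfl] at hc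
  have hnA2 : ¬ AllUnip (sameActionSubgroup G (uu ((τ : Module.End k M) - 1) hQb.1.1 c * σ *
      (uu ((τ : Module.End k M) - 1) hQb.1.1 c)⁻¹))
      (sameActionSubgroup G (g * (σ * τ * σ⁻¹ * τ⁻¹) * g⁻¹)) :=
    fun h => hc (h _ (ROOT_self hσc).1 _ (ROOT_self hρ').1)
  have hnu2 : ¬ IsUnipotentOn (sameActionSubgroup G (uu ((τ : Module.End k M) - 1) hQb.1.1 c * σ *
      (uu ((τ : Module.End k M) - 1) hQb.1.1 c)⁻¹) ⊔
      sameActionSubgroup G (g * (σ * τ * σ⁻¹ * τ⁻¹) * g⁻¹)) := fun h => hnA2 (UP h)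
  have hrk := (H.dich _ _ hσc hρ').resolve_left hnu2
  obtain ⟨x, -, hx⟩ := rankOne_exists_conj hrk
  rw [← AUG_conj (sameActionSubgroup G σ) (uu ((τ : Module.End k M) - 1) hQb.1.1 c), hconjσ,
    ← AUG_conj _ x, ← hx, ← hconj, AUG_conj]

/-! ### SURJ68 : `ad x : 𝔣 → 𝔯` is bijective -/

theorem STAR_all [FiniteDimensional k M] (hk2 : ringChar k ≠ 2) {G : Subgroup GLkM} {σ τ : GLkM}
    (hσ : σ ∈ minimalQuadraticElements G) (hτ : τ ∈ minimalQuadraticElements G)
    (hU : AllUnip (sameActionSubgroup G σ) (sameActionSubgroup G τ)) {e f : GLkM}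
    (he : e ∈ sameActionSubgroup G σ) (hf : f ∈ sameActionSubgroup G τ) :
    ((e : Module.End k M) - 1) * ((f : Module.End k M) - 1) * ((e : Module.End k M) - 1) = 0 ∧
    ((f : Module.End k M) - 1) * ((e : Module.End k M) - 1) * ((f : Module.End k M) - 1) = 0 := by
  by_cases he1 : e = 1
  · subst he1; simp
  by_cases hf1 : f = 1
  · subst hf1; simp
  have h2k : (2 : k) ≠ 0 := Ring.two_ne_zero hk2
  obtain ⟨hmin, -⟩ := TRANS_Qd hσ
  obtain ⟨hQx, -, -⟩ := ROOT_Qd hσ he he1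
  obtain ⟨hQy, -, -⟩ := ROOT_Qd hτ hf hf1
  rw [← TRANS_rank hσ hτ] at hQy
  obtain ⟨n, hn⟩ := hU e he f hf
  exact star h2k hmin n hQx.1 hQy.1 hQx.2 hQy.2 hn

theorem AllUnip_swap {E F : Subgroup GLkM} (h : AllUnip E F) : AllUnip F E :=
  fun f hf e he => UnipPair_swap (h e he f hf)

theorem SURJ68 [FiniteDimensional k M] (hk2 : ringChar k ≠ 2) {G : Subgroup GLkM}
    (hG : IsIrreducibleFor G) (H : H65 G) {σ τ : GLkM}
    (hσ : σ ∈ minimalQuadraticElements G) (hτ : τ ∈ minimalQuadraticElements G)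
    (hU : AllUnip (sameActionSubgroup G σ) (sameActionSubgroup G τ))
    (hne : ((σ : Module.End k M) - 1) * ((τ : Module.End k M) - 1)
      ≠ ((τ : Module.End k M) - 1) * ((σ : Module.End k M) - 1))
    {e : GLkM} (he : e ∈ sameActionSubgroup G σ) (he1 : e ≠ 1) :
    ∀ r ∈ sameActionSubgroup G (σ * τ * σ⁻¹ * τ⁻¹),
      ∃ f ∈ sameActionSubgroup G τ, e * f * e⁻¹ * f⁻¹ = r := by
  obtain ⟨hρ, hNZ, -, -⟩ := NZ hk2 hσ hτ hU hne
  -- dimensions
  have hdim : Module.finrank k ↥(aug (sameActionSubgroup G τ))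
      = Module.finrank k ↥(aug (sameActionSubgroup G (σ * τ * σ⁻¹ * τ⁻¹))) := by
    have h1 := DIM hk2 hG H hτ hσ (AllUnip_swap hU) (Ne.symm hne)
    have hinv : τ * σ * τ⁻¹ * σ⁻¹ = (σ * τ * σ⁻¹ * τ⁻¹)⁻¹ := by group
    have hmem : (σ * τ * σ⁻¹ * τ⁻¹)⁻¹ ∈ sameActionSubgroup G (σ * τ * σ⁻¹ * τ⁻¹) :=
      Subgroup.inv_mem _ (ROOT_self hρ).1
    have hne1 : (σ * τ * σ⁻¹ * τ⁻¹)⁻¹ ≠ 1 := by
      intro h
      exact (ROOT_self hρ).2 (inv_eq_one.mp h)
    rw [hinv, (SIG_eq hρ hmem hne1).2] at h1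
    exact h1
  set x : Module.End k M := (e : Module.End k M) - 1 with hx
  -- the map y ↦ x y - y x lands in aug R
  have hmaps : ∀ y ∈ aug (sameActionSubgroup G τ),
      x * y - y * x ∈ aug (sameActionSubgroup G (σ * τ * σ⁻¹ * τ⁻¹)) := by
    intro y hy
    obtain ⟨f, hf, rfl⟩ := (AUG_mem hτ y).1 hy
    by_cases hf1 : f = 1
    · subst hf1; simp
    obtain ⟨h1, h2⟩ := STAR_all hk2 hσ hτ hU he hf
    have hxx := ROOT_sq hσ he he
    have hyy := ROOT_sq hτ hf hf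
    rw [← COMMF hxx hyy h1 h2]
    exact sub_one_mem_aug ((ROOT_mem hρ _).2 (Or.inr (hNZ e he he1 f hf hf1)))
  let L0 : Module.End k M →ₗ[k] Module.End k M := LinearMap.mulLeft k x - LinearMap.mulRight k x
  have hL0 : ∀ y, L0 y = x * y - y * x := fun y => by
    simp [L0, LinearMap.sub_apply]
  let L : ↥(aug (sameActionSubgroup G τ)) →ₗ[k] ↥(aug (sameActionSubgroup G (σ * τ * σ⁻¹ * τ⁻¹))) :=
    (L0.domRestrict (aug (sameActionSubgroup G τ))).codRestrict _ (fun y => by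
      rw [LinearMap.domRestrict_apply, hL0]
      exact hmaps y y.2)
  have hLval : ∀ y : ↥(aug (sameActionSubgroup G τ)), ((L y : Module.End k M)) = x * y - y * x :=
    fun y => by
      show L0 y = _
      exact hL0 y
  have hinj : Function.Injective L := by
    rw [← LinearMap.ker_eq_bot, LinearMap.ker_eq_bot']
    rintro ⟨y, hy⟩ hLy
    have h0 : x * y - y * x = 0 := by
      have := congrArg Subtype.val hLy
      rw [hLval] at this
      exact this
    obtain ⟨f, hf, rfl⟩ := (AUG_mem hτ y).1 hy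
    by_cases hf1 : f = 1
    · apply Subtype.ext
      simp [hf1]
    exfalso
    obtain ⟨h1, h2⟩ := STAR_all hk2 hσ hτ hU he hf
    have hxx := ROOT_sq hσ he he
    have hyy := ROOT_sq hτ hf hf
    have hc := COMMF hxx hyy h1 h2
    rw [← hx, h0] at hc
    have hcl := hNZ e he he1 f hf hf1
    exact hcl.1.1.2.1.2 hc
  have hsurj : Function.Surjective L :=
    (LinearMap.injective_iff_surjective_of_finrank_eq_finrank hdim).1 hinj
  intro r hr
  obtain ⟨⟨y, hy⟩, hLy⟩ := hsurj ⟨(r : Module.End k M) - 1, sub_one_mem_aug hr⟩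
  have h0 : x * y - y * x = (r : Module.End k M) - 1 := by
    have := congrArg Subtype.val hLy
    rw [hLval] at this
    exact this
  obtain ⟨f, hf, rfl⟩ := (AUG_mem hτ y).1 hy
  refine ⟨f, hf, ?_⟩
  obtain ⟨h1, h2⟩ := STAR_all hk2 hσ hτ hU he hf
  have hxx := ROOT_sq hσ he he
  have hyy := ROOT_sq hτ hf hf
  have hc := COMMF hxx hyy h1 h2
  rw [← hx, h0] at hc
  apply Units.ext
  exact sub_left_injective hc

/-! ### geometry of a unipotent pair -/

theorem ROOT_rk [FiniteDimensional k M] {G : Subgroup GLkM} {σ e : GLkM}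
    (hσ : σ ∈ minimalQuadraticElements G) (he : e ∈ sameActionSubgroup G σ) :
    LinearMap.range ((e : Module.End k M) - 1) ≤ LinearMap.range ((σ : Module.End k M) - 1) ∧
    LinearMap.ker ((σ : Module.End k M) - 1) ≤ LinearMap.ker ((e : Module.End k M) - 1) := by
  by_cases he1 : e = 1
  · subst he1
    simp
  · obtain ⟨-, hk, hr⟩ := ROOT_Qd hσ he he1
    exact ⟨hr.le, hk.ge⟩

theorem range_le_ker_of_sq {a : Module.End k M} (ha : a * a = 0) :
    LinearMap.range a ≤ LinearMap.ker a := by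
  rintro _ ⟨m, rfl⟩
  rw [LinearMap.mem_ker, ← Module.End.mul_apply, ha, LinearMap.zero_apply]

theorem mul_eq_zero_of_range_le_ker {x y : Module.End k M}
    (h : LinearMap.range y ≤ LinearMap.ker x) : x * y = 0 := by
  apply LinearMap.ext
  intro m
  rw [Module.End.mul_apply, LinearMap.zero_apply]
  exact LinearMap.mem_ker.1 (h ⟨m, rfl⟩)

/-- `(1 + c)(1 + x) = (1 + x)(1 + c)` when `c x = 0 = x c` -/
theorem commute_of_mul_zero {r e : GLkM}
    (h1 : ((r : Module.End k M) - 1) * ((e : Module.End k M) - 1) = 0)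
    (h2 : ((e : Module.End k M) - 1) * ((r : Module.End k M) - 1) = 0) : r * e = e * r := by
  apply Units.ext
  rw [Units.val_mul, Units.val_mul]
  have e1 : (r : Module.End k M) * (e : Module.End k M)
      = ((r : Module.End k M) - 1) * ((e : Module.End k M) - 1) + (r : Module.End k M)
        + (e : Module.End k M) - 1 := by noncomm_ring
  have e2 : (e : Module.End k M) * (r : Module.End k M)
      = ((e : Module.End k M) - 1) * ((r : Module.End k M) - 1) + (r : Module.End k M)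
        + (e : Module.End k M) - 1 := by noncomm_ring
  rw [e1, e2, h1, h2]

/-! ### the commutator subgroup of a non-commuting unipotent pair -/

section pair

variable [FiniteDimensional k M] {G : Subgroup (LinearMap.GeneralLinearGroup k M)}
  {σ τ : LinearMap.GeneralLinearGroup k M}

theorem COMM_mem (hk2 : ringChar k ≠ 2)
    (hσ : σ ∈ minimalQuadraticElements G) (hτ : τ ∈ minimalQuadraticElements G)
    (hU : AllUnip (sameActionSubgroup G σ) (sameActionSubgroup G τ))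
    (hne : ((σ : Module.End k M) - 1) * ((τ : Module.End k M) - 1)
      ≠ ((τ : Module.End k M) - 1) * ((σ : Module.End k M) - 1))
    {e f : LinearMap.GeneralLinearGroup k M} (he : e ∈ sameActionSubgroup G σ)
    (hf : f ∈ sameActionSubgroup G τ) :
    e * f * e⁻¹ * f⁻¹ ∈ sameActionSubgroup G (σ * τ * σ⁻¹ * τ⁻¹) := by
  obtain ⟨hρ, hNZ, -, -⟩ := NZ hk2 hσ hτ hU hne
  by_cases he1 : e = 1
  · subst he1
    have : (1 : LinearMap.GeneralLinearGroup k M) * f * 1⁻¹ * f⁻¹ = 1 := by group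
    rw [this]; exact Subgroup.one_mem _
  by_cases hf1 : f = 1
  · subst hf1
    have : e * (1 : LinearMap.GeneralLinearGroup k M) * e⁻¹ * 1⁻¹ = 1 := by group
    rw [this]; exact Subgroup.one_mem _
  exact (ROOT_mem hρ _).2 (Or.inr (hNZ e he he1 f hf hf1))

theorem R_swap (hk2 : ringChar k ≠ 2)
    (hσ : σ ∈ minimalQuadraticElements G) (hτ : τ ∈ minimalQuadraticElements G)
    (hU : AllUnip (sameActionSubgroup G σ) (sameActionSubgroup G τ))
    (hne : ((σ : Module.End k M) - 1) * ((τ : Module.End k M) - 1)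
      ≠ ((τ : Module.End k M) - 1) * ((σ : Module.End k M) - 1)) :
    sameActionSubgroup G (τ * σ * τ⁻¹ * σ⁻¹) = sameActionSubgroup G (σ * τ * σ⁻¹ * τ⁻¹) := by
  obtain ⟨hρ, -, -, -⟩ := NZ hk2 hσ hτ hU hne
  have hinv : τ * σ * τ⁻¹ * σ⁻¹ = (σ * τ * σ⁻¹ * τ⁻¹)⁻¹ := by group
  have hmem : (σ * τ * σ⁻¹ * τ⁻¹)⁻¹ ∈ sameActionSubgroup G (σ * τ * σ⁻¹ * τ⁻¹) :=
    Subgroup.inv_mem _ (ROOT_self hρ).1
  have hne1 : (σ * τ * σ⁻¹ * τ⁻¹)⁻¹ ≠ 1 := by
    intro h
    exact (ROOT_self hρ).2 (inv_eq_one.mp h)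
  rw [hinv, (SIG_eq hρ hmem hne1).2]

theorem COMM_eq (hk2 : ringChar k ≠ 2) (hG : IsIrreducibleFor G) (H : H65 G)
    (hσ : σ ∈ minimalQuadraticElements G) (hτ : τ ∈ minimalQuadraticElements G)
    (hU : AllUnip (sameActionSubgroup G σ) (sameActionSubgroup G τ))
    (hne : ((σ : Module.End k M) - 1) * ((τ : Module.End k M) - 1)
      ≠ ((τ : Module.End k M) - 1) * ((σ : Module.End k M) - 1)) :
    (⁅sameActionSubgroup G σ, sameActionSubgroup G τ⁆ : Subgroup (LinearMap.GeneralLinearGroup k M))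
      = sameActionSubgroup G (σ * τ * σ⁻¹ * τ⁻¹) := by
  apply le_antisymm
  · rw [Subgroup.commutator_le]
    intro e he f hf
    rw [commutatorElement_def]
    exact COMM_mem hk2 hσ hτ hU hne he hf
  · intro r hr
    obtain ⟨f, hf, rfl⟩ := SURJ68 hk2 hG H hσ hτ hU hne (ROOT_self hσ).1 (ROOT_self hσ).2 r hr
    rw [← commutatorElement_def]
    exact Subgroup.commutator_mem_commutator (ROOT_self hσ).1 hf

theorem CL1 (hk2 : ringChar k ≠ 2) (hG : IsIrreducibleFor G) (H : H65 G)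
    (hσ : σ ∈ minimalQuadraticElements G) (hτ : τ ∈ minimalQuadraticElements G)
    (hU : AllUnip (sameActionSubgroup G σ) (sameActionSubgroup G τ))
    (hne : ((σ : Module.End k M) - 1) * ((τ : Module.End k M) - 1)
      ≠ ((τ : Module.End k M) - 1) * ((σ : Module.End k M) - 1))
    {e : LinearMap.GeneralLinearGroup k M} (he : e ∈ sameActionSubgroup G σ) (he1 : e ≠ 1) :
    Subgroup.closure ((fun f : LinearMap.GeneralLinearGroup k M => e * f * e⁻¹ * f⁻¹) ''
      (sameActionSubgroup G τ : Set (LinearMap.GeneralLinearGroup k M)))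
      = sameActionSubgroup G (σ * τ * σ⁻¹ * τ⁻¹) := by
  apply le_antisymm
  · rw [Subgroup.closure_le]
    rintro _ ⟨f, hf, rfl⟩
    exact COMM_mem hk2 hσ hτ hU hne he hf
  · intro r hr
    obtain ⟨f, hf, rfl⟩ := SURJ68 hk2 hG H hσ hτ hU hne he he1 r hr
    exact Subgroup.subset_closure ⟨f, hf, rfl⟩

theorem CL2 (hk2 : ringChar k ≠ 2) (hG : IsIrreducibleFor G) (H : H65 G)
    (hσ : σ ∈ minimalQuadraticElements G) (hτ : τ ∈ minimalQuadraticElements G)
    (hU : AllUnip (sameActionSubgroup G σ) (sameActionSubgroup G τ))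
    (hne : ((σ : Module.End k M) - 1) * ((τ : Module.End k M) - 1)
      ≠ ((τ : Module.End k M) - 1) * ((σ : Module.End k M) - 1))
    {f : LinearMap.GeneralLinearGroup k M} (hf : f ∈ sameActionSubgroup G τ) (hf1 : f ≠ 1) :
    Subgroup.closure ((fun e : LinearMap.GeneralLinearGroup k M => e * f * e⁻¹ * f⁻¹) ''
      (sameActionSubgroup G σ : Set (LinearMap.GeneralLinearGroup k M)))
      = sameActionSubgroup G (σ * τ * σ⁻¹ * τ⁻¹) := by
  apply le_antisymm
  · rw [Subgroup.closure_le]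
    rintro _ ⟨e, he, rfl⟩
    exact COMM_mem hk2 hσ hτ hU hne he hf
  · intro r hr
    have hr' : r⁻¹ ∈ sameActionSubgroup G (τ * σ * τ⁻¹ * σ⁻¹) := by
      rw [R_swap hk2 hσ hτ hU hne]
      exact Subgroup.inv_mem _ hr
    obtain ⟨e, he, hef⟩ := SURJ68 hk2 hG H hτ hσ (AllUnip_swap hU) (Ne.symm hne) hf hf1 r⁻¹ hr'
    refine Subgroup.subset_closure ⟨e, he, ?_⟩
    show e * f * e⁻¹ * f⁻¹ = r
    have : e * f * e⁻¹ * f⁻¹ = (f * e * f⁻¹ * e⁻¹)⁻¹ := by group
    rw [this, hef, inv_inv]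

end pair

/-! ### centrality of `R` and the unipotent core -/

section core

variable [FiniteDimensional k M] {G : Subgroup (LinearMap.GeneralLinearGroup k M)}
  {σ τ : LinearMap.GeneralLinearGroup k M}

/-- the inclusions between the subspaces attached to a non-commuting unipotent pair -/
theorem GEO_incl (hk2 : ringChar k ≠ 2)
    (hσ : σ ∈ minimalQuadraticElements G) (hτ : τ ∈ minimalQuadraticElements G)
    (hU : AllUnip (sameActionSubgroup G σ) (sameActionSubgroup G τ))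
    (hne : ((σ : Module.End k M) - 1) * ((τ : Module.End k M) - 1)
      ≠ ((τ : Module.End k M) - 1) * ((σ : Module.End k M) - 1)) :
    LinearMap.range ((σ : Module.End k M) - 1)
      ≤ LinearMap.ker (((σ * τ * σ⁻¹ * τ⁻¹ : LinearMap.GeneralLinearGroup k M) : Module.End k M) - 1) ∧
    LinearMap.range ((τ : Module.End k M) - 1)
      ≤ LinearMap.ker (((σ * τ * σ⁻¹ * τ⁻¹ : LinearMap.GeneralLinearGroup k M) : Module.End k M) - 1) ∧
    LinearMap.range (((σ * τ * σ⁻¹ * τ⁻¹ : LinearMap.GeneralLinearGroup k M) : Module.End k M) - 1)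
      ≤ LinearMap.ker ((σ : Module.End k M) - 1) ⊓ LinearMap.ker ((τ : Module.End k M) - 1) := by
  obtain ⟨hρ, -, hrange, hker⟩ := NZ hk2 hσ hτ hU hne
  have hAC := range_le_ker_of_sq (TRANS_Qd hσ).2.1.1
  have hBD := range_le_ker_of_sq (TRANS_Qd hτ).2.1.1
  rw [hrange, hker]
  refine ⟨le_inf le_sup_left (hAC.trans le_sup_right), le_inf (hBD.trans le_sup_right) le_sup_left,
    sup_le (le_inf (inf_le_left.trans hAC) inf_le_right) (le_inf inf_le_right (inf_le_left.trans hBD))⟩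

theorem CENT (hk2 : ringChar k ≠ 2)
    (hσ : σ ∈ minimalQuadraticElements G) (hτ : τ ∈ minimalQuadraticElements G)
    (hU : AllUnip (sameActionSubgroup G σ) (sameActionSubgroup G τ))
    (hne : ((σ : Module.End k M) - 1) * ((τ : Module.End k M) - 1)
      ≠ ((τ : Module.End k M) - 1) * ((σ : Module.End k M) - 1)) :
    ∀ r ∈ sameActionSubgroup G (σ * τ * σ⁻¹ * τ⁻¹),
      ∀ x ∈ sameActionSubgroup G σ ⊔ sameActionSubgroup G τ, r * x = x * r := by
  obtain ⟨hρ, -, -, -⟩ := NZ hk2 hσ hτ hU hne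
  obtain ⟨hA, hB, hI⟩ := GEO_incl hk2 hσ hτ hU hne
  intro r hr
  obtain ⟨hr1, hr2⟩ := ROOT_rk hρ hr
  have key : sameActionSubgroup G σ ⊔ sameActionSubgroup G τ
      ≤ Subgroup.centralizer ({r} : Set (LinearMap.GeneralLinearGroup k M)) := by
    refine sup_le ?_ ?_
    · intro e he
      obtain ⟨he1, he2⟩ := ROOT_rk hσ he
      rw [Subgroup.mem_centralizer_iff]
      intro y hy
      rw [Set.mem_singleton_iff] at hy
      subst hy
      refine commute_of_mul_zero ?_ ?_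
      · exact mul_eq_zero_of_range_le_ker ((he1.trans hA).trans hr2)
      · exact mul_eq_zero_of_range_le_ker ((hr1.trans hI).trans (inf_le_left.trans he2))
    · intro f hf
      obtain ⟨hf1, hf2⟩ := ROOT_rk hτ hf
      rw [Subgroup.mem_centralizer_iff]
      intro y hy
      rw [Set.mem_singleton_iff] at hy
      subst hy
      refine commute_of_mul_zero ?_ ?_
      · exact mul_eq_zero_of_range_le_ker ((hf1.trans hB).trans hr2)
      · exact mul_eq_zero_of_range_le_ker ((hr1.trans hI).trans (inf_le_right.trans hf2))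
  intro x hx
  exact Subgroup.mem_centralizer_iff.mp (key hx) r (Set.mem_singleton r)

theorem UCORE (hk2 : ringChar k ≠ 2)
    (hσ : σ ∈ minimalQuadraticElements G) (hτ : τ ∈ minimalQuadraticElements G)
    (hU : AllUnip (sameActionSubgroup G σ) (sameActionSubgroup G τ))
    (hne : ((σ : Module.End k M) - 1) * ((τ : Module.End k M) - 1)
      ≠ ((τ : Module.End k M) - 1) * ((σ : Module.End k M) - 1)) :
    ((sameActionSubgroup G σ ⊔ sameActionSubgroup G τ : Subgroup (LinearMap.GeneralLinearGroup k M)) :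
      Set (LinearMap.GeneralLinearGroup k M))
      ⊆ quadraticUnipotentCore G (sameActionSubgroup G (σ * τ * σ⁻¹ * τ⁻¹)) := by
  obtain ⟨hρ, -, hrange, hker⟩ := NZ hk2 hσ hτ hU hne
  obtain ⟨hA, hB, hI⟩ := GEO_incl hk2 hσ hτ hU hne
  have hcent := CENT hk2 hσ hτ hU hne
  obtain ⟨hfix, hcom⟩ := FIXC hρ hρ
  rw [sup_idem, inf_idem] at hfix
  rw [sup_idem, sup_idem] at hcom
  have hIK : LinearMap.range (((σ * τ * σ⁻¹ * τ⁻¹ : LinearMap.GeneralLinearGroup k M) :
      Module.End k M) - 1)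
      ≤ LinearMap.ker (((σ * τ * σ⁻¹ * τ⁻¹ : LinearMap.GeneralLinearGroup k M) : Module.End k M) - 1) :=
    range_le_ker_of_sq (TRANS_Qd hρ).2.1.1
  have hAC := range_le_ker_of_sq (TRANS_Qd hσ).2.1.1
  have hBD := range_le_ker_of_sq (TRANS_Qd hτ).2.1.1
  -- the three conditions for the generators
  have hE : ∀ g ∈ sameActionSubgroup G σ,
      (∀ m : M, (g : M →ₗ[k] M) m - m ∈ LinearMap.ker (((σ * τ * σ⁻¹ * τ⁻¹ :
        LinearMap.GeneralLinearGroup k M) : Module.End k M) - 1)) ∧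
      (∀ m ∈ LinearMap.ker (((σ * τ * σ⁻¹ * τ⁻¹ : LinearMap.GeneralLinearGroup k M) :
        Module.End k M) - 1), (g : M →ₗ[k] M) m - m ∈ LinearMap.range (((σ * τ * σ⁻¹ * τ⁻¹ :
        LinearMap.GeneralLinearGroup k M) : Module.End k M) - 1)) ∧
      (∀ m ∈ LinearMap.range (((σ * τ * σ⁻¹ * τ⁻¹ : LinearMap.GeneralLinearGroup k M) :
        Module.End k M) - 1), (g : M →ₗ[k] M) m = m) := by
    intro e he
    obtain ⟨he1, he2⟩ := ROOT_rk hσ he
    have hval : ∀ m : M, (e : M →ₗ[k] M) m - m = ((e : Module.End k M) - 1) m := fun m => by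
      rw [LinearMap.sub_apply, Module.End.one_apply]
    refine ⟨fun m => ?_, fun m hm => ?_, fun m hm => ?_⟩
    · rw [hval]
      exact hA (he1 ⟨m, rfl⟩)
    · rw [hval, hrange]
      rw [hker] at hm
      -- m ∈ B ⊔ C
      obtain ⟨β, hβ, γ, hγ, rfl⟩ := Submodule.mem_sup.1 hm.2
      have hγ0 : ((e : Module.End k M) - 1) γ = 0 := LinearMap.mem_ker.1 (he2 hγ)
      rw [map_add, hγ0, add_zero]
      refine Submodule.mem_sup_left ⟨he1 ⟨β, rfl⟩, ?_⟩
      obtain ⟨m', rfl⟩ := hβ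
      have h2 := (STAR_all hk2 hσ hτ hU he (ROOT_self hτ).1).2
      refine LinearMap.mem_ker.2 ?_
      have := LinearMap.congr_fun h2 m'
      simpa [Module.End.mul_apply] using this
    · have h0 : ((e : Module.End k M) - 1) m = 0 :=
        LinearMap.mem_ker.1 (he2 (hI hm).1)
      rw [← hval] at h0
      exact sub_eq_zero.mp h0
  have hF : ∀ g ∈ sameActionSubgroup G τ,
      (∀ m : M, (g : M →ₗ[k] M) m - m ∈ LinearMap.ker (((σ * τ * σ⁻¹ * τ⁻¹ :
        LinearMap.GeneralLinearGroup k M) : Module.End k M) - 1)) ∧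
      (∀ m ∈ LinearMap.ker (((σ * τ * σ⁻¹ * τ⁻¹ : LinearMap.GeneralLinearGroup k M) :
        Module.End k M) - 1), (g : M →ₗ[k] M) m - m ∈ LinearMap.range (((σ * τ * σ⁻¹ * τ⁻¹ :
        LinearMap.GeneralLinearGroup k M) : Module.End k M) - 1)) ∧
      (∀ m ∈ LinearMap.range (((σ * τ * σ⁻¹ * τ⁻¹ : LinearMap.GeneralLinearGroup k M) :
        Module.End k M) - 1), (g : M →ₗ[k] M) m = m) := by
    intro f hf
    obtain ⟨hf1, hf2⟩ := ROOT_rk hτ hf
    have hval : ∀ m : M, (f : M →ₗ[k] M) m - m = ((f : Module.End k M) - 1) m := fun m => by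
      rw [LinearMap.sub_apply, Module.End.one_apply]
    refine ⟨fun m => ?_, fun m hm => ?_, fun m hm => ?_⟩
    · rw [hval]
      exact hB (hf1 ⟨m, rfl⟩)
    · rw [hval, hrange]
      rw [hker] at hm
      -- m ∈ A ⊔ D
      obtain ⟨α, hα, δ, hδ, rfl⟩ := Submodule.mem_sup.1 hm.1
      have hδ0 : ((f : Module.End k M) - 1) δ = 0 := LinearMap.mem_ker.1 (hf2 hδ)
      rw [map_add, hδ0, add_zero]
      refine Submodule.mem_sup_right ⟨hf1 ⟨α, rfl⟩, ?_⟩
      obtain ⟨m', rfl⟩ := hα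
      have h1 := (STAR_all hk2 hσ hτ hU (ROOT_self hσ).1 hf).1
      refine LinearMap.mem_ker.2 ?_
      have := LinearMap.congr_fun h1 m'
      simpa [Module.End.mul_apply] using this
    · have h0 : ((f : Module.End k M) - 1) m = 0 :=
        LinearMap.mem_ker.1 (hf2 (hI hm).2)
      rw [← hval] at h0
      exact sub_eq_zero.mp h0
  have hflag := FLAG68 _ _ hIK hE hF
  intro g hg
  have hg' : g ∈ sameActionSubgroup G σ ⊔ sameActionSubgroup G τ := hg
  refine ⟨sup_le (ROOT_le hσ) (ROOT_le hτ) hg', ?_, ?_, ?_, ?_⟩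
  · apply Subgroup.centralizer_le_normalizer
    rw [Subgroup.mem_centralizer_iff]
    intro r hr
    exact hcent r hr g hg'
  · intro m
    rw [hfix]
    exact (hflag g hg').1 m
  · intro m hm
    rw [hfix] at hm
    rw [hcom]
    exact (hflag g hg').2.1 m hm
  · intro m hm
    rw [hcom] at hm
    exact (hflag g hg').2.2 m hm

end core

/-! ### S5068 and S5066 from `H65` -/

theorem commute_of_nil_commute {e f : GLkM}
    (h : ((e : Module.End k M) - 1) * ((f : Module.End k M) - 1)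
      = ((f : Module.End k M) - 1) * ((e : Module.End k M) - 1)) : e * f = f * e := by
  apply Units.ext
  rw [Units.val_mul, Units.val_mul]
  have e1 : (e : Module.End k M) * (f : Module.End k M)
      = ((e : Module.End k M) - 1) * ((f : Module.End k M) - 1) + (e : Module.End k M)
        + (f : Module.End k M) - 1 := by noncomm_ring
  have e2 : (f : Module.End k M) * (e : Module.End k M)
      = ((f : Module.End k M) - 1) * ((e : Module.End k M) - 1) + (e : Module.End k M)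
        + (f : Module.End k M) - 1 := by noncomm_ring
  rw [e1, e2, h]

theorem S5068_of [FiniteDimensional k M] (hk2 : ringChar k ≠ 2) {G : Subgroup GLkM}
    (hG : IsIrreducibleFor G) (H : H65 G) {E F : Subgroup GLkM}
    (hE : E ∈ quadraticRootSubgroups G) (hF : F ∈ quadraticRootSubgroups G)
    (hu : IsUnipotentOn (E ⊔ F)) :
    (⁅E, F⁆ : Subgroup GLkM) = ⊥ ∨
    ((⁅E, F⁆ : Subgroup GLkM) ∈ quadraticRootSubgroups G ∧
      (∀ e ∈ E, e ≠ 1 → Subgroup.closure ((fun f : GLkM => e * f * e⁻¹ * f⁻¹) '' (F : Set GLkM))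
        = ⁅E, F⁆) ∧
      (∀ f ∈ F, f ≠ 1 → Subgroup.closure ((fun e : GLkM => e * f * e⁻¹ * f⁻¹) '' (E : Set GLkM))
        = ⁅E, F⁆) ∧
      (⁅E ⊔ F, E ⊔ F⁆ : Subgroup GLkM) ≠ ⊥ ∧ (⁅⁅E ⊔ F, E ⊔ F⁆, E ⊔ F⁆ : Subgroup GLkM) = ⊥ ∧
      ((E ⊔ F : Subgroup GLkM) : Set GLkM) ⊆ quadraticUnipotentCore G ⁅E, F⁆) := by
  obtain ⟨σ₀, hσ₀, rfl⟩ := hE
  obtain ⟨τ₀, hτ₀, rfl⟩ := hF
  have hU₀ := UP hu
  by_cases hall : ∀ e ∈ sameActionSubgroup G σ₀, ∀ f ∈ sameActionSubgroup G τ₀,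
      ((e : Module.End k M) - 1) * ((f : Module.End k M) - 1)
        = ((f : Module.End k M) - 1) * ((e : Module.End k M) - 1)
  · left
    rw [Subgroup.commutator_eq_bot_iff_le_centralizer]
    intro e he
    rw [Subgroup.mem_centralizer_iff]
    intro f hf
    exact (commute_of_nil_commute (hall e he f hf)).symm
  right
  push Not at hall
  obtain ⟨σ, hσE, τ, hτF, hne⟩ := hall
  have hσ1 : σ ≠ 1 := by
    rintro rfl
    apply hne
    simp
  have hτ1 : τ ≠ 1 := by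
    rintro rfl
    apply hne
    simp
  obtain ⟨hσ, hEσ⟩ := SIG_eq hσ₀ hσE hσ1
  obtain ⟨hτ, hFτ⟩ := SIG_eq hτ₀ hτF hτ1
  rw [← hEσ, ← hFτ] at hU₀ ⊢
  have hU := hU₀
  obtain ⟨hρ, -, -, -⟩ := NZ hk2 hσ hτ hU hne
  have hcomm := COMM_eq hk2 hG H hσ hτ hU hne
  rw [hcomm]
  have hcent := CENT hk2 hσ hτ hU hne
  have hcl := CLASS2 (E := sameActionSubgroup G σ) (F := sameActionSubgroup G τ)
    (R := sameActionSubgroup G (σ * τ * σ⁻¹ * τ⁻¹))
    (fun x hx y hy => ROOT_comm hσ hx hy) (fun x hx y hy => ROOT_comm hτ hx hy)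
    (fun e he f hf => COMM_mem hk2 hσ hτ hU hne he hf) hcent
  refine ⟨SIG_mem hρ, fun e he he1 => CL1 hk2 hG H hσ hτ hU hne he he1,
    fun f hf hf1 => CL2 hk2 hG H hσ hτ hU hne hf hf1, ?_, hcl.2, UCORE hk2 hσ hτ hU hne⟩
  intro hbot
  have h1 : (⁅sameActionSubgroup G σ, sameActionSubgroup G τ⁆ : Subgroup GLkM)
      ≤ ⁅sameActionSubgroup G σ ⊔ sameActionSubgroup G τ,
        sameActionSubgroup G σ ⊔ sameActionSubgroup G τ⁆ :=
    Subgroup.commutator_mono le_sup_left le_sup_right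
  rw [hbot, hcomm, le_bot_iff] at h1
  exact SIG_ne_bot (SIG_mem hρ) h1

theorem S5066_of [FiniteDimensional k M] (hk2 : ringChar k ≠ 2) {G : Subgroup GLkM}
    (hG : IsIrreducibleFor G) (H : H65 G) {E F : Subgroup GLkM}
    (hE : E ∈ quadraticRootSubgroups G) (hF : F ∈ quadraticRootSubgroups G)
    (h2 : (⁅E ⊔ F, E ⊔ F⁆ : Subgroup GLkM) ≠ ⊥ ∧ (⁅⁅E ⊔ F, E ⊔ F⁆, E ⊔ F⁆ : Subgroup GLkM) = ⊥) :
    (⁅E, F⁆ : Subgroup GLkM) ∈ quadraticRootSubgroups G ∧
    (∀ e ∈ E, e ≠ 1 → Subgroup.closure ((fun f : GLkM => e * f * e⁻¹ * f⁻¹) '' (F : Set GLkM))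
      = ⁅E, F⁆) ∧
    (∀ f ∈ F, f ≠ 1 → Subgroup.closure ((fun e : GLkM => e * f * e⁻¹ * f⁻¹) '' (E : Set GLkM))
      = ⁅E, F⁆) ∧
    ((E ⊔ F : Subgroup GLkM) : Set GLkM) ⊆ quadraticUnipotentCore G ⁅E, F⁆ := by
  have hu : IsUnipotentOn (E ⊔ F) := by
    obtain ⟨σ₀, hσ₀, rfl⟩ := hE
    obtain ⟨τ₀, hτ₀, rfl⟩ := hF
    rcases H.dich σ₀ τ₀ hσ₀ hτ₀ with h | h
    · exact h
    · exact absurd h2.2 (RKNU_aux h).2
  rcases S5068_of hk2 hG H hE hF hu with h | h
  · exfalso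
    -- E ⊔ F is abelian
    apply h2.1
    obtain ⟨σ₀, hσ₀, rfl⟩ := hE
    obtain ⟨τ₀, hτ₀, rfl⟩ := hF
    have hcl := CLASS2 (E := sameActionSubgroup G σ₀) (F := sameActionSubgroup G τ₀)
      (R := (⊥ : Subgroup GLkM))
      (fun x hx y hy => ROOT_comm hσ₀ hx hy) (fun x hx y hy => ROOT_comm hτ₀ hx hy)
      (fun e he f hf => by
        rw [← h, ← commutatorElement_def]
        exact Subgroup.commutator_mem_commutator he hf)
      (fun r hr x _ => by
        rw [Subgroup.mem_bot] at hr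
        rw [hr, one_mul, mul_one])
    exact le_bot_iff.mp hcl.1
  · exact ⟨h.1, h.2.1, h.2.2.1, h.2.2.2.2.2⟩

end Cfsg.Agent.QP68

end
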