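import Mathlib
import Cfsg.Agent.Helper18.QP68Main
import Cfsg.Agent.Helper18.QP2ASM

set_option autoImplicit false
set_option linter.unusedSectionVars false
set_option linter.unusedVariables false

/-! QUADPAIR-2: the hypotheses `QPHyp` for `Σ = quadraticRootSubgroups G` from `H65`, `S5068_of` and the
`PSL₂` statement. -/

noncomputable section

universe u v w

namespace Cfsg.Agent.QP68

open Cfsg Cfsg.Agent.Helper25.QP Cfsg.Agent.Helper25.QuadPair Cfsg.Agent.QPP Cfsg.Agent.Helper25.Unip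
open Cfsg.Agent.Helper25 Cfsg.Agent.QP2
open scoped commutatorElement

variable {k : Type u} [Field k] {M : Type v} [AddCommGroup M] [Module k M]

local notation "GLkM" => LinearMap.GeneralLinearGroup k M

/-- the hypotheses `QPHyp` of QUADPAIR-2 for `Σ = quadraticRootSubgroups G` -/
theorem QPHyp_sigma [FiniteDimensional k M] (hk2 : ringChar k ≠ 2) {G : Subgroup GLkM}
    (hG : IsIrreducibleFor G) (H : H65 G)
    (hpsl : ∀ A ∈ quadraticRootSubgroups G, ∀ B ∈ quadraticRootSubgroups G, ¬ IsUnipotentOn (A ⊔ B) →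
      (∀ x ∈ A, x ≠ 1 → ∃ A₀ B₀ : Subgroup GLkM, x ∈ A₀ ∧ A₀ ≤ A ∧ B₀ ≤ B ∧
        ∃ (K : Type w) (_ : Field K), 3 < ENat.card K ∧ IsPSL2PairOver K A₀ B₀) ∧
      (∀ y ∈ B, y ≠ 1 → ∃ A₀ B₀ : Subgroup GLkM, y ∈ B₀ ∧ A₀ ≤ A ∧ B₀ ≤ B ∧
        ∃ (K : Type w) (_ : Field K), 3 < ENat.card K ∧ IsPSL2PairOver K A₀ B₀)) :
    QPHyp.{u, v, w} G (quadraticRootSubgroups G) := by
  refine ⟨hG, ?_, fun A hA => SIG_le hA, fun A hA => SIG_ne_bot hA,
    fun A hA g hg => SIG_conj hA hg, ?_, ?_, hpsl⟩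
  · rintro _ ⟨σ, hσ, rfl⟩
    exact ⟨⟨fun a b => Subtype.ext (ROOT_comm hσ a.2 b.2)⟩⟩
  · rintro _ ⟨σ, hσ, rfl⟩ _ ⟨τ, hτ, rfl⟩
    exact H.dich σ τ hσ hτ
  · intro A hA B hB hu
    rcases S5068_of hk2 hG H hA hB hu with h | ⟨h1, h2, h3, h4, h5, h6⟩
    · exact Or.inl h
    · refine Or.inr ⟨⟨h1, ?_, h2, h3⟩, h5⟩
      intro c hc x hx
      have hc' : c ∈ (⁅A ⊔ B, A ⊔ B⁆ : Subgroup GLkM) :=
        Subgroup.commutator_mono le_sup_left le_sup_right hc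
      have hcx : ⁅c, x⁆ ∈ (⁅⁅A ⊔ B, A ⊔ B⁆, A ⊔ B⁆ : Subgroup GLkM) :=
        Subgroup.commutator_mem_commutator hc' hx
      rw [h5, Subgroup.mem_bot, commutatorElement_eq_one_iff_mul_comm] at hcx
      exact hcx

end Cfsg.Agent.QP68

end
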