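import Mathlib
import Cfsg.Agent.Helper27.S0429Defs

/-! Board `s0429pieces`, hedge core for piece M3SUM: `Σ_{p ∈ cls a b} m3 a z p = 4`, with the statement of
CLSPART (at `(a, b)`) as a hypothesis. -/

set_option autoImplicit false

namespace Cfsg.Agent.S0429P

open Finset

variable {V : Type*} [Fintype V] [DecidableEq V] {G : SimpleGraph V} [DecidableRel G.Adj]

theorem M3SUM_aux_core_h18 (h : G.IsSRGWith 77 16 0 4) {a b z : V}
    (hpart : ∀ {x : V}, G.Adj a x → ∃! p, p ∈ cls G a b ∧ G.Adj x p)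
    (hz : Far G a z) : ∑ p ∈ cls G a b, m3 G a z p = 4 := by
  have h1 : ∀ p ∈ cls G a b, m3 G a z p = ∑ x ∈ cn G a z, if G.Adj x p then 1 else 0 := by
    intro p _
    rw [m3_eq_card, ← Finset.card_filter]
    congr 1
    ext x
    simp only [Finset.mem_inter, SimpleGraph.mem_neighborFinset, Finset.mem_filter]
    constructor
    · rintro ⟨hpx, hx⟩; exact ⟨hx, hpx.symm⟩
    · rintro ⟨hx, hxp⟩; exact ⟨hxp.symm, hx⟩
  rw [Finset.sum_congr rfl h1, Finset.sum_comm]
  have h2 : ∀ x ∈ cn G a z, (∑ p ∈ cls G a b, if G.Adj x p then 1 else 0) = 1 := by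
    intro x hx
    have hax : G.Adj a x := (mem_cn.mp hx).1
    obtain ⟨p, ⟨hp, hxp⟩, huniq⟩ := hpart hax
    rw [← Finset.card_filter]
    rw [Finset.card_eq_one]
    refine ⟨p, ?_⟩
    ext q
    simp only [Finset.mem_filter, Finset.mem_singleton]
    constructor
    · rintro ⟨hq, hxq⟩; exact huniq q ⟨hq, hxq⟩
    · rintro rfl; exact ⟨hp, hxp⟩
  rw [Finset.sum_congr rfl h2, Finset.sum_const, smul_eq_mul, mul_one]
  exact card_cn h hz.1.symm hz.2

end Cfsg.Agent.S0429P
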