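import Mathlib
import Cfsg.Agent.Helper2.S2099.DefsA
import Cfsg.Agent.Helper2.S2099.DefsZ

set_option autoImplicit false
set_option linter.unusedSectionVars false
set_option linter.unusedVariables false

/-! S2099 chapter A, piece CLH0X: the lifts of `h₀` and of a long root element commute. -/

namespace Cfsg.Agent.S2099P

open Matrix Cfsg.Agent.S3352P Cfsg.Agent.S3351P Cfsg.Agent.S2096P Cfsg.Agent.S2086P
open Cfsg.Agent.S2094P (LongOK isRoot_ng_right' isRoot_ng_left')
open scoped commutatorElement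

section general

variable {n : ℕ} {F : Type*} [Field F] [Fintype F] {P : Type*} [AddCommGroup P] [Module F P]
  {G : Type*} [Group G] {E : Type*} [Group E] {Q0 : QuadraticForm F P}
  {X : J n → J n → F → G} {Ys : J n → P → G} {h₀ : G} {R D : P →ₗ[F] P}

/-- CLH0X: the lifts of `h₀` and of a long root element commute -/
theorem cl_h0_X (hn : 3 ≤ n) (hB : QRel Q0 X Ys) (hR : Rot Q0 X Ys h₀ R D) (ψ : E →* G)
    (hψ : Function.Surjective ψ) (hc : ψ.ker ≤ Subgroup.center E) {a b : J n}
    (hab : IsRoot a b) (t : F) : CL ψ h₀ (X a b t) := by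
  obtain ⟨e₀, he₀⟩ := hψ h₀
  have hak := isRoot_left_th hn a b
  have hkb := isRoot_th_right hn a b
  -- `X a b t` is a commutator
  have hmul : ⁅X a (th hn a b) t, X (th hn a b) b 1⁆ = X a b t := by
    have h := hB.dX.mul a (th hn a b) b hak hkb hab t 1
    rw [cm_def, mul_one] at h
    rw [commutatorElement_def]
    exact h
  have hlift : ψ (cl ψ hψ (X a (th hn a b) t) (X (th hn a b) b 1)) = X a b t := by
    rw [map_cl, hmul]
  have hcj : ∀ (c d : J n), IsRoot c d → ∀ u : F, ψ e₀ * X c d u * (ψ e₀)⁻¹ = X c d u := by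
    intro c d hcd u
    rw [he₀, hR.commX c d hcd u, mul_inv_cancel_right]
  have hconj := Cfsg.Agent.S2094P.conj_cl ψ hψ hc e₀ (X a (th hn a b) t) (X (th hn a b) b 1)
  rw [hcj _ _ hak, hcj _ _ hkb] at hconj
  have hcomm : Commute e₀ (cl ψ hψ (X a (th hn a b) t) (X (th hn a b) b 1)) := by
    show e₀ * _ = _ * e₀
    exact mul_inv_eq_iff_eq_mul.1 hconj
  exact Cfsg.Agent.S2094P.CL_of_commute ψ hc he₀ hlift hcomm

end general

end Cfsg.Agent.S2099P
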