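import Mathlib
import Cfsg.Agent.Helper2.S2099.DefsA
import Cfsg.Agent.Helper2.S2099.DefsZ

set_option autoImplicit false
set_option linter.unusedSectionVars false
set_option linter.unusedVariables false

/-! S2099 chapter A, piece CLYXQ: the lifts of a short and a long root element which commute do
commute. -/

namespace Cfsg.Agent.S2099P

open Matrix Cfsg.Agent.S3352P Cfsg.Agent.S3351P Cfsg.Agent.S2096P Cfsg.Agent.S2086P
open Cfsg.Agent.S2094P (LongOK isRoot_ng_right' isRoot_ng_left')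
open scoped commutatorElement

section general

variable {n : ℕ} {F : Type*} [Field F] [Fintype F] {P : Type*} [AddCommGroup P] [Module F P]
  {G : Type*} [Group G] {E : Type*} [Group E] {Q0 : QuadraticForm F P}
  {X : J n → J n → F → G} {Ys : J n → P → G} {h₀ : G} {R D : P →ₗ[F] P}

namespace CLYXQ

/-- `⁅h₀, Ys a (D w)⁆ = Ys a w` -/
theorem comm_h0_Ys (hB : QRel Q0 X Ys) (hR : Rot Q0 X Ys h₀ R D) (a : J n) (w : P) :
    ⁅h₀, Ys a (D w)⁆ = Ys a w := by
  rw [commutatorElement_def, hR.conjY, Ys_inv hB, ← hB.yadd, ← sub_eq_add_neg, hR.inv₁]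

/-- the canonical lift `cl h₀ (Ys a (D w))` is a lift of `Ys a w` -/
theorem map_cl_h0_Ys (hB : QRel Q0 X Ys) (hR : Rot Q0 X Ys h₀ R D) (ψ : E →* G)
    (hψ : Function.Surjective ψ) (a : J n) (w : P) :
    ψ (cl ψ hψ h₀ (Ys a (D w))) = Ys a w := by
  rw [map_cl, comm_h0_Ys hB hR]

end CLYXQ

open CLYXQ

/-- CLYXQ: the lifts of a short and a long root element which commute do commute -/
theorem cl_Ys_X (hn : 3 ≤ n) (hB : QRel Q0 X Ys) (hR : Rot Q0 X Ys h₀ R D) (ψ : E →* G)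
    (hψ : Function.Surjective ψ) (hc : ψ.ker ≤ Subgroup.center E) {a c d : J n}
    (hcd : IsRoot c d) (h1 : d ≠ a) (h2 : c ≠ ng a) (w : P) (t : F) :
    CL ψ (Ys a w) (X c d t) := by
  obtain ⟨x, hx⟩ := hψ (X c d t)
  have hlift := map_cl_h0_Ys hB hR ψ hψ a w
  have e1 : ψ x * h₀ * (ψ x)⁻¹ = h₀ := by
    rw [hx, ← hR.commX c d hcd t, mul_inv_cancel_right]
  have e2 : ψ x * Ys a (D w) * (ψ x)⁻¹ = Ys a (D w) := by
    rw [hx, ← hB.ycomm a c d hcd h1 h2 (D w) t, mul_inv_cancel_right]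
  have hconj := Cfsg.Agent.S2094P.conj_cl ψ hψ hc x h₀ (Ys a (D w))
  rw [e1, e2] at hconj
  have hcomm : Commute x (cl ψ hψ h₀ (Ys a (D w))) := by
    show x * _ = _ * x
    exact mul_inv_eq_iff_eq_mul.1 hconj
  exact Cfsg.Agent.S2094P.CL_of_commute ψ hc hlift hx hcomm.symm

end general

end Cfsg.Agent.S2099P
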