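import Cfsg.Agent.Helper18.Dickson34

/-! Dickson-type counting, part 35: solvability lemmas, refined form of the `p ∣ |H|` theorem. -/

set_option autoImplicit false

namespace Cfsg.Agent.Helper18.Dickson

open scoped commutatorElement

/-- a group whose commutators pairwise commute is solvable -/
theorem isSolvable_of_comm_comm {G : Type*} [Group G]
    (h : ∀ a b c d : G, ⁅a, b⁆ * ⁅c, d⁆ = ⁅c, d⁆ * ⁅a, b⁆) : Group.IsSolvable G := by
  rw [Group.isSolvable_def]
  refine ⟨2, ?_⟩
  have h1 : derivedSeries G 1 = commutator G := by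
    rw [derivedSeries_succ, derivedSeries_zero, commutator_def]
  have h2 : derivedSeries G 2 = ⁅commutator G, commutator G⁆ := by
    rw [derivedSeries_succ, h1]
  rw [h2, Subgroup.commutator_eq_bot_iff_le_centralizer]
  have hle : commutatorSet G ⊆ (Subgroup.centralizer (commutatorSet G) : Set G) := by
    rintro x ⟨a, b, rfl⟩
    rw [SetLike.mem_coe, Subgroup.mem_centralizer_iff]
    rintro y ⟨c, d, rfl⟩
    exact h c d a b
  have h3 : commutator G ≤ Subgroup.centralizer (commutatorSet G) := by
    rw [commutator_eq_closure]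
    exact (Subgroup.closure_le _).2 hle
  have h4 : Subgroup.centralizer (commutatorSet G) =
      Subgroup.centralizer ((commutator G : Subgroup G) : Set G) := by
    rw [commutator_eq_closure, Subgroup.centralizer_closure]
  rw [← h4]
  exact h3

theorem isSolvable_dihedral (n : ℕ) : Group.IsSolvable (DihedralGroup n) := by
  apply isSolvable_of_comm_comm
  have key : ∀ a b : DihedralGroup n, ∃ k, ⁅a, b⁆ = DihedralGroup.r k := by
    intro a b
    rcases a with i | i <;> rcases b with j | j
    · exact ⟨_, by simp [commutatorElement_def]; rfl⟩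
    · exact ⟨_, by simp [commutatorElement_def]; rfl⟩
    · exact ⟨_, by simp [commutatorElement_def]; rfl⟩
    · exact ⟨_, by simp [commutatorElement_def]; rfl⟩
  intro a b c d
  obtain ⟨k, hk⟩ := key a b
  obtain ⟨l, hl⟩ := key c d
  rw [hk, hl, DihedralGroup.r_mul_r, DihedralGroup.r_mul_r, add_comm]


variable {F : Type*} [Field F]

local notation "SF" => Matrix.SpecialLinearGroup (Fin 2) F
local notation "MF" => Matrix (Fin 2) (Fin 2) F
local notation "PF" => Matrix.ProjectiveSpecialLinearGroup (Fin 2) F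
local notation "π" => QuotientGroup.mk' (Subgroup.center SF)

/-- commutators of a group conjugate into the Borel subgroup are conjugates of unipotents -/
theorem comm_elt_borel (g0 a b : SF) (ha : ((g0 * a * g0⁻¹ : SF) : MF) 1 0 = 0)
    (hb : ((g0 * b * g0⁻¹ : SF) : MF) 1 0 = 0) : ∃ x : F, ⁅a, b⁆ = g0⁻¹ * uM x * g0 := by
  have hc := comm_borel _ _ ha hb
  have e := eq_uM _ hc.1 hc.2
  have e2 : g0 * a * g0⁻¹ * (g0 * b * g0⁻¹) * (g0 * a * g0⁻¹)⁻¹ * (g0 * b * g0⁻¹)⁻¹ =
      g0 * (a * b * a⁻¹ * b⁻¹) * g0⁻¹ := by group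
  rw [e2] at e
  refine ⟨((g0 * (a * b * a⁻¹ * b⁻¹) * g0⁻¹ : SF) : MF) 0 1, ?_⟩
  rw [← e, commutatorElement_def]; group

/-- a subgroup of `PSL₂(F)` whose preimage is conjugate into the Borel subgroup is solvable -/
theorem isSolvable_of_borel (H : Subgroup PF) (g0 : SF)
    (hg0 : ∀ h ∈ H.comap π, ((g0 * h * g0⁻¹ : SF) : MF) 1 0 = 0) : Group.IsSolvable H := by
  apply isSolvable_of_comm_comm
  intro a b c d
  obtain ⟨a', ha'⟩ := QuotientGroup.mk'_surjective (Subgroup.center SF) (a : PF)
  obtain ⟨b', hb'⟩ := QuotientGroup.mk'_surjective (Subgroup.center SF) (b : PF)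
  obtain ⟨c', hc'⟩ := QuotientGroup.mk'_surjective (Subgroup.center SF) (c : PF)
  obtain ⟨d', hd'⟩ := QuotientGroup.mk'_surjective (Subgroup.center SF) (d : PF)
  have hma : a' ∈ H.comap π := by rw [Subgroup.mem_comap, ha']; exact a.2
  have hmb : b' ∈ H.comap π := by rw [Subgroup.mem_comap, hb']; exact b.2
  have hmc : c' ∈ H.comap π := by rw [Subgroup.mem_comap, hc']; exact c.2
  have hmd : d' ∈ H.comap π := by rw [Subgroup.mem_comap, hd']; exact d.2
  obtain ⟨x, hx⟩ := comm_elt_borel g0 a' b' (hg0 a' hma) (hg0 b' hmb)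
  obtain ⟨y, hy⟩ := comm_elt_borel g0 c' d' (hg0 c' hmc) (hg0 d' hmd)
  apply Subtype.ext
  have e1 : ((⁅a, b⁆ : H) : PF) = π ⁅a', b'⁆ := by
    rw [commutatorElement_def, commutatorElement_def]
    simp only [Subgroup.coe_mul, Subgroup.coe_inv, map_mul, map_inv, ha', hb']
  have e2 : ((⁅c, d⁆ : H) : PF) = π ⁅c', d'⁆ := by
    rw [commutatorElement_def, commutatorElement_def]
    simp only [Subgroup.coe_mul, Subgroup.coe_inv, map_mul, map_inv, hc', hd']
  rw [Subgroup.coe_mul, Subgroup.coe_mul, e1, e2, hx, hy, ← map_mul, ← map_mul]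
  congr 1
  have h3 : uM x * uM y = uM y * uM x := by rw [uM_mul, uM_mul, add_comm]
  calc g0⁻¹ * uM x * g0 * (g0⁻¹ * uM y * g0) = g0⁻¹ * (uM x * uM y) * g0 := by group
    _ = g0⁻¹ * (uM y * uM x) * g0 := by rw [h3]
    _ = g0⁻¹ * uM y * g0 * (g0⁻¹ * uM x * g0) := by group

/-- subgroups with at least two Sylow `p`-subgroups in the preimage -/
theorem two_sylow_cases [Fintype F] (p : ℕ) [Fact p.Prime] [CharP F p] (hp : p ≠ 2)
    (H : Subgroup PF) (h1 : 1 < Nat.card (Sylow p (H.comap π))) :
    (∃ (K : Subfield F) (s : ℕ), Fintype.card F = Nat.card K ^ s ∧ 1 ≤ s ∧ (K = ⊤ → H = ⊤) ∧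
      ((2 * Nat.card H = (Nat.card K + 1) * ((Nat.card K - 1) * Nat.card K) ∧
          Nonempty (H ≃* ((SLK K).map π : Subgroup PF))) ∨
        (Nat.card H = (Nat.card K + 1) * ((Nat.card K - 1) * Nat.card K) ∧ Even s ∧
          Nonempty (H ≃* ((NK K).map π : Subgroup PF))))) ∨
    (p = 3 ∧ Nat.card H = 60) := by
  classical
  have h2 : (2 : F) ≠ 0 := two_ne_zero_of_char (E := F) p hp
  set Hh := H.comap π with hHh
  have hcard : Nat.card Hh = 2 * Nat.card H := card_comap_mk h2 H
  obtain ⟨ε, -, -, hcases⟩ := struct_two_sylow p hp Hh h1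
  rcases hcases with ⟨h3, h120⟩ | ⟨K, hK⟩
  · right
    refine ⟨h3, ?_⟩
    rw [hcard] at h120
    omega
  · left
    obtain ⟨s, hs1, hs⟩ := Cfsg.Agent.Helper11.FinSub.card_pow_top K
    have hc2 : Nat.card (Hh.map ε.toMonoidHom) = Nat.card Hh :=
      Subgroup.card_map_of_injective ε.injective
    have hiso : Nonempty (H ≃* ((Hh.map ε.toMonoidHom).map π : Subgroup PF)) := by
      rw [← map_pslEquivOfSL]
      exact ⟨H.equivMapOfInjective _ (pslEquivOfSL ε).injective⟩
    have hSLK : SLK K ≤ Hh.map ε.toMonoidHom := by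
      rcases hK with hK | hK
      · rw [hK]
      · rw [hK]; exact SLK_le_NK K
    refine ⟨K, s, hs, hs1, ?_, ?_⟩
    · intro hKtop
      rw [hKtop, SLK_top] at hSLK
      have hHtop : Hh = ⊤ := by
        rw [eq_top_iff]
        intro x _
        obtain ⟨y, hy, hyx⟩ := hSLK (Subgroup.mem_top (ε x))
        have : y = x := ε.injective hyx
        rw [← this]; exact hy
      rw [eq_top_iff]
      intro x _
      obtain ⟨y, rfl⟩ := QuotientGroup.mk'_surjective (Subgroup.center SF) x
      have : y ∈ Hh := by rw [hHtop]; trivial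
      exact this
    · by_cases hSN : Hh.map ε.toMonoidHom = SLK K
      · left
        refine ⟨?_, ?_⟩
        · rw [← hcard, ← hc2, hSN, card_SLK]
        · rw [hSN] at hiso; exact hiso
      · right
        have hNK : Hh.map ε.toMonoidHom = NK K := by
          rcases hK with hK | hK
          · exact absurd hK hSN
          · exact hK
        have hne : NK K ≠ SLK K := by rw [← hNK]; exact hSN
        -- `|NK K| = 2 |SLK K|`
        have hle := card_NK_le K
        have hdvd : Nat.card (SLK K) ∣ Nat.card (NK K) :=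
          Subgroup.card_dvd_of_le (SLK_le_NK K)
        have hcNK : Nat.card (NK K) = 2 * Nat.card (SLK K) := by
          obtain ⟨c, hc⟩ := hdvd
          have hpos : 0 < Nat.card (SLK K) := Nat.card_pos
          have hc1 : c ≠ 1 := by
            intro h
            rw [h, mul_one] at hc
            exact hne (Subgroup.eq_of_le_of_card_ge (SLK_le_NK K) (by rw [hc])).symm
          have hc0 : c ≠ 0 := by
            intro h
            rw [h, mul_zero] at hc
            have : 0 < Nat.card (NK K) := Nat.card_pos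
            omega
          have hc2' : c ≤ 2 := by
            by_contra hgt
            push Not at hgt
            have : Nat.card (SLK K) * 3 ≤ Nat.card (SLK K) * c := Nat.mul_le_mul_left _ hgt
            omega
          have : c = 2 := by omega
          rw [hc, this, mul_comm]
        refine ⟨?_, ?_, ?_⟩
        · have : 2 * Nat.card H = 2 * Nat.card (SLK K) := by
            rw [← hcard, ← hc2, hNK, hcNK]
          rw [← card_SLK]
          omega
        · -- degree is even
          by_contra hodd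
          rw [Nat.not_even_iff_odd] at hodd
          apply hne
          apply le_antisymm _ (SLK_le_NK K)
          intro n hn
          obtain ⟨t, ht0, ht2, ht⟩ := (mem_NK K n).1 hn
          exact mem_SLK_of_scaled K n t ht0 (mem_of_sq_mem_odd h2 K s hodd hs t ht2) ht
        · rw [hNK] at hiso; exact hiso

/-- **Subgroups of order divisible by `p`**, with the Borel case in explicit form. -/
theorem pdiv_dickson' [Fintype F] (p : ℕ) [Fact p.Prime] [CharP F p] (hp : p ≠ 2)
    (H : Subgroup PF) (hpH : p ∣ Nat.card H) :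
    (∃ g0 : SF, ∀ h ∈ H.comap π, ((g0 * h * g0⁻¹ : SF) : MF) 1 0 = 0) ∨
    (∃ (K : Subfield F) (s : ℕ), Fintype.card F = Nat.card K ^ s ∧ 1 ≤ s ∧ (K = ⊤ → H = ⊤) ∧
      ((2 * Nat.card H = (Nat.card K + 1) * ((Nat.card K - 1) * Nat.card K) ∧
          Nonempty (H ≃* ((SLK K).map π : Subgroup PF))) ∨
        (Nat.card H = (Nat.card K + 1) * ((Nat.card K - 1) * Nat.card K) ∧ Even s ∧
          Nonempty (H ≃* ((NK K).map π : Subgroup PF))))) ∨
    (p = 3 ∧ Nat.card H = 60) := by
  classical
  have h2 : (2 : F) ≠ 0 := two_ne_zero_of_char (E := F) p hp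
  have hcard : Nat.card (H.comap π) = 2 * Nat.card H := card_comap_mk h2 H
  have hpHh : p ∣ Nat.card (H.comap π) := by rw [hcard]; exact dvd_mul_of_dvd_right hpH 2
  have hpos : 0 < Nat.card (Sylow p (H.comap π)) := Nat.card_pos
  rcases Nat.eq_or_lt_of_le (Nat.succ_le_of_lt hpos) with h1 | h1
  · left
    exact struct_one_sylow p (H.comap π) h1.symm hpHh
  · right
    exact two_sylow_cases p hp H h1

end Cfsg.Agent.Helper18.Dickson
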