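import Mathlib

set_option autoImplicit false

namespace Cfsg.Agent.Helper18

open Matrix

/-- The group `(F²)^j ⋊ SL₂(F)` realised as pairs `(A, B)` with `B` a `j × 2` matrix. -/
structure AffSL (F : Type*) [Field F] (j : ℕ) where
  A : Matrix.SpecialLinearGroup (Fin 2) F
  B : Matrix (Fin j) (Fin 2) F

namespace AffSL

variable {F : Type*} [Field F] {j : ℕ}

@[ext] theorem ext' {x y : AffSL F j} (hA : x.A = y.A) (hB : x.B = y.B) : x = y := by
  cases x; cases y; simp_all

instance : Mul (AffSL F j) := ⟨fun x y => ⟨x.A * y.A, x.B * (y.A : Matrix (Fin 2) (Fin 2) F) + y.B⟩⟩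
instance : One (AffSL F j) := ⟨⟨1, 0⟩⟩
instance : Inv (AffSL F j) :=
  ⟨fun x => ⟨x.A⁻¹, -(x.B * ((x.A⁻¹ : Matrix.SpecialLinearGroup (Fin 2) F) : Matrix (Fin 2) (Fin 2) F))⟩⟩

@[simp] theorem mul_A (x y : AffSL F j) : (x * y).A = x.A * y.A := rfl
@[simp] theorem mul_B (x y : AffSL F j) :
    (x * y).B = x.B * (y.A : Matrix (Fin 2) (Fin 2) F) + y.B := rfl
@[simp] theorem one_A : (1 : AffSL F j).A = 1 := rfl
@[simp] theorem one_B : (1 : AffSL F j).B = 0 := rfl
@[simp] theorem inv_A (x : AffSL F j) : (x⁻¹).A = x.A⁻¹ := rfl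
@[simp] theorem inv_B (x : AffSL F j) :
    (x⁻¹).B = -(x.B * ((x.A⁻¹ : Matrix.SpecialLinearGroup (Fin 2) F) : Matrix (Fin 2) (Fin 2) F)) :=
  rfl

instance : Group (AffSL F j) :=
  Group.ofLeftAxioms
    (by
      intro x y z
      apply ext'
      · simp [mul_assoc]
      · simp only [mul_B, mul_A, Matrix.SpecialLinearGroup.coe_mul, Matrix.add_mul,
          Matrix.mul_assoc, add_assoc])
    (by
      intro x
      apply ext'
      · simp
      · simp)
    (by
      intro x
      apply ext'
      · simp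
      · simp only [mul_B, inv_B, one_B, Matrix.neg_mul, Matrix.mul_assoc]
        rw [← Matrix.SpecialLinearGroup.coe_mul, inv_mul_cancel, Matrix.SpecialLinearGroup.coe_one,
          Matrix.mul_one, neg_add_cancel])

/-- projection to `SL₂` -/
def proj : AffSL F j →* Matrix.SpecialLinearGroup (Fin 2) F where
  toFun x := x.A
  map_one' := rfl
  map_mul' _ _ := rfl

/-- inclusion of `SL₂` -/
def incl : Matrix.SpecialLinearGroup (Fin 2) F →* AffSL F j where
  toFun A := ⟨A, 0⟩
  map_one' := rfl
  map_mul' A B := by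
    apply ext'
    · rfl
    · simp

theorem incl_injective : Function.Injective (incl : Matrix.SpecialLinearGroup (Fin 2) F →* AffSL F j) := by
  intro A B h
  exact congrArg AffSL.A h

/-- equivalence with the product -/
def equivProd : AffSL F j ≃ Matrix.SpecialLinearGroup (Fin 2) F × Matrix (Fin j) (Fin 2) F where
  toFun x := (x.A, x.B)
  invFun p := ⟨p.1, p.2⟩
  left_inv x := by cases x; rfl
  right_inv p := by cases p; rfl

instance [Finite F] : Finite (AffSL F j) := Finite.of_equiv _ equivProd.symm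

theorem card_eq [Fintype F] :
    Nat.card (AffSL F j) =
      Nat.card (Matrix.SpecialLinearGroup (Fin 2) F) * (Fintype.card F ^ 2) ^ j := by
  rw [Nat.card_congr equivProd, Nat.card_prod]
  congr 1
  rw [Nat.card_eq_fintype_card]
  show Fintype.card (Fin j → Fin 2 → F) = _
  rw [Fintype.card_fun, Fintype.card_fun, Fintype.card_fin, Fintype.card_fin]

end AffSL

end Cfsg.Agent.Helper18
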