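import Mathlib
import Cfsg.Agent.S0003
import Cfsg.Agent.Helper1.MinNormal
import Cfsg.Agent.Helper23.FrobeniusAction

set_option autoImplicit false

namespace Cfsg.Agent.Helper18

universe u

/-- Two commuting elements of distinct prime orders give an element of order the product. -/
theorem exists_orderOf_mul {X : Type*} [Group X] {a b : ℕ} (ha : a.Prime) (hb : b.Prime)
    (hab : a ≠ b) (x y : X) (hx : orderOf x = a) (hy : orderOf y = b) (hc : x * y = y * x) :
    ∃ g : X, orderOf g = a * b := by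
  refine ⟨x * y, ?_⟩
  have hcop : (orderOf x).Coprime (orderOf y) := by
    rw [hx, hy]; exact (Nat.coprime_primes ha hb).mpr hab
  rw [Commute.orderOf_mul_eq_mul_orderOf_of_coprime hc hcop, hx, hy]

/-- If `m ∣ orderOf g` (finite order), some power of `g` has order `m`. -/
theorem exists_pow_orderOf_eq {X : Type*} [Group X] [Finite X] (g : X) (m : ℕ) (hm : m ∣ orderOf g) :
    ∃ h : X, orderOf h = m := by
  have hpos : 0 < orderOf g := orderOf_pos g
  obtain ⟨k, hk⟩ := hm
  have hk0 : k ≠ 0 := by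
    rintro rfl; rw [mul_zero] at hk; omega
  have hm0 : m ≠ 0 := by
    rintro rfl; rw [zero_mul] at hk; omega
  refine ⟨g ^ k, ?_⟩
  rw [orderOf_pow_of_dvd hk0 ⟨m, by rw [hk, mul_comm]⟩, hk]
  exact Nat.mul_div_cancel _ (Nat.pos_of_ne_zero hk0)

/-- Lifting an element order through a homomorphism. -/
theorem exists_orderOf_of_map {X Y : Type*} [Group X] [Finite X] [Group Y] (φ : X →* Y) (g : X)
    (m : ℕ) (hm : orderOf (φ g) = m) : ∃ h : X, orderOf h = m :=
  exists_pow_orderOf_eq g m (hm ▸ orderOf_map_dvd φ g)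

theorem orderOf_eq_of_pow_prime {X : Type*} [Group X] {a : ℕ} (ha : a.Prime) {x : X}
    (hx : x ^ a = 1) (hx1 : x ≠ 1) : orderOf x = a :=
  have : Fact a.Prime := ⟨ha⟩
  orderOf_eq_prime hx hx1

theorem card_pow_of_forall_pow {X : Type*} [Group X] [Finite X] {a : ℕ} (ha : a.Prime)
    (A : Subgroup X) (hA : ∀ x ∈ A, x ^ a = 1) : ∃ k, Nat.card A = a ^ k := by
  have : Fact a.Prime := ⟨ha⟩
  have : IsPGroup a A := by
    intro x
    refine ⟨1, ?_⟩
    rw [pow_one]
    exact Subtype.ext (by simpa using hA x x.2)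
  exact IsPGroup.iff_card.mp this

/-- Core of Higman's lemma: an abelian normal `u`-group `V`, an `a`-group `A₁` normalized by an
element `z` of order `b`. -/
theorem higman_core {X : Type*} [Group X] [Finite X] (V : Subgroup X) [V.Normal]
    [IsMulCommutative V] (hV : V ≠ ⊥)
    (u a b : ℕ) (hu : u.Prime) (ha : a.Prime) (hb : b.Prime) (hua : u ≠ a) (hub : u ≠ b)
    (hab : a ≠ b) (hVu : ∀ x ∈ V, x ^ u = 1)
    (A₁ : Subgroup X) (hA₁ : A₁ ≠ ⊥) (hA₁a : ∀ x ∈ A₁, x ^ a = 1)
    (z : X) (hz : orderOf z = b) (hzA : ∀ n ∈ A₁, z * n * z⁻¹ ∈ A₁) :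
    (∃ g : X, orderOf g = u * a) ∨ (∃ g : X, orderOf g = u * b) ∨ (∃ g : X, orderOf g = a * b) := by
  by_contra hcon
  push Not at hcon
  obtain ⟨h1, h2, h3⟩ := hcon
  apply hV
  have hzn : z ∈ Subgroup.normalizer (A₁ : Set X) := Subgroup.mem_normalizer_fintype hzA
  have hzp : Subgroup.zpowers z ≤ Subgroup.normalizer (A₁ : Set X) := by
    rw [Subgroup.zpowers_le]; exact hzn
  obtain ⟨n₀, hn₀1⟩ := (Subgroup.ne_bot_iff_exists_ne_one.mp hA₁)
  have hn₀' : (n₀ : X) ≠ 1 := fun e => hn₀1 (Subtype.ext e)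
  apply Cfsg.Agent.Helper23.frobenius_action V A₁ (Subgroup.zpowers z)
  · intro c hc n hn
    exact (Subgroup.mem_normalizer_iff.mp (hzp hc) n).mp hn
  · intro c hc hc1 n hn hcn
    by_contra hn1
    -- z is a power of c
    have : Fact b.Prime := ⟨hb⟩
    have hcard : Nat.card (Subgroup.zpowers z) = b := by rw [Nat.card_zpowers, hz]
    have hc' : (⟨c, hc⟩ : Subgroup.zpowers z) ≠ 1 := fun e => hc1 (congrArg Subtype.val e)
    have htop := zpowers_eq_top_of_prime_card (G := Subgroup.zpowers z) hcard hc'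
    have hzmem : (⟨z, Subgroup.mem_zpowers z⟩ : Subgroup.zpowers z) ∈
        Subgroup.zpowers (⟨c, hc⟩ : Subgroup.zpowers z) := by rw [htop]; exact Subgroup.mem_top _
    obtain ⟨k, hk⟩ := Subgroup.mem_zpowers_iff.mp hzmem
    have hk' : c ^ k = z := by
      have := congrArg Subtype.val hk
      simpa using this
    have hzn' : n * z = z * n := by
      rw [← hk']
      exact ((Commute.zpow_left (show Commute c n from hcn) k).eq).symm
    obtain ⟨g, hg⟩ := exists_orderOf_mul ha hb hab n z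
      (orderOf_eq_of_pow_prime ha (hA₁a n hn) hn1) hz hzn'
    exact h3 g hg
  · intro v hv hvn
    by_contra hv1
    obtain ⟨g, hg⟩ := exists_orderOf_mul hu ha hua v n₀
      (orderOf_eq_of_pow_prime hu (hVu v hv) hv1)
      (orderOf_eq_of_pow_prime ha (hA₁a n₀ n₀.2) hn₀') (hvn n₀ n₀.2).symm
    exact h1 g hg
  · intro v hv hvz
    by_contra hv1
    obtain ⟨g, hg⟩ := exists_orderOf_mul hu hb hub v z
      (orderOf_eq_of_pow_prime hu (hVu v hv) hv1) hz (hvz z (Subgroup.mem_zpowers z)).symm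
    exact h2 g hg
  · obtain ⟨i, hi⟩ := card_pow_of_forall_pow ha A₁ hA₁a
    obtain ⟨j, hj⟩ := card_pow_of_forall_pow hu V hVu
    rw [hi, hj]
    exact Nat.Coprime.pow _ _ ((Nat.coprime_primes ha hu).mpr (Ne.symm hua))

/-- In a solvable `{a,b}`-group with both primes dividing the order, there is a nontrivial
`a`-subgroup normalized by an element of order `b`, or vice versa. -/
theorem exists_pgroup_normalized {W : Type*} [Group W] [Finite W] [Group.IsSolvable W] (a b : ℕ)
    (ha : a.Prime) (hb : b.Prime)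
    (hcard : ∃ i j, Nat.card W = a ^ i * b ^ j) (hadvd : a ∣ Nat.card W)
    (hbdvd : b ∣ Nat.card W) :
    (∃ (A₁ : Subgroup W) (z : W), A₁ ≠ ⊥ ∧ (∀ x ∈ A₁, x ^ a = 1) ∧ orderOf z = b ∧
        ∀ n ∈ A₁, z * n * z⁻¹ ∈ A₁) ∨
    (∃ (A₁ : Subgroup W) (z : W), A₁ ≠ ⊥ ∧ (∀ x ∈ A₁, x ^ b = 1) ∧ orderOf z = a ∧
        ∀ n ∈ A₁, z * n * z⁻¹ ∈ A₁) := by
  have hnt : Nontrivial W := by
    rw [← Finite.one_lt_card_iff_nontrivial]
    have := Nat.le_of_dvd Nat.card_pos hadvd
    have := ha.two_le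
    omega
  obtain ⟨v, N, hv, hNn, hNne, hNp, _, hNexp⟩ := Cfsg.Agent.Helper1.exists_normal_pgroup_of_solvable (G := W)
  have hvdvd : v ∣ Nat.card W := by
    have : Fact v.Prime := ⟨hv⟩
    have h1 : v ∣ Nat.card N := by
      rcases hNp.card_eq_or_dvd with h | h
      · exfalso
        apply hNne
        exact Subgroup.card_eq_one.mp h
      · exact h
    exact h1.trans (Subgroup.card_subgroup_dvd_card N)
  obtain ⟨i, j, hij⟩ := hcard
  have hvab : v = a ∨ v = b := by
    rw [hij] at hvdvd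
    rcases (Nat.Prime.dvd_mul hv).mp hvdvd with h | h
    · left; exact (Nat.prime_dvd_prime_iff_eq hv ha).mp (hv.dvd_of_dvd_pow h)
    · right; exact (Nat.prime_dvd_prime_iff_eq hv hb).mp (hv.dvd_of_dvd_pow h)
  rcases hvab with rfl | rfl
  · left
    have : Fact b.Prime := ⟨hb⟩
    obtain ⟨z, hz⟩ := exists_prime_orderOf_dvd_card' b hbdvd
    exact ⟨N, z, hNne, hNexp, hz, fun n hn => hNn.conj_mem n hn z⟩
  · right
    have : Fact a.Prime := ⟨ha⟩
    obtain ⟨z, hz⟩ := exists_prime_orderOf_dvd_card' a hadvd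
    exact ⟨N, z, hNne, hNexp, hz, fun n hn => hNn.conj_mem n hn z⟩

/-- Arithmetic for a Hall `{s,t}`-subgroup. -/
theorem hall_arith (N s t : ℕ) (hN : N ≠ 0) (hs : s.Prime) (ht : t.Prime) (hst : s ≠ t)
    (hsN : s ∣ N) (htN : t ∣ N) :
    ∃ m n i j, N = m * n ∧ m.Coprime n ∧ m = s ^ i * t ^ j ∧ s ∣ m ∧ t ∣ m := by
  set i := N.factorization s with hi
  set j := N.factorization t with hj
  have hcop : (s ^ i).Coprime (t ^ j) :=
    Nat.Coprime.pow _ _ ((Nat.coprime_primes hs ht).mpr hst)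
  have hm : s ^ i * t ^ j ∣ N :=
    Nat.Coprime.mul_dvd_of_dvd_of_dvd hcop (Nat.ordProj_dvd N s) (Nat.ordProj_dvd N t)
  obtain ⟨n, hn⟩ := hm
  have hipos : 0 < i := hs.factorization_pos_of_dvd hN hsN
  have hjpos : 0 < j := ht.factorization_pos_of_dvd hN htN
  refine ⟨s ^ i * t ^ j, n, i, j, hn, ?_, rfl, ?_, ?_⟩
  · apply Nat.Coprime.mul_left
    · apply Nat.Coprime.pow_left
      rw [Nat.Prime.coprime_iff_not_dvd hs]
      intro hsn
      apply Nat.pow_succ_factorization_not_dvd hN hs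
      show s ^ (i + 1) ∣ N
      obtain ⟨c, hc⟩ := hsn
      exact ⟨t ^ j * c, by rw [hn, hc, pow_succ]; ring⟩
    · apply Nat.Coprime.pow_left
      rw [Nat.Prime.coprime_iff_not_dvd ht]
      intro htn
      apply Nat.pow_succ_factorization_not_dvd hN ht
      show t ^ (j + 1) ∣ N
      obtain ⟨c, hc⟩ := htn
      exact ⟨s ^ i * c, by rw [hn, hc, pow_succ]; ring⟩
  · exact Dvd.dvd.mul_right (dvd_pow_self s (by omega)) _
  · exact Dvd.dvd.mul_left (dvd_pow_self t (by omega)) _

/-- Higman's lemma given a normal elementary abelian `u`-subgroup. -/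
theorem higman_with_V {X : Type*} [Group X] [Finite X] [Group.IsSolvable X] (V : Subgroup X)
    [V.Normal] [IsMulCommutative V] (hV : V ≠ ⊥)
    (u a b : ℕ) (hu : u.Prime) (ha : a.Prime) (hb : b.Prime) (hua : u ≠ a) (hub : u ≠ b)
    (hab : a ≠ b) (hVu : ∀ x ∈ V, x ^ u = 1) (hadvd : a ∣ Nat.card X) (hbdvd : b ∣ Nat.card X) :
    (∃ g : X, orderOf g = u * a) ∨ (∃ g : X, orderOf g = u * b) ∨ (∃ g : X, orderOf g = a * b) := by
  obtain ⟨m, n, i, j, hmn, hcop, hm, ham, hbm⟩ :=
    hall_arith (Nat.card X) a b Nat.card_pos.ne' ha hb hab hadvd hbdvd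
  obtain ⟨W, hW⟩ := Cfsg.Agent.S0003.result (G := X) m n hmn hcop
  have hWsolv : Group.IsSolvable W := inferInstance
  rcases exists_pgroup_normalized (W := W) a b ha hb ⟨i, j, by rw [hW, hm]⟩ (hW ▸ ham)
    (hW ▸ hbm) with ⟨A₁, z, hA₁, hA₁a, hz, hzA⟩ | ⟨A₁, z, hA₁, hA₁b, hz, hzA⟩
  · apply higman_core V hV u a b hu ha hb hua hub hab hVu (A₁.map W.subtype) ?_ ?_ (z : X) ?_ ?_
    · intro e
      apply hA₁
      rw [eq_bot_iff]
      intro x hx
      have : (x : X) ∈ A₁.map W.subtype := Subgroup.mem_map_of_mem _ hx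
      rw [e, Subgroup.mem_bot] at this
      rw [Subgroup.mem_bot]; exact Subtype.ext this
    · rintro _ ⟨x, hx, rfl⟩
      have := hA₁a x hx
      exact congrArg Subtype.val this
    · rw [← hz]; exact Subgroup.orderOf_coe z
    · rintro _ ⟨x, hx, rfl⟩
      exact ⟨z * x * z⁻¹, hzA x hx, rfl⟩
  · have := higman_core V hV u b a hu hb ha hub hua (Ne.symm hab) hVu (A₁.map W.subtype) ?_ ?_
      (z : X) ?_ ?_
    · rcases this with h | h | h
      · right; left; exact h
      · left; exact h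
      · right; right; rw [mul_comm]; exact h
    · intro e
      apply hA₁
      rw [eq_bot_iff]
      intro x hx
      have : (x : X) ∈ A₁.map W.subtype := Subgroup.mem_map_of_mem _ hx
      rw [e, Subgroup.mem_bot] at this
      rw [Subgroup.mem_bot]; exact Subtype.ext this
    · rintro _ ⟨x, hx, rfl⟩
      have := hA₁b x hx
      exact congrArg Subtype.val this
    · rw [← hz]; exact Subgroup.orderOf_coe z
    · rintro _ ⟨x, hx, rfl⟩
      exact ⟨z * x * z⁻¹, hzA x hx, rfl⟩

/-- **Higman's lemma**: a finite solvable group whose order is divisible by three distinct primes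
has an element whose order is the product of two of them. -/
theorem higman_three_primes : ∀ (n : ℕ) (X : Type u) [Group X] [Finite X] [Group.IsSolvable X],
    Nat.card X = n → ∀ r s t : ℕ, r.Prime → s.Prime → t.Prime → r ≠ s → r ≠ t → s ≠ t →
    r ∣ Nat.card X → s ∣ Nat.card X → t ∣ Nat.card X →
    (∃ g : X, orderOf g = r * s) ∨ (∃ g : X, orderOf g = r * t) ∨ (∃ g : X, orderOf g = s * t) := by
  intro n
  induction n using Nat.strong_induction_on with
  | _ n ih =>
    intro X _ _ _ hn r s t hr hs ht hrs hrt hst hrX hsX htX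
    have hnt : Nontrivial X := by
      rw [← Finite.one_lt_card_iff_nontrivial]
      have := Nat.le_of_dvd Nat.card_pos hrX
      have := hr.two_le
      omega
    obtain ⟨v, V, hv, hVn, hVne, hVp, hVc, hVexp⟩ :=
      Cfsg.Agent.Helper1.exists_normal_pgroup_of_solvable (G := X)
    by_cases hvr : v = r
    · subst hvr
      exact higman_with_V V hVne v s t hv hs ht hrs hrt hst hVexp hsX htX
    by_cases hvs : v = s
    · subst hvs
      rcases higman_with_V V hVne v r t hv hr ht (Ne.symm hrs) hst hrt hVexp hrX htX with h | h | h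
      · left; rw [mul_comm]; exact h
      · right; right; exact h
      · right; left; exact h
    by_cases hvt : v = t
    · subst hvt
      rcases higman_with_V V hVne v r s hv hr hs (Ne.symm hrt) (Ne.symm hst) hrs hVexp hrX hsX
        with h | h | h
      · right; left; rw [mul_comm]; exact h
      · right; right; rw [mul_comm]; exact h
      · left; exact h
    -- v is a fourth prime: pass to the quotient
    obtain ⟨k, hk⟩ := card_pow_of_forall_pow hv V hVexp
    have hcardq : Nat.card X = Nat.card (X ⧸ V) * Nat.card V :=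
      Subgroup.card_eq_card_quotient_mul_card_subgroup V
    have hdvdq : ∀ w : ℕ, w.Prime → w ≠ v → w ∣ Nat.card X → w ∣ Nat.card (X ⧸ V) := by
      intro w hw hwv hwX
      rw [hcardq, hk] at hwX
      exact Nat.Coprime.dvd_of_dvd_mul_right
        (Nat.Coprime.pow_right _ ((Nat.coprime_primes hw hv).mpr hwv)) hwX
    have hVcard : 2 ≤ Nat.card V := by
      rcases Nat.lt_or_ge (Nat.card V) 2 with h | h
      · exfalso
        apply hVne
        have h1 : Nat.card V = 1 := by
          have := Nat.card_pos (α := V)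
          omega
        exact Subgroup.card_eq_one.mp h1
      · exact h
    have hlt : Nat.card (X ⧸ V) < n := by
      rw [← hn, hcardq]
      have := Nat.card_pos (α := X ⧸ V)
      nlinarith
    have := ih (Nat.card (X ⧸ V)) hlt (X ⧸ V) rfl r s t hr hs ht hrs hrt hst
      (hdvdq r hr (Ne.symm hvr) hrX) (hdvdq s hs (Ne.symm hvs) hsX) (hdvdq t ht (Ne.symm hvt) htX)
    rcases this with ⟨g, hg⟩ | ⟨g, hg⟩ | ⟨g, hg⟩
    · left
      obtain ⟨g', rfl⟩ := QuotientGroup.mk'_surjective V g
      exact exists_orderOf_of_map (QuotientGroup.mk' V) g' _ hg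
    · right; left
      obtain ⟨g', rfl⟩ := QuotientGroup.mk'_surjective V g
      exact exists_orderOf_of_map (QuotientGroup.mk' V) g' _ hg
    · right; right
      obtain ⟨g', rfl⟩ := QuotientGroup.mk'_surjective V g
      exact exists_orderOf_of_map (QuotientGroup.mk' V) g' _ hg

end Cfsg.Agent.Helper18
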