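import Mathlib
import Cfsg.Agent.Helper18.AffSL
import Cfsg.Agent.Helper18.PrimeGraph

set_option autoImplicit false

namespace Cfsg.Agent.Helper18

open Matrix

section
variable {F : Type*} [Field F] [CharP F 2] {j : ℕ}

theorem AffSL.mul_self_of_proj_eq_one (k : AffSL F j) (hk : k.A = 1) : k * k = 1 := by
  apply AffSL.ext'
  · simp [hk]
  · simp only [AffSL.mul_B, hk, Matrix.SpecialLinearGroup.coe_one, Matrix.mul_one, AffSL.one_B]
    ext i l
    simp only [Matrix.add_apply, Matrix.zero_apply]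
    exact CharTwo.add_self_eq_zero _

/-- The centre of `SL₂` in characteristic 2 is trivial. -/
theorem center_sl2_char_two :
    Subgroup.center (Matrix.SpecialLinearGroup (Fin 2) F) = ⊥ := by
  rw [eq_bot_iff]
  intro A hA
  rw [Matrix.SpecialLinearGroup.mem_center_iff] at hA
  obtain ⟨r, hr, hrA⟩ := hA
  rw [Fintype.card_fin] at hr
  have hr1 : r = 1 := by
    have h1 : (r - 1) ^ 2 = 0 := by
      have h2 : (2 : F) = 0 := CharTwo.two_eq_zero
      linear_combination hr + (1 - r) * h2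
    have := pow_eq_zero_iff (two_ne_zero) |>.mp h1
    exact sub_eq_zero.mp this
  rw [Subgroup.mem_bot]
  apply Matrix.SpecialLinearGroup.ext
  intro i l
  rw [← hrA, hr1]
  simp

theorem psl2_mk_injective :
    Function.Injective (QuotientGroup.mk' (Subgroup.center (Matrix.SpecialLinearGroup (Fin 2) F))) := by
  rw [← MonoidHom.ker_eq_bot_iff, QuotientGroup.ker_mk', center_sl2_char_two]

/-- An element of `SL₂` in characteristic 2 fixing a nonzero row vector is an involution or 1. -/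
theorem sl2_mul_self_eq_one (A : Matrix.SpecialLinearGroup (Fin 2) F) (w : Fin 2 → F) (hw : w ≠ 0)
    (hwA : w ᵥ* ((A : Matrix (Fin 2) (Fin 2) F) - 1) = 0) : A * A = 1 := by
  have hdet0 : ((A : Matrix (Fin 2) (Fin 2) F) - 1).det = 0 :=
    Matrix.exists_vecMul_eq_zero_iff.mp ⟨w, hw, hwA⟩
  have hdet1 : (A : Matrix (Fin 2) (Fin 2) F).det = 1 := A.2
  rw [Matrix.det_fin_two] at hdet0 hdet1
  simp only [Matrix.sub_apply, Matrix.one_apply_eq, Matrix.one_apply_ne, ne_eq, Fin.reduceEq,
    not_false_eq_true, sub_zero, Fin.isValue] at hdet0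
  have h2 : (2 : F) = 0 := CharTwo.two_eq_zero
  set a := (A : Matrix (Fin 2) (Fin 2) F) 0 0 with ha
  set b := (A : Matrix (Fin 2) (Fin 2) F) 0 1 with hb
  set c := (A : Matrix (Fin 2) (Fin 2) F) 1 0 with hc
  set d := (A : Matrix (Fin 2) (Fin 2) F) 1 1 with hd
  have htr : a + d = 0 := by linear_combination hdet1 - hdet0 + h2
  apply Matrix.SpecialLinearGroup.ext
  intro i l
  rw [Matrix.SpecialLinearGroup.coe_mul, Matrix.mul_apply, Fin.sum_univ_two]
  fin_cases i <;> fin_cases l
  · show a * a + b * c = (1 : Matrix (Fin 2) (Fin 2) F) 0 0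
    rw [Matrix.one_apply_eq]
    linear_combination a * htr - hdet1 - h2
  · show a * b + b * d = (1 : Matrix (Fin 2) (Fin 2) F) 0 1
    rw [Matrix.one_apply_ne (by decide)]
    linear_combination b * htr
  · show c * a + d * c = (1 : Matrix (Fin 2) (Fin 2) F) 1 0
    rw [Matrix.one_apply_ne (by decide)]
    linear_combination c * htr
  · show c * b + d * d = (1 : Matrix (Fin 2) (Fin 2) F) 1 1
    rw [Matrix.one_apply_eq]
    linear_combination d * htr - hdet1 - h2

/-- `SL₂` in characteristic 2 has an element of order 2. -/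
theorem sl2_exists_orderOf_two : ∃ t : Matrix.SpecialLinearGroup (Fin 2) F, orderOf t = 2 := by
  obtain ⟨t, ht⟩ : ∃ t : Matrix.SpecialLinearGroup (Fin 2) F,
      (t : Matrix (Fin 2) (Fin 2) F) = !![1, 1; 0, 1] :=
    ⟨⟨!![1, 1; 0, 1], by simp [Matrix.det_fin_two]⟩, rfl⟩
  have h00 : (t : Matrix (Fin 2) (Fin 2) F) 0 0 = 1 := by rw [ht]; rfl
  have h01 : (t : Matrix (Fin 2) (Fin 2) F) 0 1 = 1 := by rw [ht]; rfl
  have h10 : (t : Matrix (Fin 2) (Fin 2) F) 1 0 = 0 := by rw [ht]; rfl
  have h11 : (t : Matrix (Fin 2) (Fin 2) F) 1 1 = 1 := by rw [ht]; rfl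
  refine ⟨t, ?_⟩
  have : Fact (Nat.Prime 2) := ⟨Nat.prime_two⟩
  apply orderOf_eq_prime
  · rw [pow_two]
    apply Matrix.SpecialLinearGroup.ext
    intro i l
    rw [Matrix.SpecialLinearGroup.coe_mul, Matrix.mul_apply, Fin.sum_univ_two]
    have h2 : (1 : F) + 1 = 0 := CharTwo.add_self_eq_zero 1
    fin_cases i <;> fin_cases l <;> simp [h00, h01, h10, h11, h2]
  · intro h
    have := congrArg (fun M : Matrix.SpecialLinearGroup (Fin 2) F =>
      (M : Matrix (Fin 2) (Fin 2) F) 0 1) h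
    simp [h01] at this

theorem AffSL.aux_no_order (p q : ℕ) (hp : p.Prime) (hq : q.Prime) (hpq : p ≠ q)
    (h : AffSL F j) (hord : orderOf h = p * q) (hA : orderOf h.A = p) : False := by
  obtain ⟨k, hk⟩ : ∃ k : AffSL F j, k = h ^ p := ⟨_, rfl⟩
  have hkA : k.A = 1 := by
    have h1 : k.A = AffSL.proj k := rfl
    rw [h1, hk, map_pow]
    show h.A ^ p = 1
    rw [← hA]; exact pow_orderOf_eq_one _
  have hk2 : k * k = 1 := AffSL.mul_self_of_proj_eq_one k hkA
  have hq2 : q = 2 := by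
    have h1 : h ^ (p * 2) = 1 := by rw [pow_mul, ← hk, pow_two]; exact hk2
    have h2 := orderOf_dvd_of_pow_eq_one h1
    rw [hord] at h2
    have h3 : q ∣ 2 := (Nat.mul_dvd_mul_iff_left hp.pos).mp h2
    exact (Nat.prime_dvd_prime_iff_eq hq Nat.prime_two).mp h3
  have hk1 : k ≠ 1 := by
    intro e
    rw [hk] at e
    have h2 := orderOf_dvd_of_pow_eq_one e
    rw [hord] at h2
    have h3 : p * q ∣ p * 1 := by rwa [mul_one]
    have h4 : q ∣ 1 := (Nat.mul_dvd_mul_iff_left hp.pos).mp h3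
    exact hq.one_lt.ne' (Nat.dvd_one.mp h4)
  have hcomm : h * k = k * h := by rw [hk]; exact (pow_mul_comm' h p).symm
  have hB : k.B * ((h.A : Matrix (Fin 2) (Fin 2) F) - 1) = 0 := by
    have h1 := congrArg AffSL.B hcomm
    simp only [AffSL.mul_B, hkA, Matrix.SpecialLinearGroup.coe_one, Matrix.mul_one] at h1
    rw [Matrix.mul_sub, Matrix.mul_one, sub_eq_zero]
    have h2 : k.B * (h.A : Matrix (Fin 2) (Fin 2) F) + h.B = k.B + h.B := by
      rw [← h1, add_comm]
    exact add_right_cancel h2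
  have hkB : k.B ≠ 0 := by
    intro e
    apply hk1
    apply AffSL.ext'
    · exact hkA
    · exact e
  obtain ⟨i, hi⟩ : ∃ i, k.B i ≠ 0 := by
    by_contra hcon
    push Not at hcon
    apply hkB
    ext i l
    rw [hcon i]; rfl
  have hw : k.B i ᵥ* ((h.A : Matrix (Fin 2) (Fin 2) F) - 1) = 0 := by
    have := congrFun hB i
    rw [Matrix.mul_apply_eq_vecMul] at this
    exact this
  have hAA := sl2_mul_self_eq_one h.A (k.B i) hi hw
  have h5 : orderOf h.A ∣ 2 := orderOf_dvd_of_pow_eq_one (by rw [pow_two]; exact hAA)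
  rw [hA] at h5
  have hp2 : p = 2 := (Nat.prime_dvd_prime_iff_eq hp Nat.prime_two).mp h5
  exact hpq (hp2.trans hq2.symm)

theorem AffSL.exists_orderOf_iff [Finite F] (p q : ℕ) (hp : p.Prime) (hq : q.Prime)
    (hpq : p ≠ q) :
    (∃ g : Matrix.SpecialLinearGroup (Fin 2) F, orderOf g = p * q) ↔
      (∃ h : AffSL F j, orderOf h = p * q) := by
  constructor
  · rintro ⟨g, hg⟩
    exact ⟨AffSL.incl g, by rw [orderOf_injective _ AffSL.incl_injective]; exact hg⟩
  · rintro ⟨h, hord⟩
    have hm : orderOf h.A ∣ p * q := by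
      rw [← hord]; exact orderOf_map_dvd AffSL.proj h
    obtain ⟨a, b, ha, hb, hab⟩ := (Nat.dvd_mul).mp hm
    rcases (Nat.dvd_prime hp).mp ha with ha1 | ha1 <;>
      rcases (Nat.dvd_prime hq).mp hb with hb1 | hb1 <;> rw [ha1, hb1] at hab
    · -- order 1
      exfalso
      rw [one_mul] at hab
      have hA1 : h.A = 1 := orderOf_eq_one_iff.mp hab.symm
      have h1 := AffSL.mul_self_of_proj_eq_one h hA1
      have h2 := orderOf_dvd_of_pow_eq_one (by rw [pow_two]; exact h1 : h ^ 2 = 1)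
      rw [hord] at h2
      have h3 := Nat.le_of_dvd (by norm_num) h2
      have := hp.two_le
      have := hq.two_le
      have h4 : 2 * 2 ≤ p * q := Nat.mul_le_mul hp.two_le hq.two_le
      omega
    · -- order q
      exfalso
      rw [one_mul] at hab
      exact AffSL.aux_no_order q p hq hp (Ne.symm hpq) h (by rw [hord, mul_comm]) hab.symm
    · -- order p
      exfalso
      rw [mul_one] at hab
      exact AffSL.aux_no_order p q hp hq hpq h hord hab.symm
    · exact ⟨h.A, hab.symm⟩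

end

end Cfsg.Agent.Helper18
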