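import Mathlib
import Cfsg.Agent.Helper18.AffSL2

set_option autoImplicit false

namespace Cfsg.Agent.Helper18

open Matrix

/-- Every finite group has an isomorphic copy in `Type`. -/
theorem exists_small_copy (H' : Type*) [Group H'] [Finite H'] :
    ∃ (H : Type) (_ : Group H) (_ : Finite H), Nonempty (H ≃* H') := by
  let e : H' ≃ Fin (Nat.card H') := Finite.equivFin H'
  exact ⟨Fin (Nat.card H'), e.symm.group, inferInstance, ⟨e.symm.mulEquiv⟩⟩

theorem psl2_prime_graph {F : Type*} [Field F] [Fintype F] [CharP F 2] (N : ℕ) :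
    ∃ (H : Type) (_ : Group H) (_ : Finite H), N < Nat.card H ∧
      ((∀ p : ℕ, p.Prime →
        (p ∣ Nat.card (Matrix.ProjectiveSpecialLinearGroup (Fin 2) F) ↔ p ∣ Nat.card H)) ∧
      (∀ p q : ℕ, p.Prime → q.Prime → p ≠ q →
        ((∃ g : (Matrix.ProjectiveSpecialLinearGroup (Fin 2) F), orderOf g = p * q) ↔
          (∃ g : H, orderOf g = p * q)))) := by
  classical
  -- PSL ≅ SL
  have hbij : Function.Bijective
      (QuotientGroup.mk' (Subgroup.center (Matrix.SpecialLinearGroup (Fin 2) F))) :=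
    ⟨psl2_mk_injective, QuotientGroup.mk'_surjective _⟩
  let ψ : Matrix.SpecialLinearGroup (Fin 2) F ≃* Matrix.ProjectiveSpecialLinearGroup (Fin 2) F :=
    MulEquiv.ofBijective _ hbij
  obtain ⟨H, hG, hF, ⟨φ⟩⟩ := exists_small_copy (AffSL F N)
  refine ⟨H, hG, hF, ?_⟩
  have hcardH : Nat.card H =
      Nat.card (Matrix.SpecialLinearGroup (Fin 2) F) * (Fintype.card F ^ 2) ^ N := by
    rw [Nat.card_congr φ.toEquiv, AffSL.card_eq]
  have hcardP : Nat.card (Matrix.ProjectiveSpecialLinearGroup (Fin 2) F) =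
      Nat.card (Matrix.SpecialLinearGroup (Fin 2) F) := (Nat.card_congr ψ.toEquiv).symm
  have hq2 : 2 ≤ Fintype.card F := Fintype.one_lt_card
  refine ⟨?_, ?_, ?_⟩
  · rw [hcardH]
    have h1 : 0 < Nat.card (Matrix.SpecialLinearGroup (Fin 2) F) := Nat.card_pos
    have h2 : N < 2 ^ N := Nat.lt_two_pow_self
    have h3 : 2 ^ N ≤ (Fintype.card F ^ 2) ^ N := by
      apply Nat.pow_le_pow_left
      nlinarith
    nlinarith
  · intro p hp
    rw [hcardP, hcardH]
    constructor
    · intro h; exact Dvd.dvd.mul_right h _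
    · intro h
      rcases (Nat.Prime.dvd_mul hp).mp h with h | h
      · exact h
      · have h1 : p ∣ Fintype.card F := hp.dvd_of_dvd_pow (hp.dvd_of_dvd_pow h)
        obtain ⟨n, _, hn⟩ := FiniteField.card F 2
        rw [hn] at h1
        have h2 : p = 2 := (Nat.prime_dvd_prime_iff_eq hp Nat.prime_two).mp (hp.dvd_of_dvd_pow h1)
        obtain ⟨t, ht⟩ := sl2_exists_orderOf_two (F := F)
        rw [h2]
        have := orderOf_dvd_natCard t
        rwa [ht] at this
  · intro p q hp hq hpq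
    constructor
    · rintro ⟨g, hg⟩
      have h1 : ∃ g' : Matrix.SpecialLinearGroup (Fin 2) F, orderOf g' = p * q :=
        ⟨ψ.symm g, by rw [MulEquiv.orderOf_eq]; exact hg⟩
      obtain ⟨h, hh⟩ := (AffSL.exists_orderOf_iff (j := N) p q hp hq hpq).mp h1
      exact ⟨φ.symm h, by rw [MulEquiv.orderOf_eq]; exact hh⟩
    · rintro ⟨g, hg⟩
      have h1 : ∃ h : AffSL F N, orderOf h = p * q :=
        ⟨φ g, by rw [MulEquiv.orderOf_eq]; exact hg⟩
      obtain ⟨g', hg'⟩ := (AffSL.exists_orderOf_iff (j := N) p q hp hq hpq).mpr h1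
      exact ⟨ψ g', by rw [MulEquiv.orderOf_eq]; exact hg'⟩

end Cfsg.Agent.Helper18
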