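import Mathlib
import Cfsg.Agent.Helper18.AffSL3
import Cfsg.Agent.Helper2.SLCard

/-!
`PSL(2,7)` and `PSL(2,8)` have the same prime graph (for S3678).
-/

set_option autoImplicit false

namespace Cfsg.Agent.Helper18.PSL27

open Matrix

section recursion

variable {R : Type*} [CommRing R]

/-- coefficients of `g ^ n = a_n g + b_n` for `g` of determinant one and trace `t` -/
def aSeq (t : R) : ℕ → R × R
  | 0 => (0, 1)
  | n + 1 => (t * (aSeq t n).1 + (aSeq t n).2, -(aSeq t n).1)

theorem cayley_two (g : Matrix (Fin 2) (Fin 2) R) (hdet : g.det = 1) :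
    g * g = g.trace • g - 1 := by
  rw [Matrix.det_fin_two] at hdet
  ext i j
  fin_cases i <;> fin_cases j <;>
    simp [Matrix.mul_apply, Fin.sum_univ_two, Matrix.trace_fin_two] <;>
    first | linear_combination -hdet | ring

theorem pow_eq (g : Matrix (Fin 2) (Fin 2) R) (hdet : g.det = 1) (n : ℕ) :
    g ^ n = (aSeq g.trace n).1 • g + (aSeq g.trace n).2 • (1 : Matrix (Fin 2) (Fin 2) R) := by
  induction n with
  | zero => simp [aSeq]
  | succ n ih =>
    rw [pow_succ, ih, add_mul, smul_mul_assoc, smul_mul_assoc, one_mul, cayley_two g hdet]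
    simp only [aSeq]
    module

theorem aSeq_two (t : R) : (aSeq t 2).1 = t := by simp [aSeq]

theorem aSeq_three (t : R) : (aSeq t 3).1 = t ^ 2 - 1 := by simp [aSeq]; ring

theorem aSeq_four (t : R) : (aSeq t 4).1 = t ^ 3 - 2 * t := by simp [aSeq]; ring

theorem aSeq_seven (t : R) : (aSeq t 7).1 = t ^ 6 - 5 * t ^ 4 + 6 * t ^ 2 - 1 := by
  simp [aSeq]; ring

theorem aSeq_nine (t : R) : (aSeq t 9).1 = t ^ 8 - 7 * t ^ 6 + 15 * t ^ 4 - 10 * t ^ 2 + 1 := by
  simp [aSeq]; ring

theorem psl_pow_eq_one (g : Matrix.SpecialLinearGroup (Fin 2) R) (n : ℕ)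
    (ha : (aSeq (g : Matrix (Fin 2) (Fin 2) R).trace n).1 = 0) :
    (QuotientGroup.mk g : Matrix.ProjectiveSpecialLinearGroup (Fin 2) R) ^ n = 1 := by
  rw [← QuotientGroup.mk_pow, QuotientGroup.eq_one_iff, Matrix.SpecialLinearGroup.mem_center_iff]
  set b := (aSeq (g : Matrix (Fin 2) (Fin 2) R).trace n).2 with hb
  have h1 : ((g ^ n : Matrix.SpecialLinearGroup (Fin 2) R) : Matrix (Fin 2) (Fin 2) R) =
      b • (1 : Matrix (Fin 2) (Fin 2) R) := by
    rw [Matrix.SpecialLinearGroup.coe_pow, pow_eq _ g.det_coe, ha, zero_smul, zero_add]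
  refine ⟨b, ?_, ?_⟩
  · have := (g ^ n).det_coe
    rw [h1, det_smul, det_one] at this
    simpa using this
  · rw [h1]
    ext i j
    simp [Matrix.scalar_apply, Matrix.diagonal_apply, Matrix.one_apply]

end recursion

section orders

theorem psl27_pow {F : Type*} [Field F] [Fintype F] (hF : Fintype.card F = 7)
    (x : Matrix.ProjectiveSpecialLinearGroup (Fin 2) F) :
    x ^ 2 = 1 ∨ x ^ 3 = 1 ∨ x ^ 4 = 1 ∨ x ^ 7 = 1 := by
  obtain ⟨g, rfl⟩ := QuotientGroup.mk_surjective x
  set t := (g : Matrix (Fin 2) (Fin 2) F).trace with ht0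
  have h7 : (7 : F) = 0 := by
    have := Nat.cast_card_eq_zero F
    rw [hF] at this
    exact_mod_cast this
  have ht : t ^ 7 = t := by
    have := FiniteField.pow_card t
    rwa [hF] at this
  have hprod : t * (t ^ 2 - 1) * (t ^ 2 - 2) * (t ^ 2 - 4) = 0 := by
    linear_combination ht - (t ^ 5 - 2 * t ^ 3 + t) * h7
  rcases mul_eq_zero.mp hprod with h | h4
  · rcases mul_eq_zero.mp h with h | h3
    · rcases mul_eq_zero.mp h with h1 | h2
      · left
        apply psl_pow_eq_one
        rw [aSeq_two]; exact h1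
      · right; left
        apply psl_pow_eq_one
        rw [aSeq_three]; exact h2
    · right; right; left
      apply psl_pow_eq_one
      rw [aSeq_four]
      linear_combination t * h3
  · right; right; right
    apply psl_pow_eq_one
    rw [aSeq_seven]
    linear_combination (t ^ 2 - 4) ^ 2 * h4 + (t ^ 4 - 6 * t ^ 2 + 9) * h7

theorem psl28_pow {K : Type*} [Field K] [Fintype K] (hK : Fintype.card K = 8)
    (x : Matrix.ProjectiveSpecialLinearGroup (Fin 2) K) :
    x ^ 2 = 1 ∨ x ^ 3 = 1 ∨ x ^ 7 = 1 ∨ x ^ 9 = 1 := by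
  obtain ⟨g, rfl⟩ := QuotientGroup.mk_surjective x
  set t := (g : Matrix (Fin 2) (Fin 2) K).trace with ht0
  have h8 : (8 : K) = 0 := by
    have := Nat.cast_card_eq_zero K
    rw [hK] at this
    exact_mod_cast this
  have h2 : (2 : K) = 0 := by
    have : (2 : K) ^ 3 = 0 := by rw [← h8]; norm_num
    exact pow_eq_zero_iff (by norm_num) |>.mp this
  have ht : t ^ 8 = t := by
    have := FiniteField.pow_card t
    rwa [hK] at this
  have hprod : t * (t + 1) * (t ^ 3 + t ^ 2 + 1) * (t ^ 3 + t + 1) = 0 := by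
    linear_combination ht + (t ^ 7 + t ^ 6 + 2 * t ^ 5 + 2 * t ^ 4 + t ^ 3 + t ^ 2 + t) * h2
  rcases mul_eq_zero.mp hprod with h | h4
  · rcases mul_eq_zero.mp h with h | h3
    · rcases mul_eq_zero.mp h with h1 | h2'
      · left
        apply psl_pow_eq_one
        rw [aSeq_two]; exact h1
      · right; left
        apply psl_pow_eq_one
        rw [aSeq_three]
        linear_combination (t - 1) * h2'
    · right; right; left
      apply psl_pow_eq_one
      rw [aSeq_seven]
      linear_combination (t ^ 3 + t ^ 2 + 1) * h3 +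
        (-t ^ 5 - 3 * t ^ 4 - t ^ 3 + 2 * t ^ 2 - 1) * h2
  · right; right; right
    apply psl_pow_eq_one
    rw [aSeq_nine]
    linear_combination (t ^ 2 + 1) * (t ^ 3 + t + 1) * h4 +
      (-5 * t ^ 6 - t ^ 5 + 6 * t ^ 4 - 2 * t ^ 3 - 6 * t ^ 2 - t) * h2

theorem orderOf_ne_mul {G : Type*} [Group G] (g : G)
    (h : g ^ 2 = 1 ∨ g ^ 3 = 1 ∨ g ^ 4 = 1 ∨ g ^ 7 = 1 ∨ g ^ 9 = 1) (p q : ℕ) (hp : p.Prime)
    (hq : q.Prime) (hpq : p ≠ q) : orderOf g ≠ p * q := by
  intro hord
  have key : ∀ r k : ℕ, r.Prime → g ^ (r ^ k) = 1 → False := by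
    intro r k hr hg
    have h1 := orderOf_dvd_of_pow_eq_one hg
    rw [hord] at h1
    have hpr : p = r := (Nat.prime_dvd_prime_iff_eq hp hr).mp
      (hp.dvd_of_dvd_pow ((Dvd.intro _ rfl).trans h1))
    have hqr : q = r := (Nat.prime_dvd_prime_iff_eq hq hr).mp
      (hq.dvd_of_dvd_pow ((Dvd.intro_left _ rfl).trans h1))
    exact hpq (hpr.trans hqr.symm)
  rcases h with h | h | h | h | h
  · exact key 2 1 Nat.prime_two (by simpa using h)
  · exact key 3 1 Nat.prime_three (by simpa using h)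
  · exact key 2 2 Nat.prime_two (by simpa using h)
  · exact key 7 1 (by norm_num) (by simpa using h)
  · exact key 3 2 Nat.prime_three (by simpa using h)

end orders

end Cfsg.Agent.Helper18.PSL27
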