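import Mathlib
import Cfsg.Agent.Helper18.PSL27

/-!
Cardinalities of `PSL(2,7)` and `PSL(2,8)` and S3678 main.
-/

set_option autoImplicit false

namespace Cfsg.Agent.Helper18.PSL27

open Matrix

theorem card_psl2 {F : Type*} [Field F] [Fintype F] (q : ℕ) (hF : Fintype.card F = q) (hq : 2 ≤ q) :
    Nat.card (Matrix.ProjectiveSpecialLinearGroup (Fin 2) F) * Nat.gcd 2 (q - 1) * (q - 1) =
      (q ^ 2 - 1) * (q ^ 2 - q) := by
  have h1 := Cfsg.Agent.Helper2.card_SL_mul_card_units (ι := Fin 2) (F := F)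
  have h2 := Matrix.card_GL_field (𝔽 := F) 2
  have h3 := Cfsg.Agent.Helper2.card_units_field (F := F)
  have h4 := Cfsg.Agent.Helper2.card_center_SL (F := F) 2 (by norm_num)
  have h5 := Subgroup.card_mul_index (Subgroup.center (Matrix.SpecialLinearGroup (Fin 2) F))
  have h6 : Nat.card (Matrix.ProjectiveSpecialLinearGroup (Fin 2) F) =
      (Subgroup.center (Matrix.SpecialLinearGroup (Fin 2) F)).index := rfl
  rw [hF] at h2 h3
  rw [h3] at h1 h4
  rw [Fin.prod_univ_two] at h2
  simp only [Fin.val_zero, Fin.val_one, pow_zero, pow_one] at h2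
  rw [h6, ← h2, ← h1, ← h5, h4]
  ring

theorem card_psl27 {F : Type*} [Field F] [Fintype F] (hF : Fintype.card F = 7) :
    Nat.card (Matrix.ProjectiveSpecialLinearGroup (Fin 2) F) = 168 := by
  have := card_psl2 7 hF (by norm_num)
  norm_num at this
  omega

theorem card_psl28 {F : Type*} [Field F] [Fintype F] (hF : Fintype.card F = 8) :
    Nat.card (Matrix.ProjectiveSpecialLinearGroup (Fin 2) F) = 504 := by
  have := card_psl2 8 hF (by norm_num)
  norm_num at this
  omega

theorem prime_dvd_168_iff (p : ℕ) (hp : p.Prime) : p ∣ 168 ↔ p ∣ 504 := by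
  have e1 : (168 : ℕ) = 2 ^ 3 * 3 * 7 := by norm_num
  have e2 : (504 : ℕ) = 2 ^ 3 * 3 ^ 2 * 7 := by norm_num
  rw [e1, e2]
  simp only [hp.dvd_mul, Nat.Prime.dvd_mul hp]
  constructor
  · rintro ((h | h) | h)
    · exact Or.inl (Or.inl h)
    · exact Or.inl (Or.inr (dvd_pow h (by norm_num)))
    · exact Or.inr h
  · rintro ((h | h) | h)
    · exact Or.inl (Or.inl h)
    · exact Or.inl (Or.inr (hp.dvd_of_dvd_pow h))
    · exact Or.inr h

theorem main {F : Type*} [Field F] [Fintype F] (hF : Fintype.card F = 7) (N : ℕ) :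
    ∃ (H : Type) (_ : Group H) (_ : Finite H), N < Nat.card H ∧
      ((∀ p : ℕ, p.Prime →
        (p ∣ Nat.card (Matrix.ProjectiveSpecialLinearGroup (Fin 2) F) ↔ p ∣ Nat.card H)) ∧
      (∀ p q : ℕ, p.Prime → q.Prime → p ≠ q →
        ((∃ g : (Matrix.ProjectiveSpecialLinearGroup (Fin 2) F), orderOf g = p * q) ↔
          (∃ g : H, orderOf g = p * q)))) := by
  have hp2 : Fact (Nat.Prime 2) := ⟨Nat.prime_two⟩
  let K := GaloisField 2 3
  have hfinK : Fintype K := Fintype.ofFinite K
  have hK : Fintype.card K = 8 := by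
    rw [← Nat.card_eq_fintype_card, GaloisField.card 2 3 (by norm_num)]; norm_num
  obtain ⟨H, hG, hfin, hN, hprimes, hedges⟩ := Cfsg.Agent.Helper18.psl2_prime_graph (F := K) N
  refine ⟨H, hG, hfin, hN, ?_, ?_⟩
  · intro p hp
    rw [← hprimes p hp, card_psl27 hF, card_psl28 hK]
    exact prime_dvd_168_iff p hp
  · intro p q hp hq hpq
    rw [← hedges p q hp hq hpq]
    constructor
    · rintro ⟨g, hg⟩
      exfalso
      refine orderOf_ne_mul g ?_ p q hp hq hpq hg
      rcases psl27_pow hF g with h | h | h | h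
      · exact Or.inl h
      · exact Or.inr (Or.inl h)
      · exact Or.inr (Or.inr (Or.inl h))
      · exact Or.inr (Or.inr (Or.inr (Or.inl h)))
    · rintro ⟨g, hg⟩
      exfalso
      refine orderOf_ne_mul g ?_ p q hp hq hpq hg
      rcases psl28_pow hK g with h | h | h | h
      · exact Or.inl h
      · exact Or.inr (Or.inl h)
      · exact Or.inr (Or.inr (Or.inr (Or.inl h)))
      · exact Or.inr (Or.inr (Or.inr (Or.inr h)))

end Cfsg.Agent.Helper18.PSL27
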