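import Cfsg.Agent.Helper18.Dickson41
import Cfsg.Agent.Helper2.L27

/-! Dickson-type counting, part 42: the subfield cases, transported to fields in `Type`. -/

set_option autoImplicit false

namespace Cfsg.Agent.Helper18.Dickson

variable {F : Type*} [Field F]

local notation "SF" => Matrix.SpecialLinearGroup (Fin 2) F
local notation "MF" => Matrix (Fin 2) (Fin 2) F
local notation "PF" => Matrix.ProjectiveSpecialLinearGroup (Fin 2) F
local notation "π" => QuotientGroup.mk' (Subgroup.center SF)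

/-- a copy in `Type` of a subfield of a finite field -/
theorem exists_type_field [Fintype F] (p : ℕ) [Fact p.Prime] [CharP F p] (K₀ : Subfield F) :
    ∃ (K : Type) (_ : Field K) (_ : Fintype K), Fintype.card K = Nat.card K₀ ∧
      Nonempty (K₀ ≃+* K) := by
  classical
  let _ : Fintype K₀ := Fintype.ofFinite K₀
  have : CharP K₀ p := RingHom.charP K₀.subtype K₀.subtype_injective p
  obtain ⟨k, -, hk⟩ := FiniteField.card K₀ p
  let instG : Fintype (GaloisField p k) := Fintype.ofFinite _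
  have hG : Fintype.card (GaloisField p k) = p ^ (k : ℕ) := by
    rw [← Nat.card_eq_fintype_card]
    exact GaloisField.card p k k.ne_zero
  refine ⟨GaloisField p k, inferInstance, instG, ?_, ⟨?_⟩⟩
  · rw [hG, Nat.card_eq_fintype_card, hk]
  · exact FiniteField.ringEquivOfCardEq (by rw [hG, hk])

/-- the `PSL₂(K)` case -/
theorem slk_case [Fintype F] (p : ℕ) [Fact p.Prime] [CharP F p] (K₀ : Subfield F) (s : ℕ)
    (hs : Fintype.card F = Nat.card K₀ ^ s) (H : Subgroup PF)
    (e : H ≃* ((SLK K₀).map π : Subgroup PF)) :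
    ∃ (K : Type) (_ : Field K) (_ : Fintype K) (m : ℕ), Fintype.card K ^ m = Fintype.card F ∧
      (Nonempty (H ≃* Matrix.ProjectiveSpecialLinearGroup (Fin 2) K) ∨
        Nonempty (H ≃* Matrix.ProjGenLinGroup (Fin 2) K)) := by
  obtain ⟨K, iF, iT, hc, ⟨eK⟩⟩ := exists_type_field p K₀
  obtain ⟨e1⟩ := nonempty_map_SLK_equiv K₀
  refine ⟨K, iF, iT, s, by rw [hc, hs], Or.inl ⟨?_⟩⟩
  exact e.trans (e1.trans (Cfsg.Agent.Helper2.L27.pslCongr eK))

/-- the `PGL₂(K)` case -/
theorem nk_case [Fintype F] (p : ℕ) [Fact p.Prime] [CharP F p] (hp : p ≠ 2) (K₀ : Subfield F)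
    (s : ℕ) (hev : Even s) (hs : Fintype.card F = Nat.card K₀ ^ s) (H : Subgroup PF)
    (e : H ≃* ((NK K₀).map π : Subgroup PF)) :
    ∃ (K : Type) (_ : Field K) (_ : Fintype K) (m : ℕ), Fintype.card K ^ m = Fintype.card F ∧
      (Nonempty (H ≃* Matrix.ProjectiveSpecialLinearGroup (Fin 2) K) ∨
        Nonempty (H ≃* Matrix.ProjGenLinGroup (Fin 2) K)) := by
  have h2 : (2 : F) ≠ 0 := two_ne_zero_of_char (E := F) p hp
  obtain ⟨K, iF, iT, hc, ⟨eK⟩⟩ := exists_type_field p K₀
  let j : K →+* F := K₀.subtype.comp eK.symm.toRingHom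
  have hj : ∀ x : F, x ∈ K₀ ↔ ∃ y : K, j y = x := by
    intro x
    constructor
    · intro hx
      refine ⟨eK ⟨x, hx⟩, ?_⟩
      show ((eK.symm (eK ⟨x, hx⟩) : K₀) : F) = x
      rw [RingEquiv.symm_apply_apply]
    · rintro ⟨y, rfl⟩
      exact (eK.symm y).2
  obtain ⟨e1⟩ := nonempty_map_NK_equiv' h2 K₀ (exists_sqrt_of_mem_even h2 K₀ s hev hs) j hj
  exact ⟨K, iF, iT, s, by rw [hc, hs], Or.inr ⟨e.trans e1⟩⟩

end Cfsg.Agent.Helper18.Dickson
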