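import Cfsg.Agent.Helper18.DicksonK1
import Cfsg.Agent.Helper13.PSL2Spec

/-! `p′`-subgroups of `PSL₂(F)`, `F` finite of odd characteristic `p`. -/

set_option autoImplicit false

open scoped LinearAlgebra.Projectivization

namespace Cfsg.Agent.Helper18.Dickson

variable {F : Type*} [Field F] [Fintype F]

local notation "SF" => Matrix.SpecialLinearGroup (Fin 2) F
local notation "PF" => Matrix.ProjectiveSpecialLinearGroup (Fin 2) F

theorem odd_card_of_char (p : ℕ) [Fact p.Prime] [CharP F p] (hp : p ≠ 2) :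
    Odd (Fintype.card F) := by
  obtain ⟨n, -, hn⟩ := FiniteField.card F p
  rw [hn]
  exact ((Fact.out : p.Prime).odd_of_ne_two hp).pow

theorem params_odd (p : ℕ) [Fact p.Prime] [CharP F p] (hp : p ≠ 2) :
    Cfsg.Agent.Helper13.PSL2Spec.Params F p 2 ((Fintype.card F - 1) / 2)
      ((Fintype.card F + 1) / 2) := by
  obtain ⟨k, hk⟩ := odd_card_of_char (F := F) p hp
  refine ⟨Fact.out, inferInstance, Or.inr rfl, ?_, ?_, ?_⟩
  · omega
  · omega
  · intro c hc
    rw [pow_two]; exact hc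

/-- element orders in a `p′`-subgroup -/
theorem orderOf_dvd_of_pprime (p : ℕ) [Fact p.Prime] [CharP F p] (hp : p ≠ 2)
    (h : PF) (hh : h ^ p = 1 → h = 1) :
    orderOf h ∣ (Fintype.card F + 1) / 2 ∨ orderOf h ∣ (Fintype.card F - 1) / 2 := by
  obtain ⟨X, rfl⟩ := QuotientGroup.mk_surjective h
  rcases Cfsg.Agent.Helper13.PSL2Spec.pow_cases (params_odd p hp) X with h1 | h1 | h1
  · left
    rw [hh h1, orderOf_one]
    exact one_dvd _
  · right; exact orderOf_dvd_of_pow_eq_one h1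
  · left; exact orderOf_dvd_of_pow_eq_one h1

theorem pow_eq_one_of_not_dvd (p : ℕ) [Fact p.Prime] (H : Subgroup PF)
    (hH : ¬ p ∣ Nat.card H) : ∀ h ∈ H, h ^ p = 1 → h = 1 := by
  intro h hh hp1
  have h1 : orderOf h ∣ p := orderOf_dvd_of_pow_eq_one hp1
  rcases (Nat.dvd_prime Fact.out).mp h1 with h2 | h2
  · exact orderOf_eq_one_iff.mp h2
  · exfalso
    apply hH
    rw [← h2, ← Subgroup.orderOf_mk h hh]
    exact orderOf_dvd_natCard _

/-- **Dickson, `p′`-part.** -/
theorem pprime_dickson (p : ℕ) [Fact p.Prime] [CharP F p] (hp : p ≠ 2) (H : Subgroup PF)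
    (hH : ¬ p ∣ Nat.card H) :
    (∃ k : ℕ, (k ∣ (Fintype.card F + 1) / 2 ∨ k ∣ (Fintype.card F - 1) / 2) ∧
      ((IsCyclic H ∧ Nat.card H = k) ∨ Nonempty (H ≃* DihedralGroup k))) ∨
    Nonempty (H ≃* alternatingGroup (Fin 4)) ∨ Nonempty (H ≃* Equiv.Perm (Fin 4)) ∨
    Nonempty (H ≃* alternatingGroup (Fin 5)) := by
  classical
  have hH' := pow_eq_one_of_not_dvd p H hH
  let E := FiniteField.Extension F p 2
  let ι : F →+* E := algebraMap F E
  have hroot : ∀ t : F, ∃ μ : E, μ ^ 2 - ι t * μ + 1 = 0 := fun t =>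
    exists_root_quadratic_ext p t
  letI := subAction ι H
  have h2 := twoFix_subAction p hp ι hroot H hH'
  have hc := isCyclic_stabilizer_subAction p hp ι H hH'
  rcases Klein.klein_main h2 hc with h | ⟨x, hx, hd⟩ | h | h | h
  · left
    obtain ⟨g, hg⟩ := h.exists_generator
    have hord : orderOf g = Nat.card H := orderOf_eq_card_of_forall_mem_zpowers hg
    refine ⟨Nat.card H, ?_, Or.inl ⟨h, rfl⟩⟩
    rw [← hord, ← Subgroup.orderOf_coe]
    exact orderOf_dvd_of_pprime p hp _ (hH' _ g.2)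
  · left
    refine ⟨Nat.card (MulAction.stabilizer H x), ?_, Or.inr hd⟩
    obtain ⟨g, hg⟩ := (hc x).exists_generator
    have hord : orderOf g = Nat.card (MulAction.stabilizer H x) :=
      orderOf_eq_card_of_forall_mem_zpowers hg
    rw [← hord, ← Subgroup.orderOf_coe, ← Subgroup.orderOf_coe]
    exact orderOf_dvd_of_pprime p hp _ (hH' _ (g : H).2)
  · exact Or.inr (Or.inl h)
  · exact Or.inr (Or.inr (Or.inl h))
  · exact Or.inr (Or.inr (Or.inr h))

end Cfsg.Agent.Helper18.Dickson
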