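import Cfsg.Agent.Helper18.Dickson44
import Cfsg.Agent.Helper18.Dickson42
import Cfsg.Agent.Helper18.Dickson35
import Cfsg.Agent.Helper18.DicksonK2

/-! Dickson-type counting, part 45: the full list of subgroups of `PSL₂(q)`, `q` odd. -/

set_option autoImplicit false

namespace Cfsg.Agent.Helper18.Dickson

variable {F : Type*} [Field F]

local notation "SF" => Matrix.SpecialLinearGroup (Fin 2) F
local notation "MF" => Matrix (Fin 2) (Fin 2) F
local notation "PF" => Matrix.ProjectiveSpecialLinearGroup (Fin 2) F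
local notation "π" => QuotientGroup.mk' (Subgroup.center SF)

/-- **Dickson's list**, odd characteristic. -/
theorem dickson_odd [Fintype F] (p : ℕ) [Fact p.Prime] [CharP F p] (hp : p ≠ 2)
    (H : Subgroup PF) :
    (∃ k : ℕ, (k ∣ (Fintype.card F + 1) / 2 ∨ k ∣ (Fintype.card F - 1) / 2) ∧
      ((IsCyclic H ∧ Nat.card H = k) ∨ Nonempty (H ≃* DihedralGroup k))) ∨
    (∃ (P : Sylow p PF) (K : Subgroup PF),
      K ≤ Subgroup.normalizer ((P : Subgroup PF) : Set PF) ∧ Nonempty (H ≃* K)) ∨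
    Nonempty (H ≃* alternatingGroup (Fin 4)) ∨ Nonempty (H ≃* Equiv.Perm (Fin 4)) ∨
    Nonempty (H ≃* alternatingGroup (Fin 5)) ∨
    (∃ (K : Type) (_ : Field K) (_ : Fintype K) (m : ℕ), Fintype.card K ^ m = Fintype.card F ∧
      (Nonempty (H ≃* Matrix.ProjectiveSpecialLinearGroup (Fin 2) K) ∨
        Nonempty (H ≃* Matrix.ProjGenLinGroup (Fin 2) K))) := by
  classical
  by_cases hpH : p ∣ Nat.card H
  · have h2 : (2 : F) ≠ 0 := two_ne_zero_of_char (E := F) p hp
    have hcard : Nat.card (H.comap π) = 2 * Nat.card H := card_comap_mk h2 H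
    have hpHh : p ∣ Nat.card (H.comap π) := by rw [hcard]; exact dvd_mul_of_dvd_right hpH 2
    have hpos : 0 < Nat.card (Sylow p (H.comap π)) := Nat.card_pos
    rcases Nat.eq_or_lt_of_le (Nat.succ_le_of_lt hpos) with h1 | h1
    · obtain ⟨g0, hg0⟩ := struct_one_sylow p (H.comap π) h1.symm hpHh
      exact Or.inr (Or.inl (borel_case p H g0 hg0))
    · obtain ⟨ε, hl, hu, -⟩ := struct_two_sylow p hp (H.comap π) h1
      rcases two_sylow_cases p hp H h1 with ⟨K, s, hs, -, -, hK⟩ | ⟨h3, h60⟩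
      · rcases hK with ⟨-, ⟨e⟩⟩ | ⟨-, hev, ⟨e⟩⟩
        · exact Or.inr (Or.inr (Or.inr (Or.inr (Or.inr (slk_case p K s hs H e)))))
        · exact Or.inr (Or.inr (Or.inr (Or.inr (Or.inr (nk_case p hp K s hev hs H e)))))
      · subst h3
        exact Or.inr (Or.inr (Or.inr (Or.inr (Or.inl (exc_A5 H h60 ε hl hu)))))
  · rcases pprime_dickson p hp H hpH with h | h | h | h
    · exact Or.inl h
    · exact Or.inr (Or.inr (Or.inl h))
    · exact Or.inr (Or.inr (Or.inr (Or.inl h)))
    · exact Or.inr (Or.inr (Or.inr (Or.inr (Or.inl h))))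

end Cfsg.Agent.Helper18.Dickson
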