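import Cfsg.Agent.Helper18.MinSimple3

/-! Minimal simple `PSL₂(q)`: arithmetic and assembly lemmas. -/

set_option autoImplicit false

namespace Cfsg.Agent.Helper18.MinSimple

open Cfsg.Agent.Helper18.Dickson

variable {F : Type*} [Field F]

local notation "SF" => Matrix.SpecialLinearGroup (Fin 2) F
local notation "MF" => Matrix (Fin 2) (Fin 2) F
local notation "PF" => Matrix.ProjectiveSpecialLinearGroup (Fin 2) F

theorem not_dvd_prod {q : ℕ} (hq : 1 ≤ q) (h : q % 5 = 2 ∨ q % 5 = 3) :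
    ¬ 5 ∣ (q + 1) * ((q - 1) * q) := by
  obtain ⟨m, rfl⟩ : ∃ m, q = m + 1 := ⟨q - 1, by omega⟩
  have hprod : (m + 1 + 1) * ((m + 1 - 1) * (m + 1)) = (m + 2) * (m * (m + 1)) := by simp
  rw [hprod, Nat.dvd_iff_mod_eq_zero]
  have hm5 : m % 5 = 1 ∨ m % 5 = 2 := by omega
  rcases hm5 with h | h <;>
  · rw [Nat.mul_mod, Nat.mul_mod m, Nat.add_mod m 2, Nat.add_mod m 1, h]; norm_num

theorem dvd_of_sq_mod {q : ℕ} (hq : 1 ≤ q) (h : q ^ 2 % 5 = 1) : 5 ∣ q * (q ^ 2 - 1) := by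
  apply dvd_mul_of_dvd_right
  have : 1 ≤ q ^ 2 := Nat.one_le_pow _ _ hq
  omega

theorem mod_of_sq_mod {q : ℕ} (h : q ^ 2 % 5 = 4) : q % 5 = 2 ∨ q % 5 = 3 := by
  rw [Nat.pow_mod] at h
  have h5 : q % 5 < 5 := Nat.mod_lt _ (by norm_num)
  interval_cases hq : q % 5 <;> simp_all

/-- `3 ^ r` with `r` odd is `±2` mod `5` -/
theorem three_pow_odd_mod {r : ℕ} (hr : Odd r) : 3 ^ r % 5 = 2 ∨ 3 ^ r % 5 = 3 := by
  apply mod_of_sq_mod
  obtain ⟨j, rfl⟩ := hr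
  have : (3 ^ (2 * j + 1)) ^ 2 = 81 ^ j * 9 := by
    rw [← pow_mul]
    have : (2 * j + 1) * 2 = 4 * j + 2 := by ring
    rw [this, pow_add, pow_mul]
    norm_num
  rw [this, Nat.mul_mod, Nat.pow_mod]
  norm_num

/-- `3 ^ n` with `n` even has square `1` mod `5` -/
theorem three_pow_even_mod {n : ℕ} (hn : Even n) : (3 ^ n) ^ 2 % 5 = 1 := by
  obtain ⟨j, rfl⟩ := hn
  have : (3 ^ (j + j)) ^ 2 = 81 ^ j := by
    rw [← pow_mul]
    have : (j + j) * 2 = 4 * j := by ring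
    rw [this, pow_mul]
    norm_num
  rw [this, Nat.pow_mod]
  norm_num

/-- subfields of a field of order `3 ^ r`, `r` an odd prime -/
theorem subfield_three_pow [Fintype F] {r : ℕ} (hr : r.Prime) (hr2 : r ≠ 2)
    (hF : Fintype.card F = 3 ^ r) (K : Subfield F) (s : ℕ)
    (hs : Fintype.card F = Nat.card K ^ s) (hs1 : 1 ≤ s) :
    K = ⊤ ∨ (Nat.card K = 3 ∧ Odd s) := by
  have hkd : Nat.card K ∣ 3 ^ r := by
    rw [← hF, hs]
    exact dvd_pow_self _ (by omega)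
  obtain ⟨j, hj, hkj⟩ := (Nat.dvd_prime_pow Nat.prime_three).1 hkd
  rw [hkj, ← pow_mul, hF] at hs
  have hjs : r = j * s := Nat.pow_right_injective (le_refl 2 |>.trans (by norm_num)) hs
  rcases (Nat.dvd_prime hr).1 ⟨s, hjs⟩ with h1 | h1
  · right
    refine ⟨by rw [hkj, h1, pow_one], ?_⟩
    rw [h1, one_mul] at hjs
    rw [← hjs]
    exact hr.odd_of_ne_two hr2
  · left
    apply Cfsg.Agent.Helper11.FinSub.eq_top_of_card_eq
    rw [hkj, h1, hF]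

end Cfsg.Agent.Helper18.MinSimple
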