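import Mathlib
import Cfsg.Agent.Helper14.S2481.Defs

set_option autoImplicit false
set_option linter.unusedVariables false

/-! S2481 (driver helper14), piece TILDE: basic properties of the dual polynomial. -/

namespace Cfsg.Agent.S2481P

open Polynomial DirectSum Matrix Cfsg.Agent.S2478P Cfsg.Agent.S2479P

section tilde

variable {F : Type*} [Field F] {σ : F →+* F}

namespace TILDE

theorem sigma_ne_zero (σ : F →+* F) {a : F} (ha : a ≠ 0) : σ a ≠ 0 :=
  (map_ne_zero σ).mpr ha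

theorem map_coeff_zero_ne (σ : F →+* F) {f : F[X]} (hf : f.coeff 0 ≠ 0) :
    (f.map σ).coeff 0 ≠ 0 := by
  rw [coeff_map]
  exact sigma_ne_zero σ hf

theorem natDegree_map' (σ : F →+* F) (f : F[X]) : (f.map σ).natDegree = f.natDegree :=
  natDegree_map_eq_of_injective σ.injective f

theorem ne_zero_of_coeff {f : F[X]} (hf : f.coeff 0 ≠ 0) : f ≠ 0 := by
  rintro rfl
  simp at hf

theorem tilde_coeff_zero_ne (σ : F →+* F) {f : F[X]} (hf : f.coeff 0 ≠ 0) :
    (tilde σ f).coeff 0 ≠ 0 := by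
  unfold tilde
  rw [coeff_C_mul, coeff_zero_reverse]
  refine mul_ne_zero (inv_ne_zero (sigma_ne_zero σ hf)) ?_
  rw [leadingCoeff_ne_zero]
  exact ne_zero_of_coeff (map_coeff_zero_ne σ hf)

end TILDE

open TILDE

theorem tilde_one (σ : F →+* F) : tilde σ (1 : F[X]) = 1 := by
  unfold tilde
  rw [Polynomial.map_one, coeff_one_zero, map_one, inv_one, C_1, one_mul]
  rw [← C_1, reverse_C]

theorem tilde_mul (σ : F →+* F) {f g : F[X]} (hf : f.coeff 0 ≠ 0) (hg : g.coeff 0 ≠ 0) :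
    tilde σ (f * g) = tilde σ f * tilde σ g := by
  unfold tilde
  rw [Polynomial.map_mul, reverse_mul_of_domain, mul_coeff_zero, map_mul, mul_inv, C_mul]
  ring

theorem tilde_natDegree (σ : F →+* F) {f : F[X]} (hf : f.coeff 0 ≠ 0) :
    (tilde σ f).natDegree = f.natDegree := by
  unfold tilde
  rw [natDegree_C_mul (inv_ne_zero (sigma_ne_zero σ hf)), reverse_natDegree,
    natTrailingDegree_eq_zero.mpr (Or.inr (map_coeff_zero_ne σ hf)), Nat.sub_zero, natDegree_map']

theorem tilde_monic (σ : F →+* F) {f : F[X]} (hf : f.coeff 0 ≠ 0) : (tilde σ f).Monic := by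
  unfold tilde Monic
  rw [leadingCoeff_mul, leadingCoeff_C, reverse_leadingCoeff,
    trailingCoeff_eq_coeff_zero (map_coeff_zero_ne σ hf), coeff_map]
  exact inv_mul_cancel₀ (sigma_ne_zero σ hf)

theorem tilde_coeff (σ : F →+* F) {f : F[X]} (hf : f.coeff 0 ≠ 0) {i : ℕ} (hi : i ≤ f.natDegree) :
    (tilde σ f).coeff i = (σ (f.coeff 0))⁻¹ * σ (f.coeff (f.natDegree - i)) := by
  unfold tilde
  rw [coeff_C_mul, coeff_reverse, natDegree_map', revAt_le hi, coeff_map]

theorem tilde_coeff_zero (σ : F →+* F) {f : F[X]} (hfm : f.Monic) (hf : f.coeff 0 ≠ 0) :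
    (tilde σ f).coeff 0 = (σ (f.coeff 0))⁻¹ := by
  rw [tilde_coeff σ hf (Nat.zero_le _), Nat.sub_zero]
  have : f.coeff f.natDegree = 1 := hfm
  rw [this, map_one, mul_one]

theorem tilde_tilde (hσ : IsInvol σ) {f : F[X]} (hfm : f.Monic) (hf : f.coeff 0 ≠ 0) :
    tilde σ (tilde σ f) = f := by
  have h0 := tilde_coeff_zero_ne σ hf
  have hd := tilde_natDegree σ hf
  have hdd := tilde_natDegree σ h0
  ext i
  by_cases hi : i ≤ f.natDegree
  · rw [tilde_coeff σ h0 (by rw [hd]; exact hi), hd,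
      tilde_coeff σ hf (Nat.sub_le _ _), tilde_coeff_zero σ hfm hf,
      Nat.sub_sub_self hi, map_mul, map_inv₀, hσ.sq, hσ.sq, inv_inv,
      mul_inv_cancel_left₀ hf]
  · have hi' : f.natDegree < i := not_le.mp hi
    rw [coeff_eq_zero_of_natDegree_lt (by rw [hdd, hd]; exact hi'),
      coeff_eq_zero_of_natDegree_lt hi']

theorem tilde_irreducible (hσ : IsInvol σ) {f : F[X]} (hfm : f.Monic) (hf : f.coeff 0 ≠ 0)
    (hfi : Irreducible f) : Irreducible (tilde σ f) := by
  have h0 := tilde_coeff_zero_ne σ hf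
  have hd := tilde_natDegree σ hf
  have hpos : 0 < f.natDegree := hfi.natDegree_pos
  refine ⟨fun hu => ?_, fun a b hab => ?_⟩
  · have := natDegree_eq_zero_of_isUnit hu
    omega
  · have hab0 : a.coeff 0 * b.coeff 0 ≠ 0 := by
      rw [← mul_coeff_zero, ← hab]
      exact h0
    have ha0 : a.coeff 0 ≠ 0 := left_ne_zero_of_mul hab0
    have hb0 : b.coeff 0 ≠ 0 := right_ne_zero_of_mul hab0
    have hf' : f = tilde σ a * tilde σ b := by
      rw [← tilde_mul σ ha0 hb0, ← hab, tilde_tilde hσ hfm hf]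
    rcases hfi.isUnit_or_isUnit hf' with hu | hu
    · left
      have h1 := natDegree_eq_zero_of_isUnit hu
      rw [tilde_natDegree σ ha0] at h1
      rw [eq_C_of_natDegree_eq_zero h1]
      exact isUnit_C.mpr (IsUnit.mk0 _ ha0)
    · right
      have h1 := natDegree_eq_zero_of_isUnit hu
      rw [tilde_natDegree σ hb0] at h1
      rw [eq_C_of_natDegree_eq_zero h1]
      exact isUnit_C.mpr (IsUnit.mk0 _ hb0)

/-- a self dual polynomial has a constant term of norm one -/
theorem coeff_zero_of_tilde_eq (σ : F →+* F) {f : F[X]} (hfm : f.Monic) (hf : f.coeff 0 ≠ 0)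
    (h : tilde σ f = f) : f.coeff 0 * σ (f.coeff 0) = 1 := by
  have h1 := tilde_coeff_zero σ hfm hf
  rw [h] at h1
  calc f.coeff 0 * σ (f.coeff 0) = (σ (f.coeff 0))⁻¹ * σ (f.coeff 0) := by rw [← h1]
    _ = 1 := inv_mul_cancel₀ (sigma_ne_zero σ hf)

/-- `tilde` and division: if `f = g * h` with `f`, `g` self dual then `h` is self dual -/
theorem tilde_of_mul_eq (σ : F →+* F) {f g h : F[X]} (hf : f.coeff 0 ≠ 0) (hfgh : f = g * h)
    (hft : tilde σ f = f) (hgt : tilde σ g = g) : tilde σ h = h := by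
  have hgh0 : g.coeff 0 * h.coeff 0 ≠ 0 := by
    rw [← mul_coeff_zero, ← hfgh]
    exact hf
  have hg0 : g.coeff 0 ≠ 0 := left_ne_zero_of_mul hgh0
  have hh0 : h.coeff 0 ≠ 0 := right_ne_zero_of_mul hgh0
  have h1 : g * tilde σ h = g * h := by
    rw [← hfgh]
    nth_rewrite 1 [← hgt]
    rw [← tilde_mul σ hg0 hh0, ← hfgh, hft]
  exact mul_left_cancel₀ (ne_zero_of_coeff hg0) h1

end tilde

end Cfsg.Agent.S2481P
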