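import Mathlib
import Cfsg.Agent.Helper14.S2481.Defs
import Cfsg.Agent.Helper14.S2481.DefsM
import Cfsg.Agent.Helper18.S2481TILDE

set_option autoImplicit false
set_option linter.unusedVariables false

/-! S2481 (driver helper14), piece SIGEX: the semilinear isomorphism
`F[X]/(tilde f) → F[X]/(f)`, `X ↦ X⁻¹`. -/

namespace Cfsg.Agent.S2481P

open Polynomial DirectSum Matrix Cfsg.Agent.S2478P Cfsg.Agent.S2479P

universe u

variable {F : Type u} [Field F] {σ : F →+* F}

namespace SIGEX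

/-- the inverse of the root -/
noncomputable def rinv (f : F[X]) : AdjoinRoot f :=
  AdjoinRoot.mk f (-(C (f.coeff 0)⁻¹) * divX f)

theorem root_mul_rinv {f : F[X]} (hf0 : f.coeff 0 ≠ 0) : AdjoinRoot.root f * rinv f = 1 := by
  unfold rinv
  rw [← AdjoinRoot.mk_X, ← map_mul]
  have h := X_mul_divX_add f
  have e : X * (-(C (f.coeff 0)⁻¹) * divX f) = 1 - C (f.coeff 0)⁻¹ * f := by
    have h1 : X * divX f = f - C (f.coeff 0) := by rw [eq_sub_iff_add_eq]; exact h
    calc X * (-(C (f.coeff 0)⁻¹) * divX f) = -(C (f.coeff 0)⁻¹) * (X * divX f) := by ring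
      _ = -(C (f.coeff 0)⁻¹) * (f - C (f.coeff 0)) := by rw [h1]
      _ = C (f.coeff 0)⁻¹ * C (f.coeff 0) - C (f.coeff 0)⁻¹ * f := by ring
      _ = 1 - C (f.coeff 0)⁻¹ * f := by rw [← C_mul, inv_mul_cancel₀ hf0, C_1]
  rw [e, map_sub, map_one, map_mul, AdjoinRoot.mk_self, mul_zero, sub_zero]

theorem reverse_map_eq (σ : F →+* F) (p : F[X]) : (p.map σ).reverse = p.reverse.map σ := by
  ext n
  rw [coeff_reverse, coeff_map, coeff_map, coeff_reverse,
    natDegree_map_eq_of_injective σ.injective]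

theorem eval_tilde (hσ : IsInvol σ) {f : F[X]} (hf0 : f.coeff 0 ≠ 0) :
    eval₂ ((AdjoinRoot.of f).comp σ) (rinv f) (tilde σ f) = 0 := by
  unfold tilde
  rw [eval₂_mul, eval₂_C, reverse_map_eq, eval₂_map]
  have hcomp : ((AdjoinRoot.of f).comp σ).comp σ = AdjoinRoot.of f := by
    ext c
    simp [hσ.sq]
  rw [hcomp]
  letI : Invertible (AdjoinRoot.root f) :=
    ⟨rinv f, by rw [mul_comm]; exact root_mul_rinv hf0, root_mul_rinv hf0⟩
  have h := eval₂_reverse_mul_pow (AdjoinRoot.of f) (AdjoinRoot.root f) f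
  rw [AdjoinRoot.eval₂_root] at h
  have hu : IsUnit (AdjoinRoot.root f ^ f.natDegree) := (isUnit_of_invertible _).pow _
  have h2 : eval₂ (AdjoinRoot.of f) (rinv f) f.reverse = 0 := (hu.mul_left_eq_zero).mp h
  rw [h2, mul_zero]

/-- the semilinear homomorphism, for `f' = tilde σ f` -/
theorem exists_hom (hσ : IsInvol σ) {f f' : F[X]} (hf0 : f.coeff 0 ≠ 0) (hf' : tilde σ f = f') :
    ∃ S : AdjoinRoot f' →+* AdjoinRoot f,
      (∀ c : F, S (AdjoinRoot.of f' c) = AdjoinRoot.of f (σ c)) ∧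
      S (AdjoinRoot.root f') * AdjoinRoot.root f = 1 := by
  subst hf'
  refine ⟨AdjoinRoot.lift ((AdjoinRoot.of f).comp σ) (rinv f) (eval_tilde hσ hf0), ?_, ?_⟩
  · intro c
    rw [AdjoinRoot.lift_of]
    rfl
  · rw [AdjoinRoot.lift_root, mul_comm]
    exact root_mul_rinv hf0

/-- a ring endomorphism of `F[X]/(f)` fixing the constants and the root is the identity -/
theorem eq_self_of {f : F[X]} (T : AdjoinRoot f →+* AdjoinRoot f)
    (h1 : ∀ c : F, T (AdjoinRoot.of f c) = AdjoinRoot.of f c)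
    (h2 : T (AdjoinRoot.root f) = AdjoinRoot.root f) (a : AdjoinRoot f) : T a = a := by
  obtain ⟨p, rfl⟩ := AdjoinRoot.mk_surjective a
  rw [← AdjoinRoot.aeval_eq, aeval_def, hom_eval₂, h2, AdjoinRoot.algebraMap_eq]
  congr 1
  ext c
  exact h1 c

/-- the composite of two semilinear homomorphisms inverting the root is the identity -/
theorem comp_eq_self (hσ : IsInvol σ) {f f' : F[X]} (S : AdjoinRoot f' →+* AdjoinRoot f)
    (S' : AdjoinRoot f →+* AdjoinRoot f')
    (hS1 : ∀ c : F, S (AdjoinRoot.of f' c) = AdjoinRoot.of f (σ c))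
    (hS2 : S (AdjoinRoot.root f') * AdjoinRoot.root f = 1)
    (hS1' : ∀ c : F, S' (AdjoinRoot.of f c) = AdjoinRoot.of f' (σ c))
    (hS2' : S' (AdjoinRoot.root f) * AdjoinRoot.root f' = 1) (a : AdjoinRoot f) :
    S (S' a) = a := by
  refine eq_self_of (S.comp S') (fun c => ?_) ?_ a
  · rw [RingHom.comp_apply, hS1', hS1, hσ.sq]
  · rw [RingHom.comp_apply]
    have h3 : S (S' (AdjoinRoot.root f)) * S (AdjoinRoot.root f') = 1 := by
      rw [← map_mul, hS2', map_one]
    calc S (S' (AdjoinRoot.root f))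
        = S (S' (AdjoinRoot.root f)) * (S (AdjoinRoot.root f') * AdjoinRoot.root f) := by
          rw [hS2, mul_one]
      _ = (S (S' (AdjoinRoot.root f)) * S (AdjoinRoot.root f')) * AdjoinRoot.root f := by
          rw [mul_assoc]
      _ = AdjoinRoot.root f := by rw [h3, one_mul]

end SIGEX

theorem exists_sig (hσ : IsInvol σ) {f f' : F[X]} (hfm : f.Monic) (hf0 : f.coeff 0 ≠ 0)
    (hf' : tilde σ f = f') :
    ∃ S : AdjoinRoot f' →+* AdjoinRoot f, (∀ c : F, S (AdjoinRoot.of f' c) = AdjoinRoot.of f (σ c)) ∧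
      S (AdjoinRoot.root f') * AdjoinRoot.root f = 1 ∧ Function.Bijective S := by
  obtain ⟨S, hS1, hS2⟩ := SIGEX.exists_hom hσ hf0 hf'
  have hf0' : f'.coeff 0 ≠ 0 := by
    rw [← hf']
    exact TILDE.tilde_coeff_zero_ne σ hf0
  have hff : tilde σ f' = f := by
    rw [← hf']
    exact tilde_tilde hσ hfm hf0
  obtain ⟨S', hS1', hS2'⟩ := SIGEX.exists_hom hσ hf0' hff
  refine ⟨S, hS1, hS2, ?_⟩
  have hl : Function.LeftInverse S S' := SIGEX.comp_eq_self hσ S S' hS1 hS2 hS1' hS2'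
  have hr : Function.RightInverse S S' := SIGEX.comp_eq_self hσ S' S hS1' hS2' hS1 hS2
  exact ⟨hr.injective, hl.surjective⟩

theorem sig_involutive (hσ : IsInvol σ) {f : F[X]} (S : AdjoinRoot f →+* AdjoinRoot f)
    (hS1 : ∀ c : F, S (AdjoinRoot.of f c) = AdjoinRoot.of f (σ c))
    (hS2 : S (AdjoinRoot.root f) * AdjoinRoot.root f = 1) (a : AdjoinRoot f) : S (S a) = a :=
  SIGEX.comp_eq_self hσ S S hS1 hS2 hS1 hS2 a

end Cfsg.Agent.S2481P
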