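import Mathlib
import Cfsg.Prelude.Def_Classical
import Cfsg.Agent.Helper13.S2511Defs
import Cfsg.Agent.Helper23.S2263UPFACTS
import Cfsg.Agent.S2495

/-! S2511 piece ARITHGS (helper18): `gs (q^2) d = wq q d * gs q d` (`d` odd), `gs q d ≡ 1 (mod q+1)`
(`d` odd), `wq q (2d) = gs (q^2) d * (q - 1)`. -/

set_option autoImplicit false

namespace Cfsg.Agent.S2511P

open Cfsg.Agent.S2263P

namespace ARITHGS

theorem gs_succ (q n : ℕ) : Cfsg.Agent.S2495.gs q (n + 1) = Cfsg.Agent.S2495.gs q n + q ^ n := by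
  unfold Cfsg.Agent.S2495.gs
  rw [Finset.sum_range_succ]

theorem gs_zero (q : ℕ) : Cfsg.Agent.S2495.gs q 0 = 0 := by
  unfold Cfsg.Agent.S2495.gs
  simp

theorem gs_two_mul_succ_mod (q k : ℕ) :
    Cfsg.Agent.S2495.gs q (2 * k + 1) % (q + 1) = 1 % (q + 1) := by
  induction k with
  | zero =>
    rw [Nat.mul_zero, Nat.zero_add, gs_succ, gs_zero, pow_zero, Nat.zero_add]
  | succ k ih =>
    have h : 2 * (k + 1) + 1 = (2 * k + 1) + 1 + 1 := by ring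
    rw [h, gs_succ, gs_succ]
    have h2 : Cfsg.Agent.S2495.gs q (2 * k + 1) + q ^ (2 * k + 1) + q ^ (2 * k + 1 + 1) =
        Cfsg.Agent.S2495.gs q (2 * k + 1) + q ^ (2 * k + 1) * (q + 1) := by ring
    rw [h2, Nat.add_mul_mod_self_right, ih]

end ARITHGS

/-- ARITHGS (S-M) -/
theorem gs_sq_eq {q : ℕ} (hq : 2 ≤ q) (d : ℕ) (hd : Odd d) :
    Cfsg.Agent.S2495.gs (q ^ 2) d = wq q d * Cfsg.Agent.S2495.gs q d := by
  have h1 := Cfsg.Agent.S2495.gs_mul (q ^ 2) d (Nat.one_le_pow _ _ (by omega))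
  have h2 := Cfsg.Agent.S2495.gs_mul q d (by omega)
  have h3 := wq_mul hq d
  rw [if_neg (Nat.not_even_iff_odd.mpr hd)] at h3
  have hqd : 1 ≤ q ^ d := Nat.one_le_pow _ _ (by omega)
  have hq2 : 1 ≤ q ^ 2 := Nat.one_le_pow _ _ (by omega)
  have hqq : (q ^ 2) ^ d = q ^ d * q ^ d := by rw [← pow_mul, mul_comm, pow_mul, sq]
  have hq21 : q ^ 2 - 1 = (q - 1) * (q + 1) := by
    zify [hq2, (by omega : 1 ≤ q)]
    ring
  have hpos : 0 < q ^ 2 - 1 := by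
    rw [hq21]
    exact Nat.mul_pos (by omega) (by omega)
  apply Nat.eq_of_mul_eq_mul_left hpos
  rw [h1, hq21]
  have h4 : (q - 1) * (q + 1) * (wq q d * Cfsg.Agent.S2495.gs q d) =
      ((q + 1) * wq q d) * ((q - 1) * Cfsg.Agent.S2495.gs q d) := by ring
  rw [h4, h3, h2, hqq]
  zify [hqd, (by nlinarith : 1 ≤ q ^ d * q ^ d)]
  ring

/-- ARITHGS (S-M) -/
theorem gs_odd_mod (q d : ℕ) (hd : Odd d) : Cfsg.Agent.S2495.gs q d % (q + 1) = 1 % (q + 1) := by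
  obtain ⟨k, rfl⟩ := hd
  exact ARITHGS.gs_two_mul_succ_mod q k

/-- ARITHGS (S-M) -/
theorem wq_two_mul {q : ℕ} (hq : 2 ≤ q) (d : ℕ) (hd : 1 ≤ d) :
    wq q (2 * d) = Cfsg.Agent.S2495.gs (q ^ 2) d * (q - 1) := by
  have h1 := Cfsg.Agent.S2495.gs_mul (q ^ 2) d (Nat.one_le_pow _ _ (by omega))
  have h3 := wq_mul hq (2 * d)
  rw [if_pos (even_two_mul d)] at h3
  have hq2 : 1 ≤ q ^ 2 := Nat.one_le_pow _ _ (by omega)
  have hq21 : q ^ 2 - 1 = (q - 1) * (q + 1) := by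
    zify [hq2, (by omega : 1 ≤ q)]
    ring
  apply Nat.eq_of_mul_eq_mul_left (by omega : 0 < q + 1)
  rw [h3]
  have h4 : (q + 1) * (Cfsg.Agent.S2495.gs (q ^ 2) d * (q - 1)) =
      ((q - 1) * (q + 1)) * Cfsg.Agent.S2495.gs (q ^ 2) d := by ring
  rw [h4, ← hq21, h1, pow_mul]

end Cfsg.Agent.S2511P
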