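import Mathlib
import Cfsg.Prelude.Def_Classical
import Cfsg.Agent.Helper13.S2511Defs
import Cfsg.Agent.Helper23.S2263UPFACTS

/-! S2511 piece SUNUM (helper18): basic facts on `suNum q n = wq q n / gcd (wq q n) (q+1)`. -/

set_option autoImplicit false

namespace Cfsg.Agent.S2511P

open Cfsg.Agent.S2263P

/-- SUNUM (S) -/
theorem suNum_mul (q n : ℕ) : suNum q n * Nat.gcd (wq q n) (q + 1) = wq q n := by
  unfold suNum
  exact Nat.div_mul_cancel (Nat.gcd_dvd_left _ _)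

/-- SUNUM (S) -/
theorem suNum_pos {q n : ℕ} (hq : 2 ≤ q) (hn : 1 ≤ n) : 0 < suNum q n := by
  have h1 : 1 ≤ wq q n := wq_pos hq hn
  have h2 := suNum_mul q n
  by_contra hcon
  have h0 : suNum q n = 0 := by omega
  rw [h0, zero_mul] at h2
  omega

/-- SUNUM (S): `suNum ∣ wq ∣ q^n ∓ 1`. -/
theorem coprime_suNum {p q : ℕ} (hp : p.Prime) (a : ℕ) (ha : 1 ≤ a) (hq : q = p ^ a) (n : ℕ)
    (hn : 1 ≤ n) : Nat.Coprime p (suNum q n) := by
  have hq2 : 2 ≤ q := by
    rw [hq]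
    calc 2 ≤ p := hp.two_le
      _ = p ^ 1 := (pow_one p).symm
      _ ≤ p ^ a := Nat.pow_le_pow_right hp.pos ha
  rw [Nat.Prime.coprime_iff_not_dvd hp]
  intro hdvd
  have h1 : p ∣ wq q n := by
    rw [← suNum_mul q n]
    exact Dvd.dvd.mul_right hdvd _
  have h2 : p ∣ (q + 1) * wq q n := Dvd.dvd.mul_left h1 _
  have hpq : p ∣ q ^ n := by
    rw [hq, ← pow_mul]
    exact dvd_pow_self p (by
      have : 1 ≤ a * n := Nat.mul_pos (by omega) (by omega)
      omega)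
  have hqn : 1 ≤ q ^ n := Nat.one_le_pow _ _ (by omega)
  rw [wq_mul hq2 n] at h2
  have h3 : p ∣ 1 := by
    split_ifs at h2
    · have h4 : q ^ n - 1 + 1 = q ^ n := by omega
      have h5 : p ∣ q ^ n - 1 + 1 := by rw [h4]; exact hpq
      exact (Nat.dvd_add_right h2).mp h5
    · exact (Nat.dvd_add_right hpq).mp h2
  have := hp.two_le
  have := Nat.le_of_dvd (by omega) h3
  omega

end Cfsg.Agent.S2511P
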