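import Mathlib
import Cfsg.Agent.Helper13.S3000COVER
import Cfsg.Agent.Helper23.S3000ZPTcore

/-! S3000 board `s3000pieces`, row ZC: `ZC`, `SAMEPT`, `ZCEQ` (blueprint §4, PT2/PT3):
the intersection `Z₀ ∩ C_V(E)` of the pointed subgroup `Z₀ = Zpt … 1` with `C_V(E)` equals `Z₀ ∩ Zpt … e` for every `e ∈ E`
moving `A`; two packages over the same `A` based at `M` have the same point set, hence the same `Z₀ ∩ C`. -/

set_option autoImplicit false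

namespace Cfsg.Agent.S3000P

open Cfsg.Agent.S2789P Cfsg.Agent.S2999P
open scoped commutatorElement

variable {G : Type*} [Group G] [Finite G] {p : ℕ} [Fact p.Prime] {V P : Subgroup G} {T : Sylow p ↥P} {M : Subgroup ↥P} {q : ℕ}
variable {A E H : Subgroup G} {w : G}

omit [Finite G] in
/-- the pointed subgroups at two representatives of the same point coincide -/
theorem ZC_aux_Zpt_congr (P Mg J₂ V : Subgroup G) (z₀ : G) {x y : G} (h : x⁻¹ * y ∈ Mg) :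
    Zpt P Mg J₂ V z₀ x = Zpt P Mg J₂ V z₀ y := by
  unfold Zpt
  congr 1
  ext v
  constructor
  · rintro ⟨g, hg, hv, hfix, hm⟩
    refine ⟨g, hg, hv, hfix, ?_⟩
    have : g⁻¹ * y = (g⁻¹ * x) * (x⁻¹ * y) := by group
    rw [this]; exact Mg.mul_mem hm h
  · rintro ⟨g, hg, hv, hfix, hm⟩
    refine ⟨g, hg, hv, hfix, ?_⟩
    have : g⁻¹ * x = (g⁻¹ * y) * (x⁻¹ * y)⁻¹ := by group
    rw [this]; exact Mg.mul_mem hm (Mg.inv_mem h)

omit [Finite G] in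
/-- an element of `E ∩ M` normalises `A` (from `hgen`, `A ≤ M`, `E ≰ M`) -/
theorem ZC_aux_norm_of_mem {Mg : Subgroup G} (hgen : ∀ e ∈ E, cjs e A ≠ A → A ⊔ cjs e A = E) (hB : Based Mg A E)
    {e : G} (he : e ∈ E) (heM : e ∈ Mg) : cjs e A = A := by
  by_contra hne
  apply hB.hEM
  rw [← hgen e he hne]
  exact sup_le hB.hAM (cj_le_of_mem heM hB.hAM)

/-- the statement of row ZPT, from helper23's core + J2CENT + COVER (so that this file does not wait for the ZPT wrapper) -/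
theorem ZC_aux_ZPT (Hy : Hyp p V P T M) (hq : MinQ p V P q) (K : Tool p V P q A E H w) (hB : Based (MM M) A E)
    (hAT : A ≤ TT T) {z₀ : G} (hz₀ : z₀ ∈ fixV V (TT T)) (hzM : ∀ x ∈ P, x * z₀ = z₀ * x → x ∈ MM M)
    {e : G} (he : e ∈ E) :
    Zpt P (MM M) (JJ2 p V (TT T) q A) V z₀ e = cjs e (Zpt P (MM M) (JJ2 p V (TT T) q A) V z₀ 1) ∧
      Zpt P (MM M) (JJ2 p V (TT T) q A) V z₀ e ≤ fixV V (cjs e A) :=
  ZPT_aux_core K.hEP Hy.hPV (J2CENT Hy hq K hAT)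
    (fun _ hgP hfix => (COVER Hy hq K hB hAT hz₀ hzM hgP hfix).2) he

/-- ZC (M) -/
theorem ZC (Hy : Hyp p V P T M) (hq : MinQ p V P q) (K : Tool p V P q A E H w) (hB : Based (MM M) A E)
    (hAT : A ≤ TT T) {z₀ : G} (hz₀ : z₀ ∈ fixV V (TT T)) (hzM : ∀ x ∈ P, x * z₀ = z₀ * x → x ∈ MM M)
    {e : G} (he : e ∈ E) (hne : cjs e A ≠ A) :
    Zpt P (MM M) (JJ2 p V (TT T) q A) V z₀ 1 ⊓ fixV V E =
      Zpt P (MM M) (JJ2 p V (TT T) q A) V z₀ 1 ⊓ Zpt P (MM M) (JJ2 p V (TT T) q A) V z₀ e := by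
  obtain ⟨h1, h2⟩ := ZC_aux_ZPT Hy hq K hB hAT hz₀ hzM he
  obtain ⟨-, h4⟩ := ZC_aux_ZPT Hy hq K hB hAT hz₀ hzM E.one_mem
  rw [cj_one] at h4
  apply le_antisymm
  · intro x hx
    refine ⟨hx.1, ?_⟩
    rw [h1]
    have hxe : e * x * e⁻¹ = x := by
      have := (mem_fix.mp hx.2).2 e he
      rw [this]; group
    rw [← hxe]
    exact cj_mem_conj.mpr hx.1
  · intro x hx
    exact ⟨hx.1, K.hmeet e he hne ⟨h4 hx.1, h2 hx.2⟩⟩

variable {E' H' : Subgroup G} {w' : G}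

/-- SAMEPT (M) -/
theorem SAMEPT (Hy : Hyp p V P T M) (hq : MinQ p V P q) (K : Tool p V P q A E H w) (K' : Tool p V P q A E' H' w')
    (hB : Based (MM M) A E) (hB' : Based (MM M) A E') (hAT : A ≤ TT T) :
    ∀ e' ∈ E', ∃ e ∈ E, e⁻¹ * e' ∈ MM M := by
  intro e' he'
  obtain ⟨z₀, hz₀, hzM⟩ := PT1 Hy
  have hJ2T : JJ2 p V (TT T) q A ≤ TT T := sSup_le (fun D hD => hD.1.1)
  have hz2 : z₀ ∈ fixV V (JJ2 p V (TT T) q A) := fix_anti hJ2T hz₀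
  have he'P : e' ∈ P := K'.hEP he'
  have hv : e' * z₀ * e'⁻¹ ∈ fixV V (JJ2 p V (TT T) q A) := by
    rw [mem_fix]
    refine ⟨?_, ?_⟩
    · have hn := Hy.hPV he'P
      exact (Subgroup.mem_normalizer_iff.mp hn z₀).mp (fix_le _ _ hz2)
    · intro x hx
      have hc := J2CENT Hy hq K' hAT x hx e' he'
      have hxz := (mem_fix.mp hz2).2 x hx
      calc x * (e' * z₀ * e'⁻¹) = (x * e') * z₀ * e'⁻¹ := by group
        _ = (e' * x) * z₀ * e'⁻¹ := by rw [hc]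
        _ = e' * (x * z₀) * e'⁻¹ := by group
        _ = e' * (z₀ * x) * e'⁻¹ := by rw [hxz]
        _ = e' * z₀ * (e'⁻¹ * (e' * x)) * e'⁻¹ := by group
        _ = e' * z₀ * (e'⁻¹ * (x * e')) * e'⁻¹ := by rw [hc]
        _ = e' * z₀ * e'⁻¹ * x := by group
  obtain ⟨⟨e, he, hm⟩, -⟩ := COVER Hy hq K hB hAT hz₀ hzM he'P hv
  refine ⟨e, he, ?_⟩
  have : e⁻¹ * e' = (e'⁻¹ * e)⁻¹ := by group
  rw [this]; exact (MM M).inv_mem hm

/-- ZCEQ (M) -/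
theorem ZCEQ (Hy : Hyp p V P T M) (hq : MinQ p V P q) (K : Tool p V P q A E H w) (K' : Tool p V P q A E' H' w')
    (hB : Based (MM M) A E) (hB' : Based (MM M) A E') (hAT : A ≤ TT T)
    {z₀ : G} (hz₀ : z₀ ∈ fixV V (TT T)) (hzM : ∀ x ∈ P, x * z₀ = z₀ * x → x ∈ MM M) :
    Zpt P (MM M) (JJ2 p V (TT T) q A) V z₀ 1 ⊓ fixV V E =
      Zpt P (MM M) (JJ2 p V (TT T) q A) V z₀ 1 ⊓ fixV V E' := by
  obtain ⟨e, he, hm⟩ := SAMEPT Hy hq K K' hB hB' hAT w' K'.hwE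
  have hne : cjs e A ≠ A := by
    intro heq
    have heM : e ∈ MM M := hB.hN e he heq
    have hw'M : w' ∈ MM M := by
      have : w' = e * (e⁻¹ * w') := by group
      rw [this]; exact (MM M).mul_mem heM hm
    exact K'.hwA (ZC_aux_norm_of_mem K'.hgen hB' K'.hwE hw'M)
  rw [ZC Hy hq K hB hAT hz₀ hzM he hne, ZC Hy hq K' hB' hAT hz₀ hzM K'.hwE K'.hwA,
    ZC_aux_Zpt_congr P (MM M) (JJ2 p V (TT T) q A) V z₀ hm]

end Cfsg.Agent.S3000P
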