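import Mathlib
import Cfsg.Agent.Helper8.D1Base
import Cfsg.Agent.Helper1.D1PA

/-!
Piece (QO) of the defect-one cluster: orbits of `T` (with `C_G(P) ≤ T ≤ N_G(P)`) on the
non-trivial `p`-linear functions of `C_G(P)`.  Here the two facts (QL1), (QL2) about `p`-linear
functions are hypotheses.
-/

set_option autoImplicit false

open Cfsg Cfsg.Agent.Helper8.D1

namespace Cfsg.Agent.Helper18.D1QO

variable {G : Type*} [Group G]

/-- the non-trivial `p`-linear functions on `C_G(P)` -/
abbrev Lam (p : ℕ) (P : Subgroup G) : Type _ :=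
  {μ : ↥(Subgroup.centralizer (P : Set G)) → ℂ // IsPLin p μ ∧ ∃ x, μ x ≠ 1}

theorem kap_symm_one (P : Subgroup G) (h1 : (1 : G) ∈ Subgroup.normalizer (P : Set G))
    (c : ↥(Subgroup.centralizer (P : Set G))) : (kap P 1 h1).symm c = c := by
  apply Subtype.ext
  rw [coe_kap_symm]
  simp

theorem kap_symm_mul (P : Subgroup G) {n m : G} (hn : n ∈ Subgroup.normalizer (P : Set G))
    (hm : m ∈ Subgroup.normalizer (P : Set G)) (hnm : n * m ∈ Subgroup.normalizer (P : Set G))
    (c : ↥(Subgroup.centralizer (P : Set G))) :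
    (kap P (n * m) hnm).symm c = (kap P m hm).symm ((kap P n hn).symm c) := by
  apply Subtype.ext
  rw [coe_kap_symm, coe_kap_symm, coe_kap_symm]
  group

theorem kap_symm_inv (P : Subgroup G) {n : G} (hn : n ∈ Subgroup.normalizer (P : Set G))
    (hn' : n⁻¹ ∈ Subgroup.normalizer (P : Set G))
    (c : ↥(Subgroup.centralizer (P : Set G))) :
    (kap P n⁻¹ hn').symm c = kap P n hn c := by
  apply Subtype.ext
  rw [coe_kap_symm, coe_kap, inv_inv]

/-- the action of `T ≤ N_G(P)` on the non-trivial `p`-linear functions of `C_G(P)` -/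
@[reducible] noncomputable def mulAct (p : ℕ) (P T : Subgroup G)
    (hTN : T ≤ Subgroup.normalizer (P : Set G)) : MulAction T (Lam p P) where
  smul n μ := ⟨fun c => μ.1 ((kap P n (hTN n.2)).symm c),
    IsPLin.comp μ.2.1 (kap P n (hTN n.2)).symm, by
      obtain ⟨x, hx⟩ := μ.2.2
      refine ⟨kap P n (hTN n.2) x, ?_⟩
      show μ.1 ((kap P n (hTN n.2)).symm (kap P n (hTN n.2) x)) ≠ 1
      rw [MulEquiv.symm_apply_apply]
      exact hx⟩
  one_smul μ := by
    apply Subtype.ext
    funext c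
    show μ.1 ((kap P ((1 : T) : G) _).symm c) = μ.1 c
    exact congrArg μ.1 (kap_symm_one P _ c)
  mul_smul n m μ := by
    apply Subtype.ext
    funext c
    show μ.1 ((kap P ((n * m : T) : G) _).symm c) =
      μ.1 ((kap P (m : G) _).symm ((kap P (n : G) _).symm c))
    exact congrArg μ.1 (kap_symm_mul P (hTN n.2) (hTN m.2) _ c)

theorem smul_val (p : ℕ) (P T : Subgroup G) (hTN : T ≤ Subgroup.normalizer (P : Set G))
    (n : T) (μ : Lam p P) (c : ↥(Subgroup.centralizer (P : Set G))) :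
    (letI := mulAct p P T hTN; (n • μ : Lam p P)).1 c = μ.1 ((kap P n (hTN n.2)).symm c) := rfl

/-- the relation in the statement is the orbit relation -/
theorem mem_orbit_iff (p : ℕ) (P T : Subgroup G) (hTN : T ≤ Subgroup.normalizer (P : Set G))
    (μ ν : Lam p P) :
    (letI := mulAct p P T hTN; ν ∈ MulAction.orbit T μ) ↔
      ∃ (n : G) (hn : n ∈ Subgroup.normalizer (P : Set G)), n ∈ T ∧
        ν.1 = fun c => μ.1 (kap P n hn c) := by
  let _ := mulAct p P T hTN
  constructor
  · rintro ⟨t, rfl⟩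
    refine ⟨(t⁻¹ : T), hTN (t⁻¹).2, (t⁻¹).2, ?_⟩
    funext c
    rw [smul_val]
    apply congrArg μ.1
    apply Subtype.ext
    rw [coe_kap_symm, coe_kap]
    simp
  · rintro ⟨n, hn, hnT, h⟩
    refine ⟨(⟨n, hnT⟩ : T)⁻¹, ?_⟩
    apply Subtype.ext
    funext c
    rw [smul_val, h]
    exact congrArg μ.1 (kap_symm_inv P hn _ c)


section fin

variable [Finite G] {p : ℕ} [Fact p.Prime]

theorem exists_ne_one_mem (P : Sylow p G) (hP : Nat.card P = p) :
    ∃ u : G, u ∈ (P : Subgroup G) ∧ u ≠ 1 := by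
  have hp : p.Prime := Fact.out
  have h1 : 1 < Nat.card (P : Subgroup G) := by rw [hP]; exact hp.one_lt
  have : Nontrivial (P : Subgroup G) := (Finite.one_lt_card_iff_nontrivial).mp h1
  obtain ⟨u, hu⟩ := exists_ne (1 : (P : Subgroup G))
  refine ⟨u, u.2, ?_⟩
  intro h
  apply hu
  exact Subtype.ext h

theorem stabilizer_eq (P : Sylow p G) (hP : Nat.card P = p) (T : Subgroup G)
    (hTN : T ≤ Subgroup.normalizer ((P : Subgroup G) : Set G))
    (hQL2 : ∀ μ : ↥(Subgroup.centralizer ((P : Subgroup G) : Set G)) → ℂ, IsPLin p μ →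
      (∃ x, μ x ≠ 1) → ∀ u : ↥(Subgroup.centralizer ((P : Subgroup G) : Set G)),
        (u : G) ∈ (P : Subgroup G) → u ≠ 1 → μ u ≠ 1)
    (μ : Lam p (P : Subgroup G)) :
    (letI := mulAct p (P : Subgroup G) T hTN; MulAction.stabilizer T μ) =
      (Subgroup.centralizer ((P : Subgroup G) : Set G)).subgroupOf T := by
  let _ := mulAct p (P : Subgroup G) T hTN
  ext n
  rw [MulAction.mem_stabilizer_iff, Subgroup.mem_subgroupOf]
  constructor
  · intro h
    obtain ⟨u, hu, hu1⟩ := exists_ne_one_mem P hP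
    have huC : u ∈ Subgroup.centralizer ((P : Subgroup G) : Set G) :=
      Cfsg.Agent.Helper1.D1PA.le_centralizer P hP hu
    set uC : ↥(Subgroup.centralizer ((P : Subgroup G) : Set G)) := ⟨u, huC⟩ with huCdef
    set u' := (kap (P : Subgroup G) n (hTN n.2)).symm uC with hu'def
    have hval : μ.1 u' = μ.1 uC := by
      have := congrArg (fun ν : Lam p (P : Subgroup G) => ν.1 uC) h
      simpa [smul_val] using this
    have hu'P : (u' : G) ∈ (P : Subgroup G) := by
      rw [hu'def, coe_kap_symm]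
      have hn' : (n : G)⁻¹ ∈ Subgroup.normalizer ((P : Subgroup G) : Set G) :=
        Subgroup.inv_mem _ (hTN n.2)
      have := (Subgroup.mem_normalizer_iff.mp hn' u).mp hu
      simpa using this
    have hprod : μ.1 (u' * uC⁻¹) = 1 := by
      rw [μ.2.1.mul, μ.2.1.inv, hval]
      exact mul_inv_cancel₀ (μ.2.1.ne_zero _)
    have hmem : ((u' * uC⁻¹ : ↥(Subgroup.centralizer ((P : Subgroup G) : Set G))) : G) ∈
        (P : Subgroup G) := by
      rw [Subgroup.coe_mul, Subgroup.coe_inv]
      exact Subgroup.mul_mem _ hu'P (Subgroup.inv_mem _ hu)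
    have h1 : u' * uC⁻¹ = 1 := by
      by_contra hne
      exact hQL2 μ.1 μ.2.1 μ.2.2 _ hmem hne hprod
    have h2 : u' = uC := by
      rw [mul_inv_eq_one] at h1
      exact h1
    have h3 : (n : G)⁻¹ * u * ((n : G)⁻¹)⁻¹ = u := by
      have := congrArg (fun c : ↥(Subgroup.centralizer ((P : Subgroup G) : Set G)) => (c : G)) h2
      simp only [hu'def, coe_kap_symm, huCdef] at this
      rw [inv_inv]
      exact this
    have := Cfsg.Agent.Helper1.D1PA.mem_centralizer_of_fix P hP hu hu1 h3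
    simpa using Subgroup.inv_mem _ this
  · intro hn
    apply Subtype.ext
    funext c
    rw [smul_val]
    set nC : ↥(Subgroup.centralizer ((P : Subgroup G) : Set G)) := ⟨n, hn⟩ with hnC
    have : (kap (P : Subgroup G) n (hTN n.2)).symm c = nC⁻¹ * c * nC := by
      apply Subtype.ext
      rw [coe_kap_symm]
      simp [hnC]
    rw [this, μ.2.1.mul, μ.2.1.mul, μ.2.1.inv]
    field_simp [μ.2.1.ne_zero nC]

theorem ncard_orbit (P : Sylow p G) (hP : Nat.card P = p) (T : Subgroup G)
    (hTN : T ≤ Subgroup.normalizer ((P : Subgroup G) : Set G))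
    (hQL2 : ∀ μ : ↥(Subgroup.centralizer ((P : Subgroup G) : Set G)) → ℂ, IsPLin p μ →
      (∃ x, μ x ≠ 1) → ∀ u : ↥(Subgroup.centralizer ((P : Subgroup G) : Set G)),
        (u : G) ∈ (P : Subgroup G) → u ≠ 1 → μ u ≠ 1)
    (μ : Lam p (P : Subgroup G)) :
    (letI := mulAct p (P : Subgroup G) T hTN; (MulAction.orbit T μ).ncard) =
      (Subgroup.centralizer ((P : Subgroup G) : Set G)).relIndex T := by
  let _ := mulAct p (P : Subgroup G) T hTN
  rw [← MulAction.index_stabilizer, stabilizer_eq P hP T hTN hQL2 μ, Subgroup.relIndex]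


omit [Finite G] in
theorem finite_lam (P : Subgroup G)
    (hQL1 : Nat.card {μ : ↥(Subgroup.centralizer (P : Set G)) → ℂ // IsPLin p μ} = p) :
    Finite (Lam p P) := by
  have hp : p.Prime := Fact.out
  have : Finite {μ : ↥(Subgroup.centralizer (P : Set G)) → ℂ // IsPLin p μ} := by
    apply Nat.finite_of_card_ne_zero
    rw [hQL1]; exact hp.ne_zero
  exact Finite.of_injective
    (fun μ : Lam p P => (⟨μ.1, μ.2.1⟩ : {μ : ↥(Subgroup.centralizer (P : Set G)) → ℂ // IsPLin p μ}))
    (fun a b h => Subtype.ext (by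
      have := congrArg Subtype.val h
      exact this))

omit [Finite G] in
theorem card_lam (P : Subgroup G)
    (hQL1 : Nat.card {μ : ↥(Subgroup.centralizer (P : Set G)) → ℂ // IsPLin p μ} = p) :
    Nat.card (Lam p P) = p - 1 := by
  have hp : p.Prime := Fact.out
  set S : Set (↥(Subgroup.centralizer (P : Set G)) → ℂ) := {μ | IsPLin p μ} with hS
  have hSc : S.ncard = p := by
    rw [← Nat.card_coe_set_eq]; exact hQL1
  have hSf : S.Finite := by
    apply Set.finite_of_ncard_ne_zero
    rw [hSc]; exact hp.ne_zero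
  have h1 : (fun _ => (1 : ℂ)) ∈ S := isPLin_one p
  have h2 := Set.ncard_sdiff_singleton_of_mem h1
  rw [hSc] at h2
  rw [← h2, ← Nat.card_coe_set_eq]
  apply Nat.card_congr
  refine Equiv.subtypeEquivRight ?_
  intro μ
  rw [Set.mem_sdiff, Set.mem_singleton_iff, hS, Set.mem_ofPred_eq]
  constructor
  · rintro ⟨h, x, hx⟩
    refine ⟨h, fun h' => hx ?_⟩
    rw [h']
  · rintro ⟨h, h'⟩
    refine ⟨h, ?_⟩
    by_contra hne
    push Not at hne
    exact h' (funext hne)

theorem class_eq (P : Sylow p G) (hP : Nat.card P = p) (T : Subgroup G)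
    (hTN : T ≤ Subgroup.normalizer ((P : Subgroup G) : Set G))
    (hQL1 : Nat.card {μ : ↥(Subgroup.centralizer ((P : Subgroup G) : Set G)) → ℂ // IsPLin p μ} = p)
    (hQL2 : ∀ μ : ↥(Subgroup.centralizer ((P : Subgroup G) : Set G)) → ℂ, IsPLin p μ →
      (∃ x, μ x ≠ 1) → ∀ u : ↥(Subgroup.centralizer ((P : Subgroup G) : Set G)),
        (u : G) ∈ (P : Subgroup G) → u ≠ 1 → μ u ≠ 1) :
    (letI := mulAct p (P : Subgroup G) T hTN;
      Nat.card (MulAction.orbitRel.Quotient T (Lam p (P : Subgroup G)))) *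
      (Subgroup.centralizer ((P : Subgroup G) : Set G)).relIndex T = p - 1 := by
  let _ := mulAct p (P : Subgroup G) T hTN
  have hfin : Finite (Lam p (P : Subgroup G)) := finite_lam _ hQL1
  have : Fintype (MulAction.orbitRel.Quotient T (Lam p (P : Subgroup G))) := Fintype.ofFinite _
  rw [← card_lam (P : Subgroup G) hQL1,
    Nat.card_congr (MulAction.selfEquivSigmaOrbits T (Lam p (P : Subgroup G))), Nat.card_sigma]
  have : ∀ ω : MulAction.orbitRel.Quotient T (Lam p (P : Subgroup G)),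
      Nat.card (MulAction.orbit T ω.out) =
        (Subgroup.centralizer ((P : Subgroup G) : Set G)).relIndex T := by
    intro ω
    rw [Nat.card_coe_set_eq]
    exact ncard_orbit P hP T hTN hQL2 _
  rw [Finset.sum_congr rfl (fun ω _ => this ω), Finset.sum_const, Finset.card_univ, smul_eq_mul,
    Nat.card_eq_fintype_card]


theorem card_conj_set (P : Sylow p G) (hP : Nat.card P = p) (T : Subgroup G)
    (hTN : T ≤ Subgroup.normalizer ((P : Subgroup G) : Set G))
    (hQL2 : ∀ μ : ↥(Subgroup.centralizer ((P : Subgroup G) : Set G)) → ℂ, IsPLin p μ →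
      (∃ x, μ x ≠ 1) → ∀ u : ↥(Subgroup.centralizer ((P : Subgroup G) : Set G)),
        (u : G) ∈ (P : Subgroup G) → u ≠ 1 → μ u ≠ 1)
    (m : Lam p (P : Subgroup G)) :
    Nat.card {ν : ↥(Subgroup.centralizer ((P : Subgroup G) : Set G)) → ℂ //
      ∃ (n : G) (hn : n ∈ Subgroup.normalizer ((P : Subgroup G) : Set G)), n ∈ T ∧
        ν = fun c => m.1 (kap (P : Subgroup G) n hn c)} =
      (Subgroup.centralizer ((P : Subgroup G) : Set G)).relIndex T := by
  let _ := mulAct p (P : Subgroup G) T hTN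
  rw [← ncard_orbit P hP T hTN hQL2 m]
  have hset : {ν : ↥(Subgroup.centralizer ((P : Subgroup G) : Set G)) → ℂ |
      ∃ (n : G) (hn : n ∈ Subgroup.normalizer ((P : Subgroup G) : Set G)), n ∈ T ∧
        ν = fun c => m.1 (kap (P : Subgroup G) n hn c)} =
      Subtype.val '' (MulAction.orbit T m) := by
    ext ν
    constructor
    · rintro ⟨n, hn, hnT, hν⟩
      refine ⟨(⟨n, hnT⟩ : T)⁻¹ • m, ⟨_, rfl⟩, ?_⟩
      funext c
      rw [smul_val, hν]
      exact congrArg m.1 (kap_symm_inv (P : Subgroup G) hn _ c)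
    · rintro ⟨ν', hν', rfl⟩
      exact (mem_orbit_iff p (P : Subgroup G) T hTN m ν').mp hν'
  have := Set.ncard_image_of_injective (MulAction.orbit T m)
    (Subtype.val_injective (p := fun μ : ↥(Subgroup.centralizer ((P : Subgroup G) : Set G)) → ℂ =>
      IsPLin p μ ∧ ∃ x, μ x ≠ 1))
  rw [← this, ← hset, ← Nat.card_coe_set_eq]
  rfl

theorem exists_orbit_reps_aux (P : Sylow p G) (hP : Nat.card P = p) (T : Subgroup G)
    (hTN : T ≤ Subgroup.normalizer ((P : Subgroup G) : Set G))
    (hQL1 : Nat.card {μ : ↥(Subgroup.centralizer ((P : Subgroup G) : Set G)) → ℂ // IsPLin p μ} = p)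
    (hQL2 : ∀ μ : ↥(Subgroup.centralizer ((P : Subgroup G) : Set G)) → ℂ, IsPLin p μ →
      (∃ x, μ x ≠ 1) → ∀ u : ↥(Subgroup.centralizer ((P : Subgroup G) : Set G)),
        (u : G) ∈ (P : Subgroup G) → u ≠ 1 → μ u ≠ 1) :
    (Subgroup.centralizer ((P : Subgroup G) : Set G)).relIndex T ∣ p - 1 ∧
    ∃ R : Finset (Subgroup.centralizer ((P : Subgroup G) : Set G) → ℂ),
      R.card * (Subgroup.centralizer ((P : Subgroup G) : Set G)).relIndex T = p - 1 ∧
      (∀ r ∈ R, IsPLin p r ∧ ∃ x, r x ≠ 1) ∧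
      (∀ μ : Subgroup.centralizer ((P : Subgroup G) : Set G) → ℂ, IsPLin p μ → (∃ x, μ x ≠ 1) →
        ∃ r ∈ R, ∃ (n : G) (hn : n ∈ Subgroup.normalizer ((P : Subgroup G) : Set G)), n ∈ T ∧
          μ = fun c => r (kap (P : Subgroup G) n hn c)) ∧
      (∀ r ∈ R, ∀ r' ∈ R, (∃ (n : G) (hn : n ∈ Subgroup.normalizer ((P : Subgroup G) : Set G)),
          n ∈ T ∧ r' = fun c => r (kap (P : Subgroup G) n hn c)) → r = r') ∧
      (∀ μ : Subgroup.centralizer ((P : Subgroup G) : Set G) → ℂ, IsPLin p μ → (∃ x, μ x ≠ 1) →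
        Nat.card {ν : Subgroup.centralizer ((P : Subgroup G) : Set G) → ℂ //
          ∃ (n : G) (hn : n ∈ Subgroup.normalizer ((P : Subgroup G) : Set G)), n ∈ T ∧
            ν = fun c => μ (kap (P : Subgroup G) n hn c)} =
          (Subgroup.centralizer ((P : Subgroup G) : Set G)).relIndex T) := by
  classical
  let _ := mulAct p (P : Subgroup G) T hTN
  have hfin : Finite (Lam p (P : Subgroup G)) := finite_lam _ hQL1
  have : Fintype (MulAction.orbitRel.Quotient T (Lam p (P : Subgroup G))) := Fintype.ofFinite _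
  have hclass := class_eq P hP T hTN hQL1 hQL2
  refine ⟨Dvd.intro_left _ hclass, ?_⟩
  have hinj : Function.Injective
      (fun ω : MulAction.orbitRel.Quotient T (Lam p (P : Subgroup G)) => (ω.out).1) := by
    intro ω ω' h
    have h' : ω.out = ω'.out := Subtype.ext h
    rw [← Quotient.out_eq ω, ← Quotient.out_eq ω', h']
  refine ⟨Finset.univ.image
    (fun ω : MulAction.orbitRel.Quotient T (Lam p (P : Subgroup G)) => (ω.out).1), ?_, ?_, ?_, ?_, ?_⟩
  · rw [Finset.card_image_of_injective _ hinj, Finset.card_univ, ← Nat.card_eq_fintype_card]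
    exact hclass
  · intro r hr
    obtain ⟨ω, -, rfl⟩ := Finset.mem_image.mp hr
    exact ω.out.2
  · intro μ hμ hμ1
    set m : Lam p (P : Subgroup G) := ⟨μ, hμ, hμ1⟩ with hm
    set ω : MulAction.orbitRel.Quotient T (Lam p (P : Subgroup G)) := Quotient.mk'' m with hω
    refine ⟨ω.out.1, Finset.mem_image.mpr ⟨ω, Finset.mem_univ _, rfl⟩, ?_⟩
    have h1 : ω.out ∈ MulAction.orbit T m := by
      rw [← MulAction.orbitRel_apply]
      exact Quotient.exact (Quotient.out_eq ω)
    have h2 : m ∈ MulAction.orbit T ω.out := by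
      rw [MulAction.orbit_eq_iff.mpr h1]
      exact MulAction.mem_orbit_self m
    exact (mem_orbit_iff p (P : Subgroup G) T hTN ω.out m).mp h2
  · intro r hr r' hr' h
    obtain ⟨ω, -, rfl⟩ := Finset.mem_image.mp hr
    obtain ⟨ω', -, rfl⟩ := Finset.mem_image.mp hr'
    have h1 : ω'.out ∈ MulAction.orbit T ω.out :=
      (mem_orbit_iff p (P : Subgroup G) T hTN ω.out ω'.out).mpr h
    have h2 : (Quotient.mk'' ω'.out : MulAction.orbitRel.Quotient T (Lam p (P : Subgroup G))) =
        Quotient.mk'' ω.out := by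
      apply Quotient.sound
      exact (MulAction.orbitRel_apply).mpr h1
    have h3 : ω' = ω := by
      have e1 : (Quotient.mk'' ω'.out : MulAction.orbitRel.Quotient T (Lam p (P : Subgroup G))) = ω' :=
        Quotient.out_eq ω'
      have e2 : (Quotient.mk'' ω.out : MulAction.orbitRel.Quotient T (Lam p (P : Subgroup G))) = ω :=
        Quotient.out_eq ω
      rw [← e1, ← e2, h2]
    rw [h3]
  · intro μ hμ hμ1
    exact card_conj_set P hP T hTN hQL2 ⟨μ, hμ, hμ1⟩

/-- `Z = P` as a subgroup of `C_G(P)`: order `p`, central, index prime to `p` -/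
theorem subgroupOf_facts (P : Sylow p G) (hP : Nat.card P = p) :
    Nat.card ((P : Subgroup G).subgroupOf (Subgroup.centralizer ((P : Subgroup G) : Set G))) = p ∧
    (P : Subgroup G).subgroupOf (Subgroup.centralizer ((P : Subgroup G) : Set G)) ≤
      Subgroup.center (Subgroup.centralizer ((P : Subgroup G) : Set G)) ∧
    ¬ p ∣ ((P : Subgroup G).subgroupOf (Subgroup.centralizer ((P : Subgroup G) : Set G))).index := by
  have hle := Cfsg.Agent.Helper1.D1PA.le_centralizer P hP
  refine ⟨?_, ?_, ?_⟩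
  · rw [Nat.card_congr (Subgroup.subgroupOfEquivOfLe hle).toEquiv]
    exact hP
  · intro z hz
    rw [Subgroup.mem_subgroupOf] at hz
    rw [Subgroup.mem_center_iff]
    intro c
    apply Subtype.ext
    rw [Subgroup.coe_mul, Subgroup.coe_mul]
    have := c.2
    rw [Subgroup.mem_centralizer_iff] at this
    exact (this _ hz).symm
  · intro h
    have h1 : ((P : Subgroup G).subgroupOf (Subgroup.centralizer ((P : Subgroup G) : Set G))).index =
        (P : Subgroup G).relIndex (Subgroup.centralizer ((P : Subgroup G) : Set G)) := rfl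
    rw [h1] at h
    exact P.not_dvd_index (h.trans (Subgroup.relIndex_dvd_index_of_le hle))

end fin

end Cfsg.Agent.Helper18.D1QO
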