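import Mathlib
import Cfsg.Agent.Helper18.D1QO
import Cfsg.Agent.Helper11.D1QL

/-!
Piece (QO) of the defect-one cluster, exact signature: orbits of `T` on the non-trivial
`p`-linear functions of `C_G(P)`.
-/

set_option autoImplicit false
open Cfsg Cfsg.Agent.Helper8.D1

namespace Cfsg.Agent.Helper18.D1QO

/-- (QO) orbits of `T` on the non-trivial `p`-linear functions -/
theorem exists_orbit_reps {G : Type*} [Group G] [Finite G] {p : ℕ} [Fact p.Prime]
    (P : Sylow p G) (hP : Nat.card P = p) (T : Subgroup G)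
    (hCT : Subgroup.centralizer ((P : Subgroup G) : Set G) ≤ T)
    (hTN : T ≤ Subgroup.normalizer ((P : Subgroup G) : Set G)) :
    (Subgroup.centralizer ((P : Subgroup G) : Set G)).relIndex T ∣ p - 1 ∧
    ∃ R : Finset (Subgroup.centralizer ((P : Subgroup G) : Set G) → ℂ),
      R.card * (Subgroup.centralizer ((P : Subgroup G) : Set G)).relIndex T = p - 1 ∧
      (∀ r ∈ R, IsPLin p r ∧ ∃ x, r x ≠ 1) ∧
      (∀ μ : Subgroup.centralizer ((P : Subgroup G) : Set G) → ℂ, IsPLin p μ → (∃ x, μ x ≠ 1) →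
        ∃ r ∈ R, ∃ (n : G) (hn : n ∈ Subgroup.normalizer ((P : Subgroup G) : Set G)), n ∈ T ∧
          μ = fun c => r (kap (P : Subgroup G) n hn c)) ∧
      (∀ r ∈ R, ∀ r' ∈ R, (∃ (n : G) (hn : n ∈ Subgroup.normalizer ((P : Subgroup G) : Set G)),
          n ∈ T ∧ r' = fun c => r (kap (P : Subgroup G) n hn c)) → r = r') ∧
      (∀ μ : Subgroup.centralizer ((P : Subgroup G) : Set G) → ℂ, IsPLin p μ → (∃ x, μ x ≠ 1) →
        Nat.card {ν : Subgroup.centralizer ((P : Subgroup G) : Set G) → ℂ //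
          ∃ (n : G) (hn : n ∈ Subgroup.normalizer ((P : Subgroup G) : Set G)), n ∈ T ∧
            ν = fun c => μ (kap (P : Subgroup G) n hn c)} =
          (Subgroup.centralizer ((P : Subgroup G) : Set G)).relIndex T) := by
  obtain ⟨hZ, hZc, hZi⟩ := subgroupOf_facts P hP
  have _ := hCT
  refine exists_orbit_reps_aux P hP T hTN
    (Cfsg.Agent.Helper11.D1QL.card_pLin _ hZ hZc hZi) ?_
  intro μ hμ hμ1 u hu hu1
  exact Cfsg.Agent.Helper11.D1QL.pLin_apply_ne_one _ hZ hZc hZi hμ hμ1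
    (Subgroup.mem_subgroupOf.mpr hu) hu1

end Cfsg.Agent.Helper18.D1QO
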