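import Mathlib
import Cfsg.Agent.Helper8.D1Base

/-!
Piece (QT0) of the defect-one cluster: the stabilizer of a function `θ` on `C_G(P)` in `N_G(P)` is a
subgroup.
-/

set_option autoImplicit false
open Cfsg Cfsg.Agent.Helper8.D1

namespace Cfsg.Agent.Helper18.D1QT0

theorem exists_stab {G : Type*} [Group G] (P : Subgroup G)
    (θ : Subgroup.centralizer (P : Set G) → ℂ) :
    ∃ T : Subgroup G, ∀ g : G, g ∈ T ↔ (g ∈ Subgroup.normalizer (P : Set G) ∧
      ∀ c c' : Subgroup.centralizer (P : Set G), (c' : G) = g * c * g⁻¹ → θ c' = θ c) := by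
  refine ⟨{ carrier := {g | g ∈ Subgroup.normalizer (P : Set G) ∧
      ∀ c c' : Subgroup.centralizer (P : Set G), (c' : G) = g * c * g⁻¹ → θ c' = θ c}
            mul_mem' := ?_
            one_mem' := ?_
            inv_mem' := ?_ }, fun g => Iff.rfl⟩
  · rintro g h ⟨hg, hg'⟩ ⟨hh, hh'⟩
    refine ⟨Subgroup.mul_mem _ hg hh, ?_⟩
    intro c c' hcc'
    have h1 : θ (kap P h hh c) = θ c := hh' c _ (coe_kap P h hh c)
    have h2 : θ c' = θ (kap P h hh c) := by
      apply hg' (kap P h hh c) c'
      rw [hcc', coe_kap]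
      group
    rw [h2, h1]
  · refine ⟨Subgroup.one_mem _, ?_⟩
    intro c c' hcc'
    have : c' = c := by
      apply Subtype.ext
      rw [hcc']
      group
    rw [this]
  · rintro g ⟨hg, hg'⟩
    refine ⟨Subgroup.inv_mem _ hg, ?_⟩
    intro c c' hcc'
    have : θ c = θ c' := by
      apply hg' c' c
      rw [hcc']
      group
    exact this.symm

end Cfsg.Agent.Helper18.D1QT0
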