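import Mathlib
import Cfsg.Agent.Helper8.D1Base

/-!
Piece (QF) of the defect-one cluster: a sum over the non-trivial `p`-linear functions of a
`T`-invariant function is `e` times the sum over orbit representatives.
-/

set_option autoImplicit false
open Cfsg Cfsg.Agent.Helper8.D1

namespace Cfsg.Agent.Helper18.D1QF

section aux

variable {G : Type*} [Group G]

theorem kap_kap (P : Subgroup G) {n m : G} (hn : n ∈ Subgroup.normalizer (P : Set G))
    (hm : m ∈ Subgroup.normalizer (P : Set G)) (hnm : n * m ∈ Subgroup.normalizer (P : Set G))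
    (c : ↥(Subgroup.centralizer (P : Set G))) :
    kap P n hn (kap P m hm c) = kap P (n * m) hnm c := by
  apply Subtype.ext
  rw [coe_kap, coe_kap, coe_kap]
  group

theorem kap_inv_kap' (P : Subgroup G) {n : G} (hn : n ∈ Subgroup.normalizer (P : Set G))
    (hn' : n⁻¹ ∈ Subgroup.normalizer (P : Set G))
    (c : ↥(Subgroup.centralizer (P : Set G))) :
    kap P n hn (kap P n⁻¹ hn' c) = c := by
  apply Subtype.ext
  rw [coe_kap, coe_kap]
  group

/-- the `T`-orbit of `μ` -/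
def orb (P T : Subgroup G) (μ : ↥(Subgroup.centralizer (P : Set G)) → ℂ) :
    Set (↥(Subgroup.centralizer (P : Set G)) → ℂ) :=
  {ν | ∃ (n : G) (hn : n ∈ Subgroup.normalizer (P : Set G)), n ∈ T ∧
    ν = fun c => μ (kap P n hn c)}

theorem orb_symm (P T : Subgroup G) {μ ν : ↥(Subgroup.centralizer (P : Set G)) → ℂ}
    (h : ν ∈ orb P T μ) : μ ∈ orb P T ν := by
  obtain ⟨n, hn, hnT, rfl⟩ := h
  refine ⟨n⁻¹, Subgroup.inv_mem _ hn, Subgroup.inv_mem _ hnT, ?_⟩
  funext c
  show μ c = μ (kap P n hn (kap P n⁻¹ _ c))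
  rw [kap_inv_kap']

theorem orb_trans (P T : Subgroup G) {μ ν ξ : ↥(Subgroup.centralizer (P : Set G)) → ℂ}
    (h1 : ν ∈ orb P T μ) (h2 : ξ ∈ orb P T ν) : ξ ∈ orb P T μ := by
  obtain ⟨n, hn, hnT, rfl⟩ := h1
  obtain ⟨m, hm, hmT, rfl⟩ := h2
  refine ⟨n * m, Subgroup.mul_mem _ hn hm, Subgroup.mul_mem _ hnT hmT, ?_⟩
  funext c
  show μ (kap P n hn (kap P m hm c)) = μ (kap P (n * m) _ c)
  rw [kap_kap]

end aux

theorem orbit_sum {G : Type*} [Group G] [Finite G] {p : ℕ} [Fact p.Prime]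
    (P : Sylow p G) (T : Subgroup G) (e : ℕ) (he : 0 < e)
    (R : Finset (Subgroup.centralizer ((P : Subgroup G) : Set G) → ℂ))
    (hR1 : ∀ r ∈ R, IsPLin p r ∧ ∃ x, r x ≠ 1)
    (hR2 : ∀ μ : Subgroup.centralizer ((P : Subgroup G) : Set G) → ℂ, IsPLin p μ → (∃ x, μ x ≠ 1) →
        ∃ r ∈ R, ∃ (n : G) (hn : n ∈ Subgroup.normalizer ((P : Subgroup G) : Set G)), n ∈ T ∧
          μ = fun c => r (kap (P : Subgroup G) n hn c))
    (hR3 : ∀ r ∈ R, ∀ r' ∈ R, (∃ (n : G) (hn : n ∈ Subgroup.normalizer ((P : Subgroup G) : Set G)),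
          n ∈ T ∧ r' = fun c => r (kap (P : Subgroup G) n hn c)) → r = r')
    (hR4 : ∀ μ : Subgroup.centralizer ((P : Subgroup G) : Set G) → ℂ, IsPLin p μ → (∃ x, μ x ≠ 1) →
        Nat.card {ν : Subgroup.centralizer ((P : Subgroup G) : Set G) → ℂ //
          ∃ (n : G) (hn : n ∈ Subgroup.normalizer ((P : Subgroup G) : Set G)), n ∈ T ∧
            ν = fun c => μ (kap (P : Subgroup G) n hn c)} = e)
    (F : (Subgroup.centralizer ((P : Subgroup G) : Set G) → ℂ) → ℂ)
    (hF : ∀ (μ : Subgroup.centralizer ((P : Subgroup G) : Set G) → ℂ) (n : G)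
      (hn : n ∈ Subgroup.normalizer ((P : Subgroup G) : Set G)), n ∈ T →
        F (fun c => μ (kap (P : Subgroup G) n hn c)) = F μ) :
    ∑ᶠ μ ∈ {μ : Subgroup.centralizer ((P : Subgroup G) : Set G) → ℂ | IsPLin p μ ∧ ∃ x, μ x ≠ 1}, F μ
      = (e : ℂ) * ∑ r ∈ R, F r := by
  classical
  -- the set of non-trivial p-linear functions is the union of the orbits of the representatives
  have hunion : {μ : Subgroup.centralizer ((P : Subgroup G) : Set G) → ℂ |
      IsPLin p μ ∧ ∃ x, μ x ≠ 1} = ⋃ r ∈ (R : Set _), orb (P : Subgroup G) T r := by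
    ext μ
    simp only [Set.mem_iUnion, exists_prop]
    constructor
    · rintro ⟨hμ, hμ1⟩
      obtain ⟨r, hr, n, hn, hnT, h⟩ := hR2 μ hμ hμ1
      exact ⟨r, hr, n, hn, hnT, h⟩
    · rintro ⟨r, hr, n, hn, hnT, rfl⟩
      obtain ⟨hr1, x, hx⟩ := hR1 r hr
      refine ⟨IsPLin.comp hr1 (kap (P : Subgroup G) n hn), (kap (P : Subgroup G) n hn).symm x, ?_⟩
      show r (kap (P : Subgroup G) n hn ((kap (P : Subgroup G) n hn).symm x)) ≠ 1
      rw [MulEquiv.apply_symm_apply]
      exact hx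
  have hdisj : (R : Set (Subgroup.centralizer ((P : Subgroup G) : Set G) → ℂ)).PairwiseDisjoint
      (orb (P : Subgroup G) T) := by
    intro r hr r' hr' hne
    rw [Function.onFun, Set.disjoint_left]
    intro ν h1 h2
    apply hne
    apply hR3 r hr r' hr'
    exact orb_trans (P : Subgroup G) T h1 (orb_symm (P : Subgroup G) T h2)
  have hfin : ∀ r ∈ (R : Set (Subgroup.centralizer ((P : Subgroup G) : Set G) → ℂ)),
      (orb (P : Subgroup G) T r).Finite := by
    intro r hr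
    obtain ⟨hr1, hr2⟩ := hR1 r hr
    have h := hR4 r hr1 hr2
    have : Finite {ν : Subgroup.centralizer ((P : Subgroup G) : Set G) → ℂ //
          ∃ (n : G) (hn : n ∈ Subgroup.normalizer ((P : Subgroup G) : Set G)), n ∈ T ∧
            ν = fun c => r (kap (P : Subgroup G) n hn c)} := by
      apply Nat.finite_of_card_ne_zero
      rw [h]; exact he.ne'
    exact this
  rw [hunion, finsum_mem_biUnion hdisj R.finite_toSet hfin, finsum_mem_coe_finset, Finset.mul_sum]
  apply Finset.sum_congr rfl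
  intro r hr
  obtain ⟨hr1, hr2⟩ := hR1 r hr
  have hconst : ∑ᶠ μ ∈ orb (P : Subgroup G) T r, F μ = ∑ᶠ μ ∈ orb (P : Subgroup G) T r, F r := by
    apply finsum_mem_congr rfl
    rintro μ ⟨n, hn, hnT, rfl⟩
    exact hF r n hn hnT
  have hf := hfin r hr
  rw [hconst, finsum_mem_eq_finite_toFinset_sum _ hf, Finset.sum_const, nsmul_eq_mul]
  congr 1
  have h := hR4 r hr1 hr2
  have h2 : hf.toFinset.card = (orb (P : Subgroup G) T r).ncard :=
    (Set.ncard_eq_toFinset_card _ hf).symm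
  rw [h2, ← Nat.card_coe_set_eq]
  exact_mod_cast h

end Cfsg.Agent.Helper18.D1QF
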