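import Mathlib
import Cfsg.Prelude.Def_FusionSystem
import Cfsg.Agent.Helper26.CB10

set_option autoImplicit false

/-!
Definitions for S5113 (BCGLO: the unique saturated subsystem of `p`-power index over a subgroup
`T` containing the hyperfocal subgroup).  Driver: helper18, board `s5113pieces`.

Setting: `(X, a, x₀)` is a characteristic biset of the saturated system `F` over `S`
(`Helper26.CB6.exists_charBiset`), `Cen a` is the group of permutations of `X` commuting with the
right action of `S`, `iota a : S →* Cen a` is the left action and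
`trf a x₀ F hTD : Cen a →* Abelianization S` is the transfer (`Helper26.CB9`).
-/

namespace Cfsg.Agent.S5113P

open Cfsg Cfsg.FusionSystem Cfsg.Agent.Helper25 Cfsg.Agent.Helper25.Park Cfsg.Agent.Helper26.CB
open scoped commutatorElement

universe u

variable {Ω : Type u} [Group Ω] {S : Subgroup Ω} {X : Type u}

/-- The image in the abelianization of `S` of (the part in `S` of) the subgroup `T`. -/
def TA (S T : Subgroup Ω) : Subgroup (Abelianization ↥S) :=
  (T.subgroupOf S).map Abelianization.of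

theorem mem_TA_iff {T : Subgroup Ω} {v : Abelianization ↥S} :
    v ∈ TA S T ↔ ∃ t : ↥S, (t : Ω) ∈ T ∧ Abelianization.of t = v := by
  unfold TA
  rw [Subgroup.mem_map]
  constructor
  · rintro ⟨t, ht, rfl⟩
    exact ⟨t, Subgroup.mem_subgroupOf.mp ht, rfl⟩
  · rintro ⟨t, ht, rfl⟩
    exact ⟨t, Subgroup.mem_subgroupOf.mpr ht, rfl⟩

theorem of_mem_TA {T : Subgroup Ω} {t : ↥S} (ht : (t : Ω) ∈ T) :
    Abelianization.of t ∈ TA S T := mem_TA_iff.mpr ⟨t, ht, rfl⟩

theorem TA_mono {T T' : Subgroup Ω} (h : T ≤ T') : TA S T ≤ TA S T' := by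
  intro v hv
  obtain ⟨t, ht, rfl⟩ := mem_TA_iff.mp hv
  exact of_mem_TA (h ht)

section
variable (a : ↥(S.prod S) →* Equiv.Perm X) (x₀ : X) (F : FusionSystem S)
  (hTD : ∀ x, TD F (stab a x))

/-- `M`: the elements of `Cen a` whose transfer lies in the image of `T`. -/
noncomputable def MM [Finite X] (T : Subgroup Ω) : Subgroup ↥(Cen a) :=
  (TA S T).comap (trf a x₀ F hTD)

theorem mem_MM [Finite X] {T : Subgroup Ω} {g : ↥(Cen a)} :
    g ∈ MM a x₀ F hTD T ↔ trf a x₀ F hTD g ∈ TA S T := Iff.rfl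

/-- The map sets of the candidate subsystem over `T`: the maps of `F` between subgroups of `T`
that are induced by conjugation by an element of `M`. -/
def EHom [Finite X] (T P : Subgroup Ω) : Set (P →* Ω) :=
  {φ | φ ∈ F.Hom P ∧ P ≤ T ∧ (∀ x : P, φ x ∈ T) ∧
    ∃ m ∈ MM a x₀ F hTD T, ∀ (x : P) (hx : (x : Ω) ∈ S) (hφx : φ x ∈ S),
      iota a ⟨φ x, hφx⟩ = m * iota a ⟨(x : Ω), hx⟩ * m⁻¹}

end

/-- Commutators of elements of `S` lie in the focal subgroup. -/
theorem commutator_mem_focal (F : FusionSystem S) {s x : Ω} (hs : s ∈ S) (hx : x ∈ S) :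
    x⁻¹ * (s * x * s⁻¹) ∈ F.focalSubgroup := by
  apply Subgroup.subset_closure
  exact ⟨S, conjHom S s, ⟨x, hx⟩, F.conj_mem le_rfl hs, rfl⟩

/-- A subgroup of `S` containing the focal subgroup is normalized by `S`. -/
theorem le_normalizer_of_focal_le (F : FusionSystem S) {T : Subgroup Ω} (hTS : T ≤ S)
    (hfoc : F.focalSubgroup ≤ T) : S ≤ Subgroup.normalizer (T : Set Ω) := by
  have key : ∀ s ∈ S, ∀ t ∈ T, s * t * s⁻¹ ∈ T := by
    intro s hs t ht
    have h1 := hfoc (commutator_mem_focal F hs (hTS ht))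
    have := T.mul_mem ht h1
    rwa [mul_inv_cancel_left] at this
  intro s hs
  rw [Subgroup.mem_normalizer_iff]
  intro t
  constructor
  · exact key s hs t
  · intro h
    have := key s⁻¹ (S.inv_mem hs) _ h
    simpa [mul_assoc] using this

/-- The commutator subgroup of `S` lies in the focal subgroup. -/
theorem commutator_le_focal (F : FusionSystem S) :
    commutator ↥S ≤ (F.focalSubgroup).subgroupOf S := by
  rw [commutator_def, Subgroup.commutator_le]
  intro y _ x _
  rw [Subgroup.mem_subgroupOf]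
  have h := commutator_mem_focal F x.2 (S.inv_mem y.2)
  have e : ((⁅y, x⁆ : ↥S) : Ω) = ((y : Ω)⁻¹)⁻¹ * ((x : Ω) * (y : Ω)⁻¹ * (x : Ω)⁻¹) := by
    rw [commutatorElement_def]
    simp [mul_assoc]
  rw [e]
  exact h

/-- If the class of `v` in the abelianization lies in the image of `T ⊇ foc(F)`, then `v ∈ T`. -/
theorem mem_of_of_mem_TA (F : FusionSystem S) {T : Subgroup Ω} (hfoc : F.focalSubgroup ≤ T)
    {v : ↥S} (h : Abelianization.of v ∈ TA S T) : (v : Ω) ∈ T := by
  obtain ⟨t, ht, hte⟩ := mem_TA_iff.mp h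
  have h1 : t⁻¹ * v ∈ commutator ↥S := by
    rw [← QuotientGroup.eq]
    exact hte
  have h3 : ((t⁻¹ * v : ↥S) : Ω) ∈ T :=
    hfoc (Subgroup.mem_subgroupOf.mp (commutator_le_focal F h1))
  have := T.mul_mem ht h3
  simpa using this

/-- An element of the `p`-group `S` one of whose `p'`-powers lies in a subgroup lies in it. -/
theorem mem_of_pow_mem (p : ℕ) [Fact p.Prime] (hS : IsPGroup p S) {T : Subgroup Ω}
    {k : ℕ} (hk : ¬ p ∣ k) {v : ↥S} (h : ((v : Ω)) ^ k ∈ T) : (v : Ω) ∈ T := by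
  obtain ⟨n, hn⟩ := hS v
  have hp : p.Prime := Fact.out
  have hord : orderOf v ∣ p ^ n := orderOf_dvd_of_pow_eq_one hn
  have hcop : Nat.Coprime k (orderOf v) :=
    Nat.Coprime.coprime_dvd_right hord
      (Nat.Coprime.pow_right n ((Nat.Prime.coprime_iff_not_dvd hp).2 hk).symm)
  obtain ⟨m, hm⟩ := exists_pow_eq_self_of_coprime hcop
  have h2 : ((v : Ω) ^ k) ^ m = (v : Ω) := by
    have := congrArg (fun z : ↥S => (z : Ω)) hm
    simpa using this
  rw [← h2]
  exact T.pow_mem h m

end Cfsg.Agent.S5113P
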