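import Mathlib
import Cfsg.Prelude.Def_GeometricClasses
import Cfsg.Prelude.Def_ClassicalGeometry
import Cfsg.Agent.Helper23.S5961Defs

set_option autoImplicit false

/-! S5961 piece ARITH: number theory of `cc`. -/

namespace Cfsg.Agent.S5961P

open Polynomial Cfsg.Agent.Helper2.SympInvol Cfsg.Agent.Helper2.SympUnits

/-- ARITH: number theory of `cc` -/
theorem cc_arith {F : Type*} [Field F] [Fintype F] {p : ℕ} [Fact p.Prime] [CharP F p]
    (r : ℕ) [Fact r.Prime] (hr2 : r ≠ 2) (hrp : r ≠ p) :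
    0 < orderOf ((Fintype.card F : ℕ) : ZMod r) ∧ 0 < cc F r ∧ Even (cc F r) ∧
    orderOf ((Fintype.card F : ℕ) : ZMod r) ∣ cc F r ∧ cc F r ∣ r - 1 ∧
    r ∣ Fintype.card F ^ cc F r - 1 ∧
    (∀ j : ℕ, r ∣ Fintype.card F ^ (2 * j) - 1 → cc F r ∣ 2 * j) ∧
    (Even (orderOf ((Fintype.card F : ℕ) : ZMod r)) →
      r ∣ Fintype.card F ^ (orderOf ((Fintype.card F : ℕ) : ZMod r) / 2) + 1) := by
  have hr : r.Prime := Fact.out
  have hp : p.Prime := Fact.out
  obtain ⟨n, -, hq⟩ := FiniteField.card F p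
  set q := Fintype.card F with hqdef
  have hqpos : 0 < q := Fintype.card_pos
  have hq0 : ((q : ℕ) : ZMod r) ≠ 0 := by
    intro h0
    rw [ZMod.natCast_eq_zero_iff, hq] at h0
    have := (Nat.prime_dvd_prime_iff_eq hr hp).mp (hr.dvd_of_dvd_pow h0)
    exact hrp this
  have hpow : ((q : ℕ) : ZMod r) ^ (r - 1) = 1 := ZMod.pow_card_sub_one_eq_one hq0
  have hr1 : 0 < r - 1 := by have := hr.two_le; omega
  set i := orderOf ((q : ℕ) : ZMod r) with hi
  have hidvd : i ∣ r - 1 := orderOf_dvd_of_pow_eq_one hpow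
  have hipos : 0 < i := Nat.pos_of_dvd_of_pos hidvd hr1
  have hrodd : Odd r := hr.odd_of_ne_two hr2
  have h2dvd : 2 ∣ r - 1 := by
    obtain ⟨k, hk⟩ := hrodd
    exact ⟨k, by omega⟩
  -- `r ∣ q^m - 1 ↔ i ∣ m`
  have key : ∀ m : ℕ, r ∣ q ^ m - 1 ↔ i ∣ m := by
    intro m
    have h1 : 1 ≤ q ^ m := Nat.one_le_pow _ _ hqpos
    rw [← ZMod.natCast_eq_zero_iff, Nat.cast_sub h1, Nat.cast_pow, Nat.cast_one, sub_eq_zero,
      orderOf_dvd_iff_pow_eq_one]
  have hcc := cc_def F r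
  rw [← hqdef, ← hi] at hcc
  by_cases hev : Even i
  · rw [if_pos hev] at hcc
    refine ⟨hipos, by rw [hcc]; exact hipos, by rw [hcc]; exact hev, by rw [hcc], by rw [hcc]; exact hidvd,
      by rw [hcc]; exact (key i).mpr dvd_rfl, fun j hj => by rw [hcc]; exact (key _).mp hj, ?_⟩
    intro _
    obtain ⟨h, hh⟩ := hev
    have hh2 : i / 2 = h := by omega
    rw [hh2]
    have hhpos : 0 < h := by omega
    have hsq : (((q : ℕ) : ZMod r) ^ h - 1) * (((q : ℕ) : ZMod r) ^ h + 1) = 0 := by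
      have : ((q : ℕ) : ZMod r) ^ i = 1 := pow_orderOf_eq_one _
      rw [hh, pow_add] at this
      linear_combination this
    rcases mul_eq_zero.mp hsq with h1 | h1
    · exfalso
      rw [sub_eq_zero] at h1
      have := orderOf_dvd_of_pow_eq_one h1
      have := Nat.le_of_dvd hhpos this
      omega
    · rw [← ZMod.natCast_eq_zero_iff]
      push_cast
      exact h1
  · rw [if_neg hev] at hcc
    have hodd : Odd i := Nat.not_even_iff_odd.mp hev
    have hcop : Nat.Coprime 2 i := (Nat.coprime_two_left).mpr hodd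
    refine ⟨hipos, by rw [hcc]; omega, by rw [hcc]; exact even_two_mul i, by rw [hcc]; exact Dvd.intro_left _ rfl,
      by rw [hcc]; exact hcop.mul_dvd_of_dvd_of_dvd h2dvd hidvd,
      by rw [hcc]; exact (key _).mpr (Dvd.intro_left _ rfl), ?_, fun h => absurd h hev⟩
    intro j hj
    rw [hcc]
    have h1 := (key _).mp hj
    have h2 : i ∣ j := (hcop.symm).dvd_of_dvd_mul_left h1
    exact Nat.mul_dvd_mul_left 2 h2

end Cfsg.Agent.S5961P
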