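import Mathlib
import Cfsg.Prelude.Def_GeometricClasses
import Cfsg.Prelude.Def_ClassicalGeometry
import Cfsg.Agent.Helper23.S5961Defs

set_option autoImplicit false

/-! S5961 piece NDSUB: nondegenerate alternating spaces have even dimension and contain
nondegenerate subspaces of every smaller even dimension. -/

namespace Cfsg.Agent.S5961P

open Polynomial Cfsg.Agent.Helper2.SympInvol Cfsg.Agent.Helper2.SympUnits

namespace NDSUB

/-- orthogonal sum of two nondegenerate subspaces -/
theorem nondeg_sup {F V : Type*} [Field F] [AddCommGroup V] [Module F V]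
    (B : LinearMap.BilinForm F V) (halt : ∀ v, B v v = 0) (H U : Submodule F V)
    (hH : Nondeg B H) (hU : Nondeg B U) (ho : Orth B H U) : Nondeg B (H ⊔ U) := by
  intro x hx hx0
  obtain ⟨h, hh, u, hu, rfl⟩ := Submodule.mem_sup.mp hx
  by_cases h0 : h = 0
  · subst h0
    rw [zero_add] at hx0
    obtain ⟨v, hv, hBv⟩ := hU u hu hx0
    refine ⟨v, Submodule.mem_sup_right hv, ?_⟩
    rw [zero_add]; exact hBv
  · obtain ⟨v, hv, hBv⟩ := hH h hh h0
    refine ⟨v, Submodule.mem_sup_left hv, ?_⟩
    rw [map_add, LinearMap.add_apply, skew B halt u v, ho v hv u hu, neg_zero, add_zero]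
    exact hBv

theorem main {F V : Type*} [Field F] [AddCommGroup V] [Module F V]
    [FiniteDimensional F V] (B : LinearMap.BilinForm F V) (halt : ∀ v, B v v = 0) :
    ∀ (n : ℕ) (M : Submodule F V), Module.finrank F M = n → Nondeg B M →
    Even n ∧ ∀ k : ℕ, Even k → k ≤ n →
      ∃ U : Submodule F V, U ≤ M ∧ Nondeg B U ∧ Module.finrank F U = k := by
  intro n
  induction n using Nat.strong_induction_on with
  | _ n ih =>
    intro M hn hM
    by_cases hbot : M = ⊥
    · subst hbot
      rw [finrank_bot] at hn
      subst hn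
      refine ⟨Even.zero, fun k _ hk => ⟨⊥, le_rfl, ?_, ?_⟩⟩
      · intro m hm hm0
        exact absurd ((Submodule.mem_bot F).mp hm) hm0
      · rw [finrank_bot]; omega
    · obtain ⟨m, hm, hm0⟩ := Submodule.exists_mem_ne_zero_of_ne_bot hbot
      obtain ⟨w, hw, hmw⟩ := hM m hm hm0
      obtain ⟨hdisj, hsup, horth⟩ := plane_split halt M hm hw hmw
      have hH2 := finrank_span_pair_of_ne halt hmw
      have hHnd := nondeg_span_pair halt hmw
      have hM'nd := nondeg_perp2 B halt M hM hm hw hmw
      have hfr := Submodule.finrank_sup_add_finrank_inf_eq (Submodule.span F ({m, w} : Set V))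
        (perp2 B M m w)
      rw [hdisj.eq_bot, finrank_bot, add_zero, hsup, hn, hH2] at hfr
      have hlt : Module.finrank F ↥(perp2 B M m w) < n := by omega
      obtain ⟨hev', hsub'⟩ := ih _ hlt (perp2 B M m w) rfl hM'nd
      have hev : Even n := by
        rw [hfr]
        exact Even.add even_two hev'
      refine ⟨hev, fun k hk hkn => ?_⟩
      rcases Nat.eq_zero_or_pos k with h0 | hkpos
      · subst h0
        refine ⟨⊥, bot_le, ?_, finrank_bot F V⟩
        intro x hx hx0
        exact absurd ((Submodule.mem_bot F).mp hx) hx0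
      · obtain ⟨c, hc⟩ := hk
        have hk2 : 2 ≤ k := by omega
        have hk' : Even (k - 2) := ⟨c - 1, by omega⟩
        obtain ⟨U', hU'le, hU'nd, hU'fr⟩ := hsub' (k - 2) hk' (by omega)
        refine ⟨Submodule.span F ({m, w} : Set V) ⊔ U', ?_, ?_, ?_⟩
        · exact sup_le (span_pair_le hm hw) (hU'le.trans (perp2_le B M m w))
        · apply nondeg_sup B halt _ _ hHnd hU'nd
          intro x hx y hy
          exact horth x hx y (hU'le hy)
        · have hd : Disjoint (Submodule.span F ({m, w} : Set V)) U' :=
            hdisj.mono_right hU'le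
          have := Submodule.finrank_sup_add_finrank_inf_eq (Submodule.span F ({m, w} : Set V)) U'
          rw [hd.eq_bot, finrank_bot, add_zero, hH2, hU'fr] at this
          omega

end NDSUB

/-- NDSUB: nondegenerate alternating spaces have even dimension and contain nondegenerate
subspaces of every smaller even dimension -/
theorem exists_nondeg_sub {F V : Type*} [Field F] [AddCommGroup V] [Module F V]
    [FiniteDimensional F V] (B : LinearMap.BilinForm F V) (halt : ∀ v, B v v = 0)
    (M : Submodule F V) (hM : Nondeg B M) :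
    Even (Module.finrank F M) ∧
    ∀ k : ℕ, Even k → k ≤ Module.finrank F M →
      ∃ U : Submodule F V, U ≤ M ∧ Nondeg B U ∧ Module.finrank F U = k :=
  NDSUB.main B halt _ M rfl hM

end Cfsg.Agent.S5961P
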