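import Mathlib
import Cfsg.Prelude.Def_GeometricClasses
import Cfsg.Prelude.Def_ClassicalGeometry
import Cfsg.Agent.Helper23.S5961Defs

set_option autoImplicit false

/-! S5961 piece ISOM: nondegenerate alternating spaces of equal dimension are isometric. -/

namespace Cfsg.Agent.S5961P

open Polynomial Cfsg.Agent.Helper2.SympInvol Cfsg.Agent.Helper2.SympUnits

namespace ISOM

/-- expansion of the form along a hyperbolic pair -/
theorem expand {F V : Type*} [Field F] [AddCommGroup V] [Module F V]
    (B : LinearMap.BilinForm F V) (halt : ∀ v, B v v = 0) {u w x' y' : V} (huw : B u w = 1)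
    (hx1 : B x' u = 0) (hx2 : B x' w = 0) (hy1 : B y' u = 0) (hy2 : B y' w = 0) (α β γ δ : F) :
    B (α • u - β • w + x') (γ • u - δ • w + y') = β * γ - α * δ + B x' y' := by
  have h1 : B w u = -1 := by rw [skew B halt w u, huw]
  have h2 : B u y' = 0 := by rw [skew B halt u y', hy1, neg_zero]
  have h3 : B w y' = 0 := by rw [skew B halt w y', hy2, neg_zero]
  simp only [map_add, map_sub, map_smul, LinearMap.add_apply, LinearMap.sub_apply,
    LinearMap.smul_apply, smul_eq_mul, halt, huw, h1, h2, h3, hx1, hx2]
  ring

/-- a hyperbolic pair in a nonzero nondegenerate subspace -/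
theorem exists_pair {F V : Type*} [Field F] [AddCommGroup V] [Module F V]
    (B : LinearMap.BilinForm F V) (M : Submodule F V) (hM : Nondeg B M) (hbot : M ≠ ⊥) :
    ∃ u ∈ M, ∃ w ∈ M, B u w = 1 := by
  obtain ⟨m, hm, hm0⟩ := Submodule.exists_mem_ne_zero_of_ne_bot hbot
  obtain ⟨v, hv, hmv⟩ := hM m hm hm0
  refine ⟨m, hm, (B m v)⁻¹ • v, M.smul_mem _ hv, ?_⟩
  rw [map_smul, smul_eq_mul, inv_mul_cancel₀ hmv]

theorem main {F V V' : Type*} [Field F] [AddCommGroup V] [Module F V]
    [FiniteDimensional F V] [AddCommGroup V'] [Module F V'] [FiniteDimensional F V']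
    (B : LinearMap.BilinForm F V) (B' : LinearMap.BilinForm F V') (halt : ∀ v, B v v = 0)
    (halt' : ∀ v, B' v v = 0) :
    ∀ (n : ℕ) (M : Submodule F V) (M' : Submodule F V'), Nondeg B M → Nondeg B' M' →
      Module.finrank F M = n → Module.finrank F M' = n →
      ∃ f : V →ₗ[F] V', (∀ x ∈ M, f x ∈ M') ∧ ∀ x ∈ M, ∀ y ∈ M, B' (f x) (f y) = B x y := by
  intro n
  induction n using Nat.strong_induction_on with
  | _ n ih =>
    intro M M' hM hM' hn hn'
    by_cases hbot : M = ⊥
    · subst hbot
      refine ⟨0, fun x _ => by simp, fun x hx y _ => ?_⟩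
      rw [(Submodule.mem_bot F).mp hx]
      simp
    · have hnpos : 0 < n := by
        rw [← hn]
        exact Module.finrank_pos_iff_exists_ne_zero.mpr (by
          obtain ⟨m, hm, hm0⟩ := Submodule.exists_mem_ne_zero_of_ne_bot hbot
          exact ⟨⟨m, hm⟩, fun h => hm0 (congrArg Subtype.val h)⟩)
      have hbot' : M' ≠ ⊥ := by
        intro h
        rw [h, finrank_bot] at hn'
        omega
      obtain ⟨u, hu, w, hw, huw⟩ := exists_pair B M hM hbot
      obtain ⟨u', hu', w', hw', huw'⟩ := exists_pair B' M' hM' hbot'
      have huw0 : B u w ≠ 0 := by rw [huw]; exact one_ne_zero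
      have huw0' : B' u' w' ≠ 0 := by rw [huw']; exact one_ne_zero
      -- the complements
      have hNnd := nondeg_perp2 B halt M hM hu hw huw0
      have hNnd' := nondeg_perp2 B' halt' M' hM' hu' hw' huw0'
      have hfrN : Module.finrank F ↥(perp2 B M u w) + 2 = n := by
        obtain ⟨hdisj, hsup, -⟩ := plane_split halt M hu hw huw0
        have hfr := Submodule.finrank_sup_add_finrank_inf_eq (Submodule.span F ({u, w} : Set V))
          (perp2 B M u w)
        rw [hdisj.eq_bot, finrank_bot, add_zero, hsup, hn, finrank_span_pair_of_ne halt huw0] at hfr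
        omega
      have hfrN' : Module.finrank F ↥(perp2 B' M' u' w') + 2 = n := by
        obtain ⟨hdisj, hsup, -⟩ := plane_split halt' M' hu' hw' huw0'
        have hfr := Submodule.finrank_sup_add_finrank_inf_eq (Submodule.span F ({u', w'} : Set V'))
          (perp2 B' M' u' w')
        rw [hdisj.eq_bot, finrank_bot, add_zero, hsup, hn',
          finrank_span_pair_of_ne halt' huw0'] at hfr
        omega
      obtain ⟨g, hgN, hgB⟩ := ih (n - 2) (by omega) (perp2 B M u w) (perp2 B' M' u' w') hNnd hNnd'
        (by omega) (by omega)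
      -- the glued map
      refine ⟨(LinearMap.flip B w).smulRight u' - (LinearMap.flip B u).smulRight w' +
        g ∘ₗ (LinearMap.id - (LinearMap.flip B w).smulRight u + (LinearMap.flip B u).smulRight w), ?_, ?_⟩
      · intro x hx
        simp only [LinearMap.add_apply, LinearMap.sub_apply, LinearMap.smulRight_apply,
          LinearMap.flip_apply, LinearMap.comp_apply, LinearMap.id_apply]
        refine M'.add_mem (M'.sub_mem (M'.smul_mem _ hu') (M'.smul_mem _ hw')) ?_
        apply perp2_le B' M' u' w'
        apply hgN
        refine ⟨M.add_mem (M.sub_mem hx (M.smul_mem _ hu)) (M.smul_mem _ hw), ?_, ?_⟩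
        · have h1 : B w u = -1 := by rw [skew B halt w u, huw]
          simp only [map_add, map_sub, map_smul, LinearMap.add_apply, LinearMap.sub_apply,
            LinearMap.smul_apply, smul_eq_mul, halt, h1]
          ring
        · simp only [map_add, map_sub, map_smul, LinearMap.add_apply, LinearMap.sub_apply,
            LinearMap.smul_apply, smul_eq_mul, halt, huw]
          ring
      · intro x hx y hy
        have key : ∀ z ∈ M, z - B z w • u + B z u • w ∈ perp2 B M u w := by
          intro z hz
          refine ⟨M.add_mem (M.sub_mem hz (M.smul_mem _ hu)) (M.smul_mem _ hw), ?_, ?_⟩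
          · have h1 : B w u = -1 := by rw [skew B halt w u, huw]
            simp only [map_add, map_sub, map_smul, LinearMap.add_apply, LinearMap.sub_apply,
              LinearMap.smul_apply, smul_eq_mul, halt, h1]
            ring
          · simp only [map_add, map_sub, map_smul, LinearMap.add_apply, LinearMap.sub_apply,
              LinearMap.smul_apply, smul_eq_mul, halt, huw]
            ring
        have hx' := key x hx
        have hy' := key y hy
        have hgx := hgN _ hx'
        have hgy := hgN _ hy'
        simp only [LinearMap.add_apply, LinearMap.sub_apply, LinearMap.smulRight_apply,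
          LinearMap.flip_apply, LinearMap.comp_apply, LinearMap.id_apply]
        rw [expand B' halt' huw' hgx.2.1 hgx.2.2 hgy.2.1 hgy.2.2, hgB _ hx' _ hy']
        have ex : x = B x w • u - B x u • w + (x - B x w • u + B x u • w) := by abel
        have ey : y = B y w • u - B y u • w + (y - B y w • u + B y u • w) := by abel
        conv_rhs => rw [ex, ey]
        rw [expand B halt huw hx'.2.1 hx'.2.2 hy'.2.1 hy'.2.2]

end ISOM

/-- ISOM: nondegenerate alternating spaces of equal dimension are isometric -/
theorem exists_isometry {F V V' : Type*} [Field F] [AddCommGroup V] [Module F V]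
    [FiniteDimensional F V] [AddCommGroup V'] [Module F V'] [FiniteDimensional F V']
    (B : LinearMap.BilinForm F V) (B' : LinearMap.BilinForm F V') (halt : ∀ v, B v v = 0)
    (halt' : ∀ v, B' v v = 0) (hnd : Nondeg B ⊤) (hnd' : Nondeg B' ⊤)
    (h : Module.finrank F V = Module.finrank F V') :
    ∃ e : V ≃ₗ[F] V', ∀ u v, B' (e u) (e v) = B u v := by
  obtain ⟨f, -, hf⟩ := ISOM.main B B' halt halt' (Module.finrank F V) ⊤ ⊤ hnd hnd'
    (finrank_top F V) (by rw [finrank_top, h])
  have hinj : Function.Injective f := by
    rw [← LinearMap.ker_eq_bot, LinearMap.ker_eq_bot']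
    intro x hx
    by_contra hx0
    obtain ⟨v, -, hv⟩ := hnd x trivial hx0
    apply hv
    rw [← hf x trivial v trivial, hx]
    simp
  refine ⟨f.linearEquivOfInjective hinj h, fun u v => ?_⟩
  rw [LinearMap.linearEquivOfInjective_apply, LinearMap.linearEquivOfInjective_apply]
  exact hf u trivial v trivial

end Cfsg.Agent.S5961P
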