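import Mathlib
import Cfsg.Agent.Helper5.VL.Defs

set_option autoImplicit false
set_option linter.style.haveILetI false
set_option linter.unusedSectionVars false
set_option linter.unusedVariables false

/-!
# S3777 board, piece IDX: adjoining an element outside `K ≥ Phi` divides the index by `p`.
(Self-contained: private copies of PHI1/PHI2/PHI3.)
-/

namespace Cfsg.Agent.Helper5.VL

open Subgroup
open scoped commutatorElement

universe u
variable {p : ℕ} [Fact p.Prime] {G : Type u} [Group G] [Finite G]

omit [Finite G] in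
private theorem IDX_aux_pow_mem_Phi (x : G) : x ^ p ∈ Phi p G := by
  rw [mem_Phi]
  intro φ
  rw [map_pow]
  apply Multiplicative.toAdd.injective
  rw [toAdd_pow, toAdd_one, nsmul_eq_mul, ZMod.natCast_self, zero_mul]

omit [Finite G] [Fact p.Prime] in
private theorem IDX_aux_normal_of_Phi_le {K : Subgroup G} (hK : Phi p G ≤ K) : K.Normal := by
  refine ⟨fun k hk g => ?_⟩
  have h1 : g * k * g⁻¹ = ⁅g, k⁆ * k := by rw [commutatorElement_def]; group
  rw [h1]
  refine K.mul_mem (hK ?_) hk
  rw [mem_Phi]
  intro φ
  rw [map_commutatorElement, commutatorElement_eq_one_iff_commute]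
  exact Commute.all _ _

/-- IDX -/
theorem index_sup_zpowers {K : Subgroup G} (hK : Phi p G ≤ K) {x : G} (hx : x ∉ K) :
    (K ⊔ zpowers x).index * p = K.index := by
  have hp : p.Prime := Fact.out
  haveI hKn : K.Normal := IDX_aux_normal_of_Phi_le hK
  have hxp : x ^ p ∈ K := hK (IDX_aux_pow_mem_Phi x)
  have h1 : K.relIndex (K ⊔ zpowers x) * (K ⊔ zpowers x).index = K.index :=
    Subgroup.relIndex_mul_index le_sup_left
  have h2 : K.relIndex (K ⊔ zpowers x) = K.relIndex (zpowers x) :=
    Subgroup.relIndex_sup_left (zpowers x) K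
  have h3 : K.relIndex (zpowers x) = p := by
    have hker : ((⊥ : Subgroup (G ⧸ K)).comap (QuotientGroup.mk' K)) = K := by
      ext g
      rw [Subgroup.mem_comap, Subgroup.mem_bot]
      exact QuotientGroup.eq_one_iff g
    have h4 : ((⊥ : Subgroup (G ⧸ K)).comap (QuotientGroup.mk' K)).relIndex (zpowers x)
        = p := by
      rw [Subgroup.relIndex_comap, MonoidHom.map_zpowers, Subgroup.relIndex_bot_left,
        Nat.card_zpowers]
      apply orderOf_eq_prime
      · rw [← map_pow]
        exact (QuotientGroup.eq_one_iff _).mpr hxp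
      · intro h
        exact hx ((QuotientGroup.eq_one_iff x).mp h)
    rw [hker] at h4
    exact h4
  rw [← h1, h2, h3, mul_comm]

end Cfsg.Agent.Helper5.VL
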