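import Mathlib
import Cfsg.Prelude.Def_OddOrderLocal
import Cfsg.Agent.Helper16.BG11c
import Cfsg.Agent.Helper28.BG11SIG
import Cfsg.Agent.Helper19.Cores
import Cfsg.Agent.Helper14.Amalgam6
import Cfsg.Agent.Helper23.Cyclic

/-!
# B&G 13.7 / configuration (*), piece P5: `π(Y) ⊆ β(M)`

`p ∈ κ(M)`, `X ≤ M` of order `p`, `Y = C_{M_σ}(X)`, `H ≥ N_M(X)` with `M ∩ H ≤ C(Y)`, and `q < p`
a prime divisor of `|Y|`: then `q ∈ β(M)`.
-/

set_option autoImplicit false
set_option linter.unusedSectionVars false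
set_option linter.unusedVariables false
set_option linter.style.haveILetI false

namespace Cfsg.Agent.Helper18.BG13P5

open Subgroup Cfsg
open Cfsg.Agent.Helper14 (IsSylowIn cj cj_apply exists_isSylowIn_ge map_cj_centralizer
  mem_normalizer_iff_map_cj le_normalizer_of_map_cj_le mem_map_cj cj_injective)
open Cfsg.Agent.Helper16.BG11 (BG)

universe u
variable {G : Type u} [Group G] [Finite G]

/-- for `p ∈ κ(M)` every `p`-subgroup of `M` is cyclic -/
theorem isCyclic_of_mem_kappa {M : Subgroup G} {p : ℕ} [hp : Fact p.Prime] (hpκ : p ∈ Cfsg.kappa M)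
    {T : Subgroup G} (hTM : T ≤ M) (hT : IsPGroup p T) : IsCyclic T := by
  obtain ⟨P, hP, hTP⟩ := exists_isSylowIn_ge hTM hT
  have hc : IsCyclic ↥(hP.toSylow : Subgroup M) := (hpκ.2.2.2 hP.toSylow).1
  have hmap : ((hP.toSylow : Subgroup M)).map M.subtype = P := hP.toSylow_map
  have e : ↥(hP.toSylow : Subgroup M) ≃* ↥P :=
    ((hP.toSylow : Subgroup M).equivMapOfInjective _ M.subtype_injective).trans
      (MulEquiv.subgroupCongr hmap)
  haveI : IsCyclic ↥P := isCyclic_of_surjective e e.surjective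
  have e2 : ↥(T.subgroupOf P) ≃* ↥T := Subgroup.subgroupOfEquivOfLe hTP
  exact isCyclic_of_surjective e2 e2.surjective

/-- the case `X ≤ O_{q'}(M)` is impossible -/
theorem false_of_centralizes (h : BG G) {M H X : Subgroup G} (hM : IsCoatom M) {p : ℕ}
    [hp : Fact p.Prime] (hcyc : ∀ T : Subgroup G, T ≤ M → IsPGroup p T → IsCyclic T)
    (hXM : X ≤ M) (hXp : Nat.card X = p)
    (hI : M ⊓ H ≤ centralizer ((Cfsg.sigmaCore M ⊓ centralizer (X : Set G) : Subgroup G) : Set G))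
    (hNX : M ⊓ normalizer (X : Set G) ≤ H)
    {q : ℕ} [hq : Fact q.Prime] (hqσ : q ∈ Cfsg.sigma M) {Q : Subgroup G}
    (hQ : IsSylowIn q Q (Cfsg.sigmaCore M)) (hQX : Q ≤ centralizer (X : Set G)) : False := by
  have hQM : IsSylowIn q Q M := Cfsg.Agent.Helper16.BG11.isSylowIn_of_sigmaCore h hM hqσ hQ
  have hNQ : normalizer (Q : Set G) ≤ M := Cfsg.Agent.Helper4.BG10.sigma_normalizer_le hqσ hQM
  have hQ1 : Q ≠ ⊥ := Cfsg.Agent.Helper4.BG10.sigma_ne_bot hqσ hQM
  have hQtop : IsSylowIn q Q ⊤ := Cfsg.Agent.Helper4.BG10.sigma_isSylowIn_top hqσ hQM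
  obtain ⟨S, hQS⟩ := IsPGroup.exists_le_sylow hQtop.2.1
  have hSQ : (S : Subgroup G) = Q := hQtop.2.2 _ le_top S.isPGroup' hQS
  -- a complement `V` of `Q` in its normalizer
  have hcop : (Nat.card Q).Coprime (Q.relIndex (normalizer (Q : Set G))) := by
    have h1 : (Nat.card (S : Subgroup G)).Coprime (S : Subgroup G).index := S.card_coprime_index
    rw [hSQ] at h1
    exact Nat.Coprime.coprime_dvd_right
      (Dvd.intro _ (Subgroup.relIndex_mul_index (le_normalizer (H := Q)))) h1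
  obtain ⟨V, hV⟩ := Cfsg.Agent.Helper28.BG11.exists_complIn_of_coprime
    (le_normalizer (H := Q)) le_rfl hcop
  have h1411 := h.s1411 q S V (by rw [hSQ]; exact hV)
  rw [hSQ] at h1411
  have hQV : Q = ⁅Q, V⁆ := h1411.1
  have hVN : V ≤ normalizer (Q : Set G) := hV.2.1
  -- `V` centralizes `Q`
  set C : Subgroup G := centralizer (Q : Set G) with hC
  have hCN : C ≤ normalizer (Q : Set G) := centralizer_le_normalizer _
  have hNC : normalizer (Q : Set G) ≤ normalizer (C : Set G) := by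
    apply le_normalizer_of_map_cj_le
    intro g hg
    rw [hC, map_cj_centralizer, mem_normalizer_iff_map_cj.mp hg]
  have hXC : X ≤ C := by
    rw [hC]
    exact Subgroup.le_centralizer_iff.mp hQX
  have hXpg : IsPGroup p X := IsPGroup.of_card (n := 1) (by rw [hXp, pow_one])
  obtain ⟨T, hT, hXT⟩ := exists_isSylowIn_ge hXC hXpg
  have hTM : T ≤ M := hT.1.trans (hCN.trans hNQ)
  have hTc : IsCyclic T := hcyc T hTM hT.2.1
  have hNTX : normalizer (T : Set G) ≤ normalizer (X : Set G) := by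
    apply le_normalizer_of_map_cj_le
    intro g hg
    have h1 : X.map (cj g) ≤ T := by
      rw [← mem_normalizer_iff_map_cj.mp hg]
      exact Subgroup.map_mono hXT
    have h2 : Nat.card (X.map (cj g)) = Nat.card X :=
      Subgroup.card_map_of_injective (cj_injective g)
    exact (Cfsg.Agent.Helper23.eq_of_card_eq_of_isCyclic T hTc _ _ h1 hXT h2).le
  have hfr := Cfsg.Agent.Helper14.frattini_ambient (p := p) hCN hNC hT
  have hQY : Q ≤ Cfsg.sigmaCore M ⊓ centralizer (X : Set G) := le_inf hQ.1 hQX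
  have hVC : V ≤ C := by
    intro v hv
    have h1 := hfr (hVN hv)
    refine (sup_le le_rfl ?_ : C ⊔ (normalizer (Q : Set G) ⊓ normalizer (T : Set G)) ≤ C) h1
    intro n hn
    have hnM : n ∈ M := hNQ hn.1
    have hnH : n ∈ H := hNX ⟨hnM, hNTX hn.2⟩
    have h2 := hI ⟨hnM, hnH⟩
    rw [hC]
    exact Subgroup.centralizer_le (by exact_mod_cast hQY) h2
  apply hQ1
  rw [hQV, eq_bot_iff, Subgroup.commutator_le]
  intro a ha b hb
  rw [Subgroup.mem_bot, commutatorElement_eq_one_iff_commute]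
  have := Subgroup.mem_centralizer_iff.mp (hVC hb) a ha
  exact this

/-- **P5.**  Every prime divisor `q < p` of `|C_{M_σ}(X)|` lies in `β(M)`. -/
theorem pi_Y_subset_beta_core (h : BG G) {M H X : Subgroup G} (hM : IsCoatom M) {p : ℕ}
    [hp : Fact p.Prime] (hpσ : p ∉ Cfsg.sigma M)
    (hcyc : ∀ T : Subgroup G, T ≤ M → IsPGroup p T → IsCyclic T)
    (hXM : X ≤ M) (hXp : Nat.card X = p)
    (hI : M ⊓ H ≤ centralizer ((Cfsg.sigmaCore M ⊓ centralizer (X : Set G) : Subgroup G) : Set G))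
    (hNX : M ⊓ normalizer (X : Set G) ≤ H)
    {q : ℕ} (hq : q.Prime) (hqp : q < p)
    (hqY : q ∣ Nat.card ↥(Cfsg.sigmaCore M ⊓ centralizer (X : Set G))) : q ∈ Cfsg.beta M := by
  by_contra hqβ
  haveI : Fact q.Prime := ⟨hq⟩
  have hqσ : q ∈ Cfsg.sigma M :=
    Cfsg.Agent.H9.BG12.mem_sigma_of_dvd_card_sigmaCore hq
      (hqY.trans (Subgroup.card_dvd_of_le inf_le_left))
  have hqM : q ∣ Nat.card M := hqσ.2.1
  have hXpg : IsPGroup p X := IsPGroup.of_card (n := 1) (by rw [hXp, pow_one])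
  have hXn : X ≤ normalizer (Cfsg.sigmaCore M : Set G) :=
    hXM.trans (Cfsg.Agent.H9.BG12.le_normalizer_sigmaCore M)
  have hcop : (Nat.card X).Coprime (Nat.card (Cfsg.sigmaCore M)) :=
    Cfsg.Agent.Helper16.BG11.coprime_card_sigmaCore hpσ hXpg
  have hXsolv : Group.IsSolvable X := Cfsg.Agent.Helper16.BG11.solv_of_le h hM hXM
  obtain ⟨Q, hQ, hXQ⟩ :=
    Cfsg.Agent.Helper16.BG11.exists_invariant_sylow X (Cfsg.sigmaCore M) hXn hcop (Or.inl hXsolv) q
  -- the `q'`-core of `M`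
  set W : Subgroup G := (Cfsg.pPrimeCore q ↥M).map M.subtype with hW
  have hWcop : (Nat.card W).Coprime q := by
    have hcard : Nat.card W = Nat.card (Cfsg.pPrimeCore q ↥M) :=
      Nat.card_congr ((Cfsg.pPrimeCore q ↥M).equivMapOfInjective _ M.subtype_injective).symm.toEquiv
    rw [hcard]
    exact Cfsg.Agent.Helper19.pPrimeCore_coprime q
  have hMW : M ≤ normalizer (W : Set G) := by
    apply le_normalizer_of_map_cj_le
    rintro a ha _ ⟨_, ⟨y, hy, rfl⟩, rfl⟩
    have hn : (Cfsg.pPrimeCore q ↥M).Normal := inferInstance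
    exact ⟨⟨a, ha⟩ * y * ⟨a, ha⟩⁻¹, hn.conj_mem y hy ⟨a, ha⟩, by simp⟩
  by_cases hXW : X ≤ W
  · -- then `[Q, X] ≤ Q ⊓ W = 1`
    apply false_of_centralizes h hM hcyc hXM hXp hI hNX hqσ hQ
    have hQM : Q ≤ M := hQ.1.trans (Cfsg.Agent.H9.BG12.sigmaCore_le M)
    have hQW : Q ⊓ W = ⊥ := by
      apply (Subgroup.disjoint_of_coprime_natCard ?_).eq_bot
      obtain ⟨k, hk⟩ := IsPGroup.iff_card.mp hQ.2.1
      rw [hk]
      exact Nat.Coprime.pow_left k hWcop.symm
    intro a ha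
    rw [Subgroup.mem_centralizer_iff]
    intro x hx
    -- `a x a⁻¹ x⁻¹ ∈ Q ⊓ W`
    have h1 : a * x * a⁻¹ * x⁻¹ ∈ Q ⊓ W := by
      refine Subgroup.mem_inf.mpr ⟨?_, ?_⟩
      · have h2 : x * a⁻¹ * x⁻¹ ∈ Q := by
          have := (Subgroup.mem_normalizer_iff.mp (hXQ hx) a⁻¹).mp (Q.inv_mem ha)
          exact this
        have : a * x * a⁻¹ * x⁻¹ = a * (x * a⁻¹ * x⁻¹) := by group
        rw [this]
        exact Q.mul_mem ha h2
      · have h2 : a * x * a⁻¹ ∈ W :=
          (Subgroup.mem_normalizer_iff.mp (hMW (hQM ha)) x).mp (hXW hx)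
        exact W.mul_mem h2 (W.inv_mem (hXW hx))
    rw [hQW, Subgroup.mem_bot] at h1
    calc x * a = (a * x * a⁻¹ * x⁻¹)⁻¹ * (a * x) := by group
      _ = a * x := by rw [h1, inv_one, one_mul]
  · -- `p` divides the index of `O_{q'}(M)` in `M`
    have hdvd : p ∣ (Cfsg.pPrimeCore q ↥M).index := by
      by_contra hnd
      apply hXW
      intro x hx
      have hxM : x ∈ M := hXM hx
      have h1 : (⟨x, hxM⟩ : ↥M) ^ (Cfsg.pPrimeCore q ↥M).index ∈ Cfsg.pPrimeCore q ↥M :=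
        Subgroup.pow_index_mem _ _
      have h2 : (⟨x, hxM⟩ : ↥M) ^ p = 1 := by
        apply Subtype.ext
        have : (⟨x, hx⟩ : ↥X) ^ Nat.card X = 1 := pow_card_eq_one'
        rw [hXp] at this
        have h3 := congrArg Subtype.val this
        simpa using h3
      have hc : (Cfsg.pPrimeCore q ↥M).index.Coprime p :=
        ((Nat.Prime.coprime_iff_not_dvd hp.out).mpr hnd).symm
      have hc' : (Cfsg.pPrimeCore q ↥M).index.Coprime (orderOf (⟨x, hxM⟩ : ↥M)) :=
        Nat.Coprime.coprime_dvd_right (orderOf_dvd_of_pow_eq_one h2) hc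
      obtain ⟨m, hm⟩ := exists_pow_eq_self_of_coprime hc'
      have h4 : (⟨x, hxM⟩ : ↥M) ∈ Cfsg.pPrimeCore q ↥M := by
        rw [← hm]
        exact Subgroup.pow_mem _ h1 m
      exact ⟨⟨x, hxM⟩, h4, rfl⟩
    have hle := (h.s1414 M hM).2.2.2.2 q hq hqM hqβ
    have := hle.2.2 p hp.out hdvd
    omega

/-- **P5** in the form asked for by helper9 (msg 957), with the extra hypothesis `|Y| ∣ p - 1`. -/
theorem pi_Y_subset_beta (h : BG G) {M H X : Subgroup G} (hM : IsCoatom M) {p : ℕ}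
    [hp : Fact p.Prime] (hpκ : p ∈ Cfsg.kappa M) (hXM : X ≤ M) (hXp : Nat.card X = p)
    (hI : M ⊓ H ≤ centralizer ((Cfsg.sigmaCore M ⊓ centralizer (X : Set G) : Subgroup G) : Set G))
    (hNX : M ⊓ normalizer (X : Set G) ≤ H)
    (hYp : Nat.card ↥(Cfsg.sigmaCore M ⊓ centralizer (X : Set G)) ∣ p - 1)
    {q : ℕ} (hq : q.Prime)
    (hqY : q ∣ Nat.card ↥(Cfsg.sigmaCore M ⊓ centralizer (X : Set G))) : q ∈ Cfsg.beta M := by
  have hqp : q < p := by
    have h1 : q ∣ p - 1 := hqY.trans hYp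
    have h2 : 0 < p - 1 := by have := hp.out.two_le; omega
    have := Nat.le_of_dvd h2 h1
    omega
  exact pi_Y_subset_beta_core h hM hpκ.2.2.1 (fun T hTM hT => isCyclic_of_mem_kappa hpκ hTM hT)
    hXM hXp hI hNX hq hqp hqY

end Cfsg.Agent.Helper18.BG13P5
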