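import Mathlib
import Cfsg.Prelude.Def_OddOrderLocal
import Cfsg.Agent.Helper16.BG11c
import Cfsg.Agent.Helper9.BG12n
import Cfsg.Agent.Helper4.BG10f
import Cfsg.Agent.Helper21.BG12f

/-!
# B&G 13.7 / configuration (*), piece P8: `r_q(M₂) = 1`

`Q` of prime order `q` with `C_G(Q) ≤ M`, `Q ≤ M₂ ≠ M`, `q ∉ σ(M₂)`, and a nontrivial
`X ≤ (M₂)_σ ∩ M`: then every `q`-subgroup of `M₂` is cyclic.
-/

set_option autoImplicit false
set_option linter.unusedSectionVars false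
set_option linter.unusedVariables false
set_option linter.style.haveILetI false

namespace Cfsg.Agent.Helper18.BG13P8

open Subgroup Cfsg
open Cfsg.Agent.Helper14 (IsSylowIn exists_isSylowIn_ge)
open Cfsg.Agent.Helper16.BG11 (BG)
open Cfsg.Agent.H9.BG12 (St1417)

universe u
variable {G : Type u} [Group G] [Finite G]

/-- **P8.** -/
theorem isCyclic_of_centralizer_le (h : BG G) (h1417 : St1417 G) {M M₂ X Q : Subgroup G}
    (hM : IsCoatom M) (hM₂ : IsCoatom M₂) (hne : M ≠ M₂) {q : ℕ} [hq : Fact q.Prime]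
    (hqσ₂ : q ∉ Cfsg.sigma M₂) (hQ : Nat.card Q = q) (hQM₂ : Q ≤ M₂)
    (hCQ : centralizer (Q : Set G) ≤ M) (hX1 : X ≠ ⊥) (hXσ₂ : X ≤ Cfsg.sigmaCore M₂)
    (hXM : X ≤ M) :
    ∀ S : Subgroup G, S ≤ M₂ → IsPGroup q S → IsCyclic S := by
  intro S hSM₂ hS
  by_contra hnc
  have hG := h.hG
  have hQq : IsPGroup q Q := IsPGroup.of_card (n := 1) (by rw [hQ, pow_one])
  have hq2 : q ≠ 2 := by
    apply Cfsg.Agent.H9.BG12.prime_ne_two_of_dvd hG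
    exact (hQ ▸ Subgroup.card_subgroup_dvd_card Q)
  obtain ⟨A₁, hA₁S, hA₁e, hA₁c⟩ := Cfsg.Agent.H9.BG12.exists_elemAb_sq_le hG hS hnc
  have hr1 : ¬ Cfsg.PRankLE q 1 M₂ :=
    Cfsg.Agent.Helper16.BG11.not_pRankLE_one_of_elemAb (hA₁S.trans hSM₂) hA₁e hA₁c
  have hr2 : Cfsg.PRankLE q 2 M₂ :=
    Cfsg.Agent.Helper16.BG11.pRankLE_two_of_not_mem_sigma h hM₂ hqσ₂
  have hqτ : q ∈ Cfsg.tau2 M₂ := ⟨hq.out, hqσ₂, hr2, hr1⟩
  obtain ⟨S', hS', hQS'⟩ := exists_isSylowIn_ge hQM₂ hQq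
  obtain ⟨A₂, hA₂S', hA₂e, hA₂c⟩ :=
    Cfsg.Agent.Helper21.BG12.exists_elementary_sq_le_sylow hr2 hr1 hS'
  have hS'nc : ¬ IsCyclic S' := by
    apply Cfsg.Agent.Lead.BG9.not_isCyclic_of_not_pRankLE (p := q)
    apply Cfsg.Agent.Lead.BG9.not_pRankLE_of_elementary hA₂S' hA₂e
    rw [hA₂c]
    exact Nat.pow_lt_pow_right hq.out.one_lt (by norm_num)
  obtain ⟨B, hBS', hBe, hBc, hQB⟩ :=
    Cfsg.Agent.Helper4.BG10.exists_elementary_sq_ge hq2 hS'.2.1 hS'nc hQS' hQ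
  have hBM₂ : B ≤ M₂ := hBS'.trans hS'.1
  have hBM : B ≤ M := by
    refine le_trans ?_ hCQ
    intro b hb
    rw [Subgroup.mem_centralizer_iff]
    intro x hx
    have := hBe.1.is_comm.comm ⟨x, hQB hx⟩ ⟨b, hb⟩
    exact congrArg Subtype.val this
  obtain ⟨-, -, -, -, h5, -⟩ := h1417 M₂ hM₂ q hqτ B ⟨hBM₂, hBe, hBc⟩
  have h6 := h5 M hM hne hBM
  apply hX1
  rw [eq_bot_iff, ← h6]
  exact le_inf hXσ₂ hXM

end Cfsg.Agent.Helper18.BG13P8
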