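import Mathlib
import Cfsg.Prelude.Def_Transfer
import Cfsg.Agent.Helper14.Frattini
import Cfsg.Agent.Helper1.PGroup

set_option autoImplicit false

namespace Cfsg.Agent.Helper18

open scoped commutatorElement

/-- abstract Heisenberg coordinates on a group -/
structure HeisCoord (F : Type*) [Field F] (G : Type*) [Group G] where
  h : F → F → F → G
  mul : ∀ b x y b' x' y', h b x y * h b' x' y' = h (b + b') (x + x' + b * y') (y + y')
  surj : ∀ g, ∃ b x y, g = h b x y
  inj : ∀ b x y b' x' y', h b x y = h b' x' y' → b = b' ∧ x = x' ∧ y = y'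

namespace HeisCoord

variable {F : Type*} [Field F] {G : Type*} [Group G]

theorem one (H : HeisCoord F G) : H.h 0 0 0 = 1 := by
  have := H.mul 0 0 0 0 0 0
  simp only [add_zero, mul_zero] at this
  exact mul_eq_left.mp this |> fun h => h

theorem pow (H : HeisCoord F G) (b x y : F) (n : ℕ) :
    H.h b x y ^ n = H.h (n * b) (n * x + (n.choose 2 : ℕ) * (b * y)) (n * y) := by
  induction n with
  | zero => simp [H.one]
  | succ n ih =>
    rw [pow_succ, ih, H.mul]
    have hc : ((n + 1).choose 2 : ℕ) = n.choose 2 + n := by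
      rw [Nat.choose_succ_succ' n 1, Nat.choose_one_right]; ring
    congr 1
    · push_cast; ring
    · rw [hc]; push_cast; ring
    · push_cast; ring

theorem commutator (H : HeisCoord F G) (b x y b' x' y' : F) :
    ⁅H.h b x y, H.h b' x' y'⁆ = H.h 0 (b * y' - b' * y) 0 := by
  have h1 : H.h b x y * H.h b' x' y' = H.h 0 (b * y' - b' * y) 0 * (H.h b' x' y' * H.h b x y) := by
    rw [H.mul, H.mul, H.mul]
    congr 1
    · ring
    · ring
    · ring
  rw [commutatorElement_def, mul_assoc, ← mul_inv_rev, h1, mul_inv_cancel_right]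

theorem mem_center_iff (H : HeisCoord F G) (g : G) : g ∈ Subgroup.center G ↔ ∃ x, g = H.h 0 x 0 := by
  rw [Subgroup.mem_center_iff]
  constructor
  · intro hg
    obtain ⟨b, x, y, rfl⟩ := H.surj g
    have h1 := hg (H.h 0 0 1)
    have h2 := hg (H.h 1 0 0)
    rw [H.mul, H.mul] at h1 h2
    obtain ⟨-, h1, -⟩ := H.inj _ _ _ _ _ _ h1
    obtain ⟨-, h2, -⟩ := H.inj _ _ _ _ _ _ h2
    have hb : b = 0 := by
      have : (0:F) = b := by linear_combination h1
      exact this.symm
    have hy : y = 0 := by linear_combination h2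
    exact ⟨x, by rw [hb, hy]⟩
  · rintro ⟨x, rfl⟩ g
    obtain ⟨b', x', y', rfl⟩ := H.surj g
    rw [H.mul, H.mul]
    congr 1
    · ring
    · ring
    · ring

/-- the coordinate equivalence -/
noncomputable def equiv (H : HeisCoord F G) : F × F × F ≃ G :=
  Equiv.ofBijective (fun t => H.h t.1 t.2.1 t.2.2)
    ⟨by
      rintro ⟨b, x, y⟩ ⟨b', x', y'⟩ h
      obtain ⟨h1, h2, h3⟩ := H.inj _ _ _ _ _ _ h
      simp only at h1 h2 h3
      rw [h1, h2, h3],
     by
      intro g
      obtain ⟨b, x, y, rfl⟩ := H.surj g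
      exact ⟨(b, x, y), rfl⟩⟩

/-- the centre equivalence -/
noncomputable def centerEquiv (H : HeisCoord F G) : F ≃ Subgroup.center G :=
  Equiv.ofBijective (fun x => ⟨H.h 0 x 0, (H.mem_center_iff _).2 ⟨x, rfl⟩⟩)
    ⟨by
      intro x x' h
      have h' := congrArg Subtype.val h
      exact (H.inj _ _ _ _ _ _ h').2.1,
     by
      rintro ⟨g, hg⟩
      obtain ⟨x, rfl⟩ := (H.mem_center_iff g).1 hg
      exact ⟨x, rfl⟩⟩

theorem commutator_eq_center (H : HeisCoord F G) : _root_.commutator G = Subgroup.center G := by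
  apply le_antisymm
  · rw [_root_.commutator_def, Subgroup.commutator_le]
    intro g₁ _ g₂ _
    obtain ⟨b, x, y, rfl⟩ := H.surj g₁
    obtain ⟨b', x', y', rfl⟩ := H.surj g₂
    rw [H.commutator, H.mem_center_iff]
    exact ⟨_, rfl⟩
  · intro g hg
    obtain ⟨x, rfl⟩ := (H.mem_center_iff g).1 hg
    have : H.h 0 x 0 = ⁅H.h x 0 0, H.h 0 0 1⁆ := by
      rw [H.commutator]; congr 1; ring
    rw [this, _root_.commutator_def]
    exact Subgroup.commutator_mem_commutator (Subgroup.mem_top _) (Subgroup.mem_top _)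

section zmod

variable {p : ℕ} [hp : Fact p.Prime]

theorem card (K : HeisCoord (ZMod p) G) : Nat.card G = p ^ 3 := by
  rw [← Nat.card_congr K.equiv, Nat.card_prod, Nat.card_prod, Nat.card_zmod]; ring

theorem card_center (K : HeisCoord (ZMod p) G) : Nat.card (Subgroup.center G) = p := by
  rw [← Nat.card_congr K.centerEquiv, Nat.card_zmod]

theorem finite (K : HeisCoord (ZMod p) G) : Finite G := Nat.finite_of_card_ne_zero (by
  rw [K.card]; exact pow_ne_zero _ hp.out.ne_zero)

theorem pow_p (K : HeisCoord (ZMod p) G) (hp2 : p ≠ 2) (g : G) : g ^ p = 1 := by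
  obtain ⟨b, x, y, rfl⟩ := K.surj g
  rw [K.pow]
  have h0 : ((p : ℕ) : ZMod p) = 0 := ZMod.natCast_self p
  have hc : ((p.choose 2 : ℕ) : ZMod p) = 0 := by
    rw [ZMod.natCast_eq_zero_iff]
    apply hp.out.dvd_choose_self (by norm_num)
    have := hp.out.two_le
    omega
  rw [h0, hc, zero_mul, zero_mul, zero_mul, zero_mul, add_zero, K.one]

theorem isPGroup (K : HeisCoord (ZMod p) G) (hp2 : p ≠ 2) : IsPGroup p G := fun g => ⟨1, by rw [pow_one]; exact K.pow_p hp2 g⟩

theorem exponent (K : HeisCoord (ZMod p) G) (hp2 : p ≠ 2) : Monoid.exponent G = p := by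
  have hdvd : Monoid.exponent G ∣ p := Monoid.exponent_dvd_of_forall_pow_eq_one (K.pow_p hp2)
  rcases (Nat.dvd_prime hp.out).1 hdvd with h | h
  · exfalso
    rw [Monoid.exp_eq_one_iff] at h
    have := K.card
    rw [Nat.card_unique] at this
    have h2 : 1 < p ^ 3 := Nat.one_lt_pow (by norm_num) hp.out.one_lt
    omega
  · exact h

theorem isExtraspecial (K : HeisCoord (ZMod p) G) (hp2 : p ≠ 2) : Cfsg.IsExtraspecial p G := by
  haveI := K.finite
  refine ⟨⟨K.isPGroup hp2, ?_, K.commutator_eq_center⟩, K.card_center⟩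
  apply le_antisymm
  · apply Helper14.frattini_le_of_elemAb p
    · intro a b
      rw [← K.commutator_eq_center, _root_.commutator_def]
      exact Subgroup.commutator_mem_commutator (Subgroup.mem_top _) (Subgroup.mem_top _)
    · intro a
      rw [K.pow_p hp2]; exact Subgroup.one_mem _
  · rw [← K.commutator_eq_center]
    exact Helper1.IsPGroup.commutator_le_frattini (K.isPGroup hp2)

end zmod

end HeisCoord

end Cfsg.Agent.Helper18
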