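import Mathlib
import Cfsg.Prelude.Def_GeometricClasses
import Cfsg.Agent.Helper28.OrthSim3
import Cfsg.Agent.Helper8.OS6Defs

set_option autoImplicit false

namespace Cfsg.Agent.OS6P

open Matrix Module Cfsg.Agent.Helper28.Sg Cfsg.Agent.Helper28.Spin Cfsg.Agent.Helper28.SLMax
  Cfsg.Agent.Helper28.SimMax Cfsg.Agent.Helper28.OSim

variable {F : Type*} [Field F] {n : ℕ} {Q : QuadraticForm F (Fin n → F)}

/-! ## piece SPUNIV (M): the orthogonal complement of a nondegenerate subspace of codimension `≥ 2`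
represents every scalar (finite field). -/
theorem SPUNIV.main [Finite F] (hQ : (QuadraticMap.polarBilin Q).Nondegenerate)
    (S : Submodule F (Fin n → F)) (hS : ∀ x ∈ S, (∀ y ∈ S, B Q x y = 0) → x = 0)
    (hdim : finrank F S + 2 ≤ n) (t : F) :
    ∃ u : Fin n → F, (∀ s ∈ S, B Q s u = 0) ∧ Q u = t := by
  classical
  set Bf := QuadraticMap.polarBilin Q with hBf
  set P := LinearMap.BilinForm.orthogonal Bf S with hP
  have hPmem : ∀ x, x ∈ P ↔ ∀ s ∈ S, B Q s x = 0 := fun x => Iff.rfl
  have hPdim : finrank F P = n - finrank F S := by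
    rw [hP, LinearMap.BilinForm.finrank_orthogonal hQ S, Module.finrank_fin_fun]
  have h2 : 2 ≤ finrank F P := by omega
  by_cases haniso : ∀ v : P, (Q.comp P.subtype) v = 0 → v = 0
  · obtain ⟨v, hv⟩ := Cfsg.Agent.Helper13.represents_of_aniso (Q.comp P.subtype) h2 haniso t
    exact ⟨(v : Fin n → F), (hPmem _).mp v.2, hv⟩
  · push Not at haniso
    obtain ⟨v, hQv, hv0⟩ := haniso
    have hQv' : Q (v : Fin n → F) = 0 := hQv
    have hv0' : (v : Fin n → F) ≠ 0 := fun h => hv0 (Subtype.ext h)
    have hvP : ∀ s ∈ S, B Q s (v : Fin n → F) = 0 := (hPmem _).mp v.2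
    -- a partner of `v` inside `P`
    obtain ⟨f, hfP, hvf⟩ : ∃ f ∈ P, B Q (v : Fin n → F) f ≠ 0 := by
      by_contra hcon
      push Not at hcon
      apply hv0'
      have hvS : (v : Fin n → F) ∈ S := by
        apply mem_of_forall_perp hQ S
        intro x hx
        rw [B_comm]
        exact hcon x hx
      apply hS _ hvS
      intro y hy
      rw [B_comm]
      exact hvP y hy
    have hfP' : ∀ s ∈ S, B Q s f = 0 := (hPmem _).mp hfP
    refine ⟨((t - Q f) / B Q (v : Fin n → F) f) • (v : Fin n → F) + f, ?_, ?_⟩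
    · intro s hs
      show QuadraticMap.polar ⇑Q s (((t - Q f) / B Q (v : Fin n → F) f) • (v : Fin n → F) + f) = 0
      rw [QuadraticMap.polar_add_right, QuadraticMap.polar_smul_right]
      have h1 := hvP s hs
      have h3 := hfP' s hs
      simp only [B] at h1 h3
      rw [h1, h3, smul_zero, add_zero]
    · rw [Q_add, Q_smul, hQv']
      have h4 : B Q (((t - Q f) / B Q (v : Fin n → F) f) • (v : Fin n → F)) f
          = ((t - Q f) / B Q (v : Fin n → F) f) * B Q (v : Fin n → F) f := by
        show QuadraticMap.polar ⇑Q _ f = _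
        rw [QuadraticMap.polar_smul_left, smul_eq_mul]
      rw [h4]
      field_simp
      ring

end Cfsg.Agent.OS6P
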