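import Mathlib
import Cfsg.Prelude.Def_GeometricClasses
import Cfsg.Agent.Helper28.OrthSim3
import Cfsg.Agent.Helper8.OS6Defs
import Cfsg.Agent.Helper18.OS6SPUNIV

set_option autoImplicit false

namespace Cfsg.Agent.OS6P

open Matrix Module Cfsg.Agent.Helper28.Sg Cfsg.Agent.Helper28.Spin Cfsg.Agent.Helper28.SLMax
  Cfsg.Agent.Helper28.SimMax Cfsg.Agent.Helper28.OSim

variable {F : Type*} [Field F] {n : ℕ} {Q : QuadraticForm F (Fin n → F)}

namespace SPUNIVC

theorem B_lin1 (α : F) (a y : Fin n → F) : B Q (α • a) y = α * B Q a y := by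
  simp only [B, QuadraticMap.polar_smul_left, smul_eq_mul]

theorem B_lin2 (α β : F) (a b y : Fin n → F) :
    B Q (α • a + β • b) y = α * B Q a y + β * B Q b y := by
  simp only [B, QuadraticMap.polar_add_left, QuadraticMap.polar_smul_left, smul_eq_mul]

theorem B_lin3 (α β γ : F) (a b c y : Fin n → F) :
    B Q (α • a + β • b + γ • c) y = α * B Q a y + β * B Q b y + γ * B Q c y := by
  simp only [B, QuadraticMap.polar_add_left, QuadraticMap.polar_smul_left, smul_eq_mul]

theorem coef_zero (h2 : (2 : F) ≠ 0) {a : Fin n → F} (ha : Q a ≠ 0) {α : F}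
    (h : α * B Q a a = 0) : α = 0 := by
  rw [B_self] at h
  rcases mul_eq_zero.mp h with h | h
  · exact h
  · exact absurd h (mul_ne_zero h2 ha)

theorem finrank_span_single_le (a : Fin n → F) :
    finrank F (Submodule.span F ({a} : Set (Fin n → F))) ≤ 1 := by
  have := finrank_span_le_card (R := F) ({a} : Set (Fin n → F))
  simpa using this

theorem finrank_span_three_le (a b c : Fin n → F) :
    finrank F (Submodule.span F ({a, b, c} : Set (Fin n → F))) ≤ 3 := by
  classical
  have := finrank_span_finset_le_card (R := F) ({a, b, c} : Finset (Fin n → F))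
  have h3 : ({a, b, c} : Finset (Fin n → F)).card ≤ 3 := Finset.card_le_three
  rw [Finset.coe_insert, Finset.coe_insert, Finset.coe_singleton] at this
  exact le_trans this h3

end SPUNIVC

theorem SPUNIVC.one [Finite F] (h2 : (2 : F) ≠ 0) (hQ : (QuadraticMap.polarBilin Q).Nondegenerate)
    (hn : 3 ≤ n) {a : Fin n → F} (ha : Q a ≠ 0) (t : F) :
    ∃ u : Fin n → F, B Q a u = 0 ∧ Q u = t := by
  have hS : ∀ x ∈ Submodule.span F ({a} : Set (Fin n → F)),
      (∀ y ∈ Submodule.span F ({a} : Set (Fin n → F)), B Q x y = 0) → x = 0 := by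
    intro x hx hperp
    obtain ⟨α, rfl⟩ := Submodule.mem_span_singleton.mp hx
    have h1 := hperp a (Submodule.subset_span (by simp))
    rw [SPUNIVC.B_lin1] at h1
    rw [SPUNIVC.coef_zero h2 ha h1, zero_smul]
  have hdim : finrank F (Submodule.span F ({a} : Set (Fin n → F))) + 2 ≤ n := by
    have := SPUNIVC.finrank_span_single_le (F := F) a
    omega
  obtain ⟨u, hu, hQu⟩ := SPUNIV.main hQ _ hS hdim t
  exact ⟨u, hu a (Submodule.subset_span (by simp)), hQu⟩

theorem SPUNIVC.two [Finite F] (h2 : (2 : F) ≠ 0) (hQ : (QuadraticMap.polarBilin Q).Nondegenerate)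
    (hn : 4 ≤ n) {a b : Fin n → F} (ha : Q a ≠ 0) (hb : Q b ≠ 0) (hab : B Q a b = 0) (t : F) :
    ∃ u : Fin n → F, B Q a u = 0 ∧ B Q b u = 0 ∧ Q u = t := by
  have hba : B Q b a = 0 := by rw [B_comm]; exact hab
  have hS : ∀ x ∈ Submodule.span F ({a, b} : Set (Fin n → F)),
      (∀ y ∈ Submodule.span F ({a, b} : Set (Fin n → F)), B Q x y = 0) → x = 0 := by
    intro x hx hperp
    obtain ⟨α, β, rfl⟩ := Submodule.mem_span_pair.mp hx
    have h1 := hperp a (Submodule.subset_span (by simp))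
    have h3 := hperp b (Submodule.subset_span (by simp))
    rw [SPUNIVC.B_lin2, hba, mul_zero, add_zero] at h1
    rw [SPUNIVC.B_lin2, hab, mul_zero, zero_add] at h3
    rw [SPUNIVC.coef_zero h2 ha h1, SPUNIVC.coef_zero h2 hb h3, zero_smul, zero_smul, add_zero]
  have hdim : finrank F (Submodule.span F ({a, b} : Set (Fin n → F))) + 2 ≤ n := by
    have := finrank_span_pair_le (F := F) a b
    omega
  obtain ⟨u, hu, hQu⟩ := SPUNIV.main hQ _ hS hdim t
  exact ⟨u, hu a (Submodule.subset_span (by simp)), hu b (Submodule.subset_span (by simp)), hQu⟩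

theorem SPUNIVC.three [Finite F] (h2 : (2 : F) ≠ 0) (hQ : (QuadraticMap.polarBilin Q).Nondegenerate)
    (hn : 5 ≤ n) {a b c : Fin n → F} (ha : Q a ≠ 0) (hb : Q b ≠ 0) (hc : Q c ≠ 0)
    (hab : B Q a b = 0) (hac : B Q a c = 0) (hbc : B Q b c = 0) (t : F) :
    ∃ u : Fin n → F, B Q a u = 0 ∧ B Q b u = 0 ∧ B Q c u = 0 ∧ Q u = t := by
  have hba : B Q b a = 0 := by rw [B_comm]; exact hab
  have hca : B Q c a = 0 := by rw [B_comm]; exact hac
  have hcb : B Q c b = 0 := by rw [B_comm]; exact hbc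
  have hS : ∀ x ∈ Submodule.span F ({a, b, c} : Set (Fin n → F)),
      (∀ y ∈ Submodule.span F ({a, b, c} : Set (Fin n → F)), B Q x y = 0) → x = 0 := by
    intro x hx hperp
    obtain ⟨α, β, γ, rfl⟩ := Submodule.mem_span_triple.mp hx
    have h1 := hperp a (Submodule.subset_span (by simp))
    have h3 := hperp b (Submodule.subset_span (by simp))
    have h4 := hperp c (Submodule.subset_span (by simp))
    rw [SPUNIVC.B_lin3, hba, hca, mul_zero, mul_zero, add_zero, add_zero] at h1
    rw [SPUNIVC.B_lin3, hab, hcb, mul_zero, mul_zero, zero_add, add_zero] at h3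
    rw [SPUNIVC.B_lin3, hac, hbc, mul_zero, mul_zero, zero_add, zero_add] at h4
    rw [SPUNIVC.coef_zero h2 ha h1, SPUNIVC.coef_zero h2 hb h3, SPUNIVC.coef_zero h2 hc h4,
      zero_smul, zero_smul, zero_smul, add_zero, add_zero]
  have hdim : finrank F (Submodule.span F ({a, b, c} : Set (Fin n → F))) + 2 ≤ n := by
    have := SPUNIVC.finrank_span_three_le (F := F) a b c
    omega
  obtain ⟨u, hu, hQu⟩ := SPUNIV.main hQ _ hS hdim t
  exact ⟨u, hu a (Submodule.subset_span (by simp)), hu b (Submodule.subset_span (by simp)),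
    hu c (Submodule.subset_span (by simp)), hQu⟩

end Cfsg.Agent.OS6P
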