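import Mathlib
import Cfsg.Agent.Helper1.MaxClass

/-!
Piece (U) of S5238 (pearls): a `p`-group `X` of order `p^n`, `n ≥ 3`, with an element `s` whose
centralizer has order `p^2` ("uniform element"): orders of the lower central series, uniseriality of
`⁅s, ·⁆`, and `(s g)^p = s^p` on the commutator subgroup.
-/

set_option autoImplicit false
open scoped commutatorElement

namespace Cfsg.Agent.Helper18.Pearl

section counting

variable {X : Type*} [Group X]

theorem inv_mul_mem_centralizer_of_comm_eq (s x y : X) (h : ⁅s, x⁆ = ⁅s, y⁆) :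
    x⁻¹ * y ∈ Subgroup.centralizer ({s} : Set X) := by
  rw [Subgroup.mem_centralizer_singleton_iff]
  have h1 : x * s⁻¹ * x⁻¹ = y * s⁻¹ * y⁻¹ := by
    have := congrArg (fun t => s⁻¹ * t) h
    simpa [commutatorElement_def, mul_assoc] using this
  have h2 : (x⁻¹ * y) * s⁻¹ = s⁻¹ * (x⁻¹ * y) := by
    calc (x⁻¹ * y) * s⁻¹ = x⁻¹ * (y * s⁻¹ * y⁻¹) * y := by group
      _ = x⁻¹ * (x * s⁻¹ * x⁻¹) * y := by rw [h1]
      _ = s⁻¹ * (x⁻¹ * y) := by group
  calc x⁻¹ * y * s = s * (s⁻¹ * (x⁻¹ * y)) * s := by group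
    _ = s * ((x⁻¹ * y) * s⁻¹) * s := by rw [h2]
    _ = s * (x⁻¹ * y) := by group

/-- the key counting lemma, image form -/
theorem card_le_mul_image [Finite X] (s : X) (M : Set X) (B : Subgroup X)
    (hB : ∀ x ∈ M, ∀ y ∈ M, ⁅s, x⁆ = ⁅s, y⁆ → x⁻¹ * y ∈ B) :
    M.ncard ≤ Nat.card B * ((fun x => ⁅s, x⁆) '' M).ncard := by
  classical
  have hfin : ∀ S : Set X, S.Finite := fun S => Set.toFinite S
  rw [Set.ncard_eq_toFinset_card M (hfin M),
    Set.ncard_eq_toFinset_card _ (hfin ((fun x => ⁅s, x⁆) '' M))]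
  have himg : (hfin ((fun x => ⁅s, x⁆) '' M)).toFinset =
      (hfin M).toFinset.image (fun x => ⁅s, x⁆) := by
    ext a
    simp
  rw [himg]
  apply Finset.card_le_mul_card_image
  intro a ha
  obtain ⟨x0, hx0, rfl⟩ := Finset.mem_image.mp ha
  rw [Set.Finite.mem_toFinset] at hx0
  rw [← Nat.card_eq_finsetCard]
  apply Nat.card_le_card_of_injective
    (fun x : ↥((hfin M).toFinset.filter (fun x => ⁅s, x⁆ = ⁅s, x0⁆)) =>
      (⟨x0⁻¹ * x.1, by
        have hx := x.2
        rw [Finset.mem_filter, Set.Finite.mem_toFinset] at hx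
        exact hB x0 hx0 x.1 hx.1 hx.2.symm⟩ : ↥B))
  intro a b hab
  have := congrArg Subtype.val hab
  simp only [mul_right_inj] at this
  exact Subtype.ext this

/-- the key counting lemma -/
theorem card_le_of_fibres [Finite X] (s : X) (M : Set X) (B T : Subgroup X)
    (hB : ∀ x ∈ M, ∀ y ∈ M, ⁅s, x⁆ = ⁅s, y⁆ → x⁻¹ * y ∈ B)
    (hT : ∀ x ∈ M, ⁅s, x⁆ ∈ T) :
    M.ncard ≤ Nat.card B * Nat.card T := by
  have h1 := card_le_mul_image s M B hB
  have h2 : ((fun x => ⁅s, x⁆) '' M).ncard ≤ Nat.card T := by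
    rw [← Nat.card_coe_set_eq]
    apply Set.ncard_le_ncard _ (Set.toFinite _)
    rintro _ ⟨x, hx, rfl⟩
    exact hT x hx
  exact h1.trans (Nat.mul_le_mul_left _ h2)

theorem comm_mem_lcs_succ (s g : X) (i : ℕ)
    (hg : g ∈ Subgroup.lowerCentralSeries (⊤ : Subgroup X) i) :
    ⁅s, g⁆ ∈ Subgroup.lowerCentralSeries (⊤ : Subgroup X) (i + 1) := by
  rw [Subgroup.lowerCentralSeries_succ, ← commutatorElement_inv]
  exact Subgroup.inv_mem _ (Subgroup.commutator_mem_commutator hg (Subgroup.mem_top s))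

end counting


section uniform

variable {X : Type*} [Group X] [Finite X] {p : ℕ} [Fact p.Prime] {n : ℕ}

/-- (F1) `|γ₂| p² = p^n` -/
theorem card_lcs_one_mul (hX : Nat.card X = p ^ n) (hn : 3 ≤ n) (s : X)
    (hs : Nat.card (Subgroup.centralizer ({s} : Set X)) = p ^ 2) :
    Nat.card (Subgroup.lowerCentralSeries (⊤ : Subgroup X) 1) * p ^ 2 = p ^ n := by
  apply le_antisymm (Cfsg.Agent.Helper1.LCS.lcs_card_mul_le hX 1 le_rfl (by omega))
  have h := card_le_of_fibres s (Set.univ : Set X) (Subgroup.centralizer ({s} : Set X))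
    (Subgroup.lowerCentralSeries (⊤ : Subgroup X) 1)
    (fun x _ y _ h => inv_mul_mem_centralizer_of_comm_eq s x y h)
    (fun x _ => comm_mem_lcs_succ s x 0 (Subgroup.mem_top x))
  rw [Set.ncard_univ, hX, hs] at h
  rw [mul_comm]
  exact h

/-- (F2) -/
theorem not_mem_lcs_one_of_uniform (hX : Nat.card X = p ^ n) (hn : 3 ≤ n) (s : X)
    (hs : Nat.card (Subgroup.centralizer ({s} : Set X)) = p ^ 2) :
    s ∉ Subgroup.lowerCentralSeries (⊤ : Subgroup X) 1 := by
  have hp : p.Prime := Fact.out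
  intro hmem
  have h := card_le_of_fibres s (Set.univ : Set X) (Subgroup.centralizer ({s} : Set X))
    (Subgroup.lowerCentralSeries (⊤ : Subgroup X) 2)
    (fun x _ y _ h => inv_mul_mem_centralizer_of_comm_eq s x y h)
    (fun x _ => by
      rw [Subgroup.lowerCentralSeries_succ]
      exact Subgroup.commutator_mem_commutator hmem (Subgroup.mem_top x))
  rw [Set.ncard_univ, hX, hs] at h
  have h2 := Cfsg.Agent.Helper1.LCS.lcs_card_mul_le hX 2 (by omega) (by omega)
  have h3 : p ^ n * p ≤ p ^ n * 1 := by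
    calc p ^ n * p ≤ p ^ 2 * Nat.card (Subgroup.lowerCentralSeries (⊤ : Subgroup X) 2) * p :=
          Nat.mul_le_mul_right _ h
      _ = Nat.card (Subgroup.lowerCentralSeries (⊤ : Subgroup X) 2) * p ^ (2 + 1) := by ring
      _ ≤ p ^ n := h2
      _ = p ^ n * 1 := (mul_one _).symm
  have h4 := Nat.le_of_mul_le_mul_left h3 (Nat.pos_of_ne_zero (pow_ne_zero _ hp.ne_zero))
  exact absurd hp.one_lt (not_lt.mpr h4)

/-- (F3) -/
theorem card_centralizer_inf_le (hX : Nat.card X = p ^ n) (hn : 3 ≤ n) (s : X)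
    (hs : Nat.card (Subgroup.centralizer ({s} : Set X)) = p ^ 2) :
    Nat.card (Subgroup.centralizer ({s} : Set X) ⊓
      Subgroup.lowerCentralSeries (⊤ : Subgroup X) 1 : Subgroup X) ≤ p := by
  have hp : p.Prime := Fact.out
  have hle : Subgroup.centralizer ({s} : Set X) ⊓ Subgroup.lowerCentralSeries (⊤ : Subgroup X) 1 ≤
      Subgroup.centralizer ({s} : Set X) := inf_le_left
  have hdvd := Subgroup.card_dvd_of_le hle
  rw [hs] at hdvd
  obtain ⟨k, hk, hcard⟩ := (Nat.dvd_prime_pow hp).mp hdvd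
  have hk1 : k ≤ 1 := by
    by_contra hk2
    have hk2' : k = 2 := by omega
    have heq := Subgroup.eq_of_le_of_card_ge hle (by rw [hcard, hs, hk2'])
    have hsm : s ∈ Subgroup.centralizer ({s} : Set X) := by
      rw [Subgroup.mem_centralizer_singleton_iff]
    rw [← heq] at hsm
    exact not_mem_lcs_one_of_uniform hX hn s hs hsm.2
  rw [hcard]
  calc p ^ k ≤ p ^ 1 := Nat.pow_le_pow_right hp.pos hk1
    _ = p := pow_one p

/-- one step of the lower central series loses at most a factor `p` -/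
theorem card_lcs_le_mul_succ (hX : Nat.card X = p ^ n) (hn : 3 ≤ n) (s : X)
    (hs : Nat.card (Subgroup.centralizer ({s} : Set X)) = p ^ 2) (i : ℕ) (hi : 1 ≤ i)
    (M : Set X) (hM : M ⊆ (Subgroup.lowerCentralSeries (⊤ : Subgroup X) i : Set X))
    (T : Subgroup X) (hT : ∀ x ∈ M, ⁅s, x⁆ ∈ T) :
    M.ncard ≤ p * Nat.card T := by
  have h := card_le_of_fibres s M (Subgroup.centralizer ({s} : Set X) ⊓
      Subgroup.lowerCentralSeries (⊤ : Subgroup X) 1) T
    (fun x hx y hy h => by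
      refine Subgroup.mem_inf.mpr ⟨inv_mul_mem_centralizer_of_comm_eq s x y h, ?_⟩
      apply Subgroup.lowerCentralSeries_antitone _ hi
      exact Subgroup.mul_mem _ (Subgroup.inv_mem _ (hM hx)) (hM hy)) hT
  exact h.trans (Nat.mul_le_mul_right _ (card_centralizer_inf_le hX hn s hs))

/-- (F4) lower bound -/
theorem le_card_lcs_mul (hX : Nat.card X = p ^ n) (hn : 3 ≤ n) (s : X)
    (hs : Nat.card (Subgroup.centralizer ({s} : Set X)) = p ^ 2) :
    ∀ i, 1 ≤ i → p ^ n ≤ Nat.card (Subgroup.lowerCentralSeries (⊤ : Subgroup X) i) * p ^ (i + 1) := by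
  intro i hi
  induction i, hi using Nat.le_induction with
  | base => exact (card_lcs_one_mul hX hn s hs).ge
  | succ i hi ih =>
    have h := card_lcs_le_mul_succ hX hn s hs i hi
      (Subgroup.lowerCentralSeries (⊤ : Subgroup X) i : Set X) (le_refl _)
      (Subgroup.lowerCentralSeries (⊤ : Subgroup X) (i + 1))
      (fun x hx => comm_mem_lcs_succ s x i hx)
    rw [← Nat.card_coe_set_eq] at h
    calc p ^ n ≤ Nat.card (Subgroup.lowerCentralSeries (⊤ : Subgroup X) i) * p ^ (i + 1) := ih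
      _ ≤ p * Nat.card (Subgroup.lowerCentralSeries (⊤ : Subgroup X) (i + 1)) * p ^ (i + 1) :=
          Nat.mul_le_mul_right _ h
      _ = Nat.card (Subgroup.lowerCentralSeries (⊤ : Subgroup X) (i + 1)) * p ^ (i + 1 + 1) := by
          rw [pow_succ p (i + 1)]; ring

/-- (U1) -/
theorem card_lcs_of_uniform (hX : Nat.card X = p ^ n) (hn : 3 ≤ n) (s : X)
    (hs : Nat.card (Subgroup.centralizer ({s} : Set X)) = p ^ 2) :
    ∀ i, 1 ≤ i → i ≤ n - 1 →
      Nat.card (Subgroup.lowerCentralSeries (⊤ : Subgroup X) i) = p ^ (n - 1 - i) := by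
  have hp : p.Prime := Fact.out
  intro i hi hin
  have h1 := le_card_lcs_mul hX hn s hs i hi
  have h2 := Cfsg.Agent.Helper1.LCS.lcs_card_mul_le hX i hi (by omega)
  have h3 : Nat.card (Subgroup.lowerCentralSeries (⊤ : Subgroup X) i) * p ^ (i + 1) =
      p ^ (n - 1 - i) * p ^ (i + 1) := by
    rw [← pow_add]
    have : n - 1 - i + (i + 1) = n := by omega
    rw [this]
    exact le_antisymm h2 h1
  exact Nat.eq_of_mul_eq_mul_right (Nat.pos_of_ne_zero (pow_ne_zero _ hp.ne_zero)) h3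

/-- (U3) -/
theorem mem_lcs_succ_of_uniform (hX : Nat.card X = p ^ n) (hn : 3 ≤ n) (s : X)
    (hs : Nat.card (Subgroup.centralizer ({s} : Set X)) = p ^ 2) :
    ∀ i, 1 ≤ i → i + 2 ≤ n - 1 → ∀ g ∈ Subgroup.lowerCentralSeries (⊤ : Subgroup X) i,
      ⁅s, g⁆ ∈ Subgroup.lowerCentralSeries (⊤ : Subgroup X) (i + 2) →
      g ∈ Subgroup.lowerCentralSeries (⊤ : Subgroup X) (i + 1) := by
  intro i hi hin g hg hcomm
  set M : Set X := {g | g ∈ Subgroup.lowerCentralSeries (⊤ : Subgroup X) i ∧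
    ⁅s, g⁆ ∈ Subgroup.lowerCentralSeries (⊤ : Subgroup X) (i + 2)} with hM
  have hsub : (Subgroup.lowerCentralSeries (⊤ : Subgroup X) (i + 1) : Set X) ⊆ M := by
    intro x hx
    exact ⟨Subgroup.lowerCentralSeries_antitone _ (Nat.le_succ i) hx, comm_mem_lcs_succ s x (i + 1) hx⟩
  have hcard : M.ncard ≤ (Subgroup.lowerCentralSeries (⊤ : Subgroup X) (i + 1) : Set X).ncard := by
    have h := card_lcs_le_mul_succ hX hn s hs i hi M (fun x hx => hx.1)
      (Subgroup.lowerCentralSeries (⊤ : Subgroup X) (i + 2)) (fun x hx => hx.2)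
    rw [card_lcs_of_uniform hX hn s hs (i + 2) (by omega) hin] at h
    rw [← Nat.card_coe_set_eq]
    show M.ncard ≤ Nat.card (Subgroup.lowerCentralSeries (⊤ : Subgroup X) (i + 1))
    rw [card_lcs_of_uniform hX hn s hs (i + 1) (by omega) (by omega)]
    have e : n - 1 - (i + 1) = (n - 1 - (i + 2)) + 1 := by omega
    rw [e, pow_succ, mul_comm]
    exact h
  have heq := Set.eq_of_subset_of_ncard_le hsub hcard (Set.toFinite M)
  have hgM : g ∈ M := ⟨hg, hcomm⟩
  rw [← heq] at hgM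
  exact hgM


/-- every element of `γ₂` is a commutator `⁅s, x⁆` -/
theorem exists_comm_eq_of_uniform (hX : Nat.card X = p ^ n) (hn : 3 ≤ n) (s : X)
    (hs : Nat.card (Subgroup.centralizer ({s} : Set X)) = p ^ 2) :
    ∀ h ∈ Subgroup.lowerCentralSeries (⊤ : Subgroup X) 1, ∃ x : X, ⁅s, x⁆ = h := by
  have hp : p.Prime := Fact.out
  intro h hh
  have h1 := card_le_mul_image s (Set.univ : Set X) (Subgroup.centralizer ({s} : Set X))
    (fun x _ y _ h => inv_mul_mem_centralizer_of_comm_eq s x y h)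
  rw [Set.ncard_univ, hX, hs] at h1
  have hsub : ((fun x => ⁅s, x⁆) '' (Set.univ : Set X)) ⊆
      (Subgroup.lowerCentralSeries (⊤ : Subgroup X) 1 : Set X) := by
    rintro _ ⟨x, _, rfl⟩
    exact comm_mem_lcs_succ s x 0 (Subgroup.mem_top x)
  have hcard : (Subgroup.lowerCentralSeries (⊤ : Subgroup X) 1 : Set X).ncard ≤
      ((fun x => ⁅s, x⁆) '' (Set.univ : Set X)).ncard := by
    have h2 := card_lcs_one_mul hX hn s hs
    have h3 : (Subgroup.lowerCentralSeries (⊤ : Subgroup X) 1 : Set X).ncard =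
        Nat.card (Subgroup.lowerCentralSeries (⊤ : Subgroup X) 1) := by
      rw [← Nat.card_coe_set_eq]; rfl
    rw [h3]
    have h4 : Nat.card (Subgroup.lowerCentralSeries (⊤ : Subgroup X) 1) * p ^ 2 ≤
        ((fun x => ⁅s, x⁆) '' (Set.univ : Set X)).ncard * p ^ 2 := by
      rw [h2, mul_comm]; exact h1
    exact Nat.le_of_mul_le_mul_right h4 (Nat.pos_of_ne_zero (pow_ne_zero _ hp.ne_zero))
  have heq := Set.eq_of_subset_of_ncard_le hsub hcard (Set.toFinite _)
  have : h ∈ ((fun x => ⁅s, x⁆) '' (Set.univ : Set X)) := by rw [heq]; exact hh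
  obtain ⟨x, _, hx⟩ := this
  exact ⟨x, hx⟩

/-- `s^p` is central -/
theorem pow_mem_center_of_uniform (hX : Nat.card X = p ^ n) (hn : 3 ≤ n) (s : X)
    (hs : Nat.card (Subgroup.centralizer ({s} : Set X)) = p ^ 2) :
    s ^ p ∈ Subgroup.center X := by
  have hp : p.Prime := Fact.out
  have hPp : IsPGroup p X := IsPGroup.of_card hX
  have hnt : Nontrivial X := by
    apply (Finite.one_lt_card_iff_nontrivial).mp
    rw [hX]
    exact Nat.one_lt_pow (by omega) hp.one_lt
  have hZle : Subgroup.center X ≤ Subgroup.centralizer ({s} : Set X) :=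
    Subgroup.center_le_centralizer _
  have hZnt : Nontrivial (Subgroup.center X) := hPp.center_nontrivial
  have hdvd := Subgroup.card_dvd_of_le hZle
  rw [hs] at hdvd
  obtain ⟨k, hk, hcard⟩ := (Nat.dvd_prime_pow hp).mp hdvd
  have hk0 : k ≠ 0 := by
    intro h0
    rw [h0, pow_zero] at hcard
    have := (Finite.one_lt_card_iff_nontrivial).mpr hZnt
    omega
  have hk2 : k ≠ 2 := by
    intro h2
    have heq := Subgroup.eq_of_le_of_card_ge hZle (by rw [hcard, hs, h2])
    have hsm : s ∈ Subgroup.centralizer ({s} : Set X) := by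
      rw [Subgroup.mem_centralizer_singleton_iff]
    rw [← heq] at hsm
    have htop : Subgroup.centralizer ({s} : Set X) = ⊤ := by
      rw [Subgroup.centralizer_eq_top_iff_subset]
      intro y hy
      rw [Set.mem_singleton_iff] at hy
      rw [hy]; exact hsm
    rw [htop, Subgroup.card_top, hX] at hs
    have := Nat.pow_right_injective hp.two_le hs
    omega
  have hk1 : k = 1 := by omega
  rw [hk1, pow_one] at hcard
  -- index of the centre in the centralizer is `p`
  have hidx : ((Subgroup.center X).subgroupOf (Subgroup.centralizer ({s} : Set X))).index = p := by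
    have h1 := ((Subgroup.center X).subgroupOf (Subgroup.centralizer ({s} : Set X))).card_mul_index
    rw [Nat.card_congr (Subgroup.subgroupOfEquivOfLe hZle).toEquiv, hcard, hs, pow_two] at h1
    exact Nat.eq_of_mul_eq_mul_left hp.pos h1
  have hsm : s ∈ Subgroup.centralizer ({s} : Set X) := by
    rw [Subgroup.mem_centralizer_singleton_iff]
  have h2 := Subgroup.pow_index_mem
    ((Subgroup.center X).subgroupOf (Subgroup.centralizer ({s} : Set X)))
    (⟨s, hsm⟩ : ↥(Subgroup.centralizer ({s} : Set X)))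
  rw [hidx, Subgroup.mem_subgroupOf] at h2
  exact h2

/-- (U4) -/
theorem mul_pow_eq_of_uniform (hX : Nat.card X = p ^ n) (hn : 3 ≤ n) (s : X)
    (hs : Nat.card (Subgroup.centralizer ({s} : Set X)) = p ^ 2) :
    ∀ g ∈ Subgroup.lowerCentralSeries (⊤ : Subgroup X) 1, (s * g) ^ p = s ^ p := by
  intro g hg
  have hnorm : (Subgroup.lowerCentralSeries (⊤ : Subgroup X) 1).Normal := inferInstance
  have hh : s * g⁻¹ * s⁻¹ ∈ Subgroup.lowerCentralSeries (⊤ : Subgroup X) 1 :=
    hnorm.conj_mem _ (Subgroup.inv_mem _ hg) s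
  obtain ⟨x, hx⟩ := exists_comm_eq_of_uniform hX hn s hs _ hh
  have hconj : s * g = x * s * x⁻¹ := by
    have h1 : x * s * x⁻¹ = (⁅s, x⁆)⁻¹ * s := by
      rw [commutatorElement_def]; group
    rw [h1, hx]; group
  have hc := pow_mem_center_of_uniform hX hn s hs
  rw [hconj, conj_pow]
  have := Subgroup.mem_center_iff.mp hc x
  calc x * s ^ p * x⁻¹ = s ^ p * x * x⁻¹ := by rw [this]
    _ = s ^ p := by group

end uniform

end Cfsg.Agent.Helper18.Pearl
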