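import Mathlib
import Cfsg.Agent.Helper10.Pearl3Defs
import Cfsg.Agent.Helper18.PearlU
import Cfsg.Agent.Helper21.PolySeq
import Cfsg.Agent.Helper1.LowerCentralP

set_option autoImplicit false

/-! # S5239 piece A1: two-step centralizers have index `p` -/

namespace Cfsg.Agent.Helper18.Pearl3

open scoped commutatorElement
open Cfsg.Agent.Helper10.Pearl3

variable {X : Type*} [Group X] [Finite X] {n : ℕ}

local notation "L" => Subgroup.lowerCentralSeries (⊤ : Subgroup X)

theorem lcs_one_le_twoStep (i : ℕ) (hi : 1 ≤ i) : L 1 ≤ twoStep X i := by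
  intro y hy
  rw [mem_twoStep]
  intro a ha
  exact Cfsg.Agent.Helper21.PolySeq.lcs_comm_le (G := X) 1 i
    (Subgroup.commutator_mem_commutator ha hy)

/-- the image of `A` in `X ⧸ B` for `B ≤ A`: `|π A| * |B| = |A|` -/
theorem card_map_mk_mul (A B : Subgroup X) [B.Normal] (hBA : B ≤ A) :
    Nat.card (A.map (QuotientGroup.mk' B)) * Nat.card B = Nat.card A := by
  have h1 := Subgroup.card_mul_index (((QuotientGroup.mk' B).comp A.subtype).ker)
  rw [Subgroup.index_ker] at h1
  have h2 : ((QuotientGroup.mk' B).comp A.subtype).ker = B.subgroupOf A := by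
    rw [← MonoidHom.comap_ker, QuotientGroup.ker_mk']
    rfl
  have h3 : ((QuotientGroup.mk' B).comp A.subtype).range = A.map (QuotientGroup.mk' B) := by
    rw [MonoidHom.range_comp, A.range_subtype]
  rw [h2, h3, Nat.card_congr (Subgroup.subgroupOfEquivOfLe hBA).toEquiv] at h1
  rw [mul_comm]
  exact h1

theorem index_twoStep {p : ℕ} [Fact p.Prime] (hX : Nat.card X = p ^ n) (hn : 3 ≤ n) (s : X)
    (hs : Nat.card (Subgroup.centralizer ({s} : Set X)) = p ^ 2) :
    ∀ i, 1 ≤ i → i + 3 ≤ n → s ∉ twoStep X i ∧ (twoStep X i).index = p := by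
  intro i hi hin
  have hp : p.Prime := Fact.out
  have hPG : IsPGroup p X := IsPGroup.of_card hX
  have hc0 := Cfsg.Agent.Helper18.Pearl.card_lcs_of_uniform hX hn s hs i hi (by omega)
  have hc1 := Cfsg.Agent.Helper18.Pearl.card_lcs_of_uniform hX hn s hs (i + 1) (by omega) (by omega)
  have hc2 := Cfsg.Agent.Helper18.Pearl.card_lcs_of_uniform hX hn s hs (i + 2) (by omega) (by omega)
  have hle01 : L (i + 1) ≤ L i := Subgroup.lowerCentralSeries_antitone _ (Nat.le_succ i)
  have hle12 : L (i + 2) ≤ L (i + 1) := Subgroup.lowerCentralSeries_antitone _ (Nat.le_succ (i + 1))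
  have hpow0 : p ^ (n - 1 - i) = p * p ^ (n - 1 - (i + 1)) := by
    rw [← pow_succ']; congr 1; omega
  have hpow1 : p ^ (n - 1 - (i + 1)) = p * p ^ (n - 1 - (i + 2)) := by
    rw [← pow_succ']; congr 1; omega
  -- pick `g ∈ L i \ L (i+1)`
  have hne : ¬ L i ≤ L (i + 1) := by
    intro hle
    have := Subgroup.card_le_of_le hle
    rw [hc0, hc1, hpow0] at this
    have hpos : 0 < p ^ (n - 1 - (i + 1)) := pow_pos hp.pos _
    have h2 := hp.two_le
    nlinarith
  obtain ⟨g, hg0, hg1⟩ := SetLike.not_le_iff_exists.mp hne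
  have hsg : ⁅s, g⁆ ∉ L (i + 2) := fun h =>
    hg1 (Cfsg.Agent.Helper18.Pearl.mem_lcs_succ_of_uniform hX hn s hs i hi (by omega) g hg0 h)
  have hgs : ⁅g, s⁆ ∉ L (i + 2) := by
    intro h
    apply hsg
    rw [← commutatorElement_inv]
    exact Subgroup.inv_mem _ h
  have hsT : s ∉ twoStep X i := fun h => hgs (h g hg0)
  refine ⟨hsT, ?_⟩
  -- the quotient
  have hBn : (L (i + 2)).Normal := inferInstance
  set π := QuotientGroup.mk' (L (i + 2)) with hπ
  have hπ1 : ∀ x : X, π x = 1 ↔ x ∈ L (i + 2) := fun x => QuotientGroup.eq_one_iff x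
  -- `L (i+1)` is central modulo `L (i+2)`
  have hcent : ∀ c ∈ L (i + 1), ∀ y : X, ⁅c, y⁆ ∈ L (i + 2) := by
    intro c hc y
    rw [Subgroup.lowerCentralSeries_succ]
    exact Subgroup.commutator_mem_commutator hc (Subgroup.mem_top y)
  have hconj : ∀ c ∈ L (i + 1), ∀ y : X, π (y * c * y⁻¹) = π c := by
    intro c hc y
    have h1 : y * c * y⁻¹ = (⁅c, y⁆)⁻¹ * c := by
      rw [commutatorElement_def]; group
    rw [h1, map_mul, map_inv, (hπ1 _).mpr (hcent c hc y), inv_one, one_mul]
  have hgy : ∀ y : X, ⁅g, y⁆ ∈ L (i + 1) := by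
    intro y
    rw [Subgroup.lowerCentralSeries_succ]
    exact Subgroup.commutator_mem_commutator hg0 (Subgroup.mem_top y)
  let φ : X →* X ⧸ L (i + 2) := MonoidHom.mk' (fun y => π ⁅g, y⁆) (by
    intro y z
    have e : ⁅g, y * z⁆ = ⁅g, y⁆ * (y * ⁅g, z⁆ * y⁻¹) := by
      simp only [commutatorElement_def]; group
    change π ⁅g, y * z⁆ = π ⁅g, y⁆ * π ⁅g, z⁆
    rw [e, map_mul, hconj _ (hgy z) y])
  have hφ : ∀ y, φ y = π ⁅g, y⁆ := fun y => rfl
  -- kernel
  have hjoin : L (i + 1) ⊔ Subgroup.zpowers g = L i := by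
    have hle : L (i + 1) ⊔ Subgroup.zpowers g ≤ L i :=
      sup_le hle01 (by rw [Subgroup.zpowers_le]; exact hg0)
    have hlt : L (i + 1) < L (i + 1) ⊔ Subgroup.zpowers g := by
      refine lt_of_le_of_ne le_sup_left ?_
      intro h
      apply hg1
      rw [h]
      exact (le_sup_right : Subgroup.zpowers g ≤ _) (Subgroup.mem_zpowers g)
    have h1 := Cfsg.Agent.Helper1.LCS.mul_card_le_of_lt hPG hlt
    apply Subgroup.eq_of_le_of_card_ge hle
    rw [hc0, hpow0, ← hc1]
    exact h1
  have hker : φ.ker = twoStep X i := by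
    ext y
    rw [MonoidHom.mem_ker, hφ, hπ1, mem_twoStep]
    constructor
    · intro hy
      -- the subgroup of `a` with `⁅a, y⁆ ∈ L (i+2)`
      have hsub : L i ≤ (Subgroup.centralizer ({π y} : Set (X ⧸ L (i + 2)))).comap π := by
        rw [← hjoin]
        apply sup_le
        · intro c hc
          rw [Subgroup.mem_comap, Subgroup.mem_centralizer_singleton_iff]
          have := (hπ1 _).mpr (hcent c hc y)
          rw [commutatorElement_def, map_mul, map_mul, map_mul, map_inv, map_inv] at this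
          calc π c * π y = (π c * π y * (π c)⁻¹ * (π y)⁻¹) * π y * π c := by group
            _ = π y * π c := by rw [this, one_mul]
        · rw [Subgroup.zpowers_le, Subgroup.mem_comap, Subgroup.mem_centralizer_singleton_iff]
          have := (hπ1 _).mpr hy
          rw [commutatorElement_def, map_mul, map_mul, map_mul, map_inv, map_inv] at this
          calc π g * π y = (π g * π y * (π g)⁻¹ * (π y)⁻¹) * π y * π g := by group
            _ = π y * π g := by rw [this, one_mul]
      intro a ha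
      have h1 := hsub ha
      rw [Subgroup.mem_comap, Subgroup.mem_centralizer_singleton_iff] at h1
      rw [← hπ1, commutatorElement_def, map_mul, map_mul, map_mul, map_inv, map_inv, h1]
      group
    · intro h
      exact h g hg0
  -- range
  have hrange : φ.range ≤ (L (i + 1)).map π := by
    rintro _ ⟨y, rfl⟩
    exact ⟨⁅g, y⁆, hgy y, rfl⟩
  have hcardim : Nat.card ((L (i + 1)).map π) = p := by
    have h1 := card_map_mk_mul (L (i + 1)) (L (i + 2)) hle12
    rw [hc1, hc2, hpow1] at h1
    exact Nat.eq_of_mul_eq_mul_right (pow_pos hp.pos _) h1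
  have hidx : (twoStep X i).index ∣ p := by
    rw [← hker, Subgroup.index_ker, ← hcardim]
    exact Subgroup.card_dvd_of_le hrange
  rcases (Nat.dvd_prime hp).mp hidx with h1 | h1
  · exfalso
    apply hsT
    rw [Subgroup.index_eq_one.mp h1]
    exact Subgroup.mem_top s
  · exact h1

end Cfsg.Agent.Helper18.Pearl3
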