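import Mathlib
import Cfsg.Agent.S3780
import Cfsg.Agent.Helper1.PGroup
import Cfsg.Agent.Helper1.LowerCentralP

set_option autoImplicit false

namespace Cfsg.Agent.Helper18.Pearl

open Subgroup

/-- (G1) A finite `p`-group `Y` with `|Y| ≤ p^r |Φ(Y)|` is generated by `r` elements. -/
theorem exists_finset_closure_eq_top_of_card_le_frattini {Y : Type*} [Group Y] [Finite Y] {p : ℕ}
    [Fact p.Prime] (hY : IsPGroup p Y) (r : ℕ) (h : Nat.card Y ≤ p ^ r * Nat.card (frattini Y)) :
    ∃ S : Finset Y, S.card ≤ r ∧ closure (S : Set Y) = ⊤ := by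
  obtain ⟨S, hS, hgen⟩ := Cfsg.Agent.S3780.exists_finset_closure_sup_eq_top hY (frattini Y) r h
  exact ⟨S, hS, frattini_nongenerating hgen⟩

/-- (G2) Transport to a subgroup. -/
theorem exists_finset_closure_eq_of_card_le_frattini {X : Type*} [Group X] [Finite X] {p : ℕ}
    [Fact p.Prime] (hX : IsPGroup p X) (K : Subgroup X) (r : ℕ)
    (h : Nat.card K ≤ p ^ r * Nat.card (frattini K)) :
    ∃ S : Finset X, S.card ≤ r ∧ closure (S : Set X) = K := by
  classical
  obtain ⟨S, hS, hgen⟩ := exists_finset_closure_eq_top_of_card_le_frattini (hX.to_subgroup K) r h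
  refine ⟨S.image K.subtype, Finset.card_image_le.trans hS, ?_⟩
  rw [Finset.coe_image, ← MonoidHom.map_closure, hgen, ← MonoidHom.range_eq_map, K.range_subtype]

theorem card_mul_relIndex_of_le {X : Type*} [Group X] {A B : Subgroup X} (h : A ≤ B) :
    Nat.card A * A.relIndex B = Nat.card B := by
  have h1 := Subgroup.card_mul_index (A.subgroupOf B)
  rw [Nat.card_congr (Subgroup.subgroupOfEquivOfLe h).toEquiv] at h1
  exact h1

variable {X : Type*} [Group X] [Finite X] {p : ℕ} [Fact p.Prime] {n : ℕ}

theorem exists_finset_closure_eq_of_power_structure (hX : Nat.card X = p ^ n) (hn : 3 ≤ n)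
    (hcard : ∀ i, 1 ≤ i → i ≤ n - 1 →
      Nat.card (Subgroup.lowerCentralSeries (⊤ : Subgroup X) i) = p ^ (n - 1 - i))
    (hfr : ∀ K : Subgroup X, K ≤ Subgroup.lowerCentralSeries (⊤ : Subgroup X) 1 →
      Nat.card K ≤ p ^ (p - 1) * Nat.card (frattini K))
    (H : Subgroup X) : ∃ T : Finset X, T.card ≤ p ∧ Subgroup.closure (T : Set X) = H := by
  classical
  have hp : p.Prime := Fact.out
  have hp2 : 2 ≤ p := hp.two_le
  have hPG : IsPGroup p X := IsPGroup.of_card hX
  set L1 : Subgroup X := Subgroup.lowerCentralSeries (⊤ : Subgroup X) 1 with hL1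
  have hL1c : L1 = commutator X := Subgroup.top_lowerCentralSeries_one
  have hL1N : L1.Normal := by rw [hL1c]; infer_instance
  have hL1fr : L1 ≤ frattini X := by
    rw [hL1c]; exact Cfsg.Agent.Helper1.IsPGroup.commutator_le_frattini hPG
  have hL1card : Nat.card L1 = p ^ (n - 2) := by
    have := hcard 1 le_rfl (by omega)
    rw [this]
    congr 1
  have hL1idx : L1.index = p ^ 2 := by
    have h1 := Subgroup.card_mul_index L1
    rw [hL1card, hX] at h1
    have h2 : p ^ n = p ^ (n - 2) * p ^ 2 := by rw [← pow_add]; congr 1; omega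
    rw [h2] at h1
    exact Nat.eq_of_mul_eq_mul_left (pow_pos hp.pos _) h1
  by_cases hH : H = ⊤
  · -- two generators
    have h1 : Nat.card X ≤ p ^ 2 * Nat.card (frattini X) := by
      have h2 : p ^ n = p ^ 2 * p ^ (n - 2) := by rw [← pow_add]; congr 1; omega
      rw [hX, h2, ← hL1card]
      exact Nat.mul_le_mul_left _ (Subgroup.card_le_of_le hL1fr)
    obtain ⟨S, hS, hgen⟩ := exists_finset_closure_eq_top_of_card_le_frattini hPG 2 h1
    exact ⟨S, hS.trans hp2, by rw [hgen, hH]⟩
  · set K : Subgroup X := H ⊓ L1 with hK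
    obtain ⟨TK, hTK, hgenK⟩ :=
      exists_finset_closure_eq_of_card_le_frattini hPG K (p - 1) (hfr K inf_le_right)
    by_cases hHL : H ≤ L1
    · refine ⟨TK, hTK.trans (Nat.sub_le _ _), ?_⟩
      rw [hgenK, hK]; exact inf_eq_left.mpr hHL
    · obtain ⟨y, hyH, hyL⟩ := SetLike.not_le_iff_exists.mp hHL
      refine ⟨insert y TK, (Finset.card_insert_le _ _).trans (by omega), ?_⟩
      set M : Subgroup X := Subgroup.closure ((insert y TK : Finset X) : Set X) with hM
      have hKM : K ≤ M := by
        rw [← hgenK]
        apply Subgroup.closure_mono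
        intro x hx
        simp only [Finset.coe_insert]
        exact Set.mem_insert_of_mem _ hx
      have hyM : y ∈ M := by
        apply Subgroup.subset_closure
        simp
      have hMH : M ≤ H := by
        rw [hM, Subgroup.closure_le]
        intro x hx
        simp only [Finset.coe_insert, Set.mem_insert_iff, Finset.mem_coe] at hx
        rcases hx with rfl | hx
        · exact hyH
        · have : x ∈ K := by rw [← hgenK]; exact Subgroup.subset_closure hx
          exact this.1
      by_contra hne
      have hMltH : M < H := lt_of_le_of_ne hMH hne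
      have hKltM : K < M := by
        refine lt_of_le_of_ne hKM ?_
        intro h
        apply hyL
        have : y ∈ K := by rw [h]; exact hyM
        exact this.2
      have c1 := Cfsg.Agent.Helper1.LCS.mul_card_le_of_lt hPG hKltM
      have c2 := Cfsg.Agent.Helper1.LCS.mul_card_le_of_lt hPG hMltH
      -- relIndex computation
      have r1 : K.relIndex H = L1.relIndex (H ⊔ L1) := by
        rw [hK, Subgroup.inf_relIndex_left, Subgroup.relIndex_sup_right]
      have r2 : L1.relIndex (H ⊔ L1) * (H ⊔ L1).index = p ^ 2 := by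
        rw [Subgroup.relIndex_mul_index le_sup_right, hL1idx]
      have r3 : Nat.card K * K.relIndex H = Nat.card H := card_mul_relIndex_of_le inf_le_left
      have hKpos : 0 < Nat.card K := Nat.card_pos
      have r4 : p ^ 2 ≤ K.relIndex H := by
        have : Nat.card K * p ^ 2 ≤ Nat.card K * K.relIndex H := by
          rw [r3]
          calc Nat.card K * p ^ 2 = p * (p * Nat.card K) := by ring
            _ ≤ p * Nat.card M := Nat.mul_le_mul_left _ c1
            _ ≤ Nat.card H := c2
        exact Nat.le_of_mul_le_mul_left this hKpos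
      have r5 : (H ⊔ L1).index = 1 := by
        have hpos : 0 < (H ⊔ L1).index := Nat.pos_of_ne_zero Subgroup.index_ne_zero_of_finite
        rw [← r1] at r2
        by_contra h1
        have : 2 ≤ (H ⊔ L1).index := by omega
        have : K.relIndex H * 2 ≤ p ^ 2 := by rw [← r2]; exact Nat.mul_le_mul_left _ this
        have hpp : 0 < p ^ 2 := pow_pos hp.pos _
        omega
      have r6 : H ⊔ L1 = ⊤ := Subgroup.index_eq_one.mp r5
      apply hH
      apply frattini_nongenerating
      rw [eq_top_iff, ← r6]
      exact sup_le_sup_left hL1fr _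

end Cfsg.Agent.Helper18.Pearl
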