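import Mathlib
import Cfsg.Agent.Helper10.Pearl3Defs
import Cfsg.Agent.Helper10.Pearl3A3
import Cfsg.Agent.Helper10.Pearl3A2
import Cfsg.Agent.Helper18.Pearl3A1
import Cfsg.Agent.Helper18.PearlR2
import Cfsg.Agent.Helper1.PGroup

set_option autoImplicit false

/-! # S5239 piece A4: all two-step centralizers coincide (p = 3); elements outside are uniform -/

namespace Cfsg.Agent.Helper18.Pearl3

open scoped commutatorElement
open Cfsg.Agent.Helper10.Pearl3

variable {X : Type*} [Group X] [Finite X] {n : ℕ}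

local notation "L" => Subgroup.lowerCentralSeries (⊤ : Subgroup X)

/-- membership in `T_i` can be tested on one element of exact level `i` -/
theorem mem_twoStep_of_comm_mem {p : ℕ} [Fact p.Prime] (hX : Nat.card X = p ^ n) (hn : 3 ≤ n)
    (s : X) (hs : Nat.card (Subgroup.centralizer ({s} : Set X)) = p ^ 2) (i : ℕ) (hi : 1 ≤ i)
    (hin : i + 3 ≤ n) (g : X) (hg0 : g ∈ L i) (hg1 : g ∉ L (i + 1)) (y : X)
    (hy : ⁅g, y⁆ ∈ L (i + 2)) : y ∈ twoStep X i := by
  rw [mem_twoStep]
  have hD : L (i + 1) ≤ commSub y (L (i + 2)) := by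
    intro c hc
    rw [mem_commSub, Subgroup.lowerCentralSeries_succ]
    exact Subgroup.commutator_mem_commutator hc (Subgroup.mem_top y)
  have := lcs_le_of_not_mem hX hn s hs i hi (by omega) (commSub y (L (i + 2))) hD g hy hg0 hg1
  intro a ha
  exact this ha

theorem twoStep_eq_gammaOne [Fact (Nat.Prime 3)] (hX : Nat.card X = 3 ^ n) (hn : 4 ≤ n) (s : X)
    (hs : Nat.card (Subgroup.centralizer ({s} : Set X)) = 3 ^ 2) :
    ∀ i, 1 ≤ i → i + 3 ≤ n → twoStep X i = gammaOne X := by
  have hle : ∀ i, 1 ≤ i → i + 3 ≤ n → twoStep X 1 ≤ twoStep X i := by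
    intro i
    induction i using Nat.strong_induction_on with
    | _ i IH =>
      intro hi hin
      rcases Nat.lt_or_ge i 3 with h3 | h3
      · interval_cases i
        · exact le_rfl
        · exact twoStep_one_le_two hX (by omega) s hs
      · have h1 := IH (i - 2) (by omega) (by omega) (by omega)
        have h2 := twoStep_le_add_two hX (by omega) s hs (i - 2) (by omega) (by omega)
        have e : i - 2 + 2 = i := by omega
        rw [e] at h2
        exact h1.trans h2
  intro i hi hin
  have h1 := (index_twoStep hX (by omega) s hs 1 le_rfl (by omega)).2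
  have hi' := (index_twoStep hX (by omega) s hs i hi hin).2
  have c1 := Subgroup.card_mul_index (twoStep X 1)
  have ci := Subgroup.card_mul_index (twoStep X i)
  rw [h1] at c1
  rw [hi', ← c1] at ci
  have hcard : Nat.card (twoStep X i) = Nat.card (twoStep X 1) :=
    Nat.eq_of_mul_eq_mul_right (by norm_num) ci
  exact (Subgroup.eq_of_le_of_card_ge (hle i hi hin) (le_of_eq hcard)).symm

theorem card_centralizer_of_not_mem_gammaOne [Fact (Nat.Prime 3)] (hX : Nat.card X = 3 ^ n)
    (hn : 4 ≤ n) (s : X) (hs : Nat.card (Subgroup.centralizer ({s} : Set X)) = 3 ^ 2)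
    (y : X) (hy : y ∉ gammaOne X) :
    Nat.card (Subgroup.centralizer ({y} : Set X)) = 3 ^ 2 := by
  have hp : Nat.Prime 3 := Nat.prime_three
  have hPG : IsPGroup 3 X := IsPGroup.of_card hX
  set C := Subgroup.centralizer ({y} : Set X) with hC
  -- `y` is not central
  have hyZ : y ∉ Subgroup.center X := by
    intro h
    apply hy
    rw [mem_gammaOne]
    intro a ha
    have : ⁅a, y⁆ = 1 := by
      rw [commutatorElement_eq_one_iff_mul_comm]
      exact Subgroup.mem_center_iff.mp h a
    rw [this]; exact Subgroup.one_mem _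
  -- level lemma
  have hlevel : ∀ k : ℕ, ∀ g ∈ L 1, g ∉ L (1 + k) →
      ∃ i, 1 ≤ i ∧ i ≤ k ∧ g ∈ L i ∧ g ∉ L (i + 1) := by
    intro k
    induction k with
    | zero => intro g hg hng; exact absurd hg hng
    | succ k ih =>
      intro g hg hng
      by_cases h : g ∈ L (1 + k)
      · exact ⟨1 + k, by omega, by omega, h, by rwa [show 1 + k + 1 = 1 + (k + 1) by omega]⟩
      · obtain ⟨i, h1, h2, h3, h4⟩ := ih g hg h
        exact ⟨i, h1, by omega, h3, h4⟩
  -- `C ⊓ L 1 ≤ L (n-2)`
  have hK : C ⊓ L 1 ≤ L (n - 2) := by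
    rintro g ⟨hgC, hgL⟩
    by_contra hng
    have e : n - 2 = 1 + (n - 3) := by omega
    rw [e] at hng
    obtain ⟨i, h1, h2, h3, h4⟩ := hlevel (n - 3) g hgL hng
    apply hy
    rw [← twoStep_eq_gammaOne hX hn s hs i h1 (by omega)]
    apply mem_twoStep_of_comm_mem hX (by omega) s hs i h1 (by omega) g h3 h4 y
    have : ⁅g, y⁆ = 1 := by
      rw [commutatorElement_eq_one_iff_mul_comm]
      exact Subgroup.mem_centralizer_singleton_iff.mp hgC
    rw [this]; exact Subgroup.one_mem _
  have hcL1 : Nat.card (L 1) = 3 ^ (n - 2) := by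
    have := Cfsg.Agent.Helper18.Pearl.card_lcs_of_uniform hX (by omega) s hs 1 le_rfl (by omega)
    rw [this]; congr 1
  have hcLn : Nat.card (L (n - 2)) = 3 := by
    have := Cfsg.Agent.Helper18.Pearl.card_lcs_of_uniform hX (by omega) s hs (n - 2) (by omega)
      (by omega)
    rw [this]
    have e : n - 1 - (n - 2) = 1 := by omega
    rw [e, pow_one]
  have hKcard : Nat.card (C ⊓ L 1 : Subgroup X) ≤ 3 := by
    rw [← hcLn]; exact Subgroup.card_le_of_le hK
  have hL1idx : (L 1).index = 3 ^ 2 := by
    have h1 := Subgroup.card_mul_index (L 1)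
    rw [hcL1, hX] at h1
    have h2 : 3 ^ n = 3 ^ (n - 2) * 3 ^ 2 := by rw [← pow_add]; congr 1; omega
    rw [h2] at h1
    exact Nat.eq_of_mul_eq_mul_left (pow_pos (by norm_num) _) h1
  have hL1fr : L 1 ≤ frattini X := by
    rw [Subgroup.top_lowerCentralSeries_one]
    exact Cfsg.Agent.Helper1.IsPGroup.commutator_le_frattini hPG
  -- upper bound
  have hlt : Nat.card C < 27 := by
    by_contra hge
    push Not at hge
    have r1 : (C ⊓ L 1).relIndex C = (L 1).relIndex (C ⊔ L 1) := by
      rw [Subgroup.inf_relIndex_left, Subgroup.relIndex_sup_right]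
    have r2 : (L 1).relIndex (C ⊔ L 1) * (C ⊔ L 1).index = 3 ^ 2 := by
      rw [Subgroup.relIndex_mul_index le_sup_right, hL1idx]
    have r3 : Nat.card (C ⊓ L 1 : Subgroup X) * (C ⊓ L 1).relIndex C = Nat.card C :=
      Cfsg.Agent.Helper18.Pearl.card_mul_relIndex_of_le inf_le_left
    have r4 : 9 ≤ (C ⊓ L 1).relIndex C := by
      by_contra h
      push Not at h
      have : Nat.card (C ⊓ L 1 : Subgroup X) * (C ⊓ L 1).relIndex C ≤ 3 * 8 :=
        Nat.mul_le_mul hKcard (by omega)
      omega
    have r5 : (C ⊔ L 1).index = 1 := by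
      have hpos : 0 < (C ⊔ L 1).index := Nat.pos_of_ne_zero Subgroup.index_ne_zero_of_finite
      rw [← r1] at r2
      by_contra h1
      have h2 : 2 ≤ (C ⊔ L 1).index := by omega
      have : (C ⊓ L 1).relIndex C * 2 ≤ 3 ^ 2 := by
        rw [← r2]; exact Nat.mul_le_mul_left _ h2
      omega
    have r6 : C ⊔ L 1 = ⊤ := Subgroup.index_eq_one.mp r5
    have r7 : C = ⊤ := by
      apply frattini_nongenerating
      rw [eq_top_iff, ← r6]
      exact sup_le_sup_left hL1fr _
    apply hyZ
    rw [Subgroup.mem_center_iff]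
    intro g
    have : g ∈ C := by rw [r7]; exact Subgroup.mem_top g
    exact Subgroup.mem_centralizer_singleton_iff.mp this
  -- lower bound
  have hge : 9 ≤ Nat.card C := by
    have hnt : Nontrivial X := by
      apply (Finite.one_lt_card_iff_nontrivial).mp
      rw [hX]; exact Nat.one_lt_pow (by omega) (by norm_num)
    have hZnt : Nontrivial (Subgroup.center X) := hPG.center_nontrivial
    have hZbot : (⊥ : Subgroup X) < Subgroup.center X := by
      rw [bot_lt_iff_ne_bot]
      exact (Subgroup.nontrivial_iff_ne_bot _).mp hZnt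
    have h1 := Cfsg.Agent.Helper1.LCS.mul_card_le_of_lt hPG hZbot
    rw [Subgroup.card_bot, mul_one] at h1
    have hZC : Subgroup.center X ≤ C := Subgroup.center_le_centralizer _
    have hyC : y ∈ C := Subgroup.mem_centralizer_singleton_iff.mpr rfl
    have hZltC : Subgroup.center X < C := by
      refine lt_of_le_of_ne hZC ?_
      intro h
      apply hyZ
      rw [h]; exact hyC
    have h2 := Cfsg.Agent.Helper1.LCS.mul_card_le_of_lt hPG hZltC
    omega
  obtain ⟨k, hk⟩ := IsPGroup.iff_card.mp (hPG.to_subgroup C)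
  rw [hk] at hlt hge ⊢
  have h1 : k < 3 := by
    by_contra h
    push Not at h
    have := Nat.pow_le_pow_right (show 0 < 3 by norm_num) h
    omega
  have h2 : 2 ≤ k := by
    by_contra h
    push Not at h
    have := Nat.pow_le_pow_right (show 0 < 3 by norm_num) (show k ≤ 1 by omega)
    omega
  have : k = 2 := by omega
  rw [this]

end Cfsg.Agent.Helper18.Pearl3
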