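import Cfsg.Agent.Helper18.Heis
import Cfsg.Agent.Helper14.QdSyl4
import Cfsg.Agent.Helper14.QdTwo

set_option autoImplicit false

namespace Cfsg.Agent.Helper18

open Cfsg.Agent.Helper14

/-- Heisenberg coordinates on any conjugate of the standard Sylow subgroup of `Qd(F)`. -/
theorem heisCoord_of_eq_map_cj {F : Type*} [Field F] (P : Subgroup (Helper17.affSub F))
    (g : Helper17.affSub F) (hP : P = (qdS0 F).map (cj g)) : Nonempty (HeisCoord F ↥P) := by
  refine ⟨{ h := fun b x y => ⟨g * heis b x y * g⁻¹, ?_⟩, mul := ?_, surj := ?_, inj := ?_ }⟩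
  · rw [hP]; exact ⟨heis b x y, heis_mem b x y, rfl⟩
  · intro b x y b' x' y'
    apply Subtype.ext
    show g * heis b x y * g⁻¹ * (g * heis b' x' y' * g⁻¹) = g * heis _ _ _ * g⁻¹
    rw [← heis_mul]; group
  · rintro ⟨m, hm⟩
    have hm' := hm
    rw [hP] at hm'
    obtain ⟨M, hM, rfl⟩ := hm'
    refine ⟨affMat3 M 0 1, affMat3 M 0 2, affMat3 M 1 2, Subtype.ext ?_⟩
    show cj g M = g * heis (affMat3 M 0 1) (affMat3 M 0 2) (affMat3 M 1 2) * g⁻¹
    rw [← eq_heis hM]; rfl
  · intro b x y b' x' y' h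
    have h' : g * heis b x y * g⁻¹ = g * heis b' x' y' * g⁻¹ := congrArg Subtype.val h
    have h2 : heis b x y = heis b' x' y' := mul_left_cancel (mul_right_cancel h')
    exact heis_injective h2

theorem heisCoord_sylow_affSub (p : ℕ) [Fact p.Prime] (P : Sylow p (Helper17.affSub (ZMod p))) :
    Nonempty (HeisCoord (ZMod p) ↥P) := by
  obtain ⟨g, hg⟩ := sylow_eq_map_cj_qdS0 (p := p) P
  exact heisCoord_of_eq_map_cj (P : Subgroup _) g hg

theorem heisCoord_sylow_qd (p : ℕ) [Fact p.Prime] (P : Sylow p ↥(Cfsg.qd p)) :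
    Nonempty (HeisCoord (ZMod p) ↥P) := by
  have key : ∀ (Q : Subgroup (Matrix.SpecialLinearGroup (Fin 3) (ZMod p))),
      Q = Helper17.affSub (ZMod p) → ∀ P : Sylow p ↥Q, Nonempty (HeisCoord (ZMod p) ↥P) := by
    rintro Q rfl P
    exact heisCoord_sylow_affSub p P
  exact key _ (qd_eq_affSub p) P

end Cfsg.Agent.Helper18
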