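import Mathlib

/-! # S0747 (a `k`-transitive group, `4 ≤ k < n`, has a `(k+1)`-set `Δ` with `G_Δ^Δ ≥ Alt(Δ)`): shared definitions.
Blueprint: `departures/helper18_S0747_blueprint.md`; board `s0747pieces`. -/

set_option autoImplicit false

namespace Cfsg.Agent.S0747P

open MulAction

/-- `Good G α k`: some `(k+1)`-subset `Δ` of `α` on which every even permutation is induced by an element of `G`. -/
def Good (G : Type*) (α : Type*) [Group G] [MulAction G α] [Fintype α] [DecidableEq α] (k : ℕ) : Prop :=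
  ∃ Δ : Finset α, Δ.card = k + 1 ∧
    ∀ σ : Equiv.Perm ↥Δ, σ ∈ alternatingGroup ↥Δ → ∃ g : G, ∀ x : ↥Δ, g • (x : α) = σ x

/-- The normalizer of `P` acting on the fixed points of `P`. -/
def fixSub {G : Type*} (α : Type*) [Group G] [MulAction G α] (P : Subgroup G) :
    SubMulAction ↥(Subgroup.normalizer (P : Set G)) α where
  carrier := fixedPoints P α
  smul_mem' := by
    rintro ⟨n, hn⟩ a ha
    rw [mem_fixedPoints] at ha ⊢
    rintro ⟨q, hq⟩
    have h1 : n⁻¹ * q * n ∈ P := (Subgroup.mem_normalizer_iff''.mp hn q).mp hq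
    have h2 := ha ⟨n⁻¹ * q * n, h1⟩
    change (n⁻¹ * q * n) • a = a at h2
    change q • (n • a) = n • a
    rw [mul_smul, mul_smul, inv_smul_eq_iff] at h2
    exact h2

end Cfsg.Agent.S0747P
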