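import Mathlib
import Cfsg.Agent.Helper10.S2092.DefsP

set_option autoImplicit false
set_option linter.unusedSectionVars false
set_option linter.unusedVariables false

/-! S2092, part P, piece INJP: `π` is injective on the abelian group `UPC Ys Yl` (the roots `e_i + e_j`, `2 e_i`). -/

namespace Cfsg.Agent.S2092P

open scoped commutatorElement
open Matrix Cfsg.Agent.S3352P Cfsg.Agent.S2096P Cfsg.Agent.S2094P Cfsg.Agent.RGD

variable {n : ℕ} {F : Type*} [Field F] {M : Type*} [Group M] {Ys : J n → J n → F → M}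
  {Yl : J n → F → M} {π : M →* Matrix (J n) (J n) F}

namespace INJP

theorem isRoot_lr' {i j : Fin n} (h : i ≠ j) : IsRoot (Sum.inl i : J n) (Sum.inr j) :=
  ⟨fun h' => by simp at h', fun h' => h (by simpa using h')⟩

theorem Ys_zero' (hY : CRel Ys Yl) {a b : J n} (hab : IsRoot a b) : Ys a b (0 : F) = 1 := by
  have h := hY.adds a b hab 0 0
  rw [add_zero] at h
  have h' : Ys a b (0 : F) * Ys a b 0 = Ys a b 0 * 1 := by rw [← h, mul_one]
  exact mul_left_cancel h'

theorem Yl_zero' (hY : CRel Ys Yl) (a : J n) : Yl a (0 : F) = 1 := by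
  have h := hY.addl a 0 0
  rw [add_zero] at h
  have h' : Yl a (0 : F) * Yl a 0 = Yl a 0 * 1 := by rw [← h, mul_one]
  exact mul_left_cancel h'

theorem same_comm_s (hY : CRel Ys Yl) {a b : J n} (hab : IsRoot a b) (s t : F) :
    Commute (Ys a b s) (Ys a b t) := by
  show Ys a b s * Ys a b t = Ys a b t * Ys a b s
  rw [← hY.adds a b hab, ← hY.adds a b hab, add_comm]

theorem same_comm_l (hY : CRel Ys Yl) (a : J n) (s t : F) : Commute (Yl a s) (Yl a t) := by
  show Yl a s * Yl a t = Yl a t * Yl a s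
  rw [← hY.addl a, ← hY.addl a, add_comm]

/-- the two names of the root `e_i + e_j` -/
theorem flip_lr' (hY : CRel Ys Yl) {i j : Fin n} (hij : i ≠ j) (t : F) :
    Ys (Sum.inl i) (Sum.inr j) t = Ys (Sum.inl j) (Sum.inr i) t := by
  have h := hY.flip (Sum.inl j) (Sum.inr i) (isRoot_lr' (Ne.symm hij)) t
  simpa using h

theorem comm_lr' (hY : CRel Ys Yl) {i j k l : Fin n} (hij : i ≠ j) (hkl : k ≠ l) (hil : i ≠ l)
    (hjk : j ≠ k) (s t : F) :
    Commute (Ys (Sum.inl i) (Sum.inr j) s) (Ys (Sum.inl k) (Sum.inr l) t) := by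
  refine hY.comm _ _ _ _ (isRoot_lr' hij) (isRoot_lr' hkl) ?_ ?_ ?_ ?_ ?_ ?_ s t
  · simp
  · simp
  · simp
  · simpa using hil
  · simpa using hjk
  · simp

theorem gen_comm_ss (hY : CRel Ys Yl) {i j k l : Fin n} (hij : i ≠ j) (hkl : k ≠ l) (s t : F) :
    Commute (Ys (Sum.inl i) (Sum.inr j) s) (Ys (Sum.inl k) (Sum.inr l) t) := by
  by_cases hil : i = l
  · subst hil
    by_cases hjk : j = k
    · subst hjk
      rw [flip_lr' hY hkl t]
      exact same_comm_s hY (isRoot_lr' hij) s t
    · rw [flip_lr' hY hkl t]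
      exact comm_lr' hY hij (Ne.symm hkl) (Ne.symm hkl) (Ne.symm hij) s t
  · by_cases hjk : j = k
    · subst hjk
      rw [flip_lr' hY hij s]
      exact comm_lr' hY (Ne.symm hij) hkl hkl hij s t
    · exact comm_lr' hY hij hkl hil hjk s t

theorem gen_comm_sl (hY : CRel Ys Yl) {i j : Fin n} (hij : i ≠ j) (k : Fin n) (s t : F) :
    Commute (Ys (Sum.inl i) (Sum.inr j) s) (Yl (Sum.inl k) t) := by
  refine hY.slcomm _ _ _ (isRoot_lr' hij) ?_ ?_ s t
  · simp
  · simp

theorem gen_comm_ll (hY : CRel Ys Yl) (i k : Fin n) (s t : F) :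
    Commute (Yl (Sum.inl i) s) (Yl (Sum.inl k) t) := by
  refine hY.ll _ _ ?_ s t
  simp

/-- the pairs `i < j` -/
abbrev Pairs (n : ℕ) : Type := {p : Fin n × Fin n // p.1 < p.2}

/-- the index set of the positive roots `e_i + e_j` (`i < j`) and `2 e_i` -/
abbrev Idx (n : ℕ) : Type := Pairs n ⊕ Fin n

/-- the root element of an index -/
def rootEl (Ys : J n → J n → F → M) (Yl : J n → F → M) : Idx n → F → M
  | Sum.inl p => Ys (Sum.inl p.1.1) (Sum.inr p.1.2)
  | Sum.inr i => Yl (Sum.inl i)

/-- the one parameter subgroups -/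
def phi (hY : CRel Ys Yl) (p : Idx n) : Multiplicative F →* M where
  toFun t := rootEl Ys Yl p (Multiplicative.toAdd t)
  map_one' := by
    cases p with
    | inl p => exact Ys_zero' hY (isRoot_lr' (ne_of_lt p.2))
    | inr i => exact Yl_zero' hY _
  map_mul' s t := by
    cases p with
    | inl p => exact hY.adds _ _ (isRoot_lr' (ne_of_lt p.2)) _ _
    | inr i => exact hY.addl _ _ _

theorem phi_apply (hY : CRel Ys Yl) (p : Idx n) (t : Multiplicative F) :
    phi hY p t = rootEl Ys Yl p (Multiplicative.toAdd t) := rfl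

theorem phi_comm (hY : CRel Ys Yl) :
    Pairwise fun p q : Idx n => ∀ x y : Multiplicative F,
      Commute (phi (F := F) hY p x) (phi hY q y) := by
  intro p q _ x y
  cases p with
  | inl p =>
    cases q with
    | inl q => exact gen_comm_ss hY (ne_of_lt p.2) (ne_of_lt q.2) _ _
    | inr k => exact gen_comm_sl hY (ne_of_lt p.2) k _ _
  | inr i =>
    cases q with
    | inl q => exact (gen_comm_sl hY (ne_of_lt q.2) i _ _).symm
    | inr k => exact gen_comm_ll hY i k _ _

/-- the product map -/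
noncomputable def Psi (hY : CRel Ys Yl) : (Idx n → Multiplicative F) →* M :=
  MonoidHom.noncommPiCoprod (phi hY) (phi_comm hY)

theorem UPC_le_range (hY : CRel Ys Yl) : UPC Ys Yl ≤ (Psi (F := F) hY).range := by
  classical
  unfold UPC
  rw [Subgroup.closure_le]
  rintro _ (⟨i, j, t, hij, rfl⟩ | ⟨i, t, rfl⟩)
  · rcases lt_or_gt_of_ne hij with h | h
    · refine ⟨Pi.mulSingle (Sum.inl ⟨(i, j), h⟩ : Idx n) (Multiplicative.ofAdd t), ?_⟩
      unfold Psi
      rw [MonoidHom.noncommPiCoprod_mulSingle]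
      rfl
    · refine ⟨Pi.mulSingle (Sum.inl ⟨(j, i), h⟩ : Idx n) (Multiplicative.ofAdd t), ?_⟩
      unfold Psi
      rw [MonoidHom.noncommPiCoprod_mulSingle, flip_lr' hY hij]
      rfl
  · refine ⟨Pi.mulSingle (Sum.inr i : Idx n) (Multiplicative.ofAdd t), ?_⟩
    unfold Psi
    rw [MonoidHom.noncommPiCoprod_mulSingle]
    rfl

/-- the matrices `E_{ij} + E_{ji}` and `E_{ii}` -/
def Am : Idx n → Matrix (Fin n) (Fin n) F
  | Sum.inl p => Matrix.single p.1.1 p.1.2 (1 : F) + Matrix.single p.1.2 p.1.1 (1 : F)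
  | Sum.inr i => Matrix.single i i (1 : F)

theorem xs_lr (i j : Fin n) (t : F) :
    xs (Sum.inl i : J n) (Sum.inr j) t =
      Matrix.fromBlocks 1 (t • (Matrix.single i j (1 : F) + Matrix.single j i (1 : F))) 0 1 := by
  unfold xs
  ext (a | a) (b | b) <;>
    simp [Matrix.single_apply, Matrix.one_apply, Matrix.add_apply, Matrix.sub_apply,
      Matrix.smul_apply]

theorem xl_l (i : Fin n) (t : F) :
    xl (Sum.inl i : J n) t = Matrix.fromBlocks 1 (t • Matrix.single i i (1 : F)) 0 1 := by
  unfold xl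
  ext (a | a) (b | b) <;>
    simp [Matrix.single_apply, Matrix.one_apply, Matrix.add_apply, Matrix.smul_apply]

theorem pi_rootEl (h : PHyp Ys Yl π) (p : Idx n) (t : F) :
    π (rootEl Ys Yl p t) = Matrix.fromBlocks 1 (t • (Am p : Matrix _ _ F)) 0 1 := by
  cases p with
  | inl p =>
    show π (Ys _ _ t) = _
    rw [h.pis _ _ (isRoot_lr' (ne_of_lt p.2)), xs_lr]
    rfl
  | inr i =>
    show π (Yl _ t) = _
    rw [h.pil, xl_l]
    rfl

theorem noncommProd_blocks {ι : Type*} [DecidableEq ι] (f : ι → Matrix (Fin n) (Fin n) F) :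
    ∀ (s : Finset ι) (comm : (s : Set ι).Pairwise (Function.onFun Commute
      (fun p => (Matrix.fromBlocks 1 (f p) 0 1 : Matrix (J n) (J n) F)))),
      s.noncommProd (fun p => (Matrix.fromBlocks 1 (f p) 0 1 : Matrix (J n) (J n) F)) comm =
        Matrix.fromBlocks 1 (∑ p ∈ s, f p) 0 1 := by
  intro s
  induction s using Finset.induction_on with
  | empty =>
    intro comm
    rw [Finset.noncommProd_empty, Finset.sum_empty, Matrix.fromBlocks_one]
  | insert a s ha ih =>
    intro comm
    rw [Finset.noncommProd_insert_of_notMem _ _ _ _ ha, ih, Finset.sum_insert ha,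
      Matrix.fromBlocks_multiply]
    simp [add_comm]

theorem pi_Psi (h : PHyp Ys Yl π) (T : Idx n → Multiplicative F) :
    π (Psi h.rel T) =
      Matrix.fromBlocks 1 (∑ p : Idx n, Multiplicative.toAdd (T p) • (Am p : Matrix _ _ F)) 0 1 := by
  classical
  unfold Psi
  rw [MonoidHom.noncommPiCoprod_apply, Finset.map_noncommProd]
  rw [← noncommProd_blocks (fun p : Idx n => Multiplicative.toAdd (T p) • (Am p : Matrix _ _ F))]
  · apply Finset.noncommProd_congr rfl
    intro p _
    rw [phi_apply, pi_rootEl h]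
  · intro p _ q _ _
    show Commute _ _
    unfold Commute SemiconjBy
    rw [Matrix.fromBlocks_multiply, Matrix.fromBlocks_multiply]
    simp [add_comm]

theorem T_eq_one {T : Idx n → Multiplicative F}
    (h : (∑ p : Idx n, Multiplicative.toAdd (T p) • (Am p : Matrix _ _ F)) = 0) : T = 1 := by
  classical
  funext p0
  cases p0 with
  | inl p0 =>
    have h0 := congrFun (congrFun h p0.1.1) p0.1.2
    rw [Matrix.sum_apply, Finset.sum_eq_single (Sum.inl p0)] at h0
    · have e : (Am (Sum.inl p0 : Idx n) : Matrix _ _ F) p0.1.1 p0.1.2 = 1 := by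
        have hne : p0.1.1 ≠ p0.1.2 := ne_of_lt p0.2
        simp [Am, Matrix.single_apply, hne, hne.symm]
      rw [Matrix.smul_apply, e, smul_eq_mul, mul_one, Matrix.zero_apply] at h0
      show T (Sum.inl p0) = 1
      exact Multiplicative.toAdd.injective h0
    · intro q _ hq
      have e : (Am q : Matrix _ _ F) p0.1.1 p0.1.2 = 0 := by
        cases q with
        | inl q =>
          have h1 : ¬ (q.1.1 = p0.1.1 ∧ q.1.2 = p0.1.2) := fun h' =>
            hq (congrArg Sum.inl (Subtype.ext (Prod.ext h'.1 h'.2)))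
          have h2 : ¬ (q.1.2 = p0.1.1 ∧ q.1.1 = p0.1.2) := fun h' => by
            have := q.2
            have := p0.2
            rw [h'.1, h'.2] at *
            exact lt_asymm ‹_› ‹_›
          simp [Am, Matrix.single_apply, h1, h2]
        | inr k =>
          have hne : p0.1.1 ≠ p0.1.2 := ne_of_lt p0.2
          have h1 : ¬ (k = p0.1.1 ∧ k = p0.1.2) := fun h' => hne (h'.1.symm.trans h'.2)
          simp [Am, Matrix.single_apply, h1]
      rw [Matrix.smul_apply, e, smul_zero]
    · intro h'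
      exact absurd (Finset.mem_univ _) h'
  | inr i0 =>
    have h0 := congrFun (congrFun h i0) i0
    rw [Matrix.sum_apply, Finset.sum_eq_single (Sum.inr i0)] at h0
    · have e : (Am (Sum.inr i0 : Idx n) : Matrix _ _ F) i0 i0 = 1 := by
        simp [Am, Matrix.single_apply]
      rw [Matrix.smul_apply, e, smul_eq_mul, mul_one, Matrix.zero_apply] at h0
      show T (Sum.inr i0) = 1
      exact Multiplicative.toAdd.injective h0
    · intro q _ hq
      have e : (Am q : Matrix _ _ F) i0 i0 = 0 := by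
        cases q with
        | inl q =>
          have hne : q.1.1 ≠ q.1.2 := ne_of_lt q.2
          have h1 : ¬ (q.1.1 = i0 ∧ q.1.2 = i0) := fun h' => hne (h'.1.trans h'.2.symm)
          have h2 : ¬ (q.1.2 = i0 ∧ q.1.1 = i0) := fun h' => hne (h'.2.trans h'.1.symm)
          simp [Am, Matrix.single_apply, h1, h2]
        | inr k =>
          have h1 : k ≠ i0 := fun h' => hq (by rw [h'])
          simp [Am, Matrix.single_apply, h1]
      rw [Matrix.smul_apply, e, smul_zero]
    · intro h'
      exact absurd (Finset.mem_univ _) h'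

end INJP

/-- INJP -/
theorem eq_one_of_mem_UPC (h : PHyp Ys Yl π) {y : M} (hy : y ∈ UPC Ys Yl) (h1 : π y = 1) :
    y = 1 := by
  obtain ⟨T, rfl⟩ := INJP.UPC_le_range h.rel hy
  rw [INJP.pi_Psi h, ← Matrix.fromBlocks_one, Matrix.fromBlocks_inj] at h1
  rw [INJP.T_eq_one h1.2.1, map_one]

end Cfsg.Agent.S2092P
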