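import Mathlib
import Cfsg.Agent.Helper10.S2092.DefsP
import Cfsg.Agent.Helper18.S2092INJP
import Cfsg.Agent.Helper4.S2092UDEC
import Cfsg.Agent.Helper4.S2092BLK
import Cfsg.Agent.Helper8.S2092INJA

set_option autoImplicit false
set_option linter.unusedSectionVars false
set_option linter.unusedVariables false

/-! S2092, part P, piece INJPOS: `π` is injective on `Û` (assembly of UDEC, BLK, INJA, INJP). -/

namespace Cfsg.Agent.S2092P

open scoped commutatorElement
open Matrix Cfsg.Agent.S3352P Cfsg.Agent.S2096P Cfsg.Agent.S2094P Cfsg.Agent.RGD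

variable {n : ℕ} {F : Type*} [Field F] {M : Type*} [Group M] {Ys : J n → J n → F → M}
  {Yl : J n → F → M} {π : M →* Matrix (J n) (J n) F}

theorem eq_one_of_mem_Uh_c [Finite F] (hn : 2 ≤ n) (h : PHyp Ys Yl π) {g : M}
    (hg : g ∈ (datumC Ys Yl).Uh) (h1 : π g = 1) : g = 1 := by
  obtain ⟨a, ha, y, hy, rfl⟩ := exists_UA_UPC h.rel hg
  have hA := block_UA_c h ha
  have hP := block_UPC h hy
  rw [map_mul] at h1
  -- `π a = 1`
  have hpa : π a = 1 := by
    ext x z
    rcases x with i | i <;> rcases z with j | j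
    · -- `(inl, inl)`
      have e := congrFun (congrFun h1 (Sum.inl i)) (Sum.inl j)
      rw [Matrix.mul_apply, Fintype.sum_sum_type] at e
      have e2 : ∑ k : Fin n, π a (Sum.inl i) (Sum.inr k) * π y (Sum.inr k) (Sum.inl j) = 0 :=
        Finset.sum_eq_zero fun k _ => by rw [(hA i k).1, zero_mul]
      have e1 : ∑ k : Fin n, π a (Sum.inl i) (Sum.inl k) * π y (Sum.inl k) (Sum.inl j) =
          π a (Sum.inl i) (Sum.inl j) := by
        rw [Finset.sum_eq_single j]
        · rw [(hP j j).1, Matrix.one_apply_eq, mul_one]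
        · intro k _ hk
          rw [(hP k j).1, Matrix.one_apply_ne hk, mul_zero]
        · intro hj
          exact absurd (Finset.mem_univ j) hj
      rw [e1, e2, add_zero] at e
      exact e
    · rw [(hA i j).1, Matrix.one_apply_ne (by simp)]
    · rw [(hA i j).2, Matrix.one_apply_ne (by simp)]
    · -- `(inr, inr)`
      have e := congrFun (congrFun h1 (Sum.inr i)) (Sum.inr j)
      rw [Matrix.mul_apply, Fintype.sum_sum_type] at e
      have e2 : ∑ k : Fin n, π a (Sum.inr i) (Sum.inl k) * π y (Sum.inl k) (Sum.inr j) = 0 :=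
        Finset.sum_eq_zero fun k _ => by rw [(hA i k).2, zero_mul]
      have e1 : ∑ k : Fin n, π a (Sum.inr i) (Sum.inr k) * π y (Sum.inr k) (Sum.inr j) =
          π a (Sum.inr i) (Sum.inr j) := by
        rw [Finset.sum_eq_single j]
        · rw [(hP j j).2.1, Matrix.one_apply_eq, mul_one]
        · intro k _ hk
          rw [(hP k j).2.1, Matrix.one_apply_ne hk, mul_zero]
        · intro hj
          exact absurd (Finset.mem_univ j) hj
      rw [e1, e2, zero_add] at e
      exact e
  have ha1 : a = 1 := eq_one_of_mem_UA_c hn h ha hpa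
  rw [hpa, one_mul] at h1
  rw [ha1, one_mul]
  exact eq_one_of_mem_UPC h hy h1

end Cfsg.Agent.S2092P
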