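import Mathlib
import Cfsg.Agent.Helper2.S2400.Defs
import Cfsg.Agent.Helper2.Stein.Tab
import Cfsg.Prelude.Def_KGroupFacts
import Cfsg.Prelude.Def_Steinberg

set_option autoImplicit false
set_option linter.unusedSectionVars false
set_option linter.unusedVariables false

/-! S2400, piece CIRCF: the Prelude's relations (R1), (R2) of type `B₂` give the relations on the
circle. -/

namespace Cfsg.Agent.S2400P

open scoped commutatorElement
open Cfsg.Lie Cfsg.Agent.Helper2.Stb Cfsg.Agent.Helper2.StPerf Cfsg.Agent.Helper2.Stein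
open Cfsg.Agent.S2086P (CL cl map_cl cl_eq commute_comm CL_of_comm)

variable {K : Type*} [Field K] {G : Type*} [Group G] {E : Type*} [Group E]

namespace CIRCF

theorem tab1 : ∀ k : ZMod 8, kap k ≠ kap (k + 1) ∧ kap k ≠ chevB2.neg (kap (k + 1)) ∧
    chevB2.commTerms (kap (k + 1)) (kap k) = [] := by decide

theorem tabLL : ∀ l : ZMod 8, IsL l → kap l ≠ kap (l + 2) ∧ kap l ≠ chevB2.neg (kap (l + 2)) ∧
    chevB2.commTerms (kap (l + 2)) (kap l) = [] := by decide

theorem tab2 : ∀ k : ZMod 8, IsS k → ∀ s : ZMod 8, s = 1 ∨ s = -1 →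
    kap k ≠ kap (k + 2 * s) ∧ kap k ≠ chevB2.neg (kap (k + 2 * s)) ∧
    chevB2.commTerms (kap (k + 2 * s)) (kap k) = [(kap (k + s), -2 * E3 k s, 1, 1)] := by decide

theorem tab3 : ∀ k : ZMod 8, IsS k → ∀ s : ZMod 8, s = 1 ∨ s = -1 →
    kap k ≠ kap (k + 3 * s) ∧ kap k ≠ chevB2.neg (kap (k + 3 * s)) ∧
    chevB2.commTerms (kap (k + 3 * s)) (kap k) =
      [(kap (k + 2 * s), -E1 k s, 1, 1), (kap (k + s), E2 k s, 1, 2)] := by decide

/-- the relation (R2) as a Mathlib commutator -/
theorem comm_eq {M : Type*} [Group M] {X : ℕ → K → M} (h : R12 chevB2 X) {r s : ℕ} (hr : r < 8)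
    (hs : s < 8) (h1 : s ≠ r) (h2 : s ≠ chevB2.neg r) (t u : K) :
    ⁅X s u, X r t⁆ = wordX X (chevB2.commWord K r s (-t) (-u)) := by
  rw [← h.comm r hr s hs h1 h2 (-t) (-u), X_inv h hs, X_inv h hr, neg_neg, neg_neg,
    commutatorElement_def, X_inv h hs, X_inv h hr]

end CIRCF

open CIRCF

theorem circ_of_r12 {M : Type*} [Group M] {X : ℕ → K → M} (h : R12 chevB2 X) :
    Circ (fun k s => ((E1 k s : ℤ) : K)) (fun k s => ((E2 k s : ℤ) : K))
      (fun k s => ((E3 k s : ℤ) : K)) (fun k => X (kap k)) := by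
  refine ⟨?_, ?_, ?_, ?_, ?_⟩
  · intro k t u
    exact h.add (kap k) (kap_lt k) t u
  · intro k t u
    obtain ⟨h1, h2, h3⟩ := tab1 k
    have e := comm_eq h (kap_lt (k + 1)) (kap_lt k) h1 h2 u t
    unfold ChevalleyDatum.commWord at e
    rw [h3, List.map_nil, wordX_nil] at e
    exact commutatorElement_eq_one_iff_commute.mp e
  · intro l hl t u
    obtain ⟨h1, h2, h3⟩ := tabLL l hl
    have e := comm_eq h (kap_lt (l + 2)) (kap_lt l) h1 h2 u t
    unfold ChevalleyDatum.commWord at e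
    rw [h3, List.map_nil, wordX_nil] at e
    exact commutatorElement_eq_one_iff_commute.mp e
  · intro k hk s hs t u
    obtain ⟨h1, h2, h3⟩ := tab2 k hk s hs
    have e := comm_eq h (kap_lt (k + 2 * s)) (kap_lt k) h1 h2 u t
    unfold ChevalleyDatum.commWord at e
    rw [h3, List.map_cons, List.map_nil, wordX_cons, wordX_nil, mul_one] at e
    rw [e]
    congr 1
    push_cast
    ring
  · intro k hk s hs t u
    obtain ⟨h1, h2, h3⟩ := tab3 k hk s hs
    have e := comm_eq h (kap_lt (k + 3 * s)) (kap_lt k) h1 h2 u t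
    unfold ChevalleyDatum.commWord at e
    rw [h3, List.map_cons, List.map_cons, List.map_nil, wordX_cons, wordX_cons, wordX_nil,
      mul_one] at e
    rw [e]
    congr 2
    · push_cast
      ring
    · push_cast
      ring

end Cfsg.Agent.S2400P
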