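import Mathlib
import Cfsg.Agent.Helper2.S2400.Defs
import Cfsg.Agent.Helper2.Stein.Tab
import Cfsg.Agent.Helper18.S2400CIRCF
import Cfsg.Prelude.Def_KGroupFacts
import Cfsg.Prelude.Def_Steinberg

set_option autoImplicit false
set_option linter.unusedSectionVars false
set_option linter.unusedVariables false

/-! S2400, piece CIRCB: the relations of type `B₂` on the circle give the Prelude's relations
(R1), (R2). -/

namespace Cfsg.Agent.S2400P

open scoped commutatorElement
open Cfsg.Lie Cfsg.Agent.Helper2.Stb Cfsg.Agent.Helper2.StPerf Cfsg.Agent.Helper2.Stein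
open Cfsg.Agent.S2086P (CL cl map_cl cl_eq commute_comm CL_of_comm)

variable {K : Type*} [Field K] {G : Type*} [Group G] {E : Type*} [Group E]

namespace CIRCB

/-- the family of root elements indexed by the Prelude's root indices -/
def XofY {M : Type*} [Group M] (Y : ZMod 8 → K → M) : ℕ → K → M :=
  fun r => if r < 8 then Y (kapInv r) else fun _ => 1

theorem XofY_kap {M : Type*} [Group M] (Y : ZMod 8 → K → M) (a : ZMod 8) :
    XofY Y (kap a) = Y a := by
  unfold XofY
  rw [if_pos (kap_lt a), kapInv_kap]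

/-- the position of two roots `ρ_a`, `ρ_b` which are neither equal nor opposite -/
def Pos (a b : ZMod 8) : Prop :=
  (a = b + 1 ∨ b = a + 1) ∨ (IsL a ∧ (a = b + 2 ∨ b = a + 2)) ∨
    (IsS b ∧ (a = b + 2 * 1 ∨ a = b + 2 * (-1))) ∨
    (IsS b ∧ (a = b + 3 * 1 ∨ a = b + 3 * (-1))) ∨
    (IsS a ∧ (b = a + 3 * 1 ∨ b = a + 3 * (-1)))

instance (a b : ZMod 8) : Decidable (Pos a b) := by unfold Pos; infer_instance

theorem tabD : ∀ a b : ZMod 8, a ≠ b → a ≠ b + 4 → Pos a b := by decide

theorem wordX_one {M : Type*} [Group M] (X : ℕ → K → M) (m : ℕ) (c : K) :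
    wordX X [(m, c)] = X m c := by
  rw [wordX_cons, wordX_nil, mul_one]

theorem wordX_two {M : Type*} [Group M] (X : ℕ → K → M) (m m' : ℕ) (c c' : K) :
    wordX X [(m, c), (m', c')] = X m c * X m' c' := by
  rw [wordX_cons, wordX_one]

theorem tab1' : ∀ k : ZMod 8, chevB2.commTerms (kap (k + 1)) (kap k) = [] ∧
    chevB2.commTerms (kap k) (kap (k + 1)) = [] := by decide

theorem tabLL' : ∀ l : ZMod 8, IsL l → chevB2.commTerms (kap (l + 2)) (kap l) = [] ∧
    chevB2.commTerms (kap l) (kap (l + 2)) = [] := by decide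

theorem tab3' : ∀ k : ZMod 8, IsS k → ∀ s : ZMod 8, s = 1 ∨ s = -1 →
    chevB2.commTerms (kap k) (kap (k + 3 * s)) =
      [(kap (k + 2 * s), E1 k s, 1, 1), (kap (k + s), E2 k s, 2, 1)] := by decide

theorem tabNeg : ∀ b : ZMod 8, kap b = chevB2.neg (kap (b + 4)) := by decide

section

variable {M : Type*} [Group M] {Y : ZMod 8 → K → M}
  (h : Circ (fun k s => ((E1 k s : ℤ) : K)) (fun k s => ((E2 k s : ℤ) : K))
    (fun k s => ((E3 k s : ℤ) : K)) Y)

include h

theorem Y_zero (k : ZMod 8) : Y k 0 = 1 := by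
  have h1 := h.add k 0 0
  rw [add_zero] at h1
  have h' : Y k 0 * Y k 0 = Y k 0 * 1 := by rw [mul_one]; exact h1
  exact mul_left_cancel h'

theorem Y_inv (k : ZMod 8) (t : K) : (Y k t)⁻¹ = Y k (-t) := by
  apply inv_eq_of_mul_eq_one_right
  rw [h.add, add_neg_cancel, Y_zero h]

/-- the left-hand side of (R2) as a Mathlib commutator -/
theorem lhs_eq (a b : ZMod 8) (t u : K) :
    (Y b u)⁻¹ * (Y a t)⁻¹ * Y b u * Y a t = ⁅Y b (-u), Y a (-t)⁆ := by
  rw [commutatorElement_def, ← Y_inv h b u, ← Y_inv h a t, inv_inv, inv_inv]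

theorem comm_of_nil {a b : ZMod 8} (hc : ∀ t u, Commute (Y b u) (Y a t))
    (hT : chevB2.commTerms (kap a) (kap b) = []) (t u : K) :
    (Y b u)⁻¹ * (Y a t)⁻¹ * Y b u * Y a t =
      wordX (XofY Y) (chevB2.commWord K (kap a) (kap b) t u) := by
  unfold ChevalleyDatum.commWord
  rw [hT, List.map_nil, wordX_nil, lhs_eq h]
  exact commutatorElement_eq_one_iff_commute.mpr (hc _ _)

theorem comm_ab (a b : ZMod 8) (hab : a ≠ b) (hab' : a ≠ b + 4) (t u : K) :
    (Y b u)⁻¹ * (Y a t)⁻¹ * Y b u * Y a t =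
      wordX (XofY Y) (chevB2.commWord K (kap a) (kap b) t u) := by
  rcases tabD a b hab hab' with (rfl | rfl) | ⟨hL, (rfl | rfl)⟩ | ⟨hS, (rfl | rfl)⟩ |
    ⟨hS, (rfl | rfl)⟩ | ⟨hS, (rfl | rfl)⟩
  · exact comm_of_nil h (fun t u => h.comm45 b u t) (tab1' b).1 t u
  · exact comm_of_nil h (fun t u => (h.comm45 a t u).symm) (tab1' a).2 t u
  · -- a = b + 2, a long, so b long
    have hb : IsL b := by revert hL; revert b; decide
    exact comm_of_nil h (fun t u => h.commLL b hb u t) (tabLL' b hb).1 t u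
  · exact comm_of_nil h (fun t u => (h.commLL a hL t u).symm) (tabLL' a hL).2 t u
  · obtain ⟨-, -, h3⟩ := CIRCF.tab2 b hS 1 (Or.inl rfl)
    unfold ChevalleyDatum.commWord
    rw [h3, List.map_cons, List.map_nil, wordX_one, lhs_eq h,
      h.relII b hS 1 (Or.inl rfl), XofY_kap]
    congr 1
    push_cast
    ring
  · obtain ⟨-, -, h3⟩ := CIRCF.tab2 b hS (-1) (Or.inr rfl)
    unfold ChevalleyDatum.commWord
    rw [h3, List.map_cons, List.map_nil, wordX_one, lhs_eq h,
      h.relII b hS (-1) (Or.inr rfl), XofY_kap]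
    congr 1
    push_cast
    ring
  · obtain ⟨-, -, h3⟩ := CIRCF.tab3 b hS 1 (Or.inl rfl)
    unfold ChevalleyDatum.commWord
    rw [h3, List.map_cons, List.map_cons, List.map_nil, wordX_two, lhs_eq h, h.relI b hS 1 (Or.inl rfl), XofY_kap, XofY_kap]
    congr 2
    · push_cast
      ring
    · push_cast
      ring
  · obtain ⟨-, -, h3⟩ := CIRCF.tab3 b hS (-1) (Or.inr rfl)
    unfold ChevalleyDatum.commWord
    rw [h3, List.map_cons, List.map_cons, List.map_nil, wordX_two, lhs_eq h, h.relI b hS (-1) (Or.inr rfl), XofY_kap, XofY_kap]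
    congr 2
    · push_cast
      ring
    · push_cast
      ring
  · -- b = a + 3, a short: the inverse of `relI`
    have h3 := tab3' a hS 1 (Or.inl rfl)
    unfold ChevalleyDatum.commWord
    rw [h3, List.map_cons, List.map_cons, List.map_nil, wordX_two, lhs_eq h, ← commutatorElement_inv, h.relI a hS 1 (Or.inl rfl), XofY_kap,
      XofY_kap, mul_inv_rev, Y_inv h, Y_inv h]
    have hc : Commute (Y (a + 1) (-(((E2 a 1 : ℤ) : K) * (-t) ^ 2 * -u)))
        (Y (a + 2 * 1) (-(((E1 a 1 : ℤ) : K) * -t * -u))) := by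
      have := h.comm45 (a + 1) (-(((E2 a 1 : ℤ) : K) * (-t) ^ 2 * -u))
        (-(((E1 a 1 : ℤ) : K) * -t * -u))
      have e : a + 1 + 1 = a + 2 * 1 := by ring
      rwa [e] at this
    rw [hc.eq]
    congr 2
    · push_cast
      ring
    · push_cast
      ring
  · have h3 := tab3' a hS (-1) (Or.inr rfl)
    unfold ChevalleyDatum.commWord
    rw [h3, List.map_cons, List.map_cons, List.map_nil, wordX_two, lhs_eq h, ← commutatorElement_inv, h.relI a hS (-1) (Or.inr rfl), XofY_kap,
      XofY_kap, mul_inv_rev, Y_inv h, Y_inv h]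
    have hc : Commute (Y (a + -1) (-(((E2 a (-1) : ℤ) : K) * (-t) ^ 2 * -u)))
        (Y (a + 2 * -1) (-(((E1 a (-1) : ℤ) : K) * -t * -u))) := by
      have := h.comm45 (a + 2 * -1) (-(((E1 a (-1) : ℤ) : K) * -t * -u))
        (-(((E2 a (-1) : ℤ) : K) * (-t) ^ 2 * -u))
      have e : a + 2 * -1 + 1 = a + -1 := by ring
      rw [e] at this
      exact this.symm
    rw [hc.eq]
    congr 2
    · push_cast
      ring
    · push_cast
      ring

end

end CIRCB

open CIRCB

theorem r12_of_circ {M : Type*} [Group M] {Y : ZMod 8 → K → M}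
    (h : Circ (fun k s => ((E1 k s : ℤ) : K)) (fun k s => ((E2 k s : ℤ) : K))
      (fun k s => ((E3 k s : ℤ) : K)) Y) :
    R12 chevB2 (fun r => if r < 8 then Y (kapInv r) else fun _ => 1) := by
  show R12 chevB2 (XofY Y)
  refine ⟨?_, ?_⟩
  · intro r hr t u
    have hr' : r < 8 := hr
    have e : XofY Y r = Y (kapInv r) := by unfold XofY; rw [if_pos hr']
    rw [e]
    exact h.add _ t u
  · intro r hr s hs h1 h2 t u
    have hr' : r < 8 := hr
    have hs' : s < 8 := hs
    have er : kap (kapInv r) = r := kap_kapInv hr'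
    have es : kap (kapInv s) = s := kap_kapInv hs'
    have hab : kapInv r ≠ kapInv s := by
      intro e
      apply h1
      rw [← er, ← es, e]
    have hab' : kapInv r ≠ kapInv s + 4 := by
      intro e
      apply h2
      rw [← er, ← es, e]
      exact tabNeg (kapInv s)
    have key := comm_ab h (kapInv r) (kapInv s) hab hab' t u
    rw [er, es] at key
    rw [← key]
    have e1 : XofY Y r = Y (kapInv r) := by unfold XofY; rw [if_pos hr']
    have e2 : XofY Y s = Y (kapInv s) := by unfold XofY; rw [if_pos hs']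
    rw [e1, e2]

end Cfsg.Agent.S2400P
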