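import Mathlib
import Cfsg.Agent.Helper10.S2092.DefsQ
import Cfsg.Agent.Helper2.S3352.WConj
import Cfsg.Agent.Helper16.S2096YMAP
import Cfsg.Agent.Helper20.S2096ORTHGEN
import Cfsg.Agent.Helper7.S2092QCL45

set_option autoImplicit false
set_option linter.unusedSectionVars false
set_option linter.unusedVariables false

/-! S2092, wave Q, piece QCL6: lifts of long root elements of different indices commute. -/

namespace Cfsg.Agent.S2092P

open scoped commutatorElement
open Cfsg.Agent.S3352P Cfsg.Agent.S2096P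
open Cfsg.Agent.S2086P (CL cl)

variable {n : ℕ} {F : Type*} [Field F] {G : Type*} [Group G] {E : Type*} [Group E]
  {Xs : J n → J n → F → G} {Xl : J n → F → G}

namespace QCL6

/-- `CL` is multiplicative in the second variable -/
theorem CL_mul_right (ψ : E →* G) (hψ : Function.Surjective ψ) (hc : ψ.ker ≤ Subgroup.center E)
    {u g₁ g₂ : G} (h1 : CL ψ u g₁) (h2 : CL ψ u g₂) : CL ψ u (g₁ * g₂) := by
  intro e e' he he'
  obtain ⟨a, ha⟩ := hψ g₁
  obtain ⟨b, hb⟩ := hψ g₂
  have hk : e' * (a * b)⁻¹ ∈ ψ.ker := by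
    rw [MonoidHom.mem_ker, map_mul, map_inv, map_mul, ha, hb, he', mul_inv_cancel]
  have hz := hc hk
  have h3 : Commute e (a * b) := (h1 e a he ha).mul_right (h2 e b he hb)
  have h4 : Commute e (e' * (a * b)⁻¹) := (Subgroup.mem_center_iff.mp hz e)
  have : e' = (e' * (a * b)⁻¹) * (a * b) := by group
  rw [this]
  exact h4.mul_right h3

/-- `CL` is compatible with inverses in the second variable -/
theorem CL_inv_right (ψ : E →* G) {u g : G} (h : CL ψ u g) : CL ψ u g⁻¹ := by
  intro e e' he he'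
  have h1 : ψ e'⁻¹ = g := by rw [map_inv, he', inv_inv]
  exact (Commute.inv_right_iff).1 (h e e'⁻¹ he h1)

end QCL6

open QCL6

theorem cl_long_long (hn : 4 ≤ n) (h : CRel Xs Xl) (ψ : E →* G) (hψ : Function.Surjective ψ)
    (hc : ψ.ker ≤ Subgroup.center E) {a c : J n} (hac : ab c ≠ ab a) (s t : F) :
    CL ψ (Xl a s) (Xl c t) := by
  obtain ⟨k, hka, hkc⟩ := exists_third_ab (by omega : 3 ≤ n) (ab a) (ab c)
  -- the auxiliary index
  have hck : IsRoot c (Sum.inl k : J n) := isRoot_iff_ab.2 (by rw [ab_inl]; exact hkc.symm)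
  have hck' : IsRoot c (ng (Sum.inl k : J n)) :=
    isRoot_iff_ab.2 (by rw [ab_ng, ab_inl]; exact hkc.symm)
  have hsl := h.sl c (Sum.inl k) hck 1 (sgF F c * t)
  have e1 : sgF F c * sgF F (Sum.inl k : J n) * 1 ^ 2 * (sgF F c * t) = t := by
    rw [sgF_inl, mul_one, one_pow, mul_one, ← mul_assoc, sgF_mul_self, one_mul]
  rw [e1] at hsl
  have e2 : Xl c t = (Xs c (ng (Sum.inl k : J n)) (1 * (sgF F c * t)))⁻¹ *
      ⁅Xs c (Sum.inl k) 1, Xl (Sum.inl k) (sgF F c * t)⁆ := by
    rw [hsl, inv_mul_cancel_left]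
  rw [e2]
  apply CL_mul_right ψ hψ hc
  · apply CL_inv_right
    apply Cfsg.Agent.S2086P.CL.symm
    apply cl_short_long hn h ψ hψ hc hck'
    · intro e
      apply hka
      rw [e, ab_ng, ab_inl]
    · intro e
      apply hac
      rw [e, ab_ng]
  · apply Cfsg.Agent.S2086P.CL_of_comm ψ hψ hc
    · refine (h.slcomm c (Sum.inl k) a hck ?_ ?_ 1 s).symm
      · intro e
        apply hka
        rw [e, ab_inl]
      · intro e
        apply hac
        rw [e, ab_ng]
    · refine h.ll a (Sum.inl k) ?_ s (sgF F c * t)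
      intro e
      apply hka
      rw [← ab_inl k, e, ab_ng]

end Cfsg.Agent.S2092P
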