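import Mathlib
import Cfsg.Agent.Helper10.S2092.DefsQ
import Cfsg.Agent.Helper2.S3352.WConj
import Cfsg.Agent.Helper16.S2096YMAP
import Cfsg.Agent.Helper20.S2096ORTHGEN

set_option autoImplicit false
set_option linter.unusedSectionVars false
set_option linter.unusedVariables false

/-! S2092, wave Q, piece QDREL: in characteristic 2 the short root elements of a family with the
relations of type `C_n` satisfy the relations of type `D_n`. -/

namespace Cfsg.Agent.S2092P

open scoped commutatorElement
open Cfsg.Agent.S3352P Cfsg.Agent.S2096P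
open Cfsg.Agent.S2086P (CL cl)

variable {n : ℕ} {F : Type*} [Field F] {G : Type*} [Group G] {E : Type*} [Group E]
  {Xs : J n → J n → F → G} {Xl : J n → F → G}

namespace QDREL

theorem neg_one_eq_one' (h2 : (2 : F) = 0) : (-1 : F) = 1 := by
  linear_combination (-1 : F) * h2

theorem sgF_eq_one (h2 : (2 : F) = 0) (a : J n) : sgF F a = 1 := by
  cases a with
  | inl i => rfl
  | inr i => exact neg_one_eq_one' h2

theorem Xl_zero (h : CRel Xs Xl) (a : J n) : Xl a (0 : F) = 1 := by
  have h1 := h.addl a 0 0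
  rw [add_zero] at h1
  exact (mul_eq_left (a := Xl a (0 : F))).1 h1.symm

end QDREL

open QDREL

theorem dRel_of_cRel (h2 : (2 : F) = 0) (h : CRel Xs Xl) : DRel Xs := by
  refine ⟨?_, h.adds, ?_, ?_, ?_⟩
  · intro a b hab t
    rw [h.flip a b hab t, sgF_eq_one h2, sgF_eq_one h2, one_mul, neg_one_mul]
  · intro a b c hab hbc hac s t
    rw [Cfsg.Agent.S3351P.cm_def, ← commutatorElement_def]
    exact h.mul a b c hab hbc hac s t
  · intro a b c d hab hcd h1 h2' h3 h4 h5 h6 s t
    exact (h.comm a b c d hab hcd h1 h2' h3 h4 h5 h6 s t).eq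
  · intro a b hab s t
    have hab' : IsRoot a (ng b) := ⟨hab.2, by rw [ng_ng]; exact hab.1⟩
    have h3 := h.orthC a b hab s (-t)
    have h4 := h.flip a (ng b) hab' (-t)
    rw [ng_ng, sgF_eq_one h2, sgF_eq_one h2, one_mul, neg_one_mul, neg_neg] at h4
    rw [h4, h2, zero_mul, zero_mul, Xl_zero h] at h3
    exact commutatorElement_eq_one_iff_mul_comm.1 h3

end Cfsg.Agent.S2092P
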