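import Mathlib
import Cfsg.Prelude.Def_KGroupFacts
import Cfsg.Agent.Helper2.PSLM.Defs

set_option autoImplicit false

/-! S2086: helper lemmas for the torus pieces ROW3, COL3, DISJSQ, TORCL -/

namespace Cfsg.Agent.S2086P.TorAux

open scoped commutatorElement
open Cfsg.Agent.Helper2.Stb Cfsg.Agent.S2086P

variable {n : ℕ} {K : Type*} [Field K] {G : Type*} [Group G] {E : Type*} [Group E]

/-- a root element as a commutator with a torus element -/
theorem T_eq_comm (S : StD n K G) (h : Tor n K) (a : Root n) (s : K) (hr : rat h a ≠ 1) :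
    S.T a s = ⁅S.D h, S.T a (s / (rat h a - 1))⁆ := by
  rw [S.comm_D]
  congr 1
  have : rat h a - 1 ≠ 0 := sub_ne_zero.2 hr
  field_simp

/-- a torus element commutes with the root elements on which its ratio is one -/
theorem commute_D_T (S : StD n K G) (h : Tor n K) (a : Root n) (t : K) (hr : rat h a = 1) :
    Commute (S.D h) (S.T a t) := by
  have h1 := S.conj h a t
  rw [hr, one_mul] at h1
  show S.D h * S.T a t = S.T a t * S.D h
  calc S.D h * S.T a t = (S.D h * S.T a t * (S.D h)⁻¹) * S.D h := by group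
    _ = S.T a t * S.D h := by rw [h1]

/-- the common core of ROW3, COL3, DISJSQ -/
theorem CL_of_tor (S : StD n K G) (ψ : E →* G) (hψ : Function.Surjective ψ)
    (hc : ψ.ker ≤ Subgroup.center E) (h : Tor n K) (a b : Root n) (s t : K)
    (hra : rat h a ≠ 1) (hrb : rat h b = 1) (hcomm : ∀ u, Commute (S.T b t) (S.T a u)) :
    CL ψ (S.T a s) (S.T b t) := by
  rw [T_eq_comm S h a s hra]
  exact (CL_of_comm ψ hψ hc (commute_D_T S h b t hrb).symm (hcomm _)).symm

end Cfsg.Agent.S2086P.TorAux
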