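import Mathlib
import Cfsg.Prelude.Def_KGroupFacts
import Cfsg.Agent.Helper2.PSLM.Defs
import Cfsg.Agent.Helper18.PSLMTorAux

set_option autoImplicit false

namespace Cfsg.Agent.S2086P

open scoped commutatorElement
open Cfsg.Agent.Helper2.Stb

variable {n : ℕ} {K : Type*} [Field K] {G : Type*} [Group G] {E : Type*} [Group E]

/-! ### DISJSQ -/
theorem cl_disj_of_sq (S : StD n K G) (ψ : E →* G) (hψ : Function.Surjective ψ)
    (hc : ψ.ker ≤ Subgroup.center E) (a : Kˣ) (ha : a ^ 2 ≠ 1) (i j k l : Fin n) (hij : i ≠ j)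
    (hkl : k ≠ l) (hik : i ≠ k) (hil : i ≠ l) (hjk : j ≠ k) (hjl : j ≠ l) (s t : K) :
    CL ψ (S.T (rt i j hij) s) (S.T (rt k l hkl) t) := by
  have ha0 : (a : K) ≠ 0 := a.ne_zero
  have ha2 : (a : K) ^ 2 ≠ 1 := by
    intro h
    apply ha
    apply Units.ext
    rw [Units.val_pow_eq_pow_val, h, Units.val_one]
  apply TorAux.CL_of_tor S ψ hψ hc (tor2 i j hij a)
  · have : rat (tor2 i j hij a) (rt i j hij) = (a : K) ^ 2 := by
      simp only [rat, rt_fst, rt_snd, tor2_apply, if_true, if_neg hij.symm,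
        Units.val_inv_eq_inv_val]
      field_simp
    rw [this]
    exact ha2
  · simp only [rat, rt_fst, rt_snd, tor2_apply, if_neg hik.symm, if_neg hjk.symm, if_neg hil.symm,
      if_neg hjl.symm, Units.val_one, inv_one, mul_one]
  · intro u
    exact S.comm (rt k l hkl) (rt i j hij) t u hjk.symm hil.symm

end Cfsg.Agent.S2086P
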