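import Mathlib
import Cfsg.Prelude.Def_KGroupFacts
import Cfsg.Agent.Helper2.PSLM.Defs
import Cfsg.Agent.Helper18.PSLMTorAux

set_option autoImplicit false

namespace Cfsg.Agent.S2086P

open scoped commutatorElement
open Cfsg.Agent.Helper2.Stb

variable {n : ℕ} {K : Type*} [Field K] {G : Type*} [Group G] {E : Type*} [Group E]

/-! ### ROW3 -/
theorem cl_row_of_cube (S : StD n K G) (ψ : E →* G) (hψ : Function.Surjective ψ)
    (hc : ψ.ker ≤ Subgroup.center E) (b : Kˣ) (hb : b ^ 3 ≠ 1) (i j k : Fin n) (hij : i ≠ j)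
    (hik : i ≠ k) (hjk : j ≠ k) (s t : K) :
    CL ψ (S.T (rt i j hij) s) (S.T (rt i k hik) t) := by
  have hb0 : (b : K) ≠ 0 := b.ne_zero
  have hb3 : (b : K) ^ 3 ≠ 1 := by
    intro h
    apply hb
    apply Units.ext
    rw [Units.val_pow_eq_pow_val, h, Units.val_one]
  apply TorAux.CL_of_tor S ψ hψ hc (tor2 i j hij b * tor2 k j hjk.symm b)
  · -- ratio on (i, j) is b ^ 3
    have : rat (tor2 i j hij b * tor2 k j hjk.symm b) (rt i j hij) = (b : K) ^ 3 := by
      simp only [rat, rt_fst, rt_snd, tor_mul_apply, tor2_apply, if_true, if_neg hij, if_neg hik,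
        if_neg hij.symm, if_neg hjk, mul_one, Units.val_mul, Units.val_inv_eq_inv_val]
      field_simp
    rw [this]
    exact hb3
  · simp only [rat, rt_fst, rt_snd, tor_mul_apply, tor2_apply, if_true, if_neg hij, if_neg hik,
      if_neg hik.symm, if_neg hjk.symm, mul_one, one_mul]
    exact mul_inv_cancel₀ hb0
  · intro u
    exact S.comm (rt i k hik) (rt i j hij) t u hij hik.symm

end Cfsg.Agent.S2086P
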