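import Mathlib
import Cfsg.Prelude.Def_KGroupFacts
import Cfsg.Agent.Helper2.PSLM.Defs
import Cfsg.Agent.Helper18.PSLMTorAux

set_option autoImplicit false

namespace Cfsg.Agent.S2086P

open scoped commutatorElement
open Cfsg.Agent.Helper2.Stb

variable {n : ℕ} {K : Type*} [Field K] {G : Type*} [Group G] {E : Type*} [Group E]

/-! ### TORCL -/
theorem cl_tor (S : StD n K G) (ψ : E →* G) (hψ : Function.Surjective ψ)
    (hc : ψ.ker ≤ Subgroup.center E) (hn : 3 ≤ n) (c : Kˣ) (hc1 : c ≠ 1) (h : Tor n K)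
    (a : Root n) (hr : rat h a = 1) (u : K) : CL ψ (S.D h) (S.T a u) := by
  obtain ⟨k, hk1, hk2⟩ := exists_third hn a
  have hcK : (c : K) ≠ 1 := by
    intro h'
    apply hc1
    apply Units.ext
    rw [h', Units.val_one]
  have hrat : rat (tor2 a.1.1 k hk1 c) a = (c : K) := by
    simp only [rat, tor2_apply, if_true, if_neg a.2.symm, if_neg hk2.symm, Units.val_one, inv_one,
      mul_one]
  have hne : rat (tor2 a.1.1 k hk1 c) a ≠ 1 := by rw [hrat]; exact hcK
  rw [TorAux.T_eq_comm S (tor2 a.1.1 k hk1 c) a u hne]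
  exact CL_of_comm ψ hψ hc (S.dcomm h _) (TorAux.commute_D_T S h a _ hr)

end Cfsg.Agent.S2086P
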