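import Mathlib
import Cfsg.Agent.Helper10.S2092.DefsT
import Cfsg.Agent.Helper2.S2400.MainB2
import Cfsg.Agent.Helper23.S2092GEN
import Cfsg.Agent.Helper22.S2092CIRC2REL

set_option autoImplicit false
set_option linter.unusedSectionVars false
set_option linter.unusedVariables false

/-! S2092, part T, piece ORTHBI: the commutator `⁅Ys a b s, Ys b (ng a) t⁆` of lifts is biadditive and commutes
with the lifts of the long root elements `Xl a ·`. -/

namespace Cfsg.Agent.S2092P

open scoped commutatorElement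
open Cfsg.Agent.S3352P Cfsg.Agent.S2096P Cfsg.Agent.S2400P
open Cfsg.Agent.S2086P (CL cl)

variable {n : ℕ} {F : Type*} [Field F] {G : Type*} [Group G] {E : Type*} [Group E]

namespace ORTHBI

theorem two_le_of_isRoot' {a b : J n} (hab : IsRoot a b) : 2 ≤ n := by
  have hne : ab a ≠ ab b := isRoot_iff_ab.1 hab
  by_contra h
  have : n ≤ 1 := by omega
  apply hne
  apply Fin.ext
  have h1 := (ab a).isLt
  have h2 := (ab b).isLt
  omega

/-- a unit different from `1` -/
theorem exists_unit_ne_one [Fintype F] (hF : 3 ≤ Fintype.card F) : ∃ v : Fˣ, ((v : Fˣ) : F) ≠ 1 := by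
  classical
  have hne : (((Finset.univ : Finset F).erase 0).erase 1).Nonempty := by
    rw [← Finset.card_pos, Finset.card_erase_of_mem, Finset.card_erase_of_mem (Finset.mem_univ _),
      Finset.card_univ]
    · omega
    · rw [Finset.mem_erase]
      exact ⟨one_ne_zero, Finset.mem_univ _⟩
  obtain ⟨x, hx⟩ := hne
  rw [Finset.mem_erase, Finset.mem_erase] at hx
  exact ⟨Units.mk0 x hx.2.1, hx.1⟩

/-- the character of `dOne i v` at an index with another absolute value -/
theorem chi_dOne_of_ne (i : Fin n) (v : Fˣ) {a : J n} (h : ab a ≠ i) :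
    chi (dOne i v) a = (1 : F) := by
  cases a with
  | inl x =>
    rw [ab_inl] at h
    simp [dOne, h]
  | inr x =>
    rw [ab_inr] at h
    simp [dOne, h]

/-- the character of `dOne (ab b) v` at `b` is not `1` -/
theorem chi_dOne_self_ne_one (v : Fˣ) (hv : ((v : Fˣ) : F) ≠ 1) (b : J n) :
    chi (dOne (ab b) v) b ≠ (1 : F) := by
  cases b with
  | inl x =>
    simp [dOne, hv]
  | inr x =>
    simp only [ab_inr, chi_inr, dOne, if_pos]
    intro h
    apply hv
    have : ((v⁻¹ : Fˣ) : F) = 1 := h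
    rw [Units.val_eq_one, inv_eq_one] at this
    rw [this]
    rfl

theorem isRoot_ng_right'' {a b : J n} (hab : IsRoot a b) : IsRoot b (ng a) := by
  rw [isRoot_iff_ab, ab_ng]
  exact (isRoot_iff_ab.1 hab).symm

/-- lifts of `Xl a ·` commute with lifts of `Xs a b ·` -/
theorem cl_long_short_fst [Fintype F] (hF : 3 ≤ Fintype.card F) (S : CnT n F G) (ψ : E →* G)
    (hψ : Function.Surjective ψ) (hc : ψ.ker ≤ Subgroup.center E) (a b : J n) (hab : IsRoot a b)
    (u s : F) : CL ψ (S.Xl a u) (S.Xs a b s) := by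
  obtain ⟨v, hv⟩ := exists_unit_ne_one hF
  have hR := cRel_of_cRelC (two_le_of_isRoot' hab) S.rel
  have hne : ab a ≠ ab b := isRoot_iff_ab.1 hab
  have h1 : chi (dOne (ab b) v) a = (1 : F) := chi_dOne_of_ne _ v hne
  have hc1 : chi (dOne (ab b) v) a * (chi (dOne (ab b) v) b)⁻¹ ≠ (1 : F) := by
    rw [h1, one_mul]
    intro h
    exact chi_dOne_self_ne_one v hv b (inv_eq_one.1 h)
  apply CL_of_scale ψ hψ hc (g := S.H (dOne (ab b) v)) (y := S.Xs a b)
    (c := chi (dOne (ab b) v) a * (chi (dOne (ab b) v) b)⁻¹) (hR.adds a b hab)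
    (fun t => S.conjs _ a b hab t) hc1
  · -- `Xl a u` commutes with the torus element
    have := S.conjl (dOne (ab b) v) a u
    rw [h1, one_pow, one_mul] at this
    exact (mul_inv_eq_iff_eq_mul.1 this).symm
  · intro t
    exact (hR.slcomm a b a hab hab.1 (ng_ne a).symm t u).symm

/-- lifts of `Xl a ·` commute with lifts of `Xs b (ng a) ·` -/
theorem cl_long_short_snd [Fintype F] (hF : 3 ≤ Fintype.card F) (S : CnT n F G) (ψ : E →* G)
    (hψ : Function.Surjective ψ) (hc : ψ.ker ≤ Subgroup.center E) (a b : J n) (hab : IsRoot a b)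
    (u t : F) : CL ψ (S.Xl a u) (S.Xs b (ng a) t) := by
  obtain ⟨v, hv⟩ := exists_unit_ne_one hF
  have hR := cRel_of_cRelC (two_le_of_isRoot' hab) S.rel
  have hne : ab a ≠ ab b := isRoot_iff_ab.1 hab
  have hba : IsRoot b (ng a) := isRoot_ng_right'' hab
  have h1 : chi (dOne (ab b) v) a = (1 : F) := chi_dOne_of_ne _ v hne
  have h1' : chi (dOne (ab b) v) (ng a) = (1 : F) := chi_dOne_of_ne _ v (by rw [ab_ng]; exact hne)
  have hc1 : chi (dOne (ab b) v) b * (chi (dOne (ab b) v) (ng a))⁻¹ ≠ (1 : F) := by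
    rw [h1', inv_one, mul_one]
    exact chi_dOne_self_ne_one v hv b
  apply CL_of_scale ψ hψ hc (g := S.H (dOne (ab b) v)) (y := S.Xs b (ng a))
    (c := chi (dOne (ab b) v) b * (chi (dOne (ab b) v) (ng a))⁻¹) (hR.adds b (ng a) hba)
    (fun t => S.conjs _ b (ng a) hba t) hc1
  · have := S.conjl (dOne (ab b) v) a u
    rw [h1, one_pow, one_mul] at this
    exact (mul_inv_eq_iff_eq_mul.1 this).symm
  · intro t
    refine (hR.slcomm b (ng a) a hba (ng_ne a).symm ?_ t u).symm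
    exact hab.2

/-- the commutator is a lift of a long root element -/
theorem map_comm (S : CnT n F G) (ψ : E →* G) {Ys : J n → J n → F → E} (h : ELiftS S ψ Ys)
    (a b : J n) (hab : IsRoot a b) (s t : F) :
    ψ ⁅Ys a b s, Ys b (ng a) t⁆ = S.Xl a (2 * s * t) := by
  rw [map_commutatorElement, h.maps a b hab, h.maps b (ng a) (isRoot_ng_right'' hab)]
  exact (cRel_of_cRelC (two_le_of_isRoot' hab) S.rel).orthC a b hab s t

theorem comm_mul_left (x x' y : E) : ⁅x * x', y⁆ = x * ⁅x', y⁆ * x⁻¹ * ⁅x, y⁆ := by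
  simp only [commutatorElement_def]; group

theorem comm_mul_right (x y y' : E) : ⁅x, y * y'⁆ = ⁅x, y⁆ * (y * ⁅x, y'⁆ * y⁻¹) := by
  simp only [commutatorElement_def]; group

end ORTHBI

open ORTHBI

theorem orth_biadd [Fintype F] (hF : 3 ≤ Fintype.card F) (S : CnT n F G) (ψ : E →* G)
    (hψ : Function.Surjective ψ) (hc : ψ.ker ≤ Subgroup.center E) {Ys : J n → J n → F → E}
    (h : ELiftS S ψ Ys) (a b : J n) (hab : IsRoot a b) :
    (∀ s s' t : F, ⁅Ys a b (s + s'), Ys b (ng a) t⁆ =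
      ⁅Ys a b s, Ys b (ng a) t⁆ * ⁅Ys a b s', Ys b (ng a) t⁆) ∧
    (∀ s t t' : F, ⁅Ys a b s, Ys b (ng a) (t + t')⁆ =
      ⁅Ys a b s, Ys b (ng a) t⁆ * ⁅Ys a b s, Ys b (ng a) t'⁆) ∧
    ∀ (x : E) (u : F), ψ x = S.Xl a u → ∀ s t : F, Commute x ⁅Ys a b s, Ys b (ng a) t⁆ := by
  have hn : 2 ≤ n := two_le_of_isRoot' hab
  have hba : IsRoot b (ng a) := isRoot_ng_right'' hab
  have hL : ∀ s t : F, ψ ⁅Ys a b s, Ys b (ng a) t⁆ = S.Xl a (2 * s * t) :=
    fun s t => map_comm S ψ h a b hab s t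
  have h3 : ∀ (x : E) (u : F), ψ x = S.Xl a u → ∀ s t : F,
      Commute x ⁅Ys a b s, Ys b (ng a) t⁆ := by
    intro x u hx s t
    have c1 : Commute x (Ys a b s) :=
      cl_long_short_fst hF S ψ hψ hc a b hab u s x _ hx (h.maps a b hab s)
    have c2 : Commute x (Ys b (ng a) t) :=
      cl_long_short_snd hF S ψ hψ hc a b hab u t x _ hx (h.maps b (ng a) hba t)
    rw [commutatorElement_def]
    exact ((c1.mul_right c2).mul_right c1.inv_right).mul_right c2.inv_right
  refine ⟨?_, ?_, h3⟩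
  · intro s s' t
    rw [h.adds a b hab, comm_mul_left]
    have hcomm : Commute ⁅Ys a b s', Ys b (ng a) t⁆ (Ys a b s) :=
      cl_long_short_fst hF S ψ hψ hc a b hab (2 * s' * t) s _ _ (hL s' t) (h.maps a b hab s)
    have e1 : Ys a b s * ⁅Ys a b s', Ys b (ng a) t⁆ * (Ys a b s)⁻¹ = ⁅Ys a b s', Ys b (ng a) t⁆ := by
      rw [← hcomm.eq, mul_inv_cancel_right]
    rw [e1]
    exact (h3 _ _ (hL s' t) s t).eq
  · intro s t t'
    rw [h.adds b (ng a) hba, comm_mul_right]
    have hcomm : Commute ⁅Ys a b s, Ys b (ng a) t'⁆ (Ys b (ng a) t) :=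
      cl_long_short_snd hF S ψ hψ hc a b hab (2 * s * t') t _ _ (hL s t') (h.maps b (ng a) hba t)
    have e1 : Ys b (ng a) t * ⁅Ys a b s, Ys b (ng a) t'⁆ * (Ys b (ng a) t)⁻¹ =
        ⁅Ys a b s, Ys b (ng a) t'⁆ := by
      rw [← hcomm.eq, mul_inv_cancel_right]
    rw [e1]

end Cfsg.Agent.S2092P
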