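import Mathlib
import Cfsg.Agent.Helper10.S2092.DefsT
import Cfsg.Agent.Helper2.S2400.MainB2
import Cfsg.Agent.Helper18.S2092ORTHBI
import Cfsg.Agent.Helper19.S2092CLCROSS
import Cfsg.Agent.Helper24.S2092MULC

set_option autoImplicit false
set_option linter.unusedSectionVars false
set_option linter.unusedVariables false

/-! S2092, part T, piece ORTHHW: the commutator `⁅Ys a b s, Ys b (ng a) t⁆` of lifts does not depend on the
partner `b` (Hall–Witt). -/

namespace Cfsg.Agent.S2092P

open scoped commutatorElement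
open Cfsg.Agent.S3352P Cfsg.Agent.S2096P Cfsg.Agent.S2400P
open Cfsg.Agent.S2086P (CL cl)

variable {n : ℕ} {F : Type*} [Field F] {G : Type*} [Group G] {E : Type*} [Group E]

namespace ORTHHW

/-- the group-theoretic core -/
theorem hw_aux (x y z u w : E) (h1 : ⁅x, y⁆ = u) (h2 : ⁅y, z⁆ = w) (h3 : Commute x z)
    (h4 : Commute u w) (h5 : Commute ⁅x, w⁆ w) : ⁅x, w⁆ = ⁅u, z⁆ := by
  have e1 : x * y = u * y * x := by rw [← h1, commutatorElement_def]; group
  have e2 : y * z = w * z * y := by rw [← h2, commutatorElement_def]; group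
  have e3 : x * w = ⁅x, w⁆ * w * x := by rw [commutatorElement_def]; group
  have key : u * w * z * y * x = ⁅x, w⁆ * w * z * u * y * x := by
    calc u * w * z * y * x = u * (w * z * y) * x := by group
      _ = u * (y * z) * x := by rw [e2]
      _ = u * y * (z * x) := by group
      _ = u * y * (x * z) := by rw [h3.eq]
      _ = (u * y * x) * z := by group
      _ = x * y * z := by rw [e1]
      _ = x * (y * z) := by group
      _ = x * (w * z * y) := by rw [e2]
      _ = (x * w) * z * y := by group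
      _ = ⁅x, w⁆ * w * x * z * y := by rw [e3]
      _ = ⁅x, w⁆ * w * (x * z) * y := by group
      _ = ⁅x, w⁆ * w * (z * x) * y := by rw [h3.eq]
      _ = ⁅x, w⁆ * w * z * (x * y) := by group
      _ = ⁅x, w⁆ * w * z * (u * y * x) := by rw [e1]
      _ = ⁅x, w⁆ * w * z * u * y * x := by group
  have key2 : u * w * z = ⁅x, w⁆ * w * z * u := by
    have := mul_right_cancel (mul_right_cancel key)
    exact this
  rw [h4.eq, h5.eq, mul_assoc, mul_assoc, mul_assoc] at key2
  have key3 := mul_left_cancel key2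
  -- `u * z = ⁅x, w⁆ * (z * u)`
  rw [commutatorElement_def u z]
  calc ⁅x, w⁆ = ⁅x, w⁆ * (z * u) * (z * u)⁻¹ := by group
    _ = u * z * (z * u)⁻¹ := by rw [← key3]
    _ = u * z * u⁻¹ * z⁻¹ := by group

theorem isRoot_of_ab {a b : J n} (h : ab a ≠ ab b) : IsRoot a b := isRoot_iff_ab.2 h

end ORTHHW

open ORTHHW ORTHBI

theorem orth_hw [Fintype F] (hF : 3 ≤ Fintype.card F) (S : CnT n F G) (ψ : E →* G)
    (hψ : Function.Surjective ψ) (hc : ψ.ker ≤ Subgroup.center E) {Ys : J n → J n → F → E}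
    (h : ELiftS S ψ Ys) (a b c : J n) (hab : ab a ≠ ab b) (hac : ab a ≠ ab c) (hbc : ab b ≠ ab c)
    (s t : F) : ⁅Ys a b s, Ys b (ng a) t⁆ = ⁅Ys a c s, Ys c (ng a) t⁆ := by
  have rab : IsRoot a b := isRoot_of_ab hab
  have rac : IsRoot a c := isRoot_of_ab hac
  have rbc : IsRoot b c := isRoot_of_ab hbc
  have rcna : IsRoot c (ng a) := isRoot_of_ab (by rw [ab_ng]; exact hac.symm)
  have rbna : IsRoot b (ng a) := isRoot_of_ab (by rw [ab_ng]; exact hab.symm)
  have ranc : IsRoot a (ng c) := isRoot_of_ab (by rw [ab_ng]; exact hac)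
  have ranb : IsRoot a (ng b) := isRoot_of_ab (by rw [ab_ng]; exact hab)
  -- the two products
  have h1 : ⁅Ys a b s, Ys b c 1⁆ = Ys a c s := by
    have := mul_of_eLiftS hF S ψ hψ hc h a b c rab rbc rac s 1
    rwa [mul_one] at this
  have h2 : ⁅Ys b c 1, Ys c (ng a) t⁆ = Ys b (ng a) t := by
    have := mul_of_eLiftS hF S ψ hψ hc h b c (ng a) rbc rcna rbna 1 t
    rwa [one_mul] at this
  -- `x` and `z` commute
  have h3 : Commute (Ys a b s) (Ys c (ng a) t) := by
    have hf := h.flip a (ng c) ranc t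
    rw [ng_ng] at hf
    rw [hf]
    have hne : ∀ {p q : J n}, ab p ≠ ab q → p ≠ q := fun hpq e => hpq (by rw [e])
    refine cl_comm_s hF S ψ hψ hc a b a (ng c) rab ranc (hne hab.symm) (hne (by rw [ab_ng]; exact hac))
      (ng_ne a).symm ?_ (hne (by rw [ab_ng]; exact hab.symm)) ?_ s _ _ _ (h.maps a b rab s)
      (h.maps a (ng c) ranc _)
    · rw [ng_ng]; exact hne hac
    · rw [ng_ng]; exact hne hbc
  -- `u` and `w` commute
  have h4 : Commute (Ys a c s) (Ys b (ng a) t) := by
    have hf := h.flip a (ng b) ranb t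
    rw [ng_ng] at hf
    rw [hf]
    have hne : ∀ {p q : J n}, ab p ≠ ab q → p ≠ q := fun hpq e => hpq (by rw [e])
    refine cl_comm_s hF S ψ hψ hc a c a (ng b) rac ranb (hne hac.symm) (hne (by rw [ab_ng]; exact hab))
      (ng_ne a).symm ?_ (hne (by rw [ab_ng]; exact hac.symm)) ?_ s _ _ _ (h.maps a c rac s)
      (h.maps a (ng b) ranb _)
    · rw [ng_ng]; exact hne hab
    · rw [ng_ng]; exact hne hbc.symm
  -- `L₂` and `w` commute
  have h5 : Commute ⁅Ys a b s, Ys b (ng a) t⁆ (Ys b (ng a) t) :=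
    cl_long_short_snd hF S ψ hψ hc a b rab (2 * s * t) t _ _ (map_comm S ψ h a b rab s t)
      (h.maps b (ng a) rbna t)
  exact hw_aux _ _ _ _ _ h1 h2 h3 h4 h5

end Cfsg.Agent.S2092P
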