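import Mathlib
import Cfsg.Agent.Helper13.S2276Defs
import Cfsg.Agent.Helper17.S2276ARCS
import Cfsg.Agent.Helper25.S2276GLUEALG
import Cfsg.Agent.Helper26.S2276ROT
import Cfsg.Agent.Helper20.S2276FORMGLUE

set_option autoImplicit false
set_option linter.unusedSectionVars false
set_option linter.unusedVariables false

/-! # S2276 piece TAIL: window gadget + tail of reversed arcs -/

namespace Cfsg.Agent.S2276P

open Equiv Equiv.Perm

theorem TAIL.castAdd_ne_natAdd {a b : ℕ} (i : Fin a) (j : Fin b) :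
    Fin.castAdd b i ≠ Fin.natAdd a j := by
  intro h
  have := congrArg Fin.val h
  simp only [Fin.val_castAdd, Fin.val_natAdd] at this
  have := i.isLt
  omega

theorem TAIL.main (a t : ℕ) (ht : Odd t) (x : Perm (Fin (a + 1)))
    (hx : (finRotate (a + 1) * x) 0 = 0) (m : Multiset ℕ) (hm : ∀ y ∈ m, Odd y ∧ 3 ≤ y)
    (hsum : m.sum ≤ t + 1) :
    ∃ (b : Perm (Fin (t + 1))) (N : ℕ), b.cycleType = m ∧ Odd N ∧
      (finRotate (a + 1 + (t + 1)) * glue x b) ^ N = glue ((finRotate (a + 1) * x) ^ N) 1 ∧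
      ∀ i : Fin (a + 1), i ≠ 0 →
        (finRotate (a + 1 + (t + 1)) * glue x b) (Fin.castAdd (t + 1) i)
          = Fin.castAdd (t + 1) ((finRotate (a + 1) * x) i) := by
  obtain ⟨b, S, hbm, hnd, hcb, hpar⟩ := ARCS.main t m hm hsum
  set g : Perm (Fin (a + 1)) := finRotate (a + 1) * x with hg
  set u0 : Fin (a + 1 + (t + 1)) := Fin.castAdd (t + 1) (0 : Fin (a + 1)) with hu0
  set w0 : Fin (a + 1 + (t + 1)) := Fin.natAdd (a + 1) (0 : Fin (t + 1)) with hw0
  set S' : List (Fin (a + 1 + (t + 1))) := S.map (Fin.natAdd (a + 1)) with hS'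
  set Z : Perm (Fin (a + 1 + (t + 1))) := (u0 :: w0 :: S').formPerm with hZ
  have hfix_u : glue g (1 : Perm (Fin (t + 1))) u0 = u0 := by
    rw [hu0, GLUEALG.apply_castAdd, hx]
  have hfix_w : glue g (1 : Perm (Fin (t + 1))) w0 = w0 := by
    rw [hw0, GLUEALG.apply_natAdd]; rfl
  -- the key identity
  have hkey : finRotate (a + 1 + (t + 1)) * glue x b = glue g 1 * Z := by
    rw [ROT.main a t, mul_assoc, ← GLUEALG.mul, hcb]
    have e1 : glue g ((0 :: S).formPerm) = glue g 1 * glue 1 (0 :: S).formPerm := by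
      rw [← GLUEALG.mul, mul_one, one_mul]
    rw [e1, FORMGLUE.right, List.map_cons, hZ, List.formPerm_cons_cons, ← mul_assoc, ← mul_assoc]
    congr 1
    have h1 := swap_apply_apply (glue g (1 : Perm (Fin (t + 1)))) u0 w0
    rw [hfix_u, hfix_w] at h1
    calc swap u0 w0 * glue g 1
        = (glue g 1 * swap u0 w0 * (glue g 1)⁻¹) * glue g 1 := by rw [← h1]
      _ = glue g 1 * swap u0 w0 := by group
  -- the list of `Z` has no duplicates
  have hndZ : (u0 :: w0 :: S').Nodup := by
    have h2 : (w0 :: S').Nodup := by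
      have := List.Nodup.map (Fin.natAdd_injective (t + 1) (a + 1)) hnd
      rwa [List.map_cons] at this
    refine List.nodup_cons.2 ⟨?_, h2⟩
    intro hmem
    have hmem' : u0 ∈ (0 :: S).map (Fin.natAdd (a + 1)) := by rwa [List.map_cons]
    obtain ⟨j, -, hj⟩ := List.mem_map.1 hmem'
    exact TAIL.castAdd_ne_natAdd _ _ hj.symm
  -- `Z` fixes the window points other than `u0`
  have hZfix : ∀ i : Fin (a + 1), i ≠ 0 → Z (Fin.castAdd (t + 1) i) = Fin.castAdd (t + 1) i := by
    intro i hi
    apply List.formPerm_apply_of_notMem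
    intro hmem
    rcases List.mem_cons.1 hmem with h1 | h1
    · exact hi (Fin.castAdd_injective _ _ h1)
    · have hmem' : Fin.castAdd (t + 1) i ∈ (0 :: S).map (Fin.natAdd (a + 1)) := by
        rwa [List.map_cons]
      obtain ⟨j, -, hj⟩ := List.mem_map.1 hmem'
      exact TAIL.castAdd_ne_natAdd _ _ hj.symm
  -- the two factors are disjoint
  have hdisj : Perm.Disjoint (glue g (1 : Perm (Fin (t + 1)))) Z := by
    intro y
    induction y using Fin.addCases with
    | left i =>
      by_cases hi : i = 0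
      · left; rw [hi]; exact hfix_u
      · right; exact hZfix i hi
    | right j =>
      left
      rw [GLUEALG.apply_natAdd]; rfl
  have hZpow : Z ^ (S.length + 2) = 1 := by
    have := List.formPerm_pow_length_eq_one_of_nodup _ hndZ
    rwa [List.length_cons, List.length_cons, hS', List.length_map] at this
  have hodd : Odd (S.length + 2) := by
    obtain ⟨k, hk⟩ := ht
    rw [Nat.odd_iff]
    omega
  refine ⟨b, S.length + 2, hbm, hodd, ?_, ?_⟩
  · rw [hkey, hdisj.commute.mul_pow, hZpow, mul_one, GLUEALG.pow, one_pow]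
  · intro i hi
    rw [hkey, Perm.mul_apply, hZfix i hi, GLUEALG.apply_castAdd]

end Cfsg.Agent.S2276P
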