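import Mathlib
import Cfsg.Agent.Helper10.S2548Defs
import Cfsg.Agent.Helper10.MatBNC
import Cfsg.Agent.Helper10.S2548PRES

set_option autoImplicit false
open scoped Matrix

/-! S2548 piece MONREV (helper18): the permutation of a monomial isometry commutes with `rev` and
preserves roots. -/

namespace Cfsg.Agent.S2548P

open Cfsg.Agent.MatBN
open Cfsg.Agent.S2546P (E)

variable {K : Type*} [Field K] {n : ℕ}

namespace MONREV

theorem rev_ne (hn : n % 2 = 0) (i : Fin n) : i.rev ≠ i := by
  intro h
  have h1 := congrArg Fin.val h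
  rw [Fin.val_rev] at h1
  have := i.2
  omega

theorem mon_rev (hn : n % 2 = 0) (g : OJ K n) (π : Equiv.Perm (Fin n)) (hg : Mon (mat n g) π)
    (c : Fin n) : π c.rev = (π c).rev := by
  have hP := (PRES.presQ_of_mem hn g).2 c c.rev (fun h => rev_ne hn c h.symm)
  rw [if_pos rfl] at hP
  have hsum : (∑ i : Fin n, mat n g i c * mat n g i.rev c.rev) =
      mat n g (π c) c * mat n g (π c).rev c.rev := by
    apply Finset.sum_eq_single_of_mem (π c) (Finset.mem_univ _)
    intro i _ hi
    have h0 : mat n g i c = 0 := by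
      by_contra h1
      exact hi ((hg i c).mp h1)
    rw [h0, zero_mul]
  rw [hsum] at hP
  have h2 : mat n g (π c).rev c.rev ≠ 0 := by
    intro h0
    rw [h0, mul_zero] at hP
    exact zero_ne_one hP
  exact ((hg _ _).mp h2).symm

theorem mon_isRt (hn : n % 2 = 0) (g : OJ K n) (π : Equiv.Perm (Fin n)) (hg : Mon (mat n g) π)
    (a c : Fin n) (h : IsRt n a.val c.val) : IsRt n (π a).val (π c).val := by
  obtain ⟨-, -, hac, hsum⟩ := h
  refine ⟨(π a).2, (π c).2, ?_, ?_⟩
  · intro h1
    exact hac (congrArg Fin.val (π.injective (Fin.ext h1)))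
  · intro h1
    have h2 : π c = (π a).rev := by
      apply Fin.ext
      rw [Fin.val_rev]
      have := (π a).2
      omega
    rw [← mon_rev hn g π hg a] at h2
    have h3 := congrArg Fin.val (π.injective h2)
    rw [Fin.val_rev] at h3
    have := a.2
    omega

end MONREV

end Cfsg.Agent.S2548P
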