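import Mathlib
import Cfsg.Agent.Helper10.S2548Defs
import Cfsg.Agent.Helper10.MatBNC
import Cfsg.Agent.Helper10.S2548PRES

set_option autoImplicit false
open scoped Matrix

/-! S2548 piece TRIMID (helper18): upper triangular isometries: the diagonal, and the middle entry. -/

namespace Cfsg.Agent.S2548P

open Cfsg.Agent.MatBN
open Cfsg.Agent.S2546P (E)

variable {K : Type*} [Field K] {n : ℕ}

namespace TRIMID

theorem rev_ne (hn : n % 2 = 0) (i : Fin n) : i.rev ≠ i := by
  intro h
  have h1 := congrArg Fin.val h
  rw [Fin.val_rev] at h1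
  have := i.2
  omega

theorem tri_diag (hn : n % 2 = 0) (b : OJ K n) (hb : IsTri (mat n b)) (i : Fin n) :
    mat n b i i * mat n b i.rev i.rev = 1 := by
  have hP := (PRES.presQ_of_mem hn b).2 i i.rev (fun h => rev_ne hn i h.symm)
  rw [if_pos rfl] at hP
  rw [← hP]
  symm
  apply Finset.sum_eq_single i
  · intro j _ hji
    rcases lt_or_gt_of_ne hji with h | h
    · -- `j < i`: `rev i < rev j`
      have h1 : i.rev < j.rev := Fin.rev_lt_rev.mpr h
      rw [hb j.rev i.rev h1, mul_zero]
    · rw [hb j i h, zero_mul]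
  · intro h
    exact absurd (Finset.mem_univ i) h

theorem tri_mid (hn : n % 2 = 0) (b : OJ K n) (hb : IsTri (mat n b)) (a c : Fin n)
    (ha : a.val + 1 = n / 2) (hc : c.val = n / 2) : mat n b a c = 0 := by
  have hP := (PRES.presQ_of_mem hn b).1 c
  rw [QJ_apply] at hP
  have hsum : (∑ i : Fin n, if i.val < n / 2 then mat n b i c * mat n b i.rev c else 0) =
      mat n b a c * mat n b a.rev c := by
    rw [Finset.sum_eq_single_of_mem a (Finset.mem_univ a), if_pos (by omega)]
    intro i _ hia
    split_ifs with h
    · -- `i < m`, `i ≠ m - 1`: `rev i > m`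
      have h1 : c < i.rev := by
        rw [Fin.lt_def, Fin.val_rev, hc]
        have h2 : i.val ≠ a.val := fun h3 => hia (Fin.ext h3)
        omega
      rw [hb i.rev c h1, mul_zero]
    · rfl
  rw [hsum] at hP
  have harev : a.rev = c := by
    apply Fin.ext
    rw [Fin.val_rev, hc]
    omega
  rw [harev] at hP
  have hcc : mat n b c c ≠ 0 := by
    intro h0
    have := tri_diag hn b hb c
    rw [h0, zero_mul] at this
    exact zero_ne_one this
  rcases mul_eq_zero.mp hP with h | h
  · exact h
  · exact absurd h hcc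

end TRIMID

end Cfsg.Agent.S2548P
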