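import Mathlib
import Cfsg.Agent.Helper10.S2548Defs
import Cfsg.Agent.Helper10.MatBNC

set_option autoImplicit false
open scoped Matrix

/-! S2548 piece RMAT (helper18): the swap of the two middle basis vectors is a monomial isometry. -/

namespace Cfsg.Agent.S2548P

open Cfsg.Agent.MatBN
open Cfsg.Agent.S2546P (E)

variable {K : Type*} [Field K] {n : ℕ}

namespace RMAT

/-- a permutation matrix whose permutation commutes with `rev` preserves the form (`n` even) -/
theorem presQ_of_perm (hn : n % 2 = 0) (M : Matrix (Fin n) (Fin n) K) (σ : Equiv.Perm (Fin n))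
    (hM : ∀ a c, M a c = if a = σ c then 1 else 0) (hσ : ∀ c : Fin n, σ c.rev = (σ c).rev) :
    PresQ n M := by
  constructor
  · intro a
    rw [QJ_apply]
    apply Finset.sum_eq_zero
    intro i _
    split_ifs with h
    · rw [hM, hM]
      by_cases h1 : i = σ a
      · have h2 : i.rev ≠ σ a := by
          rw [← h1]
          intro h3
          have h4 := congrArg Fin.val h3
          rw [Fin.val_rev] at h4
          omega
        rw [if_neg h2, mul_zero]
      · rw [if_neg h1, zero_mul]
    · rfl
  · intro a c hac
    have h1 : ∀ i : Fin n, M i a * M i.rev c =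
        if i = σ a then (if c = a.rev then (1 : K) else 0) else 0 := by
      intro i
      rw [hM, hM]
      by_cases h2 : i = σ a
      · rw [if_pos h2, if_pos h2, one_mul]
        have h3 : (i.rev = σ c) ↔ (c = a.rev) := by
          rw [h2, ← hσ]
          constructor
          · intro h4
            exact (σ.injective h4).symm
          · intro h4
            rw [h4]
        by_cases h5 : c = a.rev
        · rw [if_pos h5, if_pos (h3.mpr h5)]
        · rw [if_neg h5, if_neg (fun h => h5 (h3.mp h))]
      · rw [if_neg h2, if_neg h2, zero_mul]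
    rw [Finset.sum_congr rfl (fun i _ => h1 i), Finset.sum_ite_eq' Finset.univ (σ a)]
    simp

/-- the entries of `rMat` -/
theorem rMat_apply (hn2 : 2 ≤ n) (a c : Fin n) :
    (rMat n : Matrix (Fin n) (Fin n) K) a c = if a = midSwap n c then 1 else 0 := by
  have hsw : ∀ c : Fin n, (midSwap n c).val =
      if c.val = n / 2 - 1 then n / 2 else if c.val = n / 2 then n / 2 - 1 else c.val := by
    intro c
    unfold midSwap
    rw [dif_pos hn2, Equiv.swap_apply_def]
    by_cases h1 : c.val = n / 2 - 1
    · rw [if_pos (Fin.ext h1), if_pos h1]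
    · rw [if_neg (fun h => h1 (congrArg Fin.val h)), if_neg h1]
      by_cases h2 : c.val = n / 2
      · rw [if_pos (Fin.ext h2), if_pos h2]
      · rw [if_neg (fun h => h2 (congrArg Fin.val h)), if_neg h2]
  have e1 : (a = c) = (a.val = c.val) := propext Fin.ext_iff
  have e2 : (a = midSwap n c) = (a.val =
      (if c.val = n / 2 - 1 then n / 2 else if c.val = n / 2 then n / 2 - 1 else c.val)) := by
    apply propext
    rw [Fin.ext_iff, hsw]
  have hm : 1 ≤ n / 2 := by omega
  simp only [rMat, Matrix.add_apply, Matrix.sub_apply, Matrix.one_apply, Cfsg.Agent.S2546P.E,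
    Matrix.of_apply, e1, e2]
  split_ifs <;> first | (exfalso; omega) | norm_num

/-- `midSwap` commutes with `rev` (`n` even) -/
theorem midSwap_rev (hn : n % 2 = 0) (hn2 : 2 ≤ n) (c : Fin n) :
    midSwap n c.rev = (midSwap n c).rev := by
  have hsw : ∀ c : Fin n, (midSwap n c).val =
      if c.val = n / 2 - 1 then n / 2 else if c.val = n / 2 then n / 2 - 1 else c.val := by
    intro c
    unfold midSwap
    rw [dif_pos hn2, Equiv.swap_apply_def]
    by_cases h1 : c.val = n / 2 - 1
    · rw [if_pos (Fin.ext h1), if_pos h1]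
    · rw [if_neg (fun h => h1 (congrArg Fin.val h)), if_neg h1]
      by_cases h2 : c.val = n / 2
      · rw [if_pos (Fin.ext h2), if_pos h2]
      · rw [if_neg (fun h => h2 (congrArg Fin.val h)), if_neg h2]
  apply Fin.ext
  rw [Fin.val_rev, hsw, hsw, Fin.val_rev]
  have hc := c.2
  split_ifs <;> omega

theorem presQ_rMat (hn : n % 2 = 0) (hn2 : 2 ≤ n) : PresQ n (rMat n : Matrix (Fin n) (Fin n) K) :=
  presQ_of_perm hn _ (midSwap n) (rMat_apply hn2) (midSwap_rev hn hn2)

theorem mon_rMat (hn : n % 2 = 0) (hn2 : 2 ≤ n) :
    Mon (rMat n : Matrix (Fin n) (Fin n) K) (midSwap n) := by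
  intro a c
  rw [rMat_apply hn2]
  by_cases h : a = midSwap n c
  · simp [h]
  · simp [h]

end RMAT

end Cfsg.Agent.S2548P
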