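import Mathlib
import Cfsg.Agent.Helper14.S2481.Defs

set_option autoImplicit false
set_option linter.unusedVariables false

/-! S2481 (driver helper14), piece KDCOUNT: min-sums determine counts. -/

namespace Cfsg.Agent.S2481P

namespace KDCOUNT

variable {ι : Type*} [Fintype ι] (e : ι → ℕ)

theorem step (R : ι → Prop) [DecidablePred R] (k : ℕ) :
    ∑ i with R i, min (e i) (k + 1) =
      ∑ i with R i, min (e i) k + (Finset.univ.filter (fun i => R i ∧ k + 1 ≤ e i)).card := by
  have e1 : Finset.univ.filter (fun i => R i ∧ k + 1 ≤ e i) =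
      (Finset.univ.filter (fun i => R i)).filter (fun i => k + 1 ≤ e i) := by
    rw [Finset.filter_filter]
  rw [e1, Finset.card_filter, ← Finset.sum_add_distrib]
  apply Finset.sum_congr rfl
  intro i _
  split_ifs with h <;> omega

theorem split (R : ι → Prop) [DecidablePred R] (m : ℕ) :
    (Finset.univ.filter (fun i => R i ∧ m ≤ e i)).card =
      (Finset.univ.filter (fun i => R i ∧ e i = m)).card +
        (Finset.univ.filter (fun i => R i ∧ m + 1 ≤ e i)).card := by
  rw [Finset.card_filter, Finset.card_filter, Finset.card_filter, ← Finset.sum_add_distrib]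
  apply Finset.sum_congr rfl
  intro i _
  by_cases hR : R i
  · simp only [hR, true_and]
    split_ifs <;> omega
  · simp [hR]

end KDCOUNT

-- piece KDCOUNT (pure combinatorics)
theorem count_eq_of_minsum {ι : Type*} [Fintype ι] (e : ι → ℕ) (P Q : ι → Prop) [DecidablePred P]
    [DecidablePred Q]
    (h : ∀ k, ∑ i with P i, min (e i) k = ∑ i with Q i, min (e i) k) (m : ℕ) (hm : 1 ≤ m) :
    (Finset.univ.filter (fun i => P i ∧ e i = m)).card =
      (Finset.univ.filter (fun i => Q i ∧ e i = m)).card := by
  have hc : ∀ k, (Finset.univ.filter (fun i => P i ∧ k + 1 ≤ e i)).card =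
      (Finset.univ.filter (fun i => Q i ∧ k + 1 ≤ e i)).card := by
    intro k
    have h1 := KDCOUNT.step e P k
    have h2 := KDCOUNT.step e Q k
    have h3 := h k
    have h4 := h (k + 1)
    omega
  obtain ⟨m', rfl⟩ : ∃ m', m = m' + 1 := ⟨m - 1, by omega⟩
  have h1 := KDCOUNT.split e P (m' + 1)
  have h2 := KDCOUNT.split e Q (m' + 1)
  have h3 := hc m'
  have h4 := hc (m' + 1)
  omega

end Cfsg.Agent.S2481P
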