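import Mathlib
import Cfsg.Agent.Helper14.S2481.Defs
import Cfsg.Agent.Helper18.S2481TILDE
import Cfsg.Agent.Helper18.S2481KDCOUNT
import Cfsg.Agent.Helper16.S2481KDSUM
import Cfsg.Agent.Helper10.S2481KDUNIT

set_option autoImplicit false
set_option linter.unusedVariables false

/-! S2481 (driver helper14), piece KDFINAL: the type of a unitary matrix is self dual. -/

namespace Cfsg.Agent.S2481P

open Polynomial DirectSum Matrix Cfsg.Agent.S2478P Cfsg.Agent.S2479P

universe u

section kd

variable {F : Type u} [Field F]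

namespace KDFINAL

/-- `tilde` of a finite product -/
theorem tilde_prod (σ : F →+* F) {ι : Type*} (s : Finset ι) (f : ι → F[X])
    (hf : ∀ i ∈ s, (f i).coeff 0 ≠ 0) :
    (∏ i ∈ s, f i).coeff 0 ≠ 0 ∧ tilde σ (∏ i ∈ s, f i) = ∏ i ∈ s, tilde σ (f i) := by
  classical
  induction s using Finset.induction_on with
  | empty =>
    rw [Finset.prod_empty, Finset.prod_empty]
    exact ⟨by simp, tilde_one σ⟩
  | insert a s ha ih =>
    have h1 := hf a (Finset.mem_insert_self a s)
    obtain ⟨h2, h3⟩ := ih (fun i hi => hf i (Finset.mem_insert_of_mem hi))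
    rw [Finset.prod_insert ha, Finset.prod_insert ha]
    refine ⟨?_, ?_⟩
    · rw [mul_coeff_zero]
      exact mul_ne_zero h1 h2
    · rw [tilde_mul σ h1 h2, h3]

/-- a monic irreducible polynomial other than `X` has a nonzero constant term -/
theorem coeff_zero_ne {p : F[X]} (hm : p.Monic) (hi : Irreducible p) (hX : p ≠ X) :
    p.coeff 0 ≠ 0 := by
  intro h0
  have hdvd : X ∣ p := X_dvd_iff.mpr h0
  have hass : Associated X p := Irreducible.associated_of_dvd irreducible_X hi hdvd
  exact hX (eq_of_monic_of_associated monic_X hm hass).symm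

end KDFINAL

-- piece KDFINAL (uses KDSUM, KDUNIT, KDCOUNT, TILDE)
theorem tilde_of_isU [Finite F] {σ : F →+* F} (hσ : IsInvol σ) {n : ℕ}
    {g : Matrix (Fin n) (Fin n) F} (hg : IsU σ g) {t : ℕ → F[X]} (ht : HasType g t) (m : ℕ) :
    tilde σ (t m) = t m := by
  classical
  obtain ⟨ι, hι, p, e, hpe, hsum, Φ, rfl⟩ := ht
  show tilde σ (∏ i with e i = m, p i) = ∏ i with e i = m, p i
  have hp0 : ∀ i, (p i).coeff 0 ≠ 0 := fun i =>
    KDFINAL.coeff_zero_ne (hpe i).1 (hpe i).2.1 (hpe i).2.2.1
  rcases Nat.eq_zero_or_pos m with hm0 | hmpos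
  · have hempty : (Finset.univ.filter (fun i => e i = m)) = ∅ := by
      rw [Finset.filter_eq_empty_iff]
      intro i _ hi
      have := (hpe i).2.2.2
      omega
    rw [hempty, Finset.prod_empty]
    exact tilde_one σ
  · set S := Finset.univ.filter (fun i => e i = m) with hS
    -- the counting function
    have key : ∀ r : F[X], r.Monic → Irreducible r → r.coeff 0 ≠ 0 →
        (S.filter (fun i => p i = r)).card = (S.filter (fun i => p i = tilde σ r)).card := by
      intro r hrm hri hr0
      have hdeg : 0 < r.natDegree := hri.natDegree_pos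
      have htm : (tilde σ r).Monic := tilde_monic σ hr0
      have hti : Irreducible (tilde σ r) := tilde_irreducible hσ hrm hr0 hri
      have hmin : ∀ k, ∑ i with p i = r, min (e i) k = ∑ i with p i = tilde σ r, min (e i) k := by
        intro k
        have h1 := kd_eq_sum g p e (fun i => ⟨(hpe i).1, (hpe i).2.1⟩) Φ hrm hri k
        have h2 := kd_eq_sum g p e (fun i => ⟨(hpe i).1, (hpe i).2.1⟩) Φ htm hti k
        rw [kd_tilde hσ hg hrm hr0 k, h1, tilde_natDegree σ hr0, ← Finset.sum_filter,
          ← Finset.sum_filter, ← Finset.mul_sum, ← Finset.mul_sum] at h2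
        exact Nat.eq_of_mul_eq_mul_left hdeg h2
      have h3 := count_eq_of_minsum e (fun i => p i = r) (fun i => p i = tilde σ r) hmin m hmpos
      have e1 : ∀ r' : F[X], S.filter (fun i => p i = r') =
          Finset.univ.filter (fun i => p i = r' ∧ e i = m) := by
        intro r'
        rw [hS, Finset.filter_filter]
        apply Finset.filter_congr
        intro i _
        exact and_comm
      rw [e1, e1]
      exact h3
    obtain ⟨-, h4⟩ := KDFINAL.tilde_prod σ S p (fun i _ => hp0 i)
    rw [h4]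
    rw [Finset.prod_comp (tilde σ) p, Finset.prod_comp (fun r => r) p]
    have hmemI : ∀ r ∈ S.image p, r.Monic ∧ Irreducible r ∧ r.coeff 0 ≠ 0 ∧
        tilde σ r ∈ S.image p := by
      intro r hr
      obtain ⟨i, hi, rfl⟩ := Finset.mem_image.mp hr
      refine ⟨(hpe i).1, (hpe i).2.1, hp0 i, ?_⟩
      have hpos : 0 < (S.filter (fun j => p j = p i)).card :=
        Finset.card_pos.mpr ⟨i, Finset.mem_filter.mpr ⟨hi, rfl⟩⟩
      rw [key (p i) (hpe i).1 (hpe i).2.1 (hp0 i)] at hpos
      obtain ⟨j, hj⟩ := Finset.card_pos.mp hpos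
      obtain ⟨hjS, hjp⟩ := Finset.mem_filter.mp hj
      exact Finset.mem_image.mpr ⟨j, hjS, hjp⟩
    refine Finset.prod_nbij' (tilde σ) (tilde σ) (fun r hr => (hmemI r hr).2.2.2)
      (fun r hr => (hmemI r hr).2.2.2) ?_ ?_ ?_
    · intro r hr
      obtain ⟨h1, -, h3, -⟩ := hmemI r hr
      exact tilde_tilde hσ h1 h3
    · intro r hr
      obtain ⟨h1, -, h3, -⟩ := hmemI r hr
      exact tilde_tilde hσ h1 h3
    · intro r hr
      obtain ⟨h1, h2, h3, -⟩ := hmemI r hr
      show tilde σ r ^ _ = tilde σ r ^ _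
      congr 1
      exact key r h1 h2 h3

end kd

end Cfsg.Agent.S2481P
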