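import Mathlib

/-! Abstract recognition lemmas for `A₄` and `S₄` via the action on Sylow `3`-subgroups. -/

set_option autoImplicit false

namespace Cfsg.Agent.Helper18.Klein

open MulAction

variable {G : Type*} [Group G] [Finite G]

/-- order and index of a Sylow `p`-subgroup when `|G| = p m`, `p ∤ m` -/
theorem sylow_card_of (p m : ℕ) [Fact p.Prime] (hG : Nat.card G = p * m) (hm : ¬ p ∣ m)
    (P : Sylow p G) : Nat.card P = p ∧ P.index = m := by
  have hp : p.Prime := Fact.out
  obtain ⟨n, hn⟩ := IsPGroup.iff_card.mp P.isPGroup'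
  have h1 := (P : Subgroup G).card_mul_index
  have h2 : ¬ p ∣ (P : Subgroup G).index := P.not_dvd_index
  rw [hn, hG] at h1
  rcases n with _ | n
  · rw [pow_zero, one_mul] at h1
    exact absurd (h1 ▸ dvd_mul_right p m) h2
  · rw [pow_succ, mul_comm (p ^ n) p, mul_assoc] at h1
    have h3 : p ^ n * (P : Subgroup G).index = m := Nat.eq_of_mul_eq_mul_left hp.pos h1
    rcases n with _ | n
    · rw [pow_zero, one_mul] at h3
      rw [zero_add, pow_one] at hn
      exact ⟨hn, h3⟩
    · exfalso
      apply hm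
      rw [← h3, pow_succ, mul_comm (p ^ n) p, mul_assoc]
      exact dvd_mul_right _ _

/-- elements of `p`-power order in the kernel of the action on Sylow `p`-subgroups lie in every
Sylow `p`-subgroup -/
theorem mem_sylow_of_mem_ker (p : ℕ) [Fact p.Prime] (k : G)
    (hk : k ∈ (MulAction.toPermHom G (Sylow p G)).ker)
    (hkp : IsPGroup p (Subgroup.zpowers k)) (P : Sylow p G) : k ∈ (P : Subgroup G) := by
  have hfix : P ∈ fixedPoints (Subgroup.zpowers k) (Sylow p G) := by
    intro h
    have hmem : (h : G) ∈ (MulAction.toPermHom G (Sylow p G)).ker :=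
      (Subgroup.zpowers_le.mpr hk) h.2
    rw [MonoidHom.mem_ker] at hmem
    have := congrArg (fun σ : Equiv.Perm (Sylow p G) => σ P) hmem
    have h2 : (h : G) • P = P := by simpa using this
    exact h2
  exact (hkp.sylow_mem_fixedPoints_iff.mp hfix) (Subgroup.mem_zpowers k)

theorem not_dvd_card_ker (p : ℕ) [Fact p.Prime] (hp : ∀ P : Sylow p G, Nat.card P = p)
    (hnn : ¬ Subsingleton (Sylow p G)) :
    ¬ p ∣ Nat.card (MulAction.toPermHom G (Sylow p G)).ker := by
  intro hdvd
  obtain ⟨k, hk⟩ := exists_prime_orderOf_dvd_card' p hdvd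
  have hk' : orderOf (k : G) = p := by rw [Subgroup.orderOf_coe, hk]
  have hcard : Nat.card (Subgroup.zpowers (k : G)) = p := by rw [Nat.card_zpowers, hk']
  have hkp : IsPGroup p (Subgroup.zpowers (k : G)) :=
    IsPGroup.of_card (n := 1) (by rw [hcard, pow_one])
  apply hnn
  have hall : ∀ P : Sylow p G, (P : Subgroup G) = Subgroup.zpowers (k : G) := by
    intro P
    have hle : Subgroup.zpowers (k : G) ≤ P :=
      Subgroup.zpowers_le.mpr (mem_sylow_of_mem_ker p (k : G) k.2 hkp P)
    exact (Subgroup.eq_of_le_of_card_ge hle (by rw [hp P, hcard])).symm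
  exact ⟨fun P Q => Sylow.ext ((hall P).trans (hall Q).symm)⟩

theorem ker_le_normalizer (p : ℕ) [Fact p.Prime] (P : Sylow p G) :
    (MulAction.toPermHom G (Sylow p G)).ker ≤ Subgroup.normalizer ((P : Subgroup G) : Set G) := by
  intro k hk
  have h0 : k ∈ stabilizer G P := by
    rw [mem_stabilizer_iff]
    rw [MonoidHom.mem_ker] at hk
    have := congrArg (fun σ : Equiv.Perm (Sylow p G) => σ P) hk
    simpa using this
  rw [Sylow.stabilizer_eq_normalizer] at h0
  exact h0

theorem card_normalizer_sylow (p : ℕ) [Fact p.Prime] (P : Sylow p G) :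
    Nat.card (Subgroup.normalizer ((P : Subgroup G) : Set G)) * Nat.card (Sylow p G) =
      Nat.card G := by
  rw [P.card_eq_index_normalizer]
  exact Subgroup.card_mul_index _

theorem card_sylow_three_eq_four [Fact (Nat.Prime 3)] (m : ℕ) (hm : m = 4 ∨ m = 8)
    (hG : Nat.card G = 3 * m) (hnn : ¬ Subsingleton (Sylow 3 G)) :
    Nat.card (Sylow 3 G) = 4 := by
  obtain ⟨P⟩ : Nonempty (Sylow 3 G) := inferInstance
  have h3m : ¬ 3 ∣ m := by rcases hm with rfl | rfl <;> norm_num
  obtain ⟨-, hidx⟩ := sylow_card_of 3 m hG h3m P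
  have h1 := card_sylow_modEq_one 3 G
  have h2 := P.card_dvd_index
  rw [hidx] at h2
  have hne1 : Nat.card (Sylow 3 G) ≠ 1 := by
    intro h
    exact hnn (Nat.card_eq_one_iff_unique.mp h).1
  have hle : Nat.card (Sylow 3 G) ≤ m := Nat.le_of_dvd (by rcases hm with rfl | rfl <;> norm_num) h2
  unfold Nat.ModEq at h1
  rcases hm with rfl | rfl
  · interval_cases (Nat.card (Sylow 3 G)) <;> simp_all
  · interval_cases (Nat.card (Sylow 3 G)) <;> simp_all

theorem card_perm_fin_four : Nat.card (Equiv.Perm (Fin 4)) = 24 := by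
  rw [Nat.card_eq_fintype_card, Fintype.card_perm, Fintype.card_fin]
  rfl

/-- a group of order `12` whose Sylow `3`-subgroup is not normal is `A₄` -/
theorem nonempty_equiv_A4 (hG : Nat.card G = 12) (hnn : ¬ Subsingleton (Sylow 3 G)) :
    Nonempty (G ≃* alternatingGroup (Fin 4)) := by
  classical
  have : Fact (Nat.Prime 3) := ⟨Nat.prime_three⟩
  have h4 := card_sylow_three_eq_four 4 (Or.inl rfl) hG hnn
  obtain ⟨P⟩ : Nonempty (Sylow 3 G) := inferInstance
  have hP : ∀ P : Sylow 3 G, Nat.card P = 3 := fun P =>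
    (sylow_card_of 3 4 hG (by norm_num) P).1
  set φ := MulAction.toPermHom G (Sylow 3 G) with hφ
  have hN := card_normalizer_sylow 3 P
  rw [h4, hG] at hN
  have hN3 : Nat.card (Subgroup.normalizer ((P : Subgroup G) : Set G)) = 3 := by omega
  have hK1 : Nat.card φ.ker ∣ 3 := by
    have := Subgroup.card_dvd_of_le (ker_le_normalizer 3 P)
    rwa [hN3] at this
  have hK2 : ¬ 3 ∣ Nat.card φ.ker := not_dvd_card_ker 3 hP hnn
  have hK : Nat.card φ.ker = 1 := by
    rcases (Nat.dvd_prime Nat.prime_three).mp hK1 with h | h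
    · exact h
    · exact absurd (by rw [h]) hK2
  have hinj : Function.Injective φ := by
    rw [← MonoidHom.ker_eq_bot_iff]
    exact Subgroup.card_eq_one.mp hK
  let e : Sylow 3 G ≃ Fin 4 := Finite.equivFinOfCardEq h4
  let ψ : G →* Equiv.Perm (Fin 4) := e.permCongrHom.toMonoidHom.comp φ
  have hψ : Function.Injective ψ := e.permCongrHom.injective.comp hinj
  have hr : Nat.card ψ.range = 12 := by
    rw [← hG]
    exact (Nat.card_congr (MonoidHom.ofInjective hψ).toEquiv).symm
  have hidx : ψ.range.index = 2 := by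
    have h1 := ψ.range.card_mul_index
    rw [hr, card_perm_fin_four] at h1
    omega
  have hrange := Equiv.Perm.eq_alternatingGroup_of_index_eq_two hidx
  exact ⟨(MonoidHom.ofInjective hψ).trans (MulEquiv.subgroupCongr hrange)⟩

/-- a group of order `24` without elements of order `6` whose Sylow `3`-subgroup is not normal
is `S₄` -/
theorem nonempty_equiv_S4 (hG : Nat.card G = 24) (hnn : ¬ Subsingleton (Sylow 3 G))
    (h6 : ∀ g : G, orderOf g ≠ 6) : Nonempty (G ≃* Equiv.Perm (Fin 4)) := by
  classical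
  have : Fact (Nat.Prime 3) := ⟨Nat.prime_three⟩
  have : Fact (Nat.Prime 2) := ⟨Nat.prime_two⟩
  have h4 := card_sylow_three_eq_four 8 (Or.inr rfl) hG hnn
  obtain ⟨P⟩ : Nonempty (Sylow 3 G) := inferInstance
  have hP : ∀ P : Sylow 3 G, Nat.card P = 3 := fun P =>
    (sylow_card_of 3 8 hG (by norm_num) P).1
  set φ := MulAction.toPermHom G (Sylow 3 G) with hφ
  have hN := card_normalizer_sylow 3 P
  rw [h4, hG] at hN
  have hN6 : Nat.card (Subgroup.normalizer ((P : Subgroup G) : Set G)) = 6 := by omega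
  have hK1 : Nat.card φ.ker ∣ 2 * 3 := by
    have := Subgroup.card_dvd_of_le (ker_le_normalizer 3 P)
    rwa [hN6] at this
  have hK2 : ¬ 3 ∣ Nat.card φ.ker := not_dvd_card_ker 3 hP hnn
  have hK3 : Nat.card φ.ker ∣ 2 := by
    apply Nat.Coprime.dvd_of_dvd_mul_right _ hK1
    exact (Nat.Coprime.symm ((Nat.Prime.coprime_iff_not_dvd Nat.prime_three).mpr hK2))
  have hK : Nat.card φ.ker = 1 := by
    rcases (Nat.dvd_prime Nat.prime_two).mp hK3 with h | h
    · exact h
    · exfalso
      obtain ⟨k, hk⟩ := exists_prime_orderOf_dvd_card' (G := φ.ker) 2 (by rw [h])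
      have hk1 : k ≠ 1 := by
        intro h1; rw [h1, orderOf_one] at hk; omega
      have huniq := (Nat.card_eq_two_iff' (1 : φ.ker)).mp h
      obtain ⟨c, hc⟩ := exists_prime_orderOf_dvd_card' (G := G) 3 (by rw [hG]; norm_num)
      have hcomm : Commute (k : G) c := by
        have hmem : c * (k : G) * c⁻¹ ∈ φ.ker := (inferInstance : φ.ker.Normal).conj_mem _ k.2 c
        have hne : (⟨c * (k : G) * c⁻¹, hmem⟩ : φ.ker) ≠ 1 := by
          intro h1
          have h2 : c * (k : G) * c⁻¹ = 1 := congrArg Subtype.val h1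
          apply hk1
          apply Subtype.ext
          have : (k : G) = c⁻¹ * (c * (k : G) * c⁻¹) * c := by group
          rw [this, h2]; simp
        have h3 := huniq.unique hne hk1
        have h4 : c * (k : G) * c⁻¹ = k := congrArg Subtype.val h3
        show (k : G) * c = c * k
        calc (k : G) * c = (c * (k : G) * c⁻¹) * c := by rw [h4]
          _ = c * k := by group
      have hk' : orderOf (k : G) = 2 := by rw [Subgroup.orderOf_coe, hk]
      have := hcomm.orderOf_mul_eq_mul_orderOf_of_coprime (by rw [hk', hc]; norm_num)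
      rw [hk', hc] at this
      exact h6 _ this
  have hinj : Function.Injective φ := by
    rw [← MonoidHom.ker_eq_bot_iff]
    exact Subgroup.card_eq_one.mp hK
  let e : Sylow 3 G ≃ Fin 4 := Finite.equivFinOfCardEq h4
  let ψ : G →* Equiv.Perm (Fin 4) := e.permCongrHom.toMonoidHom.comp φ
  have hψ : Function.Injective ψ := e.permCongrHom.injective.comp hinj
  have hbij : Function.Bijective ψ :=
    hψ.bijective_of_nat_card_le (by rw [hG, card_perm_fin_four])
  exact ⟨MulEquiv.ofBijective ψ hbij⟩

end Cfsg.Agent.Helper18.Klein
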