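import Mathlib
import Cfsg.Agent.Helper7.S2862Defs
import Cfsg.Agent.Helper14.S2862L
import Cfsg.Agent.Helper14.PCore
import Cfsg.Agent.Helper3.S2862COP
import Cfsg.Agent.Helper7.S2862T4b

/-! Board `s2862top`, rows T4c, T4d (helper18): `L` has characteristic `p`, ambient form. -/

set_option autoImplicit false
set_option linter.unusedVariables false
set_option linter.unusedSectionVars false

namespace Cfsg.Agent.S2862P

open Cfsg
open Cfsg.Agent.Helper14 (cj)
open Cfsg.Agent.Helper14.Zip (LData)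
open Subgroup
open scoped commutatorElement

variable {G : Type*} [Group G] [Finite G] {p : ℕ} [Fact p.Prime]
variable {H Y D L L0 Vt Vb : Subgroup G}

theorem T4c_aux_normalizer_inf {A B : Subgroup G} {g : G} (hA : g ∈ normalizer (A : Set G))
    (hB : g ∈ normalizer (B : Set G)) : g ∈ normalizer ((A ⊓ B : Subgroup G) : Set G) := by
  rw [mem_normalizer_iff] at hA hB ⊢
  intro x
  rw [mem_inf, mem_inf, hA x, hB x]

/-- an element normalising `L` normalises `O_p(L)` -/
theorem T4c_aux_normalizer_pCoreOf {L : Subgroup G} {g : G} (hg : g ∈ normalizer (L : Set G)) :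
    g ∈ normalizer ((pCoreOf p L : Subgroup G) : Set G) := by
  rw [Cfsg.Agent.Helper14.mem_normalizer_iff_map_cj] at hg ⊢
  have := Cfsg.Agent.Helper14.pCoreOf_map_conj p L g
  change pCoreOf p (L.map (cj g)) = (pCoreOf p L).map (cj g) at this
  rw [← this, hg]

/-- `O_p(H)` normalises `L` (own copy of row T4a, so that T4c/T4d do not wait for it) -/
theorem T4c_aux_T4a (K : KHyp p H Y D L L0) : pCoreOf p H ≤ normalizer (L : Set G) := by
  obtain ⟨h, hhL, hh0⟩ := K.hfar
  have hgen := K.hgenL h hhL hh0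
  have hHV : H ≤ normalizer ((pCoreOf p H : Subgroup G) : Set G) := Cfsg.Agent.Helper14.le_normalizer_pCoreOf p H
  -- `O_p(H) = cjs h O_p(H)` normalises `cjs h Y`
  have h1 : (pCoreOf p H).map (cj h) = pCoreOf p H :=
    Cfsg.Agent.Helper14.mem_normalizer_iff_map_cj.mp (hHV (K.hLH hhL))
  have h2 : pCoreOf p H ≤ normalizer ((cjs h Y : Subgroup G) : Set G) := by
    have := Cfsg.Agent.Helper14.map_conj_le_normalizer h K.hVY
    change (pCoreOf p H).map (cj h) ≤ normalizer ((Y.map (cj h) : Subgroup G) : Set G) at this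
    rwa [h1] at this
  intro v hv
  rw [Cfsg.Agent.Helper14.mem_normalizer_iff_map_cj, ← hgen, Subgroup.map_sup]
  have e1 : Y.map (cj v) = Y := Cfsg.Agent.Helper14.mem_normalizer_iff_map_cj.mp (K.hVY hv)
  have e2 : (cjs h Y).map (cj v) = cjs h Y := Cfsg.Agent.Helper14.mem_normalizer_iff_map_cj.mp (h2 hv)
  rw [e1, e2]

/-- T4c : a `p'`-element of `C_L(O_p(L))` is trivial. -/
theorem T4c (K : KHyp p H Y D L L0) {k : G} (hkL : k ∈ L)
    (hkc : k ∈ centralizer ((pCoreOf p L : Subgroup G) : Set G)) (hk : (orderOf k).Coprime p) : k = 1 := by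
  have hVp : IsPGroup p ↥(pCoreOf p H) := Cfsg.Agent.Helper14.pCoreOf_isPGroup p H
  have hkH : k ∈ H := K.hLH hkL
  have hkV : k ∈ normalizer ((pCoreOf p H : Subgroup G) : Set G) :=
    Cfsg.Agent.Helper14.le_normalizer_pCoreOf p H hkH
  have hkOL : k ∈ normalizer ((pCoreOf p L : Subgroup G) : Set G) :=
    Cfsg.Agent.Helper14.le_normalizer_pCoreOf p L hkL
  have ha : pCoreOf p H ≤ normalizer (L : Set G) := T4c_aux_T4a K
  have hb : ⁅pCoreOf p H, L⁆ ≤ pCoreOf p L := T4b_aux_core K.hLH ha
  have h1 : TrivOn k (pCoreOf p H) (pCoreOf p H ⊓ pCoreOf p L) := by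
    intro v hv
    refine ⟨?_, hb (Subgroup.commutator_mem_commutator hv hkL)⟩
    have e : ⁅v, k⁆ = v * (k * v⁻¹ * k⁻¹) := by simp only [commutatorElement_def]; group
    rw [e]
    exact mul_mem hv ((mem_normalizer_iff.mp hkV v⁻¹).mp (inv_mem hv))
  have h2 : TrivOn k (pCoreOf p H ⊓ pCoreOf p L) ⊥ := by
    intro v hv
    rw [mem_bot]
    have hc := (mem_centralizer_iff.mp hkc) v hv.2
    rw [commutatorElement_def, hc]
    group
  have hnm : pCoreOf p H ≤ normalizer ((pCoreOf p H ⊓ pCoreOf p L : Subgroup G) : Set G) := by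
    intro v hv
    exact T4c_aux_normalizer_inf (le_normalizer hv) (T4c_aux_normalizer_pCoreOf (ha hv))
  have hnb : pCoreOf p H ≤ normalizer ((⊥ : Subgroup G) : Set G) := by
    intro v _
    rw [mem_normalizer_iff]
    intro x
    simp only [mem_bot]
    constructor
    · rintro rfl; group
    · intro h
      have : x = v⁻¹ * (v * x * v⁻¹) * v := by group
      rw [this, h]; group
  have hkb : k ∈ normalizer ((⊥ : Subgroup G) : Set G) := by
    rw [mem_normalizer_iff]
    intro x
    simp only [mem_bot]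
    constructor
    · rintro rfl; group
    · intro h
      have : x = k⁻¹ * (k * x * k⁻¹) * k := by group
      rw [this, h]; group
  have h3 : TrivOn k (pCoreOf p H) ⊥ :=
    triv_of_coprime hk hVp bot_le inf_le_left hnb hnm hkV (T4c_aux_normalizer_inf hkV hkOL) hkb h1 h2
  -- `k` centralises `O_p(H)`
  have hkcH : k ∈ centralizer ((pCoreOf p H : Subgroup G) : Set G) := by
    rw [mem_centralizer_iff]
    intro v hv
    have := h3 v hv
    rw [mem_bot, commutatorElement_def] at this
    calc v * k = (v * k * v⁻¹ * k⁻¹) * k * v := by group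
      _ = k * v := by rw [this, one_mul]
  have hkp : k ∈ pCoreOf p H := K.hchar ⟨hkH, hkcH⟩
  -- `k` is a `p`-element and a `p'`-element
  obtain ⟨n, hn⟩ := (IsPGroup.iff_orderOf.mp hVp) ⟨k, hkp⟩
  rw [Subgroup.orderOf_mk] at hn
  rw [hn] at hk
  have : orderOf k = 1 := by
    rw [hn]
    rcases Nat.eq_zero_or_pos n with h0 | hpos
    · rw [h0, pow_zero]
    · exfalso
      have hp := (Fact.out : p.Prime)
      have : p ∣ Nat.gcd (p ^ n) p := Nat.dvd_gcd (dvd_pow_self p hpos.ne') dvd_rfl
      rw [Nat.Coprime] at hk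
      rw [hk] at this
      exact hp.one_lt.ne' (Nat.dvd_one.mp this)
  exact orderOf_eq_one_iff.mp this

/-- T4d : `C_L(O_p(L)) ≤ O_p(L)` (ambient form). -/
theorem T4d (K : KHyp p H Y D L L0) : L ⊓ centralizer ((pCoreOf p L : Subgroup G) : Set G) ≤ pCoreOf p L := by
  have hp : p.Prime := Fact.out
  set C₀ : Subgroup G := L ⊓ centralizer ((pCoreOf p L : Subgroup G) : Set G) with hC₀
  -- `C₀` is a `p`-group
  have hcard : Nat.card ↥C₀ ≠ 0 := Nat.card_pos.ne'
  have key : ∀ {q : ℕ}, q.Prime → q ∣ Nat.card ↥C₀ → q = p := by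
    intro q hq hqd
    by_contra hne
    have : Fact q.Prime := ⟨hq⟩
    obtain ⟨x, hx⟩ := exists_prime_orderOf_dvd_card' q hqd
    have hx' : orderOf (x : G) = q := by rw [Subgroup.orderOf_coe]; exact hx
    have hcop : (orderOf (x : G)).Coprime p := by
      rw [hx']
      exact (Nat.coprime_primes hq hp).mpr hne
    have hx1 : (x : G) = 1 := T4c K x.2.1 x.2.2 hcop
    rw [hx1, orderOf_one] at hx'
    exact hq.ne_one hx'.symm
  have hpC : IsPGroup p ↥C₀ := IsPGroup.of_card (Nat.eq_prime_pow_of_unique_prime_dvd hcard key)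
  -- `C₀` is normalised by `L`
  have hnorm : L ≤ normalizer (C₀ : Set G) := by
    intro l hl
    apply T4c_aux_normalizer_inf (le_normalizer hl)
    -- `l` normalises `O_p(L)`, hence its centraliser
    have h1 : l ∈ normalizer ((pCoreOf p L : Subgroup G) : Set G) :=
      Cfsg.Agent.Helper14.le_normalizer_pCoreOf p L hl
    rw [Cfsg.Agent.Helper14.mem_normalizer_iff_map_cj] at h1 ⊢
    rw [Cfsg.Agent.Helper14.map_cj_centralizer, h1]
  exact Cfsg.Agent.Helper14.le_pCoreOf p inf_le_left hnorm hpC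

end Cfsg.Agent.S2862P
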