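import Mathlib
import Cfsg.Agent.Helper29.TV2Basic

/-! Board `tv2pieces`, row USPAN, part (a): everything that does not need the deep DE facts
(`USPAN_T`, `USPAN_D1` are in `TV2_USPAN`). -/

set_option autoImplicit false

namespace Cfsg.Agent.TV2

variable {P : Type*} [Group P] [Finite P] {W : Type*} [AddCommGroup W] [Module (ZMod 2) W] [Finite W] [DistribMulAction P W]

omit [Finite P] [Finite W] in
private theorem USPAN_aux_tv (C : Ctx P W) {d : P} (hd : d ∈ C.D) : Tv W d := by
  obtain ⟨g, rfl⟩ := hd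
  exact C.ha.conj g

omit [Finite P] [Finite W] in
private theorem USPAN_aux_conj (C : Ctx P W) {d : P} (hd : d ∈ C.D) (g : P) : g * d * g⁻¹ ∈ C.D := by
  obtain ⟨h, rfl⟩ := hd
  exact ⟨g * h, by group⟩

/-- for a set `S` of transvections, `[W, ⟨S⟩] ≤ cspan S`. -/
theorem USPAN_sub_mem (S : Set P) (hS : ∀ d ∈ S, Tv W d) {e : P} (he : e ∈ Subgroup.closure S) (w : W) :
    e • w - w ∈ cspan W S := by
  induction he using Subgroup.closure_induction generalizing w with
  | mem d hd =>
    rw [(hS d hd).smul_sub]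
    rcases zmod2_cases (fn W d w) with h | h
    · rw [h, zero_smul]; exact zero_mem _
    · rw [h, one_smul]; exact AddSubgroup.subset_closure ⟨d, hd, rfl⟩
  | one => rw [one_smul, sub_self]; exact zero_mem _
  | mul x y _ _ ihx ihy =>
    have : (x * y) • w - w = (x • (y • w) - y • w) + (y • w - w) := by rw [mul_smul]; abel
    rw [this]; exact add_mem (ihx _) (ihy _)
  | inv x _ ih =>
    have : x⁻¹ • w - w = -(x • (x⁻¹ • w) - x⁻¹ • w) := by rw [smul_inv_smul]; abel
    rw [this]; exact neg_mem (ih _)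

/-- for a set `S` of transvections, `⟨S⟩` leaves `cspan S` invariant. -/
theorem USPAN_inv (S : Set P) (hS : ∀ d ∈ S, Tv W d) {e : P} (he : e ∈ Subgroup.closure S) {u : W} (hu : u ∈ cspan W S) :
    e • u ∈ cspan W S := by
  have : e • u = u + (e • u - u) := by abel
  rw [this]
  exact add_mem hu (USPAN_sub_mem S hS he u)

theorem USPAN_U_eq (C : Ctx P W) : C.U = cspan W C.D := rfl

theorem USPAN_cen_mem (C : Ctx P W) {d : P} (hd : d ∈ C.D) : cen W d ∈ C.U :=
  AddSubgroup.subset_closure ⟨d, hd, rfl⟩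

theorem USPAN_U_inv (C : Ctx P W) (g : P) {u : W} (hu : u ∈ C.U) : g • u ∈ C.U := by
  unfold Ctx.U at hu
  induction hu using AddSubgroup.closure_induction with
  | mem x hx =>
    obtain ⟨d, hd, rfl⟩ := hx
    rw [← (USPAN_aux_tv C hd).cen_conj g]
    exact USPAN_cen_mem C (USPAN_aux_conj C hd g)
  | zero => rw [smul_zero]; exact zero_mem _
  | add x y _ _ ihx ihy => rw [smul_add]; exact add_mem ihx ihy
  | neg x _ ih => rw [smul_neg]; exact neg_mem ih

theorem USPAN_E_sub_mem (C : Ctx P W) {e : P} (he : e ∈ C.E) (w : W) : e • w - w ∈ C.U :=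
  USPAN_sub_mem C.D (fun d hd => USPAN_aux_tv C hd) he w

/-- if the transvections in `S` generate `E` then their centres span `U`. -/
theorem USPAN_of_closure (C : Ctx P W) (S : Set P) (hS : S ⊆ C.D) (hcl : Subgroup.closure S = C.E) : C.U = cspan W S := by
  apply le_antisymm
  · unfold Ctx.U
    rw [AddSubgroup.closure_le]
    rintro u ⟨d, hd, rfl⟩
    have hdt := USPAN_aux_tv C hd
    obtain ⟨w, hw⟩ := hdt.exists_fn_eq_one
    rw [hdt.cen_eq_sub hw]
    have hdE : d ∈ Subgroup.closure S := by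
      rw [hcl]; exact Subgroup.subset_closure hd
    exact USPAN_sub_mem S (fun d' hd' => USPAN_aux_tv C (hS hd')) hdE w
  · unfold Ctx.U cspan
    apply AddSubgroup.closure_mono
    rintro u ⟨d, hd, rfl⟩
    exact ⟨d, hS hd, rfl⟩

end Cfsg.Agent.TV2
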