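import Mathlib
import Cfsg.Agent.Helper29.TV2Basic
import Cfsg.Agent.Helper18.TV2_USPANa
import Cfsg.Agent.Helper24.TV2_DE

/-! Board `tv2pieces`, row USPAN, part (b): `USPAN_T`, `USPAN_D1` (the rest is in `TV2_USPANa`). -/

set_option autoImplicit false

namespace Cfsg.Agent.TV2

variable {P : Type*} [Group P] [Finite P] {W : Type*} [AddCommGroup W] [Module (ZMod 2) W] [Finite W] [DistribMulAction P W]

theorem USPAN_T (C : Ctx P W) {x : P} (hx : x ∈ C.D1) : C.U = cspan W {d | ∃ t ∈ (C.T : Subgroup P), d = t * x * t⁻¹} := by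
  apply USPAN_of_closure C _ _ (DE_closure_conj_T C hx)
  rintro d ⟨t, _, rfl⟩
  exact DE_conj C hx.1 t

theorem USPAN_D1 (C : Ctx P W) : C.U = cspan W C.D1 :=
  USPAN_of_closure C _ (fun _ hd => hd.1) (DE_closure_D1 C)

end Cfsg.Agent.TV2
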