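import Mathlib
import Cfsg.Agent.Helper29.TV2Basic

/-! Board `tv2pieces`, row K2A: every 2-subgroup of `M` is `M`-conjugate into `T`. -/

set_option autoImplicit false

namespace Cfsg.Agent.TV2

variable {P : Type*} [Group P] [Finite P] {W : Type*} [AddCommGroup W] [Module (ZMod 2) W] [Finite W] [DistribMulAction P W]

/-- every 2-subgroup of `M` is `M`-conjugate into `T`. -/
theorem K2A (C : Ctx P W) (Q : Subgroup P) (hQ : IsPGroup 2 Q) (hQM : Q ≤ C.M) :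
    ∃ m ∈ C.M, ∀ q ∈ Q, m * q * m⁻¹ ∈ (C.T : Subgroup P) := by
  have : Fact (Nat.Prime 2) := ⟨Nat.prime_two⟩
  -- `Q` inside `M`
  have hp : IsPGroup 2 ↥(Q.subgroupOf C.M) := hQ.comap_subtype
  obtain ⟨S, hS⟩ := hp.exists_le_sylow
  obtain ⟨m, hm⟩ := MulAction.exists_smul_eq ↥C.M (C.T.subtype C.hTM) S
  refine ⟨((m⁻¹ : ↥C.M) : P), (m⁻¹).2, ?_⟩
  intro q hq
  have hc : (⟨q, hQM hq⟩ : ↥C.M) ∈ (S : Subgroup ↥C.M) := hS (Subgroup.mem_subgroupOf.mpr hq)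
  rw [← hm, Sylow.coe_subgroup_smul, Subgroup.mem_pointwise_smul_iff_inv_smul_mem] at hc
  rw [Sylow.coe_subtype, Subgroup.mem_subgroupOf] at hc
  simpa [MulAut.smul_def, mul_assoc] using hc

end Cfsg.Agent.TV2
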