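import Cfsg.Agent.Helper26.S3818Defs
import Cfsg.Agent.Helper10.S3818SECTION

/-! Board `s3818pieces`, row GT4a1. -/

set_option autoImplicit false

namespace Cfsg.Agent.S3818P

open Module

universe u v w

/-- GT4a1 (the chief factor `Q/Z` as an irreducible `ZMod r`-representation of `G`;
corollary of SECTION with `Γ = G`, `φ = id`). -/
theorem GT4a1_module {G : Type u} [Group G] [Finite G]
    (Q : Subgroup G) [Q.Normal] (r : ℕ) [Fact r.Prime] (hQ1 : ¬ Q ≤ Subgroup.center G)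
    (hcomm : ∀ u ∈ Q, ∀ v ∈ Q, u * v * u⁻¹ * v⁻¹ ∈ Subgroup.center G)
    (hpow : ∀ u ∈ Q, u ^ r ∈ Subgroup.center G)
    (hchief : ∀ N : Subgroup G, N.Normal → Q ⊓ Subgroup.center G ≤ N → N ≤ Q →
      N = Q ⊓ Subgroup.center G ∨ N = Q) :
    ∃ (W : Type u) (_ : AddCommGroup W) (_ : Module (ZMod r) W) (_ : Finite W)
      (τ : Representation (ZMod r) G W), τ.IsIrreducible ∧ Q ≤ MonoidHom.ker τ ∧
      Nat.card W * Nat.card ↥(Q ⊓ Subgroup.center G) = Nat.card Q ∧
      ∀ x : G, Nat.card ↥(LinearMap.ker (τ x - 1)) * Nat.card ↥(Q ⊓ Subgroup.center G) =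
        Nat.card {u : G // u ∈ Q ∧ x * u * x⁻¹ * u⁻¹ ∈ Q ⊓ Subgroup.center G} := by
  have hQn : Q.Normal := inferInstance
  obtain ⟨W, iA, iM, iF, τ, hcard, hker, hirr⟩ :=
    SECTION_module (MonoidHom.id G) Q (Q ⊓ Subgroup.center G) r inf_le_left
      (fun a w hw => hQn.conj_mem w hw a)
      (fun a w hw => ⟨hQn.conj_mem w hw.1 a, (inferInstance : (Subgroup.center G).Normal).conj_mem w hw.2 a⟩)
      (fun w hw w' hw' => ⟨Q.mul_mem (Q.mul_mem (Q.mul_mem hw hw') (Q.inv_mem hw)) (Q.inv_mem hw'),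
        hcomm w hw w' hw'⟩)
      (fun w hw => ⟨Q.pow_mem hw r, hpow w hw⟩)
  refine ⟨W, iA, iM, iF, τ, ?_, ?_, hcard, fun x => hker x⟩
  · apply hirr
    refine ⟨?_, ?_⟩
    · intro h
      apply hQ1
      rw [← h]
      exact inf_le_right
    · intro U h1 h2 hU
      have hUn : U.Normal := ⟨fun w hw a => hU a w hw⟩
      exact hchief U hUn h1 h2
  · intro x hx
    rw [MonoidHom.mem_ker]
    have h1 := hker x
    have hall : Nat.card {u : G // u ∈ Q ∧ (MonoidHom.id G) x * u * ((MonoidHom.id G) x)⁻¹ * u⁻¹ ∈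
        Q ⊓ Subgroup.center G} = Nat.card Q := by
      apply Nat.card_congr
      refine ⟨fun u => ⟨u.1, u.2.1⟩, fun u => ⟨u.1, u.2, ?_, ?_⟩, fun u => rfl, fun u => rfl⟩
      · exact Q.mul_mem (Q.mul_mem (Q.mul_mem hx u.2) (Q.inv_mem hx)) (Q.inv_mem u.2)
      · exact hcomm x hx u.1 u.2
    rw [hall, ← hcard] at h1
    have hpos : 0 < Nat.card ↥(Q ⊓ Subgroup.center G) := Nat.card_pos
    have h2 : Nat.card ↥(LinearMap.ker (τ x - 1)) = Nat.card W := Nat.eq_of_mul_eq_mul_right hpos h1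
    have h3 : LinearMap.ker (τ x - 1) = ⊤ := by
      have hsub : ((LinearMap.ker (τ x - 1) : Submodule (ZMod r) W) : Set W) = Set.univ := by
        apply Set.eq_univ_of_forall
        have hbij : Function.Bijective (Subtype.val : ↥(LinearMap.ker (τ x - 1)) → W) :=
          (Nat.bijective_iff_injective_and_card _).2 ⟨Subtype.val_injective, h2⟩
        intro w
        obtain ⟨v, hv⟩ := hbij.2 w
        rw [← hv]; exact v.2
      exact SetLike.coe_injective (by rw [hsub]; rfl)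
    ext w
    have : w ∈ LinearMap.ker (τ x - 1) := by rw [h3]; trivial
    rw [LinearMap.mem_ker, LinearMap.sub_apply, sub_eq_zero] at this
    exact this

end Cfsg.Agent.S3818P
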