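import Cfsg.Agent.Helper26.S3818Defs
import Cfsg.Agent.Helper9.S3818TR
import Cfsg.Agent.Helper18.S3818GT4a1

/-! Board `s3818pieces`, row GT4a. -/

set_option autoImplicit false

namespace Cfsg.Agent.S3818P

open Module

universe u v w

/-- a submodule of a finite module with full cardinality is everything -/
theorem GT4a_aux_eq_top {K : Type*} [Ring K] {W : Type*} [AddCommGroup W] [Module K W] [Finite W]
    (S : Submodule K W) (h : Nat.card ↥S = Nat.card W) : S = ⊤ := by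
  have hbij : Function.Bijective (Subtype.val : ↥S → W) :=
    (Nat.bijective_iff_injective_and_card _).2 ⟨Subtype.val_injective, h⟩
  rw [eq_top_iff]
  intro w _
  obtain ⟨v, hv⟩ := hbij.2 w
  rw [← hv]; exact v.2

/-- GT4a (induction hypothesis applied to `Q/Z`). -/
theorem GT4a_induction {G : Type u} [Group G] [Finite G] [Group.IsSolvable G] {p : ℕ}
    (hp : p.Prime) (x : G) (hx : x ^ p = 1)
    (hgen : Subgroup.normalClosure ({x} : Set G) = ⊤) (IH : IHyp G p)
    (Q : Subgroup G) [Q.Normal] (r : ℕ) (hr : r.Prime) (hQ : IsPGroup r Q)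
    (hQ1 : ¬ Q ≤ Subgroup.center G)
    (hcomm : ∀ u ∈ Q, ∀ v ∈ Q, u * v * u⁻¹ * v⁻¹ ∈ Subgroup.center G)
    (hpow : ∀ u ∈ Q, u ^ r ∈ Subgroup.center G)
    (hchief : ∀ N : Subgroup G, N.Normal → Q ⊓ Subgroup.center G ≤ N → N ≤ Q →
      N = Q ⊓ Subgroup.center G ∨ N = Q)
    (hnt : ∃ u ∈ Q, x * u * x⁻¹ * u⁻¹ ∉ Subgroup.center G) :
    ∃ a c₀ : ℕ, Nat.card Q = r ^ a * Nat.card ↥(Q ⊓ Subgroup.center G) ∧
      Nat.card {u : G // u ∈ Q ∧ x * u * x⁻¹ * u⁻¹ ∈ Q ⊓ Subgroup.center G} =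
        r ^ c₀ * Nat.card ↥(Q ⊓ Subgroup.center G) ∧ 2 * c₀ < a := by
  have hrf : Fact r.Prime := ⟨hr⟩
  obtain ⟨W, iA, iM, iF, τ, hirr, hQker, hcardW, hkerx⟩ := GT4a1_module Q r hQ1 hcomm hpow hchief
  obtain ⟨σ, hσirr, hσinj, hσ⟩ := QUOT_exists τ
  have hfd : FiniteDimensional (ZMod r) W := Module.Finite.of_finite
  -- `τ x ≠ 1`
  have hτx : τ x ≠ 1 := by
    intro h1
    obtain ⟨u, hu, hunc⟩ := hnt
    have h2 := hkerx x
    have h3 : LinearMap.ker (τ x - 1) = ⊤ := by rw [h1, sub_self]; exact LinearMap.ker_zero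
    have h4 : Nat.card ↥(LinearMap.ker (τ x - 1)) = Nat.card W := by
      rw [h3]; exact Nat.card_congr (Submodule.topEquiv (R := ZMod r) (M := W)).toEquiv
    rw [h4, hcardW] at h2
    -- the subtype has the cardinality of `Q`, so it is all of `Q`
    let ι : {u : G // u ∈ Q ∧ x * u * x⁻¹ * u⁻¹ ∈ Q ⊓ Subgroup.center G} → ↥Q := fun v => ⟨v.1, v.2.1⟩
    have hιinj : Function.Injective ι := by
      intro v w hvw
      apply Subtype.ext
      exact congrArg (fun z : ↥Q => (z : G)) hvw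
    have hbij : Function.Bijective ι := (Nat.bijective_iff_injective_and_card _).2 ⟨hιinj, h2.symm⟩
    obtain ⟨v, hv⟩ := hbij.2 ⟨u, hu⟩
    have hvu : v.1 = u := congrArg (fun z : ↥Q => (z : G)) hv
    apply hunc
    rw [← hvu]
    exact v.2.2.2
  -- the quotient group
  have hlt : Nat.card (G ⧸ MonoidHom.ker τ) < Nat.card G := by
    have h1 : Nat.card G = Nat.card (G ⧸ MonoidHom.ker τ) * Nat.card ↥(MonoidHom.ker τ) :=
      Subgroup.card_eq_card_quotient_mul_card_subgroup _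
    have h2 : 1 < Nat.card ↥(MonoidHom.ker τ) := by
      rw [Finite.one_lt_card_iff_nontrivial]
      by_contra hcon
      rw [not_nontrivial_iff_subsingleton] at hcon
      apply hQ1
      intro q hq
      have hqk : q ∈ MonoidHom.ker τ := hQker hq
      have : (⟨q, hqk⟩ : ↥(MonoidHom.ker τ)) = 1 := Subsingleton.elim _ _
      have hq1 : q = 1 := congrArg Subtype.val this
      rw [hq1]; exact one_mem _
    have h3 : 0 < Nat.card (G ⧸ MonoidHom.ker τ) := Nat.card_pos
    rw [h1]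
    nlinarith
  have hy : ((x : G) : G ⧸ MonoidHom.ker τ) ^ p = 1 := by
    rw [← QuotientGroup.mk_pow, hx]; rfl
  have hgen' : Subgroup.normalClosure ({((x : G) : G ⧸ MonoidHom.ker τ)} : Set (G ⧸ MonoidHom.ker τ)) = ⊤ := by
    have h1 := Subgroup.map_normalClosure ({x} : Set G) (QuotientGroup.mk' (MonoidHom.ker τ))
      (QuotientGroup.mk'_surjective _)
    rw [hgen, Subgroup.map_top_of_surjective _ (QuotientGroup.mk'_surjective _), Set.image_singleton] at h1
    exact h1.symm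
  have hσy : σ ((x : G) : G ⧸ MonoidHom.ker τ) ≠ 1 := by rw [hσ]; exact hτx
  have hbound := IH (G ⧸ MonoidHom.ker τ) hlt ((x : G) : G ⧸ MonoidHom.ker τ) hy hgen' r W σ hσirr hσy
  unfold Bound at hbound
  rw [hσ] at hbound
  refine ⟨finrank (ZMod r) W, finrank (ZMod r) ↥(LinearMap.ker (τ x - 1)), ?_, ?_, hbound⟩
  · rw [← hcardW, Module.natCard_eq_pow_finrank (K := ZMod r) (V := W), Nat.card_zmod]
  · rw [← hkerx x, Module.natCard_eq_pow_finrank (K := ZMod r) (V := ↥(LinearMap.ker (τ x - 1))),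
      Nat.card_zmod]

end Cfsg.Agent.S3818P
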