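import Mathlib
import Cfsg.Agent.Helper28.S5704SDefs

set_option autoImplicit false
set_option linter.unusedSectionVars false
set_option linter.unusedVariables false

namespace Cfsg.Agent.S5704S

open Matrix Cfsg.Agent.Helper28.Sg

variable {F : Type*} [Field F] {n a b m : ℕ}

/-- EXONE (S): a non-zero vector pairs to `1` with some vector (`nondeg`, scale). -/
theorem EX.one {G : Matrix (Fin m) (Fin m) F} (hG : IsSymp G) {x : Fin m → F} (hx : x ≠ 0) :
    ∃ y, bf G x y = 1 := by
  have h : ¬ ∀ y, bf G x y = 0 := fun h => hx (hG.nondeg x h)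
  push Not at h
  obtain ⟨y₀, hy₀⟩ := h
  refine ⟨(bf G x y₀)⁻¹ • y₀, ?_⟩
  rw [bf_smul_right, inv_mul_cancel₀ hy₀]

end Cfsg.Agent.S5704S
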