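import Mathlib
import Cfsg.Prelude.Def_Characters
import Cfsg.Agent.Helper12.WGDefs

set_option autoImplicit false

/-! S2524 piece DUAL: the characters `lamT ψ T` of the symmetric matrices (odd characteristic) are
pairwise distinct and sum to zero at every nonzero matrix. -/

namespace Cfsg.Agent.S2524P

open Matrix Cfsg Cfsg.Agent.S2333P

variable {F : Type*} [Field F] [Fintype F]

/-- the symmetric test matrix `t (E_ij + E_ji)` -/
def dual_E {n : ℕ} (i j : Fin n) (t : F) : ↥(SymM n F) :=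
  ⟨Matrix.single i j t + Matrix.single j i t, by
    rw [mem_SymM, transpose_add, transpose_single, transpose_single, add_comm]⟩

theorem dual_trace_E_mul {n : ℕ} (i j : Fin n) (t : F) (Y : ↥(SymM n F)) :
    Matrix.trace ((dual_E i j t).1 * Y.1) = t * (2 * Y.1 i j) := by
  have hsym : Y.1 j i = Y.1 i j := by
    have h : Y.1ᵀ = Y.1 := Y.2
    conv_rhs => rw [← h]
    rfl
  show Matrix.trace ((Matrix.single i j t + Matrix.single j i t) * Y.1) = _
  rw [Matrix.add_mul, Matrix.trace_add, Matrix.trace_single_mul, Matrix.trace_single_mul,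
    smul_eq_mul, smul_eq_mul, hsym]
  ring

theorem dual_trace_mul_E {n : ℕ} (i j : Fin n) (t : F) (Y : ↥(SymM n F)) :
    Matrix.trace (Y.1 * (dual_E i j t).1) = t * (2 * Y.1 i j) := by
  rw [Matrix.trace_mul_comm, dual_trace_E_mul]

theorem dual_exists_entry {n : ℕ} (Y : ↥(SymM n F)) (hY : Y ≠ 0) : ∃ i j : Fin n, Y.1 i j ≠ 0 := by
  by_contra hcon
  push Not at hcon
  apply hY
  apply Subtype.ext
  ext a b
  exact hcon a b

/-- for `Y ≠ 0` and any `y` there is a symmetric `T₀` with `tr (T₀ Y) = y = tr (Y T₀)` -/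
theorem dual_exists_test (h2 : (2 : F) ≠ 0) {n : ℕ} (Y : ↥(SymM n F)) (hY : Y ≠ 0) (y : F) :
    ∃ T₀ : ↥(SymM n F), Matrix.trace (T₀.1 * Y.1) = y ∧ Matrix.trace (Y.1 * T₀.1) = y := by
  obtain ⟨i, j, hij⟩ := dual_exists_entry Y hY
  refine ⟨dual_E i j (y / (2 * Y.1 i j)), ?_, ?_⟩
  · rw [dual_trace_E_mul]
    field_simp
  · rw [dual_trace_mul_E]
    field_simp

/-- **DUAL** -/
theorem sum_lamT_eq_zero (h2 : (2 : F) ≠ 0) (ψ : AddChar F ℂ) (hψ : ψ ≠ 1) {n : ℕ}
    (Y : ↥(SymM n F)) (hY : Y ≠ 0) :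
    ∑ T : ↥(SymM n F), lamT ψ T (Multiplicative.ofAdd Y) = 0 := by
  classical
  obtain ⟨y, hy⟩ := AddChar.ne_one_iff.1 hψ
  obtain ⟨T₀, hT₀, -⟩ := dual_exists_test h2 Y hY y
  set S := ∑ T : ↥(SymM n F), lamT ψ T (Multiplicative.ofAdd Y) with hS
  have hshift : S = ψ y * S := by
    rw [hS, Finset.mul_sum]
    rw [← Equiv.sum_comp (Equiv.addRight T₀)]
    apply Finset.sum_congr rfl
    intro T _
    rw [lamT_apply, lamT_apply]
    show ψ (Matrix.trace (((T + T₀ : ↥(SymM n F)) : Matrix (Fin n) (Fin n) F) * Y.1)) = _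
    rw [AddSubgroup.coe_add, Matrix.add_mul, Matrix.trace_add, hT₀, AddChar.map_add_eq_mul,
      mul_comm]
  have h1 : (1 - ψ y) * S = 0 := by
    rw [sub_mul, one_mul, ← hshift, sub_self]
  rcases mul_eq_zero.mp h1 with h | h
  · exact absurd (sub_eq_zero.mp h).symm hy
  · exact h

/-- **DUAL** -/
theorem lamT_injective (h2 : (2 : F) ≠ 0) (ψ : AddChar F ℂ) (hψ : ψ ≠ 1) {n : ℕ}
    {T T' : ↥(SymM n F)} (h : lamT ψ T = lamT ψ T') : T = T' := by
  by_contra hne
  have hD : T - T' ≠ 0 := sub_ne_zero.2 hne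
  obtain ⟨y, hy⟩ := AddChar.ne_one_iff.1 hψ
  obtain ⟨Y, -, hY⟩ := dual_exists_test h2 (T - T') hD y
  have h1 := congrArg (fun l : Multiplicative ↥(SymM n F) →* ℂ => l (Multiplicative.ofAdd Y)) h
  simp only [lamT_apply] at h1
  have h3 : Matrix.trace (T.1 * Y.1) = Matrix.trace (T'.1 * Y.1) + y := by
    rw [← hY, AddSubgroup.coe_sub, Matrix.sub_mul, Matrix.trace_sub]
    ring
  rw [h3, AddChar.map_add_eq_mul] at h1
  have h4 : ψ (Matrix.trace (T'.1 * Y.1)) ≠ 0 := by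
    intro h0
    have := AddChar.map_neg_eq_inv ψ (Matrix.trace (T'.1 * Y.1))
    have h5 : ψ (Matrix.trace (T'.1 * Y.1) + -Matrix.trace (T'.1 * Y.1)) = 1 := by
      rw [add_neg_cancel, AddChar.map_zero_eq_one]
    rw [AddChar.map_add_eq_mul, h0, zero_mul] at h5
    exact zero_ne_one h5
  apply hy
  have h6 : ψ (Matrix.trace (T'.1 * Y.1)) * 1 = ψ (Matrix.trace (T'.1 * Y.1)) * ψ y := by
    rw [mul_one]; exact h1.symm ▸ rfl
  exact (mul_left_cancel₀ h4 h6).symm

end Cfsg.Agent.S2524P
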