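import Mathlib
import Cfsg.Prelude.Def_Characters
import Cfsg.Agent.Helper12.WGDefs
import Cfsg.Agent.Helper24.Linear
import Cfsg.Agent.Helper24.Orthogonality
import Cfsg.Agent.Helper18.WGDUAL

set_option autoImplicit false

/-! S2524 piece SPECADD: linearity of `specU`, and the spectrum of `lamT ψ T₀` itself. -/

namespace Cfsg.Agent.S2524P

open Matrix Cfsg Cfsg.Agent.S2333P

variable {F : Type*} [Field F] [Fintype F]

/-- **SPECADD**: additivity -/
theorem specU_add (ψ : AddChar F ℂ) {n : ℕ} {H : Type*} [Group H]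
    (U : Multiplicative ↥(SymM n F) →* H) (f g : H → ℂ) (T : ↥(SymM n F)) :
    specU ψ U (f + g) T = specU ψ U f T + specU ψ U g T := by
  unfold specU classInner
  simp only [Pi.add_apply, add_mul, Finset.sum_add_distrib, mul_add]

/-- **SPECADD** -/
theorem specU_smul (ψ : AddChar F ℂ) {n : ℕ} {H : Type*} [Group H]
    (U : Multiplicative ↥(SymM n F) →* H) (a : ℂ) (f : H → ℂ) (T : ↥(SymM n F)) :
    specU ψ U (a • f) T = a * specU ψ U f T := by
  unfold specU classInner
  simp only [Pi.smul_apply, smul_eq_mul]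
  rw [mul_left_comm]
  congr 1
  rw [Finset.mul_sum]
  apply Finset.sum_congr rfl
  intro Y _
  rw [mul_assoc]

/-- **SPECADD**: the spectrum of `lamT ψ T₀` itself -/
theorem specU_lamT (h2 : (2 : F) ≠ 0) (ψ : AddChar F ℂ) (hψ : ψ ≠ 1) {n : ℕ}
    (T₀ T : ↥(SymM n F)) :
    specU ψ (MonoidHom.id (Multiplicative ↥(SymM n F))) (fun Y => lamT ψ T₀ Y) T =
      open Classical in if T₀ = T then 1 else 0 := by
  classical
  unfold specU
  simp only [MonoidHom.id_apply]
  rw [Cfsg.Agent.Helper24.classInner_of_isIrrCharacter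
    (Cfsg.Agent.Helper24.isIrrCharacter_of_monoidHom (lamT ψ T₀))
    (Cfsg.Agent.Helper24.isIrrCharacter_of_monoidHom (lamT ψ T))]
  by_cases h : T₀ = T
  · rw [if_pos h, if_pos (by rw [h])]
  · rw [if_neg h, if_neg]
    intro e
    apply h
    apply lamT_injective h2 ψ hψ
    ext Y
    exact congrFun e Y

end Cfsg.Agent.S2524P
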