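import Mathlib
import Cfsg.Prelude.Def_Characters
import Cfsg.Agent.Helper12.WGDefs
import Cfsg.Agent.Helper24.Expansion
import Cfsg.Agent.Helper24.Orthogonality
import Cfsg.Agent.Helper24.Rep
import Cfsg.Agent.Helper8.CharComp
import Cfsg.Agent.Helper18.WGSPECADD

set_option autoImplicit false

/-! # S2524 part B: pieces CONSTRANS and SPECSUM (generic character theory). -/

namespace Cfsg.Agent.S2524P

open Matrix Cfsg Cfsg.Agent.S2333P

variable {F : Type*} [Field F] [Fintype F]

/-- **CONSTRANS**: a constituent of the restriction of a constituent is a constituent of the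
restriction -/
theorem constituent_trans {G : Type*} [Group G] [Fintype G] {H : Type*} [Group H] [Fintype H]
    (f : H →* G) (Ξ : G → ℂ) (hΞ : IsCharacter G Ξ) (ζ : G → ℂ) (hζ : IsIrrCharacter G ζ)
    (hn : classInner Ξ ζ ≠ 0) (κ : H → ℂ) (hκ : IsIrrCharacter H κ)
    (hk : classInner (fun h => ζ (f h)) κ ≠ 0) : classInner (fun h => Ξ (f h)) κ ≠ 0 := by
  classical
  haveI : Fintype (IrrCharacter G) := Fintype.ofFinite _
  haveI : Fintype (IrrCharacter H) := Fintype.ofFinite _
  -- the natural coefficients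
  have hnat : ∀ ψ : IrrCharacter G, ∃ n : ℕ, classInner Ξ (ψ : G → ℂ) = n :=
    fun ψ => Cfsg.Agent.Helper24.IsCharacter.classInner_irr_nat hΞ ψ
  choose n hn' using hnat
  have hnat2 : ∀ ψ : IrrCharacter G, ∃ k : ℕ,
      classInner (fun h => (ψ : G → ℂ) (f h)) κ = k :=
    fun ψ => Cfsg.Agent.Helper24.IsCharacter.classInner_irr_nat
      (Cfsg.Agent.Helper8.isCharacter_comp f (Cfsg.Agent.Helper24.IsIrrCharacter.isCharacter ψ.2))
      ⟨κ, hκ⟩
  choose k hk' using hnat2
  have hexp := Cfsg.Agent.Helper24.IsCharacter.eq_sum_classInner hΞ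
  have h1 : (fun h => Ξ (f h)) =
      ∑ ψ : IrrCharacter G, classInner Ξ (ψ : G → ℂ) • (fun h => (ψ : G → ℂ) (f h)) := by
    funext h
    conv_lhs => rw [hexp]
    simp only [Finset.sum_apply, Pi.smul_apply]
  rw [h1, Cfsg.Agent.Helper24.classInner_sum_left]
  simp only [Cfsg.Agent.Helper24.classInner_smul_left, hn', hk']
  have h2 : (∑ ψ : IrrCharacter G, ((n ψ : ℂ) * (k ψ : ℂ))) =
      ((∑ ψ : IrrCharacter G, n ψ * k ψ : ℕ) : ℂ) := by
    push_cast
    rfl
  rw [h2]
  have hζ1 : n ⟨ζ, hζ⟩ ≠ 0 := by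
    intro h0
    apply hn
    have := hn' ⟨ζ, hζ⟩
    rw [h0] at this
    simpa using this
  have hζ2 : k ⟨ζ, hζ⟩ ≠ 0 := by
    intro h0
    apply hk
    have := hk' ⟨ζ, hζ⟩
    rw [h0] at this
    simpa using this
  have hpos : 0 < ∑ ψ : IrrCharacter G, n ψ * k ψ := by
    apply lt_of_lt_of_le (Nat.mul_pos (Nat.pos_of_ne_zero hζ1) (Nat.pos_of_ne_zero hζ2))
    exact Finset.single_le_sum (f := fun ψ => n ψ * k ψ) (fun _ _ => Nat.zero_le _)
      (Finset.mem_univ (⟨ζ, hζ⟩ : IrrCharacter G))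
  exact_mod_cast hpos.ne'

/-- `specU` of a finite sum -/
theorem specsum_sum (ψ : AddChar F ℂ) {n : ℕ} {H : Type*} [Group H]
    (U : Multiplicative ↥(SymM n F) →* H) {ι : Type*} (s : Finset ι) (g : ι → H → ℂ)
    (T : ↥(SymM n F)) :
    specU ψ U (∑ i ∈ s, g i) T = ∑ i ∈ s, specU ψ U (g i) T := by
  classical
  induction s using Finset.induction_on with
  | empty =>
    simp only [Finset.sum_empty]
    unfold specU classInner
    simp
  | insert a s ha ih => rw [Finset.sum_insert ha, Finset.sum_insert ha, specU_add, ih]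

/-- **SPECSUM**: the spectrum of a character is the sum of the spectra of its constituents -/
theorem specU_sum_irr (ψ : AddChar F ℂ) {n : ℕ} {H : Type*} [Group H] [Fintype H]
    [Fintype (IrrCharacter H)] (U : Multiplicative ↥(SymM n F) →* H) (Ξ : H → ℂ)
    (hΞ : IsCharacter H Ξ) (T : ↥(SymM n F)) :
    specU ψ U Ξ T = ∑ ζ : IrrCharacter H, classInner Ξ (ζ : H → ℂ) * specU ψ U (ζ : H → ℂ) T := by
  have hexp := Cfsg.Agent.Helper24.IsCharacter.eq_sum_classInner hΞ
  conv_lhs => rw [hexp]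
  rw [specsum_sum]
  apply Finset.sum_congr rfl
  intro ζ _
  rw [specU_smul]

end Cfsg.Agent.S2524P
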