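import Mathlib
import Cfsg.Prelude.Def_Characters
import Cfsg.Agent.Helper12.LSUDefs
import Cfsg.Agent.Helper12.LSUEMB
import Cfsg.Agent.Helper12.LSpWDefs
import Cfsg.Agent.Helper12.LSpWPDefs

set_option autoImplicit false

/-! S2347 piece SSWAP: the swap matrix moves `dblock c 0` to `emb (dblock c 0)`. -/

namespace Cfsg.Agent.Helper12.LSp

open Matrix Cfsg Cfsg.Agent.Helper2.Sp Cfsg.Agent.Helper12.LSU Cfsg.Agent.Helper25

variable {n : ℕ} {F : Type*} [Field F]

theorem sswap_conj {k : ℕ} (σ : Equiv.Perm (Fin k)) (M : Matrix (Fin k) (Fin k) F) (i j : Fin k) :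
    (σ.permMatrix F * M * (σ.permMatrix F)ᵀ) i j = M (σ i) (σ j) := by
  rw [Matrix.transpose_permMatrix, Equiv.Perm.permMatrix, Equiv.Perm.permMatrix,
    PEquiv.toMatrix_toPEquiv_mul, PEquiv.mul_toMatrix_toPEquiv]
  simp only [Matrix.submatrix_apply, id]
  rfl

theorem sswap_exists {m : ℕ} (c : F) :
    ∃ A : Matrix (Fin (m + 1 + 1)) (Fin (m + 1 + 1)) F, A.det ≠ 0 ∧
      A * dblock c (0 : Matrix (Fin (m + 1)) (Fin (m + 1)) F) * Aᵀ =
        emb (dblock c (0 : Matrix (Fin m) (Fin m) F)) := by
  refine ⟨(Equiv.swap (0 : Fin (m + 1 + 1)) 1).permMatrix F, ?_, ?_⟩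
  · rw [Matrix.det_permutation, Equiv.Perm.sign_swap (by exact Fin.zero_ne_one)]
    simp
  · ext i j
    rw [sswap_conj]
    unfold LSU.emb
    refine Fin.cases ?_ (fun i' => ?_) i
    · -- i = 0
      rw [Equiv.swap_apply_left]
      refine Fin.cases ?_ (fun j' => ?_) j
      · rw [Equiv.swap_apply_left]
        rfl
      · refine Fin.cases ?_ (fun j'' => ?_) j'
        · have : (Fin.succ (0 : Fin (m + 1)) : Fin (m + 1 + 1)) = 1 := rfl
          rw [this, Equiv.swap_apply_right]
          rfl
        · rw [Equiv.swap_apply_of_ne_of_ne (Fin.succ_ne_zero _)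
            (by intro h; exact Fin.succ_ne_zero j'' (Fin.succ_injective _ h))]
          rfl
    · refine Fin.cases ?_ (fun i'' => ?_) i'
      · have : (Fin.succ (0 : Fin (m + 1)) : Fin (m + 1 + 1)) = 1 := rfl
        rw [this, Equiv.swap_apply_right]
        refine Fin.cases ?_ (fun j' => ?_) j
        · rw [Equiv.swap_apply_left]
          rfl
        · refine Fin.cases ?_ (fun j'' => ?_) j'
          · have : (Fin.succ (0 : Fin (m + 1)) : Fin (m + 1 + 1)) = 1 := rfl
            rw [this, Equiv.swap_apply_right]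
            rfl
          · rw [Equiv.swap_apply_of_ne_of_ne (Fin.succ_ne_zero _)
              (by intro h; exact Fin.succ_ne_zero j'' (Fin.succ_injective _ h))]
            rfl
      · rw [Equiv.swap_apply_of_ne_of_ne (Fin.succ_ne_zero _)
          (by intro h; exact Fin.succ_ne_zero i'' (Fin.succ_injective _ h))]
        refine Fin.cases ?_ (fun j' => ?_) j
        · rw [Equiv.swap_apply_left]
          rfl
        · refine Fin.cases ?_ (fun j'' => ?_) j'
          · have : (Fin.succ (0 : Fin (m + 1)) : Fin (m + 1 + 1)) = 1 := rfl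
            rw [this, Equiv.swap_apply_right]
            rfl
          · rw [Equiv.swap_apply_of_ne_of_ne (Fin.succ_ne_zero _)
              (by intro h; exact Fin.succ_ne_zero j'' (Fin.succ_injective _ h))]
            rfl

end Cfsg.Agent.Helper12.LSp
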