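import Mathlib
import Cfsg.Prelude.Def_Characters
import Cfsg.Agent.Helper12.LSUDefs
import Cfsg.Agent.Helper12.LSpWDefs
import Cfsg.Agent.Helper12.LSpWPDefs

set_option autoImplicit false

/-! S2347 piece WCONJ: explicit conjugation formula in `Heis ⋊ Sp`. -/

namespace Cfsg.Agent.Helper12.LSp

open Matrix Cfsg Cfsg.Agent.Helper2.Sp Cfsg.Agent.Helper12.LSU Cfsg.Agent.Helper25

variable {n : ℕ} {F : Type*} [Field F]

theorem conj_inr (g : symplecticGroup (Fin n) F) (x : Fin n ⊕ Fin n → F) :
    (SemidirectProduct.inl (⟨x, 0⟩ : Heis n F) : Gam n F) * SemidirectProduct.inr g *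
        (SemidirectProduct.inl (⟨x, 0⟩ : Heis n F))⁻¹ =
      SemidirectProduct.inl (⟨x - (g : Matrix (Fin n ⊕ Fin n) (Fin n ⊕ Fin n) F) *ᵥ x,
        - om x ((g : Matrix (Fin n ⊕ Fin n) (Fin n ⊕ Fin n) F) *ᵥ x)⟩ : Heis n F) *
        SemidirectProduct.inr g := by
  rw [← map_inv]
  apply SemidirectProduct.ext
  · simp only [SemidirectProduct.mul_left, SemidirectProduct.left_inl, SemidirectProduct.right_inl,
      SemidirectProduct.left_inr, SemidirectProduct.right_inr, map_one, mul_one,
      one_mul, heisPhi_apply, SemidirectProduct.mul_right]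
    apply Heis.ext
    · simp only [Heis.mul_v, heisAct_v, Heis.inv_v, mulVec_neg, sub_eq_add_neg]
    · simp only [Heis.mul_s, heisAct_s, heisAct_v, Heis.inv_s, Heis.inv_v, mulVec_neg,
        om_neg_right', neg_zero, add_zero, zero_add]
  · simp only [SemidirectProduct.mul_right, SemidirectProduct.right_inl, SemidirectProduct.right_inr,
      one_mul, mul_one]

end Cfsg.Agent.Helper12.LSp
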