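import Mathlib
import Cfsg.Prelude.Def_Characters
import Cfsg.Agent.Helper12.WGDefs
import Cfsg.Agent.Helper12.LSUREPa
import Cfsg.Agent.Helper4.S2333EXPAND
import Cfsg.Agent.Helper8.Inner
import Cfsg.Agent.Helper18.WGDUAL

set_option autoImplicit false

/-! S2524 pieces SPECNAT, EXPAND: the multiplicities `specU` are natural numbers adding up to the
degree; Fourier inversion. -/

namespace Cfsg.Agent.S2524P

open Matrix Cfsg Cfsg.Agent.S2333P

variable {F : Type*} [Field F] [Fintype F]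

theorem specnat_orth (h2 : (2 : F) ≠ 0) (ψ : AddChar F ℂ) (hψ : ψ ≠ 1) {n : ℕ}
    (a : Multiplicative ↥(SymM n F)) (ha : a ≠ 1) : ∑ T : ↥(SymM n F), lamT ψ T a = 0 := by
  have hY : Multiplicative.toAdd a ≠ 0 := by
    intro h
    apply ha
    exact Multiplicative.toAdd.injective h
  exact sum_lamT_eq_zero h2 ψ hψ (Multiplicative.toAdd a) hY

theorem specnat_card {n : ℕ} :
    Fintype.card ↥(SymM n F) = Fintype.card (Multiplicative ↥(SymM n F)) :=
  Fintype.card_congr Multiplicative.ofAdd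

/-- **SPECNAT**: the multiplicities are natural numbers adding up to the degree -/
theorem specU_nat (h2 : (2 : F) ≠ 0) (ψ : AddChar F ℂ) (hψ : ψ ≠ 1) {n : ℕ}
    {H : Type*} [Group H] [Fintype H] (U : Multiplicative ↥(SymM n F) →* H) (f : H → ℂ)
    (hf : IsCharacter H f) :
    ∃ k : ↥(SymM n F) → ℕ, (∀ T, specU ψ U f T = (k T : ℂ)) ∧ f 1 = ((∑ T, k T : ℕ) : ℂ) := by
  obtain ⟨d, hd⟩ := Cfsg.Agent.Helper8.char_degree_nat hf
  obtain ⟨k, hk1, hk2⟩ := Cfsg.Agent.Helper12.LSU.rep_count U f hf d hd (lamT ψ)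
    (specnat_orth h2 ψ hψ) specnat_card
  refine ⟨k, fun T => hk1 T, ?_⟩
  rw [hd, hk2]

/-- **EXPAND**: Fourier inversion -/
theorem specU_expand (h2 : (2 : F) ≠ 0) (ψ : AddChar F ℂ) (hψ : ψ ≠ 1) {n : ℕ}
    {H : Type*} [Group H] (U : Multiplicative ↥(SymM n F) →* H) (f : H → ℂ)
    (Y : Multiplicative ↥(SymM n F)) :
    f (U Y) = ∑ T : ↥(SymM n F), specU ψ U f T * lamT ψ T Y :=
  Cfsg.Agent.S2333P.rep_expand U f (lamT ψ) (specnat_orth h2 ψ hψ) specnat_card Y

end Cfsg.Agent.S2524P
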