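import Mathlib
import Cfsg.Prelude.Def_Characters
import Cfsg.Agent.Helper12.LSLDefs

set_option autoImplicit false

/-! S2332, piece PROJA: the isotypic projections `projOp`. -/

namespace Cfsg.Agent.Helper12.LSL

open Matrix Cfsg

variable {F : Type*} [Field F] {m : ℕ}

section generic

variable {G : Type*} [Group G] {V : Type*} [AddCommGroup V] [Module ℂ V]
  {A : Type*} [Group A] [Fintype A]

theorem proja_pow_card (l : A →* ℂ) (a : A) : l a ^ Fintype.card A = 1 := by
  rw [← map_pow, pow_card_eq_one, map_one]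

theorem proja_ne_zero (l : A →* ℂ) (a : A) : l a ≠ 0 := by
  intro h
  have := proja_pow_card l a
  rw [h, zero_pow Fintype.card_ne_zero] at this
  exact zero_ne_one this

theorem proja_norm (l : A →* ℂ) (a : A) : ‖l a‖ = 1 := by
  have h := proja_pow_card l a
  have h1 : ‖l a‖ ^ Fintype.card A = 1 := by rw [← norm_pow, h, norm_one]
  exact (pow_eq_one_iff_of_nonneg (norm_nonneg _) Fintype.card_ne_zero).mp h1

theorem proja_conj_mul (l : A →* ℂ) (a : A) : starRingEnd ℂ (l a) * l a = 1 := by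
  rw [mul_comm, Complex.mul_conj, Complex.normSq_eq_norm_sq, proja_norm]
  norm_num

theorem proja_conj (l : A →* ℂ) (a : A) : starRingEnd ℂ (l a) = l a⁻¹ := by
  have h1 := proja_conj_mul l a
  have h2 : l a⁻¹ * l a = 1 := by rw [← map_mul, inv_mul_cancel, map_one]
  exact mul_right_cancel₀ (proja_ne_zero l a) (h1.trans h2.symm)

theorem proja_card_ne_zero : (Fintype.card A : ℂ) ≠ 0 :=
  Nat.cast_ne_zero.mpr Fintype.card_ne_zero

theorem proja_apply (ρ : Representation ℂ G V) (U : A →* G) (l : A →* ℂ) (v : V) :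
    projOp ρ U l v = (Fintype.card A : ℂ)⁻¹ • ∑ a : A, (starRingEnd ℂ (l a)) • ρ (U a) v := by
  unfold projOp
  rw [LinearMap.smul_apply, LinearMap.sum_apply]
  rfl

theorem rho_comp_projOp (ρ : Representation ℂ G V) (U : A →* G) (l : A →* ℂ) (a : A) :
    ρ (U a) ∘ₗ projOp ρ U l = l a • projOp ρ U l := by
  ext v
  rw [LinearMap.comp_apply, LinearMap.smul_apply, proja_apply, map_smul,
    smul_comm (l a) (Fintype.card A : ℂ)⁻¹]
  congr 1
  rw [map_sum, Finset.smul_sum,
    ← Equiv.sum_comp (Equiv.mulLeft a) (fun b => l a • (starRingEnd ℂ) (l b) • (ρ (U b)) v)]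
  refine Finset.sum_congr rfl fun b _ => ?_
  rw [Equiv.coe_mulLeft, map_smul, smul_smul]
  have e1 : ρ (U (a * b)) v = ρ (U a) (ρ (U b) v) := by
    rw [← Module.End.mul_apply, ← map_mul, ← map_mul]
  have e2 : l a * starRingEnd ℂ (l (a * b)) = starRingEnd ℂ (l b) := by
    rw [map_mul, map_mul, ← mul_assoc, mul_comm (l a), proja_conj_mul, one_mul]
  rw [e1, e2]

theorem projOp_apply_of_eigen (ρ : Representation ℂ G V) (U : A →* G) (l : A →* ℂ) (w : V)
    (hw : ∀ a, ρ (U a) w = l a • w) : projOp ρ U l w = w := by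
  rw [proja_apply]
  have : ∀ a : A, (starRingEnd ℂ (l a)) • ρ (U a) w = w := by
    intro a
    rw [hw, smul_smul, proja_conj_mul, one_smul]
  rw [Finset.sum_congr rfl fun a _ => this a, Finset.sum_const, Finset.card_univ,
    ← Nat.cast_smul_eq_nsmul ℂ, smul_smul, inv_mul_cancel₀ proja_card_ne_zero, one_smul]

theorem projOp_comp_self (ρ : Representation ℂ G V) (U : A →* G) (l : A →* ℂ) :
    projOp ρ U l ∘ₗ projOp ρ U l = projOp ρ U l := by
  ext v
  rw [LinearMap.comp_apply]
  apply projOp_apply_of_eigen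
  intro a
  have := rho_comp_projOp ρ U l a
  have h2 := LinearMap.congr_fun this v
  rw [LinearMap.comp_apply, LinearMap.smul_apply] at h2
  exact h2

theorem rho_conj_projOp (ρ : Representation ℂ G V) (U : A →* G) (l l' : A →* ℂ) (g : G)
    (e : A ≃ A) (he : ∀ a, U (e a) = g * U a * g⁻¹) (hl : ∀ a, l' (e a) = l a) :
    ρ g ∘ₗ projOp ρ U l = projOp ρ U l' ∘ₗ ρ g := by
  ext v
  rw [LinearMap.comp_apply, LinearMap.comp_apply, proja_apply, proja_apply, map_smul, map_sum]
  congr 1
  rw [← Equiv.sum_comp e (fun b => (starRingEnd ℂ) (l' b) • (ρ (U b)) ((ρ g) v))]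
  refine Finset.sum_congr rfl fun a _ => ?_
  rw [map_smul, hl, he, map_mul, map_mul, Module.End.mul_apply, Module.End.mul_apply,
    ← Module.End.mul_apply (ρ g⁻¹), ← map_mul, inv_mul_cancel, map_one, Module.End.one_apply]

end generic

end Cfsg.Agent.Helper12.LSL
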