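import Mathlib
import Cfsg.Prelude.Def_Characters
import Cfsg.Agent.Helper12.LSLDefs
import Cfsg.Agent.Helper18.LSLPROJA

set_option autoImplicit false

/-! S2332, piece PROJB: orthogonality and completeness of the isotypic projections. -/

namespace Cfsg.Agent.Helper12.LSL

open Matrix Cfsg

variable {F : Type*} [Field F] {m : ℕ}

section generic

variable {G : Type*} [Group G] {V : Type*} [AddCommGroup V] [Module ℂ V]
  {A : Type*} [Group A] [Fintype A]

/-- orthogonality of two distinct linear characters -/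
theorem projb_orth (l l' : A →* ℂ) (h : l ≠ l') :
    ∑ a : A, starRingEnd ℂ (l a) * l' a = 0 := by
  obtain ⟨a₀, ha₀⟩ : ∃ a₀, l a₀ ≠ l' a₀ := by
    by_contra hcon
    push Not at hcon
    exact h (MonoidHom.ext hcon)
  set S := ∑ a : A, starRingEnd ℂ (l a) * l' a with hS
  have h1 : S = (starRingEnd ℂ (l a₀) * l' a₀) * S := by
    rw [hS, Finset.mul_sum,
      ← Equiv.sum_comp (Equiv.mulLeft a₀) (fun a => starRingEnd ℂ (l a) * l' a)]
    refine Finset.sum_congr rfl fun b _ => ?_
    rw [Equiv.coe_mulLeft, map_mul, map_mul, map_mul]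
    ring
  have h2 : starRingEnd ℂ (l a₀) * l' a₀ ≠ 1 := by
    intro h3
    apply ha₀
    have h4 := proja_conj_mul l a₀
    have h5 : starRingEnd ℂ (l a₀) ≠ 0 := by
      intro h6
      rw [h6, zero_mul] at h4
      exact zero_ne_one h4
    exact mul_left_cancel₀ h5 (h4.trans h3.symm)
  have h3 : (1 - starRingEnd ℂ (l a₀) * l' a₀) * S = 0 := by
    rw [sub_mul, one_mul, ← h1, sub_self]
  rcases mul_eq_zero.mp h3 with h4 | h4
  · exact absurd (sub_eq_zero.mp h4).symm h2
  · exact h4

theorem projOp_comp_of_ne (ρ : Representation ℂ G V) (U : A →* G) (l l' : A →* ℂ) (h : l ≠ l') :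
    projOp ρ U l ∘ₗ projOp ρ U l' = 0 := by
  ext v
  rw [LinearMap.comp_apply, proja_apply, LinearMap.zero_apply]
  have e : ∀ a : A, (starRingEnd ℂ (l a)) • ρ (U a) (projOp ρ U l' v) =
      (starRingEnd ℂ (l a) * l' a) • projOp ρ U l' v := by
    intro a
    have h2 := LinearMap.congr_fun (rho_comp_projOp ρ U l' a) v
    rw [LinearMap.comp_apply, LinearMap.smul_apply] at h2
    rw [h2, smul_smul]
  rw [Finset.sum_congr rfl fun a _ => e a, ← Finset.sum_smul, projb_orth l l' h, zero_smul,
    smul_zero]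

theorem sum_projOp {ι : Type*} [Fintype ι] (ρ : Representation ℂ G V) (U : A →* G)
    (lam : ι → A →* ℂ) (horth : ∀ a : A, a ≠ 1 → ∑ i, lam i a = 0)
    (hcard : Fintype.card ι = Fintype.card A) :
    ∑ i, projOp ρ U (lam i) = LinearMap.id := by
  classical
  ext v
  rw [LinearMap.sum_apply, LinearMap.id_apply]
  simp only [proja_apply]
  rw [← Finset.smul_sum, Finset.sum_comm]
  have e : ∀ a : A, ∑ i, (starRingEnd ℂ (lam i a)) • ρ (U a) v =
      if a = 1 then (Fintype.card A : ℂ) • v else 0 := by
    intro a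
    rw [← Finset.sum_smul, ← map_sum]
    split_ifs with ha
    · subst ha
      simp only [map_one, Finset.sum_const, Finset.card_univ, hcard, nsmul_eq_mul, mul_one,
        map_natCast, Module.End.one_apply]
    · rw [horth a ha, map_zero, zero_smul]
  rw [Finset.sum_congr rfl fun a _ => e a, Finset.sum_ite_eq' Finset.univ (1 : A),
    if_pos (Finset.mem_univ _), smul_smul, inv_mul_cancel₀ proja_card_ne_zero, one_smul]

end generic

end Cfsg.Agent.Helper12.LSL
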