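import Mathlib
import Cfsg.Prelude.Def_CaseTheorems
import Cfsg.Agent.Helper7.Basic

/-!
Sylow 2-subgroups of `GL(2,q)`: generic transport lemmas (for S1217).
-/

set_option autoImplicit false

namespace Cfsg.Agent.Helper18.GL2Sylow

section transport

variable {G : Type*} [Group G] [Finite G]

theorem orderOf_conj'' (g x : G) : orderOf (g * x * g⁻¹) = orderOf x := by
  have := MulEquiv.orderOf_eq (MulAut.conj g) x
  rwa [MulAut.conj_apply] at this

theorem isPGroup_zpowers (x : G) (k : ℕ) (hx : orderOf x = 2 ^ k) :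
    IsPGroup 2 (Subgroup.zpowers x) :=
  IsPGroup.of_card (n := k) (by rw [Nat.card_zpowers, hx])

/-- quasi-dihedral generators inside `G` give a quasi-dihedral Sylow 2-subgroup -/
theorem isQuasiDihedral_of_elements (P : Sylow 2 G) (N : ℕ) (hN : 3 ≤ N)
    (hcard : Nat.card P = 2 ^ (N + 1)) (X Y : G) (hX : orderOf X = 2 ^ N) (hY : orderOf Y = 2)
    (hrel : Y * X * Y⁻¹ = X ^ (2 ^ (N - 1) - 1)) :
    Cfsg.IsQuasiDihedral (P : Subgroup G) := by
  have hp : Fact (Nat.Prime 2) := ⟨Nat.prime_two⟩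
  have hQ : IsPGroup 2 (Subgroup.zpowers Y ⊔ Subgroup.zpowers X : Subgroup G) := by
    apply IsPGroup.to_sup_of_normal_right' (isPGroup_zpowers Y 1 (by rw [hY, pow_one]))
      (isPGroup_zpowers X N hX)
    rw [Subgroup.zpowers_le]
    rw [Subgroup.mem_normalizer_iff]
    have key : ∀ h, h ∈ Subgroup.zpowers X → Y * h * Y⁻¹ ∈ Subgroup.zpowers X := by
      rintro h ⟨i, rfl⟩
      have : Y * X ^ i * Y⁻¹ = (Y * X * Y⁻¹) ^ i := (conj_zpow (a := Y) (b := X) (i := i)).symm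
      rw [this, hrel]
      exact Subgroup.zpow_mem _ (Subgroup.pow_mem _ (Subgroup.mem_zpowers X) _) _
    have hYY : Y * Y = 1 := by
      have := pow_orderOf_eq_one Y
      rwa [hY, pow_two] at this
    have hYi : Y⁻¹ = Y := inv_eq_of_mul_eq_one_left hYY
    intro h
    constructor
    · exact key h
    · intro hh
      have := key _ hh
      rw [hYi] at this
      have e : Y * (Y * h * Y) * Y = h := by
        calc Y * (Y * h * Y) * Y = (Y * Y) * h * (Y * Y) := by group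
          _ = h := by rw [hYY, one_mul, mul_one]
      rw [hYi] at hh
      rw [← e]; exact this
  obtain ⟨g, _, hg⟩ := Cfsg.Agent.Helper7.exists_conj_mem_sylow_of_le P
    (H := ⊤) (Y := Subgroup.zpowers Y ⊔ Subgroup.zpowers X) le_top le_top hQ
  have hXm : g * X * g⁻¹ ∈ (P : Subgroup G) :=
    hg X ((le_sup_right : Subgroup.zpowers X ≤ _) (Subgroup.mem_zpowers X))
  have hYm : g * Y * g⁻¹ ∈ (P : Subgroup G) :=
    hg Y ((le_sup_left : Subgroup.zpowers Y ≤ _) (Subgroup.mem_zpowers Y))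
  refine ⟨N, hN, hcard, ⟨g * X * g⁻¹, hXm⟩, ⟨g * Y * g⁻¹, hYm⟩, ?_, ?_, ?_⟩
  · rw [Subgroup.orderOf_mk, orderOf_conj'', hX]
  · rw [Subgroup.orderOf_mk, orderOf_conj'', hY]
  · apply Subtype.ext
    simp only [Subgroup.coe_mul, Subgroup.coe_inv, Subgroup.coe_pow]
    have : g * Y * g⁻¹ * (g * X * g⁻¹) * (g * Y * g⁻¹)⁻¹ = g * (Y * X * Y⁻¹) * g⁻¹ := by group
    rw [this, hrel, conj_pow]

/-- wreathed generators inside `G` give a wreathed Sylow 2-subgroup -/
theorem isWreathed_of_elements (P : Sylow 2 G) (n : ℕ) (hn : 2 ≤ n)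
    (hcard : Nat.card P = 2 ^ (2 * n + 1)) (X Y Z : G) (hX : orderOf X = 2 ^ n)
    (hXY : X * Y = Y * X) (hdisj : Subgroup.zpowers X ⊓ Subgroup.zpowers Y = ⊥)
    (hZ : orderOf Z = 2) (hrel : Z * X * Z⁻¹ = Y) :
    Cfsg.IsWreathed (P : Subgroup G) := by
  have hp : Fact (Nat.Prime 2) := ⟨Nat.prime_two⟩
  have hZZ : Z * Z = 1 := by
    have := pow_orderOf_eq_one Z
    rwa [hZ, pow_two] at this
  have hZi : Z⁻¹ = Z := inv_eq_of_mul_eq_one_left hZZ
  have hrel' : Z * Y * Z⁻¹ = X := by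
    rw [← hrel, hZi]
    calc Z * (Z * X * Z) * Z = (Z * Z) * X * (Z * Z) := by group
      _ = X := by rw [hZZ, one_mul, mul_one]
  have hY : orderOf Y = 2 ^ n := by rw [← hrel, orderOf_conj'', hX]
  have hXYp : IsPGroup 2 (Subgroup.zpowers X ⊔ Subgroup.zpowers Y : Subgroup G) := by
    apply IsPGroup.to_sup_of_normal_right' (isPGroup_zpowers X n hX) (isPGroup_zpowers Y n hY)
    rw [Subgroup.zpowers_le]
    apply Subgroup.centralizer_le_normalizer
    rw [Subgroup.mem_centralizer_iff]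
    rintro h ⟨i, rfl⟩
    have hc : Commute Y X := hXY.symm
    exact (hc.zpow_left i).eq
  have hZn : Z ∈ Subgroup.normalizer
      ((Subgroup.zpowers X ⊔ Subgroup.zpowers Y : Subgroup G) : Set G) := by
    rw [Cfsg.Agent.Helper7.mem_normalizer_iff_map_conj_eq', Subgroup.map_sup,
      MonoidHom.map_zpowers, MonoidHom.map_zpowers]
    have e1 : (MulAut.conj Z).toMonoidHom X = Y := by
      rw [MulEquiv.coe_toMonoidHom, MulAut.conj_apply]; exact hrel
    have e2 : (MulAut.conj Z).toMonoidHom Y = X := by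
      rw [MulEquiv.coe_toMonoidHom, MulAut.conj_apply]; exact hrel'
    rw [e1, e2, sup_comm]
  have hQ : IsPGroup 2 (Subgroup.zpowers Z ⊔ (Subgroup.zpowers X ⊔ Subgroup.zpowers Y) :
      Subgroup G) := by
    apply IsPGroup.to_sup_of_normal_right' (isPGroup_zpowers Z 1 (by rw [hZ, pow_one])) hXYp
    rw [Subgroup.zpowers_le]
    exact hZn
  obtain ⟨g, _, hg⟩ := Cfsg.Agent.Helper7.exists_conj_mem_sylow_of_le P
    (H := ⊤) (Y := Subgroup.zpowers Z ⊔ (Subgroup.zpowers X ⊔ Subgroup.zpowers Y))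
    le_top le_top hQ
  have hXm : g * X * g⁻¹ ∈ (P : Subgroup G) :=
    hg X ((le_sup_right : _ ≤ Subgroup.zpowers Z ⊔ (Subgroup.zpowers X ⊔ Subgroup.zpowers Y))
      ((le_sup_left : Subgroup.zpowers X ≤ _) (Subgroup.mem_zpowers X)))
  have hYm : g * Y * g⁻¹ ∈ (P : Subgroup G) :=
    hg Y ((le_sup_right : _ ≤ Subgroup.zpowers Z ⊔ (Subgroup.zpowers X ⊔ Subgroup.zpowers Y))
      ((le_sup_right : Subgroup.zpowers Y ≤ _) (Subgroup.mem_zpowers Y)))
  have hZm : g * Z * g⁻¹ ∈ (P : Subgroup G) :=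
    hg Z ((le_sup_left : Subgroup.zpowers Z ≤ _) (Subgroup.mem_zpowers Z))
  refine ⟨n, hn, hcard, ⟨g * X * g⁻¹, hXm⟩, ⟨g * Y * g⁻¹, hYm⟩, ⟨g * Z * g⁻¹, hZm⟩,
    ?_, ?_, ?_, ?_, ?_⟩
  · rw [Subgroup.orderOf_mk, orderOf_conj'', hX]
  · apply Subtype.ext
    simp only [Subgroup.coe_mul]
    calc g * X * g⁻¹ * (g * Y * g⁻¹) = g * (X * Y) * g⁻¹ := by group
      _ = g * (Y * X) * g⁻¹ := by rw [hXY]
      _ = g * Y * g⁻¹ * (g * X * g⁻¹) := by group
  · rw [eq_bot_iff]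
    rintro w ⟨⟨i, hi⟩, ⟨j, hj⟩⟩
    rw [Subgroup.mem_bot]
    have hi' : (g * X * g⁻¹) ^ i = (w : G) := by
      have := congrArg Subtype.val hi
      simpa using this
    have hj' : (g * Y * g⁻¹) ^ j = (w : G) := by
      have := congrArg Subtype.val hj
      simpa using this
    rw [conj_zpow] at hi' hj'
    have h1 : X ^ i = Y ^ j := by
      have : g * X ^ i * g⁻¹ = g * Y ^ j * g⁻¹ := hi'.trans hj'.symm
      exact mul_left_cancel (mul_right_cancel this)
    have h2 : X ^ i ∈ Subgroup.zpowers X ⊓ Subgroup.zpowers Y :=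
      ⟨⟨i, rfl⟩, ⟨j, h1.symm⟩⟩
    rw [hdisj, Subgroup.mem_bot] at h2
    apply Subtype.ext
    rw [← hi', h2]
    simp
  · rw [Subgroup.orderOf_mk, orderOf_conj'', hZ]
  · apply Subtype.ext
    simp only [Subgroup.coe_mul, Subgroup.coe_inv]
    calc g * Z * g⁻¹ * (g * X * g⁻¹) * (g * Z * g⁻¹)⁻¹ = g * (Z * X * Z⁻¹) * g⁻¹ := by group
      _ = g * Y * g⁻¹ := by rw [hrel]

end transport

end Cfsg.Agent.Helper18.GL2Sylow
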