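import Mathlib
import Cfsg.Agent.Helper18.GL2Sylow

/-!
Sylow 2-subgroups of `GL(2,q)`: the order of a Sylow 2-subgroup.
-/

set_option autoImplicit false

namespace Cfsg.Agent.Helper18.GL2Sylow

theorem factorization_two_of_mod_four {m : ℕ} (h : m % 4 = 2) : m.factorization 2 = 1 := by
  obtain ⟨j, hj⟩ : ∃ j, m = 2 * (2 * j + 1) := ⟨m / 4, by omega⟩
  rw [hj, Nat.factorization_mul (by norm_num) (by omega)]
  simp only [Finsupp.coe_add, Pi.add_apply]
  rw [Nat.Prime.factorization_self Nat.prime_two,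
    Nat.factorization_eq_zero_of_not_dvd (by omega)]

theorem factorization_two_of_odd {m : ℕ} (h : m % 2 = 1) : m.factorization 2 = 0 :=
  Nat.factorization_eq_zero_of_not_dvd (by omega)

theorem card_gl2_factorization (q : ℕ) (hq : 3 ≤ q) (hodd : q % 2 = 1) :
    ((q ^ 2 - 1) * (q ^ 2 - q)).factorization 2 =
      2 * (q - 1).factorization 2 + (q + 1).factorization 2 := by
  have e1 : q ^ 2 - 1 = (q - 1) * (q + 1) := by
    obtain ⟨r, rfl⟩ : ∃ r, q = r + 1 := ⟨q - 1, by omega⟩
    have : (r + 1) ^ 2 = (r + 1 - 1) * (r + 1 + 1) + 1 := by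
      simp only [Nat.add_sub_cancel]; ring
    rw [this]; simp
  have e2 : q ^ 2 - q = q * (q - 1) := by
    obtain ⟨r, rfl⟩ : ∃ r, q = r + 1 := ⟨q - 1, by omega⟩
    have : (r + 1) ^ 2 = (r + 1) * (r + 1 - 1) + (r + 1) := by
      simp only [Nat.add_sub_cancel]; ring
    rw [this]; simp
  have h1 : q - 1 ≠ 0 := by omega
  have h2 : q + 1 ≠ 0 := by omega
  have h3 : q ≠ 0 := by omega
  rw [e1, e2, Nat.factorization_mul (mul_ne_zero h1 h2) (mul_ne_zero h3 h1),
    Nat.factorization_mul h1 h2, Nat.factorization_mul h3 h1]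
  simp only [Finsupp.coe_add, Pi.add_apply]
  rw [factorization_two_of_odd hodd]
  ring

theorem card_sylow_gl2 {F : Type*} [Field F] [Fintype F] (P : Sylow 2 (GL (Fin 2) F))
    (hodd : Fintype.card F % 2 = 1) (h3 : 3 ≤ Fintype.card F) :
    Nat.card P = 2 ^ (2 * (Fintype.card F - 1).factorization 2 +
      (Fintype.card F + 1).factorization 2) := by
  have hp : Fact (Nat.Prime 2) := ⟨Nat.prime_two⟩
  rw [Sylow.card_eq_multiplicity, Matrix.card_GL_field, Fin.prod_univ_two]
  simp only [Fin.val_zero, Fin.val_one, pow_zero, pow_one]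
  rw [card_gl2_factorization _ h3 hodd]

theorem two_le_factorization {m : ℕ} (hm : m ≠ 0) (h : m % 4 = 0) : 2 ≤ m.factorization 2 := by
  have : 2 ^ 2 ∣ m := by norm_num; omega
  exact (Nat.Prime.pow_dvd_iff_le_factorization Nat.prime_two hm).mp this

end Cfsg.Agent.Helper18.GL2Sylow
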