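import Mathlib
import Cfsg.Agent.Helper18.GL2Sylow2
import Cfsg.Agent.Helper2.SLCard

/-!
Sylow 2-subgroups of `GL(2,q)`, `q ≡ 1 (mod 4)`: wreathed.
-/

set_option autoImplicit false

namespace Cfsg.Agent.Helper18.GL2Sylow

variable {F : Type*} [Field F]

/-- `a ↦ diag(a, 1)` -/
def diag1 : F →* Matrix (Fin 2) (Fin 2) F where
  toFun a := !![a, 0; 0, 1]
  map_one' := by rw [Matrix.one_fin_two]
  map_mul' a b := by rw [Matrix.mul_fin_two]; simp

/-- `a ↦ diag(1, a)` -/
def diag2 : F →* Matrix (Fin 2) (Fin 2) F where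
  toFun a := !![1, 0; 0, a]
  map_one' := by rw [Matrix.one_fin_two]
  map_mul' a b := by rw [Matrix.mul_fin_two]; simp

theorem diag1_injective : Function.Injective (diag1 : F →* Matrix (Fin 2) (Fin 2) F) := by
  intro a b h
  have := congrFun (congrFun h 0) 0
  simpa [diag1] using this

theorem diag2_injective : Function.Injective (diag2 : F →* Matrix (Fin 2) (Fin 2) F) := by
  intro a b h
  have := congrFun (congrFun h 1) 1
  simpa [diag2] using this

/-- the swap matrix as an element of `GL₂` -/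
def swapGL : GL (Fin 2) F :=
  ⟨!![0, 1; 1, 0], !![0, 1; 1, 0], by rw [Matrix.mul_fin_two, Matrix.one_fin_two]; simp,
    by rw [Matrix.mul_fin_two, Matrix.one_fin_two]; simp⟩

theorem swapGL_mul_self : (swapGL : GL (Fin 2) F) * swapGL = 1 := by
  apply Units.ext
  show (!![0, 1; 1, 0] : Matrix (Fin 2) (Fin 2) F) * !![0, 1; 1, 0] = 1
  rw [Matrix.mul_fin_two, Matrix.one_fin_two]; simp

theorem swapGL_ne_one : (swapGL : GL (Fin 2) F) ≠ 1 := by
  intro h
  have h1 := congrArg (fun g : GL (Fin 2) F => (g : Matrix (Fin 2) (Fin 2) F) 0 0) h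
  simp [swapGL] at h1

theorem orderOf_swapGL : orderOf (swapGL : GL (Fin 2) F) = 2 := by
  have hp : Fact (Nat.Prime 2) := ⟨Nat.prime_two⟩
  exact orderOf_eq_prime (by rw [pow_two]; exact swapGL_mul_self) swapGL_ne_one

theorem swapGL_inv : (swapGL : GL (Fin 2) F)⁻¹ = swapGL := inv_eq_of_mul_eq_one_left swapGL_mul_self

theorem swapGL_conj (u : Fˣ) :
    (swapGL : GL (Fin 2) F) * Units.map diag1 u * swapGL⁻¹ = Units.map diag2 u := by
  rw [swapGL_inv]
  apply Units.ext
  show (!![0, 1; 1, 0] : Matrix (Fin 2) (Fin 2) F) * !![(u : F), 0; 0, 1] * !![0, 1; 1, 0] =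
    !![1, 0; 0, (u : F)]
  rw [Matrix.mul_fin_two, Matrix.mul_fin_two]; simp

theorem diag_comm (u v : Fˣ) :
    (Units.map diag1 u : GL (Fin 2) F) * Units.map diag2 v = Units.map diag2 v * Units.map diag1 u := by
  apply Units.ext
  show (!![(u : F), 0; 0, 1] : Matrix (Fin 2) (Fin 2) F) * !![1, 0; 0, (v : F)] =
    !![1, 0; 0, (v : F)] * !![(u : F), 0; 0, 1]
  rw [Matrix.mul_fin_two, Matrix.mul_fin_two]; simp

theorem diag_disjoint (u v : Fˣ) :
    Subgroup.zpowers (Units.map diag1 u : GL (Fin 2) F) ⊓ Subgroup.zpowers (Units.map diag2 v) = ⊥ := by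
  rw [eq_bot_iff]
  rintro w ⟨⟨i, hi⟩, ⟨j, hj⟩⟩
  rw [Subgroup.mem_bot]
  have hi' : (Units.map diag1 (u ^ i) : GL (Fin 2) F) = w := by rw [map_zpow]; exact hi
  have hj' : (Units.map diag2 (v ^ j) : GL (Fin 2) F) = w := by rw [map_zpow]; exact hj
  have e1 : ((Units.map diag1 (u ^ i) : GL (Fin 2) F) : Matrix (Fin 2) (Fin 2) F) =
      !![((u ^ i : Fˣ) : F), 0; 0, 1] := rfl
  have e2 : ((Units.map diag2 (v ^ j) : GL (Fin 2) F) : Matrix (Fin 2) (Fin 2) F) =
      !![1, 0; 0, ((v ^ j : Fˣ) : F)] := rfl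
  have h0 : (!![((u ^ i : Fˣ) : F), 0; 0, 1] : Matrix (Fin 2) (Fin 2) F) =
      !![1, 0; 0, ((v ^ j : Fˣ) : F)] := by
    rw [← e1, ← e2, hi', hj']
  have h1 := congrFun (congrFun h0 0) 0
  have h2 : ((u ^ i : Fˣ) : F) = 1 := by simpa using h1
  have h3 : u ^ i = 1 := Units.ext h2
  rw [← hi', h3, map_one]

theorem wreathed_case [Fintype F] (P : Sylow 2 (GL (Fin 2) F)) (h : Fintype.card F % 4 = 1) :
    Cfsg.IsWreathed (P : Subgroup (GL (Fin 2) F)) := by
  set q := Fintype.card F with hq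
  have hq2 : 2 ≤ q := Fintype.one_lt_card
  have hq5 : 5 ≤ q := by omega
  set n := (q - 1).factorization 2 with hn
  have hn2 : 2 ≤ n := two_le_factorization (by omega) (by omega)
  have hplus : (q + 1).factorization 2 = 1 := factorization_two_of_mod_four (by omega)
  have hcard : Nat.card P = 2 ^ (2 * n + 1) := by
    rw [card_sylow_gl2 P (by omega) (by omega), ← hq, ← hn, hplus]
  -- an element of order 2^n in Fˣ
  obtain ⟨g, hg⟩ := IsCyclic.exists_ofOrder_eq_natCard (α := Fˣ)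
  have hcu : Nat.card Fˣ = q - 1 := Cfsg.Agent.Helper2.card_units_field
  have hdvd : 2 ^ n ∣ q - 1 := Nat.ordProj_dvd (q - 1) 2
  set ζ : Fˣ := g ^ ((q - 1) / 2 ^ n) with hζ
  have hordζ : orderOf ζ = 2 ^ n := by
    have h1 : (q - 1) / 2 ^ n ∣ orderOf g := by
      rw [hg, hcu]; exact Nat.div_dvd_of_dvd hdvd
    rw [hζ, orderOf_pow_of_dvd _ h1, hg, hcu]
    · exact Nat.div_div_self hdvd (by omega)
    · intro h0
      have := Nat.div_mul_cancel hdvd
      rw [h0, zero_mul] at this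
      omega
  have hinj1 : Function.Injective (Units.map (diag1 : F →* Matrix (Fin 2) (Fin 2) F)) :=
    Units.map_injective diag1_injective
  refine isWreathed_of_elements P n hn2 hcard (Units.map diag1 ζ) (Units.map diag2 ζ) swapGL
    ?_ (diag_comm ζ ζ) (diag_disjoint ζ ζ) orderOf_swapGL (swapGL_conj ζ)
  rw [orderOf_injective _ hinj1, hordζ]

end Cfsg.Agent.Helper18.GL2Sylow
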