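import Mathlib
import Cfsg.Agent.Helper18.GL2Sylow3

/-!
Sylow 2-subgroups of `GL(2,q)`, `q ≡ 3 (mod 4)`: quasi-dihedral.
-/

set_option autoImplicit false

namespace Cfsg.Agent.Helper18.GL2Sylow

variable {F : Type*} [Field F]

theorem qd_case [Fintype F] (P : Sylow 2 (GL (Fin 2) F)) (h : Fintype.card F % 4 = 3) :
    Cfsg.IsQuasiDihedral (P : Subgroup (GL (Fin 2) F)) := by
  classical
  set q := Fintype.card F with hq
  have hq3 : 3 ≤ q := by omega
  set n := (q + 1).factorization 2 with hn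
  have hn2 : 2 ≤ n := two_le_factorization (by omega) (by omega)
  have hminus : (q - 1).factorization 2 = 1 := factorization_two_of_mod_four (by omega)
  have hcard : Nat.card P = 2 ^ (n + 1 + 1) := by
    rw [card_sylow_gl2 P (by omega) (by omega), ← hq, ← hn, hminus]
    congr 1; ring
  -- characteristic
  obtain ⟨p, hchar⟩ := CharP.exists F
  have hpp : Fact p.Prime := ⟨CharP.char_is_prime F p⟩
  let K := FiniteField.Extension F p 2
  have hfinK : Fintype K := Fintype.ofFinite K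
  let b : Module.Basis (Fin 2) F K :=
    Module.finBasisOfFinrankEq F K (FiniteField.finrank_extension F p 2)
  let φ : K →ₐ[F] Matrix (Fin 2) (Fin 2) F := Algebra.leftMulMatrix b
  have hφ : Function.Injective φ := Algebra.leftMulMatrix_injective b
  have hcardK : Fintype.card K = q ^ 2 := by
    rw [← Nat.card_eq_fintype_card, FiniteField.natCard_extension, Nat.card_eq_fintype_card]
  obtain ⟨ζ, hζ⟩ := IsCyclic.exists_generator (α := Kˣ)
  have hordζ : orderOf ζ = q ^ 2 - 1 := by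
    rw [orderOf_eq_card_of_forall_mem_zpowers hζ, Nat.card_units,
      FiniteField.natCard_extension, Nat.card_eq_fintype_card]
  have hfac : q ^ 2 - 1 = (q - 1) * (q + 1) := by
    obtain ⟨r, hr⟩ : ∃ r, q = r + 1 := ⟨q - 1, by omega⟩
    rw [hr]
    have : (r + 1) ^ 2 = (r + 1 - 1) * (r + 1 + 1) + 1 := by
      simp only [Nat.add_sub_cancel]; ring
    rw [this]; simp
  -- 2^(n+1) divides q^2 - 1
  have hdvd1 : 2 ^ n ∣ q + 1 := Nat.ordProj_dvd (q + 1) 2
  have hdvd2 : 2 ∣ q - 1 := by omega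
  have hdvd : 2 ^ (n + 1) ∣ q ^ 2 - 1 := by
    rw [hfac, pow_succ, mul_comm]
    exact Nat.mul_dvd_mul hdvd2 hdvd1
  have hpos : 0 < q ^ 2 - 1 := by
    have : 2 ^ 2 ≤ q ^ 2 := Nat.pow_le_pow_left (by omega) 2
    omega
  set ξ : Kˣ := ζ ^ ((q ^ 2 - 1) / 2 ^ (n + 1)) with hξ
  have hordξ : orderOf ξ = 2 ^ (n + 1) := by
    have h1 : (q ^ 2 - 1) / 2 ^ (n + 1) ∣ orderOf ζ := by
      rw [hordζ]; exact Nat.div_dvd_of_dvd hdvd
    rw [hξ, orderOf_pow_of_dvd _ h1, hordζ]
    · exact Nat.div_div_self hdvd (by omega)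
    · intro h0
      have := Nat.div_mul_cancel hdvd
      rw [h0, zero_mul] at this
      omega
  -- the embedding of units
  let ψ : Kˣ →* GL (Fin 2) F := Units.map (φ : K →* Matrix (Fin 2) (Fin 2) F)
  have hψ : Function.Injective ψ := Units.map_injective hφ
  set X : GL (Fin 2) F := ψ ξ with hX
  have hordX : orderOf X = 2 ^ (n + 1) := by rw [hX, orderOf_injective _ hψ, hordξ]
  -- the Frobenius matrix
  let frob : K →ₗ[F] K := (FiniteField.frobeniusAlgHom F K).toLinearMap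
  have hfrob : ∀ a : K, frob a = a ^ q := fun a => rfl
  set M : Matrix (Fin 2) (Fin 2) F := LinearMap.toMatrix b b frob with hM
  have hMM : M * M = 1 := by
    rw [hM, ← LinearMap.toMatrix_comp]
    have : frob ∘ₗ frob = LinearMap.id := by
      ext a
      rw [LinearMap.comp_apply, hfrob, hfrob, LinearMap.id_apply, ← pow_mul, ← pow_two, ← hcardK]
      exact FiniteField.pow_card a
    rw [this, LinearMap.toMatrix_id]
  have hMφ : ∀ a : K, M * φ a = φ (a ^ q) * M := by
    intro a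
    show M * Algebra.leftMulMatrix b a = Algebra.leftMulMatrix b (a ^ q) * M
    rw [Algebra.leftMulMatrix_apply, Algebra.leftMulMatrix_apply, hM, ← LinearMap.toMatrix_comp,
      ← LinearMap.toMatrix_comp]
    congr 1
    ext v
    simp only [LinearMap.comp_apply, Algebra.coe_lmul_eq_mul, LinearMap.mul_apply', hfrob, mul_pow]
  set Y : GL (Fin 2) F := ⟨M, M, hMM, hMM⟩ with hY
  have hYY : Y * Y = 1 := Units.ext hMM
  have hYinv : Y⁻¹ = Y := inv_eq_of_mul_eq_one_left hYY
  have hYψ : ∀ u : Kˣ, Y * ψ u = ψ (u ^ q) * Y := by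
    intro u
    apply Units.ext
    show M * φ (u : K) = φ ((u ^ q : Kˣ) : K) * M
    rw [Units.val_pow_eq_pow_val]
    exact hMφ _
  have hYne : Y ≠ 1 := by
    intro h1
    have h2 := hYψ ζ
    rw [h1, one_mul, mul_one] at h2
    have h3 : ζ = ζ ^ q := hψ h2
    have h4 : ζ ^ (q - 1) = 1 := by
      have : ζ ^ q = ζ ^ (q - 1) * ζ := by rw [← pow_succ]; congr 1; omega
      rw [this] at h3
      have : ζ ^ (q - 1) * ζ = 1 * ζ := by rw [one_mul]; exact h3.symm
      exact mul_right_cancel this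
    have h5 := orderOf_dvd_of_pow_eq_one h4
    rw [hordζ, hfac] at h5
    have h6 := Nat.le_of_dvd (by omega) h5
    have : (q - 1) * (q + 1) ≥ (q - 1) * 2 := Nat.mul_le_mul_left _ (by omega)
    omega
  have hordY : orderOf Y = 2 := by
    have hp2 : Fact (Nat.Prime 2) := ⟨Nat.prime_two⟩
    exact orderOf_eq_prime (by rw [pow_two]; exact hYY) hYne
  -- the relation
  have hrel0 : Y * X * Y⁻¹ = X ^ q := by
    rw [hX, hYψ, mul_assoc, hYinv, hYY, mul_one, map_pow]
  -- q ≡ 2^n - 1 mod 2^(n+1)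
  have hqmod : ∃ j, q = 2 ^ (n + 1) * j + (2 ^ n - 1) := by
    have hcomp : ¬ 2 ∣ (q + 1) / 2 ^ n := Nat.not_dvd_ordCompl Nat.prime_two (by omega)
    have hmul : 2 ^ n * ((q + 1) / 2 ^ n) = q + 1 := Nat.ordProj_mul_ordCompl_eq_self (q + 1) 2
    obtain ⟨j, hj⟩ : ∃ j, (q + 1) / 2 ^ n = 2 * j + 1 := ⟨(q + 1) / 2 ^ n / 2, by omega⟩
    refine ⟨j, ?_⟩
    rw [hj] at hmul
    have h2n : 1 ≤ 2 ^ n := Nat.one_le_two_pow
    have : 2 ^ (n + 1) * j + 2 ^ n = q + 1 := by rw [← hmul, pow_succ]; ring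
    omega
  obtain ⟨j, hj⟩ := hqmod
  have hrel : Y * X * Y⁻¹ = X ^ (2 ^ (n + 1 - 1) - 1) := by
    rw [hrel0, Nat.add_sub_cancel]
    conv_lhs => rw [hj]
    rw [pow_add, pow_mul, ← hordX, pow_orderOf_eq_one, one_pow, one_mul]
  exact isQuasiDihedral_of_elements P (n + 1) (by omega) hcard X Y hordX hordY hrel

end Cfsg.Agent.Helper18.GL2Sylow
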