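import Cfsg.Agent.Helper18.PGL2Mers
import Cfsg.Agent.Lead.HallPrep
import Cfsg.Agent.S0265
import Cfsg.Agent.Helper2.SL2Sylow

set_option autoImplicit false

namespace Cfsg.Agent.Helper18.PGL2Mers

open Matrix

variable {F : Type*} [Field F]

local notation "Mat" => Matrix (Fin 2) (Fin 2) F
local notation "G" => GL (Fin 2) F
local notation "P" => GL (Fin 2) F ⧸ Subgroup.center (GL (Fin 2) F)

theorem mem_center_iff_scalar (g : G) :
    g ∈ Subgroup.center G ↔ ∃ b : F, (g : Mat) = b • (1 : Mat) := by
  rw [Matrix.GeneralLinearGroup.mem_center_iff_val_mem_range_scalar]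
  constructor
  · rintro ⟨b, hb⟩
    refine ⟨b, ?_⟩
    rw [← hb, Matrix.scalar_apply, Matrix.smul_one_eq_diagonal]
  · rintro ⟨b, hb⟩
    refine ⟨b, ?_⟩
    rw [hb, Matrix.scalar_apply, Matrix.smul_one_eq_diagonal]

theorem mk_eq_one_iff (g : G) : (g : P) = 1 ↔ ∃ b : F, (g : Mat) = b • (1 : Mat) := by
  rw [QuotientGroup.eq_one_iff, mem_center_iff_scalar]

/-- commuting in `PGL₂` means commuting or anticommuting matrices -/
theorem commute_mk_iff (B M : G) :
    Commute (B : P) (M : P) ↔
      ((B : Mat) * (M : Mat) = (M : Mat) * (B : Mat) ∨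
        (B : Mat) * (M : Mat) = -((M : Mat) * (B : Mat))) := by
  constructor
  · intro h
    have h1 : ((M * B : G) : P) = ((B * M : G) : P) := by
      rw [QuotientGroup.mk_mul, QuotientGroup.mk_mul]; exact h.eq.symm
    rw [QuotientGroup.eq, mem_center_iff_scalar] at h1
    obtain ⟨c, hc⟩ := h1
    have h2 : ((B * M : G) : Mat) = c • ((M * B : G) : Mat) := by
      have : ((B * M : G) : Mat) = ((M * B : G) : Mat) * (((M * B)⁻¹ * (B * M) : G) : Mat) := by
        rw [← Units.val_mul, mul_inv_cancel_left]
      rw [this, hc, Matrix.mul_smul, Matrix.mul_one]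
    rw [Units.val_mul, Units.val_mul] at h2
    have h3 := congrArg Matrix.det h2
    rw [Matrix.det_smul, Matrix.det_mul, Matrix.det_mul, Fintype.card_fin] at h3
    have hB : (B : Mat).det ≠ 0 := (Matrix.GeneralLinearGroup.det B).ne_zero
    have hM : (M : Mat).det ≠ 0 := (Matrix.GeneralLinearGroup.det M).ne_zero
    have hc2 : c ^ 2 = 1 := by
      have : (c ^ 2 - 1) * ((M : Mat).det * (B : Mat).det) = 0 := by linear_combination -h3
      rcases mul_eq_zero.1 this with h | h
      · linear_combination h
      · exact absurd h (mul_ne_zero hM hB)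
    rcases sq_eq_one_iff.1 hc2 with rfl | rfl
    · left; rw [h2, one_smul]
    · right; rw [h2, neg_smul, one_smul]
  · intro h
    show (B : P) * (M : P) = (M : P) * (B : P)
    rw [← QuotientGroup.mk_mul, ← QuotientGroup.mk_mul, eq_comm, QuotientGroup.eq,
      mem_center_iff_scalar]
    rcases h with h | h
    · refine ⟨1, ?_⟩
      have : B * M = M * B := Units.ext (by rw [Units.val_mul, Units.val_mul]; exact h)
      rw [this, inv_mul_cancel, one_smul]; rfl
    · refine ⟨-1, ?_⟩
      have e : ((M * B : G) : Mat) * ((-1 : F) • (1 : Mat)) = ((B * M : G) : Mat) := by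
        rw [Units.val_mul, Units.val_mul, h]; simp
      have e2 : (((M * B)⁻¹ * (B * M) : G) : Mat) =
          (((M * B)⁻¹ : G) : Mat) * ((B * M : G) : Mat) := by rw [Units.val_mul]
      rw [e2, ← e, ← Matrix.mul_assoc, ← Units.val_mul, inv_mul_cancel]
      simp

/-- the standard matrix squaring to `-1` -/
def Jm (F : Type*) [Field F] : GL (Fin 2) F :=
  Matrix.GeneralLinearGroup.mkOfDetNeZero !![0, -1; 1, 0] (by rw [Matrix.det_fin_two_of]; simp)

theorem Jm_val : ((Jm F : G) : Mat) = !![0, -1; 1, 0] := rfl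

theorem Jm_sq : ((Jm F : G) : Mat) * ((Jm F : G) : Mat) = -1 := by
  rw [Jm_val]
  ext i j
  fin_cases i <;> fin_cases j <;> simp [Matrix.mul_apply, Fin.sum_univ_two]

/-- commuting type -/
def matT (a b : F) : Mat := !![a, b; -b, a]

/-- anticommuting type -/
def matF (a b : F) : Mat := !![a, b; b, -a]

theorem comm_J_iff (M : Mat) :
    M * !![0, -1; 1, 0] = !![0, -1; 1, 0] * M ↔ M = matT (M 0 0) (M 0 1) := by
  have hM := Matrix.eta_fin_two M
  generalize M 0 0 = a at hM ⊢
  generalize M 0 1 = b at hM ⊢
  generalize M 1 0 = c at hM ⊢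
  generalize M 1 1 = d at hM ⊢
  subst hM
  rw [Matrix.mul_fin_two, Matrix.mul_fin_two, matT]
  constructor
  · intro h
    have h00 := congrFun (congrFun h 0) 0
    have h01 := congrFun (congrFun h 0) 1
    simp at h00 h01
    have hc : c = -b := by linear_combination h00
    have hd : d = a := by linear_combination -h01
    rw [hc, hd]
  · intro h
    have h10 := congrFun (congrFun h 1) 0
    have h11 := congrFun (congrFun h 1) 1
    simp at h10 h11
    rw [h10, h11]
    simp

theorem anticomm_J_iff (M : Mat) :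
    M * !![0, -1; 1, 0] = -(!![0, -1; 1, 0] * M) ↔ M = matF (M 0 0) (M 0 1) := by
  have hM := Matrix.eta_fin_two M
  generalize M 0 0 = a at hM ⊢
  generalize M 0 1 = b at hM ⊢
  generalize M 1 0 = c at hM ⊢
  generalize M 1 1 = d at hM ⊢
  subst hM
  rw [Matrix.mul_fin_two, Matrix.mul_fin_two, matF]
  constructor
  · intro h
    have h00 := congrFun (congrFun h 0) 0
    have h01 := congrFun (congrFun h 0) 1
    simp at h00 h01
    have hc : c = b := by linear_combination -h00
    have hd : d = -a := by linear_combination -h01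
    rw [hc, hd]
  · intro h
    have h10 := congrFun (congrFun h 1) 0
    have h11 := congrFun (congrFun h 1) 1
    simp at h10 h11
    rw [h10, h11]
    ext i j
    fin_cases i <;> fin_cases j <;> simp

theorem sumsq_ne_zero (hneg : ¬ IsSquare (-1 : F)) {a b : F} (h : (a, b) ≠ (0, 0)) :
    a * a + b * b ≠ 0 := by
  intro h0
  by_cases hb : b = 0
  · rw [hb, mul_zero, add_zero] at h0
    have ha : a = 0 := mul_self_eq_zero.1 h0
    exact h (by rw [ha, hb])
  · apply hneg
    refine ⟨a / b, ?_⟩
    rw [div_mul_div_comm, eq_div_iff (mul_ne_zero hb hb)]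
    linear_combination -h0

theorem det_matT (a b : F) : (matT a b).det = a * a + b * b := by
  rw [matT, Matrix.det_fin_two_of]; ring

theorem det_matF (a b : F) : (matF a b).det = -(a * a + b * b) := by
  rw [matF, Matrix.det_fin_two_of]; ring

/-- the parametrisation of the preimage of the centraliser -/
noncomputable def paramJ (hneg : ¬ IsSquare (-1 : F)) :
    Bool × {v : F × F // v ≠ (0, 0)} → G := fun t =>
  if t.1 = true then
    Matrix.GeneralLinearGroup.mkOfDetNeZero (matT t.2.1.1 t.2.1.2)
      (by rw [det_matT]; exact sumsq_ne_zero hneg t.2.2)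
  else
    Matrix.GeneralLinearGroup.mkOfDetNeZero (matF t.2.1.1 t.2.1.2)
      (by rw [det_matF]; exact neg_ne_zero.2 (sumsq_ne_zero hneg t.2.2))

theorem paramJ_true (hneg : ¬ IsSquare (-1 : F)) (v : {v : F × F // v ≠ (0, 0)}) :
    ((paramJ hneg (true, v) : G) : Mat) = matT v.1.1 v.1.2 := by
  simp [paramJ, Matrix.GeneralLinearGroup.mkOfDetNeZero]

theorem paramJ_false (hneg : ¬ IsSquare (-1 : F)) (v : {v : F × F // v ≠ (0, 0)}) :
    ((paramJ hneg (false, v) : G) : Mat) = matF v.1.1 v.1.2 := by
  simp [paramJ, Matrix.GeneralLinearGroup.mkOfDetNeZero]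

theorem paramJ_injective (hneg : ¬ IsSquare (-1 : F)) : Function.Injective (paramJ hneg) := by
  have h2 := two_ne_zero_of_neg_one hneg
  rintro ⟨s, ⟨⟨a, b⟩, hv⟩⟩ ⟨s', ⟨⟨a', b'⟩, hv'⟩⟩ h
  have h' : ((paramJ hneg (s, ⟨(a, b), hv⟩) : G) : Mat) =
      ((paramJ hneg (s', ⟨(a', b'), hv'⟩) : G) : Mat) := by rw [h]
  cases s <;> cases s'
  · rw [paramJ_false, paramJ_false] at h'
    have e0 := congrFun (congrFun h' 0) 0
    have e1 := congrFun (congrFun h' 0) 1
    simp [matF] at e0 e1
    subst e0; subst e1; rfl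
  · rw [paramJ_false, paramJ_true] at h'
    have e0 := congrFun (congrFun h' 0) 0
    have e1 := congrFun (congrFun h' 0) 1
    have e2 := congrFun (congrFun h' 1) 0
    have e3 := congrFun (congrFun h' 1) 1
    simp [matF, matT] at e0 e1 e2 e3
    exfalso
    apply hv
    have hb : b = 0 := by
      have : 2 * b = 0 := by linear_combination e2 + e1
      exact (mul_eq_zero.1 this).resolve_left h2
    have ha : a = 0 := by
      have : 2 * a = 0 := by linear_combination -e3 + e0
      exact (mul_eq_zero.1 this).resolve_left h2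
    rw [ha, hb]
  · rw [paramJ_true, paramJ_false] at h'
    have e0 := congrFun (congrFun h' 0) 0
    have e1 := congrFun (congrFun h' 0) 1
    have e2 := congrFun (congrFun h' 1) 0
    have e3 := congrFun (congrFun h' 1) 1
    simp [matF, matT] at e0 e1 e2 e3
    exfalso
    apply hv
    have hb : b = 0 := by
      have : 2 * b = 0 := by linear_combination -e2 + e1
      exact (mul_eq_zero.1 this).resolve_left h2
    have ha : a = 0 := by
      have : 2 * a = 0 := by linear_combination e3 + e0
      exact (mul_eq_zero.1 this).resolve_left h2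
    rw [ha, hb]
  · rw [paramJ_true, paramJ_true] at h'
    have e0 := congrFun (congrFun h' 0) 0
    have e1 := congrFun (congrFun h' 0) 1
    simp [matT] at e0 e1
    subst e0; subst e1; rfl

theorem range_paramJ (hneg : ¬ IsSquare (-1 : F)) :
    Set.range (paramJ hneg) =
      {B : G | Commute (B : P) ((Jm F : G) : P)} := by
  ext B
  rw [Set.mem_ofPred_eq, commute_mk_iff, Jm_val, comm_J_iff, anticomm_J_iff]
  constructor
  · rintro ⟨⟨s, v⟩, rfl⟩
    cases s
    · right
      rw [paramJ_false]; simp [matF]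
    · left
      rw [paramJ_true]; simp [matT]
  · intro h
    have hv : ((B : Mat) 0 0, (B : Mat) 0 1) ≠ (0, 0) := by
      intro h0
      rw [Prod.mk.injEq] at h0
      have hdet : (B : Mat).det ≠ 0 := (Matrix.GeneralLinearGroup.det B).ne_zero
      apply hdet
      rcases h with h | h
      · rw [h, det_matT, h0.1, h0.2]; ring
      · rw [h, det_matF, h0.1, h0.2]; ring
    rcases h with h | h
    · refine ⟨(true, ⟨_, hv⟩), ?_⟩
      apply Units.ext
      rw [paramJ_true]; exact h.symm
    · refine ⟨(false, ⟨_, hv⟩), ?_⟩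
      apply Units.ext
      rw [paramJ_false]; exact h.symm

section card

variable [Fintype F]

theorem card_nonzero_pairs : Nat.card {v : F × F // v ≠ (0, 0)} = Fintype.card F ^ 2 - 1 := by
  classical
  rw [Nat.card_eq_fintype_card]
  have h := Fintype.card_subtype_compl (fun v : F × F => v = (0, 0))
  rw [Fintype.card_subtype_eq, Fintype.card_prod] at h
  rw [sq]
  convert h

theorem card_preimage_J (hneg : ¬ IsSquare (-1 : F)) :
    Nat.card {B : G | Commute (B : P) ((Jm F : G) : P)} = 2 * (Fintype.card F ^ 2 - 1) := by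
  rw [← range_paramJ hneg, Nat.card_range_of_injective (paramJ_injective hneg), Nat.card_prod,
    card_nonzero_pairs]
  simp

theorem card_center_gl2 : Nat.card (Subgroup.center G) = Fintype.card F - 1 := by
  rw [GeneralLinearGroup.center_eq_range_scalar]
  have hinj : Function.Injective (GeneralLinearGroup.scalar (Fin 2) : Fˣ →* GL (Fin 2) F) := by
    intro a b hab
    have := congrArg (fun g : GL (Fin 2) F => (g : Matrix (Fin 2) (Fin 2) F)) hab
    simp only [GeneralLinearGroup.coe_scalar] at this
    exact Units.ext (Matrix.scalar_inj.mp this)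
  rw [← Nat.card_congr (MonoidHom.ofInjective hinj).toEquiv, Helper2.card_units_field]

theorem card_pgl2 : Nat.card P = Fintype.card F * (Fintype.card F ^ 2 - 1) := by
  have h := Cfsg.Agent.S0265.result (F := F) 2
  rw [Helper2.SL2.card_SL2] at h
  exact h

theorem card_centralizer_J (hneg : ¬ IsSquare (-1 : F)) :
    Nat.card (Subgroup.centralizer {((Jm F : G) : P)}) = 2 * (Fintype.card F + 1) := by
  have h1 := Cfsg.Agent.Lead.card_comap_mk' (Subgroup.center G)
    (Subgroup.centralizer {((Jm F : G) : P)})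
  have h2 : Nat.card ↥(Subgroup.comap (QuotientGroup.mk' (Subgroup.center G))
      (Subgroup.centralizer {((Jm F : G) : P)})) =
      Nat.card {B : G | Commute (B : P) ((Jm F : G) : P)} := by
    apply Nat.card_congr
    apply Equiv.setCongr
    ext B
    simp only [SetLike.mem_coe, Subgroup.mem_comap, Subgroup.mem_centralizer_singleton_iff,
      Set.mem_ofPred_eq]
    exact Iff.rfl
  rw [h2, card_preimage_J hneg, card_center_gl2] at h1
  have hq : 2 ≤ Fintype.card F := Fintype.one_lt_card
  obtain ⟨m, hm⟩ : ∃ m, Fintype.card F = m + 2 := ⟨Fintype.card F - 2, by omega⟩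
  rw [hm] at h1 ⊢
  have e1 : (m + 2) ^ 2 - 1 = (m + 3) * (m + 1) := by
    have : (m + 2) ^ 2 = (m + 3) * (m + 1) + 1 := by ring
    omega
  have e2 : m + 2 - 1 = m + 1 := by omega
  rw [e1, e2] at h1
  have : 2 * (m + 3) * (m + 1) = Nat.card ↥(Subgroup.centralizer {((Jm F : G) : P)}) * (m + 1) := by
    rw [← h1]; ring
  have h3 := Nat.eq_of_mul_eq_mul_right (by omega : 0 < m + 1) this
  rw [← h3]

end card

end Cfsg.Agent.Helper18.PGL2Mers
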