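import Cfsg.Agent.Helper18.PGL2a

/-! Maximal subgroups of `PGL₂(q)`, part b: `PGL₂(q)` is almost simple; centraliser bound. -/

set_option autoImplicit false

namespace Cfsg.Agent.Helper18.PGL2

open Cfsg.Agent.Helper18.Dickson Cfsg.Agent.Helper18.L2Max Matrix

variable {F : Type*} [Field F]

local notation "SF" => Matrix.SpecialLinearGroup (Fin 2) F
local notation "GF" => Matrix.GeneralLinearGroup (Fin 2) F
local notation "MF" => Matrix (Fin 2) (Fin 2) F
local notation "PG" => Matrix.ProjGenLinGroup (Fin 2) F
local notation "PF" => Matrix.ProjectiveSpecialLinearGroup (Fin 2) F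
local notation "mkG" => (Matrix.ProjGenLinGroup.mk : GF →* PG)
local notation "toG" => (Matrix.SpecialLinearGroup.toGL : SF →* GF)

theorem LL_simple [Fintype F] (h4 : 4 ≤ Fintype.card F) : IsSimpleGroup (LL F) := by
  have := psl_simple (F := F) h4
  have hnt : Nontrivial (LL F) := (equivLL (F := F)).symm.toEquiv.nontrivial
  exact IsSimpleGroup.isSimpleGroup_of_surjective (equivLL (F := F)).toMonoidHom
    (equivLL (F := F)).surjective

theorem LL_noncomm : ¬ ∀ a b : LL F, a * b = b * a := by
  intro h
  apply psl_noncomm (F := F)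
  intro a b
  have := h (equivLL a) (equivLL b)
  rw [← map_mul, ← map_mul] at this
  exact (equivLL (F := F)).injective this

theorem trace_toG_uM : Matrix.trace ((toG (uM (1 : F)) : GF) : MF) = 2 := by
  rw [SpecialLinearGroup.coe_GL_coe_matrix, uM_coe, Matrix.trace_fin_two_of]; norm_num

theorem trace_toG_lM : Matrix.trace ((toG (lM (1 : F)) : GF) : MF) = 2 := by
  rw [SpecialLinearGroup.coe_GL_coe_matrix, lM_coe, Matrix.trace_fin_two_of]; norm_num

/-- commuting in `PGL₂` with a trace-`2` element of `SL₂` lifts to `GL₂` -/
theorem commute_lift (h2 : (2 : F) ≠ 0) (g : GF) (x : SF) (htr : Matrix.trace (x : MF) = 2)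
    (h : mkG g * mkG (toG x) = mkG (toG x) * mkG g) : g * toG x = toG x * g := by
  rw [← map_mul, ← map_mul, Matrix.ProjGenLinGroup.mk_eq_mk_iff] at h
  obtain ⟨u, hu⟩ := h
  have hdet := congrArg GeneralLinearGroup.det hu
  rw [map_mul, map_mul, map_mul, det_scalar_two, det_toG, mul_one, one_mul] at hdet
  have hu2 : u ^ 2 = 1 := by
    have := mul_left_cancel (a := GeneralLinearGroup.det g) (b := u ^ 2) (c := 1)
      (by rw [hdet, mul_one])
    exact this
  -- conjugate: g x g⁻¹ * scalar u = x
  have h3 : g * toG x * g⁻¹ * GeneralLinearGroup.scalar (Fin 2) u = toG x := by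
    have : g * toG x * GeneralLinearGroup.scalar (Fin 2) u = toG x * g := hu
    calc g * toG x * g⁻¹ * GeneralLinearGroup.scalar (Fin 2) u
        = g * toG x * GeneralLinearGroup.scalar (Fin 2) u * g⁻¹ := by
          rw [mul_assoc (g * toG x) g⁻¹, ← GeneralLinearGroup.scalar_commute, ← mul_assoc]
      _ = toG x := by rw [this]; group
  have htr2 : (u : F) * 2 = 2 := by
    have e := congrArg (fun y : GF => Matrix.trace (y : MF)) h3
    simp only [GeneralLinearGroup.coe_mul, GeneralLinearGroup.coe_scalar,
      SpecialLinearGroup.coe_GL_coe_matrix] at e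
    rw [htr] at e
    have e2 : Matrix.trace ((g : MF) * (x : MF) * ((g⁻¹ : GF) : MF) *
        (Matrix.scalar (Fin 2)) (u : F)) = (u : F) * 2 := by
      have hs : (Matrix.scalar (Fin 2)) (u : F) = (u : F) • (1 : MF) := by
        ext i j
        simp [Matrix.scalar_apply, Matrix.diagonal_apply, Matrix.one_apply]
      rw [hs, Matrix.mul_smul, Matrix.mul_one, Matrix.trace_smul, Matrix.trace_mul_cycle]
      have : ((g⁻¹ : GF) : MF) * (g : MF) = 1 := by
        rw [← GeneralLinearGroup.coe_mul, inv_mul_cancel]; rfl
      rw [this, Matrix.one_mul, htr, smul_eq_mul]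
    rw [e2] at e
    exact e
  have hu1 : u = 1 := by
    apply Units.ext
    have : ((u : F) - 1) * 2 = 0 := by linear_combination htr2
    rcases mul_eq_zero.1 this with h | h
    · rw [Units.val_one]; linear_combination h
    · exact absurd h h2
  rw [hu1, map_one, mul_one] at hu
  exact hu

/-- **`PGL₂(q)` is almost simple**: every nontrivial normal subgroup contains `L`. -/
theorem LL_le_of_normal [Fintype F] (h2 : (2 : F) ≠ 0) (h4 : 4 ≤ Fintype.card F)
    (N : Subgroup PG) (hN : N.Normal) (hNbot : N ≠ ⊥) : LL F ≤ N := by
  have hsimple := LL_simple (F := F) h4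
  obtain ⟨x, hxN, hx1⟩ : ∃ x ∈ N, x ≠ 1 := by
    by_contra hcon
    push Not at hcon
    apply hNbot
    rw [Subgroup.eq_bot_iff_forall]
    exact hcon
  -- some element of `L` not commuting with `x`
  obtain ⟨y, hyL, hxy⟩ : ∃ y ∈ LL F, x * y ≠ y * x := by
    by_contra hcon
    push Not at hcon
    induction x using Matrix.ProjGenLinGroup.induction_on with | mk g =>
    have c1 := commute_lift h2 g (uM 1) (by rw [uM_coe, Matrix.trace_fin_two_of]; norm_num)
      (hcon _ ⟨uM 1, rfl⟩)
    have c2 := commute_lift h2 g (lM 1) (by rw [lM_coe, Matrix.trace_fin_two_of]; norm_num)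
      (hcon _ ⟨lM 1, rfl⟩)
    obtain ⟨u, hu⟩ := scalar_of_commute g c1 c2
    apply hx1
    rw [hu, Matrix.ProjGenLinGroup.mk_scalar]
  set c := x * y * x⁻¹ * y⁻¹ with hc
  have hcN : c ∈ N := by
    have : c = x * (y * x⁻¹ * y⁻¹) := by rw [hc]; group
    rw [this]
    exact N.mul_mem hxN (hN.conj_mem _ (N.inv_mem hxN) y)
  have hcL : c ∈ LL F := by
    have h1 : x * y * x⁻¹ ∈ LL F := LL_normal.conj_mem y hyL x
    exact (LL F).mul_mem h1 ((LL F).inv_mem hyL)
  have hc1 : c ≠ 1 := by
    intro h
    apply hxy
    have : x * y = c * (y * x) := by rw [hc]; group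
    rw [this, h, one_mul]
  have hnorm : ((N ⊓ LL F).subgroupOf (LL F)).Normal := by
    have : (N ⊓ LL F).subgroupOf (LL F) = N.subgroupOf (LL F) := by
      ext z
      simp [Subgroup.mem_subgroupOf]
    rw [this]
    infer_instance
  rcases hnorm.eq_bot_or_eq_top with h | h
  · exfalso
    have : (⟨c, hcL⟩ : LL F) ∈ (N ⊓ LL F).subgroupOf (LL F) := by
      rw [Subgroup.mem_subgroupOf]
      exact ⟨hcN, hcL⟩
    rw [h, Subgroup.mem_bot] at this
    exact hc1 (congrArg Subtype.val this)
  · intro z hz
    have : (⟨z, hz⟩ : LL F) ∈ (N ⊓ LL F).subgroupOf (LL F) := by rw [h]; trivial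
    rw [Subgroup.mem_subgroupOf] at this
    exact this.1

theorem card_quad_roots_le [Fintype F] [DecidableEq F] (t d : F) :
    (Finset.univ.filter (fun y : F => y ^ 2 + t * y + d = 0)).card ≤ 2 := by
  by_cases h : ∃ y₁ : F, y₁ ^ 2 + t * y₁ + d = 0
  · obtain ⟨y₁, h1⟩ := h
    have hsub : Finset.univ.filter (fun y : F => y ^ 2 + t * y + d = 0) ⊆ {y₁, -t - y₁} := by
      intro y hy
      rw [Finset.mem_filter] at hy
      have : (y - y₁) * (y + y₁ + t) = 0 := by linear_combination hy.2 - h1
      rw [Finset.mem_insert, Finset.mem_singleton]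
      rcases mul_eq_zero.1 this with h | h
      · left; linear_combination h
      · right; linear_combination h
    exact (Finset.card_le_card hsub).trans Finset.card_le_two
  · push Not at h
    rw [Finset.filter_false_of_mem (fun y _ => h y)]
    simp

theorem det_add_scalar (g : MF) (y : F) :
    (y • (1 : MF) + g).det = y ^ 2 + Matrix.trace g * y + g.det := by
  rw [Matrix.det_fin_two, Matrix.det_fin_two, Matrix.trace_fin_two]
  simp [Matrix.add_apply, Matrix.smul_apply, Matrix.one_apply]
  ring

theorem mul_scalar_apply (A : GF) (u : Fˣ) (i j : Fin 2) :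
    ((A * GeneralLinearGroup.scalar (Fin 2) u : GF) : MF) i j = (A : MF) i j * (u : F) := by
  rw [GeneralLinearGroup.coe_mul, GeneralLinearGroup.coe_scalar, Matrix.scalar_apply,
    Matrix.mul_diagonal]

instance finite_PG [Finite F] : Finite PG :=
  Finite.of_surjective mkG Matrix.ProjGenLinGroup.mk_surjective

/-- **Centraliser bound**: every nontrivial element of `PGL₂(q)` has a centraliser of order at
least `q - 1`. -/
theorem card_centralizer_ge [Fintype F] (x : PG) (hx : x ≠ 1) :
    Fintype.card F - 1 ≤ Nat.card (Subgroup.centralizer ({x} : Set PG)) := by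
  classical
  induction x using Matrix.ProjGenLinGroup.induction_on with | mk g =>
  have hent := mk_ne_one_entries g hx
  set t := Matrix.trace (g : MF) with ht
  set d := (g : MF).det with hd
  let Y := {y : F // y ^ 2 + t * y + d ≠ 0}
  have hdet : ∀ y : Y, (y.1 • (1 : MF) + (g : MF)).det ≠ 0 := fun y => by
    rw [det_add_scalar]; exact y.2
  let c : Y → GF := fun y => GeneralLinearGroup.mkOfDetNeZero _ (hdet y)
  have hc_coe : ∀ y, ((c y : GF) : MF) = y.1 • (1 : MF) + (g : MF) := fun y => rfl
  have hcomm : ∀ y, g * c y = c y * g := by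
    intro y
    apply Units.ext
    rw [GeneralLinearGroup.coe_mul, GeneralLinearGroup.coe_mul, hc_coe, Matrix.add_mul,
      Matrix.mul_add]
    simp
  have hmem : ∀ y, mkG (c y) ∈ Subgroup.centralizer ({mkG g} : Set PG) := by
    intro y
    rw [Subgroup.mem_centralizer_iff]
    intro h hh
    rw [Set.mem_singleton_iff] at hh
    subst hh
    rw [← map_mul, ← map_mul, hcomm]
  let f : Option Y → Subgroup.centralizer ({mkG g} : Set PG) := fun o =>
    match o with
    | none => 1
    | some y => ⟨mkG (c y), hmem y⟩
  have hne : ∀ y : Y, mkG (c y) ≠ 1 := by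
    intro y h1
    have := Matrix.ProjGenLinGroup.mk_eq_one.1 h1
    rw [GeneralLinearGroup.center_eq_range_scalar] at this
    obtain ⟨u, hu⟩ := this
    have e01 : ((c y : GF) : MF) 0 1 = 0 := by
      rw [← hu, GeneralLinearGroup.coe_scalar]; simp
    have e10 : ((c y : GF) : MF) 1 0 = 0 := by
      rw [← hu, GeneralLinearGroup.coe_scalar]; simp
    have e00 : ((c y : GF) : MF) 0 0 = ((c y : GF) : MF) 1 1 := by
      rw [← hu, GeneralLinearGroup.coe_scalar]; simp
    rw [hc_coe] at e01 e10 e00
    simp [Matrix.add_apply, Matrix.smul_apply, Matrix.one_apply] at e01 e10 e00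
    rcases hent with h | h | h
    · exact h e01
    · exact h e10
    · exact h e00.symm
  have hinj : Function.Injective f := by
    intro a b hab
    cases a with
    | none =>
      cases b with
      | none => rfl
      | some y =>
        exfalso
        have : (1 : PG) = mkG (c y) := congrArg Subtype.val hab
        exact hne y this.symm
    | some y =>
      cases b with
      | none =>
        exfalso
        have : mkG (c y) = (1 : PG) := congrArg Subtype.val hab
        exact hne y this
      | some y' =>
        have h1 : mkG (c y) = mkG (c y') := congrArg Subtype.val hab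
        rw [Matrix.ProjGenLinGroup.mk_eq_mk_iff] at h1
        obtain ⟨u, hu⟩ := h1
        have e : ∀ i j, ((c y : GF) : MF) i j * (u : F) = ((c y' : GF) : MF) i j := by
          intro i j
          rw [← mul_scalar_apply, hu]
        have e01 := e 0 1
        have e10 := e 1 0
        have e00 := e 0 0
        have e11 := e 1 1
        rw [hc_coe, hc_coe] at e01 e10 e00 e11
        simp [Matrix.add_apply, Matrix.smul_apply, Matrix.one_apply] at e01 e10 e00 e11
        have hu1 : (u : F) = 1 := by
          rcases hent with h | h | h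
          · have : (g : MF) 0 1 * ((u : F) - 1) = 0 := by linear_combination e01
            rcases mul_eq_zero.1 this with h' | h'
            · exact absurd h' h
            · linear_combination h'
          · have : (g : MF) 1 0 * ((u : F) - 1) = 0 := by linear_combination e10
            rcases mul_eq_zero.1 this with h' | h'
            · exact absurd h' h
            · linear_combination h'
          · have : ((g : MF) 1 1 - (g : MF) 0 0) * ((u : F) - 1) = 0 := by
              linear_combination e11 - e00
            rcases mul_eq_zero.1 this with h' | h'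
            · exact absurd (sub_eq_zero.1 h') h
            · linear_combination h'
        rw [hu1, mul_one] at e00
        congr 1
        apply Subtype.ext
        linear_combination e00
  have hcard := Nat.card_le_card_of_injective f hinj
  have hY : Fintype.card F - 2 ≤ Fintype.card Y := by
    rw [Fintype.card_subtype_compl (fun y : F => y ^ 2 + t * y + d = 0), Fintype.card_subtype]
    have := card_quad_roots_le t d
    omega
  rw [Nat.card_eq_fintype_card, Fintype.card_option] at hcard
  have hq : 2 ≤ Fintype.card F := Fintype.one_lt_card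
  omega

end Cfsg.Agent.Helper18.PGL2
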