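import Mathlib

/-!
# S4130 piece PNILS (helper18): a finite nilpotent group all of whose Sylow subgroups have class at most
two has class at most two (via the direct product of the Sylow subgroups).
-/

set_option autoImplicit false

namespace Cfsg.Agent.S4130P

open Subgroup
open scoped commutatorElement

/-- commutators are central -/
def PNILS_aux_C2 (H : Type*) [Group H] : Prop := ∀ a b c : H, ⁅a, b⁆ * c = c * ⁅a, b⁆

theorem PNILS_aux_pi {η : Type*} {Gs : η → Type*} [∀ i, Group (Gs i)]
    (h : ∀ i, PNILS_aux_C2 (Gs i)) : PNILS_aux_C2 (∀ i, Gs i) := by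
  intro a b c
  funext i
  exact h i (a i) (b i) (c i)

theorem PNILS_aux_equiv {H K : Type*} [Group H] [Group K] (e : H ≃* K) (h : PNILS_aux_C2 H) :
    PNILS_aux_C2 K := by
  intro a b c
  have := h (e.symm a) (e.symm b) (e.symm c)
  have h2 := congrArg e this
  simpa [commutatorElement_def] using h2

theorem PNILS_aux_top {H : Type*} [Group H] (h : PNILS_aux_C2 H) :
    Subgroup.upperCentralSeries H 2 = ⊤ := by
  rw [eq_top_iff]
  intro x _
  rw [Subgroup.mem_upperCentralSeries_succ_iff]
  intro y
  rw [Subgroup.upperCentralSeries_one, Subgroup.mem_center_iff]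
  intro z
  exact (h x y z).symm

/-- (PNILS) a finite nilpotent group all of whose Sylow subgroups have class at most 2 has class at
most 2. -/
theorem PNILS {N : Type*} [Group N] [Finite N] (hN : Group.IsNilpotent N)
    (h2 : ∀ (p : ℕ) [Fact p.Prime] (P : Sylow p N),
      commutator (P : Subgroup N) ≤ center (P : Subgroup N)) :
    Subgroup.upperCentralSeries N 2 = ⊤ := by
  obtain ⟨e⟩ := (Group.isNilpotent_of_finite_tfae (G := N)).out 0 4 |>.mp hN
  apply PNILS_aux_top
  refine PNILS_aux_equiv e ?_
  refine PNILS_aux_pi fun p => PNILS_aux_pi fun P => ?_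
  have : Fact (Nat.Prime (p : ℕ)) := ⟨Nat.prime_of_mem_primeFactors p.2⟩
  intro a b c
  have hmem : ⁅a, b⁆ ∈ commutator (P : Subgroup N) := by
    rw [commutator_def]
    exact Subgroup.commutator_mem_commutator (Subgroup.mem_top a) (Subgroup.mem_top b)
  have hc := h2 p P hmem
  rw [Subgroup.mem_center_iff] at hc
  exact (hc c).symm

end Cfsg.Agent.S4130P
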