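import Mathlib
import Cfsg.Prelude.Def_Classical
import Cfsg.Prelude.Def_FusionComponents
import Cfsg.Agent.Helper26.S5320.Defs

/-! # S5320 piece CONJT (driver helper26): `t1` is conjugate to `sig` in `Sp₄(F)`. -/

set_option autoImplicit false
set_option linter.unusedSectionVars false
set_option linter.unusedVariables false

namespace Cfsg.Agent.S5320P

open Matrix

variable {F : Type*} [Field F]

namespace CONJT

/-- the plane-index part of the conjugating element -/
def hC : M2 F := !![1, 1; -1, 1]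

/-- the pair-index part of the conjugating element -/
def uC : M2 F := Matrix.diagonal ![(2 : F)⁻¹, 1]

/-- the diagonal matrix `diag(-1, 1)` of the plane index -/
def dC : M2 F := Matrix.diagonal ![(-1 : F), 1]

theorem cM_mem (h2 : (2 : F) ≠ 0) :
    K (uC : M2 F) (hC : M2 F) ∈ Matrix.symplecticGroup (Fin 2) F := by
  rw [K_mem_iff]
  unfold uC hC
  rw [Matrix.det_fin_two]
  ext i j
  fin_cases i <;> fin_cases j <;>
    simp [Matrix.mul_apply, Fin.sum_univ_two, Matrix.one_apply, Matrix.diagonal_apply] <;>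
    field_simp <;> ring

theorem t1_val_eq : ((t1 : Gt F) : M4 F) = K (1 : M2 F) (dC : M2 F) := by
  unfold t1
  rw [emb_val]
  unfold embM K dC
  congr 1 <;>
  · ext i j
    fin_cases i <;> fin_cases j <;> simp [Matrix.diagonal_apply, Matrix.one_apply]

theorem hC_mul_dC : (hC : M2 F) * dC = swapM * hC := by
  unfold hC dC swapM
  ext i j
  fin_cases i <;> fin_cases j <;>
    simp [Matrix.mul_apply, Fin.sum_univ_two, Matrix.diagonal_apply]

end CONJT

theorem CONJT.exists_conj (h2 : (2 : F) ≠ 0) : ∃ c : Gt F, c * t1 * c⁻¹ = sig := by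
  refine ⟨⟨K (CONJT.uC : M2 F) (CONJT.hC : M2 F), CONJT.cM_mem h2⟩, ?_⟩
  rw [mul_inv_eq_iff_eq_mul]
  apply Subtype.ext
  show K (CONJT.uC : M2 F) (CONJT.hC : M2 F) * ((t1 : Gt F) : M4 F)
    = ((sig : Gt F) : M4 F) * K (CONJT.uC : M2 F) (CONJT.hC : M2 F)
  rw [CONJT.t1_val_eq, sig_val, K_mul, K_mul, mul_one, one_mul, CONJT.hC_mul_dC]

end Cfsg.Agent.S5320P
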