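import Mathlib
import Cfsg.Agent.Helper3.S5655EVDefs

set_option autoImplicit false
set_option linter.unusedSectionVars false
set_option linter.unusedVariables false

/-! # S5655 k = 1, chapter "q EVEN", piece Q2TOP: all transvections generate (`q = 2`) -/

namespace Cfsg.Agent.S5655K1.EV

open Matrix
open Cfsg.Agent.S2644 Cfsg.Agent.Helper2.SUGen Cfsg.Agent.Helper28.SimMax Cfsg.Agent.S5658P

variable {K : Type*} [Field K] {q n : ℕ}

local notation "h" => Cfsg.hermForm n K q
local notation "T" => Cfsg.unitaryTransvection n q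

theorem Q2TOP.main [Fintype K] (D : Frob K 2) (hK : Fintype.card K = 2 ^ 2) (hn : 4 ≤ n)
    {M : Subgroup (Matrix.GeneralLinearGroup (Fin n) K)} (hM : Over 2 M)
    (hall : ∀ z : Fin n → K, Cfsg.hermForm n K 2 z z = 0 →
      Cfsg.unitaryTransvection n 2 z (1 : K) ∈ MS M) :
    M = Cfsg.GU n K 2 ⊓ Cfsg.Geo.specialLinear (Fin n) K := by
  apply le_antisymm hM.le
  intro g hg
  obtain ⟨hP, hdet⟩ := (mem_G_iff g).1 hg
  have hTT := SU_le_TT D hK (by omega) (by omega) hP hdet
  have key : ∀ A ∈ TT D (⊤ : Submodule K (Fin n → K)), A ∈ MS M := by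
    intro A hA
    induction hA using Submonoid.closure_induction with
    | mem A hA =>
      obtain ⟨x, c, -, hxx, hc, rfl⟩ := hA
      have h1 : c * (c + 1) = 0 := by rw [D.pow] at hc; linear_combination hc
      rcases mul_eq_zero.1 h1 with h0 | h0
      · subst h0; rw [T_zero]; exact one_mem_MS M
      · have hc1 : c = -1 := by linear_combination h0
        subst hc1
        exact MS_of_mul_left (hall x hxx) (by rw [T_mul_neg hxx]; exact one_mem_MS M)
    | one => exact one_mem_MS M
    | mul A B _ _ ihA ihB => exact MS_mul ihA ihB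
  obtain ⟨g', hg', hgg'⟩ := key _ hTT
  have : g' = g := Units.ext hgg'
  rw [← this]; exact hg'

end Cfsg.Agent.S5655K1.EV
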