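import Mathlib
import Cfsg.Agent.Helper3.S5655EVDefs
import Cfsg.Agent.Helper20.S5655EVMONO
import Cfsg.Agent.Helper14.S5655EVQ2FIELD

set_option autoImplicit false
set_option linter.unusedSectionVars false
set_option linter.unusedVariables false

/-! # S5655 k = 1, chapter "q EVEN", piece Q2TRANS: `N` is transitive on the isotropic vectors of
weight `w < n` (`q = 2`) -/

namespace Cfsg.Agent.S5655K1.EV

open Matrix
open Cfsg.Agent.S2644 Cfsg.Agent.Helper2.SUGen Cfsg.Agent.Helper28.SimMax Cfsg.Agent.S5658P

variable {K : Type*} [Field K] {q n : ℕ}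

local notation "h" => Cfsg.hermForm n K q
local notation "T" => Cfsg.unitaryTransvection n q

theorem Q2TRANS.main [Fintype K] (D : Frob K 2) (hK : Fintype.card K = 2 ^ 2)
    {M : Subgroup (Matrix.GeneralLinearGroup (Fin n) K)} (hM : Over 2 M) {w : ℕ} (hw : w < n)
    {v : Fin n → K} (hvv : Cfsg.hermForm n K 2 v v = 0) (hwt : wt v = w)
    (hT : Cfsg.unitaryTransvection n 2 v (1 : K) ∈ MS M) : Good 2 M w := by
  classical
  intro z hzz hwz
  have h2 : (2 : K) = 0 := Q2FIELD.two_eq_zero hK
  -- a permutation mapping the support of `v` onto the support of `z`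
  have hcard : Fintype.card {x // v x ≠ 0} = Fintype.card {x // z x ≠ 0} := by
    rw [Fintype.card_subtype, Fintype.card_subtype]
    have h1 : wt v = wt z := by rw [hwt, hwz]
    unfold wt supp at h1
    convert h1
  obtain ⟨e⟩ := Fintype.card_eq.1 hcard
  set π : Equiv.Perm (Fin n) := e.extendSubtype with hπ
  have hπmem : ∀ x, v x ≠ 0 → z (π x) ≠ 0 := fun x hx => e.extendSubtype_mem x hx
  have hπnot : ∀ x, ¬ (v x ≠ 0) → ¬ (z (π x) ≠ 0) := fun x hx => e.extendSubtype_not_mem x hx
  -- a point outside the support of `v`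
  have hex : ∃ j0, v j0 = 0 := by
    by_contra hcon
    push Not at hcon
    have : wt v = n := by
      unfold wt supp
      rw [Finset.filter_true_of_mem (fun i _ => hcon i), Finset.card_univ, Fintype.card_fin]
    omega
  obtain ⟨j0, hj0⟩ := hex
  -- the diagonal part
  set d0 : Fin n → K := fun j => if v j ≠ 0 then z (π j) / v j else 1 with hd0
  have hd0ne : ∀ j, d0 j ≠ 0 := by
    intro j
    simp only [hd0]
    split_ifs with hj
    · exact div_ne_zero (hπmem j hj) hj
    · exact one_ne_zero
  set P : K := ∏ j, d0 j with hP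
  have hPne : P ≠ 0 := Finset.prod_ne_zero_iff.2 (fun j _ => hd0ne j)
  set d : Fin n → K := Function.update d0 j0 P⁻¹ with hd
  have hdne : ∀ j, d j ≠ 0 := by
    intro j
    by_cases hj : j = j0
    · subst hj; rw [hd, Function.update_self]; exact inv_ne_zero hPne
    · rw [hd, Function.update_of_ne hj]; exact hd0ne j
  have hprod : ∏ j, d j = 1 := by
    rw [hd, Finset.prod_update_of_mem (Finset.mem_univ j0)]
    have hd0j0 : d0 j0 = 1 := by simp [hd0, hj0]
    have h3 := Finset.prod_sdiff (f := d0) (Finset.subset_univ ({j0} : Finset (Fin n)))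
    rw [Finset.prod_singleton, hd0j0, mul_one] at h3
    rw [h3, ← hP, inv_mul_cancel₀ hPne]
  have hdN : ∀ j, d j * D.σ (d j) = 1 := fun j => Q2FIELD.norm_one D hK (hdne j)
  have hA : mono π d ∈ MS M := MONO.mem D h2 hM π hdN hprod
  have hAv : mono π d *ᵥ v = z := by
    funext i
    rw [MONO.mulVec]
    by_cases hx : v (π.symm i) ≠ 0
    · have hne : π.symm i ≠ j0 := by
        intro h'
        rw [h'] at hx
        exact hx hj0
      rw [hd, Function.update_of_ne hne]
      simp only [hd0, if_pos hx]
      rw [Equiv.apply_symm_apply, div_mul_cancel₀ _ hx]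
    · have h0 : v (π.symm i) = 0 := not_not.1 hx
      have h4 := hπnot _ hx
      rw [Equiv.apply_symm_apply] at h4
      rw [h0, mul_zero, not_not.1 h4]
  have h5 := MS_conj_T D hM.le hA hT
  rwa [hAv] at h5

end Cfsg.Agent.S5655K1.EV
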