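import Mathlib
import Cfsg.Agent.Helper3.S5655EVDefs
import Cfsg.Agent.Helper6.S5655EVTMONO

set_option autoImplicit false
set_option linter.unusedSectionVars false
set_option linter.unusedVariables false

/-! # S5655 k = 1, chapter "q EVEN", piece E2ZERO: under (B) a centre with a zero coordinate has
weight 2 -/

namespace Cfsg.Agent.S5655K1.EV

open Matrix
open Cfsg.Agent.S2644 Cfsg.Agent.Helper2.SUGen Cfsg.Agent.Helper28.SimMax Cfsg.Agent.S5658P

variable {K : Type*} [Field K] {q n : ℕ}

local notation "h" => Cfsg.hermForm n K q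
local notation "T" => Cfsg.unitaryTransvection n q

/-- the column `i` of `T v c` is `e_i` when `v i = 0` -/
theorem E2ZERO.col_T_of_zero (D : Frob K q) (v : Fin n → K) (c : K) {i : Fin n} (hi : v i = 0) :
    col (T v c) i = Pi.single i 1 := by
  funext j
  show (T v c) j i = _
  rw [TMONO.T_apply, ← D.pow, hi, map_zero, mul_zero, mul_zero, add_zero]
  by_cases hji : j = i
  · subst hji; rw [if_pos rfl, Pi.single_eq_same]
  · rw [if_neg hji, Pi.single_eq_of_ne hji]

theorem E2ZERO.wt_single_one (i : Fin n) : wt (Pi.single i (1 : K) : Fin n → K) = 1 := by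
  classical
  have : supp (Pi.single i (1 : K) : Fin n → K) = {i} := by
    ext j
    rw [mem_supp, Finset.mem_singleton]
    constructor
    · intro hj
      by_contra hji
      exact hj (Pi.single_eq_of_ne hji _)
    · rintro rfl
      rw [Pi.single_eq_same]
      exact one_ne_zero
  unfold wt
  rw [this, Finset.card_singleton]

theorem E2ZERO.main (D : Frob K q) {M : Subgroup (Matrix.GeneralLinearGroup (Fin n) K)}
    (hB : PropB M) {v : Fin n → K} (hvv : h v v = 0) (hv : v ≠ 0) (hT : T v (1 : K) ∈ MS M)
    {i : Fin n} (hi : v i = 0) : wt v = 2 := by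
  have hcol : col (T v (1 : K)) i = Pi.single i 1 := E2ZERO.col_T_of_zero D v 1 hi
  have hmono : IsMono (T v (1 : K)) := by
    refine hB _ hT ⟨i, ?_⟩
    rw [hcol, E2ZERO.wt_single_one i]
  exact TMONO.wt_eq_two D hvv hv hmono

end Cfsg.Agent.S5655K1.EV
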