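import Mathlib
import Cfsg.Prelude.Def_GeometricClasses
import Cfsg.Agent.Helper2.S5886.Defs
import Cfsg.Agent.Helper2.S5664.Defs
import Cfsg.Agent.Helper22.S5886YADD
import Cfsg.Agent.Helper4.S5664YTOR

/-! # S5664 piece YPOL: polarisation of the torus action `A ↦ e • A ∘ (e •)` on `yset` -/

set_option autoImplicit false

namespace Cfsg.Agent.S5664P

open Cfsg.Agent.S5886P

variable {F K V : Type*} [Field F] [Field K] [Algebra F K]
  [AddCommGroup V] [Module F V] [Module K V] [IsScalarTower F K V]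

namespace YPOL

/-- `T_e A = e • A ∘ (e •)` lies in `yset` for every `e` (YTOR, and `T_0 = 0`). -/
theorem T_mem [Finite F] [Finite K] [Finite V] (B : V →ₗ[K] V →ₗ[K] K) (hB : IsAltND B)
    (M : Subgroup (V ≃ₗ[F] V)) (hK : SpK F B ≤ M) (hM : M ≤ SpF F B) (v : V) (hv : v ≠ 0)
    (e : K) (A : V →ₗ[F] V) (hA : A ∈ yset M (Kline (F := F) (K := K) v)) :
    e • (A ∘ₗ DistribSMul.toLinearMap F V e) ∈ yset M (Kline (F := F) (K := K) v) := by
  by_cases he : e = 0
  · rw [he, zero_smul]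
    exact YADD.zero M _
  · exact YTOR B hB M hK hM v hv e he A hA

theorem ident (e e' : K) (A : V →ₗ[F] V) :
    e • (A ∘ₗ DistribSMul.toLinearMap F V e') + e' • (A ∘ₗ DistribSMul.toLinearMap F V e) =
      (e + e') • (A ∘ₗ DistribSMul.toLinearMap F V (e + e')) +
        (-(e • (A ∘ₗ DistribSMul.toLinearMap F V e)) +
          -(e' • (A ∘ₗ DistribSMul.toLinearMap F V e'))) := by
  apply LinearMap.ext
  intro x
  simp only [LinearMap.add_apply, LinearMap.smul_apply, LinearMap.comp_apply,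
    DistribSMul.toLinearMap_apply, LinearMap.neg_apply, add_smul, map_add, smul_add]
  abel

end YPOL

/-- YPOL (S-M): `T_{e+e'} A - T_e A - T_e' A` with `T_e A = e • A ∘ (e •)` (YTOR; treat `e = 0`, `e' = 0`, `e + e' = 0` separately: `T_0 = 0`), YADD.add / YADD.neg. -/
theorem YPOL [Finite F] [Finite K] [Finite V] (B : V →ₗ[K] V →ₗ[K] K) (hB : IsAltND B)
    (M : Subgroup (V ≃ₗ[F] V)) (hK : SpK F B ≤ M) (hM : M ≤ SpF F B) (v : V) (hv : v ≠ 0)
    (e e' : K) (A : V →ₗ[F] V) (hA : A ∈ yset M (Kline (F := F) (K := K) v)) :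
    e • (A ∘ₗ DistribSMul.toLinearMap F V e') + e' • (A ∘ₗ DistribSMul.toLinearMap F V e) ∈
      yset M (Kline (F := F) (K := K) v) := by
  rw [YPOL.ident]
  refine YADD.add M _ _ _ (YPOL.T_mem B hB M hK hM v hv (e + e') A hA) ?_
  refine YADD.add M _ _ _ (YADD.neg M _ _ (YPOL.T_mem B hB M hK hM v hv e A hA))
    (YADD.neg M _ _ (YPOL.T_mem B hB M hK hM v hv e' A hA))

end Cfsg.Agent.S5664P
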