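import Mathlib
import Cfsg.Agent.Helper5.VL.Defs

set_option autoImplicit false
set_option linter.style.haveILetI false
set_option linter.unusedSectionVars false
set_option linter.unusedVariables false

/-!
# S3777 board, piece MAXP: every proper subgroup of a finite `p`-group lies in the kernel of a
nontrivial functional.
-/

namespace Cfsg.Agent.Helper5.VL

open Subgroup
open scoped commutatorElement

universe u
variable {p : ℕ} [Fact p.Prime] {G : Type u} [Group G] [Finite G]

/-- MAXP -/
theorem maxp (hG : IsPGroup p G) {H : Subgroup G} (hH : H ≠ ⊤) :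
    ∃ ψ : Fn p G, ψ ≠ 1 ∧ H ≤ ψ.ker := by
  classical
  have hp : p.Prime := Fact.out
  -- a coatom above `H`
  obtain ⟨M, hM, hHM⟩ := (eq_top_or_exists_le_coatom H).resolve_left hH
  -- it is normal
  haveI : Group.IsNilpotent G := hG.isNilpotent
  haveI hMn : M.Normal :=
    Subgroup.NormalizerCondition.normal_of_coatom M Group.normalizerCondition_of_isNilpotent hM
  -- the quotient is a `p`-group all of whose subgroups are trivial
  have hQ : IsPGroup p (G ⧸ M) := hG.to_quotient M
  have hsub : ∀ L : Subgroup (G ⧸ M), L = ⊥ ∨ L = ⊤ := by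
    intro L
    have hle : M ≤ L.comap (QuotientGroup.mk' M) := by
      intro m hm
      rw [Subgroup.mem_comap]
      have : QuotientGroup.mk' M m = 1 := (QuotientGroup.eq_one_iff m).mpr hm
      rw [this]; exact L.one_mem
    rcases eq_or_lt_of_le hle with heq | hlt
    · left
      rw [eq_bot_iff]
      intro q hq
      induction q using QuotientGroup.induction_on with
      | H g =>
        have : g ∈ L.comap (QuotientGroup.mk' M) := hq
        rw [← heq] at this
        rw [Subgroup.mem_bot]
        exact (QuotientGroup.eq_one_iff g).mpr this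
    · right
      have htop := hM.2 _ hlt
      rw [eq_top_iff]
      intro q _
      induction q using QuotientGroup.induction_on with
      | H g =>
        have : g ∈ L.comap (QuotientGroup.mk' M) := by rw [htop]; exact Subgroup.mem_top g
        exact this
  -- the quotient is nontrivial
  obtain ⟨g, hg⟩ : ∃ g : G, g ∉ M := by
    by_contra hcon
    push Not at hcon
    exact hM.1 (eq_top_iff.mpr fun g _ => hcon g)
  have hne : (QuotientGroup.mk' M g) ≠ 1 := fun h => hg ((QuotientGroup.eq_one_iff g).mp h)
  -- an element of order `p`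
  haveI : Nontrivial (G ⧸ M) := ⟨⟨_, _, hne⟩⟩
  have hcard : Nat.card (G ⧸ M) = p := by
    obtain ⟨n, hn⟩ := IsPGroup.iff_card.mp hQ
    have hn0 : n ≠ 0 := by
      rintro rfl
      rw [pow_zero] at hn
      have := (Nat.card_eq_one_iff_unique.mp hn).1
      exact hne (Subsingleton.elim _ _)
    have hdvd : p ∣ Nat.card (G ⧸ M) := by
      rw [hn]; exact dvd_pow_self p hn0
    obtain ⟨q, hq⟩ := exists_prime_orderOf_dvd_card' p hdvd
    have hq1 : q ≠ 1 := by
      rintro rfl
      rw [orderOf_one] at hq
      exact hp.one_lt.ne hq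
    have hz : zpowers q = ⊤ := by
      rcases hsub (zpowers q) with h | h
      · exact absurd (Subgroup.zpowers_eq_bot.mp h) hq1
      · exact h
    rw [← Nat.card_congr (Subgroup.topEquiv (G := G ⧸ M)).toEquiv, ← hz, Nat.card_zpowers, hq]
  have hcard' : Nat.card (Multiplicative (ZMod p)) = p := by
    rw [Nat.card_congr Multiplicative.toAdd, Nat.card_zmod]
  let e : (G ⧸ M) ≃* Multiplicative (ZMod p) := mulEquivOfPrimeCardEq hcard hcard'
  refine ⟨e.toMonoidHom.comp (QuotientGroup.mk' M), ?_, ?_⟩
  · intro h1
    have : (e.toMonoidHom.comp (QuotientGroup.mk' M)) g = 1 := by rw [h1]; rfl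
    rw [MonoidHom.comp_apply] at this
    have h2 : e (QuotientGroup.mk' M g) = 1 := this
    exact hne (e.map_eq_one_iff.mp h2)
  · intro x hx
    rw [MonoidHom.mem_ker, MonoidHom.comp_apply]
    have : QuotientGroup.mk' M x = 1 := (QuotientGroup.eq_one_iff x).mpr (hHM hx)
    rw [this]; exact map_one _

end Cfsg.Agent.Helper5.VL
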