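import Mathlib
import Cfsg.Prelude.Def_Characters
import Cfsg.Agent.Helper12.LSLDefs
import Cfsg.Agent.Helper18.LSLPROJA

set_option autoImplicit false

/-! S2332, piece PROJC: trace and rank of the isotypic projections. -/

namespace Cfsg.Agent.Helper12.LSL

open Matrix Cfsg

variable {F : Type*} [Field F] {m : ℕ}

section generic

variable {G : Type*} [Group G] {V : Type*} [AddCommGroup V] [Module ℂ V]
  {A : Type*} [Group A] [Fintype A]

theorem trace_projOp [FiniteDimensional ℂ V] (ρ : Representation ℂ G V) (U : A →* G)
    (l : A →* ℂ) :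
    LinearMap.trace ℂ V (projOp ρ U l) =
      classInner (fun a => ρ.character (U a)) (fun a => l a) := by
  unfold projOp classInner
  rw [map_smul, map_sum, Nat.card_eq_fintype_card, smul_eq_mul]
  congr 1
  refine Finset.sum_congr rfl fun a _ => ?_
  rw [map_smul, smul_eq_mul, mul_comm]
  rfl

theorem finrank_range_projOp [FiniteDimensional ℂ V] (ρ : Representation ℂ G V) (U : A →* G)
    (l : A →* ℂ) :
    (Module.finrank ℂ (LinearMap.range (projOp ρ U l)) : ℂ) =
      LinearMap.trace ℂ V (projOp ρ U l) := by
  have hid : IsIdempotentElem (projOp ρ U l) := by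
    show projOp ρ U l * projOp ρ U l = projOp ρ U l
    rw [Module.End.mul_eq_comp]
    exact projOp_comp_self ρ U l
  have hp := (LinearMap.isProj_range_iff_isIdempotentElem (projOp ρ U l)).mpr hid
  exact (hp.trace).symm

end generic

end Cfsg.Agent.Helper12.LSL
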