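import Mathlib
import Cfsg.Prelude.Def_Characters
import Cfsg.Agent.Helper12.LOPDefs
import Cfsg.Agent.Helper12.LSLDefs
import Cfsg.Agent.Helper19.LOPPLANE

set_option autoImplicit false

/-! S2345 piece LR: long root elements of `Ω⁺` are all conjugate. -/

namespace Cfsg.Agent.Helper12.LOP

open Matrix Cfsg Cfsg.Agent.Helper28.Sg Cfsg.Agent.Helper28.Spin Cfsg.Agent.Helper12.LSL

variable {F : Type*} [Field F] {n : ℕ}

namespace LR

/-- the standard long root element `E(e_0, e_1)` -/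
noncomputable def s0 (n : ℕ) (F : Type*) [Field F] : GO (n + 3) F :=
  sg (by omega) (eb 0) (eb 1) (Q_eb 0) (B_eb_eb 0 1)

theorem s0_ne_one : (s0 n F) ≠ 1 := by
  intro h
  have h1 := congrArg (fun g : GO (n + 3) F => mt (QfPlus (n + 3) F) g.1 *ᵥ (fb 0 : VV (n + 3) F)) h
  simp only [s0, sg_val, siegO_mulVec] at h1
  have h2 : mt (QfPlus (n + 3) F) ((1 : GO (n + 3) F) : OO (n + 3) F) *ᵥ (fb 0 : VV (n + 3) F) = fb 0 :=
    mt_one_mulVec _ _
  rw [h2, Q_eb, zero_mul, zero_smul, sub_zero, B_eb_fb, B_eb_fb] at h1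
  have h3 := congrFun h1 (Sum.inl 1)
  simp [fb, eb] at h3

/-- the block embedding maps Siegel transformations to Siegel transformations -/
theorem beta_siegO (u v : VV n F) (hu : QfPlus n F u = 0) (huv : B (QfPlus n F) u v = 0)
    (hu' : QfPlus (n + 1) F (jj u) = 0) (huv' : B (QfPlus (n + 1) F) (jj u) (jj v) = 0) :
    beta (siegO (QfPlus n F) u v hu huv) = siegO (QfPlus (n + 1) F) (jj u) (jj v) hu' huv' := by
  apply O_ext
  intro x
  rw [mt_beta, extM_mulVec, siegO_mulVec, siegO_mulVec, B_jj, B_jj, Q_jj]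
  conv_rhs => rw [decomp x]
  simp only [map_add, map_sub, map_smul, pp_ee, pp_ff, pp_jj, smul_zero, zero_add, add_zero]
  module

/-- a trivial Siegel transformation -/
theorem siegO_eq_one_of_dep {m : ℕ} (u v : VV m F) (hu : QfPlus m F u = 0)
    (huv : B (QfPlus m F) u v = 0) (hdep : ¬ Indep u v) :
    siegO (QfPlus m F) u v hu huv = 1 := by
  unfold Indep at hdep
  push Not at hdep
  obtain ⟨x, y, hxy, hne⟩ := hdep
  apply O_ext
  intro z
  rw [siegO_mulVec, mt_one_mulVec]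
  by_cases hy : y = 0
  · subst hy
    have hx : x ≠ 0 := fun h => by
      have := hne h
      exact this rfl
    rw [zero_smul, add_zero] at hxy
    have hu0 : u = 0 := by
      rcases smul_eq_zero.mp hxy with h | h
      · exact absurd h hx
      · exact h
    subst hu0
    simp [B]
  · have hv : v = (-(y⁻¹ * x)) • u := by
      have h1 : y • v = -(x • u) := by
        rw [eq_neg_iff_add_eq_zero, add_comm]; exact hxy
      calc v = y⁻¹ • (y • v) := by rw [smul_smul, inv_mul_cancel₀ hy, one_smul]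
        _ = -(y⁻¹ * x) • u := by rw [h1, smul_neg, smul_smul, neg_smul]
    rw [hv]
    simp only [B, QuadraticMap.polar_smul_left, smul_eq_mul, Q_smul, hu]
    module

end LR

theorem uQ_mem_lrSet (w : VV (n + 3) F) (hw : QfPlus (n + 3) F w = 0) (hw0 : w ≠ 0) :
    uQ w ∈ lrSet (n + 4) F := by
  refine ⟨ee, jj w, Q_ee, by rw [Q_jj]; exact hw, B_ee_jj w, ?_, uQ_val w⟩
  intro h
  apply hw0
  apply uQ_injective
  rw [h, uQ_zero]

theorem lev_sg_mem_lrSet :
    lev (sg (by omega) (eb 0) (eb 1) (Q_eb 0) (B_eb_eb 0 1) : GO (n + 3) F) ∈ lrSet (n + 4) F := by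
  refine ⟨jj (eb 0), jj (eb 1), by rw [Q_jj]; exact Q_eb 0, by rw [Q_jj]; exact Q_eb 1,
    by rw [B_jj_jj]; exact B_eb_eb 0 1, ?_, ?_⟩
  · intro h
    apply LR.s0_ne_one (n := n) (F := F)
    apply lev_injective
    rw [map_one]
    exact h
  · rw [lev_val, sg_val]
    exact LR.beta_siegO _ _ _ _ _ _

theorem isConj_of_mem_lrSet [Fintype F] (g g' : GO (n + 4) F) (hg : g ∈ lrSet (n + 4) F)
    (hg' : g' ∈ lrSet (n + 4) F) : IsConj g g' := by
  have key : ∀ g : GO (n + 4) F, g ∈ lrSet (n + 4) F → IsConj (LR.s0 (n + 1) F) g := by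
    intro g hg
    obtain ⟨u, v, hu, hv, huv, hg1, hgv⟩ := hg
    have hind : Indep u v := by
      by_contra hdep
      apply hg1
      apply Subtype.ext
      rw [hgv]
      exact LR.siegO_eq_one_of_dep u v hu huv hdep
    have hm : 3 ≤ n + 4 := by omega
    obtain ⟨g0, hg0a, hg0b⟩ := witt_pair (Q_nondeg (F := F) (n + 4)) (stdFrame3 hm) u v hind
    rw [hu, zero_smul, add_zero] at hg0a
    rw [hv, huv, zero_smul, zero_smul, add_zero, add_zero] at hg0b
    obtain ⟨h, hfix, hmem⟩ := exists_plane_correction hm g0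
    have he0 : (stdFrame3 (F := F) hm).e 0 = (eb 0 : VV (n + 4) F) := by
      rw [stdFrame3_e]; rfl
    have he1 : (stdFrame3 (F := F) hm).e 1 = (eb 1 : VV (n + 4) F) := by
      rw [stdFrame3_e]; rfl
    rw [he0] at hg0a
    rw [he1] at hg0b
    have hh0 : mt (QfPlus (n + 4) F) h *ᵥ (eb 0 : VV (n + 4) F) = eb 0 := by
      apply hfix <;> simp [eb, Fin.ext_iff, Fin.castLE]
    have hh1 : mt (QfPlus (n + 4) F) h *ᵥ (eb 1 : VV (n + 4) F) = eb 1 := by
      apply hfix <;> simp [eb, Fin.ext_iff, Fin.castLE]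
    have hk0 : mt (QfPlus (n + 4) F) (g0 * h) *ᵥ (eb 0 : VV (n + 4) F) = u := by
      rw [mt_mul_mulVec, hh0, hg0a]
    have hk1 : mt (QfPlus (n + 4) F) (g0 * h) *ᵥ (eb 1 : VV (n + 4) F) = v := by
      rw [mt_mul_mulVec, hh1, hg0b]
    rw [isConj_iff]
    refine ⟨⟨g0 * h, hmem⟩, ?_⟩
    apply Subtype.ext
    rw [hgv]
    show (g0 * h) * (LR.s0 (n + 1) F : GO (n + 4) F).1 * (g0 * h)⁻¹ = _
    rw [LR.s0, sg_val, siegO_conj (QfPlus (n + 4) F) (g0 * h) (Q_eb 0) (B_eb_eb 0 1)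
      (by rw [hk0]; exact hu) (by rw [hk0, hk1]; exact huv)]
    exact siegO_congr _ _ _ _ _ hk0 hk1
  exact (key g hg).symm.trans (key g' hg')

end Cfsg.Agent.Helper12.LOP
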