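import Mathlib
import Cfsg.Prelude.Def_Characters
import Cfsg.Agent.Helper12.LOPDefs
import Cfsg.Agent.Helper12.LSLDefs
import Cfsg.Agent.Helper23.LOPTRANS
import Cfsg.Agent.Helper8.LOPCOUNT

set_option autoImplicit false

/-! S2345 piece PAIRS: the number of pairs `(u, v)` with `E(u, v)` a long root element. -/

namespace Cfsg.Agent.Helper12.LOP

open Matrix Cfsg Cfsg.Agent.Helper28.Sg Cfsg.Agent.Helper28.Spin Cfsg.Agent.Helper12.LSL

variable {F : Type*} [Field F] {n : ℕ}

namespace PAIRS

/-- a trivial Siegel matrix -/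
theorem siegM_eq_one_of_dep {m : ℕ} (u v : VV m F) (hu : QfPlus m F u = 0)
    (hdep : ¬ Indep u v) : siegM (QfPlus m F) u v = 1 := by
  unfold Indep at hdep
  push Not at hdep
  obtain ⟨x, y, hxy, hne⟩ := hdep
  apply matrix_ext_mulVec
  intro z
  rw [siegM_mulVec, Matrix.one_mulVec]
  by_cases hy : y = 0
  · subst hy
    have hx : x ≠ 0 := fun h => by
      have := hne h
      exact this rfl
    rw [zero_smul, add_zero] at hxy
    have hu0 : u = 0 := by
      rcases smul_eq_zero.mp hxy with h | h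
      · exact absurd h hx
      · exact h
    subst hu0
    simp [B]
  · have hv : v = (-(y⁻¹ * x)) • u := by
      have h1 : y • v = -(x • u) := by
        rw [eq_neg_iff_add_eq_zero, add_comm]; exact hxy
      calc v = y⁻¹ • (y • v) := by rw [smul_smul, inv_mul_cancel₀ hy, one_smul]
        _ = -(y⁻¹ * x) • u := by rw [h1, smul_neg, smul_smul, neg_smul]
    rw [hv]
    simp only [B, QuadraticMap.polar_smul_left, smul_eq_mul, Q_smul, hu]
    module

/-- a nontrivial Siegel matrix -/
theorem siegM_ne_one_of_indep {m : ℕ} (u v : VV m F) (hv : QfPlus m F v = 0)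
    (hind : Indep u v) : siegM (QfPlus m F) u v ≠ 1 := by
  intro h
  have hu0 : u ≠ 0 := by
    rintro rfl
    have := hind 1 0 (by simp)
    exact one_ne_zero this.1
  obtain ⟨y, hy⟩ := exists_pair_one (Q_nondeg (F := F) m) hu0
  have h1 := congrArg (fun M : Matrix _ _ F => M *ᵥ y) h
  simp only [siegM_mulVec, Matrix.one_mulVec, hy, hv, zero_mul, zero_smul, sub_zero, one_smul] at h1
  have h2 : (-(B (QfPlus m F) v y)) • u + (1 : F) • v = 0 := by
    have : y + v - B (QfPlus m F) v y • u = y := h1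
    rw [neg_smul, one_smul]
    have h3 : v - B (QfPlus m F) v y • u = 0 := by
      have := congrArg (fun z => z - y) this
      simp only [sub_self] at this
      rw [← this]; abel
    rw [← h3]; abel
  exact one_ne_zero (hind _ _ h2).2

theorem siegM_ne_one_iff {m : ℕ} (u v : VV m F) (hu : QfPlus m F u = 0) (hv : QfPlus m F v = 0) :
    siegM (QfPlus m F) u v ≠ 1 ↔ Indep u v := by
  constructor
  · intro h
    by_contra hdep
    exact h (siegM_eq_one_of_dep u v hu hdep)
  · exact siegM_ne_one_of_indep u v hv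

/-- independence is preserved by isometries -/
theorem indep_map {m : ℕ} (g : OO m F) (u v : VV m F) :
    Indep (mt (QfPlus m F) g *ᵥ u) (mt (QfPlus m F) g *ᵥ v) ↔ Indep u v := by
  constructor
  · intro h x y hxy
    apply h x y
    rw [← Matrix.mulVec_smul, ← Matrix.mulVec_smul, ← Matrix.mulVec_add, hxy, Matrix.mulVec_zero]
  · intro h x y hxy
    apply h x y
    have := congrArg (fun z => mt (QfPlus m F) g⁻¹ *ᵥ z) hxy
    simp only [Matrix.mulVec_add, Matrix.mulVec_smul, mt_inv_mulVec, Matrix.mulVec_zero] at this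
    exact this

/-- the set of partners of `u` -/
def partners {m : ℕ} (u : VV m F) : Set (VV m F) :=
  {v | QfPlus m F v = 0 ∧ B (QfPlus m F) u v = 0 ∧ Indep u v}

/-- an isometry moves partner sets -/
noncomputable def partnersEquiv {m : ℕ} (g : OO m F) (u : VV m F) :
    partners u ≃ partners (mt (QfPlus m F) g *ᵥ u) where
  toFun v := ⟨mt (QfPlus m F) g *ᵥ v.1, by
    obtain ⟨h1, h2, h3⟩ := v.2
    exact ⟨by rw [isom_apply]; exact h1, by rw [B_isom]; exact h2, (indep_map g u v.1).mpr h3⟩⟩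
  invFun v := ⟨mt (QfPlus m F) g⁻¹ *ᵥ v.1, by
    obtain ⟨h1, h2, h3⟩ := v.2
    refine ⟨by rw [isom_apply]; exact h1, ?_, ?_⟩
    · have := B_isom (QfPlus m F) g⁻¹ (mt (QfPlus m F) g *ᵥ u) v.1
      rw [mt_inv_mulVec] at this
      rw [this]; exact h2
    · have := (indep_map g⁻¹ (mt (QfPlus m F) g *ᵥ u) v.1).mpr h3
      rwa [mt_inv_mulVec] at this⟩
  left_inv v := by
    apply Subtype.ext
    exact mt_inv_mulVec _ _ _
  right_inv v := by
    apply Subtype.ext
    exact mt_mulVec_inv _ _ _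

/-- partners of `ee` -/
theorem mem_partners_ee (v : VV (n + 1) F) :
    v ∈ partners (ee : VV (n + 1) F) ↔
      v (Sum.inr 0) = 0 ∧ QfPlus n F (pp v) = 0 ∧ pp v ≠ 0 := by
  unfold partners
  simp only [Set.mem_ofPred_eq]
  rw [B_ee, Q_succ]
  constructor
  · rintro ⟨h1, h2, h3⟩
    rw [h2, mul_zero, zero_add] at h1
    refine ⟨h2, h1, ?_⟩
    intro hp
    have hv : v = v (Sum.inl 0) • (ee : VV (n + 1) F) := by
      conv_lhs => rw [decomp v, h2, hp, map_zero, zero_smul, add_zero, add_zero]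
    have := h3 (v (Sum.inl 0)) (-1) (by rw [neg_smul, one_smul, ← hv, add_neg_cancel])
    have h4 := this.2
    norm_num at h4
  · rintro ⟨h1, h2, h3⟩
    refine ⟨by rw [h1, mul_zero, zero_add]; exact h2, h1, ?_⟩
    intro x y hxy
    have h4 := congrArg pp hxy
    simp only [map_add, map_smul, pp_ee, smul_zero, zero_add, map_zero] at h4
    have hy : y = 0 := by
      rcases smul_eq_zero.mp h4 with h | h
      · exact h
      · exact absurd h h3
    subst hy
    rw [zero_smul, add_zero] at hxy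
    have h5 := congrFun hxy (Sum.inl 0)
    simp [ee] at h5
    exact ⟨h5, rfl⟩

/-- partners of `ee` are `a • ee + jj w`, `w` singular nonzero -/
noncomputable def partnersEE :
    partners (ee : VV (n + 1) F) ≃ F × {w : VV n F // QfPlus n F w = 0 ∧ w ≠ 0} where
  toFun v := (v.1 (Sum.inl 0), ⟨pp v.1, ((mem_partners_ee v.1).mp v.2).2⟩)
  invFun p := ⟨p.1 • (ee : VV (n + 1) F) + jj p.2.1, by
    rw [mem_partners_ee]
    simp only [map_add, map_smul, pp_ee, smul_zero, zero_add, pp_jj]
    refine ⟨by simp [ee], p.2.2.1, p.2.2.2⟩⟩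
  left_inv v := by
    apply Subtype.ext
    have h := (mem_partners_ee v.1).mp v.2
    show v.1 (Sum.inl 0) • (ee : VV (n + 1) F) + jj (pp v.1) = v.1
    conv_rhs => rw [decomp v.1, h.1, zero_smul, add_zero]
  right_inv p := by
    apply Prod.ext
    · show (p.1 • (ee : VV (n + 1) F) + jj p.2.1) (Sum.inl 0) = p.1
      simp [ee]
    · apply Subtype.ext
      show pp (p.1 • (ee : VV (n + 1) F) + jj p.2.1) = p.2.1
      simp only [map_add, map_smul, pp_ee, smul_zero, zero_add, pp_jj]

theorem card_partners_ee [Fintype F] :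
    Nat.card (partners (ee : VV (n + 1) F)) =
      Fintype.card F * Nat.card {w : VV n F // QfPlus n F w = 0 ∧ w ≠ 0} := by
  rw [Nat.card_congr partnersEE, Nat.card_prod, Nat.card_eq_fintype_card (α := F)]

theorem card_sing_ne [Fintype F] (m : ℕ) (hm : 1 ≤ m) :
    Nat.card {w : VV m F // QfPlus m F w = 0 ∧ w ≠ 0} =
      Fintype.card F ^ (2 * m - 1) + Fintype.card F ^ m - Fintype.card F ^ (m - 1) - 1 := by
  classical
  rw [Nat.card_eq_fintype_card, Fintype.card_subtype]
  have h1 : (Finset.univ.filter (fun w : VV m F => QfPlus m F w = 0 ∧ w ≠ 0)) =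
      (Finset.univ.filter (fun w : VV m F => QfPlus m F w = 0)).erase 0 := by
    ext w
    simp only [Finset.mem_filter, Finset.mem_univ, true_and, Finset.mem_erase]
    tauto
  rw [h1, Finset.card_erase_of_mem (by simp), ← card_sing m hm]

theorem card_partners [Fintype F] (u : VV (n + 4) F) (hu : QfPlus (n + 4) F u = 0) (hu0 : u ≠ 0) :
    Nat.card (partners u) = Fintype.card F *
      (Fintype.card F ^ (2 * n + 5) + Fintype.card F ^ (n + 3) - Fintype.card F ^ (n + 2) - 1) := by
  have hee0 : (ee : VV (n + 4) F) ≠ 0 := by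
    intro h
    have := congrFun h (Sum.inl 0)
    simp [ee] at this
  obtain ⟨g, hg⟩ := exists_omega_map_singular (n := n + 1) (F := F) (ee : VV (n + 4) F) u
    Q_ee hu hee0 hu0
  have e := partnersEquiv g.1 (ee : VV (n + 4) F)
  rw [hg] at e
  rw [← Nat.card_congr e, card_partners_ee, card_sing_ne (n + 3) (by omega)]
  congr 2

end PAIRS

/-! ### PAIRS -/
theorem card_lrPairs [Fintype F] :
    (lrPairs (n + 4) F).card =
      (Fintype.card F ^ (2 * n + 7) + Fintype.card F ^ (n + 4) - Fintype.card F ^ (n + 3) - 1) *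
      (Fintype.card F *
        (Fintype.card F ^ (2 * n + 5) + Fintype.card F ^ (n + 3) - Fintype.card F ^ (n + 2) - 1)) := by
  classical
  -- the sigma type of pairs
  let T := Σ u : {u : VV (n + 4) F // QfPlus (n + 4) F u = 0 ∧ u ≠ 0}, PAIRS.partners u.1
  have hT : Nat.card T =
      (Fintype.card F ^ (2 * n + 7) + Fintype.card F ^ (n + 4) - Fintype.card F ^ (n + 3) - 1) *
      (Fintype.card F *
        (Fintype.card F ^ (2 * n + 5) + Fintype.card F ^ (n + 3) - Fintype.card F ^ (n + 2) - 1)) := by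
    have : ∀ u : {u : VV (n + 4) F // QfPlus (n + 4) F u = 0 ∧ u ≠ 0},
        Finite (PAIRS.partners u.1) := fun u => Subtype.finite
    rw [Nat.card_sigma]
    rw [Finset.sum_congr rfl (fun u _ => PAIRS.card_partners u.1 u.2.1 u.2.2)]
    rw [Finset.sum_const, Finset.card_univ, smul_eq_mul, ← Nat.card_eq_fintype_card,
      PAIRS.card_sing_ne (n + 4) (by omega)]
    congr 2
  rw [← hT]
  rw [← Fintype.card_coe, ← Nat.card_eq_fintype_card]
  apply Nat.card_congr
  refine
    { toFun := fun p => ?_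
      invFun := fun t => ⟨(t.1.1, t.2.1), ?_⟩
      left_inv := ?_
      right_inv := ?_ }
  · have hp := (mem_lrPairs p.1).mp p.2
    have hind : Indep p.1.1 p.1.2 := (PAIRS.siegM_ne_one_iff _ _ hp.1 hp.2.1).mp hp.2.2.2
    have hu0 : p.1.1 ≠ 0 := by
      intro h
      have := hind 1 0 (by rw [h]; simp)
      exact one_ne_zero this.1
    exact ⟨⟨p.1.1, hp.1, hu0⟩, ⟨p.1.2, hp.2.1, hp.2.2.1, hind⟩⟩
  · rw [mem_lrPairs]
    obtain ⟨h1, h2, h3⟩ := t.2.2
    exact ⟨t.1.2.1, h1, h2, (PAIRS.siegM_ne_one_iff _ _ t.1.2.1 h1).mpr h3⟩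
  · intro p
    rfl
  · intro t
    rfl

end Cfsg.Agent.Helper12.LOP
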