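import Mathlib
import Cfsg.Prelude.Def_Characters
import Cfsg.Agent.Helper12.LSLDefs
import Cfsg.Agent.Helper18.LSLPROJA
import Cfsg.Agent.Helper18.LSLPROJC

set_option autoImplicit false

/-! S2332, piece LINE: the derived subgroup of the stabiliser of a linear character acts trivially
on a one-dimensional eigenspace. -/

namespace Cfsg.Agent.Helper12.LSL

open Matrix Cfsg
open scoped commutatorElement

variable {F : Type*} [Field F] {m : ℕ}

section generic

variable {G : Type*} [Group G] {V : Type*} [AddCommGroup V] [Module ℂ V]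
  {A : Type*} [Group A] [Fintype A]

/-- elements of the fixer preserve the eigenspace -/
theorem line_map_mem (ρ : Representation ℂ G V) (U : A →* G) (l : A →* ℂ) (g : G)
    (hg : g ∈ fixer U l) (w : V) (hw : w ∈ LinearMap.range (projOp ρ U l)) :
    ρ g w ∈ LinearMap.range (projOp ρ U l) := by
  obtain ⟨e, he, hl⟩ := hg
  obtain ⟨v, rfl⟩ := hw
  have h1 := LinearMap.congr_fun (rho_conj_projOp ρ U l l g e he hl) v
  rw [LinearMap.comp_apply, LinearMap.comp_apply] at h1
  rw [h1]
  exact LinearMap.mem_range_self _ _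

/-- the pointwise stabiliser of a submodule -/
def lineStab (ρ : Representation ℂ G V) (R : Submodule ℂ V) : Subgroup G where
  carrier := {g | ∀ w ∈ R, ρ g w = w}
  one_mem' := by
    intro w _
    rw [map_one, Module.End.one_apply]
  mul_mem' := by
    intro a b ha hb w hw
    rw [map_mul, Module.End.mul_apply, hb w hw, ha w hw]
  inv_mem' := by
    intro a ha w hw
    have h1 := ha w hw
    conv_lhs => rw [← h1]
    rw [← Module.End.mul_apply, ← map_mul, inv_mul_cancel, map_one, Module.End.one_apply]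

theorem line_fixed [FiniteDimensional ℂ V] (ρ : Representation ℂ G V) (U : A →* G) (l : A →* ℂ)
    (htr : LinearMap.trace ℂ V (projOp ρ U l) = 1) (h : G)
    (hh : h ∈ ⁅fixer U l, fixer U l⁆) (w : V) (hw : w ∈ LinearMap.range (projOp ρ U l)) :
    ρ h w = w := by
  have hfr : Module.finrank ℂ (LinearMap.range (projOp ρ U l)) = 1 := by
    have h1 := finrank_range_projOp ρ U l
    rw [htr] at h1
    exact_mod_cast h1
  obtain ⟨⟨w₀, hw₀R⟩, hw₀, hspan⟩ := finrank_eq_one_iff'.mp hfr
  have hw₀' : w₀ ≠ 0 := by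
    intro h0
    apply hw₀
    exact Subtype.ext h0
  have hsp : ∀ x ∈ LinearMap.range (projOp ρ U l), ∃ c : ℂ, c • w₀ = x := by
    intro x hx
    obtain ⟨c, hc⟩ := hspan ⟨x, hx⟩
    exact ⟨c, congrArg Subtype.val hc⟩
  -- each element of the fixer acts on `w₀` by a scalar
  have hsc : ∀ g ∈ fixer U l, ∃ α : ℂ, ρ g w₀ = α • w₀ := by
    intro g hg
    obtain ⟨c, hc⟩ := hsp _ (line_map_mem ρ U l g hg w₀ hw₀R)
    exact ⟨c, hc.symm⟩
  have hcomm : ∀ a ∈ fixer U l, ∀ b ∈ fixer U l, ρ (a * b) w₀ = ρ (b * a) w₀ := by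
    intro a ha b hb
    obtain ⟨α, hα⟩ := hsc a ha
    obtain ⟨β, hβ⟩ := hsc b hb
    rw [map_mul, map_mul, Module.End.mul_apply, Module.End.mul_apply, hα, hβ, map_smul, map_smul,
      hα, hβ, smul_comm]
  have hle : ⁅fixer U l, fixer U l⁆ ≤ lineStab ρ (LinearMap.range (projOp ρ U l)) := by
    rw [Subgroup.commutator_le]
    intro a ha b hb x hx
    have hba : (b * a)⁻¹ ∈ fixer U l := inv_mem (mul_mem hb ha)
    obtain ⟨ξ, hξ⟩ := hsc _ hba
    have e1 : ⁅a, b⁆ = (a * b) * (b * a)⁻¹ := by
      rw [commutatorElement_def]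
      group
    have e2 : ρ ⁅a, b⁆ w₀ = w₀ := by
      rw [e1, map_mul, Module.End.mul_apply, hξ, map_smul, hcomm a ha b hb, ← map_smul, ← hξ,
        ← Module.End.mul_apply, ← map_mul, mul_inv_cancel, map_one, Module.End.one_apply]
    obtain ⟨c, rfl⟩ := hsp x hx
    rw [map_smul, e2]
  exact hle hh w hw

end generic

end Cfsg.Agent.Helper12.LSL
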