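import Mathlib
import Cfsg.Prelude.Def_Characters
import Cfsg.Agent.Helper12.LSLDefs
import Cfsg.Agent.Helper18.LSLPROJA
import Cfsg.Agent.Helper18.LSLPROJB

set_option autoImplicit false

/-! S2332, piece TRACE: the trace of an element permuting the eigenspaces. -/

namespace Cfsg.Agent.Helper12.LSL

open Matrix Cfsg

variable {F : Type*} [Field F] {m : ℕ}

section generic

variable {G : Type*} [Group G] {V : Type*} [AddCommGroup V] [Module ℂ V]
  {A : Type*} [Group A] [Fintype A]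

theorem trace_rho_eq_sum [FiniteDimensional ℂ V] {ι : Type*} [Fintype ι] [DecidableEq ι]
    (ρ : Representation ℂ G V) (U : A →* G) (lam : ι → A →* ℂ) (hinj : Function.Injective lam)
    (horth : ∀ a : A, a ≠ 1 → ∑ i, lam i a = 0) (hcard : Fintype.card ι = Fintype.card A)
    (g : G) (e : A ≃ A) (he : ∀ a, U (e a) = g * U a * g⁻¹) (σ : ι → ι)
    (hσ : ∀ i a, lam (σ i) (e a) = lam i a) :
    ρ.character g = ∑ i ∈ Finset.univ.filter (fun i => σ i = i),
      LinearMap.trace ℂ V (ρ g ∘ₗ projOp ρ U (lam i)) := by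
  have h1 : ρ g = ∑ i, ρ g ∘ₗ projOp ρ U (lam i) := by
    have h0 : ρ g = ρ g * ∑ i, projOp ρ U (lam i) := by
      rw [sum_projOp ρ U lam horth hcard]
      rfl
    conv_lhs => rw [h0]
    rw [Finset.mul_sum]
    rfl
  have h2 : ρ.character g = ∑ i, LinearMap.trace ℂ V (ρ g ∘ₗ projOp ρ U (lam i)) := by
    show LinearMap.trace ℂ V (ρ g) = _
    conv_lhs => rw [h1]
    rw [map_sum]
  rw [h2, Finset.sum_filter]
  refine Finset.sum_congr rfl fun i _ => ?_
  split_ifs with hi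
  · rfl
  · -- `σ i ≠ i`: the trace vanishes
    have hne : lam i ≠ lam (σ i) := fun h => hi (hinj h).symm
    have hc := rho_conj_projOp ρ U (lam i) (lam (σ i)) g e he (hσ i)
    calc LinearMap.trace ℂ V (ρ g ∘ₗ projOp ρ U (lam i))
        = LinearMap.trace ℂ V (ρ g ∘ₗ (projOp ρ U (lam i) ∘ₗ projOp ρ U (lam i))) := by
          rw [projOp_comp_self]
      _ = LinearMap.trace ℂ V ((ρ g ∘ₗ projOp ρ U (lam i)) ∘ₗ projOp ρ U (lam i)) := by
          rw [LinearMap.comp_assoc]
      _ = LinearMap.trace ℂ V ((projOp ρ U (lam (σ i)) ∘ₗ ρ g) ∘ₗ projOp ρ U (lam i)) := by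
          rw [hc]
      _ = LinearMap.trace ℂ V (projOp ρ U (lam (σ i)) ∘ₗ (ρ g ∘ₗ projOp ρ U (lam i))) := by
          rw [LinearMap.comp_assoc]
      _ = LinearMap.trace ℂ V ((ρ g ∘ₗ projOp ρ U (lam i)) ∘ₗ projOp ρ U (lam (σ i))) := by
          rw [← Module.End.mul_eq_comp, ← Module.End.mul_eq_comp (ρ g ∘ₗ projOp ρ U (lam i)),
            LinearMap.trace_mul_comm]
      _ = LinearMap.trace ℂ V (ρ g ∘ₗ (projOp ρ U (lam i) ∘ₗ projOp ρ U (lam (σ i)))) := by
          rw [LinearMap.comp_assoc]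
      _ = 0 := by
          rw [projOp_comp_of_ne ρ U _ _ hne, LinearMap.comp_zero, map_zero]

theorem trace_rho_comp_projOp_of_fixed [FiniteDimensional ℂ V] (ρ : Representation ℂ G V)
    (U : A →* G) (l : A →* ℂ) (g : G)
    (hfix : ∀ w ∈ LinearMap.range (projOp ρ U l), ρ g w = w) :
    LinearMap.trace ℂ V (ρ g ∘ₗ projOp ρ U l) = LinearMap.trace ℂ V (projOp ρ U l) := by
  have h : ρ g ∘ₗ projOp ρ U l = projOp ρ U l := by
    ext v
    rw [LinearMap.comp_apply]
    exact hfix _ (LinearMap.mem_range_self _ _)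
  rw [h]

end generic

end Cfsg.Agent.Helper12.LSL
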