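import Mathlib
import Cfsg.Prelude.Def_Characters
import Cfsg.Agent.Helper12.LSLDefs
import Cfsg.Agent.Helper18.LSLPROJA
import Cfsg.Agent.Helper18.LSLPROJB
import Cfsg.Agent.Helper18.LSLPROJC
import Cfsg.Agent.Helper18.LSLLINE
import Cfsg.Agent.Helper22.LSLN3MAT
import Cfsg.Agent.Helper28.LSLTVSET

set_option autoImplicit false

/-! S2332, piece N3MAIN, part A: in `SL_3` the lines `L_β` lie in the fixed space of `Q`. -/

namespace Cfsg.Agent.Helper12.LSL

open Matrix Cfsg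
open scoped commutatorElement

variable {F : Type*} [Field F] {m : ℕ}

/-- `vS` as a homomorphism -/
def vShom : Multiplicative (Fin 2 → F) →* GG 2 F where
  toFun b := vS (Multiplicative.toAdd b)
  map_one' := vS_zero
  map_mul' b b' := (vS_mul _ _).symm

theorem vShom_apply (b : Multiplicative (Fin 2 → F)) : vShom b = vS (Multiplicative.toAdd b) := rfl

theorem n3_lamQ_injective (ψ : AddChar F ℂ) (hψ : ψ 1 ≠ 1) :
    Function.Injective (lamQ ψ : (Fin m → F) → Multiplicative (Fin m → F) →* ℂ) := by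
  intro v v' h
  by_contra hne
  obtain ⟨i, hi⟩ : ∃ i, v i ≠ v' i := by
    by_contra hcon
    push Not at hcon
    exact hne (funext hcon)
  have hd : v i - v' i ≠ 0 := sub_ne_zero.mpr hi
  have h1 := DFunLike.congr_fun h (Multiplicative.ofAdd (Pi.single i (v i - v' i)⁻¹))
  rw [lamQ_apply, lamQ_apply, toAdd_ofAdd, single_dotProduct, single_dotProduct] at h1
  apply hψ
  have h2 : (1 : F) = (v i - v' i)⁻¹ * v i + -((v i - v' i)⁻¹ * v' i) := by
    rw [← sub_eq_add_neg, ← mul_sub, inv_mul_cancel₀ hd]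
  rw [h2, AddChar.map_add_eq_mul, h1, ← AddChar.map_add_eq_mul, add_neg_cancel,
    AddChar.map_zero_eq_one]

theorem n3_dot (b : Fin 2 → F) (β : F) : b ⬝ᵥ ![β, 0] = b 0 * β := by
  simp [dotProduct, Fin.sum_univ_two]

/-- the shear `b ↦ (b₀, b₁ + x b₀)` -/
def n3Shear (x : F) : Multiplicative (Fin 2 → F) ≃ Multiplicative (Fin 2 → F) where
  toFun b := Multiplicative.ofAdd
    ![Multiplicative.toAdd b 0, Multiplicative.toAdd b 1 + x * Multiplicative.toAdd b 0]
  invFun b := Multiplicative.ofAdd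
    ![Multiplicative.toAdd b 0, Multiplicative.toAdd b 1 - x * Multiplicative.toAdd b 0]
  left_inv b := by
    apply Multiplicative.toAdd.injective
    funext i
    fin_cases i <;> simp
  right_inv b := by
    apply Multiplicative.toAdd.injective
    funext i
    fin_cases i <;> simp

/-- the scaling `b ↦ (b₀, c b₁)` -/
def n3Scale (c : F) (hc : c ≠ 0) : Multiplicative (Fin 2 → F) ≃ Multiplicative (Fin 2 → F) where
  toFun b := Multiplicative.ofAdd
    ![Multiplicative.toAdd b 0, c * Multiplicative.toAdd b 1]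
  invFun b := Multiplicative.ofAdd
    ![Multiplicative.toAdd b 0, c⁻¹ * Multiplicative.toAdd b 1]
  left_inv b := by
    apply Multiplicative.toAdd.injective
    funext i
    fin_cases i <;> simp [hc]
  right_inv b := by
    apply Multiplicative.toAdd.injective
    funext i
    fin_cases i <;> simp [hc]

theorem n3_uQ_mem_fixer (ψ : AddChar F ℂ) (β x : F) :
    uQ ![x, 0] ∈ fixer (vShom : _ →* GG 2 F) (lamQ ψ ![β, 0]) := by
  refine ⟨n3Shear x, fun b => ?_, fun b => ?_⟩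
  · rw [vShom_apply, vShom_apply, uQ_conj_vS]
    rfl
  · rw [lamQ_apply, lamQ_apply, n3_dot, n3_dot]
    rfl

theorem n3_tor3_mem_fixer (ψ : AddChar F ℂ) (β : F) (s : Fˣ) :
    tor3 s ∈ fixer (vShom : _ →* GG 2 F) (lamQ ψ ![β, 0]) := by
  have hc : ((s⁻¹ : Fˣ) : F) ^ 3 ≠ 0 := pow_ne_zero _ (Units.ne_zero _)
  refine ⟨n3Scale _ hc, fun b => ?_, fun b => ?_⟩
  · rw [vShom_apply, vShom_apply, tor3_conj_vS]
    rfl
  · rw [lamQ_apply, lamQ_apply, n3_dot, n3_dot]
    rfl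

theorem n3_uQ_comm (s : Fˣ) (x : F) :
    uQ ![(((s⁻¹ : Fˣ) : F) ^ 3 - 1) * x, 0] = ⁅tor3 s, uQ ![x, 0]⁆ := by
  rw [commutatorElement_def, tor3_conj_uQ, uQ_inv, uQ_mul]
  congr 1
  funext i
  fin_cases i <;> simp <;> ring

/-- in `SL_3`, if `L_β` is a line then it is fixed pointwise by `Q` -/
theorem n3_uQ_fix [Fintype F] {V : Type*} [AddCommGroup V] [Module ℂ V] [FiniteDimensional ℂ V]
    (h2 : Fintype.card F ≠ 2) (h4 : Fintype.card F ≠ 4)
    (ρ : Representation ℂ (GG 2 F) V) (ψ : AddChar F ℂ) (β : F)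
    (htr : LinearMap.trace ℂ V (projOp ρ vShom (lamQ ψ ![β, 0])) = 1) (b : Fin 2 → F) (w : V)
    (hw : w ∈ LinearMap.range (projOp ρ vShom (lamQ ψ ![β, 0]))) :
    ρ (uQ b) w = w := by
  obtain ⟨s, hs⟩ := exists_cube_ne_one (F := F) h2 h4
  have hs' : ((s⁻¹ : Fˣ) : F) ^ 3 - 1 ≠ 0 := sub_ne_zero.mpr hs
  -- the first coordinate
  have h1 : ∀ x : F, ρ (uQ ![x, 0]) w = w := by
    intro x
    have e : uQ ![x, 0] = ⁅tor3 s, uQ ![(((s⁻¹ : Fˣ) : F) ^ 3 - 1)⁻¹ * x, 0]⁆ := by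
      rw [← n3_uQ_comm, ← mul_assoc, mul_inv_cancel₀ hs', one_mul]
    rw [e]
    apply line_fixed ρ vShom (lamQ ψ ![β, 0]) htr _ _ w hw
    exact Subgroup.commutator_mem_commutator (n3_tor3_mem_fixer ψ β s) (n3_uQ_mem_fixer ψ β _)
  -- the second coordinate
  have h2' : ∀ z : F, ρ (uQ ![0, z]) w = w := by
    intro z
    obtain ⟨v, rfl⟩ := hw
    have h3 := LinearMap.congr_fun
      (rho_comp_projOp ρ vShom (lamQ ψ ![β, 0]) (Multiplicative.ofAdd ![0, z])) v
    rw [LinearMap.comp_apply, LinearMap.smul_apply, vShom_apply, toAdd_ofAdd, vS_eq_uQ,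
      lamQ_apply, toAdd_ofAdd, n3_dot] at h3
    rw [h3]
    simp
  have e : b = ![b 0, 0] + ![0, b 1] := by
    funext i
    fin_cases i <;> simp
  rw [e, ← uQ_mul, map_mul, Module.End.mul_apply, h2', h1]

end Cfsg.Agent.Helper12.LSL
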