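import Mathlib
import Cfsg.Prelude.Def_Characters
import Cfsg.Agent.Helper12.LSLDefs
import Cfsg.Agent.Helper18.LSLN3A
import Cfsg.Agent.Helper22.LSLARITHA
import Cfsg.Agent.Helper19.LSLARITHB
import Cfsg.Agent.Helper22.LSLINTEG
import Cfsg.Agent.Helper7.LSLTCOUNT

set_option autoImplicit false

/-! S2332, piece N3MAIN, part B: the dimension count and the assembly for `SL_3`. -/

namespace Cfsg.Agent.Helper12.LSL

open Matrix Cfsg
open scoped commutatorElement

variable {F : Type*} [Field F] {m : ℕ}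

/-- orthogonal idempotents with ranges inside the range of an idempotent `pC`: the sum of the
ranks is at most the rank of `pC` -/
theorem n3_sum_trace_le {V : Type*} [AddCommGroup V] [Module ℂ V] [FiniteDimensional ℂ V]
    {ι : Type*} [DecidableEq ι] (s : Finset ι) (p : ι → Module.End ℂ V) (pC : Module.End ℂ V)
    (hpp : ∀ i ∈ s, ∀ j ∈ s, i ≠ j → p i * p j = 0) (hpi : ∀ i ∈ s, p i * p i = p i)
    (hC : ∀ i ∈ s, pC * p i = p i) (hCC : pC * pC = pC) (n c : ℕ)
    (hn : ∑ i ∈ s, LinearMap.trace ℂ V (p i) = n) (hc : LinearMap.trace ℂ V pC = c) : n ≤ c := by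
  set P : Module.End ℂ V := ∑ i ∈ s, p i with hP
  have hPP : IsIdempotentElem P := by
    show P * P = P
    rw [hP, Finset.sum_mul]
    refine Finset.sum_congr rfl fun i hi => ?_
    rw [Finset.mul_sum, Finset.sum_eq_single_of_mem i hi]
    · exact hpi i hi
    · intro j hj hji
      exact hpp i hi j hj (Ne.symm hji)
  have hCP : pC * P = P := by
    rw [hP, Finset.mul_sum]
    exact Finset.sum_congr rfl fun i hi => hC i hi
  have h1 : (Module.finrank ℂ (LinearMap.range P) : ℂ) = n := by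
    rw [← hn, ← ((LinearMap.isProj_range_iff_isIdempotentElem P).mpr hPP).trace, hP, map_sum]
  have h2 : (Module.finrank ℂ (LinearMap.range pC) : ℂ) = c := by
    rw [← hc, ← ((LinearMap.isProj_range_iff_isIdempotentElem pC).mpr hCC).trace]
  have h3 : LinearMap.range P ≤ LinearMap.range pC := by
    rintro _ ⟨v, rfl⟩
    refine ⟨P v, ?_⟩
    rw [← Module.End.mul_apply, hCP]
  have h4 := Submodule.finrank_mono h3
  have h1' : Module.finrank ℂ (LinearMap.range P) = n := by exact_mod_cast h1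
  have h2' : Module.finrank ℂ (LinearMap.range pC) = c := by exact_mod_cast h2
  omega

/-- `c ≥ q - 1` in the case `a = 1` -/
theorem n3_c_ge [Fintype F] [DecidableEq F] (h2 : Fintype.card F ≠ 2) (h4 : Fintype.card F ≠ 4)
    (k : ℕ) (ρ : Representation ℂ (GG 2 F) (Fin k → ℂ)) (c : ℕ)
    (hmult : ∀ (U : Multiplicative (Fin 2 → F) →* GG 2 F),
        (∀ b, b ≠ 1 → U b ∈ tvSet (Unit ⊕ Fin 2) F) →
        ∀ (ψ : AddChar F ℂ), ψ 1 ≠ 1 → ∀ v : Fin 2 → F,
          classInner (fun b => ρ.character (U b)) (fun b => lamQ ψ v b) =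
            if v = 0 then (c : ℂ) else ((1 : ℕ) : ℂ)) :
    Fintype.card F - 1 ≤ c := by
  obtain ⟨ψ, hψ⟩ : ∃ ψ : AddChar F ℂ, ψ 1 ≠ 1 := AddChar.exists_apply_ne_zero.mpr one_ne_zero
  have hvS : ∀ b : Multiplicative (Fin 2 → F), b ≠ 1 →
      (vShom b : GG 2 F) ∈ tvSet (Unit ⊕ Fin 2) F := by
    intro b hb
    rw [vShom_apply]
    apply vS_mem_tvSet
    intro h0
    apply hb
    exact Multiplicative.toAdd.injective h0
  have huQ : ∀ b : Multiplicative (Fin 2 → F), b ≠ 1 →
      (uQhom b : GG 2 F) ∈ tvSet (Unit ⊕ Fin 2) F := by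
    intro b hb
    rw [uQhom_apply]
    apply uQ_mem_tvSet
    intro h0
    apply hb
    exact Multiplicative.toAdd.injective h0
  -- the traces
  have htr : ∀ β : F, β ≠ 0 →
      LinearMap.trace ℂ (Fin k → ℂ) (projOp ρ vShom (lamQ ψ ![β, 0])) = 1 := by
    intro β hβ
    rw [trace_projOp, hmult vShom hvS ψ hψ ![β, 0], if_neg, Nat.cast_one]
    intro h0
    apply hβ
    have := congrFun h0 0
    simpa using this
  have htrC : LinearMap.trace ℂ (Fin k → ℂ) (projOp ρ uQhom (lamQ ψ (0 : Fin 2 → F))) = c := by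
    rw [trace_projOp, hmult uQhom huQ ψ hψ 0, if_pos rfl]
  refine n3_sum_trace_le (Finset.univ.filter (fun β : F => β ≠ 0))
    (fun β => projOp ρ vShom (lamQ ψ ![β, 0])) (projOp ρ uQhom (lamQ ψ (0 : Fin 2 → F)))
    ?_ ?_ ?_ ?_ (Fintype.card F - 1) c ?_ htrC
  · intro β _ β' _ hne
    rw [Module.End.mul_eq_comp]
    apply projOp_comp_of_ne
    intro h
    apply hne
    have h1 := n3_lamQ_injective ψ hψ h
    have := congrFun h1 0
    simpa using this
  · intro β _
    rw [Module.End.mul_eq_comp]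
    exact projOp_comp_self _ _ _
  · intro β hβ
    have hβ0 : β ≠ 0 := (Finset.mem_filter.mp hβ).2
    rw [Module.End.mul_eq_comp]
    apply LinearMap.ext
    intro v
    rw [LinearMap.comp_apply]
    apply projOp_apply_of_eigen
    intro b
    rw [uQhom_apply, lamQ_apply, dotProduct_zero, AddChar.map_zero_eq_one, one_smul]
    exact n3_uQ_fix h2 h4 ρ ψ β (htr β hβ0) _ _ (LinearMap.mem_range_self _ _)
  · rw [Module.End.mul_eq_comp]
    exact projOp_comp_self _ _ _
  · rw [Finset.sum_congr rfl fun β hβ => htr β (Finset.mem_filter.mp hβ).2, Finset.sum_const,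
      nsmul_eq_mul, mul_one, Finset.filter_ne' Finset.univ (0 : F),
      Finset.card_erase_of_mem (Finset.mem_univ _), Finset.card_univ]

/-- the bound for `SL_3` from the multiplicities -/
theorem n3_bound_of_mult [Fintype F] [DecidableEq F] (h2 : Fintype.card F ≠ 2)
    (h4 : Fintype.card F ≠ 4) (k : ℕ) (ρ : Representation ℂ (GG 2 F) (Fin k → ℂ))
    (hρ : ρ.IsIrreducible) (hk : 2 ≤ k) (a c : ℕ) (ha : 1 ≤ a)
    (hkc : k = c + a * (Fintype.card F ^ 2 - 1))
    (htv : ∀ g ∈ tvSet (Unit ⊕ Fin 2) F, ρ.character g = (c : ℂ) - a)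
    (hmult : ∀ (U : Multiplicative (Fin 2 → F) →* GG 2 F),
        (∀ b, b ≠ 1 → U b ∈ tvSet (Unit ⊕ Fin 2) F) →
        ∀ (ψ : AddChar F ℂ), ψ 1 ≠ 1 → ∀ v : Fin 2 → F,
          classInner (fun b => ρ.character (U b)) (fun b => lamQ ψ v b) =
            if v = 0 then (c : ℂ) else (a : ℂ)) :
    Fintype.card F ^ 2 + Fintype.card F ≤ k := by
  classical
  set q := Fintype.card F with hq
  have hq2 : 2 ≤ q := Fintype.one_lt_card
  have hq3 : 3 ≤ q := by omega
  have hqq : q + 2 ≤ q ^ 2 := by nlinarith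
  rcases Nat.lt_or_ge a 2 with ha2 | ha2
  swap
  · -- `a ≥ 2`
    have h1 : 2 * (q ^ 2 - 1) ≤ a * (q ^ 2 - 1) := Nat.mul_le_mul_right _ ha2
    omega
  -- `a = 1`
  have ha1 : a = 1 := by omega
  subst ha1
  rw [one_mul] at hkc
  have hc := n3_c_ge h2 h4 k ρ c hmult
  rw [← hq] at hc
  -- integrality
  set T : Finset (GG 2 F) := (Set.toFinite (tvSet (Unit ⊕ Fin 2) F)).toFinset with hTdef
  have hTconj : ∀ g h : GG 2 F, g ∈ T → h * g * h⁻¹ ∈ T := by
    intro g h hg
    rw [hTdef, Set.Finite.mem_toFinset] at hg ⊢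
    exact tvSet_conj g h hg
  have hTchar : ∀ g ∈ T, ρ.character g = (((c : ℤ) - 1 : ℤ) : ℂ) := by
    intro g hg
    rw [hTdef, Set.Finite.mem_toFinset] at hg
    rw [htv g hg]
    push_cast
    rfl
  have hdvd := dvd_of_conj_invariant k ρ hρ T hTconj ((c : ℤ) - 1) hTchar
  have hcard : T.card * (q - 1) = (q ^ 3 - 1) * (q ^ 2 - 1) := by
    have h1 := card_tvSet (F := F) (Unit ⊕ Fin 2) (by simp)
    have h3 : Fintype.card (Unit ⊕ Fin 2) = 3 := by simp
    rw [h3] at h1
    have h5 : Nat.card (tvSet (Unit ⊕ Fin 2) F) = T.card := by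
      rw [Nat.card_coe_set_eq, Set.ncard_eq_toFinset_card _ (Set.toFinite _)]
    rw [h5] at h1
    exact h1
  have hq21 : 1 ≤ q ^ 2 := Nat.one_le_pow _ _ (by omega)
  -- `c ≠ q - 1`
  have hne1 : c ≠ q - 1 := by
    intro hcq
    have hpp : IsPrimePow q := FiniteField.isPrimePow_card F
    apply arith_three q hpp h2 h4 T.card hcard
    have e1 : ((q : ℤ) ^ 2 + q - 2) = (k : ℤ) := by
      rw [hkc, hcq]
      push_cast [Nat.cast_sub (show 1 ≤ q by omega), Nat.cast_sub hq21]
      ring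
    have e2 : (q : ℤ) - 2 = (c : ℤ) - 1 := by
      rw [hcq]
      push_cast [Nat.cast_sub (show 1 ≤ q by omega)]
      ring
    rw [e1, e2]
    exact hdvd
  -- `c ≠ q`
  have hne2 : c ≠ q := by
    intro hcq
    have hk' : k = q ^ 2 - 1 + (q ^ 2 - q) / (q - 1) := by
      have e : q ^ 2 - q = q * (q - 1) := by
        rw [Nat.mul_sub, mul_one, sq]
      rw [e, Nat.mul_div_cancel _ (show 0 < q - 1 by omega), hkc, hcq, add_comm]
    apply arith_div q 2 hq2 le_rfl k T.card hk' hcard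
    have e2 : (k : ℤ) - (q : ℤ) ^ 2 = (c : ℤ) - 1 := by
      rw [hkc]
      push_cast [Nat.cast_sub hq21]
      ring
    rw [e2]
    exact hdvd
  omega

end Cfsg.Agent.Helper12.LSL
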