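import Mathlib

set_option autoImplicit false
set_option linter.unusedSectionVars false
set_option linter.unusedVariables false

/-! # S0679: instance-free bridges for `IsMultiplyPretransitive G α k` and `stabilizer G x`, `x : Fin k ↪ α`, `G : Subgroup (Perm α)`.

TRAP: `IsMultiplyPretransitive G α k` uses the action of `G` on `Fin k ↪ α` built from the action of `G` on `α`
(`Function.Embedding.smul`), while `stabilizer G x` / `orbit G x` elaborate with the restriction to `G` of the action of `Perm α` on
`Fin k ↪ α` (`Subgroup.instMulAction`).  The two are defeq but not syntactically equal: `rw` / instance search fail across them.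
Use the pointwise lemmas below. -/

namespace Cfsg.Agent.S0679P

open Equiv MulAction

variable {α : Type*} [Fintype α] [DecidableEq α] {G : Subgroup (Equiv.Perm α)}

theorem BR.smul_apply {k : ℕ} (g : G) (x : Fin k ↪ α) (i : Fin k) :
    (g • x) i = (g : Perm α) (x i) := rfl

/-- membership in the stabiliser of an embedding, pointwise -/
theorem BR.mem_stab {k : ℕ} (g : G) (x : Fin k ↪ α) :
    g ∈ stabilizer G x ↔ ∀ i, (g : Perm α) (x i) = x i := by
  rw [MulAction.mem_stabilizer_iff]
  constructor
  · intro h i
    have := congrArg (fun y : Fin k ↪ α => y i) h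
    exact this
  · intro h
    ext i
    exact h i

/-- `k`-transitivity, pointwise -/
theorem BR.ex {k : ℕ} (h : IsMultiplyPretransitive G α k) (x y : Fin k ↪ α) :
    ∃ g : G, g • x = y := by
  obtain ⟨g, hg⟩ := h.exists_smul_eq x y
  exact ⟨g, hg⟩

theorem BR.ex_pt {k : ℕ} (h : IsMultiplyPretransitive G α k) (x y : Fin k ↪ α) :
    ∃ g ∈ G, ∀ i, g (x i) = y i := by
  obtain ⟨g, hg⟩ := BR.ex h x y
  refine ⟨g, g.2, fun i => ?_⟩
  rw [← hg]; rfl

theorem BR.intro {k : ℕ} (h : ∀ x y : Fin k ↪ α, ∃ g ∈ G, ∀ i, g (x i) = y i) :
    IsMultiplyPretransitive G α k := by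
  refine ⟨fun x y => ?_⟩
  obtain ⟨g, hg, hgi⟩ := h x y
  refine ⟨⟨g, hg⟩, ?_⟩
  ext i
  exact hgi i

/-- generic orbit-stabiliser for a pretransitive action -/
theorem BR.aux_card {H X : Type*} [Group H] [MulAction H X] [Fintype X]
    (hp : ∀ x y : X, ∃ g : H, g • x = y) (x : X) :
    Fintype.card X * Nat.card (stabilizer H x) = Nat.card H := by
  have h1 := MulAction.index_stabilizer H x
  have h2 := Subgroup.index_mul_card (stabilizer H x)
  have h0 : MulAction.orbit H x = Set.univ := by
    ext y
    simp only [Set.mem_univ, iff_true]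
    obtain ⟨g, hg⟩ := hp x y
    exact ⟨g, hg⟩
  rw [h0, Set.ncard_univ, Nat.card_eq_fintype_card] at h1
  rw [← h1]; exact h2

/-- generic converse: if the stabiliser of `x` has index `|X|` then the orbit of `x` is everything -/
theorem BR.aux_trans {H X : Type*} [Group H] [Finite H] [MulAction H X] [Fintype X] (x : X)
    (h : Fintype.card X * Nat.card (stabilizer H x) = Nat.card H) (y : X) : ∃ g : H, g • x = y := by
  have h1 := MulAction.index_stabilizer H x
  have h2 := Subgroup.index_mul_card (stabilizer H x)
  have hs : 0 < Nat.card (stabilizer H x) := Nat.card_pos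
  have h3 : (MulAction.orbit H x).ncard = Fintype.card X := by
    have : (MulAction.orbit H x).ncard * Nat.card (stabilizer H x)
        = Fintype.card X * Nat.card (stabilizer H x) := by rw [← h1, h2, h]
    exact Nat.eq_of_mul_eq_mul_right hs this
  have h4 : MulAction.orbit H x = Set.univ := by
    have hfin : (MulAction.orbit H x).Finite := Set.toFinite _
    have h5 : (Set.univ : Set X).ncard ≤ (MulAction.orbit H x).ncard := by
      rw [Set.ncard_univ, Nat.card_eq_fintype_card, h3]
    exact Set.eq_of_subset_of_ncard_le (Set.subset_univ _) h5 Set.finite_univ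
  have hy : y ∈ MulAction.orbit H x := by rw [h4]; trivial
  obtain ⟨g, hg⟩ := hy
  exact ⟨g, hg⟩

/-- orbit-stabiliser for a `k`-transitive group -/
theorem BR.card_stab {k : ℕ} (h : IsMultiplyPretransitive G α k) (x : Fin k ↪ α) :
    (Fintype.card α).descFactorial k * Nat.card (stabilizer G x) = Nat.card G := by
  have := BR.aux_card (H := G) (X := Fin k ↪ α) (fun x y => BR.ex h x y) x
  rw [Fintype.card_embedding_eq, Fintype.card_fin] at this
  exact this

/-- if every stabiliser has the order forced by `k`-transitivity, the group is `k`-transitive -/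
theorem BR.of_card {k : ℕ}
    (h : ∀ x : Fin k ↪ α, (Fintype.card α).descFactorial k * Nat.card (stabilizer G x) = Nat.card G) :
    IsMultiplyPretransitive G α k := by
  refine ⟨fun x y => ?_⟩
  have h1 := h x
  have h0 : Fintype.card (Fin k ↪ α) = (Fintype.card α).descFactorial k := by
    rw [Fintype.card_embedding_eq, Fintype.card_fin]
  rw [← h0] at h1
  obtain ⟨g, hg⟩ := BR.aux_trans (H := G) (X := Fin k ↪ α) x h1 y
  exact ⟨g, hg⟩

end Cfsg.Agent.S0679P
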