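import Cfsg.Agent.Helper12.S5683Lib
import Cfsg.Agent.Helper17.S5683MEMSUBF

set_option autoImplicit false
set_option linter.unusedSectionVars false
set_option linter.unusedVariables false

/-! S5683 piece HASRAT: an overgroup of `N ∩ Ω` contains the rational elements of `S(Q)`. -/

namespace Cfsg.Agent.S5683P

open Matrix Cfsg.Agent.Helper28.Sg Cfsg.Agent.Helper28.Spin Cfsg.Agent.Helper12.OrthGen
  Cfsg.Agent.S2614

variable {F : Type*} [Field F] {m : ℕ}

/-- HASRAT: an overgroup of `N ∩ Ω` contains the rational elements of `S(Q)`. -/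
theorem HASRAT.hasRatO [Fintype F] (h2 : (2 : F) ≠ 0) (hm : 3 ≤ m) (F₀ : Subfield F)
    (M : Subgroup (Matrix.GeneralLinearGroup (Idx m) F))
    (hHM : Cfsg.Geo.subfieldSubgroup F₀ (1 : Matrix.GeneralLinearGroup (Idx m) F) ⊓
      Cfsg.Geo.omegaGL ⇑(QfOdd m F) ≤ M) :
    HasRatO F₀ (M.comap (Cfsg.isometryGroup F ⇑(QfOdd m F)).subtype) := by
  intro g hgS hgR
  rw [Subgroup.mem_comap]
  apply hHM
  refine ⟨?_, ?_⟩
  · exact (MEMSUBF.mem_subf_one_iff F₀ _).2 (InN.of_ratM hgR)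
  · exact (Cfsg.Agent.Helper28.NM.mem_omegaGL_iff (QfOdd m F) _).2
      ⟨g, S_le_Omega_odd h2 hm hgS, rfl⟩

end Cfsg.Agent.S5683P
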