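import Mathlib
import Cfsg.Agent.Helper9.S5650.Defs
import Cfsg.Agent.Helper9.S5650.Lib

/-! S5650 piece NO9 (driver helper9): `x² = -1`, `[F : F₀]` odd ⇒ `x ∈ F₀`. -/

set_option autoImplicit false

namespace Cfsg.Agent.S5650P

open Matrix Cfsg.Agent.Helper28

variable {F : Type*} [Field F] {m : ℕ}

namespace NO9

/-- the elements of `F₀` are the roots of `X^q₀ - X` -/
theorem mem_of_pow_card [Fintype F] (F₀ : Subfield F) (x : F) (h : x ^ Nat.card F₀ = x) :
    x ∈ F₀ := by
  classical
  have : Fintype ↥F₀ := Fintype.ofFinite _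
  have hq1 : 1 < Nat.card F₀ := by
    rw [Nat.card_eq_fintype_card]; exact Fintype.one_lt_card
  have hp0 : (Polynomial.X ^ Nat.card F₀ - Polynomial.X : Polynomial F) ≠ 0 :=
    FiniteField.X_pow_card_sub_X_ne_zero F hq1
  have hdeg : (Polynomial.X ^ Nat.card F₀ - Polynomial.X : Polynomial F).natDegree = Nat.card F₀ :=
    FiniteField.X_pow_card_sub_X_natDegree_eq F hq1
  have hS : (Finset.univ.image (fun a : ↥F₀ => (a : F))).card = Nat.card F₀ := by
    rw [Finset.card_image_of_injective _ Subtype.val_injective, Finset.card_univ,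
      Nat.card_eq_fintype_card]
  have hsub : Finset.univ.image (fun a : ↥F₀ => (a : F)) ⊆
      (Polynomial.X ^ Nat.card F₀ - Polynomial.X : Polynomial F).roots.toFinset := by
    intro a ha
    obtain ⟨b, -, rfl⟩ := Finset.mem_image.1 ha
    rw [Multiset.mem_toFinset, Polynomial.mem_roots hp0]
    simp only [Polynomial.IsRoot.def, Polynomial.eval_sub, Polynomial.eval_pow, Polynomial.eval_X]
    rw [sub_eq_zero]
    have hb := FiniteField.pow_card b
    rw [← Nat.card_eq_fintype_card] at hb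
    have := congrArg (fun c : ↥F₀ => (c : F)) hb
    simpa using this
  have hle : (Polynomial.X ^ Nat.card F₀ - Polynomial.X : Polynomial F).roots.toFinset.card ≤
      (Finset.univ.image (fun a : ↥F₀ => (a : F))).card := by
    calc _ ≤ Multiset.card (Polynomial.X ^ Nat.card F₀ - Polynomial.X : Polynomial F).roots :=
          Multiset.toFinset_card_le _
      _ ≤ (Polynomial.X ^ Nat.card F₀ - Polynomial.X : Polynomial F).natDegree :=
          Polynomial.card_roots' _
      _ = _ := by rw [hdeg, hS]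
  have heq := Finset.eq_of_subset_of_card_le hsub hle
  have hx : x ∈ (Polynomial.X ^ Nat.card F₀ - Polynomial.X : Polynomial F).roots.toFinset := by
    rw [Multiset.mem_toFinset, Polynomial.mem_roots hp0]
    simp only [Polynomial.IsRoot.def, Polynomial.eval_sub, Polynomial.eval_pow, Polynomial.eval_X]
    rw [h, sub_self]
  rw [← heq] at hx
  obtain ⟨b, -, rfl⟩ := Finset.mem_image.1 hx
  exact b.2

/-- iterating `x ^ q = -x` -/
theorem pow_pow_of_neg {x : F} {q : ℕ} (hq : x ^ q = -x) (hm1 : (-1 : F) ^ q = -1) (k : ℕ) :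
    x ^ (q ^ k) = (-1) ^ k * x := by
  induction k with
  | zero => simp
  | succ k ih =>
    rw [pow_succ, pow_mul, ih, mul_pow, hq, ← pow_mul, mul_comm k q, pow_mul, hm1, pow_succ]
    ring

end NO9

theorem NO9.mem [Fintype F] (F₀ : Subfield F) (r : ℕ) (hr : Odd r)
    (hcard : Fintype.card F = Nat.card F₀ ^ r) (x : F) (hx : x ^ 2 = -1) : x ∈ F₀ := by
  classical
  have : Fintype ↥F₀ := Fintype.ofFinite _
  apply NO9.mem_of_pow_card
  -- `(-1)^q₀ = -1`
  have hm1 : (-1 : F) ^ Nat.card F₀ = -1 := by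
    have hb := FiniteField.pow_card (⟨-1, F₀.neg_mem F₀.one_mem⟩ : ↥F₀)
    rw [← Nat.card_eq_fintype_card] at hb
    have := congrArg (fun c : ↥F₀ => (c : F)) hb
    simpa using this
  -- `(x^q₀)² = x²`
  have hsq : (x ^ Nat.card F₀) ^ 2 = x ^ 2 := by
    rw [← pow_mul, mul_comm, pow_mul, hx, hm1]
  have hcases : x ^ Nat.card F₀ = x ∨ x ^ Nat.card F₀ = -x := by
    have : (x ^ Nat.card F₀ - x) * (x ^ Nat.card F₀ + x) = 0 := by
      have : (x ^ Nat.card F₀ - x) * (x ^ Nat.card F₀ + x) = (x ^ Nat.card F₀) ^ 2 - x ^ 2 := by ring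
      rw [this, hsq, sub_self]
    rcases mul_eq_zero.1 this with h | h
    · left; exact sub_eq_zero.1 h
    · right; exact eq_neg_of_add_eq_zero_left h
  rcases hcases with h | h
  · exact h
  · -- `x = x^(q₀^r) = (-1)^r x = -x`
    have h1 : x ^ (Nat.card F₀ ^ r) = (-1) ^ r * x := NO9.pow_pow_of_neg h hm1 r
    rw [← hcard, FiniteField.pow_card, hr.neg_one_pow] at h1
    -- `x = -x`
    rw [h]
    rw [neg_one_mul] at h1
    exact h1.symm

end Cfsg.Agent.S5650P
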