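import Cfsg.Agent.Helper18.Dickson19
import Cfsg.Agent.Helper2.L27

/-! Dickson-type counting, part 20: `PSL₂(K)` as a maximal subgroup of `PSL₂(F)`, `[F:K]` an odd
prime, odd characteristic. -/

set_option autoImplicit false

namespace Cfsg.Agent.Helper18.Dickson

open Cfsg.Agent.Helper11.FinSub

/-- coatoms containing a normal subgroup map to coatoms of the quotient -/
theorem isCoatom_map_mk {G : Type*} [Group G] (N : Subgroup G) [N.Normal] (M : Subgroup G)
    (hNM : N ≤ M) (hM : IsCoatom M) : IsCoatom (M.map (QuotientGroup.mk' N)) := by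
  have hcomap : (M.map (QuotientGroup.mk' N)).comap (QuotientGroup.mk' N) = M := by
    rw [Subgroup.comap_map_eq, QuotientGroup.ker_mk']
    exact sup_eq_left.2 hNM
  constructor
  · intro htop
    apply hM.1
    rw [← hcomap, htop, Subgroup.comap_top]
  · intro L hL
    have h1 : M < L.comap (QuotientGroup.mk' N) := by
      rw [lt_iff_le_and_ne]
      constructor
      · rw [← hcomap]; exact Subgroup.comap_mono hL.le
      · intro h
        apply hL.ne
        rw [h, Subgroup.map_comap_eq_self_of_surjective (QuotientGroup.mk'_surjective N)]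
    have h3 := hM.2 _ h1
    rw [← Subgroup.map_comap_eq_self_of_surjective (QuotientGroup.mk'_surjective N) L, h3,
      Subgroup.map_top_of_surjective _ (QuotientGroup.mk'_surjective N)]

variable {F : Type*} [Field F]

local notation "SF" => Matrix.SpecialLinearGroup (Fin 2) F
local notation "MF" => Matrix (Fin 2) (Fin 2) F

theorem center_le_SLK (K : Subfield F) : Subgroup.center SF ≤ SLK K := by
  intro g hg
  rw [Matrix.SpecialLinearGroup.mem_center_iff] at hg
  obtain ⟨r, hr, hg⟩ := hg
  have hr2 : r ^ 2 = 1 := by simpa using hr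
  have hrK : r ∈ K := by
    have : (r - 1) * (r + 1) = 0 := by linear_combination hr2
    rcases mul_eq_zero.1 this with h | h
    · have : r = 1 := by linear_combination h
      rw [this]; exact K.one_mem
    · have : r = -1 := by linear_combination h
      rw [this]; exact K.neg_mem K.one_mem
  rw [mem_SLK]
  intro i j
  rw [← hg]
  by_cases hij : i = j
  · subst hij; simpa using hrK
  · simp [Matrix.scalar_apply, Matrix.diagonal_apply_ne _ hij, K.zero_mem]

/-- the image of `SL₂(K)` in `PSL₂(F)` is `PSL₂(K)` -/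
theorem nonempty_map_SLK_equiv (K : Subfield F) :
    Nonempty ((SLK K).map (QuotientGroup.mk' (Subgroup.center SF)) ≃*
      Matrix.ProjectiveSpecialLinearGroup (Fin 2) K) := by
  let f : Matrix.SpecialLinearGroup (Fin 2) K →* Matrix.ProjectiveSpecialLinearGroup (Fin 2) F :=
    (QuotientGroup.mk' (Subgroup.center SF)).comp (slkHom K)
  have hker : f.ker = Subgroup.center (Matrix.SpecialLinearGroup (Fin 2) K) := by
    ext g
    rw [MonoidHom.mem_ker, MonoidHom.comp_apply, QuotientGroup.mk'_apply, QuotientGroup.eq_one_iff,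
      Matrix.SpecialLinearGroup.mem_center_iff, Matrix.SpecialLinearGroup.mem_center_iff]
    constructor
    · rintro ⟨r, hr, hg⟩
      have h00 : r = ((g : Matrix (Fin 2) (Fin 2) K) 0 0 : F) := by
        have := congrFun (congrFun hg 0) 0
        rw [slkHom_coe] at this
        simpa using this
      refine ⟨(g : Matrix (Fin 2) (Fin 2) K) 0 0, ?_, ?_⟩
      · apply Subtype.val_injective
        rw [SubmonoidClass.coe_pow, ← h00, hr]
        rfl
      · ext i j
        have := congrFun (congrFun hg i) j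
        rw [slkHom_coe] at this
        rw [← this, h00]
        by_cases hij : i = j
        · subst hij; simp
        · simp [Matrix.scalar_apply, Matrix.diagonal_apply_ne _ hij]
    · rintro ⟨r, hr, hg⟩
      refine ⟨(r : F), ?_, ?_⟩
      · have := congrArg (fun x : K => (x : F)) hr
        simpa using this
      · ext i j
        rw [slkHom_coe, ← hg]
        by_cases hij : i = j
        · subst hij; simp
        · simp [Matrix.scalar_apply, Matrix.diagonal_apply_ne _ hij]
  have hrange : f.range = (SLK K).map (QuotientGroup.mk' (Subgroup.center SF)) := by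
    rw [MonoidHom.range_comp]
    rfl
  exact ⟨(MulEquiv.subgroupCongr hrange.symm).trans
    ((QuotientGroup.quotientKerEquivRange f).symm.trans (QuotientGroup.quotientMulEquivOfEq hker))⟩

/-- `3^(2k+1)` is `2` or `3` modulo `5` -/
theorem three_pow_odd_mod_five (k : ℕ) : 3 ^ (2 * k + 1) % 5 = 3 ∨ 3 ^ (2 * k + 1) % 5 = 2 := by
  induction k with
  | zero => left; norm_num
  | succ k ih =>
    have e : 3 ^ (2 * (k + 1) + 1) = 9 * 3 ^ (2 * k + 1) := by ring
    rw [e]
    omega

/-- no subgroup of order `120` above `SL₂(K)` when `[F:K]` is odd, `p = 3` -/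
theorem card_ne_120 [Fintype F] [CharP F 3] (K₀ : Subfield F) (r : ℕ) (hr : Odd r)
    (hcard : Fintype.card F = Nat.card K₀ ^ r) (H : Subgroup SF) (hle : SLK K₀ ≤ H) :
    Nat.card H ≠ 120 := by
  classical
  intro h120
  have : Fintype K₀ := Fintype.ofFinite K₀
  have hq2 := two_le_card K₀
  have h1 : Nat.card (SLK K₀) = (Nat.card K₀ + 1) * ((Nat.card K₀ - 1) * Nat.card K₀) := by
    rw [Nat.card_congr (SLKEquiv K₀).toEquiv, Cfsg.Agent.S2301.card_sl2, Nat.card_eq_fintype_card]
  have hdvd : Nat.card (SLK K₀) ∣ 120 := by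
    rw [← h120]; exact Subgroup.card_dvd_of_le hle
  have h3 : 3 ∣ Nat.card K₀ := by
    have : CharP K₀ 3 := RingHom.charP K₀.subtype K₀.subtype_injective 3
    have : Fact (Nat.Prime 3) := ⟨Nat.prime_three⟩
    obtain ⟨n, _, hn⟩ := FiniteField.card K₀ 3
    rw [Nat.card_eq_fintype_card, hn]
    exact dvd_pow_self 3 n.ne_zero
  have hq : Nat.card K₀ = 3 := by
    by_contra hne
    have h6 : 6 ≤ Nat.card K₀ := by
      obtain ⟨c, hc⟩ := h3
      omega
    have hle' := Nat.le_of_dvd (by norm_num) hdvd
    rw [h1] at hle'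
    have : 7 * (5 * 6) ≤ (Nat.card K₀ + 1) * ((Nat.card K₀ - 1) * Nat.card K₀) :=
      Nat.mul_le_mul (by omega) (Nat.mul_le_mul (by omega) h6)
    omega
  rw [hq] at hcard
  have h5 : 5 ∣ Nat.card SF := by
    have : (5 : ℕ) ∣ Nat.card H := by rw [h120]; norm_num
    exact this.trans (Subgroup.card_subgroup_dvd_card H)
  rw [Cfsg.Agent.S2301.card_sl2, hcard] at h5
  obtain ⟨k, rfl⟩ := hr
  have hmod := three_pow_odd_mod_five k
  have hpos : 1 ≤ 3 ^ (2 * k + 1) := Nat.one_le_pow _ _ (by norm_num)
  clear hcard hdvd h1 h3 hq hle h120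
  generalize 3 ^ (2 * k + 1) = X at *
  rcases (Nat.Prime.dvd_mul Nat.prime_five).1 h5 with h | h
  · omega
  · rcases (Nat.Prime.dvd_mul Nat.prime_five).1 h with h | h
    · omega
    · omega

/-- **`PSL₂(K)` is maximal in `PSL₂(F)`** for `[F:K]` an odd prime, odd characteristic. -/
theorem exists_coatom_psl_subfield {F K : Type*} [Field F] [Fintype F] [Field K] [Fintype K]
    (q r : ℕ) (hK : Fintype.card K = q) (hF : Fintype.card F = q ^ r) (hq : Odd q)
    (hr : r.Prime) (hr2 : r ≠ 2) :
    ∃ H : Subgroup (Matrix.ProjectiveSpecialLinearGroup (Fin 2) F), IsCoatom H ∧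
      Nonempty (H ≃* Matrix.ProjectiveSpecialLinearGroup (Fin 2) K) := by
  classical
  obtain ⟨p, hchar⟩ := CharP.exists F
  have hpp : p.Prime := by
    rcases CharP.char_is_prime_or_zero F p with h | h
    · exact h
    · subst h
      have := CharP.charP_to_charZero F
      exact absurd (inferInstance : Finite F) (not_finite_iff_infinite.mpr inferInstance)
  haveI : Fact p.Prime := ⟨hpp⟩
  obtain ⟨N, _, hN⟩ := FiniteField.card F p
  -- the characteristic of `K`
  obtain ⟨p', hchar'⟩ := CharP.exists K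
  have hpp' : p'.Prime := by
    rcases CharP.char_is_prime_or_zero K p' with h | h
    · exact h
    · subst h
      have := CharP.charP_to_charZero K
      exact absurd (inferInstance : Finite K) (not_finite_iff_infinite.mpr inferInstance)
  haveI : Fact p'.Prime := ⟨hpp'⟩
  obtain ⟨a, _, ha⟩ := FiniteField.card K p'
  have hpp'eq : p' = p := by
    have h1 : p' ∣ p ^ (N : ℕ) := by
      rw [← hN, hF, ← hK, ha, ← pow_mul]
      exact dvd_pow_self p' (Nat.mul_ne_zero a.ne_zero hr.pos.ne')
    exact (Nat.prime_dvd_prime_iff_eq hpp' hpp).1 (hpp'.dvd_of_dvd_pow h1)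
  subst hpp'eq
  have hp2 : p' ≠ 2 := by
    rintro rfl
    rw [← hK, ha] at hq
    exact (Nat.not_even_iff_odd.2 hq) ((Nat.even_pow' a.ne_zero).2 even_two)
  -- a subfield of order `q`
  have hFN : Fintype.card F = p' ^ ((a : ℕ) * r) := by rw [hF, ← hK, ha, pow_mul]
  obtain ⟨K₀, hK₀⟩ := exists_subfield (F := F) p' ((a : ℕ) * r) a hFN a.ne_zero ⟨r, rfl⟩
  have hK₀q : Nat.card K₀ = q := by rw [hK₀, ← hK, ha]
  have hcard : Fintype.card F = Nat.card K₀ ^ r := by rw [hK₀q, hF]
  have hco : IsCoatom (SLK K₀) := by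
    apply isCoatom_SLK_of p' hp2 K₀ r hr hr2 hcard
    intro h3 H hle
    subst h3
    exact card_ne_120 K₀ r (hr.odd_of_ne_two hr2) hcard H hle
  refine ⟨(SLK K₀).map (QuotientGroup.mk' (Subgroup.center _)),
    isCoatom_map_mk _ _ (center_le_SLK K₀) hco, ?_⟩
  obtain ⟨e1⟩ := nonempty_map_SLK_equiv K₀
  let _ : Fintype K₀ := Fintype.ofFinite K₀
  have eK : K₀ ≃+* K :=
    FiniteField.ringEquivOfCardEq (by rw [← Nat.card_eq_fintype_card, hK₀q, hK])
  exact ⟨e1.trans (Cfsg.Agent.Helper2.L27.pslCongr eK)⟩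

end Cfsg.Agent.Helper18.Dickson
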