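import Cfsg.Agent.Helper18.Dickson17
import Cfsg.Agent.Helper11.FinSub

/-! Dickson-type counting, part 18: subfield subgroups `SLK K` and the refined structure theorem:
a non-exceptional subgroup `H ∋ lM 1, uM a₀` of `SL₂(F)` satisfies `SL₂(K) ≤ H ≤ N(SL₂(K))`. -/

set_option autoImplicit false

namespace Cfsg.Agent.Helper18.Dickson

variable {F : Type*} [Field F]

local notation "SF" => Matrix.SpecialLinearGroup (Fin 2) F
local notation "MF" => Matrix (Fin 2) (Fin 2) F

/-- `SL₂(F)` is generated by the elementary matrices -/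
theorem eq_top_of_uM_lM (H : Subgroup SF) (hu : ∀ x : F, uM x ∈ H) (hl : ∀ x : F, lM x ∈ H) :
    H = ⊤ := by
  rw [eq_top_iff]
  intro g _
  refine Cfsg.Agent.Helper2.SL_transvection_induction (fun g => g ∈ H) ?_
    (fun A B hA hB => Subgroup.mul_mem _ hA hB) g
  intro i j hij c
  fin_cases i <;> fin_cases j
  · exact absurd rfl hij
  · have e : Matrix.SpecialLinearGroup.transvection hij c = uM c := by
      apply Subtype.ext
      ext a b
      fin_cases a <;> fin_cases b <;>
        simp [Matrix.SpecialLinearGroup.transvection, Matrix.transvection, uM_coe, Matrix.single]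
    rw [e]
    exact hu c
  · have e : Matrix.SpecialLinearGroup.transvection hij c = lM c := by
      apply Subtype.ext
      ext a b
      fin_cases a <;> fin_cases b <;>
        simp [Matrix.SpecialLinearGroup.transvection, Matrix.transvection, lM_coe, Matrix.single]
    rw [e]
    exact hl c
  · exact absurd rfl hij

/-- the embedding `SL₂(K) → SL₂(F)` for a subfield `K` -/
noncomputable def slkHom (K : Subfield F) : Matrix.SpecialLinearGroup (Fin 2) K →* SF :=
  Matrix.SpecialLinearGroup.map K.subtype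

theorem slkHom_coe (K : Subfield F) (g : Matrix.SpecialLinearGroup (Fin 2) K) (i j : Fin 2) :
    ((slkHom K g : SF) : MF) i j = ((g : Matrix (Fin 2) (Fin 2) K) i j : F) := rfl

theorem slkHom_injective (K : Subfield F) : Function.Injective (slkHom K) := by
  intro g h hgh
  apply Subtype.ext
  ext i j
  have := congrArg (fun m : SF => (m : MF) i j) hgh
  simp only [slkHom_coe] at this
  exact this

/-- the subgroup of matrices with entries in the subfield `K` -/
noncomputable def SLK (K : Subfield F) : Subgroup SF := (slkHom K).range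

theorem mem_SLK (K : Subfield F) (g : SF) : g ∈ SLK K ↔ ∀ i j, (g : MF) i j ∈ K := by
  constructor
  · rintro ⟨g', rfl⟩ i j
    rw [slkHom_coe]
    exact ((g' : Matrix (Fin 2) (Fin 2) K) i j).2
  · intro hg
    have hdet : (Matrix.of fun i j => (⟨(g : MF) i j, hg i j⟩ : K)).det = 1 := by
      apply Subtype.val_injective
      have := RingHom.map_det K.subtype (Matrix.of fun i j => (⟨(g : MF) i j, hg i j⟩ : K))
      rw [Subfield.coe_one]
      have h2 : K.subtype.mapMatrix (Matrix.of fun i j => (⟨(g : MF) i j, hg i j⟩ : K)) =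
          (g : MF) := by
        ext i j
        rfl
      rw [h2, g.2] at this
      exact this
    refine ⟨⟨Matrix.of fun i j => (⟨(g : MF) i j, hg i j⟩ : K), hdet⟩, ?_⟩
    apply Subtype.ext
    ext i j
    rfl

/-- `SLK K ≃* SL₂(K)` -/
noncomputable def SLKEquiv (K : Subfield F) : SLK K ≃* Matrix.SpecialLinearGroup (Fin 2) K :=
  (MonoidHom.ofInjective (slkHom_injective K)).symm

theorem slkHom_uM (K : Subfield F) (x : K) : slkHom K (uM x) = uM (x : F) := by
  apply Subtype.ext
  ext i j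
  rw [slkHom_coe, uM_coe, uM_coe]
  fin_cases i <;> fin_cases j <;> simp

theorem slkHom_lM (K : Subfield F) (x : K) : slkHom K (lM x) = lM (x : F) := by
  apply Subtype.ext
  ext i j
  rw [slkHom_coe, lM_coe, lM_coe]
  fin_cases i <;> fin_cases j <;> simp

theorem uM_mem_SLK (K : Subfield F) (x : F) : uM x ∈ SLK K ↔ x ∈ K := by
  rw [mem_SLK]
  constructor
  · intro h
    have := h 0 1
    simpa [uM_coe] using this
  · intro hx i j
    rw [uM_coe]
    fin_cases i <;> fin_cases j <;> simp [hx, K.one_mem, K.zero_mem]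

theorem lM_mem_SLK (K : Subfield F) (x : F) : lM x ∈ SLK K ↔ x ∈ K := by
  rw [mem_SLK]
  constructor
  · intro h
    have := h 1 0
    simpa [lM_coe] using this
  · intro hx i j
    rw [lM_coe]
    fin_cases i <;> fin_cases j <;> simp [hx, K.one_mem, K.zero_mem]

theorem SLK_le_of (K : Subfield F) (H : Subgroup SF) (hu : ∀ x ∈ K, uM x ∈ H)
    (hl : ∀ x ∈ K, lM x ∈ H) : SLK K ≤ H := by
  have h1 : (H.comap (slkHom K)) = ⊤ := by
    apply eq_top_of_uM_lM
    · intro x
      rw [Subgroup.mem_comap, slkHom_uM]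
      exact hu _ x.2
    · intro x
      rw [Subgroup.mem_comap, slkHom_lM]
      exact hl _ x.2
  rintro g ⟨g', rfl⟩
  have : g' ∈ H.comap (slkHom K) := by rw [h1]; trivial
  exact this

theorem SLK_mono {K L : Subfield F} (h : K ≤ L) : SLK K ≤ SLK L := by
  intro g hg
  rw [mem_SLK] at hg ⊢
  exact fun i j => h (hg i j)

theorem SLK_top : SLK (⊤ : Subfield F) = ⊤ := by
  rw [eq_top_iff]
  intro g _
  rw [mem_SLK]
  exact fun i j => Subfield.mem_top _

/-- **Refined structure theorem.** -/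
theorem struct_of_subgroup' [Finite F] (p : ℕ) [Fact p.Prime] [CharP F p] (hp : p ≠ 2)
    (H : Subgroup SF) (a0 : F) (ha0 : a0 ≠ 0) (hu : uM a0 ∈ H) (hl : lM 1 ∈ H)
    (hex : p = 3 → Nat.card H ≠ 120) :
    ∃ K : Subfield F, (∀ x, uM x ∈ H ↔ x ∈ K) ∧ (∀ x, lM x ∈ H ↔ x ∈ K) ∧ SLK K ≤ H ∧
      (∀ h ∈ H, ∃ t : F, t ≠ 0 ∧ t ^ 2 ∈ K ∧ ∀ i j, t * (h : MF) i j ∈ K) ∧
      Nat.card H = (Nat.card K + 1) * Nat.card {g : SF // g ∈ H ∧ (g : MF) 1 0 = 0} := by
  obtain ⟨K, hK1, hK2, hcard, hb, hnb⟩ := struct_of_subgroup p hp H a0 ha0 hu hl hex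
  have hle : SLK K ≤ H := SLK_le_of K H (fun x hx => (hK1 x).2 hx) (fun x hx => (hK2 x).2 hx)
  refine ⟨K, hK1, hK2, hle, ?_, hcard⟩
  -- upper triangular elements
  have hB : ∀ h ∈ H, (h : MF) 1 0 = 0 → (h : MF) 0 0 ≠ 0 ∧ (h : MF) 0 0 ^ 2 ∈ K ∧
      ∀ i j, (h : MF) 0 0 * (h : MF) i j ∈ K := by
    intro h hh h10
    have hd := borel_entries h h10
    have h00 : (h : MF) 0 0 ≠ 0 := by
      intro h0; rw [h0, zero_mul] at hd; exact zero_ne_one hd
    have hsq : (h : MF) 0 0 ^ 2 ∈ K := by
      rw [← hK1]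
      have := conj_uM h h10 1
      rw [mul_one] at this
      rw [← this]
      exact H.mul_mem (H.mul_mem hh ((hK1 1).2 K.one_mem)) (H.inv_mem hh)
    refine ⟨h00, hsq, ?_⟩
    intro i j
    fin_cases i <;> fin_cases j
    · simpa [pow_two] using hsq
    · exact hb h hh h10
    · simp [h10, K.zero_mem]
    · simp only [Fin.mk_one, Fin.isValue]
      rw [hd]; exact K.one_mem
  intro h hh
  by_cases h10 : (h : MF) 1 0 = 0
  · obtain ⟨h1, h3, h4⟩ := hB h hh h10
    exact ⟨_, h1, h3, h4⟩
  · have hc := hnb h hh h10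
    set c := (h : MF) 0 0 / (h : MF) 1 0 with hcdef
    have hw : (uM 1 * lM (-(1 / 1)) * uM 1 : SF) ∈ H := by
      refine H.mul_mem (H.mul_mem ((hK1 1).2 K.one_mem) ?_) ((hK1 1).2 K.one_mem)
      rw [hK2]
      exact K.neg_mem (by simp)
    have hwm := wM_eq (1 : F) one_ne_zero
    set w : SF := uM 1 * lM (-(1 / 1)) * uM 1 with hwdef
    set b : SF := w * uM (-c) * h with hbdef
    have hbH : b ∈ H := H.mul_mem (H.mul_mem hw ((hK1 _).2 (K.neg_mem hc))) hh
    have hbm : (b : MF) = !![(h : MF) 1 0, (h : MF) 1 1; 0, c * (h : MF) 1 1 - (h : MF) 0 1] := by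
      rw [hbdef, Matrix.SpecialLinearGroup.coe_mul, Matrix.SpecialLinearGroup.coe_mul, hwm, uM_coe,
        Matrix.eta_fin_two (h : MF)]
      ext i j
      fin_cases i <;> fin_cases j <;> simp [Matrix.mul_apply, Fin.sum_univ_two]
      · rw [hcdef]; field_simp; ring
      · ring
    have hb10 : (b : MF) 1 0 = 0 := by rw [hbm]; simp
    obtain ⟨h1, h3, h4⟩ := hB b hbH hb10
    have hb00 : (b : MF) 0 0 = (h : MF) 1 0 := by rw [hbm]; simp
    have hb01 : (b : MF) 0 1 = (h : MF) 1 1 := by rw [hbm]; simp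
    rw [hb00] at h3
    have h5 := h4 0 1
    rw [hb00, hb01] at h5
    refine ⟨(h : MF) 1 0, h10, h3, ?_⟩
    have hdet := det_eq h
    intro i j
    fin_cases i <;> fin_cases j
    · have e : (h : MF) 1 0 * (h : MF) 0 0 = (h : MF) 1 0 ^ 2 * c := by
        rw [hcdef]; field_simp
      simp only [Fin.zero_eta, Fin.isValue]
      rw [e]
      exact K.mul_mem h3 hc
    · have e : (h : MF) 1 0 * (h : MF) 0 1 = c * ((h : MF) 1 0 * (h : MF) 1 1) - 1 := by
        rw [hcdef]; field_simp; linear_combination -hdet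
      simp only [Fin.zero_eta, Fin.isValue, Fin.mk_one]
      rw [e]
      exact K.sub_mem (K.mul_mem hc h5) K.one_mem
    · simpa [pow_two] using h3
    · exact h5

end Cfsg.Agent.Helper18.Dickson
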