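import Cfsg.Agent.Helper18.DicksonE2a
import Cfsg.Agent.Helper18.Dickson18

/-! In characteristic `3`, if `i² = -1` then `⟨lM 1, uM i⟩` has at most `120` elements. -/

set_option autoImplicit false

namespace Cfsg.Agent.Helper18.Dickson.E2

open Cfsg.Agent.Helper18.Dickson

variable {F : Type*} [Field F] [CharP F 3]

local notation "SF" => Matrix.SpecialLinearGroup (Fin 2) F
local notation "MF" => Matrix (Fin 2) (Fin 2) F

/-- `(a, b) ↦ a + b i` -/
def phi (i : F) (x : R9) : F :=
  (ZMod.castHom (dvd_refl 3) F x.1) + (ZMod.castHom (dvd_refl 3) F x.2) * i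

theorem phi_add (i : F) (x y : R9) : phi i (radd x y) = phi i x + phi i y := by
  unfold phi radd
  simp only [map_add]
  ring

theorem phi_mul (i : F) (hi : i ^ 2 = -1) (x y : R9) : phi i (rmul x y) = phi i x * phi i y := by
  unfold phi rmul
  simp only [map_add, map_sub, map_mul]
  linear_combination (-(ZMod.castHom (dvd_refl 3) F x.2) * (ZMod.castHom (dvd_refl 3) F y.2)) * hi

/-- the matrix of a code -/
def dec (i : F) (A : C9) : MF := !![phi i A.1, phi i A.2.1; phi i A.2.2.1, phi i A.2.2.2]

theorem dec_mul (i : F) (hi : i ^ 2 = -1) (A B : C9) :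
    dec i (cmul A B) = dec i A * dec i B := by
  unfold dec cmul
  simp only [phi_add, phi_mul i hi]
  rw [Matrix.mul_fin_two]

theorem phi_one (i : F) : phi i ((1, 0) : R9) = 1 := by
  unfold phi; simp

theorem phi_zero (i : F) : phi i ((0, 0) : R9) = 0 := by
  unfold phi; simp

theorem phi_two (i : F) : phi i ((2, 0) : R9) = -1 := by
  unfold phi
  simp only [map_zero, zero_mul, add_zero]
  have h3 : ((3 : ℕ) : F) = 0 := CharP.cast_eq_zero F 3
  have : (ZMod.castHom (dvd_refl 3) F (2 : ZMod 3)) = (2 : F) := by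
    have e : (2 : ZMod 3) = 1 + 1 := by decide
    rw [e, map_add, map_one]
    norm_num
  rw [this]
  push_cast at h3
  linear_combination h3

theorem phi_i (i : F) : phi i ((0, 1) : R9) = i := by
  unfold phi; simp

theorem phi_neg_i (i : F) : phi i ((0, 2) : R9) = -i := by
  unfold phi
  simp only [map_zero, zero_add]
  have h3 : ((3 : ℕ) : F) = 0 := CharP.cast_eq_zero F 3
  have : (ZMod.castHom (dvd_refl 3) F (2 : ZMod 3)) = (2 : F) := by
    have e : (2 : ZMod 3) = 1 + 1 := by decide
    rw [e, map_add, map_one]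
    norm_num
  rw [this]
  push_cast at h3
  linear_combination i * h3

theorem dec_cone (i : F) : dec i cone = ((1 : SF) : MF) := by
  unfold dec cone
  simp only [phi_one, phi_zero]
  rw [Matrix.SpecialLinearGroup.coe_one, Matrix.one_fin_two]

theorem dec_cl1 (i : F) : dec i cl1 = ((lM 1 : SF) : MF) := by
  unfold dec cl1
  simp only [phi_one, phi_zero]
  rfl

theorem dec_cl1i (i : F) : dec i cl1i = ((lM (-1) : SF) : MF) := by
  unfold dec cl1i
  simp only [phi_one, phi_zero, phi_two]
  rfl

theorem dec_cui (i : F) : dec i cui = ((uM i : SF) : MF) := by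
  unfold dec cui
  simp only [phi_one, phi_zero, phi_i]
  rfl

theorem dec_cuii (i : F) : dec i cuii = ((uM (-i) : SF) : MF) := by
  unfold dec cuii
  simp only [phi_one, phi_zero, phi_neg_i]
  rfl

/-- the `120` matrices -/
def TF (i : F) : Set SF := {g | ∃ c ∈ T120, (g : MF) = dec i c}

theorem one_mem_TF (i : F) : (1 : SF) ∈ TF i := ⟨cone, cone_mem, (dec_cone i).symm⟩

theorem card_TF_le (i : F) : Finite (TF i) ∧ Nat.card (TF i) ≤ 120 := by
  classical
  have hex : ∀ g : TF i, ∃ c : {c // c ∈ T120}, ((g : SF) : MF) = dec i c.1 := by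
    rintro ⟨g, c, hc, hg⟩
    exact ⟨⟨c, hc⟩, hg⟩
  choose f hf using hex
  have hinj : Function.Injective f := by
    intro g h hgh
    apply Subtype.ext
    apply Subtype.ext
    rw [hf g, hf h, hgh]
  have hfin : Finite {c // c ∈ T120} := by
    have : {c // c ∈ T120} = {c // c ∈ T120.toFinset} := by simp
    rw [this]
    infer_instance
  have hfinT : Finite (TF i) := Finite.of_injective f hinj
  refine ⟨hfinT, ?_⟩
  have h1 := Nat.card_le_card_of_injective f hinj
  have h2 : Nat.card {c // c ∈ T120} ≤ 120 := by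
    have e : Nat.card {c // c ∈ T120} = T120.toFinset.card := by
      rw [← Nat.card_eq_finsetCard]
      apply Nat.card_congr
      exact Equiv.subtypeEquivRight (fun c => by simp)
    rw [e]
    exact (List.toFinset_card_le T120).trans (le_of_eq T120_length)
  exact h1.trans h2

theorem mul_mem_TF (i : F) (hi : i ^ 2 = -1) (x : SF) (cx : C9) (hx : (x : MF) = dec i cx)
    (hcl : ∀ c ∈ T120, cmul cx c ∈ T120) (g : SF) (hg : g ∈ TF i) : x * g ∈ TF i := by
  obtain ⟨c, hc, hgc⟩ := hg
  refine ⟨cmul cx c, hcl c hc, ?_⟩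
  rw [Matrix.SpecialLinearGroup.coe_mul, hx, hgc, dec_mul i hi]

/-- the left stabilizer of `TF` -/
def stabTF (i : F) : Subgroup SF where
  carrier := {x | ∀ g, g ∈ TF i ↔ x * g ∈ TF i}
  one_mem' := by intro g; rw [one_mul]
  mul_mem' := by
    intro x y hx hy g
    rw [hy g, hx (y * g), mul_assoc]
  inv_mem' := by
    intro x hx g
    rw [hx (x⁻¹ * g), mul_inv_cancel_left]

theorem closure_subset_TF (i : F) (hi : i ^ 2 = -1) :
    (Subgroup.closure ({lM 1, uM i} : Set SF) : Set SF) ⊆ TF i := by
  have hle : Subgroup.closure ({lM 1, uM i} : Set SF) ≤ stabTF i := by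
    rw [Subgroup.closure_le]
    rintro x (rfl | rfl)
    · intro g
      constructor
      · exact mul_mem_TF i hi _ cl1 (dec_cl1 i).symm T120_closed1 g
      · intro h
        have := mul_mem_TF i hi (lM (-1)) cl1i (dec_cl1i i).symm T120_closed2 _ h
        rwa [← mul_assoc, lM_mul, neg_add_cancel, lM_zero, one_mul] at this
    · intro g
      constructor
      · exact mul_mem_TF i hi _ cui (dec_cui i).symm T120_closed3 g
      · intro h
        have := mul_mem_TF i hi (uM (-i)) cuii (dec_cuii i).symm T120_closed4 _ h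
        rwa [← mul_assoc, uM_mul, neg_add_cancel, uM_zero, one_mul] at this
  intro x hx
  have := (hle hx) 1
  rw [mul_one] at this
  exact this.1 (one_mem_TF i)

theorem card_closure_le (i : F) (hi : i ^ 2 = -1) :
    Nat.card (Subgroup.closure ({lM 1, uM i} : Set SF)) ≤ 120 := by
  obtain ⟨hfin, hle⟩ := card_TF_le i
  have h1 : Nat.card (Subgroup.closure ({lM 1, uM i} : Set SF)) ≤ Nat.card (TF i) := by
    apply Nat.card_le_card_of_injective (fun x => (⟨x.1, closure_subset_TF i hi x.2⟩ : TF i))
    intro x y hxy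
    apply Subtype.ext
    have := congrArg (fun z : TF i => (z : SF)) hxy
    exact this
  exact h1.trans hle

end Cfsg.Agent.Helper18.Dickson.E2
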