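import Cfsg.Agent.Helper18.Dickson26
import Cfsg.Agent.Helper18.DicksonE2b
import Cfsg.Agent.Helper18.Dickson20

/-! Dickson-type counting, part 27: `⟨lM 1, uM λ⟩` for a field generator `λ`
(Dickson's generation theorem). -/

set_option autoImplicit false

namespace Cfsg.Agent.Helper18.Dickson

variable {F : Type*} [Field F]

local notation "SF" => Matrix.SpecialLinearGroup (Fin 2) F
local notation "MF" => Matrix (Fin 2) (Fin 2) F

/-- if every element satisfies `x ^ (3 ^ k) = x` then `|F| ≤ 3 ^ k` -/
theorem card_le_of_forall_pow [Fintype F] (m : ℕ) (hm2 : 2 ≤ m) (h : ∀ x : F, x ^ m = x) :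
    Fintype.card F ≤ m := by
  classical
  have hm : 1 ≤ m := by omega
  obtain ⟨g, hg⟩ := IsCyclic.exists_generator (α := Fˣ)
  have hord : orderOf g = Nat.card Fˣ := orderOf_eq_card_of_forall_mem_zpowers hg
  have h1 : g ^ (m - 1) = 1 := by
    apply Units.ext
    have h2 := h (g : F)
    have h3 : ((g : F)) ^ (m - 1) * (g : F) = (g : F) := by
      rw [← pow_succ, Nat.sub_add_cancel hm, h2]
    have h4 : (g : F) ≠ 0 := g.ne_zero
    have h5 : ((g : F)) ^ (m - 1) = 1 := by
      have : ((g : F)) ^ (m - 1) * (g : F) = 1 * (g : F) := by rw [h3, one_mul]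
      exact mul_right_cancel₀ h4 this
    rw [Units.val_pow_eq_pow_val, h5, Units.val_one]
  have h6 : orderOf g ∣ m - 1 := orderOf_dvd_of_pow_eq_one h1
  rw [hord, Nat.card_eq_fintype_card, Fintype.card_units] at h6
  have h7 : 0 < m - 1 := by omega
  have := Nat.le_of_dvd h7 h6
  omega

theorem forall_pow_of_gen [CharP F 3] (k : ℕ) (t : F) (ht : t ^ (3 ^ k) = t)
    (hgen : Subfield.closure ({t} : Set F) = ⊤) : ∀ x : F, x ^ (3 ^ k) = x := by
  have : Fact (Nat.Prime 3) := ⟨Nat.prime_three⟩
  have : ExpChar F 3 := ExpChar.prime Nat.prime_three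
  let K' : Subfield F := RingHom.eqLocusField (iterateFrobenius F 3 k) (RingHom.id F)
  have hle : Subfield.closure ({t} : Set F) ≤ K' := by
    rw [Subfield.closure_le]
    intro x hx
    rw [Set.mem_singleton_iff] at hx
    subst hx
    show iterateFrobenius F 3 k x = RingHom.id F x
    rw [iterateFrobenius_def, ht]; rfl
  intro x
  have hx : x ∈ K' := hle (by rw [hgen]; trivial)
  have : iterateFrobenius F 3 k x = RingHom.id F x := hx
  rw [iterateFrobenius_def] at this
  exact this

/-- trace analysis in the exceptional case -/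
theorem exc_trace_alg (h3 : (3 : F) = 0) (t : F) (ht : t ≠ 0)
    (ha : TrCond (2 + t)) (hb : TrCond (2 - t)) : t ^ 3 = t ∨ t ^ 2 = -1 := by
  unfold TrCond at ha hb
  rcases ha with ha | ha | ha | ha | ha
  · left
    have : t = 1 := by linear_combination ha - h3
    rw [this]; ring
  · exact absurd (by linear_combination ha) ht
  · left
    have : t = -1 := by linear_combination ha - h3
    rw [this]; ring
  · rcases hb with hb | hb | hb | hb | hb
    · left
      have : t = -1 := by linear_combination -hb + h3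
      rw [this]; ring
    · exact absurd (by linear_combination -hb) ht
    · left
      have : t = 1 := by linear_combination -hb + h3
      rw [this]; ring
    · exfalso
      apply ht
      linear_combination ha - hb - 3 * t * h3
    · right
      linear_combination hb + t * h3
  · right
    linear_combination ha - t * h3

/-- **Dickson's generation theorem** -/
theorem dickson_gen [Fintype F] (h2 : (2 : F) ≠ 0) (lam : F) (hlam : lam ≠ 0)
    (hgen : Subfield.closure ({lam} : Set F) = ⊤) :
    (Subgroup.closure ({lM 1, uM lam} : Set SF) = ⊤ ∧ ¬ (Fintype.card F = 9 ∧ lam ^ 2 = -1)) ∨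
    (Fintype.card F = 9 ∧ lam ^ 2 = -1 ∧
      Nat.card (Subgroup.closure ({lM 1, uM lam} : Set SF)) = 120) := by
  classical
  obtain ⟨p, hp⟩ := CharP.exists F
  have hpp : p.Prime := CharP.char_is_prime F p
  have : Fact p.Prime := ⟨hpp⟩
  have hp2 : p ≠ 2 := by
    rintro rfl
    exact h2 (by exact_mod_cast CharP.cast_eq_zero F 2)
  set X := Subgroup.closure ({lM 1, uM lam} : Set SF) with hX
  have hl : lM 1 ∈ X := Subgroup.subset_closure (by simp)
  have hu : uM lam ∈ X := Subgroup.subset_closure (by simp)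
  have hcardSL := Cfsg.Agent.S2301.card_sl2 (F := F)
  by_cases hex : p = 3 ∧ Nat.card X = 120
  · right
    obtain ⟨rfl, h120⟩ := hex
    have h3 : (3 : F) = 0 := by exact_mod_cast CharP.cast_eq_zero F 3
    have htr := trCond_of_subgroup X lam hlam hu hl h120
    have hg1 : lM 1 * uM lam ∈ X := X.mul_mem hl hu
    have hg2 : lM 1 * uM (-lam) ∈ X := X.mul_mem hl (by rw [← uM_inv]; exact X.inv_mem hu)
    have t1 := htr _ hg1
    have t2 := htr _ hg2
    have e1 : ((lM 1 * uM lam : SF) : MF) 0 0 + ((lM 1 * uM lam : SF) : MF) 1 1 = 2 + lam := by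
      simp [Matrix.SpecialLinearGroup.coe_mul, lM_coe, uM_coe, Matrix.mul_apply, Fin.sum_univ_two]
      ring
    have e2 : ((lM 1 * uM (-lam) : SF) : MF) 0 0 + ((lM 1 * uM (-lam) : SF) : MF) 1 1
        = 2 - lam := by
      simp [Matrix.SpecialLinearGroup.coe_mul, lM_coe, uM_coe, Matrix.mul_apply, Fin.sum_univ_two]
      ring
    rw [e1] at t1
    rw [e2] at t2
    have key := exc_trace_alg h3 lam hlam t1 t2
    have hle : 120 ≤ (Fintype.card F + 1) * ((Fintype.card F - 1) * Fintype.card F) := by
      rw [← hcardSL, ← h120]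
      exact Subgroup.card_le_card_group X
    have hq3 : Fintype.card F ≠ 3 := by
      intro h; rw [h] at hle; norm_num at hle
    obtain ⟨n, -, hn⟩ := FiniteField.card F 3
    rcases key with hk | hk
    · exfalso
      have hall := forall_pow_of_gen 1 lam (by rw [pow_one]; exact hk) hgen
      rw [pow_one] at hall
      have hc := card_le_of_forall_pow 3 (by norm_num) hall
      have hn' : 3 ^ 1 ≤ 3 ^ (n : ℕ) := Nat.pow_le_pow_right (by norm_num) n.pos
      rw [← hn] at hn'
      omega
    · have h9 : lam ^ (3 ^ 2) = lam := by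
        have : lam ^ (3 ^ 2) = (lam ^ 2) ^ 4 * lam := by ring
        rw [this, hk]; ring
      have hall := forall_pow_of_gen 2 lam h9 hgen
      have hc := card_le_of_forall_pow (3 ^ 2) (by norm_num) hall
      have hn1 : (n : ℕ) = 1 ∨ (n : ℕ) = 2 ∨ 3 ≤ (n : ℕ) := by have := n.pos; omega
      rcases hn1 with h | h | h
      · rw [h, pow_one] at hn; exact absurd hn hq3
      · rw [h] at hn
        exact ⟨by rw [hn]; norm_num, hk, h120⟩
      · have hn' : 3 ^ 3 ≤ 3 ^ (n : ℕ) := Nat.pow_le_pow_right (by norm_num) h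
        rw [← hn] at hn'
        norm_num at hc hn'
        omega
  · left
    obtain ⟨K, hK1, hK2, -, -, -⟩ := struct_of_subgroup' p hp2 X lam hlam hu hl
      (fun h3 h120 => hex ⟨h3, h120⟩)
    have hKtop : K = ⊤ := by
      rw [eq_top_iff, ← hgen, Subfield.closure_le]
      intro x hx
      rw [Set.mem_singleton_iff] at hx
      subst hx
      exact (hK1 _).1 hu
    have hXtop : X = ⊤ := eq_top_of_uM_lM X
      (fun x => (hK1 x).2 (by rw [hKtop]; trivial)) (fun x => (hK2 x).2 (by rw [hKtop]; trivial))
    refine ⟨hXtop, ?_⟩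
    rintro ⟨h9, hi⟩
    obtain ⟨n, -, hn⟩ := FiniteField.card F p
    have hp3 : p = 3 := by
      have : p ∣ 3 ^ 2 := by
        rw [show 3 ^ 2 = 9 by norm_num, ← h9, hn]
        exact dvd_pow_self p n.ne_zero
      exact (Nat.prime_dvd_prime_iff_eq hpp Nat.prime_three).1 (hpp.dvd_of_dvd_pow this)
    subst hp3
    have hle := E2.card_closure_le lam hi
    have : Nat.card X = Nat.card SF := by rw [hXtop]; exact Subgroup.card_top
    rw [← hX, this, hcardSL, h9] at hle
    norm_num at hle

end Cfsg.Agent.Helper18.Dickson
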