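import Cfsg.Agent.Helper12.S5683Lib

set_option autoImplicit false
set_option linter.unusedSectionVars false
set_option linter.unusedVariables false

/-! S5683 piece LINEOFFORM: a line whose Plücker form is rational on rational vectors has a rational
basis. -/

namespace Cfsg.Agent.S5683P

open Matrix Cfsg.Agent.Helper28.Sg Cfsg.Agent.Helper28.Spin Cfsg.Agent.Helper12.OrthGen
  Cfsg.Agent.S2614

variable {F : Type*} [Field F] {m : ℕ}

namespace LINEOFFORM

/-- the standard basis vector dual to the coordinate `k` -/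
def bv (F : Type*) [Field F] {m : ℕ} : Idx m → (Idx m → F)
  | Sum.inl _ => dd F m
  | Sum.inr (Sum.inl i) => ff F i
  | Sum.inr (Sum.inr i) => ee F i

/-- the factor of the coordinate `k` -/
def cf (F : Type*) [Field F] {m : ℕ} : Idx m → F
  | Sum.inl _ => 2
  | Sum.inr _ => 1

theorem rat_bv (F₀ : Subfield F) (k : Idx m) : Rat F₀ (bv F k) := by
  rcases k with u | i | i
  · exact rat_dd
  · exact rat_ff i
  · exact rat_ee i

theorem cf_ne_zero (h2 : (2 : F) ≠ 0) (k : Idx m) : cf F k ≠ 0 := by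
  rcases k with u | i
  · exact h2
  · exact one_ne_zero

theorem B_bv (k : Idx m) (x : Idx m → F) : B (QfOdd m F) (bv F k) x = cf F k * x k := by
  rcases k with u | i | i
  · exact B_dd x
  · show B (QfOdd m F) (ff F i) x = 1 * _
    rw [B_ff, one_mul]
  · show B (QfOdd m F) (ee F i) x = 1 * _
    rw [B_ee, one_mul]

/-- two independent vectors have a non-zero minor -/
theorem exists_minor {v w : Idx m → F} (hind : Indep v w) :
    ∃ k l : Idx m, v k * w l - v l * w k ≠ 0 := by
  by_contra hcon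
  push Not at hcon
  have hv : v ≠ 0 := by
    intro h0
    have := hind 1 0 (by rw [h0, smul_zero, zero_smul, add_zero])
    exact one_ne_zero this.1
  obtain ⟨k, hk⟩ : ∃ k, v k ≠ 0 := by
    by_contra h
    push Not at h
    exact hv (funext h)
  have h1 : (w k * (v k)⁻¹) • v + (-1 : F) • w = 0 := by
    funext l
    have h3 := hcon k l
    simp only [Pi.add_apply, Pi.smul_apply, smul_eq_mul, Pi.zero_apply]
    have h4 : v k * w l = v l * w k := sub_eq_zero.1 h3
    field_simp
    linear_combination -h4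
  have := (hind _ _ h1).2
  exact one_ne_zero (neg_eq_zero.1 this)

/-- the vector `B(x,v) w - B(x,w) v` is rational for rational `x` -/
theorem rat_z (h2 : (2 : F) ≠ 0) (F₀ : Subfield F) (v w : Idx m → F)
    (hA : ∀ x y : Idx m → F, Rat F₀ x → Rat F₀ y →
      B (QfOdd m F) x v * B (QfOdd m F) y w - B (QfOdd m F) x w * B (QfOdd m F) y v ∈ F₀)
    (x : Idx m → F) (hx : Rat F₀ x) :
    Rat F₀ ((-(B (QfOdd m F) x w)) • v + B (QfOdd m F) x v • w) := by
  have key : ∀ y : Idx m → F, Rat F₀ y →
      B (QfOdd m F) y ((-(B (QfOdd m F) x w)) • v + B (QfOdd m F) x v • w) ∈ F₀ := by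
    intro y hy
    have e : B (QfOdd m F) y ((-(B (QfOdd m F) x w)) • v + B (QfOdd m F) x v • w) =
        B (QfOdd m F) x v * B (QfOdd m F) y w - B (QfOdd m F) x w * B (QfOdd m F) y v := by
      show QuadraticMap.polar ⇑(QfOdd m F) y _ = _
      rw [QuadraticMap.polar_add_right, QuadraticMap.polar_smul_right,
        QuadraticMap.polar_smul_right, smul_eq_mul, smul_eq_mul]
      ring
    rw [e]
    exact hA x y hx hy
  exact rat_of_B h2 (fun i => key _ (rat_ee i)) (fun i => key _ (rat_ff i)) (key _ rat_dd)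

end LINEOFFORM

open LINEOFFORM

/-- LINEOFFORM: a line whose Plücker form is rational is rational. -/
theorem LINEOFFORM.ratLine (h2 : (2 : F) ≠ 0) (F₀ : Subfield F) (v w : Idx m → F)
    (hind : Indep v w)
    (hA : ∀ x y : Idx m → F, Rat F₀ x → Rat F₀ y →
      B (QfOdd m F) x v * B (QfOdd m F) y w - B (QfOdd m F) x w * B (QfOdd m F) y v ∈ F₀) :
    RatLine F₀ v w := by
  obtain ⟨k, l, hkl⟩ := exists_minor hind
  refine ⟨-(B (QfOdd m F) (bv F k) w), B (QfOdd m F) (bv F k) v, -(B (QfOdd m F) (bv F l) w),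
    B (QfOdd m F) (bv F l) v, ?_, rat_z h2 F₀ v w hA _ (rat_bv F₀ k), rat_z h2 F₀ v w hA _ (rat_bv F₀ l)⟩
  rw [B_bv, B_bv, B_bv, B_bv]
  have e : -(cf F k * w k) * (cf F l * v l) - cf F k * v k * -(cf F l * w l) =
      cf F k * cf F l * (v k * w l - v l * w k) := by ring
  rw [e]
  exact mul_ne_zero (mul_ne_zero (cf_ne_zero h2 k) (cf_ne_zero h2 l)) hkl

end Cfsg.Agent.S5683P
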