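import Cfsg.Agent.Helper12.S5702Defs2
import Cfsg.Agent.Helper17.S5683MEMSUBF

set_option autoImplicit false
set_option linter.unusedSectionVars false
set_option linter.unusedVariables false

/-! S5702 piece PROPER: `Ω` is not contained in the subfield group (the long root element
`E(e_0, θ e_1)` with `θ ∉ F₀`).  Port of `Cfsg.Agent.Helper18.S5683PROPER`. -/

namespace Cfsg.Agent.S5702P

open Matrix Cfsg.Agent.Helper28.Sg Cfsg.Agent.Helper28.Spin Cfsg.Agent.Helper12.OrthGen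
  Cfsg.Agent.S5683P

variable {F : Type*} [Field F] {m : ℕ} {a b : F}

namespace PROPER

theorem B_ee_ee (i j : Fin m) : B (QfMinus m F a b) (ee F i) (ee F j) = 0 := by
  rw [B_ee]
  unfold ee
  rw [Pi.single_apply, if_neg]
  intro h
  cases Sum.inl_injective h

theorem B_smul_ee (θ : F) (j : Fin m) (x : Idx m → F) :
    B (QfMinus m F a b) (θ • ee F j) x = θ * x (Sum.inl (Sum.inr j)) := by
  have h : B (QfMinus m F a b) (θ • ee F j) x = θ * B (QfMinus m F a b) (ee F j) x := by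
    show QuadraticMap.polar ⇑(QfMinus m F a b) (θ • ee F j) x =
      θ * QuadraticMap.polar ⇑(QfMinus m F a b) _ x
    rw [QuadraticMap.polar_smul_left, smul_eq_mul]
  rw [h, B_ee]

theorem Q_smul_ee (θ : F) (j : Fin m) : QfMinus m F a b (θ • ee F j) = 0 := by
  rw [QuadraticMap.map_smul, Q_ee, smul_zero]

/-- the image of a vector under `E(e_i, θ e_j)` -/
theorem sieg_mulVec (θ : F) (i j : Fin m)
    (h : B (QfMinus m F a b) (ee F i) (θ • ee F j) = 0) (x : Idx m → F) :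
    mt (QfMinus m F a b) (siegO (QfMinus m F a b) (ee F i) (θ • ee F j) (Q_ee i) h) *ᵥ x =
      x + x (Sum.inl (Sum.inr i)) • (θ • ee F j) - (θ * x (Sum.inl (Sum.inr j))) • ee F i := by
  rw [siegO_mulVec, B_ee, B_smul_ee, Q_smul_ee, zero_mul, zero_smul, sub_zero]

end PROPER

open PROPER

/-- PROPER: `Ω` is not contained in the subfield group. -/
theorem PROPER.exists_not_mem [Fintype F] (hm : 3 ≤ m) (F₀ : Subfield F)
    (hab : 4 * b - a ^ 2 ≠ 0) (θ : F) (hθ : θ ∉ F₀) :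
    ∃ g : Matrix.GeneralLinearGroup (Idx m) F, g ∈ Cfsg.Geo.omegaGL ⇑(QfMinus m F a b) ∧
      g ∉ Cfsg.Geo.subfieldSubgroup F₀ (1 : Matrix.GeneralLinearGroup (Idx m) F) := by
  classical
  let i0 : Fin m := ⟨0, by omega⟩
  let i1 : Fin m := ⟨1, by omega⟩
  have h01 : i0 ≠ i1 := by
    intro h
    have := congrArg Fin.val h
    simp [i0, i1] at this
  have hB : B (QfMinus m F a b) (ee F i0) (θ • ee F i1) = 0 :=
    B_smul_right_zero _ θ (B_ee_ee i0 i1)
  refine ⟨((siegO (QfMinus m F a b) (ee F i0) (θ • ee F i1) (Q_ee i0) hB : OG m F a b) :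
    Matrix.GeneralLinearGroup (Idx m) F), ?_, ?_⟩
  · exact (Cfsg.Agent.Helper28.NM.mem_omegaGL_iff (QfMinus m F a b) _).2
      ⟨_, S_le_Omega_even hab hm (siegO_mem_S _ _ _ _ _), rfl⟩
  · intro hmem
    obtain ⟨z, hz, hR⟩ := (MEMSUBF.mem_subf_one_iff F₀ _).1 hmem
    have hcol : ∀ j i : Idx m,
        mt (QfMinus m F a b) (siegO (QfMinus m F a b) (ee F i0) (θ • ee F i1) (Q_ee i0) hB) i j =
          (mt (QfMinus m F a b) (siegO (QfMinus m F a b) (ee F i0) (θ • ee F i1) (Q_ee i0) hB) *ᵥ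
            (Pi.single j 1 : Idx m → F)) i := by
      intro j i
      rw [Matrix.mulVec_single_one]
      rfl
    -- the entry `(d₁, d₁)` is `1`
    have e1 : mt (QfMinus m F a b) (siegO (QfMinus m F a b) (ee F i0) (θ • ee F i1) (Q_ee i0) hB)
        (Sum.inr 0) (Sum.inr 0) = 1 := by
      rw [hcol, sieg_mulVec]
      simp [ee]
    -- the entry `(e_1, f_0)` is `θ`
    have e2 : mt (QfMinus m F a b) (siegO (QfMinus m F a b) (ee F i0) (θ • ee F i1) (Q_ee i0) hB)
        (Sum.inl (Sum.inl i1)) (Sum.inl (Sum.inr i0)) = θ := by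
      rw [hcol, sieg_mulVec]
      have h10 : i1 ≠ i0 := fun h => h01 h.symm
      simp [ee, h10]
    have h3 : z * mt (QfMinus m F a b)
        (siegO (QfMinus m F a b) (ee F i0) (θ • ee F i1) (Q_ee i0) hB)
        (Sum.inr 0) (Sum.inr 0) ∈ F₀ := hR (Sum.inr 0) (Sum.inr 0)
    have h4 : z * mt (QfMinus m F a b)
        (siegO (QfMinus m F a b) (ee F i0) (θ • ee F i1) (Q_ee i0) hB)
        (Sum.inl (Sum.inl i1)) (Sum.inl (Sum.inr i0)) ∈ F₀ :=
      hR (Sum.inl (Sum.inl i1)) (Sum.inl (Sum.inr i0))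
    rw [e1, mul_one] at h3
    rw [e2] at h4
    apply hθ
    have h5 : θ = z⁻¹ * (z * θ) := by
      rw [← mul_assoc, inv_mul_cancel₀ hz, one_mul]
    rw [h5]
    exact F₀.mul_mem (F₀.inv_mem h3) h4

end Cfsg.Agent.S5702P
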