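import Cfsg.Agent.Helper12.SzTDefs

/-! SZT piece ORB (helper18): `orbSum_conj`, `orbSum_eq_zero`. -/

set_option autoImplicit false

namespace Cfsg.Agent.SZT

open Cfsg Cfsg.Agent.Helper11.SCTI
open scoped Classical ComplexConjugate

universe u

variable {G : Type u} [Group G] [Fintype G]

/-- A1 -/
theorem orbSum_conj (A : Subgroup G) (θ : A →* ℂˣ) (g h : G) :
    orbSum A θ (h * g * h⁻¹) = orbSum A θ g := by
  unfold orbSum
  apply Finset.sum_congr rfl
  intro a _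
  have hgh : IsConj g (h * g * h⁻¹) := isConj_iff.mpr ⟨h, rfl⟩
  have hiff : IsConj (a : G) (h * g * h⁻¹) ↔ IsConj (a : G) g :=
    ⟨fun h1 => h1.trans hgh.symm, fun h1 => h1.trans hgh⟩
  simp only [hiff]

/-- A2 -/
theorem orbSum_eq_zero (A : Subgroup G) (θ : A →* ℂˣ) (g : G)
    (h : ∀ a ∈ A, a ≠ 1 → ¬ IsConj a g) : orbSum A θ g = 0 := by
  unfold orbSum
  apply Finset.sum_eq_zero
  intro a _
  rw [if_neg]
  rintro ⟨h1, h2⟩
  exact h a a.2 h1 h2

end Cfsg.Agent.SZT
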