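import Cfsg.Agent.Helper12.SzTDefs

/-! SZT piece CARDORB (helper18): `card_orbit`. -/

set_option autoImplicit false

namespace Cfsg.Agent.SZT

open Cfsg Cfsg.Agent.Helper11.SCTI
open scoped Classical ComplexConjugate

universe u

variable {G : Type u} [Group G] [Fintype G]

/-- A12: the number of elements of `A \ 1` conjugate to a given one -/
theorem card_orbit {A : Subgroup G} (hA : SC A) (x : A) (hx : x ≠ 1) :
    Nat.card {a : A // (a : G) ≠ 1 ∧ IsConj (a : G) (x : G)} * Nat.card A =
      Nat.card (Subgroup.normalizer (A : Set G)) := by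
  let _ : MulAction (Subgroup.normalizer (A : Set G)) A :=
    MulAction.compHom A (Subgroup.normalizerMonoidHom A)
  have hsmul : ∀ (n : Subgroup.normalizer (A : Set G)) (a : A),
      ((n • a : A) : G) = (n : G) * a * (n : G)⁻¹ := fun n a => rfl
  have hx' : (x : G) ≠ 1 := fun h => hx (Subtype.ext h)
  have h := Nat.card_congr
    (MulAction.orbitProdStabilizerEquivGroup (Subgroup.normalizer (A : Set G)) x)
  rw [Nat.card_prod] at h
  have e1 : Nat.card (MulAction.orbit (Subgroup.normalizer (A : Set G)) x) =
      Nat.card {a : A // (a : G) ≠ 1 ∧ IsConj (a : G) (x : G)} := by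
    apply Nat.card_congr
    apply Equiv.subtypeEquivRight
    intro a
    rw [MulAction.mem_orbit_iff]
    constructor
    · rintro ⟨n, rfl⟩
      refine ⟨?_, ?_⟩
      · rw [hsmul]
        intro h1
        apply hx'
        have := congrArg (fun z => (n : G)⁻¹ * z * (n : G)) h1
        simp only [mul_one, inv_mul_cancel] at this
        rw [← this]
        group
      · rw [hsmul]
        exact (isConj_iff.mpr ⟨(n : G), rfl⟩ : IsConj (x : G) _).symm
    · rintro ⟨-, hconj⟩
      obtain ⟨c, hc⟩ := isConj_iff.mp hconj.symm
      have hcN : c ∈ Subgroup.normalizer (A : Set G) :=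
        hA.mem_normalizer x.2 hx' (by rw [hc]; exact a.2)
      exact ⟨⟨c, hcN⟩, Subtype.ext (by rw [hsmul]; exact hc)⟩
  have e2 : Nat.card (MulAction.stabilizer (Subgroup.normalizer (A : Set G)) x) =
      Nat.card A := by
    apply Nat.card_congr
    refine
      { toFun := fun n => ⟨((n : Subgroup.normalizer (A : Set G)) : G), ?_⟩
        invFun := fun a => ⟨⟨(a : G), Subgroup.le_normalizer a.2⟩, ?_⟩
        left_inv := fun n => rfl
        right_inv := fun a => rfl }
    · have hn : (n : Subgroup.normalizer (A : Set G)) • x = x := n.2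
      have hn' := congrArg (fun z : A => (z : G)) hn
      simp only [hsmul] at hn'
      have hmem : ((n : Subgroup.normalizer (A : Set G)) : G) ∈
          Subgroup.centralizer ({(x : G)} : Set G) := by
        rw [mem_centralizer_singleton]
        have := congrArg (fun z => z * ((n : Subgroup.normalizer (A : Set G)) : G)) hn'
        simp only [inv_mul_cancel_right] at this
        exact this.symm
      have hcent : Subgroup.centralizer ({(x : G)} : Set G) ≤ A := le_of_eq (hA x x.2 hx')
      exact hcent hmem
    · rw [MulAction.mem_stabilizer_iff]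
      apply Subtype.ext
      rw [hsmul]
      show (a : G) * x * (a : G)⁻¹ = x
      rw [hA.comm a a.2 x x.2, mul_inv_cancel_right]
  rw [e1, e2] at h
  exact h

end Cfsg.Agent.SZT
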