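import Cfsg.Agent.Helper12.SzTDefs
import Cfsg.Agent.Helper8.AS7
import Cfsg.Agent.Helper8.DualGroup

/-! SZT piece DUALORB1 (helper18): `sum_dual_orbSum`, `sum_dual_orbSum_mul_conj`
(+ generic Fourier lemmas on a finite abelian group in namespace `DUALORB1`). -/

set_option autoImplicit false

namespace Cfsg.Agent.SZT

open Cfsg Cfsg.Agent.Helper11.SCTI
open scoped Classical ComplexConjugate

universe u

namespace DUALORB1

variable {B : Type u} [Group B] [Fintype B]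

/-- Fourier principle: `Σ_θ Σ_i c i θ(x i) = |B| Σ_{x i = 1} c i` -/
theorem sum_dual_sum (hc : ∀ a b : B, a * b = b * a) {I : Type*} [Fintype I] (c : I → ℂ)
    (x : I → B) :
    ∑ θ : B →* ℂˣ, ∑ i : I, c i * ((θ (x i) : ℂˣ) : ℂ) =
      (Nat.card B : ℂ) * ∑ i : I, if x i = 1 then c i else 0 := by
  rw [Finset.sum_comm, Finset.mul_sum]
  apply Finset.sum_congr rfl
  intro i _
  rw [← Finset.mul_sum, Cfsg.Agent.Helper8.AS.sum_dual_apply hc (x i)]
  split_ifs <;> ring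

theorem conj_val (θ : B →* ℂˣ) (b : B) : conj ((θ b : ℂˣ) : ℂ) = ((θ b⁻¹ : ℂˣ) : ℂ) := by
  rw [Cfsg.Agent.Helper8.conj_hom_units, MonoidHom.inv_apply, map_inv]

/-- G1 -/
theorem sum_dual_mul_conj (hc : ∀ a b : B, a * b = b * a) (F₁ F₂ : B → ℂ) :
    ∑ θ : B →* ℂˣ, (∑ a : B, F₁ a * ((θ a : ℂˣ) : ℂ)) * conj (∑ b : B, F₂ b * ((θ b : ℂˣ) : ℂ)) =
      (Nat.card B : ℂ) * ∑ a : B, F₁ a * conj (F₂ a) := by
  have h1 : ∀ θ : B →* ℂˣ, (∑ a : B, F₁ a * ((θ a : ℂˣ) : ℂ)) *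
      conj (∑ b : B, F₂ b * ((θ b : ℂˣ) : ℂ)) =
      ∑ p : B × B, (F₁ p.1 * conj (F₂ p.2)) * ((θ (p.1 * p.2⁻¹) : ℂˣ) : ℂ) := by
    intro θ
    rw [map_sum, Finset.sum_mul_sum, Fintype.sum_prod_type]
    apply Finset.sum_congr rfl
    intro a _
    apply Finset.sum_congr rfl
    intro b _
    rw [map_mul, conj_val, map_mul, Units.val_mul]
    ring
  rw [Finset.sum_congr rfl (fun θ _ => h1 θ), sum_dual_sum hc]
  congr 1
  rw [Fintype.sum_prod_type]
  apply Finset.sum_congr rfl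
  intro a _
  rw [Finset.sum_eq_single a]
  · simp
  · intro b _ hba
    rw [if_neg]
    intro h
    apply hba
    rw [mul_inv_eq_one] at h
    exact h.symm
  · intro h
    exact absurd (Finset.mem_univ a) h


variable {G : Type u} [Group G] [Fintype G]

/-- the indicator of `a ≠ 1 ∧ a ~ g` -/
noncomputable def ind (A : Subgroup G) (g : G) (a : A) : ℂ :=
  if (a : G) ≠ 1 ∧ IsConj (a : G) g then 1 else 0

theorem orbSum_eq_sum (A : Subgroup G) (θ : A →* ℂˣ) (g : G) :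
    orbSum A θ g = ∑ a : A, ind A g a * ((θ a : ℂˣ) : ℂ) := by
  unfold orbSum ind
  apply Finset.sum_congr rfl
  intro a _
  split_ifs <;> simp

theorem conj_ind (A : Subgroup G) (g : G) (a : A) : conj (ind A g a) = ind A g a := by
  unfold ind
  split_ifs <;> simp

theorem ind_mul_ind (p q : Prop) (i1 : Decidable p) (i2 : Decidable q) (i3 : Decidable (p ∧ q)) :
    (@ite ℂ p i1 1 0) * (@ite ℂ q i2 1 0) = @ite ℂ (p ∧ q) i3 1 0 := by
  by_cases hp : p <;> by_cases hq : q <;> simp [hp, hq]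

theorem ind_mul_ind_if (p q r : Prop) (i1 : Decidable p) (i2 : Decidable q) (i3 : Decidable r)
    (i4 : Decidable (p ∧ q ∧ r)) :
    (@ite ℂ r i3 ((@ite ℂ p i1 1 0) * (@ite ℂ q i2 1 0)) 0) = @ite ℂ (p ∧ q ∧ r) i4 1 0 := by
  by_cases hp : p <;> by_cases hq : q <;> by_cases hr : r <;> simp [hp, hq, hr]

theorem ind_mul_ind_mul_ind (p q r : Prop) (i1 : Decidable p) (i2 : Decidable q)
    (i3 : Decidable r) (i4 : Decidable (p ∧ q ∧ r)) :
    (@ite ℂ p i1 1 0) * (@ite ℂ q i2 1 0) * (@ite ℂ r i3 1 0) = @ite ℂ (p ∧ q ∧ r) i4 1 0 := by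
  by_cases hp : p <;> by_cases hq : q <;> by_cases hr : r <;> simp [hp, hq, hr]

theorem sum_boole_card {α : Type*} [Fintype α] (p : α → Prop) [DecidablePred p] :
    ∑ a : α, (if p a then (1 : ℂ) else 0) = (Nat.card {a : α // p a} : ℂ) := by
  rw [Finset.sum_boole, Nat.card_eq_fintype_card, Fintype.card_subtype]

end DUALORB1

variable {G : Type u} [Group G] [Fintype G]

open DUALORB1 in
/-- A11a -/
theorem sum_dual_orbSum (A : Subgroup G) (hc : ∀ a b : A, a * b = b * a) (g : G) :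
    ∑ θ : A →* ℂˣ, orbSum A θ g = 0 := by
  simp only [orbSum_eq_sum]
  have hs := sum_dual_sum hc (ind A g) (fun a : A => a)
  rw [hs]
  rw [Finset.sum_eq_zero, mul_zero]
  intro a _
  split_ifs with h
  · unfold ind
    rw [if_neg]
    rintro ⟨h1, -⟩
    apply h1
    rw [show a = 1 from h]
    rfl
  · rfl

open DUALORB1 in
/-- A11b -/
theorem sum_dual_orbSum_mul_conj (A : Subgroup G) (hc : ∀ a b : A, a * b = b * a) (g h : G) :
    ∑ θ : A →* ℂˣ, orbSum A θ g * conj (orbSum A θ h) =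
      (Nat.card A : ℂ) *
        (Nat.card {a : A // (a : G) ≠ 1 ∧ IsConj (a : G) g ∧ IsConj (a : G) h} : ℂ) := by
  simp only [orbSum_eq_sum]
  rw [sum_dual_mul_conj hc (ind A g) (ind A h)]
  congr 1
  rw [← sum_boole_card]
  apply Finset.sum_congr rfl
  intro a _
  rw [conj_ind]
  unfold ind
  rw [ind_mul_ind _ _ _ _ (Classical.propDecidable _)]
  have hiff : (((a : G) ≠ 1 ∧ IsConj (a : G) g) ∧ ((a : G) ≠ 1 ∧ IsConj (a : G) h)) ↔
      ((a : G) ≠ 1 ∧ IsConj (a : G) g ∧ IsConj (a : G) h) := by tauto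
  by_cases hP : ((a : G) ≠ 1 ∧ IsConj (a : G) g ∧ IsConj (a : G) h)
  · rw [if_pos (hiff.mpr hP), if_pos hP]
  · rw [if_neg (fun hh => hP (hiff.mp hh)), if_neg hP]

end Cfsg.Agent.SZT
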