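import Cfsg.Agent.Helper12.SzTDefs
import Cfsg.Agent.Helper8.AS7
import Cfsg.Agent.Helper24.SZTORBIND
import Cfsg.Agent.Helper18.SZTDUALORB1
import Cfsg.Agent.Helper18.SZTCARDORB

/-! SZT piece DUALIND (helper18): `sum_dual_indA`, `sum_dual_indA_mul_conj`, `card_dual_ne_one`. -/

set_option autoImplicit false

namespace Cfsg.Agent.SZT

open Cfsg Cfsg.Agent.Helper11.SCTI
open scoped Classical ComplexConjugate

universe u

variable {G : Type u} [Group G] [Fintype G]

theorem sum_dual_indA {A : Subgroup G} (hA : SC A) (x : A) (hx : x ≠ 1) :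
    ∑ θ : A →* ℂˣ, indA A θ x = 0 := by
  have hc : ∀ a b : A, a * b = b * a := fun a b => Subtype.ext (hA.comm a a.2 b b.2)
  rw [← sum_dual_orbSum A hc (x : G)]
  apply Finset.sum_congr rfl
  intro θ _
  rw [orbSum_eq_indA hA θ x hx]

theorem sum_dual_indA_mul_conj {A : Subgroup G} (hA : SC A) (x : A) (hx : x ≠ 1) :
    ∑ θ : A →* ℂˣ, indA A θ x * conj (indA A θ x) =
      (Nat.card (Subgroup.normalizer (A : Set G)) : ℂ) := by
  have hc : ∀ a b : A, a * b = b * a := fun a b => Subtype.ext (hA.comm a a.2 b b.2)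
  have h1 : ∑ θ : A →* ℂˣ, indA A θ x * conj (indA A θ x) =
      ∑ θ : A →* ℂˣ, orbSum A θ (x : G) * conj (orbSum A θ (x : G)) := by
    apply Finset.sum_congr rfl
    intro θ _
    rw [orbSum_eq_indA hA θ x hx]
  rw [h1, sum_dual_orbSum_mul_conj A hc]
  have h2 : Nat.card {a : A // (a : G) ≠ 1 ∧ IsConj (a : G) (x : G) ∧ IsConj (a : G) (x : G)} =
      Nat.card {a : A // (a : G) ≠ 1 ∧ IsConj (a : G) (x : G)} :=
    Nat.card_congr (Equiv.subtypeEquivRight (fun a => by tauto))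
  rw [h2, ← card_orbit hA x hx]
  push_cast
  ring

theorem card_dual_ne_one {A : Subgroup G} (hA : SC A) :
    Nat.card {θ : A →* ℂˣ // θ ≠ 1} = Nat.card A - 1 := by
  have hc : ∀ a b : A, a * b = b * a := fun a b => Subtype.ext (hA.comm a a.2 b b.2)
  rw [← Cfsg.Agent.Helper8.AS.card_dual hc, Nat.card_eq_fintype_card, Nat.card_eq_fintype_card,
    Fintype.card_subtype_compl, Fintype.card_subtype_eq]

end Cfsg.Agent.SZT
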