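import Mathlib
import Cfsg.Prelude.Def_Characters
import Cfsg.Agent.Helper12.LSpWDefs
import Cfsg.Agent.Helper12.LSpWPDefs
import Cfsg.Agent.Helper12.WGDefs
import Cfsg.Agent.Helper12.WGStruct
import Cfsg.Agent.Helper7.LSpWPc

set_option autoImplicit false

/-! S2524 piece LEMC, part a: the values of the character of `PP = Heis ⋊ U` induced from the linear
character `wpcLam ψ` of `AP`, on the Heisenberg group (`ψ ≠ 1`) and on the elements
`((v, s), US S)` with `v` in the Lagrangian `W`. -/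

namespace Cfsg.Agent.S2524P

open Matrix Cfsg Cfsg.Agent.S2333P Cfsg.Agent.Helper2.Sp Cfsg.Agent.Helper12.LSp Cfsg.Agent.Helper25

variable {F : Type*} [Field F] [Fintype F] {n : ℕ}

/-- the additive character sum over `F^{2n}`, nontrivial case, for any `ψ ≠ 1` -/
theorem lemc_sum_om_ne (h2 : (2 : F) ≠ 0) (ψ : AddChar F ℂ) (hψ : ψ ≠ 1)
    {v : Fin n ⊕ Fin n → F} (hv : v ≠ 0) :
    ∑ u : Fin n ⊕ Fin n → F, ψ (2 * om v u) = 0 := by
  classical
  obtain ⟨y, hy⟩ := AddChar.ne_one_iff.1 hψ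
  obtain ⟨u₀, hu₀⟩ := exists_om_ne_zero hv
  set u₁ : Fin n ⊕ Fin n → F := (y * (2 * om v u₀)⁻¹) • u₀ with hu₁
  have h1 : 2 * om v u₁ = y := by
    rw [hu₁, om_smul_right]
    field_simp
  have hS : ∑ u : Fin n ⊕ Fin n → F, ψ (2 * om v u) =
      ψ y * ∑ u : Fin n ⊕ Fin n → F, ψ (2 * om v u) := by
    rw [Finset.mul_sum, ← Equiv.sum_comp (Equiv.addLeft u₁)]
    refine Finset.sum_congr rfl fun u _ => ?_
    rw [Equiv.coe_addLeft, om_add_right, mul_add, h1, AddChar.map_add_eq_mul]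
  have h3 : (1 - ψ y) * ∑ u : Fin n ⊕ Fin n → F, ψ (2 * om v u) = 0 := by
    linear_combination hS
  rcases mul_eq_zero.1 h3 with h | h
  · exact absurd (sub_eq_zero.1 h).symm hy
  · exact h

/-- the induced character restricted to the Heisenberg group, for any `ψ ≠ 1` -/
theorem lemc_ind_heis [Fintype ↥(PP n F)] (h2 : (2 : F) ≠ 0) (ψ : AddChar F ℂ)
    (hψ : ψ ≠ 1) (y : ↥(PP n F)) (a : Heis n F)
    (hy : (y : Gam n F) = SemidirectProduct.inl a) :
    indFun ((AP n F).subgroupOf (PP n F)) (fun z => wpcLam ψ z) y = theta ψ a := by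
  classical
  unfold indFun
  simp only [wpc_term ψ y _ a hy]
  have hU : (Nat.card ↥(SpU.uni n F) : ℂ) ≠ 0 := by
    have : Nat.card ↥(SpU.uni n F) ≠ 0 := Nat.card_pos.ne'
    exact_mod_cast this
  have hq : (Fintype.card F : ℂ) ≠ 0 := by
    have : Fintype.card F ≠ 0 := Fintype.card_ne_zero
    exact_mod_cast this
  by_cases hW : InW a.v
  · simp only [if_pos hW]
    rw [wpc_sum_PP (fun h => ψ (a.s + 2 * om a.v h.v)), wpc_sum_heis, wpc_card_H]
    push_cast
    by_cases hv : a.v = 0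
    · rw [hv, wpc_sum_om_zero, theta_of_v_eq_zero ψ hv]
      field_simp
    · rw [lemc_sum_om_ne h2 ψ hψ hv, theta_of_v_ne_zero ψ hv]
      ring
  · simp only [if_neg hW, Finset.sum_const_zero, mul_zero]
    have hv : a.v ≠ 0 := by
      intro h0
      apply hW
      rw [h0]
      exact inW_zero
    rw [theta_of_v_ne_zero ψ hv]

/-- conjugation in `Gam`, left component -/
theorem lemc_conj_left (x y : Gam n F) :
    (x⁻¹ * y * x).left = heisAct x.right⁻¹ (x.left⁻¹ * y.left * heisAct y.right x.left) := by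
  rw [SemidirectProduct.mul_left, SemidirectProduct.mul_left, SemidirectProduct.mul_right,
    SemidirectProduct.inv_left, SemidirectProduct.inv_right, heisPhi_apply, heisPhi_apply,
    heisPhi_apply, map_mul, map_mul]
  congr 1
  show heisAct (x.right⁻¹ * y.right) x.left = heisAct x.right⁻¹ (heisAct y.right x.left)
  rw [← heisPhi_apply, map_mul]
  rfl

/-- conjugation in `Gam`, right component -/
theorem lemc_conj_right (x y : Gam n F) :
    (x⁻¹ * y * x).right = x.right⁻¹ * y.right * x.right := by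
  rw [SemidirectProduct.mul_right, SemidirectProduct.mul_right, SemidirectProduct.inv_right]

omit [Fintype F] in
/-- the Heisenberg computation, vector part -/
theorem lemc_heis_v (h a : Heis n F) (S : ↥(SymM n F)) (ha : InW a.v) :
    InW (h⁻¹ * a * heisAct (US n F (Multiplicative.ofAdd S)) h).v := by
  intro i
  rw [Heis.mul_v, Heis.mul_v, Heis.inv_v, heisAct_v, US_mulVec]
  simp [ha i]

omit [Fintype F] in
/-- the Heisenberg computation, central part -/
theorem lemc_heis_s (h a : Heis n F) (S : ↥(SymM n F)) (ha : InW a.v) :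
    (h⁻¹ * a * heisAct (US n F (Multiplicative.ofAdd S)) h).s =
      a.s - 2 * (∑ i, a.v (Sum.inl i) * h.v (Sum.inr i)) -
        (fun i => h.v (Sum.inr i)) ⬝ᵥ (S.1 *ᵥ (fun i => h.v (Sum.inr i))) := by
  rw [Heis.mul_s, Heis.mul_s, Heis.mul_v, Heis.inv_v, Heis.inv_s, heisAct_v, heisAct_s, US_mulVec,
    om_eq_sum, om_eq_sum]
  simp only [Pi.add_apply, Pi.neg_apply, Sum.elim_inl, Sum.elim_inr, ha _]
  rw [dotProduct, Finset.mul_sum]
  have e2 : -h.s + a.s + ∑ x, (-h.v (Sum.inr x) * a.v (Sum.inl x) - -h.v (Sum.inl x) * 0) + h.s +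
      ∑ x, ((-h.v (Sum.inr x) + 0) * (h.v (Sum.inl x) + ∑ j, S.1 x j * h.v (Sum.inr j)) -
        (-h.v (Sum.inl x) + a.v (Sum.inl x)) * h.v (Sum.inr x)) =
      a.s + (∑ x, (-h.v (Sum.inr x) * a.v (Sum.inl x) - -h.v (Sum.inl x) * 0) +
      ∑ x, ((-h.v (Sum.inr x) + 0) * (h.v (Sum.inl x) + ∑ j, S.1 x j * h.v (Sum.inr j)) -
        (-h.v (Sum.inl x) + a.v (Sum.inl x)) * h.v (Sum.inr x))) := by ring
  rw [e2, ← Finset.sum_add_distrib, sub_sub, ← Finset.sum_add_distrib, sub_eq_add_neg,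
    ← Finset.sum_neg_distrib]
  congr 1
  apply Finset.sum_congr rfl
  intro i _
  simp only [Matrix.mulVec, dotProduct]
  ring

/-- the terms of the induced character at `((v, s), US S)`, `v ∈ W` -/
theorem lemc_term (ψ : AddChar F ℂ) (y x : ↥(PP n F)) (a : Heis n F) (S : ↥(SymM n F))
    (hy : (y : Gam n F) = ⟨a, US n F (Multiplicative.ofAdd S)⟩) (ha : InW a.v) :
    extendByZero ((AP n F).subgroupOf (PP n F)) (fun z => wpcLam ψ z) (x⁻¹ * y * x) =
      ψ (a.s - 2 * (∑ i, a.v (Sum.inl i) * (x : Gam n F).left.v (Sum.inr i)) -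
        (fun i => (x : Gam n F).left.v (Sum.inr i)) ⬝ᵥ
          (S.1 *ᵥ (fun i => (x : Gam n F).left.v (Sum.inr i)))) := by
  classical
  have hval : ((x⁻¹ * y * x : ↥(PP n F)) : Gam n F) =
      (x : Gam n F)⁻¹ * (y : Gam n F) * (x : Gam n F) := by
    rw [Subgroup.coe_mul, Subgroup.coe_mul, Subgroup.coe_inv]
  have hyl : (y : Gam n F).left = a := by rw [hy]
  have hyr : (y : Gam n F).right = US n F (Multiplicative.ofAdd S) := by rw [hy]
  have hleft : ((x⁻¹ * y * x : ↥(PP n F)) : Gam n F).left =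
      heisAct (x : Gam n F).right⁻¹
        ((x : Gam n F).left⁻¹ * a * heisAct (US n F (Multiplicative.ofAdd S)) (x : Gam n F).left) := by
    rw [hval, lemc_conj_left, hyl, hyr]
  have hxU : (x : Gam n F).right ∈ SpU.uni n F := x.2
  have hm : (x⁻¹ * y * x) ∈ (AP n F).subgroupOf (PP n F) := by
    rw [Subgroup.mem_subgroupOf, mem_AP_iff]
    refine ⟨?_, (x⁻¹ * y * x).2⟩
    rw [hleft, heisAct_v]
    exact (wpc_inW_iff hxU _).mpr (lemc_heis_v _ a S ha)
  rw [Cfsg.Agent.Helper8.ebz_mem _ _ hm, wpcLam_apply]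
  show ψ ((x⁻¹ * y * x : ↥(PP n F)) : Gam n F).left.s = _
  rw [hleft, heisAct_s, lemc_heis_s _ a S ha]

/-- summing a function of the second half of the vector over the Heisenberg group -/
theorem lemc_sum_heis (f : (Fin n → F) → ℂ) :
    ∑ h : Heis n F, f (fun i => h.v (Sum.inr i)) =
      (Fintype.card F : ℂ) * (Fintype.card F : ℂ) ^ n * ∑ w : Fin n → F, f w := by
  classical
  rw [← Equiv.sum_comp (Heis.equivProd (n := n) (F := F)).symm, Fintype.sum_prod_type]
  have h1 : ∀ (u : Fin n ⊕ Fin n → F) (s : F),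
      f (fun i => ((Heis.equivProd (n := n) (F := F)).symm (u, s)).v (Sum.inr i)) =
        f (fun i => u (Sum.inr i)) := fun _ _ => rfl
  simp only [h1, Finset.sum_const, Finset.card_univ, nsmul_eq_mul]
  rw [← Finset.mul_sum]
  rw [← Equiv.sum_comp (Equiv.sumArrowEquivProdArrow (Fin n) (Fin n) F).symm,
    Fintype.sum_prod_type]
  have h2 : ∀ (l r : Fin n → F),
      f (fun i => ((Equiv.sumArrowEquivProdArrow (Fin n) (Fin n) F).symm (l, r)) (Sum.inr i)) =
        f r := fun _ _ => rfl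
  simp only [h2, Finset.sum_const, Finset.card_univ, nsmul_eq_mul, Fintype.card_fun,
    Fintype.card_fin]
  push_cast
  ring

/-- the value of the induced character at `((v, s), US S)`, `v ∈ W` -/
theorem lemc_ind_value [Fintype ↥(PP n F)] (ψ : AddChar F ℂ) (y : ↥(PP n F)) (a : Heis n F)
    (S : ↥(SymM n F)) (hy : (y : Gam n F) = ⟨a, US n F (Multiplicative.ofAdd S)⟩)
    (ha : InW a.v) :
    indFun ((AP n F).subgroupOf (PP n F)) (fun z => wpcLam ψ z) y =
      ∑ w : Fin n → F, ψ (a.s - 2 * (∑ i, a.v (Sum.inl i) * w i) - w ⬝ᵥ (S.1 *ᵥ w)) := by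
  classical
  unfold indFun
  simp only [lemc_term ψ y _ a S hy ha]
  have hU : (Nat.card ↥(SpU.uni n F) : ℂ) ≠ 0 := by
    have : Nat.card ↥(SpU.uni n F) ≠ 0 := Nat.card_pos.ne'
    exact_mod_cast this
  have hq : (Fintype.card F : ℂ) ≠ 0 := by
    have : Fintype.card F ≠ 0 := Fintype.card_ne_zero
    exact_mod_cast this
  rw [wpc_sum_PP (fun h => ψ (a.s - 2 * (∑ i, a.v (Sum.inl i) * h.v (Sum.inr i)) -
    (fun i => h.v (Sum.inr i)) ⬝ᵥ (S.1 *ᵥ (fun i => h.v (Sum.inr i))))),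
    lemc_sum_heis (fun w => ψ (a.s - 2 * (∑ i, a.v (Sum.inl i) * w i) - w ⬝ᵥ (S.1 *ᵥ w))),
    wpc_card_H]
  push_cast
  field_simp

end Cfsg.Agent.S2524P
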