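import Mathlib
import Cfsg.Prelude.Def_Characters
import Cfsg.Agent.Helper12.LSpWDefs
import Cfsg.Agent.Helper12.LSpWPDefs
import Cfsg.Agent.Helper12.LSpWExt
import Cfsg.Agent.Helper12.WGDefs
import Cfsg.Agent.Helper12.WGStruct
import Cfsg.Agent.Helper7.LSpWPc
import Cfsg.Agent.Helper24.Gallagher
import Cfsg.Agent.Helper24.GallagherDet
import Cfsg.Agent.Helper24.Induced
import Cfsg.Agent.Helper24.Linear
import Cfsg.Agent.Helper24.Orthogonality
import Cfsg.Agent.Helper29.LSpWPd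
import Cfsg.Agent.Helper5.LinChar
import Cfsg.Agent.Helper8.CharComp
import Cfsg.Agent.Helper18.WGDUAL
import Cfsg.Agent.Helper18.WGSPECNAT
import Cfsg.Agent.Helper18.WGSPECADD
import Cfsg.Agent.Helper18.WGLEMCa

set_option autoImplicit false

/-! S2524 piece LEMC, part b: an irreducible character of `Heis ⋊ Sp` extending `theta ψ` is, on
`PP = Heis ⋊ U`, a linear twist of the induced character of part a (Gallagher); the twist is
`lamT ψ K` on the Siegel radical.  The irreducibility of `theta ψ` is a hypothesis here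
(piece WEILGEN). -/

namespace Cfsg.Agent.S2524P

open Matrix Cfsg Cfsg.Agent.S2333P Cfsg.Agent.Helper2.Sp Cfsg.Agent.Helper12.LSp Cfsg.Agent.Helper25

variable {F : Type*} [Field F] [Fintype F] {n : ℕ}

/-- every linear character of the symmetric matrices is some `lamT ψ K` -/
theorem lemc_exists_lamT (h2 : (2 : F) ≠ 0) (ψ : AddChar F ℂ) (hψ : ψ ≠ 1)
    (ν : Multiplicative ↥(SymM n F) →* ℂ) : ∃ K : ↥(SymM n F), ν = lamT ψ K := by
  classical
  by_contra hcon
  push Not at hcon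
  have h1 := specU_expand h2 ψ hψ (MonoidHom.id (Multiplicative ↥(SymM n F))) (fun Y => ν Y) 1
  have h3 : ∀ T : ↥(SymM n F),
      specU ψ (MonoidHom.id (Multiplicative ↥(SymM n F))) (fun Y => ν Y) T = 0 := by
    intro T
    unfold specU
    simp only [MonoidHom.id_apply]
    rw [Cfsg.Agent.Helper24.classInner_of_isIrrCharacter
      (Cfsg.Agent.Helper24.isIrrCharacter_of_monoidHom ν)
      (Cfsg.Agent.Helper24.isIrrCharacter_of_monoidHom (lamT ψ T)), if_neg]
    intro e
    apply hcon T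
    ext Y
    exact congrFun e Y
  simp only [h3, zero_mul, Finset.sum_const_zero, MonoidHom.id_apply, map_one] at h1
  exact one_ne_zero h1

/-- the Siegel radical inside `PP` -/
noncomputable def lemcQ (n : ℕ) (F : Type*) [Field F] [Fintype F] :
    Multiplicative ↥(SymM n F) →* ↥(PP n F) where
  toFun Y := ⟨SemidirectProduct.inr (US n F Y), by
    rw [mem_PP_iff, SemidirectProduct.right_inr]
    exact SpU.radS_le_uni (SpU.uSg_mem_radS (Multiplicative.toAdd Y).2)⟩
  map_one' := by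
    apply Subtype.ext
    show SemidirectProduct.inr (US n F 1) = 1
    rw [map_one, map_one]
  map_mul' Y Y' := by
    apply Subtype.ext
    show SemidirectProduct.inr (US n F (Y * Y')) =
      SemidirectProduct.inr (US n F Y) * SemidirectProduct.inr (US n F Y')
    rw [map_mul, map_mul]

/-- **LEMC** (core): the values of an extension of `theta ψ` on `(W × F) ⋊ Q`, from the
irreducibility of `theta ψ` -/
theorem weil_value_core (h2 : (2 : F) ≠ 0) (ψ : AddChar F ℂ) (hψ : ψ ≠ 1) (n : ℕ)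
    (hθ : IsIrrCharacter (Heis n F) (theta (n := n) ψ))
    (η : Gam n F → ℂ) (hη : IsIrrCharacter (Gam n F) η)
    (hres : ∀ a : Heis n F, η (SemidirectProduct.inl a) = theta ψ a) :
    ∃ K : ↥(SymM n F), ∀ (v : Fin n ⊕ Fin n → F), InW v → ∀ (s : F) (S : ↥(SymM n F)),
      η (⟨⟨v, s⟩, US n F (Multiplicative.ofAdd S)⟩ : Gam n F) =
        ψ (Matrix.trace (K.1 * S.1)) *
          ∑ w : Fin n → F, ψ (s - 2 * (∑ i, v (Sum.inl i) * w i) - w ⬝ᵥ (S.1 *ᵥ w)) := by
  classical
  haveI : Fintype ↥(PP n F) := Fintype.ofFinite _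
  haveI : Fintype ↥((NH n F).subgroupOf (PP n F)) := Fintype.ofFinite _
  haveI hNn : ((NH n F).subgroupOf (PP n F)).Normal := inferInstance
  have hle := NH_le_PP (n := n) (F := F)
  -- the common restriction to the Heisenberg group
  have hirrN := Cfsg.Agent.Helper24.irr_subgroupOf (NH n F) (thetaN_irr ψ hθ) hle
  -- the restriction of `η` to `PP`
  have hηP : IsCharacter ↥(PP n F) (fun x : ↥(PP n F) => η (x : Gam n F)) :=
    Cfsg.Agent.Helper8.isCharacter_comp (PP n F).subtype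
      (Cfsg.Agent.Helper24.IsIrrCharacter.isCharacter hη)
  have hinl : ∀ x : ↥((NH n F).subgroupOf (PP n F)),
      ((x : ↥(PP n F)) : Gam n F) = SemidirectProduct.inl ((x : ↥(PP n F)) : Gam n F).left := by
    intro x
    have hx : ((x : ↥(PP n F)) : Gam n F).right = 1 := (mem_NH_iff _).mp x.2
    apply SemidirectProduct.ext
    · rw [SemidirectProduct.left_inl]
    · rw [SemidirectProduct.right_inl]; exact hx
  have hresP : (fun x : ↥((NH n F).subgroupOf (PP n F)) => η ((x : ↥(PP n F)) : Gam n F)) =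
      fun x => thetaN ψ (Subgroup.subgroupOfEquivOfLe hle x) := by
    funext x
    rw [hinl x, hres]
    rfl
  have hηPirr : IsIrrCharacter ↥(PP n F) (fun x : ↥(PP n F) => η (x : Gam n F)) := by
    apply Cfsg.Agent.Helper12.LSp.isIrr_of_restrict_irr ((NH n F).subgroupOf (PP n F)) _ hηP
    rw [hresP]
    exact hirrN
  -- the induced character
  have hη₀ : IsCharacter ↥(PP n F)
      (indFun ((AP n F).subgroupOf (PP n F)) (fun z => wpcLam ψ z)) :=
    Cfsg.Agent.Helper24.isCharacter_indFun _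
      (Cfsg.Agent.Helper24.isCharacter_of_monoidHom (wpcLam ψ))
  have hres₀ : (fun x : ↥((NH n F).subgroupOf (PP n F)) =>
      indFun ((AP n F).subgroupOf (PP n F)) (fun z => wpcLam ψ z) (x : ↥(PP n F))) =
      fun x => thetaN ψ (Subgroup.subgroupOfEquivOfLe hle x) := by
    funext x
    rw [lemc_ind_heis h2 ψ hψ (x : ↥(PP n F)) _ (hinl x)]
    rfl
  have hη₀irr : IsIrrCharacter ↥(PP n F)
      (indFun ((AP n F).subgroupOf (PP n F)) (fun z => wpcLam ψ z)) := by
    apply Cfsg.Agent.Helper12.LSp.isIrr_of_restrict_irr ((NH n F).subgroupOf (PP n F)) _ hη₀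
    rw [hres₀]
    exact hirrN
  -- Gallagher
  have hχN : IsIrrCharacter ↥((NH n F).subgroupOf (PP n F))
      (fun x : ↥((NH n F).subgroupOf (PP n F)) =>
        ((⟨_, hη₀irr⟩ : IrrCharacter ↥(PP n F)) : ↥(PP n F) → ℂ) (x : ↥(PP n F))) := by
    show IsIrrCharacter _ (fun x : ↥((NH n F).subgroupOf (PP n F)) =>
      indFun ((AP n F).subgroupOf (PP n F)) (fun z => wpcLam ψ z) (x : ↥(PP n F)))
    rw [hres₀]
    exact hirrN
  have hne : classInner
      (fun x : ↥((NH n F).subgroupOf (PP n F)) =>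
        ((⟨_, hηPirr⟩ : IrrCharacter ↥(PP n F)) : ↥(PP n F) → ℂ) (x : ↥(PP n F)))
      (fun x : ↥((NH n F).subgroupOf (PP n F)) =>
        ((⟨_, hη₀irr⟩ : IrrCharacter ↥(PP n F)) : ↥(PP n F) → ℂ) (x : ↥(PP n F))) ≠ 0 := by
    show classInner (fun x : ↥((NH n F).subgroupOf (PP n F)) => η ((x : ↥(PP n F)) : Gam n F))
      (fun x : ↥((NH n F).subgroupOf (PP n F)) =>
        indFun ((AP n F).subgroupOf (PP n F)) (fun z => wpcLam ψ z) (x : ↥(PP n F))) ≠ 0
    rw [hresP, hres₀, Cfsg.Agent.Helper24.classInner_of_isIrrCharacter hirrN hirrN, if_pos rfl]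
    exact one_ne_zero
  obtain ⟨β, hβ⟩ := Cfsg.Agent.Helper24.exists_gallagherTwist_eq ((NH n F).subgroupOf (PP n F))
    ⟨_, hη₀irr⟩ hχN ⟨_, hηPirr⟩ hne
  have hβ' : ∀ g : ↥(PP n F), η (g : Gam n F) =
      (β : ↥(PP n F) ⧸ (NH n F).subgroupOf (PP n F) → ℂ) (g : ↥(PP n F) ⧸ _) *
        indFun ((AP n F).subgroupOf (PP n F)) (fun z => wpcLam ψ z) g := by
    intro g
    exact congrFun hβ g
  -- `β` is linear
  have hq : ((Fintype.card F : ℂ) ^ n) ≠ 0 := by
    have : Fintype.card F ≠ 0 := Fintype.card_ne_zero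
    exact pow_ne_zero _ (by exact_mod_cast this)
  have hone : ((1 : ↥(PP n F)) : Gam n F) = SemidirectProduct.inl (1 : Heis n F) := by
    rw [Subgroup.coe_one, map_one]
  have hβ1 : (β : ↥(PP n F) ⧸ (NH n F).subgroupOf (PP n F) → ℂ) 1 = 1 := by
    have h1 := hβ' 1
    rw [lemc_ind_heis h2 ψ hψ (1 : ↥(PP n F)) 1 hone, hone, hres, theta_one] at h1
    have h3 : (β : ↥(PP n F) ⧸ (NH n F).subgroupOf (PP n F) → ℂ)
        (((1 : ↥(PP n F)) : ↥(PP n F) ⧸ (NH n F).subgroupOf (PP n F))) *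
        (Fintype.card F : ℂ) ^ n = 1 * (Fintype.card F : ℂ) ^ n := by
      rw [one_mul]; exact h1.symm
    exact mul_right_cancel₀ hq h3
  obtain ⟨K, hK⟩ := lemc_exists_lamT h2 ψ hψ
    (((Cfsg.Agent.Helper5.linCharHom (Cfsg.Agent.Helper24.IsIrrCharacter.isCharacter β.2) hβ1).comp
      (QuotientGroup.mk' ((NH n F).subgroupOf (PP n F)))).comp (lemcQ n F))
  refine ⟨K, fun v hv s S => ?_⟩
  -- the element `y` of `PP`
  have hymem : (⟨⟨v, s⟩, US n F (Multiplicative.ofAdd S)⟩ : Gam n F) ∈ PP n F := by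
    rw [mem_PP_iff]
    exact SpU.radS_le_uni (SpU.uSg_mem_radS S.2)
  have h4 := hβ' ⟨_, hymem⟩
  rw [lemc_ind_value ψ ⟨_, hymem⟩ ⟨v, s⟩ S rfl hv] at h4
  rw [h4]
  congr 1
  -- the coset of `y`
  have hnmem : (SemidirectProduct.inl (⟨v, s⟩ : Heis n F) : Gam n F) ∈ PP n F :=
    hle ⟨⟨v, s⟩, rfl⟩
  have hsplit : (⟨_, hymem⟩ : ↥(PP n F)) =
      ⟨SemidirectProduct.inl (⟨v, s⟩ : Heis n F), hnmem⟩ * lemcQ n F (Multiplicative.ofAdd S) := by
    apply Subtype.ext
    show (⟨⟨v, s⟩, US n F (Multiplicative.ofAdd S)⟩ : Gam n F) =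
      SemidirectProduct.inl (⟨v, s⟩ : Heis n F) *
        SemidirectProduct.inr (US n F (Multiplicative.ofAdd S))
    apply SemidirectProduct.ext
    · rw [SemidirectProduct.mul_left, SemidirectProduct.left_inl, SemidirectProduct.right_inl,
        SemidirectProduct.left_inr, map_one, mul_one]
    · rw [SemidirectProduct.mul_right, SemidirectProduct.right_inl, SemidirectProduct.right_inr,
        one_mul]
  have hcoset : ((⟨_, hymem⟩ : ↥(PP n F)) : ↥(PP n F) ⧸ (NH n F).subgroupOf (PP n F)) =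
      ((lemcQ n F (Multiplicative.ofAdd S) : ↥(PP n F)) :
        ↥(PP n F) ⧸ (NH n F).subgroupOf (PP n F)) := by
    rw [hsplit, QuotientGroup.mk_mul]
    have : ((⟨SemidirectProduct.inl (⟨v, s⟩ : Heis n F), hnmem⟩ : ↥(PP n F)) :
        ↥(PP n F) ⧸ (NH n F).subgroupOf (PP n F)) = 1 := by
      rw [QuotientGroup.eq_one_iff, Subgroup.mem_subgroupOf]
      exact ⟨⟨v, s⟩, rfl⟩
    rw [this, one_mul]
  rw [hcoset]
  have h5 := congrArg (fun l : Multiplicative ↥(SymM n F) →* ℂ => l (Multiplicative.ofAdd S)) hK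
  simp only [lamT_apply] at h5
  rw [← h5]
  rfl

end Cfsg.Agent.S2524P
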