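import Mathlib
import Cfsg.Prelude.Def_Characters
import Cfsg.Agent.Helper12.LSpWDefs
import Cfsg.Agent.Helper12.LSpWPDefs
import Cfsg.Agent.Helper12.WGDefs
import Cfsg.Agent.Helper20.WGWEILGEN
import Cfsg.Agent.Helper18.WGLEMCb

set_option autoImplicit false

/-! S2524 piece LEMC: the values of an extension of `theta ψ` on `(W × F) ⋊ Q`. -/

namespace Cfsg.Agent.S2524P

open Matrix Cfsg Cfsg.Agent.S2333P Cfsg.Agent.Helper2.Sp Cfsg.Agent.Helper12.LSp Cfsg.Agent.Helper25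

variable {F : Type*} [Field F] [Fintype F]

/-- **LEMC**: the values of an extension of `theta ψ` on `(W × F) ⋊ Q` -/
theorem weil_value (h2 : (2 : F) ≠ 0) (ψ : AddChar F ℂ) (hψ : ψ ≠ 1) (n : ℕ)
    (η : Gam n F → ℂ) (hη : IsIrrCharacter (Gam n F) η)
    (hres : ∀ a : Heis n F, η (SemidirectProduct.inl a) = theta ψ a) :
    ∃ K : ↥(SymM n F), ∀ (v : Fin n ⊕ Fin n → F), InW v → ∀ (s : F) (S : ↥(SymM n F)),
      η (⟨⟨v, s⟩, US n F (Multiplicative.ofAdd S)⟩ : Gam n F) =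
        ψ (Matrix.trace (K.1 * S.1)) *
          ∑ w : Fin n → F, ψ (s - 2 * (∑ i, v (Sum.inl i) * w i) - w ⬝ᵥ (S.1 *ᵥ w)) :=
  weil_value_core h2 ψ hψ n (theta_irr_gen h2 ψ hψ n) η hη hres

end Cfsg.Agent.S2524P
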