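import Mathlib
import Cfsg.Prelude.Def_Characters
import Cfsg.Agent.Helper12.LSpWDefs
import Cfsg.Agent.Helper12.LSpWPDefs
import Cfsg.Agent.Helper12.LSpWFin
import Cfsg.Agent.Helper12.WGDefs
import Cfsg.Agent.Helper12.WGDefsC
import Cfsg.Agent.Helper12.WGDefsD
import Cfsg.Agent.Helper12.WGStruct
import Cfsg.Agent.Helper18.WGSPECNAT
import Cfsg.Agent.Helper18.WGSPECADD
import Cfsg.Agent.Helper18.WGCONSTRANS
import Cfsg.Agent.Helper18.WGLEMC

set_option autoImplicit false

/-! S2524 piece CONV: the spectrum of `η · (μ ∘ right)` on the Siegel radical of `Sp_{2(m+1)}`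
inside `Heis ⋊ Sp_{2m}`. -/

namespace Cfsg.Agent.S2524P

open Matrix Cfsg Cfsg.Agent.S2333P Cfsg.Agent.Helper2.Sp Cfsg.Agent.Helper12.LSp Cfsg.Agent.Helper25

variable {F : Type*} [Field F]

theorem conv_trace_rk1 {n : ℕ} (c : F) (x : Fin n → F) (Y : Matrix (Fin n) (Fin n) F) :
    Matrix.trace ((rk1 c x).1 * Y) = c * (x ⬝ᵥ Y *ᵥ x) := by
  rw [rk1_val, Matrix.smul_mul, Matrix.trace_smul, smul_eq_mul]
  congr 1
  simp only [Matrix.trace, Matrix.diag, Matrix.mul_apply, vecMulVec_apply, dotProduct, Matrix.mulVec]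
  rw [Finset.sum_comm]
  apply Finset.sum_congr rfl
  intro i _
  rw [Finset.mul_sum]
  apply Finset.sum_congr rfl
  intro j _
  ring

theorem conv_quad {m : ℕ} (Y : ↥(SymM (m + 1) F)) (w : Fin m → F) :
    (Fin.cons 1 w : Fin (m + 1) → F) ⬝ᵥ Y.1 *ᵥ (Fin.cons 1 w : Fin (m + 1) → F) =
      Y.1 0 0 + 2 * ∑ i, Y.1 0 i.succ * w i + w ⬝ᵥ (qS Y).1 *ᵥ w := by
  simp only [dotProduct, Matrix.mulVec, Fin.sum_univ_succ, Fin.cons_zero, Fin.cons_succ, qS_apply]
  have h1 : ∀ i : Fin m, Y.1 i.succ 0 = Y.1 0 i.succ := fun i => symM_symm Y i.succ 0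
  simp only [h1, mul_add, Finset.sum_add_distrib, mul_one, one_mul]
  have h2 : ∑ i : Fin m, w i * Y.1 0 i.succ = ∑ i : Fin m, Y.1 0 i.succ * w i :=
    Finset.sum_congr rfl (fun i _ => mul_comm _ _)
  rw [h2]
  ring

theorem conv_trace_blk {m : ℕ} (K : ↥(SymM m F)) (Y : ↥(SymM (m + 1) F)) :
    Matrix.trace ((blk K).1 * Y.1) = Matrix.trace (K.1 * (qS Y).1) := by
  simp only [Matrix.trace, Matrix.diag, Matrix.mul_apply, Fin.sum_univ_succ, blk_zero_left,
    blk_zero_right, blk_succ, qS_apply, zero_mul, Finset.sum_const_zero, zero_add]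

theorem conv_lamT_add {n : ℕ} (ψ : AddChar F ℂ) (A B : ↥(SymM n F))
    (Y : Multiplicative ↥(SymM n F)) : lamT ψ (A + B) Y = lamT ψ A Y * lamT ψ B Y := by
  show ψ (Matrix.trace ((A + B : ↥(SymM n F)).1 * (Multiplicative.toAdd Y).1)) =
    ψ (Matrix.trace (A.1 * (Multiplicative.toAdd Y).1)) *
      ψ (Matrix.trace (B.1 * (Multiplicative.toAdd Y).1))
  rw [AddSubgroup.coe_add, Matrix.add_mul, Matrix.trace_add, AddChar.map_add_eq_mul]

/-- the matrix `blk K + (-z) (1,w)(1,w)ᵀ + blk T'` -/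
def convM {m : ℕ} (z : F) (K : ↥(SymM m F)) (w : Fin m → F) (T' : ↥(SymM m F)) :
    ↥(SymM (m + 1) F) :=
  blk K + rk1 (-z) (Fin.cons 1 w) + blk T'

theorem convM_zero_zero {m : ℕ} (z : F) (K : ↥(SymM m F)) (w : Fin m → F) (T' : ↥(SymM m F)) :
    (convM z K w T').1 0 0 = -z := by
  unfold convM
  rw [AddSubgroup.coe_add, AddSubgroup.coe_add, Matrix.add_apply, Matrix.add_apply, blk_zero_left,
    blk_zero_left, rk1_apply, Fin.cons_zero]
  ring

theorem convM_zero_succ {m : ℕ} (z : F) (K : ↥(SymM m F)) (w : Fin m → F) (T' : ↥(SymM m F))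
    (j : Fin m) : (convM z K w T').1 0 j.succ = -z * w j := by
  unfold convM
  rw [AddSubgroup.coe_add, AddSubgroup.coe_add, Matrix.add_apply, Matrix.add_apply, blk_zero_left,
    blk_zero_left, rk1_apply, Fin.cons_zero, Fin.cons_succ]
  ring

theorem convM_succ_succ {m : ℕ} (z : F) (K : ↥(SymM m F)) (w : Fin m → F) (T' : ↥(SymM m F))
    (i j : Fin m) :
    (convM z K w T').1 i.succ j.succ = K.1 i j + -z * (w i * w j) + T'.1 i j := by
  unfold convM
  rw [AddSubgroup.coe_add, AddSubgroup.coe_add, Matrix.add_apply, Matrix.add_apply, blk_succ,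
    blk_succ, rk1_apply, Fin.cons_succ, Fin.cons_succ]

theorem convM_eq_iff {m : ℕ} (z : F) (hz : z ≠ 0) (K : ↥(SymM m F)) (w : Fin m → F)
    (T' : ↥(SymM m F)) (T : ↥(SymM (m + 1) F)) :
    convM z K w T' = T ↔ T.1 0 0 = -z ∧ w = (fun i => -z⁻¹ * T.1 0 i.succ) ∧
      T' = qS T - rk1 (-z) (fun i => -z⁻¹ * T.1 0 i.succ) - K := by
  constructor
  · intro h
    subst h
    have hw : w = fun i => -z⁻¹ * (convM z K w T').1 0 i.succ := by
      funext i
      rw [convM_zero_succ]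
      field_simp
    refine ⟨convM_zero_zero z K w T', hw, ?_⟩
    rw [← hw]
    apply Subtype.ext
    ext i j
    rw [AddSubgroup.coe_sub, AddSubgroup.coe_sub, Matrix.sub_apply, Matrix.sub_apply, qS_apply,
      convM_succ_succ, rk1_apply]
    ring
  · rintro ⟨h0, hw, hT'⟩
    subst hw
    have key : ∀ j : Fin m, (convM z K (fun i => -z⁻¹ * T.1 0 i.succ) T').1 0 j.succ =
        T.1 0 j.succ := by
      intro j
      rw [convM_zero_succ]
      field_simp
    apply Subtype.ext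
    ext i j
    refine Fin.cases ?_ (fun i' => ?_) i
    · refine Fin.cases ?_ (fun j' => ?_) j
      · rw [convM_zero_zero, h0]
      · exact key j'
    · refine Fin.cases ?_ (fun j' => ?_) j
      · rw [symM_symm _ i'.succ 0, symM_symm T i'.succ 0]
        exact key i'
      · rw [convM_succ_succ, hT', AddSubgroup.coe_sub, AddSubgroup.coe_sub, Matrix.sub_apply,
          Matrix.sub_apply, qS_apply, rk1_apply]
        ring

variable [Fintype F]

/-- **CONV**: the spectrum of `η · (μ ∘ right)` -/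
theorem conv_spec (hodd : Odd (Fintype.card F)) (ψ : AddChar F ℂ) (hψ : ψ ≠ 1) {m : ℕ} (z : F)
    (hz : z ≠ 0) (η : Gam m F → ℂ) (hη : IsIrrCharacter (Gam m F) η)
    (hres : ∀ a : Heis m F, η (SemidirectProduct.inl a) = theta (AddChar.mulShift ψ z) a) :
    ∃ K : ↥(SymM m F), ∀ (μ : ↥(symplecticGroup (Fin m) F) → ℂ) (T : ↥(SymM (m + 1) F)),
      specU ψ (qt m F) (fun x : Gam m F => η x * μ x.right) T =
        open Classical in if T.1 0 0 = -z then
          spec ψ μ (qS T - rk1 (-z) (fun i => -z⁻¹ * T.1 0 i.succ) - K) else 0 := by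
  classical
  have h2 : (2 : F) ≠ 0 := Cfsg.Agent.Helper12.LSp.two_ne_zero_of_odd_card hodd
  have hφ : AddChar.mulShift ψ z ≠ 1 := by
    intro h
    apply hψ
    ext x
    have := DFunLike.congr_fun h (z⁻¹ * x)
    rw [AddChar.mulShift_apply, ← mul_assoc, mul_inv_cancel₀ hz, one_mul] at this
    rw [this]
    rfl
  obtain ⟨K₀, hK₀⟩ := weil_value h2 (AddChar.mulShift ψ z) hφ m η hη hres
  have hKmem : z • K₀.1 ∈ SymM m F := by
    rw [mem_SymM, transpose_smul]
    congr 1
    have := K₀.2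
    rw [mem_SymM] at this
    exact this
  refine ⟨⟨z • K₀.1, hKmem⟩, fun μ T => ?_⟩
  set K : ↥(SymM m F) := ⟨z • K₀.1, hKmem⟩ with hKdef
  -- the function on the Siegel radical
  have hfun : (fun Y : Multiplicative ↥(SymM (m + 1) F) => η (qt m F Y) * μ (qt m F Y).right) =
      ∑ p : (Fin m → F) × ↥(SymM m F),
        (spec ψ μ p.2) • (fun Y : Multiplicative ↥(SymM (m + 1) F) => lamT ψ (convM z K p.1 p.2) Y) := by
    funext Y
    rw [Finset.sum_apply]
    simp only [Pi.smul_apply, smul_eq_mul]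
    rw [Fintype.sum_prod_type]
    have hη1 : η (qt m F Y) = ∑ w : Fin m → F, lamT ψ (blk K + rk1 (-z) (Fin.cons 1 w)) Y := by
      have hY : qt m F Y = (⟨⟨qv (Multiplicative.toAdd Y), -(Multiplicative.toAdd Y).1 0 0⟩,
        US m F (Multiplicative.ofAdd (qS (Multiplicative.toAdd Y)))⟩ : Gam m F) := rfl
      rw [hY, hK₀ _ (qv_inW _), Finset.mul_sum]
      apply Finset.sum_congr rfl
      intro w _
      rw [conv_lamT_add]
      show _ = ψ (Matrix.trace ((blk K).1 * (Multiplicative.toAdd Y).1)) *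
        ψ (Matrix.trace ((rk1 (-z) (Fin.cons 1 w)).1 * (Multiplicative.toAdd Y).1))
      rw [conv_trace_blk, conv_trace_rk1, conv_quad, AddChar.mulShift_apply, AddChar.mulShift_apply]
      congr 2
      · show _ = Matrix.trace ((z • K₀.1) * (qS (Multiplicative.toAdd Y)).1)
        rw [Matrix.smul_mul, Matrix.trace_smul, smul_eq_mul]
      · simp only [qv_inl]
        ring
    have hμ1 : μ (qt m F Y).right = ∑ T' : ↥(SymM m F), spec ψ μ T' * lamT ψ (blk T') Y := by
      have hY : (qt m F Y).right = US m F (Multiplicative.ofAdd (qS (Multiplicative.toAdd Y))) := rfl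
      rw [hY, specU_expand h2 ψ hψ (US m F) μ]
      apply Finset.sum_congr rfl
      intro T' _
      congr 1
      show ψ (Matrix.trace (T'.1 * (qS (Multiplicative.toAdd Y)).1)) =
        ψ (Matrix.trace ((blk T').1 * (Multiplicative.toAdd Y).1))
      rw [conv_trace_blk]
    rw [hη1, hμ1, Finset.sum_mul_sum]
    apply Finset.sum_congr rfl
    intro w _
    apply Finset.sum_congr rfl
    intro T' _
    unfold convM
    rw [conv_lamT_add ψ (blk K + rk1 (-z) (Fin.cons 1 w)) (blk T')]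
    ring
  have hspec : specU ψ (qt m F) (fun x : Gam m F => η x * μ x.right) T =
      specU ψ (MonoidHom.id (Multiplicative ↥(SymM (m + 1) F)))
        (fun Y : Multiplicative ↥(SymM (m + 1) F) => η (qt m F Y) * μ (qt m F Y).right) T := rfl
  rw [hspec, hfun, specsum_sum]
  simp only [specU_smul, specU_lamT h2 ψ hψ]
  by_cases h0 : T.1 0 0 = -z
  · rw [if_pos h0]
    rw [Finset.sum_eq_single
      ((fun i => -z⁻¹ * T.1 0 i.succ, qS T - rk1 (-z) (fun i => -z⁻¹ * T.1 0 i.succ) - K) :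
        (Fin m → F) × ↥(SymM m F))]
    · rw [if_pos ((convM_eq_iff z hz K _ _ T).mpr ⟨h0, rfl, rfl⟩), mul_one]
    · intro p _ hp
      rw [if_neg, mul_zero]
      intro h
      apply hp
      obtain ⟨-, hw, hT'⟩ := (convM_eq_iff z hz K _ _ T).mp h
      exact Prod.ext hw hT'
    · intro h
      exact absurd (Finset.mem_univ _) h
  · rw [if_neg h0]
    apply Finset.sum_eq_zero
    intro p _
    rw [if_neg, mul_zero]
    intro h
    exact h0 ((convM_eq_iff z hz K _ _ T).mp h).1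

end Cfsg.Agent.S2524P
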