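import Mathlib
import Cfsg.Prelude.Def_Characters
import Cfsg.Agent.Helper12.LSpWDefs
import Cfsg.Agent.Helper12.LSpWPDefs
import Cfsg.Agent.Helper12.LSpWExt
import Cfsg.Agent.Helper12.WGDefs
import Cfsg.Agent.Helper20.WGWEILGEN
import Cfsg.Agent.Helper24.Gallagher
import Cfsg.Agent.Helper24.Orthogonality
import Cfsg.Agent.Helper8.CharComp

set_option autoImplicit false

/-! # S2524 part B, piece GALL: Gallagher for `Heis ⋊ Sp`. -/

namespace Cfsg.Agent.S2524P

open Matrix Cfsg Cfsg.Agent.S2333P Cfsg.Agent.Helper2.Sp Cfsg.Agent.Helper12.LSp Cfsg.Agent.Helper25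

variable {F : Type*} [Field F] [Fintype F]

/-- the coset of an element of `Heis ⋊ Sp` modulo the Heisenberg group only depends on the
symplectic component -/
theorem gall_mk_eq {m : ℕ} (x : Gam m F) :
    (x : Gam m F ⧸ NH m F) = ((SemidirectProduct.inr x.right : Gam m F) : Gam m F ⧸ NH m F) := by
  rw [QuotientGroup.eq, mem_NH_iff, SemidirectProduct.mul_right, SemidirectProduct.inv_right,
    SemidirectProduct.right_inr, inv_mul_cancel]

/-- **GALL**: Gallagher for `Heis ⋊ Sp` -/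
theorem gallagher_gam (h2 : (2 : F) ≠ 0) (φ : AddChar F ℂ) (hφ : φ ≠ 1) {m : ℕ}
    (η : Gam m F → ℂ) (hη : IsIrrCharacter (Gam m F) η)
    (hres : ∀ a : Heis m F, η (SemidirectProduct.inl a) = theta φ a)
    (ζ : Gam m F → ℂ) (hζ : IsIrrCharacter (Gam m F) ζ) (k : ℂ) (hk : k ≠ 0)
    (hζres : ∀ a : Heis m F, ζ (SemidirectProduct.inl a) = k * theta φ a) :
    ∃ μ : ↥(symplecticGroup (Fin m) F) → ℂ, IsIrrCharacter ↥(symplecticGroup (Fin m) F) μ ∧
      ∀ x : Gam m F, ζ x = η x * μ x.right := by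
  classical
  haveI : Fintype ↥(NH m F) := Fintype.ofFinite _
  have hirrN : IsIrrCharacter ↥(NH m F) (thetaN φ) := thetaN_irr φ (theta_irr_gen h2 φ hφ m)
  have hinl : ∀ x : ↥(NH m F), (x : Gam m F) = SemidirectProduct.inl (x : Gam m F).left := by
    intro x
    have hx : (x : Gam m F).right = 1 := (mem_NH_iff _).mp x.2
    apply SemidirectProduct.ext
    · rw [SemidirectProduct.left_inl]
    · rw [SemidirectProduct.right_inl]; exact hx
  have hηN : (fun x : ↥(NH m F) => η (x : Gam m F)) = thetaN φ := by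
    funext x
    rw [hinl x, hres]
    rfl
  have hζN : (fun x : ↥(NH m F) => ζ (x : Gam m F)) = k • thetaN φ := by
    funext x
    rw [hinl x, hζres]
    rfl
  have hχN : IsIrrCharacter ↥(NH m F)
      (fun x : ↥(NH m F) => ((⟨η, hη⟩ : IrrCharacter (Gam m F)) : Gam m F → ℂ) (x : Gam m F)) := by
    show IsIrrCharacter ↥(NH m F) (fun x : ↥(NH m F) => η (x : Gam m F))
    rw [hηN]
    exact hirrN
  have hne : classInner
      (fun x : ↥(NH m F) => ((⟨ζ, hζ⟩ : IrrCharacter (Gam m F)) : Gam m F → ℂ) (x : Gam m F))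
      (fun x : ↥(NH m F) => ((⟨η, hη⟩ : IrrCharacter (Gam m F)) : Gam m F → ℂ) (x : Gam m F)) ≠
      0 := by
    show classInner (fun x : ↥(NH m F) => ζ (x : Gam m F))
      (fun x : ↥(NH m F) => η (x : Gam m F)) ≠ 0
    rw [hηN, hζN, Cfsg.Agent.Helper24.classInner_smul_left,
      Cfsg.Agent.Helper24.classInner_of_isIrrCharacter hirrN hirrN, if_pos rfl, mul_one]
    exact hk
  obtain ⟨β, hβ⟩ := Cfsg.Agent.Helper24.exists_gallagherTwist_eq (NH m F) ⟨η, hη⟩ hχN ⟨ζ, hζ⟩ hne
  -- the isomorphism `Sp → Gam / NH`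
  have hsurj : Function.Surjective
      ((QuotientGroup.mk' (NH m F)).comp
        (SemidirectProduct.inr : ↥(symplecticGroup (Fin m) F) →* Gam m F)) := by
    intro y
    obtain ⟨x, rfl⟩ := QuotientGroup.mk_surjective y
    exact ⟨x.right, (gall_mk_eq x).symm⟩
  refine ⟨fun s => (β : Gam m F ⧸ NH m F → ℂ)
      (((QuotientGroup.mk' (NH m F)).comp
        (SemidirectProduct.inr : ↥(symplecticGroup (Fin m) F) →* Gam m F)) s),
    Cfsg.Agent.Helper8.isIrrCharacter_comp_surjective _ hsurj β.2, fun x => ?_⟩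
  have h1 := congrFun hβ x
  show ζ x = _
  rw [show ζ x = (β : Gam m F ⧸ NH m F → ℂ) (x : Gam m F ⧸ NH m F) * η x from h1, gall_mk_eq x,
    mul_comm]
  rfl

end Cfsg.Agent.S2524P
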