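import Mathlib
import Cfsg.Prelude.Def_Characters
import Cfsg.Agent.Helper12.WGDefs
import Cfsg.Agent.Helper12.WGDefsC
import Cfsg.Agent.Helper12.SL2TableOdd
import Cfsg.Agent.Helper12.SL2Half
import Cfsg.Agent.Helper12.SL2Inv
import Cfsg.Agent.Helper3.WGBaseDefs

set_option autoImplicit false

/-! # S2524 chapter BASE: pieces BASE-MSQ, BASE-MZERO, BASE-MEQ, BASE-MTWIST. -/

namespace Cfsg.Agent.S2524P

open Matrix Cfsg Cfsg.Agent.S2333P Cfsg.Agent.Helper12

open scoped ComplexConjugate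

variable {F : Type*} [Field F] [Fintype F]

local notation "S2" => Matrix.SpecialLinearGroup (Fin 2) F

/-- a class function takes the same value at `u_b` and `u_{b a²}` -/
theorem base_msq_conj (f : S2 → ℂ) (hf : IsClassFunction S2 f) (b a : F) (ha : a ≠ 0) :
    f (borelMkSL (1 : Fˣ) (b * a ^ 2)) = f (borelMkSL (1 : Fˣ) b) := by
  have h := isConj_unipS b (Units.mk0 a ha)
  rw [isConj_iff] at h
  obtain ⟨c, hc⟩ := h
  rw [Units.val_mk0] at hc
  rw [← hc]
  exact hf _ c

/-- **BASE-MSQ**: the multiplicity only depends on `t` modulo squares -/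
theorem base_m_sq (ψ : AddChar F ℂ) (f : S2 → ℂ) (hf : IsClassFunction S2 f) (t a : F)
    (ha : a ≠ 0) : base_m ψ f (t * a ^ 2) = base_m ψ f t := by
  unfold base_m
  congr 1
  have ha2 : a ^ 2 ≠ 0 := pow_ne_zero 2 ha
  rw [← Equiv.sum_comp (Equiv.mulRight₀ (a ^ 2) ha2)
    (fun b => f (borelMkSL (1 : Fˣ) b) * conj (ψ (t * b)))]
  apply Finset.sum_congr rfl
  intro b _
  rw [Equiv.mulRight₀_apply, base_msq_conj f hf b a ha]
  congr 3
  ring

theorem base_u_zero : borelMkSL (1 : Fˣ) (0 : F) = 1 := by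
  apply Subtype.ext
  rw [borelMkSL_coe]
  ext i j
  fin_cases i <;> fin_cases j <;> simp

theorem base_ringChar_ne_two (hodd : Odd (Fintype.card F)) : ringChar F ≠ 2 := by
  intro h
  have := FiniteField.even_card_of_char_two h
  rcases hodd with ⟨k, hk⟩
  omega

/-- **BASE-MZERO**: the multiplicity of the trivial character -/
theorem base_m_zero (hodd : Odd (Fintype.card F)) {ε : F} (hε : ¬ IsSquare ε)
    (ψ : AddChar F ℂ) (f : S2 → ℂ) (hf : IsClassFunction S2 f) :
    (Fintype.card F : ℂ) * base_m ψ f 0 =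
      f 1 + ((Fintype.card F : ℂ) - 1) / 2 *
        (f (borelMkSL (1 : Fˣ) 1) + f (borelMkSL (1 : Fˣ) ε)) := by
  classical
  have hq : (Fintype.card F : ℂ) ≠ 0 := by
    have : Fintype.card F ≠ 0 := Fintype.card_ne_zero
    exact_mod_cast this
  have h := sum_unip_odd (base_ringChar_ne_two hodd) hε f hf
  unfold base_m
  rw [← mul_assoc, mul_inv_cancel₀ hq, one_mul]
  have h1 : ∑ b : F, f (borelMkSL (1 : Fˣ) b) * conj (ψ (0 * b)) =
      ∑ b : F, f (borelMkSL (1 : Fˣ) b) := by
    apply Finset.sum_congr rfl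
    intro b _
    rw [zero_mul, AddChar.map_zero_eq_one, map_one, mul_one]
  rw [h1]
  linear_combination h / 2

/-- the sum of a nontrivial additive character along a dilation vanishes -/
theorem base_meq_sum (ψ : AddChar F ℂ) (hψ : ψ ≠ 1) {t : F} (ht : t ≠ 0) :
    ∑ b : F, ψ (t * b) = 0 := by
  have h := Equiv.sum_comp (Equiv.mulLeft₀ t ht) (fun b => ψ b)
  simp only [Equiv.mulLeft₀_apply] at h
  rw [h]
  exact AddChar.sum_eq_zero_of_ne_one hψ

/-- **BASE-MEQ**: if `f` does not distinguish the two unipotent classes, all nontrivial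
multiplicities are equal -/
theorem base_m_of_eq (hodd : Odd (Fintype.card F)) {ε : F} (hε : ¬ IsSquare ε)
    (ψ : AddChar F ℂ) (hψ : ψ ≠ 1) (f : S2 → ℂ) (hf : IsClassFunction S2 f)
    (heq : f (borelMkSL (1 : Fˣ) 1) = f (borelMkSL (1 : Fˣ) ε)) (t : F) (ht : t ≠ 0) :
    (Fintype.card F : ℂ) * base_m ψ f t = f 1 - f (borelMkSL (1 : Fˣ) 1) := by
  classical
  have hq : (Fintype.card F : ℂ) ≠ 0 := by
    have : Fintype.card F ≠ 0 := Fintype.card_ne_zero
    exact_mod_cast this
  -- the value at every nontrivial unipotent element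
  have hval : ∀ b : F, b ≠ 0 → f (borelMkSL (1 : Fˣ) b) = f (borelMkSL (1 : Fˣ) 1) := by
    intro b hb
    by_cases hsq : IsSquare b
    · obtain ⟨a, rfl⟩ := hsq
      have ha : a ≠ 0 := by
        rintro rfl
        exact hb (by simp)
      have := base_msq_conj f hf 1 a ha
      rw [one_mul, pow_two] at this
      exact this
    · obtain ⟨a, ha, rfl⟩ := exists_sq_mul_of_not_isSquare hε hsq
      rw [base_msq_conj f hf ε a ha, heq]
  unfold base_m
  rw [← mul_assoc, mul_inv_cancel₀ hq, one_mul]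
  have h1 : ∀ b : F, f (borelMkSL (1 : Fˣ) b) * conj (ψ (t * b)) =
      (if b = 0 then f 1 - f (borelMkSL (1 : Fˣ) 1) else 0) +
        f (borelMkSL (1 : Fˣ) 1) * conj (ψ (t * b)) := by
    intro b
    by_cases hb : b = 0
    · rw [if_pos hb, hb, base_u_zero, mul_zero, AddChar.map_zero_eq_one, map_one]
      ring
    · rw [if_neg hb, hval b hb, zero_add]
  simp only [h1]
  rw [Finset.sum_add_distrib, Finset.sum_ite_eq' Finset.univ (0 : F), if_pos (Finset.mem_univ _),
    ← Finset.mul_sum, ← map_sum, base_meq_sum ψ hψ ht, map_zero, mul_zero, add_zero]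

/-- **BASE-MTWIST**: the twist by `diag(ε, 1)` moves the multiplicities -/
theorem base_m_twist (ψ : AddChar F ℂ) {ε : F} (hε0 : ε ≠ 0) (f : S2 → ℂ) (t : F) :
    base_m ψ (fun g => f (tauS hε0 g)) t = base_m ψ f (ε⁻¹ * t) := by
  unfold base_m
  congr 1
  rw [← Equiv.sum_comp (Equiv.mulLeft₀ ε hε0)
    (fun b => f (borelMkSL (1 : Fˣ) b) * conj (ψ (ε⁻¹ * t * b)))]
  apply Finset.sum_congr rfl
  intro b _
  simp only [Equiv.mulLeft₀_apply, tauS_unip]
  congr 3
  field_simp

end Cfsg.Agent.S2524P
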