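import Mathlib
import Cfsg.Agent.Helper7.K2M.Defs
import Cfsg.Agent.Helper13.K2MSPDefs
import Cfsg.Agent.Helper4.K2MQB
import Cfsg.Agent.Helper3.K2MRACT

set_option autoImplicit false
set_option linter.unusedSectionVars false
set_option linter.unusedVariables false

namespace Cfsg.Agent.K2M

open Matrix Cfsg.Agent.OC2P Cfsg.Agent.Helper28.Sg Cfsg.Agent.Helper28.Spin
  Cfsg.Agent.Helper12.OrthGen

variable {F : Type*} [Field F] [Fintype F] {t : ℕ} {Q : QuadraticForm F (Fin t × Fin 2 → F)}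
  {q : QuadraticForm F (Fin 2 → F)}

/-! ## SPREFL (S-M): block reflections on vectors -/

/-- a block reflection fixes every vector with zero component in that block
(`RACT.mulVec`: `r_v x = x - ((Q v)⁻¹ * B Q v x) • v`, `QB.B_binj_left`: `B Q (binj i y) x = polar q y (bproj i x) = 0`) -/
theorem SPREFL.fix (bm : BM Q q) (i : Fin t) (y : Fin 2 → F) (hv : Q (binj i y) ≠ 0)
    (x : Fin t × Fin 2 → F) (hx : bproj i x = 0) : mt Q (reflO Q (binj i y) hv) *ᵥ x = x := by
  rw [RACT.mulVec, QB.B_binj_left bm, hx, QuadraticMap.polar_zero_right, mul_zero, zero_smul,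
    sub_zero]

/-- action on a vector of the same block (`QB.Q_binj`, `bproj_binj`, `r2`, `QB.binj_sub`, `QB.binj_smul`) -/
theorem SPREFL.same (bm : BM Q q) (i : Fin t) (y : Fin 2 → F) (hv : Q (binj i y) ≠ 0)
    (a : Fin 2 → F) : mt Q (reflO Q (binj i y) hv) *ᵥ binj i a = binj i (r2 q y a) := by
  rw [RACT.mulVec, QB.B_binj_left bm, bproj_binj, QB.Q_binj bm]
  unfold r2
  rw [QB.binj_sub, QB.binj_smul]

/-- the displacement of a block reflection lies in its block -/
theorem SPREFL.sub (bm : BM Q q) (i : Fin t) (y : Fin 2 → F) (hv : Q (binj i y) ≠ 0)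
    (x : Fin t × Fin 2 → F) :
    mt Q (reflO Q (binj i y) hv) *ᵥ x - x =
      binj i ((-((q y)⁻¹ * QuadraticMap.polar ⇑q y (bproj i x))) • y) := by
  rw [RACT.mulVec, QB.B_binj_left bm, QB.Q_binj bm, QB.binj_smul, neg_smul]
  abel

end Cfsg.Agent.K2M
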