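import Mathlib
import Cfsg.Agent.Helper7.K2M.Defs
import Cfsg.Agent.Helper13.K2MSPDefs
import Cfsg.Agent.Helper4.K2MQB
import Cfsg.Agent.Helper3.K2MRACT
import Cfsg.Agent.Helper18.K2MSPREFL
import Cfsg.Agent.Helper19.K2MOMEGA

set_option autoImplicit false
set_option linter.unusedSectionVars false
set_option linter.unusedVariables false

namespace Cfsg.Agent.K2M

open Matrix Cfsg.Agent.OC2P Cfsg.Agent.Helper28.Sg Cfsg.Agent.Helper28.Spin
  Cfsg.Agent.Helper12.OrthGen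

variable {F : Type*} [Field F] [Fintype F] {t : ℕ} {Q : QuadraticForm F (Fin t × Fin 2 → F)}
  {q : QuadraticForm F (Fin 2 → F)}

/-! ## SPRINV (M): `A_p(u) = {a | binj p a ∈ Rad H u}` is invariant under all binary reflections. -/
theorem SPRINV (bm : BM Q q) (ht : 3 ≤ t) {H : Subgroup (OG Q)} (hH : HasMO H)
    {u : Fin t × Fin 2 → F} (hu : Q u = 0) {p p' : Fin t} (hpp' : p ≠ p')
    (hup : bproj p u = 0) (hup' : bproj p' u = 0) {a : Fin 2 → F}
    (ha : binj p a ∈ Rad H u hu) {y : Fin 2 → F} (hy : y ≠ 0) :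
    binj p (r2 q y a) ∈ Rad H u hu := by
  have hqy : q y ≠ 0 := fun h => hy (bm.aniso y h)
  have hy1 : Q (binj p y) ≠ 0 := by rw [QB.Q_binj bm]; exact hqy
  have hy2 : Q (binj p' y) ≠ 0 := by rw [QB.Q_binj bm]; exact hqy
  have hg : reflO Q (binj p y) hy1 * reflO Q (binj p' y) hy2 ∈ H :=
    OMEGA.pair_mem bm ht hH p p' y y hy1 hy2 ⟨q y, rfl⟩
  have h1 : mt Q (reflO Q (binj p y) hy1 * reflO Q (binj p' y) hy2) *ᵥ u = u := by
    rw [mt_mul_mulVec, SPREFL.fix bm p' y hy2 u hup', SPREFL.fix bm p y hy1 u hup]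
  have h2 : mt Q (reflO Q (binj p y) hy1 * reflO Q (binj p' y) hy2) *ᵥ binj p a =
      binj p (r2 q y a) := by
    rw [mt_mul_mulVec, SPREFL.fix bm p' y hy2 (binj p a) (bproj_binj_ne hpp'.symm a),
      SPREFL.same bm p y hy1 a]
  exact Rad_conj' hg ha hu h1 h2

end Cfsg.Agent.K2M
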