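import Mathlib
import Cfsg.Agent.Helper7.K2M.Defs
import Cfsg.Agent.Helper13.K2MSPDefs
import Cfsg.Agent.Helper22.K2MSPBLK
import Cfsg.Agent.Helper5.K2MSPCYC

set_option autoImplicit false
set_option linter.unusedSectionVars false
set_option linter.unusedVariables false

namespace Cfsg.Agent.K2M

open Matrix Cfsg.Agent.OC2P Cfsg.Agent.Helper28.Sg Cfsg.Agent.Helper28.Spin
  Cfsg.Agent.Helper12.OrthGen

variable {F : Type*} [Field F] [Fintype F] {t : ℕ} {Q : QuadraticForm F (Fin t × Fin 2 → F)}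
  {q : QuadraticForm F (Fin 2 → F)}

/-- a free block different from two given ones -/
theorem SPCORE.exists_one (I : Finset (Fin t)) (hI : I.card + 3 ≤ t) (p l : Fin t) :
    ∃ c : Fin t, c ∉ I ∧ c ≠ p ∧ c ≠ l := by
  classical
  by_contra hcon
  push Not at hcon
  have hsub : Finset.univ \ I ⊆ ({p, l} : Finset (Fin t)) := by
    intro c hc
    rw [Finset.mem_sdiff] at hc
    rw [Finset.mem_insert, Finset.mem_singleton]
    by_cases hcp : c = p
    · left; exact hcp
    · right; exact hcon c hc.2 hcp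
  have h1 := Finset.card_le_card hsub
  have h2 : ({p, l} : Finset (Fin t)).card ≤ 2 := Finset.card_le_two
  have h3 : (Finset.univ \ I).card = Fintype.card (Fin t) - I.card := Finset.card_univ_sdiff I
  rw [Fintype.card_fin] at h3
  omega

/-! ## SPCORE (M): the core lemma. -/
theorem SPCORE (bm : BM Q q) {H : Subgroup (OG Q)} (hH : HasMO H)
    {u : Fin t × Fin 2 → F} (hu : Q u = 0) (I : Finset (Fin t)) (hI : I.card + 3 ≤ t)
    (huI : SuppIn I u) {p : Fin t} (hp : p ∉ I) {w : Fin t × Fin 2 → F} (hw : w ∈ Rad H u hu)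
    (hwp : bproj p w ≠ 0) : SP.Good H I u := by
  have ht : 3 ≤ t := by omega
  obtain ⟨p', hp'I, hp'p, -⟩ := SPCORE.exists_one I hI p p
  obtain ⟨p'', hp''I, hp''p, hp''p'⟩ := SPCORE.exists_one I hI p p'
  have hblk : ∀ y : Fin 2 → F, binj p y ∈ Rad H u hu := fun y =>
    SPBLK bm ht hH hu (Ne.symm hp'p) (Ne.symm hp''p) (Ne.symm hp''p') (huI p hp) (huI p' hp'I)
      (huI p'' hp''I) hw hwp y
  intro hu' l hl y
  by_cases hlp : l = p
  · rw [hlp]
    exact hblk y
  · obtain ⟨l', hl'I, hl'p, hl'l⟩ := SPCORE.exists_one I hI p l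
    exact SPCYC bm hH hu (Ne.symm hlp) (Ne.symm hl'p) (Ne.symm hl'l) (huI p hp) (huI l hl)
      (huI l' hl'I) hblk y

end Cfsg.Agent.K2M
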