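import Mathlib
import Cfsg.Agent.Helper7.K2M.Defs
import Cfsg.Agent.Helper13.K2MSPDefs
import Cfsg.Agent.Helper4.K2MQB
import Cfsg.Agent.Helper13.K2MSPSING
import Cfsg.Agent.Helper18.K2MSPCORE

set_option autoImplicit false
set_option linter.unusedSectionVars false
set_option linter.unusedVariables false

namespace Cfsg.Agent.K2M

open Matrix Cfsg.Agent.OC2P Cfsg.Agent.Helper28.Sg Cfsg.Agent.Helper28.Spin
  Cfsg.Agent.Helper12.OrthGen

variable {F : Type*} [Field F] [Fintype F] {t : ℕ} {Q : QuadraticForm F (Fin t × Fin 2 → F)}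
  {q : QuadraticForm F (Fin 2 → F)}

/-! ## SPGOOD3 (M): every singular vector with support in at most 4 blocks is good. -/
theorem SPGOOD3 (bm : BM Q q) (ht : 7 ≤ t) {H : Subgroup (OG Q)} (hH : HasMO H)
    (hg2 : ∀ m m' : Fin t, m ≠ m' → ∀ y y' : Fin 2 → F,
      SP.Good H ({m, m'} : Finset (Fin t)) (binj m y + binj m' y'))
    (I' : Finset (Fin t)) (hI' : I'.card ≤ 4) {u' : Fin t × Fin 2 → F} (hu'I : SuppIn I' u') :
    SP.Good H I' u' := by
  intro hu'
  have hI3 : I'.card + 3 ≤ t := by omega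
  obtain ⟨m, hmI, -, -⟩ := SPCORE.exists_one I' hI3 (⟨0, by omega⟩ : Fin t) ⟨0, by omega⟩
  obtain ⟨m', hm'I, hm'm, -⟩ := SPCORE.exists_one I' hI3 m m
  have hmm' : m ≠ m' := Ne.symm hm'm
  obtain ⟨y, hy⟩ : ∃ y : Fin 2 → F, y ≠ 0 := ⟨Pi.single 0 1, by
    intro h
    have := congrFun h 0
    simp at this⟩
  obtain ⟨y', hy'⟩ := SPSING.exists_neg bm y
  have hu'' : Q (binj m y + binj m' y') = 0 := by
    rw [SPSING.Q_pair bm hmm' y y', hy', add_neg_cancel]
  -- `u' ∈ Rad H u''`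
  have hmem : u' ∈ Rad H (binj m y + binj m' y') hu'' := by
    rw [QB.eq_sum u']
    apply sum_mem
    intro i _
    by_cases hi : i ∈ I'
    · have hi' : i ∉ ({m, m'} : Finset (Fin t)) := by
        rw [Finset.mem_insert, Finset.mem_singleton]
        rintro (h | h)
        · exact hmI (h ▸ hi)
        · exact hm'I (h ▸ hi)
      exact hg2 m m' hmm' y y' hu'' i hi' _
    · rw [hu'I i hi, QB.binj_zero]
      exact (Rad H _ hu'').zero_mem
  have hswap : binj m y + binj m' y' ∈ Rad H u' hu' := Rad_swap hu' hmem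
  have hwp : bproj m (binj m y + binj m' y' : Fin t × Fin 2 → F) ≠ 0 := by
    rw [SPSING.bproj_left hmm' y y']
    exact hy
  exact SPCORE bm hH hu' I' hI3 hu'I hmI hswap hwp hu'

end Cfsg.Agent.K2M
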