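import Mathlib
import Cfsg.Agent.Helper7.K2M.Defs
import Cfsg.Agent.Helper13.K2MSPDefs
import Cfsg.Agent.Helper27.K2MPERM

set_option autoImplicit false
set_option linter.unusedSectionVars false
set_option linter.unusedVariables false

namespace Cfsg.Agent.K2M

open Matrix Cfsg.Agent.OC2P Cfsg.Agent.Helper28.Sg Cfsg.Agent.Helper28.Spin
  Cfsg.Agent.Helper12.OrthGen

variable {F : Type*} [Field F] [Fintype F] {t : ℕ} {Q : QuadraticForm F (Fin t × Fin 2 → F)}
  {q : QuadraticForm F (Fin 2 → F)}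

/-! ## SPMOVE (M): goodness of two-block vectors does not depend on the pair of blocks. -/
theorem SPMOVE (bm : BM Q q) (ht : 4 ≤ t) {H : Subgroup (OG Q)} (hH : HasMO H)
    {l l' m m' : Fin t} (hll' : l ≠ l') (hmm' : m ≠ m') (y y' : Fin 2 → F)
    (hgood : SP.Good H ({l, l'} : Finset (Fin t)) (binj l y + binj l' y')) :
    SP.Good H ({m, m'} : Finset (Fin t)) (binj m y + binj m' y') := by
  obtain ⟨g, π, hgH, -, hπl, hπl', hg⟩ := PERM.move_pair bm ht hH hll' hmm'
  have hgu : mt Q g *ᵥ (binj l y + binj l' y') = binj m y + binj m' y' := by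
    rw [Matrix.mulVec_add, hg, hg, hπl, hπl']
  intro hu₂ k hk y''
  have hu₁ : Q (binj l y + binj l' y') = 0 := by
    rw [← Q_isom g, hgu]
    exact hu₂
  have hk₀ : π.symm k ∉ ({l, l'} : Finset (Fin t)) := by
    intro hmem
    apply hk
    rw [Finset.mem_insert, Finset.mem_singleton] at hmem ⊢
    rcases hmem with h | h
    · left
      rw [← hπl, ← h, Equiv.apply_symm_apply]
    · right
      rw [← hπl', ← h, Equiv.apply_symm_apply]
  have h1 := hgood hu₁ (π.symm k) hk₀ y''
  have h2 : mt Q g *ᵥ binj (π.symm k) y'' = binj k y'' := by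
    rw [hg, Equiv.apply_symm_apply]
  exact Rad_conj' hgH h1 hu₂ hgu h2

end Cfsg.Agent.K2M
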