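import Mathlib
import Cfsg.Agent.Helper13.S2276Defs
import Cfsg.Agent.Helper4.S2276NS3
import Cfsg.Agent.Helper4.S2276EVEN2

set_option autoImplicit false
set_option linter.unusedSectionVars false
set_option linter.unusedVariables false

/-! # S2276 piece RCYCEVEN: an even `ρ` with `Good p c (ρ c⁻¹ ρ⁻¹)` -/

namespace Cfsg.Agent.S2276P

open Equiv Equiv.Perm

/-- `viaEmbedding` of a swap -/
theorem RCYCEVEN.via_swap {α β : Type*} [DecidableEq α] [DecidableEq β] (ι : α ↪ β) (i j : α) :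
    (swap i j).viaEmbedding ι = swap (ι i) (ι j) := by
  ext x
  by_cases hx : x ∈ Set.range ι
  · obtain ⟨a, rfl⟩ := hx
    rw [viaEmbedding_apply, ι.injective.swap_apply]
  · rw [viaEmbedding_apply_of_notMem _ _ _ hx, swap_apply_of_ne_of_ne]
    · rintro rfl; exact hx ⟨i, rfl⟩
    · rintro rfl; exact hx ⟨j, rfl⟩

/-- `viaEmbedding` preserves three-cycles -/
theorem RCYCEVEN.via_three {α β : Type*} [Fintype α] [DecidableEq α] [Fintype β] [DecidableEq β]
    (ι : α ↪ β) {σ : Perm α} (h : σ.IsThreeCycle) : (σ.viaEmbedding ι).IsThreeCycle := by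
  classical
  unfold IsThreeCycle at h ⊢
  unfold viaEmbedding
  rw [← h]
  convert cycleType_extendDomain (ofInjective ι.1 ι.2) (g := σ)

/-- the values of the powers of the rotation -/
theorem RCYCEVEN.rot_pow_val (n k : ℕ) (x : Fin (n + 1)) :
    ((finRotate (n + 1) ^ k) x).val = (x.val + k) % (n + 1) := by
  induction k with
  | zero => simp [Nat.mod_eq_of_lt x.isLt]
  | succ k ih =>
    rw [pow_succ', Perm.mul_apply, finRotate_apply, Fin.val_add, ih, Fin.val_one', Nat.add_mod_mod,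
      Nat.mod_add_mod, add_assoc]

/-- the case `r ≥ 7` -/
theorem RCYCEVEN.big {r : ℕ} (hr : Odd r) (h7 : 7 ≤ r) {p : ℕ} (hp : p.Prime) (hp2 : p ≠ 2) :
    ∃ ρ : Perm (Fin r), Perm.sign ρ = 1 ∧
      Good p (finRotate r) (ρ * (finRotate r)⁻¹ * ρ⁻¹) := by
  classical
  obtain ⟨n, rfl⟩ : ∃ n, r = n + 1 := ⟨r - 1, by omega⟩
  set c : Perm (Fin (n + 1)) := finRotate (n + 1) with hc
  -- the points `x_{i+1} = c^(i+1) 0`, `i : Fin 7`
  have hval : ∀ k : ℕ, ((c ^ k) (0 : Fin (n + 1))).val = k % (n + 1) := by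
    intro k
    rw [hc, RCYCEVEN.rot_pow_val]
    simp
  have hinj : Function.Injective (fun i : Fin 7 => (c ^ (i.val + 1)) (0 : Fin (n + 1))) := by
    intro i j hij
    have h1 := congrArg Fin.val hij
    simp only [hval] at h1
    have hi := i.isLt
    have hj := j.isLt
    apply Fin.ext
    by_cases hi6 : i.val + 1 < n + 1
    · by_cases hj6 : j.val + 1 < n + 1
      · rw [Nat.mod_eq_of_lt hi6, Nat.mod_eq_of_lt hj6] at h1; omega
      · have : j.val + 1 = n + 1 := by omega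
        rw [Nat.mod_eq_of_lt hi6, this, Nat.mod_self] at h1; omega
    · have : i.val + 1 = n + 1 := by omega
      by_cases hj6 : j.val + 1 < n + 1
      · rw [this, Nat.mod_self, Nat.mod_eq_of_lt hj6] at h1; omega
      · omega
  set ι : Fin 7 ↪ Fin (n + 1) := ⟨fun i => (c ^ (i.val + 1)) 0, hinj⟩ with hι
  have hιc : ∀ i : Fin 7, ∀ j : Fin 7, j.val = i.val + 1 → c (ι i) = ι j := by
    intro i j hij
    show c ((c ^ (i.val + 1)) 0) = (c ^ (j.val + 1)) 0
    rw [hij, pow_succ' c (i.val + 1), Perm.mul_apply]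
  set φ : Perm (Fin 7) →* Perm (Fin (n + 1)) := viaEmbeddingHom ι with hφ
  have hφswap : ∀ i j : Fin 7, φ (swap i j) = swap (ι i) (ι j) := fun i j =>
    RCYCEVEN.via_swap ι i j
  have hφapply : ∀ (σ : Perm (Fin 7)) (i : Fin 7), φ σ (ι i) = ι (σ i) := fun σ i =>
    viaEmbedding_apply σ ι i
  set ρ : Perm (Fin (n + 1)) := φ (swap 0 2 * swap 3 5) with hρ
  have hconj : c * ρ * c⁻¹ = φ (swap 1 3 * swap 4 6) := by
    rw [hρ, map_mul, map_mul, hφswap, hφswap, hφswap, hφswap]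
    have e : c * (swap (ι 0) (ι 2) * swap (ι 3) (ι 5)) * c⁻¹ =
        (c * swap (ι 0) (ι 2) * c⁻¹) * (c * swap (ι 3) (ι 5) * c⁻¹) := by group
    rw [e, ← swap_apply_apply, ← swap_apply_apply, hιc 0 1 rfl, hιc 2 3 rfl, hιc 3 4 rfl, hιc 5 6 rfl]
  set σ₇ : Perm (Fin 7) := swap 1 3 * swap 4 6 * (swap 0 2 * swap 3 5)⁻¹ with hσ₇
  have hcv : c * (ρ * c⁻¹ * ρ⁻¹) = φ σ₇ := by
    have e : c * (ρ * c⁻¹ * ρ⁻¹) = (c * ρ * c⁻¹) * ρ⁻¹ := by group
    rw [e, hconj, hρ, hσ₇, ← map_inv, ← map_mul]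
  refine ⟨ρ, ?_, ?_, ?_⟩
  · -- the sign
    rw [hρ, map_mul, hφswap, hφswap, map_mul, sign_swap, sign_swap]
    · norm_num
    · intro h; exact absurd (ι.injective h) (by decide)
    · intro h; exact absurd (ι.injective h) (by decide)
  · -- a 2-cycle
    rw [hcv]
    have h13 : ι 0 ≠ ι 2 := fun h => absurd (ι.injective h) (by decide)
    refine EVEN2.main hp hp2 (φ σ₇) h13 ?_ ?_
    · rw [hφapply]; congr 1
    · rw [hφapply]; congr 1
  · -- not solvable
    set K : Subgroup (Perm (Fin (n + 1))) :=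
      Subgroup.closure ({finRotate (n + 1), ρ * (finRotate (n + 1))⁻¹ * ρ⁻¹} : Set _) with hK
    have hcK : finRotate (n + 1) ∈ K := Subgroup.subset_closure (by simp)
    have hvK : ρ * (finRotate (n + 1))⁻¹ * ρ⁻¹ ∈ K := Subgroup.subset_closure (by simp)
    have htK : φ (σ₇ ^ 2) ∈ K := by
      rw [map_pow, ← hcv]
      exact K.pow_mem (K.mul_mem hcK hvK) 2
    have h3 : (φ (σ₇ ^ 2)).IsThreeCycle := by
      apply RCYCEVEN.via_three ι
      rw [← card_support_eq_three_iff]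
      decide
    have hd : Nat.Coprime 4 (n + 1) := by
      have : Nat.Coprime 2 (n + 1) := Nat.coprime_two_left.2 hr
      exact Nat.Coprime.pow_left 2 this
    have htx : φ (σ₇ ^ 2) (ι 1) = (finRotate (n + 1) ^ 4) (ι 1) := by
      rw [hφapply]
      have e : (σ₇ ^ 2) 1 = 5 := by decide
      rw [e]
      show (c ^ (5 + 1)) 0 = (c ^ 4) ((c ^ (1 + 1)) 0)
      rw [← Perm.mul_apply, ← pow_add]
    exact NS3.main hr (by omega) K hcK htK h3 hd htx

/-- the case `r = 5` -/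
theorem RCYCEVEN.five :
    ∃ ρ : Perm (Fin 5), Perm.sign ρ = 1 ∧ Good 5 (finRotate 5) (ρ * (finRotate 5)⁻¹ * ρ⁻¹) := by
  refine ⟨swap 2 3 * swap 3 4, by decide, ?_, ?_⟩
  · have h3 : (finRotate 5 * (swap 2 3 * swap 3 4 * (finRotate 5)⁻¹ * (swap 2 3 * swap 3 4)⁻¹) :
        Perm (Fin 5)).IsThreeCycle := by
      rw [← card_support_eq_three_iff]
      decide
    rintro ⟨k, hk⟩
    rw [h3.orderOf] at hk
    have : 5 ∣ 3 ∨ k = 0 := by
      rcases Nat.eq_zero_or_pos k with h0 | h0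
      · exact Or.inr h0
      · left; rw [hk]; exact dvd_pow_self 5 (by omega)
    rcases this with h | h
    · omega
    · subst h; norm_num at hk
  · set K : Subgroup (Perm (Fin 5)) :=
      Subgroup.closure ({finRotate 5, swap 2 3 * swap 3 4 * (finRotate 5)⁻¹ *
        (swap 2 3 * swap 3 4)⁻¹} : Set _) with hK
    have hcK : finRotate 5 ∈ K := Subgroup.subset_closure (by simp)
    have hvK : swap 2 3 * swap 3 4 * (finRotate 5)⁻¹ * (swap 2 3 * swap 3 4)⁻¹ ∈ K :=
      Subgroup.subset_closure (by simp)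
    have htK := K.mul_mem hcK hvK
    have h3 : (finRotate 5 * (swap 2 3 * swap 3 4 * (finRotate 5)⁻¹ * (swap 2 3 * swap 3 4)⁻¹) :
        Perm (Fin 5)).IsThreeCycle := by
      rw [← card_support_eq_three_iff]
      decide
    -- find the point moved by a power of the rotation
    have htx : (finRotate 5 * (swap 2 3 * swap 3 4 * (finRotate 5)⁻¹ * (swap 2 3 * swap 3 4)⁻¹) :
          Perm (Fin 5)) 0 = (finRotate 5 ^ 3) 0 := by
      decide
    exact NS3.main (by decide) (by norm_num) K hcK htK h3 (by decide : Nat.Coprime 3 5) htx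

theorem RCYCEVEN.main {r : ℕ} (hr : Odd r) (h5 : 5 ≤ r) {p : ℕ} (hp : p.Prime) (hp2 : p ≠ 2)
    (hpr : p ∣ r) :
    ∃ ρ : Perm (Fin r), Perm.sign ρ = 1 ∧
      Good p (finRotate r) (ρ * (finRotate r)⁻¹ * ρ⁻¹) := by
  have hcase : r = 5 ∨ 7 ≤ r := by
    obtain ⟨k, rfl⟩ := hr
    omega
  rcases hcase with rfl | h7
  · have hp5 : p = 5 := (Nat.prime_dvd_prime_iff_eq hp (by norm_num)).1 hpr
    subst hp5
    exact RCYCEVEN.five
  · exact RCYCEVEN.big hr h7 hp hp2

end Cfsg.Agent.S2276P
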