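import Cfsg.Agent.Helper28.S2510Defs

/-! S2510 piece ROOTR. -/

set_option autoImplicit false

namespace Cfsg.Agent.S2510P

open Polynomial

variable {F : Type*} [Field F] [Fintype F] {n : ℕ} {p : ℕ}

local notation "q" => Fintype.card F

/-- ROOTR (S): `Fˣ` is cyclic of order `q - 1`. -/
theorem exists_orderOf_eq (r : ℕ) (hr : r.Prime) (hrq : r ∣ q - 1) : ∃ ρ : Fˣ, orderOf ρ = r := by
  classical
  haveI : Fact r.Prime := ⟨hr⟩
  have h : r ∣ Fintype.card Fˣ := by
    rw [Fintype.card_units]
    exact hrq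
  exact exists_prime_orderOf_dvd_card r h

end Cfsg.Agent.S2510P
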