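import Mathlib
import Cfsg.Agent.Helper11.NoSimple
import Cfsg.Agent.Helper11.SylowCount
import Cfsg.Agent.S0144
import Cfsg.Agent.S0992

/-!
# Census engine, part A: certificates for "no non-abelian simple group of order n"
-/

set_option autoImplicit false

namespace Cfsg.Agent.Helper18.Census

universe u

/-- There is no non-abelian simple group of order `n` (in universe `u`). -/
def NoSimple (n : ℕ) : Prop :=
  ∀ (G : Type u) [Group G] [Finite G] [IsSimpleGroup G], ¬ IsMulCommutative G → Nat.card G ≠ n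

/-- Boolean primality test, valid below `6400`. -/
def isPrimeB (p : ℕ) : Bool :=
  decide (2 ≤ p) && decide (p < 6400) &&
    (List.range 80).all (fun k => decide (k < 2) || decide (p < k * k) || decide (p % k ≠ 0))

theorem isPrimeB_sound {p : ℕ} (h : isPrimeB p = true) : p.Prime := by
  unfold isPrimeB at h
  simp only [Bool.and_eq_true, decide_eq_true_eq, List.all_eq_true, List.mem_range, Bool.or_eq_true]
    at h
  obtain ⟨⟨h2, hlt⟩, hall⟩ := h
  rw [Nat.prime_def_le_sqrt]
  refine ⟨h2, fun m hm2 hms hdvd => ?_⟩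
  have hmm : m * m ≤ p := Nat.le_sqrt.mp hms
  have hm80 : m < 80 := by
    by_contra hge
    have : 80 ≤ m := not_lt.mp hge
    nlinarith
  rcases hall m hm80 with (h' | h') | h'
  · omega
  · omega
  · exact h' (Nat.mod_eq_zero_of_dvd hdvd)

/-- Certificate: `n = p^a * q^b`. -/
def checkTwo (n p a q b : ℕ) : Bool :=
  isPrimeB p && isPrimeB q && decide (n = p ^ a * q ^ b)

theorem checkTwo_sound {n p a q b : ℕ} (h : checkTwo n p a q b = true) : NoSimple.{u} n := by
  unfold checkTwo at h
  simp only [Bool.and_eq_true, decide_eq_true_eq] at h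
  obtain ⟨⟨hp, hq⟩, hn⟩ := h
  intro G _ _ _ hG hcard
  have hsol : IsSolvable G :=
    Cfsg.Agent.S0144.result p q a b (isPrimeB_sound hp) (isPrimeB_sound hq) (hcard.trans hn)
  apply hG
  exact ⟨⟨IsSimpleGroup.comm_iff_isSolvable.mpr hsol⟩⟩

/-- Certificate: `n` even, not divisible by `8` nor by `3`. -/
def checkKlein (n : ℕ) : Bool :=
  decide (n % 2 = 0) && decide (n % 8 ≠ 0) && decide (n % 3 ≠ 0)

theorem checkKlein_sound {n : ℕ} (h : checkKlein n = true) : NoSimple.{u} n := by
  unfold checkKlein at h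
  simp only [Bool.and_eq_true, decide_eq_true_eq] at h
  obtain ⟨⟨h2, h8⟩, h3⟩ := h
  intro G _ _ _ hG hcard
  have : Fact (Nat.Prime 2) := ⟨Nat.prime_two⟩
  obtain ⟨T⟩ : Nonempty (Sylow 2 G) := inferInstance
  have hev : Even (Nat.card G) := by rw [hcard]; exact Nat.even_iff.mpr h2
  have hn8 : ¬ 8 ∣ Nat.card G := by rw [hcard]; omega
  obtain ⟨-, hidx⟩ := Cfsg.Agent.S0992.result hG hev hn8 T
  have h1 : (Subgroup.centralizer ((T : Subgroup G) : Set G)).relIndex
      (Subgroup.normalizer ((T : Subgroup G) : Set G)) ∣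
      Nat.card ↥(Subgroup.normalizer ((T : Subgroup G) : Set G)) := Subgroup.relIndex_dvd_card _ _
  rw [hidx] at h1
  have h2' := h1.trans (Subgroup.card_subgroup_dvd_card _)
  rw [hcard] at h2'
  omega

end Cfsg.Agent.Helper18.Census
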