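import Mathlib
import Cfsg.Agent.Helper18.CensusA

/-!
# Census engine, part B: the Sylow certificate
-/

set_option autoImplicit false

namespace Cfsg.Agent.Helper18.Census

universe u

/-- `d` is an impossible number of Sylow `p`-subgroups in a simple group of order `n`
(`a` is the exponent of `p` in `n`). -/
def badCand (n p a d : ℕ) : Bool :=
  (decide (d ≤ 30) && !(decide (2 * n ∣ d.factorial))) ||
  (decide (a = 1) && decide (Nat.gcd (n / (d * p)) (p - 1) = 1)) ||
  (decide (a = 1) && decide (p ≠ 2) && decide (d = p + 1) && !(decide (2 * (n / d) ∣ p * (p - 1))))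

/-- Sylow certificate: `n = m * p^a`, `p ∤ m`, and every candidate `d = k p + 1 > 1`, `d ∣ m`
for the number of Sylow `p`-subgroups is impossible. -/
def checkSyl (n p a m : ℕ) : Bool :=
  isPrimeB p && decide (n = m * p ^ a) && decide (m % p ≠ 0) && decide (1 ≤ a) &&
  (List.range (m / p + 1)).all
    (fun k => decide (k = 0) || decide (m % (k * p + 1) ≠ 0) || badCand n p a (k * p + 1))

theorem checkSyl_sound {n p a m : ℕ} (h : checkSyl n p a m = true) : NoSimple.{u} n := by
  unfold checkSyl at h
  simp only [Bool.and_eq_true, decide_eq_true_eq, List.all_eq_true, List.mem_range,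
    Bool.or_eq_true] at h
  obtain ⟨⟨⟨⟨hp, hn⟩, hmp⟩, ha⟩, hall⟩ := h
  have hp' : p.Prime := isPrimeB_sound hp
  intro G _ _ _ hG hcard
  have : Fact p.Prime := ⟨hp'⟩
  have hG' : Nat.card G = m * p ^ a := hcard.trans hn
  have hm : ¬ p ∣ m := fun hd => hmp (Nat.mod_eq_zero_of_dvd hd)
  have hpn : p ∣ Nat.card G := by
    rw [hG']; exact Dvd.dvd.mul_left (dvd_pow_self p (by omega)) m
  have hmem := Cfsg.Agent.Helper11.card_sylow_mem_filter m a hG' hm
  rw [Finset.mem_filter, Nat.mem_divisors] at hmem
  obtain ⟨⟨hdm, hm0⟩, hd1⟩ := hmem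
  have hne1 := Cfsg.Agent.Helper11.simple_card_sylow_ne_one hG p hpn
  set d := Nat.card (Sylow p G) with hd
  have hdle : d ≤ m := Nat.le_of_dvd (Nat.pos_of_ne_zero hm0) hdm
  have hdk : d = d / p * p + 1 := by
    have := Nat.div_add_mod d p
    rw [hd1] at this
    rw [mul_comm]; exact this.symm
  have hk0 : d / p ≠ 0 := by
    intro h0
    rw [h0] at hdk
    omega
  have hklt : d / p < m / p + 1 := by
    have : d / p ≤ m / p := Nat.div_le_div_right hdle
    omega
  rcases hall (d / p) hklt with (h1 | h1) | h1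
  · exact hk0 h1
  · rw [← hdk] at h1
    exact h1 (Nat.mod_eq_zero_of_dvd hdm)
  · rw [← hdk] at h1
    unfold badCand at h1
    simp only [Bool.or_eq_true, Bool.and_eq_true, decide_eq_true_eq, Bool.not_eq_true',
      decide_eq_false_iff_not] at h1
    obtain ⟨P⟩ : Nonempty (Sylow p G) := inferInstance
    have hNd : d * Nat.card ↥(Subgroup.normalizer ((P : Subgroup G) : Set G)) = n := by
      rw [← hcard]; exact Cfsg.Agent.Helper11.card_sylow_mul_card_normalizer P
    have hd0 : 0 < d := Nat.pos_of_ne_zero (by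
      intro h0; rw [h0] at hdk; omega)
    have hN : Nat.card ↥(Subgroup.normalizer ((P : Subgroup G) : Set G)) = n / d := by
      rw [← hNd, Nat.mul_div_cancel_left _ hd0]
    rcases h1 with (⟨-, h1⟩ | ⟨ha1, h1⟩) | ⟨⟨⟨ha1, hp2⟩, hdp⟩, h1⟩
    · apply h1
      have := Cfsg.Agent.Helper11.simple_two_mul_card_dvd_factorial_card_sylow hG p hpn
      rwa [hcard] at this
    · subst ha1
      have hP : Nat.card ↥(P : Subgroup G) = p := by
        have := (Cfsg.Agent.Helper11.sylow_card_of_card_eq_pow m 1 hG' hm P).1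
        rwa [pow_one] at this
      obtain ⟨r, hr1, hrp, hrN⟩ := Cfsg.Agent.Helper11.simple_automizer_prime hG p P hP
      rw [hN] at hrN
      have hr : r ∣ n / (d * p) := by
        rw [← Nat.div_div_eq_div_mul]
        obtain ⟨c, hc⟩ := hrN
        rw [hc, mul_comm r p, mul_assoc, Nat.mul_div_cancel_left _ hp'.pos]
        exact Dvd.intro _ rfl
      have := Nat.dvd_gcd hr hrp
      rw [h1] at this
      exact hr1 (Nat.dvd_one.mp this)
    · subst ha1
      have hP : Nat.card ↥(P : Subgroup G) = p := by
        have := (Cfsg.Agent.Helper11.sylow_card_of_card_eq_pow m 1 hG' hm P).1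
        rwa [pow_one] at this
      apply h1
      have hidx : (Subgroup.normalizer ((P : Subgroup G) : Set G)).index = p ∨
          (Subgroup.normalizer ((P : Subgroup G) : Set G)).index = p + 1 := by
        right
        rw [← hdp, hd]
        exact (P.card_eq_index_normalizer).symm
      have := Cfsg.Agent.Helper11.simple_normalizer_dvd_of_index hG p hp2 _ hidx P hP
      rwa [hN] at this

end Cfsg.Agent.Helper18.Census
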