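import Mathlib
import Cfsg.Agent.Helper27.S0996Defs
import Cfsg.Agent.Helper24.Expansion
import Cfsg.Agent.Helper24.RealChar

set_option autoImplicit false

/-! # S0996 piece C2A: `ε = -1 ⟹ e` even -/

namespace Cfsg.Agent.Helper18.S0996C2A

open Cfsg Cfsg.Agent.Helper24 Cfsg.Agent.Helper1.W2p Cfsg.Agent.S0996P

universe u

variable {G : Type u} [Group G]

section
variable [Fintype G] [Fintype (IrrCharacter G)] {P : Subgroup G}

theorem norm_eq (T0 : Dict0 P) (φ : Lin P) :
    classInner (indL P φ) (indL P φ) = ((∑ χ : IrrCharacter G, mult P φ χ ^ 2 : ℕ) : ℂ) := by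
  conv_lhs => rw [T0.expand φ]
  rw [classInner_sum_sum]
  push_cast
  refine Finset.sum_congr rfl ?_
  intro χ _
  rw [Complex.conj_natCast]; ring

theorem norm_inv (T0 : Dict0 P) (φ : Lin P) :
    ∑ χ : IrrCharacter G, mult P φ⁻¹ χ ^ 2 = ∑ χ : IrrCharacter G, mult P φ χ ^ 2 := by
  have h1 := norm_eq T0 φ⁻¹
  rw [T0.conj φ, classInner_star_star, norm_eq T0 φ, Complex.conj_natCast] at h1
  exact_mod_cast h1.symm

end

section
variable [Fintype G] [Fintype (IrrCharacter G)] {p : ℕ} [Fact p.Prime] {P : Subgroup G} {n : ℕ}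
  [Fintype (Lin P)]

/-- if `mult φ ψ = 1` for some `ψ ∈ Y` then `φ ≠ 1`, `Λ_φ = Σ_Y` and its norm is `t`. -/
theorem second_alt (D : BrauerData p P) (S : Struc p P n D) (φ : Lin P) (ψ : IrrCharacter G)
    (hψ : ψ ∈ D.Y) (h1 : mult P φ ψ = 1) :
    φ ≠ 1 ∧ (∀ ψ' ∈ D.Y, mult P φ ψ' = 1) ∧ (∀ χ' : IrrCharacter G, χ' ∉ D.Y → mult P φ χ' = 0) := by
  have hφ : φ ≠ 1 := by
    rintro rfl
    rw [S.pi_zero ψ (Or.inr hψ)] at h1
    exact zero_ne_one h1
  refine ⟨hφ, ?_⟩
  rcases S.form φ hφ with ⟨χ, hχX, -, -, -, hoth⟩ | ⟨-, hY, hoth⟩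
  · exfalso
    have : ψ = χ := by
      by_contra hne
      rw [hoth ψ hne] at h1
      exact zero_ne_one h1
    subst this
    exact (Set.disjoint_left.mp D.disj hχX) hψ
  · exact ⟨hY, hoth⟩

theorem norm_second (D : BrauerData p P) (φ : Lin P)
    (hY : ∀ ψ' ∈ D.Y, mult P φ ψ' = 1) (hoth : ∀ χ' : IrrCharacter G, χ' ∉ D.Y → mult P φ χ' = 0) :
    ∑ χ : IrrCharacter G, mult P φ χ ^ 2 = Nat.card D.Y := by
  classical
  have : ∀ χ : IrrCharacter G, mult P φ χ ^ 2 = if χ ∈ D.Y then 1 else 0 := by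
    intro χ
    by_cases h : χ ∈ D.Y
    · rw [if_pos h, hY χ h]; rfl
    · rw [if_neg h, hoth χ h]; rfl
  rw [Finset.sum_congr rfl (fun χ _ => this χ), Finset.sum_boole, Nat.cast_id,
    Nat.card_eq_fintype_card, Fintype.card_subtype]

theorem norm_first (φ : Lin P) (χ : IrrCharacter G) (h1 : mult P φ χ = 1)
    (hoth : ∀ χ' : IrrCharacter G, χ' ≠ χ → mult P φ χ' = 0) :
    ∑ χ : IrrCharacter G, mult P φ χ ^ 2 = 1 := by
  classical
  rw [Finset.sum_eq_single χ]
  · rw [h1]; rfl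
  · intro b _ hb
    rw [hoth b hb]; rfl
  · intro h; exact absurd (Finset.mem_univ χ) h

end

end Cfsg.Agent.Helper18.S0996C2A

namespace Cfsg.Agent.S0996P

open Cfsg Cfsg.Agent.Helper24 Cfsg.Agent.Helper1.W2p Cfsg.Agent.Helper18.S0996C2A

universe u

variable {G : Type u} [Group G]

section L6
variable [Fintype G] [Fintype (IrrCharacter G)] {p : ℕ} [Fact p.Prime] {P : Subgroup G} {n : ℕ}
  [Fintype (Lin P)]

/-- C2A -/
theorem neg_even (B : Basic p P n) (D : BrauerData p P) (T : Dict p P n D) (S : Struc p P n D)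
    (LF : LinFacts P)
    (hNE : ∀ g : G, g ∉ NP P →
      Nat.card ↥(Subgroup.normalizer ((EE P g : Subgroup G) : Set G)) = eN P * (n + 1))
    (hε : D.ε = -1) : Even (eN P) := by
  classical
  by_contra hnot
  have hodd : Odd (eN P) := Nat.not_even_iff_odd.mp hnot
  have hp : p.Prime := Fact.out
  have hp5 : 5 ≤ p := B.five_le
  have he2 : 2 ≤ eN P := B.two_le_eN
  have hn1 : 1 ≤ n := B.one_le_n
  have hbound : 2 * n < p + 3 := B.bound
  have hcY : Nat.card D.Y * eN P = p - 1 := D.card_Y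
  set t := Nat.card D.Y with ht
  set e := eN P with he
  -- p - 1 is even
  have hpodd : Odd p := hp.odd_of_ne_two (by omega)
  have hp1even : Even (p - 1) := by
    obtain ⟨k, hk⟩ := hpodd
    exact ⟨k, by omega⟩
  have hteven : Even t := by
    rw [← hcY, Nat.even_mul] at hp1even
    rcases hp1even with h | h
    · exact h
    · exact absurd h hnot
  have htpos : 0 < t := by
    rcases Nat.eq_zero_or_pos t with h | h
    · rw [h, zero_mul] at hcY; omega
    · exact h
  have ht2 : 2 ≤ t := by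
    obtain ⟨k, hk⟩ := hteven
    omega
  -- pick ψ ∈ Y
  have hne : Nonempty ↥D.Y := by
    have : Nat.card ↥D.Y ≠ 0 := by omega
    exact (Nat.card_ne_zero.mp this).1
  obtain ⟨⟨ψ, hψ⟩⟩ := hne
  obtain ⟨hdeg, hat⟩ := S.negY hε ψ hψ
  set a := D.a ψ with ha
  -- a is even
  have hcount := S.countY hε ψ hψ
  have hat : a * t = n + 1 := hat
  have haeven : Even a := by
    rw [ha, ← hcount]
    rw [← ZMod.natCast_eq_zero_iff_even]
    have hsum : ∑ _φ ∈ Finset.univ.filter (fun φ : Lin P => mult P φ ψ = 1), (1 : ZMod 2) = 0 := by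
      refine Finset.sum_involution (fun φ _ => φ⁻¹) ?_ ?_ ?_ ?_
      · intro φ _
        decide
      · intro φ hφ _
        rw [Finset.mem_filter] at hφ
        obtain ⟨hφ1, -, -⟩ := second_alt D S φ ψ hψ hφ.2
        intro hinv
        -- φ⁻¹ = φ → φ = 1
        have hsq : φ ^ 2 = 1 := by
          rw [pow_two]
          nth_rewrite 1 [← hinv]
          exact inv_mul_cancel φ
        have h2 : orderOf φ ∣ 2 := orderOf_dvd_of_pow_eq_one hsq
        have h3 : orderOf φ ∣ e := by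
          rw [he, ← LF.card]
          exact orderOf_dvd_card
        have h4 : orderOf φ ∣ Nat.gcd 2 e := Nat.dvd_gcd h2 h3
        have h5 : Nat.gcd 2 e = 1 := Nat.coprime_two_left.mpr hodd
        rw [h5, Nat.dvd_one, orderOf_eq_one_iff] at h4
        exact hφ1 h4
      · intro φ hφ
        rw [Finset.mem_filter] at hφ ⊢
        refine ⟨Finset.mem_univ _, ?_⟩
        obtain ⟨hφ1, hY, hoth⟩ := second_alt D S φ ψ hψ hφ.2
        have hnorm : ∑ χ : IrrCharacter G, mult P φ⁻¹ χ ^ 2 = t := by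
          rw [norm_inv T.toDict0 φ, norm_second D φ hY hoth]
        have hφi : φ⁻¹ ≠ 1 := by
          intro h
          exact hφ1 ((inv_eq_one (a := φ)).mp h)
        rcases S.form φ⁻¹ hφi with ⟨χ, -, -, -, h1, hoth'⟩ | ⟨-, hY', -⟩
        · rw [norm_first φ⁻¹ χ h1 hoth'] at hnorm
          omega
        · exact hY' ψ hψ
      · intro φ _
        exact inv_inv φ
    rw [Finset.sum_const, nsmul_eq_mul, mul_one] at hsum
    exact hsum
  -- divisibility
  have hgex : ∃ g : G, g ∉ NP P := by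
    by_contra hcon
    push Not at hcon
    have htop : NP P = ⊤ := by
      rw [eq_top_iff]
      intro x _
      exact hcon x
    have := B.index_NP
    rw [htop, Subgroup.index_top] at this
    have : n * p = 0 := by omega
    rcases Nat.mul_eq_zero.mp this with h | h <;> omega
  obtain ⟨g, hg⟩ := hgex
  have hdvd : e * (n + 1) ∣ p * e * (1 + n * p) := by
    rw [← hNE g hg, ← B.card_G]
    exact Subgroup.card_subgroup_dvd_card _
  have hdvd2 : (n + 1) ∣ p * (1 + n * p) := by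
    have : p * e * (1 + n * p) = e * (p * (1 + n * p)) := by ring
    rw [this] at hdvd
    exact Nat.dvd_of_mul_dvd_mul_left (by omega) hdvd
  have hcop : Nat.Coprime (n + 1) p := by
    rw [Nat.coprime_comm, hp.coprime_iff_not_dvd]
    intro h
    have := Nat.le_of_dvd (by omega) h
    omega
  have hdvd3 : (n + 1) ∣ 1 + n * p := hcop.dvd_of_dvd_mul_left hdvd2
  have hdvd4 : (n + 1) ∣ p - 1 := by
    have h1 : (1 + n * p) + (p - 1) = (n + 1) * p := by
      have : 1 ≤ p := by omega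
      zify [this]; ring
    have h2 : (n + 1) ∣ (1 + n * p) + (p - 1) := by rw [h1]; exact dvd_mul_right _ _
    exact (Nat.dvd_add_right hdvd3).mp h2
  have hdvd5 : a ∣ e := by
    rw [← hcY, ← hat] at hdvd4
    have : t * e = e * t := mul_comm _ _
    rw [this] at hdvd4
    exact Nat.dvd_of_mul_dvd_mul_right htpos hdvd4
  apply hnot
  obtain ⟨k, hk⟩ := haeven
  obtain ⟨m, hm⟩ := hdvd5
  exact ⟨k * m, by rw [hm, hk]; ring⟩

end L6

end Cfsg.Agent.S0996P
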