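import Mathlib
import Cfsg.Agent.Helper27.S0996Defs

set_option autoImplicit false

/-! # S0996 piece CMP: complements of `P` in `N = N_G(P)` (compl_basic, compl_ti, compl_conj) -/

namespace Cfsg.Agent.Helper18.S0996CMP

open Cfsg Cfsg.Agent.Helper24 Cfsg.Agent.Helper1.W2p Cfsg.Agent.S0996P

universe u

variable {G : Type u} [Group G]

/-- the natural hom `K → N/P` for `K ≤ N`. -/
noncomputable def toQP (P K : Subgroup G) (hK : K ≤ NP P) : ↥K →* QP P :=
  (QuotientGroup.mk' (P.subgroupOf (NP P))).comp (Subgroup.inclusion hK)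

theorem toQP_eq_one_iff (P K : Subgroup G) (hK : K ≤ NP P) (k : ↥K) :
    toQP P K hK k = 1 ↔ (k : G) ∈ P := by
  unfold toQP
  simp only [MonoidHom.coe_comp, Function.comp_apply, QuotientGroup.mk'_apply,
    QuotientGroup.eq_one_iff]
  rw [Subgroup.mem_subgroupOf]
  rfl

theorem toQP_injective (P K : Subgroup G) (hK : K ≤ NP P) (hdisj : K ⊓ P = ⊥) :
    Function.Injective (toQP P K hK) := by
  rw [injective_iff_map_eq_one]
  intro k hk
  rw [toQP_eq_one_iff] at hk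
  have : (k : G) ∈ K ⊓ P := ⟨k.2, hk⟩
  rw [hdisj, Subgroup.mem_bot] at this
  exact Subtype.ext this

theorem card_QP (P : Subgroup G) : Nat.card (QP P) = eN P := by
  unfold eN Subgroup.relIndex Subgroup.index
  rfl

theorem card_le_of_disj [Finite G] (P K : Subgroup G) (hK : K ≤ NP P) (hdisj : K ⊓ P = ⊥) :
    Nat.card K ≤ eN P := by
  rw [← card_QP]
  exact Nat.card_le_card_of_injective _ (toQP_injective P K hK hdisj)

section
variable [Finite G] {p : ℕ} [Fact p.Prime] {P : Subgroup G} {n : ℕ}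

theorem coprime_eN (B : Basic p P n) : Nat.Coprime (eN P) p := by
  have hp : p.Prime := Fact.out
  rw [Nat.coprime_comm, hp.coprime_iff_not_dvd]
  intro hd
  have h1 : p ∣ p - 1 := hd.trans B.eN_dvd
  have h5 := B.five_le
  have := Nat.le_of_dvd (by omega) h1
  omega

theorem P_le_NP (P : Subgroup G) : P ≤ NP P := Subgroup.le_normalizer

end

theorem cj_le_NP (P : Subgroup G) (y : G) (hy : y ∈ NP P) (E : Subgroup G) (hE : E ≤ NP P) :
    cj y E ≤ NP P := by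
  intro x hx
  unfold cj at hx
  rw [Subgroup.mem_map] at hx
  obtain ⟨c, hc, rfl⟩ := hx
  simp only [MulEquiv.coe_toMonoidHom, MulAut.conj_apply]
  exact (NP P).mul_mem ((NP P).mul_mem hy (hE hc)) ((NP P).inv_mem hy)

theorem card_cj (y : G) (E : Subgroup G) : Nat.card ↥(cj y E) = Nat.card ↥E := by
  unfold cj
  exact Nat.card_congr
    ((MulAut.conj y).subgroupMap E).symm.toEquiv


end Cfsg.Agent.Helper18.S0996CMP

namespace Cfsg.Agent.S0996P

open Cfsg Cfsg.Agent.Helper24 Cfsg.Agent.Helper1.W2p Cfsg.Agent.Helper18.S0996CMP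

universe u

variable {G : Type u} [Group G]

section L5b
variable [Finite G] {p : ℕ} [Fact p.Prime] {P : Subgroup G} {n : ℕ}

/-- CMP1 -/
theorem compl_basic (B : Basic p P n) (E : Subgroup G) (hE : E ≤ NP P)
    (hc : Nat.card E = eN P) :
    E ⊓ P = ⊥ ∧ IsCyclic E ∧ ∀ h ∈ NP P, ∃ c ∈ E, ∃ y ∈ P, h = c * y := by
  have hdisj : E ⊓ P = ⊥ := by
    apply disjoint_iff.mp
    apply Subgroup.disjoint_of_coprime_natCard
    rw [hc, B.card_P]
    exact coprime_eN B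
  have hinj := toQP_injective P E hE hdisj
  refine ⟨hdisj, ?_, ?_⟩
  · have := B.cyc
    exact isCyclic_of_injective (toQP P E hE) hinj
  · intro h hh
    have hbij : Function.Bijective (toQP P E hE) := by
      rw [Nat.bijective_iff_injective_and_card]
      exact ⟨hinj, by rw [hc, card_QP]⟩
    obtain ⟨c, hc'⟩ := hbij.2 (QuotientGroup.mk (⟨h, hh⟩ : ↥(NP P)))
    refine ⟨c, c.2, (c : G)⁻¹ * h, ?_, by group⟩
    unfold toQP at hc'
    simp only [MonoidHom.coe_comp, Function.comp_apply, QuotientGroup.mk'_apply] at hc'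
    rw [QuotientGroup.eq] at hc'
    rw [Subgroup.mem_subgroupOf] at hc'
    exact hc'

/-- CMP2 -/
theorem compl_ti (B : Basic p P n) (E₁ E₂ : Subgroup G) (h₁ : E₁ ≤ NP P) (h₂ : E₂ ≤ NP P)
    (c₁ : Nat.card E₁ = eN P) (c₂ : Nat.card E₂ = eN P) (h : G) (hh₁ : h ∈ E₁) (hh₂ : h ∈ E₂)
    (hne : h ≠ 1) : E₁ = E₂ := by
  obtain ⟨d₁, cy₁, -⟩ := compl_basic B E₁ h₁ c₁
  obtain ⟨d₂, cy₂, -⟩ := compl_basic B E₂ h₂ c₂
  have hN : h ∈ NP P := h₁ hh₁
  have hP : h ∉ P := by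
    intro hP
    have : h ∈ E₁ ⊓ P := ⟨hh₁, hP⟩
    rw [d₁, Subgroup.mem_bot] at this
    exact hne this
  set C : Subgroup G := Subgroup.centralizer ({h} : Set G) ⊓ NP P with hC
  have hCN : C ≤ NP P := inf_le_right
  have hCdisj : C ⊓ P = ⊥ := by
    rw [eq_bot_iff]
    intro y hy
    rw [Subgroup.mem_bot]
    obtain ⟨⟨hy1, -⟩, hyP⟩ := hy
    have hy1 : y ∈ Subgroup.centralizer ({h} : Set G) := hy1
    rw [Subgroup.mem_centralizer_iff] at hy1
    have := hy1 h rfl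
    exact B.cent_P h hN hP y hyP this
  have hCcard : Nat.card C ≤ eN P := card_le_of_disj P C hCN hCdisj
  have key : ∀ (E : Subgroup G), E ≤ NP P → IsCyclic E → h ∈ E → E ≤ C := by
    intro E hEN hcy hhE c hcE
    refine ⟨?_, hEN hcE⟩
    show c ∈ Subgroup.centralizer ({h} : Set G)
    rw [Subgroup.mem_centralizer_iff]
    intro x hx
    rw [Set.mem_singleton_iff] at hx
    subst hx
    let _ := IsCyclic.commGroup (α := ↥E)
    have := mul_comm (⟨x, hhE⟩ : ↥E) ⟨c, hcE⟩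
    exact congrArg Subtype.val this
  have e₁ : E₁ = C := Subgroup.eq_of_le_of_card_ge (key E₁ h₁ cy₁ hh₁) (by rw [c₁]; exact hCcard)
  have e₂ : E₂ = C := Subgroup.eq_of_le_of_card_ge (key E₂ h₂ cy₂ hh₂) (by rw [c₂]; exact hCcard)
  rw [e₁, ← e₂]

/-- CMP3 -/
theorem compl_conj (B : Basic p P n) (E₁ E₂ : Subgroup G) (h₁ : E₁ ≤ NP P) (h₂ : E₂ ≤ NP P)
    (c₁ : Nat.card E₁ = eN P) (c₂ : Nat.card E₂ = eN P) : ∃ y ∈ P, E₂ = cj y E₁ := by
  obtain ⟨d₁, -, dec₁⟩ := compl_basic B E₁ h₁ c₁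
  obtain ⟨d₂, -, -⟩ := compl_basic B E₂ h₂ c₂
  -- a non-trivial element of E₂
  have hnt : ∃ h ∈ E₂, h ≠ 1 := by
    by_contra hcon
    push Not at hcon
    have : E₂ = ⊥ := by
      rw [eq_bot_iff]
      intro x hx
      rw [Subgroup.mem_bot]
      exact hcon x hx
    rw [this, Subgroup.card_bot] at c₂
    have := B.two_le_eN
    omega
  obtain ⟨h, hhE, hne⟩ := hnt
  have hP : h ∉ P := by
    intro hP
    have : h ∈ E₂ ⊓ P := ⟨hhE, hP⟩
    rw [d₂, Subgroup.mem_bot] at this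
    exact hne this
  obtain ⟨c, hcE, y, hyP, hcy⟩ := dec₁ h (h₂ hhE)
  have hcP : c ∉ P := by
    intro hcP
    apply hP
    rw [hcy]
    exact P.mul_mem hcP hyP
  obtain ⟨u, huP, hu⟩ := B.conj_mul c (h₁ hcE) hcP y hyP
  refine ⟨u, huP, ?_⟩
  have huN : u ∈ NP P := P_le_NP P huP
  apply compl_ti B E₂ (cj u E₁) h₂ (cj_le_NP P u huN E₁ h₁) c₂
    (by rw [card_cj, c₁]) h hhE ?_ hne
  unfold cj
  rw [Subgroup.mem_map]
  refine ⟨c, hcE, ?_⟩
  simp only [MulEquiv.coe_toMonoidHom, MulAut.conj_apply]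
  rw [hu, hcy]

end L5b

end Cfsg.Agent.S0996P
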