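import Mathlib
import Cfsg.Agent.Helper27.S0996Defs
import Cfsg.Agent.Helper27.S0996Split
import Cfsg.Agent.Helper15.O7920n

set_option autoImplicit false

/-! # S0996 piece COUNT: the class multiplication formula at the involution `x₀` -/

namespace Cfsg.Agent.S0996P

open Cfsg Cfsg.Agent.Helper24 Cfsg.Agent.Helper1.W2p

universe u

variable {G : Type u} [Group G]

section L6
variable [Fintype G] [Fintype (IrrCharacter G)] {p : ℕ} [Fact p.Prime] {P : Subgroup G} {n : ℕ}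
  [Fintype (Lin P)]

/-- COUNT -/
theorem invol_pairs_count (B : Basic p P n) (D : BrauerData p P) (T : Dict p P n D)
    (S : Struc p P n D)
    (hε : D.ε = -1) (ht : Nat.card D.Y = n + 1)
    (hY : ∀ ψ ∈ D.Y, D.a ψ = 1 ∧ irrDeg ψ + eN P = p) (x₀ : G) (ho : orderOf x₀ = 2)
    (hC : Nat.card ↥(Subgroup.centralizer ({x₀} : Set G)) = eN P * (n + 1))
    (c : IrrCharacter G → ℤ) (s₀ : ℤ) (hc : ∀ χ : IrrCharacter G, (χ : G → ℂ) x₀ = (c χ : ℂ))
    (hc1 : c (trivIrr G) = 1)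
    (hcm : ∀ χ ∈ D.X, D.δ χ = -1 → c χ = 0) (hs₀ : s₀ = 1 ∨ s₀ = -1)
    (hcY : ∀ ψ ∈ D.Y, c ψ = s₀)
    (hcO : ∀ χ : IrrCharacter G, χ ∉ D.X → χ ∉ D.Y → c χ = (mult P (1 : Lin P) χ : ℤ))
    (hsq : ∀ χ ∈ Xp D, c χ ^ 2 = ((n : ℤ) + 1) ^ 2)
    (hsum : (1 + n * p : ℤ) * ∑ χ ∈ Xp D, c χ =
      -(1 + ((n : ℤ) + 1) * ((p : ℤ) - eN P) * s₀ + p * n)) :
    Nat.card {s : G // IsConj x₀ s ∧ IsConj x₀ (s⁻¹ * x₀)} = eN P * n := by
  classical
  have hp5 := B.five_le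
  have he2 := B.two_le_eN
  have hn1 := B.one_le_n
  -- the complex parameters
  set pc : ℂ := (p : ℂ) with hpc
  set ec : ℂ := (eN P : ℂ) with hec
  set nc : ℂ := (n : ℂ) with hnc
  set sc : ℂ := (s₀ : ℂ) with hsc
  set SX : ℂ := ∑ χ ∈ Xp D, (c χ : ℂ) with hSX
  -- R1
  have hR1 : (n + 1) * eN P = p - 1 := by rw [← ht]; exact D.card_Y
  have hR1c : (nc + 1) * ec = pc - 1 := by
    have h0 : (n + 1) * eN P + 1 = p := by omega
    have h1 := congrArg (Nat.cast : ℕ → ℂ) h0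
    push_cast at h1
    linear_combination h1
  have hpeq : pc = (nc + 1) * ec + 1 := by linear_combination -hR1c
  have hp0 : pc ≠ 0 := by
    rw [hpc]; exact_mod_cast (by omega : p ≠ 0)
  have he0 : ec ≠ 0 := by
    rw [hec]; exact_mod_cast (by omega : eN P ≠ 0)
  have hn0 : nc + 1 ≠ 0 := by
    rw [hnc]; exact_mod_cast (by omega : n + 1 ≠ 0)
  -- d = p - e = n e + 1
  have hdne : nc * ec + 1 ≠ 0 := by
    rw [hnc, hec]; exact_mod_cast (by positivity : n * eN P + 1 ≠ 0)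
  have h1np : 1 + nc * pc = (nc + 1) * (nc * ec + 1) := by
    rw [hpeq]; ring
  have h1np0 : 1 + nc * pc ≠ 0 := by
    rw [h1np]; exact mul_ne_zero hn0 hdne
  -- s₀³ = s₀
  have hs3 : sc ^ 3 = sc := by
    rcases hs₀ with h | h <;> rw [hsc, h] <;> norm_num
  -- SX
  have hsumC : (1 + nc * pc) * SX = -(1 + (nc + 1) * (pc - ec) * sc + pc * nc) := by
    have h1 := congrArg (Int.cast : ℤ → ℂ) hsum
    push_cast at h1
    exact h1
  have hSXv : SX = -(1 + sc) := by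
    apply mul_left_cancel₀ h1np0
    rw [hsumC, hpeq]
    ring
  -- the degree of the characters in Y
  have hdegY : ∀ ψ ∈ D.Y, (irrDeg ψ : ℂ) = nc * ec + 1 := by
    intro ψ hψ
    have h0 := (hY ψ hψ).2
    have h1 := congrArg (Nat.cast : ℕ → ℂ) h0
    push_cast at h1
    have : (irrDeg ψ : ℂ) = pc - ec := by linear_combination h1
    rw [this, hpeq]; ring
  -- the sum over the `other` characters
  have hother : ∑ χ ∈ OF D, mult P (1 : Lin P) χ ^ 2 = n := by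
    have h0 := S.pi_norm
    rw [sum_split D] at h0
    have hA : mult P (1 : Lin P) (trivIrr G) ^ 2 = 1 := by rw [T.triv_one]; rfl
    have hB : ∑ χ ∈ Xp D, mult P (1 : Lin P) χ ^ 2 = 0 := by
      apply Finset.sum_eq_zero
      intro χ hχ
      rw [mem_Xp] at hχ
      rw [S.pi_zero χ (Or.inl ⟨hχ.1, hχ.2.2⟩)]; rfl
    have hCm : ∑ χ ∈ Xm D, mult P (1 : Lin P) χ ^ 2 = 0 := by
      apply Finset.sum_eq_zero
      intro χ hχ
      rw [mem_Xm] at hχ
      have hne : χ ≠ trivIrr G := by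
        rintro rfl
        rw [D.δ_triv] at hχ
        omega
      rw [S.pi_zero χ (Or.inl ⟨hχ.1, hne⟩)]; rfl
    have hDy : ∑ χ ∈ YF D, mult P (1 : Lin P) χ ^ 2 = 0 := by
      apply Finset.sum_eq_zero
      intro χ hχ
      rw [mem_YF] at hχ
      rw [S.pi_zero χ (Or.inr hχ)]; rfl
    rw [hA, hB, hCm, hDy] at h0
    omega
  -- the class multiplication formula
  have hform := Cfsg.Agent.Helper15.O7920.card_factorizations_gen x₀ x₀ x₀
  have hterm : ∀ ψ : IrrCharacter G, (ψ : G → ℂ) x₀ * (ψ : G → ℂ) x₀ *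
      (starRingEnd ℂ) ((ψ : G → ℂ) x₀) / (ψ : G → ℂ) 1 = (c ψ : ℂ) ^ 3 / (irrDeg ψ : ℂ) := by
    intro ψ
    rw [hc ψ, irrDeg_spec, map_intCast]
    ring
  rw [Finset.sum_congr rfl (fun ψ _ => hterm ψ), sum_split D] at hform
  -- the five parts
  have hA : ((c (trivIrr G) : ℤ) : ℂ) ^ 3 / (irrDeg (trivIrr G) : ℂ) = 1 := by
    have : irrDeg (trivIrr G) = 1 := (irrDeg_eq_one_iff _).2 (trivIrr_apply 1)
    rw [hc1, this]; norm_num
  have hB : ∑ χ ∈ Xp D, ((c χ : ℤ) : ℂ) ^ 3 / (irrDeg χ : ℂ) =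
      (nc + 1) ^ 2 / (1 + nc * pc) * SX := by
    rw [hSX, Finset.mul_sum]
    refine Finset.sum_congr rfl ?_
    intro χ hχ
    have hχ' := (mem_Xp D χ).1 hχ
    have hdeg : (irrDeg χ : ℂ) = 1 + nc * pc := by
      rw [S.degXp χ hχ'.1 hχ'.2.1 hχ'.2.2]; push_cast; rfl
    have hsqc : ((c χ : ℤ) : ℂ) ^ 2 = (nc + 1) ^ 2 := by
      have h1 := congrArg (Int.cast : ℤ → ℂ) (hsq χ hχ)
      push_cast at h1
      exact h1
    rw [hdeg, pow_succ, hsqc]
    ring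
  have hCm : ∑ χ ∈ Xm D, ((c χ : ℤ) : ℂ) ^ 3 / (irrDeg χ : ℂ) = 0 := by
    apply Finset.sum_eq_zero
    intro χ hχ
    rw [mem_Xm] at hχ
    rw [hcm χ hχ.1 hχ.2]; simp
  have hDy : ∑ χ ∈ YF D, ((c χ : ℤ) : ℂ) ^ 3 / (irrDeg χ : ℂ) =
      (nc + 1) * (sc / (nc * ec + 1)) := by
    have h0 : ∀ χ ∈ YF D, ((c χ : ℤ) : ℂ) ^ 3 / (irrDeg χ : ℂ) = sc / (nc * ec + 1) := by
      intro χ hχ
      rw [mem_YF] at hχ
      rw [hcY χ hχ, hdegY χ hχ, hs3]
    rw [Finset.sum_congr rfl h0, Finset.sum_const, card_YF, ht, nsmul_eq_mul]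
    push_cast
    rfl
  have hE : ∑ χ ∈ OF D, ((c χ : ℤ) : ℂ) ^ 3 / (irrDeg χ : ℂ) = nc / pc := by
    have h0 : ∀ χ ∈ OF D, ((c χ : ℤ) : ℂ) ^ 3 / (irrDeg χ : ℂ) =
        ((mult P (1 : Lin P) χ ^ 2 : ℕ) : ℂ) / pc := by
      intro χ hχ
      rw [mem_OF] at hχ
      have hdeg := S.other χ hχ.1 hχ.2
      have hm0 : mult P (1 : Lin P) χ ≠ 0 := by
        intro h
        have := irrDeg_pos χ
        rw [hdeg, h] at this
        omega
      have hm0c : ((mult P (1 : Lin P) χ : ℕ) : ℂ) ≠ 0 := by exact_mod_cast hm0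
      rw [hcO χ hχ.1 hχ.2, hdeg]
      push_cast
      rw [hpc]
      field_simp
    rw [Finset.sum_congr rfl h0, ← Finset.sum_div, ← Nat.cast_sum, hother]
  rw [hA, hB, hCm, hDy, hE, hSXv] at hform
  -- the index of the centralizer
  have hidx : ((Subgroup.centralizer ({x₀} : Set G)).index : ℂ) = pc * (nc * ec + 1) := by
    have h0 := Subgroup.card_mul_index (Subgroup.centralizer ({x₀} : Set G))
    rw [hC, B.card_G] at h0
    have h1 := congrArg (Nat.cast : ℕ → ℂ) h0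
    push_cast at h1
    apply mul_left_cancel₀ (mul_ne_zero he0 hn0)
    rw [h1]
    have : ((p : ℂ)) = pc := rfl
    rw [this, h1np]
    ring
  have hG : (Nat.card G : ℂ) = pc * ec * ((nc + 1) * (nc * ec + 1)) := by
    rw [B.card_G]
    push_cast
    rw [← h1np]
  rw [hidx, hG, h1np] at hform
  -- final algebra
  have hfin : (Nat.card {s : G // IsConj x₀ s ∧ IsConj x₀ (s⁻¹ * x₀)} : ℂ) = ec * nc := by
    apply mul_right_cancel₀ (mul_ne_zero (mul_ne_zero hp0 he0) (mul_ne_zero hn0 hdne))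
    have hp0' : (nc + 1) * ec + 1 ≠ 0 := by rw [← hpeq]; exact hp0
    rw [hform, hpeq]
    field_simp
    ring
  rw [hec, hnc] at hfin
  exact_mod_cast hfin

end L6

end Cfsg.Agent.S0996P
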