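import Mathlib
import Cfsg.Agent.Helper27.S0996Defs
import Cfsg.Agent.Helper8.Ind
import Cfsg.Agent.Helper18.S0996CMP
import Cfsg.Agent.Helper18.S0996RK
import Cfsg.Agent.Helper18.S0996C2A

set_option autoImplicit false

/-! # S0996 piece EVEN: the norm of `Λ_{φ₀}` for `φ₀` of order two is `n + 1` (Mackey by hand) -/

namespace Cfsg.Agent.Helper18.S0996EVEN

open Cfsg Cfsg.Agent.Helper24 Cfsg.Agent.Helper1.W2p Cfsg.Agent.S0996P
  Cfsg.Agent.Helper18.S0996CMP Cfsg.Agent.Helper18.S0996RK Cfsg.Agent.Helper8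

open scoped ComplexConjugate

universe u

variable {G : Type u} [Group G]

section
variable {P : Subgroup G}

theorem lam_sq (φ₀ : Lin P) (h2 : φ₀ * φ₀ = 1) (k : ↥(NP P)) :
    lam P φ₀ k * lam P φ₀ k = 1 := by
  unfold lam
  have := DFunLike.congr_fun h2 (QuotientGroup.mk k)
  rw [MonoidHom.mul_apply, MonoidHom.one_apply] at this
  have h3 := congrArg (fun u : ℂˣ => (u : ℂ)) this
  simpa using h3

theorem lam_pm (φ₀ : Lin P) (h2 : φ₀ * φ₀ = 1) (k : ↥(NP P)) :
    lam P φ₀ k = 1 ∨ lam P φ₀ k = -1 := mul_self_eq_one_iff.mp (lam_sq φ₀ h2 k)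

theorem lam_conj (φ₀ : Lin P) (h2 : φ₀ * φ₀ = 1) (k : ↥(NP P)) :
    conj (lam P φ₀ k) = lam P φ₀ k := by
  rcases lam_pm φ₀ h2 k with h | h <;> rw [h] <;> simp

theorem lam_class (φ : Lin P) (x k : ↥(NP P)) : lam P φ (x⁻¹ * k * x) = lam P φ k := by
  unfold lam
  congr 1
  rw [QuotientGroup.mk_mul, QuotientGroup.mk_mul, QuotientGroup.mk_inv, map_mul, map_mul,
    map_inv]
  rw [mul_comm, ← mul_assoc, mul_inv_cancel, one_mul]

theorem eq_one_of_trivial_on_compl {p n : ℕ} (Q : Perm p P n) (φ : Lin P) (E : Subgroup G)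
    (hE : E ≤ NP P) (hc : Nat.card E = eN P)
    (htriv : ∀ c (hcE : c ∈ E), lam P φ ⟨c, hE hcE⟩ = 1) : φ = 1 := by
  apply MonoidHom.ext
  intro q
  obtain ⟨h, rfl⟩ := QuotientGroup.mk_surjective q
  obtain ⟨c, hcE, y, hyP, hcy⟩ := Q.compl_mul E hE hc h.1 h.2
  have hh : h = ⟨c, hE hcE⟩ * ⟨y, (Subgroup.le_normalizer hyP)⟩ := Subtype.ext hcy
  have hy1 : (QuotientGroup.mk (⟨y, (Subgroup.le_normalizer hyP)⟩ : ↥(NP P)) : QP P) = 1 := by
    rw [QuotientGroup.eq_one_iff, Subgroup.mem_subgroupOf]; exact hyP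
  rw [hh, QuotientGroup.mk_mul, map_mul, hy1, map_one, mul_one, MonoidHom.one_apply]
  have := htriv c hcE
  unfold lam at this
  exact Units.ext this

end

section
variable [Finite G] {p : ℕ} [Fact p.Prime] {P : Subgroup G} {n : ℕ}

/-- for `x ∉ N` and `k ∈ N ∩ x N x⁻¹`: `φ₀(x⁻¹ k x) = φ₀(k)` when `φ₀` has order two. -/
theorem lam_conj_eq (Q : Perm p P n) (φ₀ : Lin P) (h1 : φ₀ ≠ 1)
    (h2 : φ₀ * φ₀ = 1) (x : G) (hx : x ∉ NP P) (k : G) (hk : k ∈ NP P)
    (hk' : x⁻¹ * k * x ∈ NP P) :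
    lam P φ₀ ⟨x⁻¹ * k * x, hk'⟩ = lam P φ₀ ⟨k, hk⟩ := by
  have hE : EE P x ≤ NP P := inf_le_left
  have hcard : Nat.card ↥(EE P x) = eN P := Q.rk x hx
  have hcyc := Q.compl_cyc (EE P x) hE hcard
  obtain ⟨c, hc⟩ := hcyc.exists_generator
  have hconjmem : ∀ y : ↥(EE P x), x⁻¹ * (y : G) * x ∈ NP P :=
    fun y => ((mem_EE_iff P x y).1 y.2).2
  -- a hom on `E` with values `±1` that is non-trivial takes the value `-1` at the generator
  have key : ∀ f : ↥(EE P x) → ℂ, (∀ a b, f (a * b) = f a * f b) → f 1 = 1 →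
      (∀ a, f a * f a = 1) → (∃ a, f a ≠ 1) → f c = -1 := by
    intro f hmul hone hsq hex
    rcases mul_self_eq_one_iff.mp (hsq c) with h | h
    · exfalso
      obtain ⟨a, ha⟩ := hex
      apply ha
      have hpow : ∀ j : ℕ, f (c ^ j) = 1 := by
        intro j
        induction j with
        | zero => rw [pow_zero]; exact hone
        | succ j ih => rw [pow_succ, hmul, ih, h, one_mul]
      have hfin : IsOfFinOrder c := isOfFinOrder_of_finite c
      have : a ∈ Subgroup.zpowers c := hc a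
      rw [← hfin.mem_powers_iff_mem_zpowers] at this
      obtain ⟨j, rfl⟩ := this
      exact hpow j
    · exact h
  -- first function
  have hf1 : lam P φ₀ ⟨c, hE c.2⟩ = -1 := by
    have := key (fun a => lam P φ₀ ⟨a, hE a.2⟩) ?_ ?_ ?_ ?_
    · exact this
    · intro a b
      unfold lam
      rw [← Units.val_mul, ← map_mul]
      rfl
    · unfold lam
      have : (QuotientGroup.mk (⟨((1 : ↥(EE P x)) : G), hE (1 : ↥(EE P x)).2⟩ : ↥(NP P)) : QP P)
          = 1 := rfl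
      rw [this, map_one]; rfl
    · intro a
      exact lam_sq φ₀ h2 _
    · by_contra hcon
      push Not at hcon
      apply h1
      apply eq_one_of_trivial_on_compl Q φ₀ (EE P x) hE hcard
      intro c' hc'
      exact hcon ⟨c', hc'⟩
  -- second function
  have hf2 : lam P φ₀ ⟨x⁻¹ * (c : G) * x, hconjmem c⟩ = -1 := by
    have := key (fun a => lam P φ₀ ⟨x⁻¹ * (a : G) * x, hconjmem a⟩) ?_ ?_ ?_ ?_
    · exact this
    · intro a b
      unfold lam
      rw [← Units.val_mul, ← map_mul, ← QuotientGroup.mk_mul]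
      congr 3
      apply Subtype.ext
      simp only [Subgroup.coe_mul]
      group
    · unfold lam
      have : (QuotientGroup.mk (⟨x⁻¹ * ((1 : ↥(EE P x)) : G) * x, hconjmem 1⟩ : ↥(NP P)) : QP P)
          = 1 := by
        have h0 : (⟨x⁻¹ * ((1 : ↥(EE P x)) : G) * x, hconjmem 1⟩ : ↥(NP P)) = 1 := by
          apply Subtype.ext
          simp
        rw [h0]; rfl
      rw [this, map_one]; rfl
    · intro a
      exact lam_sq φ₀ h2 _
    · by_contra hcon
      push Not at hcon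
      apply h1
      have hE' : cj x⁻¹ (EE P x) ≤ NP P := by
        intro c' hc'
        rw [mem_cj_iff, inv_inv] at hc'
        have := hconjmem ⟨x * c' * x⁻¹, hc'⟩
        have h0 : x⁻¹ * (x * c' * x⁻¹) * x = c' := by group
        simpa [h0] using this
      apply eq_one_of_trivial_on_compl Q φ₀ (cj x⁻¹ (EE P x)) hE' (by rw [card_cj, hcard])
      intro c' hc'
      have hc'' := hc'
      rw [mem_cj_iff, inv_inv] at hc''
      have := hcon ⟨x * c' * x⁻¹, hc''⟩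
      have h0 : x⁻¹ * (x * c' * x⁻¹) * x = c' := by group
      simp only [h0] at this
      exact this
  -- conclusion: all elements are powers of `c`
  have hall : ∀ j : ℕ, lam P φ₀ ⟨x⁻¹ * ((c ^ j : ↥(EE P x)) : G) * x, hconjmem (c ^ j)⟩ =
      lam P φ₀ ⟨((c ^ j : ↥(EE P x)) : G), hE (c ^ j).2⟩ := by
    intro j
    induction j with
    | zero =>
      have e1 : (⟨x⁻¹ * ((c ^ 0 : ↥(EE P x)) : G) * x, hconjmem (c ^ 0)⟩ : ↥(NP P)) = 1 := by
        apply Subtype.ext; simp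
      have e2 : (⟨((c ^ 0 : ↥(EE P x)) : G), hE (c ^ 0).2⟩ : ↥(NP P)) = 1 := by
        apply Subtype.ext; simp
      rw [e1, e2]
    | succ j ih =>
      have e1 : (⟨x⁻¹ * ((c ^ (j + 1) : ↥(EE P x)) : G) * x, hconjmem (c ^ (j + 1))⟩ : ↥(NP P)) =
          ⟨x⁻¹ * ((c ^ j : ↥(EE P x)) : G) * x, hconjmem (c ^ j)⟩ *
            ⟨x⁻¹ * (c : G) * x, hconjmem c⟩ := by
        apply Subtype.ext
        simp only [pow_succ, Subgroup.coe_mul]
        group
      have e2 : (⟨((c ^ (j + 1) : ↥(EE P x)) : G), hE (c ^ (j + 1)).2⟩ : ↥(NP P)) =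
          ⟨((c ^ j : ↥(EE P x)) : G), hE (c ^ j).2⟩ * ⟨(c : G), hE c.2⟩ := by
        apply Subtype.ext
        simp only [pow_succ, Subgroup.coe_mul]
      have hmulN : ∀ a b : ↥(NP P), lam P φ₀ (a * b) = lam P φ₀ a * lam P φ₀ b := by
        intro a b
        unfold lam
        rw [← Units.val_mul, ← map_mul]
        rfl
      rw [e1, e2, hmulN, hmulN, ih, hf1, hf2]
  have hkE : k ∈ EE P x := (mem_EE_iff P x k).2 ⟨hk, hk'⟩
  have hfin : IsOfFinOrder c := isOfFinOrder_of_finite c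
  have hmem : (⟨k, hkE⟩ : ↥(EE P x)) ∈ Subgroup.zpowers c := hc _
  rw [← hfin.mem_powers_iff_mem_zpowers] at hmem
  obtain ⟨j, hj⟩ := hmem
  have hj' : ((c ^ j : ↥(EE P x)) : G) = k := congrArg Subtype.val hj
  have := hall j
  simp only [hj'] at this
  exact this

end

section
variable [Fintype G] {p : ℕ} [Fact p.Prime] {P : Subgroup G} {n : ℕ}

/-- the inner sum `T(x) = Σ_{k ∈ N} φ₀(k) conj φ₀(x⁻¹ k x)` for `x ∈ N`. -/
theorem T_mem [Fintype ↥(NP P)] (B : Basic p P n) (φ₀ : Lin P) (h2 : φ₀ * φ₀ = 1) (x : G)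
    (hx : x ∈ NP P) :
    ∑ k : ↥(NP P), lam P φ₀ k * conj (extendByZero (NP P) (lam P φ₀) (x⁻¹ * (k : G) * x)) =
      ((p * eN P : ℕ) : ℂ) := by
  have h : ∀ k : ↥(NP P),
      lam P φ₀ k * conj (extendByZero (NP P) (lam P φ₀) (x⁻¹ * (k : G) * x)) = 1 := by
    intro k
    have hmem : x⁻¹ * (k : G) * x ∈ NP P :=
      (NP P).mul_mem ((NP P).mul_mem ((NP P).inv_mem hx) k.2) hx
    rw [ebz_mem (NP P) _ hmem]
    have : (⟨x⁻¹ * (k : G) * x, hmem⟩ : ↥(NP P)) = (⟨x, hx⟩ : ↥(NP P))⁻¹ * k * ⟨x, hx⟩ := by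
      apply Subtype.ext; rfl
    rw [this, lam_class, lam_conj φ₀ h2, lam_sq φ₀ h2]
  rw [Finset.sum_congr rfl (fun k _ => h k), Finset.sum_const, Finset.card_univ, nsmul_eq_mul,
    mul_one, ← B.card_NP, Nat.card_eq_fintype_card]

/-- the inner sum for `x ∉ N`. -/
theorem T_not_mem [Fintype ↥(NP P)] (Q : Perm p P n) (φ₀ : Lin P) (h1 : φ₀ ≠ 1)
    (h2 : φ₀ * φ₀ = 1) (x : G) (hx : x ∉ NP P) :
    ∑ k : ↥(NP P), lam P φ₀ k * conj (extendByZero (NP P) (lam P φ₀) (x⁻¹ * (k : G) * x)) =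
      ((eN P : ℕ) : ℂ) := by
  classical
  have h : ∀ k : ↥(NP P),
      lam P φ₀ k * conj (extendByZero (NP P) (lam P φ₀) (x⁻¹ * (k : G) * x)) =
        if x⁻¹ * (k : G) * x ∈ NP P then 1 else 0 := by
    intro k
    by_cases hmem : x⁻¹ * (k : G) * x ∈ NP P
    · rw [if_pos hmem, ebz_mem (NP P) _ hmem, lam_conj φ₀ h2,
        lam_conj_eq Q φ₀ h1 h2 x hx k k.2 hmem]
      exact lam_sq φ₀ h2 _
    · rw [if_neg hmem, ebz_not_mem (NP P) _ hmem, map_zero, mul_zero]
  rw [Finset.sum_congr rfl (fun k _ => h k), Finset.sum_boole]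
  congr 1
  rw [← Q.rk x hx, ← Fintype.card_subtype, Nat.card_eq_fintype_card]
  apply Fintype.card_congr
  exact
    { toFun := fun k => ⟨k.1.1, (mem_EE_iff P x _).2 ⟨k.1.2, k.2⟩⟩
      invFun := fun y => ⟨⟨y.1, ((mem_EE_iff P x _).1 y.2).1⟩, ((mem_EE_iff P x _).1 y.2).2⟩
      left_inv := fun k => rfl
      right_inv := fun y => rfl }

end

end Cfsg.Agent.Helper18.S0996EVEN

namespace Cfsg.Agent.S0996P

open Cfsg Cfsg.Agent.Helper24 Cfsg.Agent.Helper1.W2p Cfsg.Agent.Helper18.S0996CMP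
  Cfsg.Agent.Helper18.S0996RK Cfsg.Agent.Helper18.S0996EVEN Cfsg.Agent.Helper8

open scoped ComplexConjugate

universe u

variable {G : Type u} [Group G]

section L5c
variable [Fintype G] [Fintype (IrrCharacter G)] {p : ℕ} [Fact p.Prime] {P : Subgroup G} {n : ℕ}

/-- EVEN -/
theorem norm_indL_invol (B : Basic p P n) (Q : Perm p P n) (T0 : Dict0 P) (φ₀ : Lin P)
    (h1 : φ₀ ≠ 1) (h2 : φ₀ * φ₀ = 1) :
    ∑ χ : IrrCharacter G, mult P φ₀ χ ^ 2 = n + 1 := by
  classical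
  have hcast : ((∑ χ : IrrCharacter G, mult P φ₀ χ ^ 2 : ℕ) : ℂ) = ((n + 1 : ℕ) : ℂ) := by
    rw [← Cfsg.Agent.Helper18.S0996C2A.norm_eq T0 φ₀]
    have hfr := frobenius_reciprocity (NP P) (lam P φ₀) (indL P φ₀)
      (indFun_isClassFunction (NP P) (lam P φ₀))
    have hind : indL P φ₀ = Cfsg.indFun (NP P) (lam P φ₀) := rfl
    rw [← hind] at hfr
    rw [hfr]
    unfold classInner
    have hterm : ∀ k : ↥(NP P), lam P φ₀ k * conj (indL P φ₀ (k : G)) =
        (Nat.card ↥(NP P) : ℂ)⁻¹ * ∑ x : G,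
          lam P φ₀ k * conj (extendByZero (NP P) (lam P φ₀) (x⁻¹ * (k : G) * x)) := by
      intro k
      rw [hind, indFun_def, map_mul, map_inv₀, Complex.conj_natCast, map_sum, Finset.mul_sum,
        Finset.mul_sum, Finset.mul_sum]
      refine Finset.sum_congr rfl ?_
      intro x _
      ring
    rw [Finset.sum_congr rfl (fun k _ => hterm k), ← Finset.mul_sum, Finset.sum_comm]
    have hT : ∀ x : G,
        ∑ k : ↥(NP P), lam P φ₀ k * conj (extendByZero (NP P) (lam P φ₀) (x⁻¹ * (k : G) * x)) =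
          ((eN P : ℕ) : ℂ) + if x ∈ NP P then ((p * eN P : ℕ) : ℂ) - ((eN P : ℕ) : ℂ) else 0 := by
      intro x
      by_cases hx : x ∈ NP P
      · rw [if_pos hx, T_mem B φ₀ h2 x hx]; ring
      · rw [if_neg hx, T_not_mem Q φ₀ h1 h2 x hx]; ring
    rw [Finset.sum_congr rfl (fun x _ => hT x), Finset.sum_add_distrib, Finset.sum_const,
      Finset.card_univ, ← Finset.sum_filter, Finset.sum_const, nsmul_eq_mul, nsmul_eq_mul]
    have hcN : (Finset.univ.filter (fun x : G => x ∈ NP P)).card = p * eN P := by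
      rw [← B.card_NP, Nat.card_eq_fintype_card, Fintype.card_subtype]
    have hcG : Fintype.card G = p * eN P * (1 + n * p) := by
      rw [← B.card_G, Nat.card_eq_fintype_card]
    rw [hcN, hcG, B.card_NP]
    have hp0 : (p : ℂ) ≠ 0 := by
      have := B.five_le
      exact_mod_cast (by omega : p ≠ 0)
    have he0 : (eN P : ℂ) ≠ 0 := by
      have := B.two_le_eN
      exact_mod_cast (by omega : eN P ≠ 0)
    push_cast
    field_simp
    ring
  exact_mod_cast hcast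

end L5c

end Cfsg.Agent.S0996P
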