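import Mathlib
import Cfsg.Prelude.Def_Characters
import Cfsg.Prelude.Def_Blocks
import Cfsg.Agent.Helper24.Abelian
import Cfsg.Agent.Helper24.Linear
import Cfsg.Agent.Helper5.LinChar
import Cfsg.Agent.Helper8.D1Base
import Cfsg.Agent.Helper8.D1Conj
import Cfsg.Agent.Helper8.W2pT1a
import Cfsg.Agent.Helper11.D1QL
import Cfsg.Agent.Helper18.D1QO
import Cfsg.Agent.Helper20.S4705BLKDefs
import Cfsg.Agent.Helper26.S4705CCH

/-!
# S4705 piece BLK, sub-piece BLKF1: Fourier inversion on `C_G(P) = P × Z(G)`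
-/

set_option autoImplicit false

namespace Cfsg.Agent.Helper18.S4705BLKF1

open Cfsg Cfsg.Agent.Helper24 Cfsg.Agent.Helper8.D1 Cfsg.Agent.Helper8.W2p Cfsg.Agent.S4705P
open scoped ComplexConjugate

universe u

variable {G : Type u} [Group G] [Finite G] {p : ℕ} [Fact p.Prime] (P : Sylow p G)

local notation "CP" => Subgroup.centralizer ((P : Subgroup G) : Set G)

omit [Finite G] in
/-- `P ∩ Z(G) = 1` -/
theorem inter_trivial (hP : Nat.card P = p)
    (hZreg : ∀ z ∈ Subgroup.center G, ¬ p ∣ orderOf z)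
    {y : G} (hy : y ∈ (P : Subgroup G)) (hz : y ∈ Subgroup.center G) : y = 1 := by
  have h1 : y ^ p = 1 := by
    have h : (⟨y, hy⟩ : (P : Subgroup G)) ^ Nat.card (P : Subgroup G) = 1 := pow_card_eq_one'
    have hP' : Nat.card (P : Subgroup G) = p := hP
    rw [hP'] at h
    exact congrArg Subtype.val h
  have h2 : orderOf y ∣ p := orderOf_dvd_of_pow_eq_one h1
  rcases (Nat.dvd_prime (Fact.out : p.Prime)).1 h2 with h | h
  · exact orderOf_eq_one_iff.1 h
  · exact absurd (h ▸ dvd_refl _) (hZreg y hz)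

/-- `P` as a subset of the centralizer -/
def iP (hP : Nat.card P = p) (y : (P : Subgroup G)) : CP :=
  ⟨(y : G), Cfsg.Agent.Helper1.D1PA.le_centralizer P hP y.2⟩

/-- `Z(G)` as a subset of the centralizer -/
def iZ (z : Subgroup.center G) : CP :=
  ⟨(z : G), Subgroup.center_le_centralizer _ z.2⟩

/-- `P × Z(G) ≃ C_G(P)` -/
noncomputable def prodEquiv (hP : Nat.card P = p)
    (hC : CP = (P : Subgroup G) ⊔ Subgroup.center G)
    (hZreg : ∀ z ∈ Subgroup.center G, ¬ p ∣ orderOf z) :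
    ↥(P : Subgroup G) × ↥(Subgroup.center G) ≃ CP :=
  Equiv.ofBijective (fun yz => iP P hP yz.1 * iZ P yz.2) (by
    constructor
    · rintro ⟨y, z⟩ ⟨y', z'⟩ h
      have h' : (y : G) * z = y' * z' := congrArg Subtype.val h
      have h1 : (y' : G)⁻¹ * y = z' * (z : G)⁻¹ := by
        rw [inv_mul_eq_iff_eq_mul, ← mul_assoc, ← h', mul_inv_cancel_right]
      have h2 : (y' : G)⁻¹ * y = 1 :=
        inter_trivial P hP hZreg (mul_mem (inv_mem y'.2) y.2)
          (h1 ▸ mul_mem z'.2 (inv_mem z.2))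
      have h3 : (y : G) = y' := by
        rw [inv_mul_eq_one] at h2
        exact h2.symm
      have h4 : (z : G) = z' := by
        rw [h3] at h'
        exact mul_left_cancel h'
      exact Prod.ext (Subtype.ext h3) (Subtype.ext h4)
    · rintro ⟨c, hc⟩
      have hc' : c ∈ (P : Subgroup G) ⊔ Subgroup.center G := hC ▸ hc
      obtain ⟨y, hy, z, hz, hyz⟩ := Subgroup.mem_sup_of_normal_right.1 hc'
      exact ⟨(⟨y, hy⟩, ⟨z, hz⟩), Subtype.ext hyz⟩)

omit [Finite G] in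
theorem prodEquiv_apply (hP : Nat.card P = p)
    (hC : CP = (P : Subgroup G) ⊔ Subgroup.center G)
    (hZreg : ∀ z ∈ Subgroup.center G, ¬ p ∣ orderOf z)
    (y : (P : Subgroup G)) (z : Subgroup.center G) :
    prodEquiv P hP hC hZreg (y, z) = iP P hP y * iZ P z := rfl

omit [Finite G] [Fact p.Prime] in
/-- a `p`-linear function is trivial on `Z(G)` -/
theorem pLin_iZ (hZreg : ∀ z ∈ Subgroup.center G, ¬ p ∣ orderOf z)
    {μ : CP → ℂ} (hμ : IsPLin p μ) (z : Subgroup.center G) : μ (iZ P z) = 1 := by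
  apply hμ.reg
  have h : orderOf (iZ P z) = orderOf (z : G) := by
    rw [← Subgroup.orderOf_coe]
    rfl
  rw [h]
  exact hZreg z z.2

omit [Finite G] [Fact p.Prime] in
/-- a linear character is multiplicative -/
theorem theta_mul (θ : IrrCharacter CP) (hθ1 : irrDeg θ = 1) (a b : CP) :
    (θ : CP → ℂ) (a * b) = (θ : CP → ℂ) a * (θ : CP → ℂ) b :=
  Cfsg.Agent.Helper5.linChar_mul (IsIrrCharacter.isCharacter θ.2)
    ((irrDeg_eq_one_iff θ).1 hθ1) a b

omit [Fact p.Prime] in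
theorem theta_mul_conj (θ : IrrCharacter CP) (hθ1 : irrDeg θ = 1) (a : CP) :
    (θ : CP → ℂ) a * conj ((θ : CP → ℂ) a) = 1 := by
  have h := norm_monoidHom_eq_one (Cfsg.Agent.Helper5.linCharHom (IsIrrCharacter.isCharacter θ.2)
    ((irrDeg_eq_one_iff θ).1 hθ1)) a
  have h2 : ‖(θ : CP → ℂ) a‖ = 1 := h
  rw [Complex.mul_conj, Complex.normSq_eq_norm_sq, h2]
  norm_num

/-- the values of `χ` on `P Z(G)` -/
theorem chi_mul (hP : Nat.card P = p) (θ : IrrCharacter CP) (χ : IrrCharacter G)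
    (hover : ∀ z : CP, (z : G) ∈ Subgroup.center G →
      (χ : G → ℂ) z = (θ : CP → ℂ) z * (χ : G → ℂ) 1)
    (y : (P : Subgroup G)) (z : Subgroup.center G) :
    (χ : G → ℂ) ((iP P hP y * iZ P z : CP) : G) = (θ : CP → ℂ) (iZ P z) * (χ : G → ℂ) y := by
  have h1 := central_mul χ (z : G) z.2 (y : G)
  have h2 := hover (iZ P z) z.2
  have h3 : ((iP P hP y * iZ P z : CP) : G) = (z : G) * (y : G) :=
    (Subgroup.mem_center_iff.mp z.2 (y : G))
  have h4 : ((iZ P z : CP) : G) = (z : G) := rfl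
  rw [h4] at h2
  rw [h3]
  have hne : (χ : G → ℂ) 1 ≠ 0 := by
    rw [irrDeg_spec]
    exact_mod_cast (irrDeg_pos χ).ne'
  apply mul_right_cancel₀ hne
  rw [h1, h2]
  ring

/-- `⟨χ|_C, μθ⟩ = (1/p) Σ_{y ∈ P} χ(y) conj μ(y)` -/
theorem mult_mul_eq (hP : Nat.card P = p)
    (hC : CP = (P : Subgroup G) ⊔ Subgroup.center G)
    (hZreg : ∀ z ∈ Subgroup.center G, ¬ p ∣ orderOf z)
    (θ : IrrCharacter CP) (hθ1 : irrDeg θ = 1)
    (hθP : ∀ x : CP, (x : G) ∈ (P : Subgroup G) → (θ : CP → ℂ) x = (θ : CP → ℂ) 1)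
    (χ : IrrCharacter G)
    (hover : ∀ z : CP, (z : G) ∈ Subgroup.center G →
      (χ : G → ℂ) z = (θ : CP → ℂ) z * (χ : G → ℂ) 1)
    {μ : CP → ℂ} (hμ : IsPLin p μ) [Fintype (P : Subgroup G)] :
    mult CP (fun c => μ c * (θ : CP → ℂ) c) (χ : G → ℂ) =
      (p : ℂ)⁻¹ * ∑ y : (P : Subgroup G), (χ : G → ℂ) y * conj (μ (iP P hP y)) := by
  classical
  let _ : Fintype CP := Fintype.ofFinite _
  let _ : Fintype (Subgroup.center G) := Fintype.ofFinite _
  have hθone : (θ : CP → ℂ) 1 = 1 := (irrDeg_eq_one_iff θ).1 hθ1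
  have hp0 : (p : ℂ) ≠ 0 := by exact_mod_cast (Fact.out : p.Prime).ne_zero
  have hZ0 : (Nat.card (Subgroup.center G) : ℂ) ≠ 0 := by
    exact_mod_cast Nat.card_pos.ne'
  rw [mult_eq]
  unfold classInner
  have hcard : Nat.card CP = p * Nat.card (Subgroup.center G) := by
    rw [← Nat.card_congr (prodEquiv P hP hC hZreg), Nat.card_prod]
    have hP' : Nat.card (P : Subgroup G) = p := hP
    rw [hP']
  rw [hcard]
  have hsum : ∑ c : CP, (χ : G → ℂ) c * conj (μ c * (θ : CP → ℂ) c) =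
      (Nat.card (Subgroup.center G) : ℂ) *
        ∑ y : (P : Subgroup G), (χ : G → ℂ) y * conj (μ (iP P hP y)) := by
    rw [← Equiv.sum_comp (prodEquiv P hP hC hZreg), Fintype.sum_prod_type]
    have hterm : ∀ (y : (P : Subgroup G)) (z : Subgroup.center G),
        (χ : G → ℂ) ((prodEquiv P hP hC hZreg (y, z) : CP) : G) *
          conj (μ (prodEquiv P hP hC hZreg (y, z)) *
            (θ : CP → ℂ) (prodEquiv P hP hC hZreg (y, z))) =
        (χ : G → ℂ) y * conj (μ (iP P hP y)) := by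
      intro y z
      rw [prodEquiv_apply, chi_mul P hP θ χ hover, hμ.mul, pLin_iZ P hZreg hμ, mul_one,
        theta_mul P θ hθ1, hθP (iP P hP y) y.2, hθone, one_mul, map_mul]
      have := theta_mul_conj P θ hθ1 (iZ P z)
      calc (θ : CP → ℂ) (iZ P z) * (χ : G → ℂ) y *
            (conj (μ (iP P hP y)) * conj ((θ : CP → ℂ) (iZ P z)))
          = ((θ : CP → ℂ) (iZ P z) * conj ((θ : CP → ℂ) (iZ P z))) *
              ((χ : G → ℂ) y * conj (μ (iP P hP y))) := by ring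
        _ = (χ : G → ℂ) y * conj (μ (iP P hP y)) := by rw [this, one_mul]
    rw [Finset.sum_congr rfl (fun y _ => Finset.sum_congr rfl (fun z _ => hterm y z))]
    simp only [Finset.sum_const, Finset.card_univ, nsmul_eq_mul]
    rw [← Finset.mul_sum, Nat.card_eq_fintype_card]
  rw [hsum]
  push_cast
  field_simp

/-- column orthogonality for the `p`-linear functions at an element of `P ∖ 1` -/
theorem sum_PL_apply' (hP : Nat.card P = p) [Fintype (PL P)]
    (u : CP) (huP : (u : G) ∈ (P : Subgroup G)) (hu : u ≠ 1) : ∑ μ : PL P, μ.1 u = 0 := by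
  obtain ⟨μ₀, hμ₀⟩ := exists_nt P hP
  obtain ⟨hZ, hZc, hZi⟩ := Cfsg.Agent.Helper18.D1QO.subgroupOf_facts P hP
  have ha : μ₀.1 u ≠ 1 := Cfsg.Agent.Helper11.D1QL.pLin_apply_ne_one _ hZ hZc hZi hμ₀.1 hμ₀.2
    (Subgroup.mem_subgroupOf.mpr huP) hu
  have h1 : ∑ μ : PL P, μ.1 u = μ₀.1 u * ∑ μ : PL P, μ.1 u := by
    rw [Finset.mul_sum]
    exact (Fintype.sum_equiv (mulPL P μ₀) (fun ν => μ₀.1 u * ν.1 u) (fun ν => ν.1 u)
      (fun ν => rfl)).symm
  have h2 : (1 - μ₀.1 u) * ∑ μ : PL P, μ.1 u = 0 := by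
    rw [sub_mul, one_mul, ← h1, sub_self]
  rcases mul_eq_zero.1 h2 with h3 | h3
  · exact absurd (sub_eq_zero.1 h3).symm ha
  · exact h3

/-- the main computation -/
theorem blk_main (hP : Nat.card P = p)
    (hC : CP = (P : Subgroup G) ⊔ Subgroup.center G)
    (hZreg : ∀ z ∈ Subgroup.center G, ¬ p ∣ orderOf z)
    (θ : IrrCharacter CP) (hθ1 : irrDeg θ = 1)
    (hθP : ∀ x : CP, (x : G) ∈ (P : Subgroup G) → (θ : CP → ℂ) x = (θ : CP → ℂ) 1)
    (χ : IrrCharacter G)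
    (hover : ∀ z : CP, (z : G) ∈ Subgroup.center G →
      (χ : G → ℂ) z = (θ : CP → ℂ) z * (χ : G → ℂ) 1)
    (x : CP) (hx : (x : G) ∈ (P : Subgroup G)) (hx1 : x ≠ 1) :
    (χ : G → ℂ) x = ∑ᶠ μ ∈ {μ : CP → ℂ | NT p μ},
      Dnum CP μ (θ : CP → ℂ) (χ : G → ℂ) * μ x := by
  classical
  have := finite_PL P hP
  let _ : Fintype (PL P) := Fintype.ofFinite _
  let _ : Fintype (P : Subgroup G) := Fintype.ofFinite _
  have hp0 : (p : ℂ) ≠ 0 := by exact_mod_cast (Fact.out : p.Prime).ne_zero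
  set f : (CP → ℂ) → ℂ := fun μ => Dnum CP μ (θ : CP → ℂ) (χ : G → ℂ) * μ x with hf
  -- the finsum as a finite sum over `PL P`
  have hfin : ∑ᶠ μ ∈ {μ : CP → ℂ | NT p μ}, f μ = ∑ μ : PL P, f μ.1 := by
    have h1 : ∑ᶠ μ ∈ {μ : CP → ℂ | NT p μ}, f μ = ∑ᶠ μ ∈ {μ : CP → ℂ | IsPLin p μ}, f μ := by
      apply finsum_mem_inter_support_eq
      ext μ
      simp only [Set.mem_inter_iff, Set.mem_ofPred_eq, Function.mem_support]
      constructor
      · rintro ⟨h, h'⟩; exact ⟨h.1, h'⟩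
      · rintro ⟨h, h'⟩
        refine ⟨⟨h, ?_⟩, h'⟩
        by_contra hno
        push Not at hno
        apply h'
        have hμ1 : (fun c => μ c * (θ : CP → ℂ) c) = (θ : CP → ℂ) := by
          funext c
          rw [hno c, one_mul]
        rw [hf]
        show Dnum CP μ (θ : CP → ℂ) (χ : G → ℂ) * μ x = 0
        rw [Dnum_eq_mult, hμ1, sub_self, zero_mul]
    rw [h1, ← finsum_set_coe_eq_finsum_mem]
    exact finsum_eq_sum_of_fintype (fun μ : PL P => f μ.1)
  show (χ : G → ℂ) x = ∑ᶠ μ ∈ {μ : CP → ℂ | NT p μ}, f μ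
  rw [hfin]
  -- the formula for the numbers `Dnum`
  have hθeq : (fun c : CP => (fun _ : CP => (1 : ℂ)) c * (θ : CP → ℂ) c) = (θ : CP → ℂ) := by
    funext c
    rw [one_mul]
  have hD : ∀ μ : PL P, Dnum CP μ.1 (θ : CP → ℂ) (χ : G → ℂ) =
      (p : ℂ)⁻¹ * ∑ y : (P : Subgroup G), (χ : G → ℂ) y * (conj (μ.1 (iP P hP y)) - 1) := by
    intro μ
    rw [Dnum_eq_mult, mult_mul_eq P hP hC hZreg θ hθ1 hθP χ hover μ.2]
    have h0 := mult_mul_eq P hP hC hZreg θ hθ1 hθP χ hover (isPLin_one p)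
    rw [hθeq] at h0
    rw [h0, ← mul_sub, ← Finset.sum_sub_distrib]
    congr 1
    apply Finset.sum_congr rfl
    intro y _
    rw [map_one]
    ring
  -- `x` as an element of `P`
  set x₀ : (P : Subgroup G) := ⟨(x : G), hx⟩ with hx₀
  have hxx : iP P hP x₀ = x := Subtype.ext rfl
  -- exchange the sums
  have h2 : ∑ μ : PL P, f μ.1 =
      (p : ℂ)⁻¹ * ∑ y : (P : Subgroup G), (χ : G → ℂ) y *
        ∑ μ : PL P, (μ.1 ((iP P hP y)⁻¹ * x) - μ.1 x) := by
    have h3 : ∀ μ : PL P, f μ.1 = (p : ℂ)⁻¹ * ∑ y : (P : Subgroup G), (χ : G → ℂ) y *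
        (μ.1 ((iP P hP y)⁻¹ * x) - μ.1 x) := by
      intro μ
      show Dnum CP μ.1 (θ : CP → ℂ) (χ : G → ℂ) * μ.1 x = _
      rw [hD μ, mul_assoc, Finset.sum_mul]
      congr 1
      apply Finset.sum_congr rfl
      intro y _
      have h4 : conj (μ.1 (iP P hP y)) = (μ.1 (iP P hP y))⁻¹ :=
        eq_inv_of_mul_eq_one_right (μ.2.mul_conj _)
      rw [h4, μ.2.mul, μ.2.inv]
      ring
    rw [Finset.sum_congr rfl (fun μ _ => h3 μ), ← Finset.mul_sum, Finset.sum_comm]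
    congr 1
    apply Finset.sum_congr rfl
    intro y _
    rw [Finset.mul_sum]
  rw [h2]
  have h5 : ∀ y : (P : Subgroup G), ∑ μ : PL P, (μ.1 ((iP P hP y)⁻¹ * x) - μ.1 x) =
      if y = x₀ then (p : ℂ) else 0 := by
    intro y
    rw [Finset.sum_sub_distrib, sum_PL_apply' P hP x hx hx1, sub_zero]
    by_cases hy : y = x₀
    · rw [if_pos hy, hy, hxx, inv_mul_cancel, sum_PL_apply_one P hP]
    · rw [if_neg hy]
      apply sum_PL_apply' P hP
      · exact mul_mem (inv_mem y.2) hx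
      · intro h
        apply hy
        rw [inv_mul_eq_one] at h
        apply Subtype.ext
        have := congrArg (fun c : CP => (c : G)) h
        exact this
  rw [Finset.sum_congr rfl (fun y _ => by rw [h5 y])]
  simp only [mul_ite, mul_zero, Finset.sum_ite_eq', Finset.mem_univ, if_true]
  rw [← mul_assoc, mul_comm ((p : ℂ)⁻¹), mul_assoc]
  rw [inv_mul_cancel₀ hp0, mul_one]

end Cfsg.Agent.Helper18.S4705BLKF1

namespace Cfsg.Agent.S4705P

open Cfsg Cfsg.Agent.Helper24 Cfsg.Agent.Helper8.D1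

universe u

variable {G : Type u} [Group G] [Finite G]

/-! ### BLKF1: Fourier inversion on `C = P × Z(G)` -/
theorem blk_val_eq_sum_Dnum (p : ℕ) [Fact p.Prime] (P : Sylow p G) (hP : Nat.card P = p)
    (hC : Subgroup.centralizer ((P : Subgroup G) : Set G) = (P : Subgroup G) ⊔ Subgroup.center G)
    (hZreg : ∀ z ∈ Subgroup.center G, ¬ p ∣ orderOf z)
    (θ : IrrCharacter (Subgroup.centralizer ((P : Subgroup G) : Set G))) (hθ1 : irrDeg θ = 1)
    (hθP : ∀ x : Subgroup.centralizer ((P : Subgroup G) : Set G), (x : G) ∈ (P : Subgroup G) →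
      (θ : Subgroup.centralizer ((P : Subgroup G) : Set G) → ℂ) x =
        (θ : Subgroup.centralizer ((P : Subgroup G) : Set G) → ℂ) 1)
    (χ : IrrCharacter G)
    (hover : ∀ z : Subgroup.centralizer ((P : Subgroup G) : Set G), (z : G) ∈ Subgroup.center G →
      (χ : G → ℂ) z = (θ : Subgroup.centralizer ((P : Subgroup G) : Set G) → ℂ) z * (χ : G → ℂ) 1)
    (x : Subgroup.centralizer ((P : Subgroup G) : Set G)) (hx : (x : G) ∈ (P : Subgroup G))
    (hx1 : x ≠ 1) :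
    (χ : G → ℂ) x = ∑ᶠ μ ∈ {μ : Subgroup.centralizer ((P : Subgroup G) : Set G) → ℂ | NT p μ},
      Dnum (Subgroup.centralizer ((P : Subgroup G) : Set G)) μ
        (θ : Subgroup.centralizer ((P : Subgroup G) : Set G) → ℂ) (χ : G → ℂ) * μ x :=
  Cfsg.Agent.Helper18.S4705BLKF1.blk_main P hP hC hZreg θ hθ1 hθP χ hover x hx hx1

end Cfsg.Agent.S4705P
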