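import Mathlib
import Cfsg.Prelude.Def_Characters
import Cfsg.Prelude.Def_DegreeGraph
import Cfsg.Agent.Helper24.Abelian
import Cfsg.Agent.Helper24.SmallDegree
import Cfsg.Agent.Helper24.ColumnOrth

set_option autoImplicit false

/-! `A₅` has an irreducible character of degree divisible by `5`. -/

namespace Cfsg.Agent.Helper18.A5Deg

open Equiv Cfsg Cfsg.Agent.Helper24
open scoped commutatorElement

set_option maxRecDepth 100000 in
theorem a5_reps : ∀ g : Perm (Fin 5), Perm.sign g = 1 →
    ∃ r ∈ ([1, swap 0 1 * swap 2 3, swap 0 1 * swap 1 2, finRotate 5, (finRotate 5) ^ 2] :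
      List (Perm (Fin 5))),
    ∃ c : Perm (Fin 5), Perm.sign c = 1 ∧ c * r * c⁻¹ = g := by
  decide

set_option maxRecDepth 100000 in
theorem list_sign : ∀ r ∈ ([1, swap 0 1 * swap 2 3, swap 0 1 * swap 1 2, finRotate 5,
    (finRotate 5) ^ 2] : List (Perm (Fin 5))), Perm.sign r = 1 := by
  decide

abbrev H := alternatingGroup (Fin 5)

theorem card_conjClasses_le : Nat.card (ConjClasses H) ≤ 5 := by
  let L : List (Perm (Fin 5)) :=
    [1, swap 0 1 * swap 2 3, swap 0 1 * swap 1 2, finRotate 5, (finRotate 5) ^ 2]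
  let f : {r : Perm (Fin 5) // r ∈ L} → ConjClasses H := fun r =>
    ConjClasses.mk ⟨r.1, Perm.mem_alternatingGroup.mpr (list_sign r.1 r.2)⟩
  have hf : Function.Surjective f := by
    intro C
    obtain ⟨x, rfl⟩ := ConjClasses.mk_surjective C
    obtain ⟨r, hr, c, hc, hcr⟩ := a5_reps x.1 (Perm.mem_alternatingGroup.mp x.2)
    refine ⟨⟨r, hr⟩, ?_⟩
    show ConjClasses.mk _ = ConjClasses.mk x
    rw [ConjClasses.mk_eq_mk_iff_isConj, isConj_iff]
    refine ⟨⟨c, Perm.mem_alternatingGroup.mpr hc⟩, ?_⟩
    apply Subtype.ext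
    exact hcr
  have h1 := Nat.card_le_card_of_surjective f hf
  have h2 : Nat.card {r : Perm (Fin 5) // r ∈ L} ≤ 5 := by
    have : Nat.card {r : Perm (Fin 5) // r ∈ L} = L.toFinset.card := by
      rw [Nat.card_eq_fintype_card]
      exact Fintype.card_of_subtype L.toFinset (fun x => List.mem_toFinset)
    rw [this]
    exact le_trans (List.toFinset_card_le L) (by simp [L])
  omega

theorem card_H : Nat.card H = 60 := by
  rw [Nat.card_eq_fintype_card, card_alternatingGroup]
  rfl

theorem commutator_H : commutator H = ⊤ := by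
  have hs : IsSimpleGroup H := alternatingGroup.isSimpleGroup_five
  rcases (commutator H).normal_of_characteristic.eq_bot_or_eq_top with h | h
  · exfalso
    have hcomm : ∀ a b : H, a * b = b * a := by
      intro a b
      have h1 : ⁅a, b⁆ ∈ commutator H := Subgroup.commutator_mem_commutator (Subgroup.mem_top a) (Subgroup.mem_top b)
      rw [h, Subgroup.mem_bot, commutatorElement_eq_one_iff_mul_comm] at h1
      exact h1
    have h2 := hcomm ⟨swap 0 1 * swap 2 3, Perm.mem_alternatingGroup.mpr (by decide)⟩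
      ⟨swap 0 1 * swap 1 2, Perm.mem_alternatingGroup.mpr (by decide)⟩
    have h3 := congrArg Subtype.val h2
    revert h3
    decide
  · exact h


theorem exists_irr_five_dvd : ∃ χ : IrrCharacter H, 5 ∣ irrDeg χ := by
  classical
  by_contra hno
  push Not at hno
  have : Fintype (IrrCharacter H) := Fintype.ofFinite _
  have hsum : ∑ χ : IrrCharacter H, irrDeg χ ^ 2 = 60 := by rw [sum_irrDeg_sq, card_H]
  have hK : Fintype.card (IrrCharacter H) ≤ 5 := by
    rw [← Nat.card_eq_fintype_card, card_irr_eq_card_conjClasses]; exact card_conjClasses_le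
  have hlin : (Finset.univ.filter (fun χ : IrrCharacter H => irrDeg χ = 1)).card = 1 := by
    have h1 := card_linear_irr (G := H)
    rw [commutator_H, Subgroup.index_top, Nat.card_eq_fintype_card, Fintype.card_subtype] at h1
    have h2 : Finset.univ.filter (fun χ : IrrCharacter H => irrDeg χ = 1) =
        Finset.univ.filter (fun χ : IrrCharacter H => (χ : H → ℂ) 1 = 1) := by
      ext χ
      simp only [Finset.mem_filter, Finset.mem_univ, true_and]
      exact irrDeg_eq_one_iff χ
    rw [h2]
    exact h1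
  have hvals : ∀ χ : IrrCharacter H, irrDeg χ ∈ ({1, 2, 3, 4, 6, 12} : Finset ℕ) := by
    intro χ
    have h1 := irrDeg_dvd_card χ
    rw [card_H] at h1
    have h2 := hno χ
    have h3 : irrDeg χ ∈ Nat.divisors 60 := Nat.mem_divisors.mpr ⟨h1, by norm_num⟩
    have h4 : Nat.divisors 60 = {1, 2, 3, 4, 5, 6, 10, 12, 15, 20, 30, 60} := by decide
    rw [h4] at h3
    simp only [Finset.mem_insert, Finset.mem_singleton] at h3 ⊢
    rcases h3 with h | h | h | h | h | h | h | h | h | h | h | h <;> rw [h] at h2 ⊢ <;>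
      first | (exfalso; apply h2; decide) | decide
  set c : ℕ → ℕ := fun v => (Finset.univ.filter (fun χ : IrrCharacter H => irrDeg χ = v)).card
    with hc
  have hsum' : ∑ v ∈ ({1, 2, 3, 4, 6, 12} : Finset ℕ), c v * v ^ 2 = 60 := by
    rw [← hsum, ← Finset.sum_fiberwise_of_maps_to (s := Finset.univ)
      (t := ({1, 2, 3, 4, 6, 12} : Finset ℕ)) (g := fun χ : IrrCharacter H => irrDeg χ)
      (fun χ _ => hvals χ) (fun χ => irrDeg χ ^ 2)]
    apply Finset.sum_congr rfl
    intro v _
    rw [hc]
    simp only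
    rw [Finset.card_eq_sum_ones, Finset.sum_mul]
    apply Finset.sum_congr rfl
    intro χ hχ
    rw [(Finset.mem_filter.mp hχ).2, one_mul]
  have hcard' : ∑ v ∈ ({1, 2, 3, 4, 6, 12} : Finset ℕ), c v = Fintype.card (IrrCharacter H) := by
    rw [← Finset.card_univ]
    exact (Finset.card_eq_sum_card_fiberwise (s := Finset.univ)
      (t := ({1, 2, 3, 4, 6, 12} : Finset ℕ)) (f := fun χ : IrrCharacter H => irrDeg χ)
      (fun χ _ => hvals χ)).symm
  have e1 : c 1 = 1 := hlin
  rw [Finset.sum_insert (by decide), Finset.sum_insert (by decide), Finset.sum_insert (by decide),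
    Finset.sum_insert (by decide), Finset.sum_insert (by decide), Finset.sum_singleton] at hsum' hcard'
  generalize c 1 = a1 at *
  generalize c 2 = a2 at *
  generalize c 3 = a3 at *
  generalize c 4 = a4 at *
  generalize c 6 = a6 at *
  generalize c 12 = a12 at *
  have b3 : a3 ≤ 4 := by omega
  have b4 : a4 ≤ 4 := by omega
  have b6 : a6 ≤ 4 := by omega
  have b12 : a12 ≤ 4 := by omega
  interval_cases a3 <;> interval_cases a4 <;> interval_cases a6 <;> omega

/-- `5` is a vertex of the degree graph of `A₅`. -/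
theorem five_mem_degreePrimes : 5 ∈ Cfsg.degreePrimes (alternatingGroup (Fin 5)) := by
  obtain ⟨χ, hχ⟩ := exists_irr_five_dvd
  refine ⟨by norm_num, irrDeg χ, ⟨χ, ?_⟩, hχ⟩
  unfold Cfsg.charDegree
  rw [irrDeg_spec]
  simp

end Cfsg.Agent.Helper18.A5Deg
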