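import Mathlib
import Cfsg.Prelude.Def_DegreeGraph
import Cfsg.Agent.Helper18.A5Deg
import Cfsg.Agent.Helper2.Order60
import Cfsg.Agent.Helper24.Ito
import Cfsg.Agent.S0044
import Cfsg.Agent.S0144
import Cfsg.Agent.S3785
import Cfsg.Agent.Helper7.Fitting
import Cfsg.Agent.Helper11.Transfer

set_option autoImplicit false

/-! A group of order 60 with an irreducible character of degree divisible by 5 is `A₅` (S3669). -/

namespace Cfsg.Agent.Helper18.Order60Char

open Cfsg

theorem sqf_mul {a b : ℕ} (ha : a.Prime) (hb : b.Prime) (hab : a ≠ b) : Squarefree (a * b) := by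
  rw [Nat.squarefree_mul_iff]
  exact ⟨(Nat.coprime_primes ha hb).mpr hab, ha.squarefree, hb.squarefree⟩

theorem sqf30 : Squarefree 30 := by
  rw [show (30 : ℕ) = 2 * 3 * 5 by norm_num, Nat.squarefree_mul_iff]
  exact ⟨by norm_num, sqf_mul Nat.prime_two Nat.prime_three (by norm_num), Nat.prime_five.squarefree⟩

theorem solvable_of_card_dvd_sixty {K : Type*} [Group K] [Finite K] (h : Nat.card K ∣ 60)
    (hlt : Nat.card K < 60) : Group.IsSolvable K := by
  have h3 : Nat.card K ∈ Nat.divisors 60 := Nat.mem_divisors.mpr ⟨h, by norm_num⟩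
  have h4 : Nat.divisors 60 = {1, 2, 3, 4, 5, 6, 10, 12, 15, 20, 30, 60} := by decide
  rw [h4] at h3
  simp only [Finset.mem_insert, Finset.mem_singleton] at h3
  have sq : Squarefree (Nat.card K) → Group.IsSolvable K := fun hsq => by
    have : IsZGroup K := IsZGroup.of_squarefree hsq
    infer_instance
  rcases h3 with h | h | h | h | h | h | h | h | h | h | h | h
  · exact sq (by rw [h]; exact squarefree_one)
  · exact sq (by rw [h]; exact Nat.prime_two.squarefree)
  · exact sq (by rw [h]; exact Nat.prime_three.squarefree)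
  · exact Cfsg.Agent.S0144.result 2 3 2 0 Nat.prime_two Nat.prime_three (by rw [h]; norm_num)
  · exact sq (by rw [h]; exact Nat.prime_five.squarefree)
  · exact sq (by rw [h]; exact sqf_mul Nat.prime_two Nat.prime_three (by norm_num))
  · exact sq (by rw [h]; exact sqf_mul Nat.prime_two Nat.prime_five (by norm_num))
  · exact Cfsg.Agent.S0144.result 2 3 2 1 Nat.prime_two Nat.prime_three (by rw [h]; norm_num)
  · exact sq (by rw [h]; exact sqf_mul Nat.prime_three Nat.prime_five (by norm_num))
  · exact Cfsg.Agent.S0144.result 2 5 2 1 Nat.prime_two Nat.prime_five (by rw [h]; norm_num)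
  · exact sq (by rw [h]; exact sqf30)
  · omega


theorem prime_pow_dvd_sixty {p k : ℕ} (hp : p.Prime) (hp5 : p ≠ 5) (h : p ^ k ∣ 60) : p ^ k ≤ 4 := by
  rcases Nat.eq_zero_or_pos k with hk | hk
  · rw [hk, pow_zero]; norm_num
  · have hp60 : p ∣ 60 := dvd_trans (dvd_pow_self p (by omega)) h
    have hple : p ≤ 60 := Nat.le_of_dvd (by norm_num) hp60
    have hp235 : p = 2 ∨ p = 3 := by
      interval_cases p <;> first | omega | (exfalso; revert hp; decide) | (exfalso; revert hp60; decide)
    rcases hp235 with rfl | rfl
    · have hk2 : k ≤ 2 := by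
        by_contra hk3
        have : 2 ^ 3 ∣ 2 ^ k := pow_dvd_pow 2 (by omega)
        have := dvd_trans this h
        revert this; decide
      interval_cases k <;> norm_num
    · have hk1 : k ≤ 1 := by
        by_contra hk2
        have : 3 ^ 2 ∣ 3 ^ k := pow_dvd_pow 3 (by omega)
        have := dvd_trans this h
        revert this; decide
      interval_cases k <;> norm_num

theorem main {G : Type*} [Group G] [Finite G] (hcard : Nat.card G = 60)
    (h5 : 5 ∈ Cfsg.degreePrimes G) : Nonempty (G ≃* alternatingGroup (Fin 5)) := by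
  classical
  have : Fintype G := Fintype.ofFinite G
  obtain ⟨-, d, ⟨χ, hχd⟩, h5d⟩ := h5
  have hIto : ∀ A : Subgroup G, A.Normal → (∀ a ∈ A, ∀ b ∈ A, a * b = b * a) → 5 ∣ A.index := by
    intro A hA hab
    obtain ⟨e, he, hdvd⟩ := Cfsg.Agent.Helper24.ito_character A hab χ.1 χ.2
    have : d = e := by
      rw [← hχd]; unfold Cfsg.charDegree; rw [he]; simp
    rw [this] at h5d
    exact dvd_trans h5d hdvd
  by_cases hs : IsSimpleGroup G
  · exact Cfsg.Agent.Helper2.nonempty_mulEquiv_alternatingGroup_five_of_card hcard
  · exfalso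
    have hnt : Nontrivial G := Finite.one_lt_card_iff_nontrivial.mp (by rw [hcard]; norm_num)
    obtain ⟨N, hN, hNb, hNt⟩ : ∃ N : Subgroup G, N.Normal ∧ N ≠ ⊥ ∧ N ≠ ⊤ := by
      by_contra hcon
      push Not at hcon
      exact hs ⟨fun H hH => by
        by_cases hb : H = ⊥
        · exact Or.inl hb
        · exact Or.inr (hcon H hH hb)⟩
    have hsolv : Group.IsSolvable G := by
      have hNdvd : Nat.card N ∣ 60 := hcard ▸ Subgroup.card_subgroup_dvd_card N
      have hNlt : Nat.card N < 60 := by
        by_contra hge
        have : Nat.card N = 60 := le_antisymm (Nat.le_of_dvd (by norm_num) hNdvd) (by omega)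
        exact hNt (Subgroup.eq_top_of_card_eq N (by rw [this, hcard]))
      have hidvd : N.index ∣ 60 := hcard ▸ Subgroup.index_dvd_card N
      have hilt : N.index < 60 := by
        by_contra hge
        have h1 := N.card_mul_index
        rw [hcard] at h1
        have h2 : N.index = 60 := le_antisymm (Nat.le_of_dvd (by norm_num) hidvd) (by omega)
        rw [h2] at h1
        have : Nat.card N = 1 := by omega
        exact hNb (Subgroup.card_eq_one.mp this)
      have s1 : Group.IsSolvable N := solvable_of_card_dvd_sixty hNdvd hNlt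
      have s2 : Group.IsSolvable (G ⧸ N) :=
        solvable_of_card_dvd_sixty (by rw [← Subgroup.index_eq_card]; exact hidvd)
          (by rw [← Subgroup.index_eq_card]; exact hilt)
      exact Group.isSolvable_of_ker_le_range N.subtype (QuotientGroup.mk' N)
        (by rw [QuotientGroup.ker_mk', Subgroup.range_subtype])
    have hp5 : Fact (Nat.Prime 5) := ⟨Nat.prime_five⟩
    obtain ⟨Q⟩ : Nonempty (Sylow 5 G) := inferInstance
    -- O_5(G) = ⊥
    have hO5 : pCore 5 G = ⊥ := by
      have hpg : IsPGroup 5 (pCore 5 G) := Cfsg.Agent.Helper14.pCore_isPGroup 5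
      obtain ⟨k, hk⟩ := hpg.exists_card_eq
      have hdvd : Nat.card (pCore 5 G) ∣ 60 := hcard ▸ Subgroup.card_subgroup_dvd_card _
      have hk1 : k ≤ 1 := by
        by_contra hk2
        have h1 : 5 ^ 2 ∣ 5 ^ k := pow_dvd_pow 5 (by omega)
        rw [← hk] at h1
        have := dvd_trans h1 hdvd
        revert this; decide
      interval_cases k
      · exact Subgroup.card_eq_one.mp (by rw [hk]; norm_num)
      · exfalso
        have hc : IsCyclic (pCore 5 G) := isCyclic_of_prime_card (p := 5) (by rw [hk]; norm_num)
        have hab : ∀ a ∈ pCore 5 G, ∀ b ∈ pCore 5 G, a * b = b * a := by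
          intro a ha b hb
          have := (IsCyclic.commGroup (α := pCore 5 G)).mul_comm ⟨a, ha⟩ ⟨b, hb⟩
          exact congrArg Subtype.val this
        have h1 := hIto (pCore 5 G) (Cfsg.pCore_normal 5 G) hab
        have h2 := (pCore 5 G).card_mul_index
        rw [hcard, hk] at h2
        have h3 : (pCore 5 G).index = 12 := by omega
        rw [h3] at h1
        revert h1; decide
    -- every O_p centralizes Q
    have hcent : ∀ p : ℕ, p.Prime → pCore p G ≤ Subgroup.centralizer ((Q : Subgroup G) : Set G) := by
      intro p hp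
      by_cases hp5' : p = 5
      · subst hp5'; rw [hO5]; exact bot_le
      · have : Fact p.Prime := ⟨hp⟩
        have hPn : (pCore p G).Normal := Cfsg.pCore_normal p G
        have hpg : IsPGroup p (pCore p G) := Cfsg.Agent.Helper14.pCore_isPGroup p
        obtain ⟨k, hk⟩ := hpg.exists_card_eq
        have hdvd : Nat.card (pCore p G) ∣ 60 := hcard ▸ Subgroup.card_subgroup_dvd_card _
        have hle : Nat.card (pCore p G) ≤ 4 := by
          rw [hk]; rw [hk] at hdvd; exact prime_pow_dvd_sixty hp hp5' hdvd
        have hidx : (Subgroup.centralizer ((pCore p G : Subgroup G) : Set G)).index ∣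
            Nat.card (MulAut (pCore p G)) := by
          have := Cfsg.Agent.Helper11.relIndex_centralizer_normalizer_dvd_card_mulAut (pCore p G)
          rwa [Subgroup.normalizer_eq_top_iff.mpr hPn, Subgroup.relIndex_top_right] at this
        have h5idx : ¬ 5 ∣ (Subgroup.centralizer ((pCore p G : Subgroup G) : Set G)).index := by
          intro h
          have h1 := dvd_trans h (dvd_trans hidx
            (Cfsg.Agent.Helper11.card_mulAut_dvd_factorial (pCore p G)))
          have h2 : (Nat.card (pCore p G) - 1).factorial ∣ Nat.factorial 3 :=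
            Nat.factorial_dvd_factorial (by omega)
          have := dvd_trans h1 h2
          revert this; decide
        have hQC : (Q : Subgroup G) ≤ Subgroup.centralizer ((pCore p G : Subgroup G) : Set G) := by
          intro x hx
          set C := Subgroup.centralizer ((pCore p G : Subgroup G) : Set G) with hC
          obtain ⟨j, hj⟩ := (IsPGroup.iff_orderOf.mp Q.isPGroup') ⟨x, hx⟩
          have hxj : x ^ (5 ^ j) = 1 := by
            have := pow_orderOf_eq_one (⟨x, hx⟩ : (Q : Subgroup G))
            rw [hj] at this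
            exact congrArg Subtype.val this
          have h1 : orderOf (QuotientGroup.mk x : G ⧸ C) ∣ 5 ^ j := by
            apply orderOf_dvd_of_pow_eq_one
            rw [← QuotientGroup.mk_pow, hxj, QuotientGroup.mk_one]
          have h2 : orderOf (QuotientGroup.mk x : G ⧸ C) ∣ C.index := by
            rw [Subgroup.index_eq_card]; exact orderOf_dvd_natCard _
          have hcop : Nat.Coprime (5 ^ j) C.index :=
            Nat.Coprime.pow_left j ((Nat.Prime.coprime_iff_not_dvd Nat.prime_five).mpr h5idx)
          have h3 : orderOf (QuotientGroup.mk x : G ⧸ C) = 1 :=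
            Nat.eq_one_of_dvd_coprimes hcop h1 h2
          rw [orderOf_eq_one_iff, QuotientGroup.eq_one_iff] at h3
          exact h3
        intro y hy
        rw [Subgroup.mem_centralizer_iff]
        intro x hx
        exact ((Subgroup.mem_centralizer_iff.mp (hQC hx)) y hy).symm
    have hF : fittingSubgroup G ≤ Subgroup.centralizer ((Q : Subgroup G) : Set G) := by
      rw [Cfsg.Agent.Helper7.fittingSubgroup_eq_pCoreSup, Cfsg.Agent.Helper7.pCoreSup_le_iff]
      exact hcent
    have hQF : (Q : Subgroup G) ≤ fittingSubgroup G := by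
      intro x hx
      apply Cfsg.Agent.S0044.result
      rw [Subgroup.mem_centralizer_iff]
      intro y hy
      exact ((Subgroup.mem_centralizer_iff.mp (hF hy)) x hx).symm
    have hQbot : (Q : Subgroup G) = ⊥ := by
      rw [Subgroup.eq_bot_iff_forall]
      intro x hx
      obtain ⟨j, hj⟩ := (IsPGroup.iff_orderOf.mp Q.isPGroup') ⟨x, hx⟩
      have hj' : orderOf x = 5 ^ j := by rw [← hj, Subgroup.orderOf_mk]
      have := Cfsg.Agent.S3785.mem_pCore_of_mem_fitting (hQF hx) hj'
      rw [hO5, Subgroup.mem_bot] at this
      exact this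
    exact Q.ne_bot_of_dvd_card (by rw [hcard]; decide) hQbot

end Cfsg.Agent.Helper18.Order60Char
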