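import Cfsg.Agent.Helper18.Klein3
import Cfsg.Agent.Helper18.Order60Char
import Cfsg.Agent.Helper2.Order60

/-! Abstract recognition of `A₅`. -/

set_option autoImplicit false

namespace Cfsg.Agent.Helper18.Klein

open MulAction

variable {G : Type*} [Group G] [Finite G]

/-- a nonsolvable group of order 60 is simple. -/
theorem simple_of_card_sixty' (hQ : Nat.card G = 60)
    (hns : ¬ Group.IsSolvable G) : IsSimpleGroup G := by
  haveI : Nontrivial G := by
    rw [← Finite.one_lt_card_iff_nontrivial, hQ]; norm_num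
  refine ⟨fun M hM => ?_⟩
  by_contra hcon
  push Not at hcon
  obtain ⟨hb, ht⟩ := hcon
  have h1 := Subgroup.card_eq_card_quotient_mul_card_subgroup M
  rw [hQ] at h1
  have hM1 : 1 < Nat.card M := by
    rw [Finite.one_lt_card_iff_nontrivial]
    exact (Subgroup.nontrivial_iff_ne_bot M).mpr hb
  have hM2 : Nat.card M < 60 := by
    have hne : Nat.card M ≠ 60 := by
      intro h
      apply ht
      apply Subgroup.eq_top_of_card_eq
      rw [h, hQ]
    have : Nat.card M ≤ 60 := by
      have := Subgroup.card_le_card_group M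
      rwa [hQ] at this
    omega
  haveI s1 : Group.IsSolvable M :=
    Cfsg.Agent.Helper18.Order60Char.solvable_of_card_dvd_sixty (Dvd.intro_left _ h1.symm) hM2
  haveI s2 : Group.IsSolvable (G ⧸ M) := by
    apply Cfsg.Agent.Helper18.Order60Char.solvable_of_card_dvd_sixty (Dvd.intro _ h1.symm)
    nlinarith
  exact hns (Group.isSolvable_of_ker_le_range M.subtype (QuotientGroup.mk' M)
    (by rw [QuotientGroup.ker_mk', Subgroup.range_subtype]))

omit [Finite G] in
/-- a nontrivial solvable group has a nontrivial abelian normal subgroup -/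
theorem exists_abelian_normal [Nontrivial G] (hs : Group.IsSolvable G) :
    ∃ A : Subgroup G, A.Normal ∧ A ≠ ⊥ ∧ ∀ x ∈ A, ∀ y ∈ A, x * y = y * x := by
  classical
  obtain ⟨n, hn⟩ := hs.solvable
  have hex : ∃ n, derivedSeries G n = ⊥ := ⟨n, hn⟩
  set m := Nat.find hex with hm
  have hm1 : derivedSeries G m = ⊥ := Nat.find_spec hex
  have hm0 : m ≠ 0 := by
    intro h0
    rw [h0, derivedSeries_zero] at hm1
    exact top_ne_bot hm1
  obtain ⟨k, hk⟩ := Nat.exists_eq_succ_of_ne_zero hm0
  refine ⟨derivedSeries G k, inferInstance, ?_, ?_⟩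
  · intro h
    have := Nat.find_min' hex h
    omega
  · rw [hk, derivedSeries_succ] at hm1
    intro x hx y hy
    have h1 : x * y * x⁻¹ * y⁻¹ ∈ ⁅derivedSeries G k, derivedSeries G k⁆ := by
      have := Subgroup.commutator_mem_commutator hx hy
      rwa [commutatorElement_def] at this
    rw [hm1, Subgroup.mem_bot] at h1
    have : x * y = (x * y * x⁻¹ * y⁻¹) * (y * x) := by group
    rw [this, h1, one_mul]

theorem subsingleton_sylow_of_normal_pgroup (p m : ℕ) [Fact p.Prime] (hG : Nat.card G = p * m)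
    (hm : ¬ p ∣ m) (B : Subgroup G) [B.Normal] (hB : IsPGroup p B) (hne : B ≠ ⊥) :
    Subsingleton (Sylow p G) := by
  have hp : p.Prime := Fact.out
  have hall : ∀ P : Sylow p G, (P : Subgroup G) = B := by
    intro P
    have hle : B ≤ P := hB.le_sylow_of_normal P
    have hcP := (sylow_card_of p m hG hm P).1
    have hdvd : Nat.card B ∣ p := by rw [← hcP]; exact Subgroup.card_dvd_of_le hle
    have hB1 : Nat.card B ≠ 1 := fun h => hne (Subgroup.card_eq_one.mp h)
    have hBp : Nat.card B = p := by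
      rcases (Nat.dvd_prime hp).mp hdvd with h | h
      · exact absurd h hB1
      · exact h
    exact (Subgroup.eq_of_le_of_card_ge hle (by rw [hBp, hcP])).symm
  exact ⟨fun P Q => Sylow.ext ((hall P).trans (hall Q).symm)⟩

/-- the `r`-torsion of an abelian subgroup -/
def torsionSub (A : Subgroup G) (hA : ∀ x ∈ A, ∀ y ∈ A, x * y = y * x) (r : ℕ) : Subgroup G where
  carrier := {x | x ∈ A ∧ x ^ r = 1}
  one_mem' := ⟨A.one_mem, one_pow r⟩
  mul_mem' := by
    rintro x y ⟨hx, hx'⟩ ⟨hy, hy'⟩
    refine ⟨A.mul_mem hx hy, ?_⟩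
    have : Commute x y := hA x hx y hy
    rw [this.mul_pow, hx', hy', one_mul]
  inv_mem' := by
    rintro x ⟨hx, hx'⟩
    exact ⟨A.inv_mem hx, by rw [inv_pow, hx', inv_one]⟩

omit [Finite G] in
theorem mem_torsionSub (A : Subgroup G) (hA : ∀ x ∈ A, ∀ y ∈ A, x * y = y * x) (r : ℕ) (x : G) :
    x ∈ torsionSub A hA r ↔ x ∈ A ∧ x ^ r = 1 := Iff.rfl

omit [Finite G] in
theorem torsionSub_normal (A : Subgroup G) [hn : A.Normal]
    (hA : ∀ x ∈ A, ∀ y ∈ A, x * y = y * x) (r : ℕ) : (torsionSub A hA r).Normal := by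
  refine ⟨fun x hx g => ?_⟩
  rw [mem_torsionSub] at hx ⊢
  refine ⟨hn.conj_mem x hx.1 g, ?_⟩
  rw [conj_pow, hx.2]; group

omit [Finite G] in
theorem torsionSub_isPGroup (A : Subgroup G) (hA : ∀ x ∈ A, ∀ y ∈ A, x * y = y * x) (r : ℕ) :
    IsPGroup r (torsionSub A hA r) := by
  intro x
  refine ⟨1, ?_⟩
  apply Subtype.ext
  rw [pow_one]
  have := ((mem_torsionSub A hA r x.1).mp x.2).2
  simpa using this

theorem not_isSolvable_of (hG : Nat.card G = 60) (hn3 : ¬ Subsingleton (Sylow 3 G))
    (hn5 : ¬ Subsingleton (Sylow 5 G)) (h10 : ∀ g : G, orderOf g ≠ 10) :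
    ¬ Group.IsSolvable G := by
  classical
  intro hs
  have : Fact (Nat.Prime 2) := ⟨Nat.prime_two⟩
  have : Fact (Nat.Prime 3) := ⟨Nat.prime_three⟩
  have : Fact (Nat.Prime 5) := ⟨Nat.prime_five⟩
  haveI : Nontrivial G := by
    rw [← Finite.one_lt_card_iff_nontrivial, hG]; norm_num
  obtain ⟨A, hAn, hAne, hA⟩ := exists_abelian_normal hs
  have hA1 : Nat.card A ≠ 1 := fun h => hAne (Subgroup.card_eq_one.mp h)
  obtain ⟨r, hr, hrA⟩ := Nat.exists_prime_and_dvd hA1
  have : Fact r.Prime := ⟨hr⟩
  obtain ⟨a, ha⟩ := exists_prime_orderOf_dvd_card' (G := A) r hrA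
  set B := torsionSub A hA r with hB
  have hBn : B.Normal := torsionSub_normal A hA r
  have hBp : IsPGroup r B := torsionSub_isPGroup A hA r
  have haB : (a : G) ∈ B := by
    rw [hB, mem_torsionSub]
    refine ⟨a.2, ?_⟩
    have := pow_orderOf_eq_one a
    rw [ha] at this
    simpa using congrArg Subtype.val this
  have ha1 : (a : G) ≠ 1 := by
    intro h
    have : a = 1 := Subtype.ext h
    rw [this, orderOf_one] at ha
    exact hr.one_lt.ne ha
  have hBne : B ≠ ⊥ := by
    intro h
    rw [h, Subgroup.mem_bot] at haB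
    exact ha1 haB
  have hr60 : r ∣ 60 := by
    rw [← hG]; exact hrA.trans (Subgroup.card_subgroup_dvd_card A)
  have hrle : r ≤ 60 := Nat.le_of_dvd (by norm_num) hr60
  have hr235 : r = 2 ∨ r = 3 ∨ r = 5 := by
    interval_cases r <;> first | omega | (exfalso; revert hr; decide) | (exfalso; revert hr60; decide)
  rcases hr235 with rfl | rfl | rfl
  · -- r = 2
    obtain ⟨k, hk⟩ := IsPGroup.iff_card.mp hBp
    have hB60 : Nat.card B ∣ 60 := by rw [← hG]; exact Subgroup.card_subgroup_dvd_card B
    have hk2 : k ≤ 2 := by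
      by_contra hk3
      have : 2 ^ 3 ∣ 2 ^ k := pow_dvd_pow 2 (by omega)
      rw [← hk] at this
      have := dvd_trans this hB60
      revert this; decide
    have hk1 : k ≠ 0 := by
      intro h0
      rw [h0, pow_zero] at hk
      exact hBne (Subgroup.card_eq_one.mp hk)
    obtain ⟨c, hc⟩ := exists_prime_orderOf_dvd_card' (G := G) 5 (by rw [hG]; norm_num)
    let ρ : Subgroup.zpowers c →* MulAut B :=
      (MulAut.conjNormal (H := B)).comp (Subgroup.zpowers c).subtype
    letI : MulAction (Subgroup.zpowers c) B := MulAction.compHom B ρ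
    have hp5 : IsPGroup 5 (Subgroup.zpowers c) :=
      IsPGroup.of_card (n := 1) (by rw [Nat.card_zpowers, hc, pow_one])
    have hmod := hp5.card_modEq_card_fixedPoints B
    have hfix : Nat.card (fixedPoints (Subgroup.zpowers c) B) = 1 := by
      rw [Nat.card_eq_one_iff_unique]
      have h1mem : (1 : B) ∈ fixedPoints (Subgroup.zpowers c) B := by
        intro h
        show ρ h 1 = 1
        exact map_one _
      refine ⟨⟨?_⟩, ⟨⟨1, h1mem⟩⟩⟩
      have huniq : ∀ b : B, b ∈ fixedPoints (Subgroup.zpowers c) B → b = 1 := by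
        intro b hb
        by_contra hb1
        have hcb := hb ⟨c, Subgroup.mem_zpowers c⟩
        have hcb' : c * (b : G) * c⁻¹ = b := by
          have : ρ ⟨c, Subgroup.mem_zpowers c⟩ b = b := hcb
          have h2 := congrArg Subtype.val this
          simpa [ρ, MulAut.conjNormal_apply] using h2
        have hcomm : Commute (b : G) c := by
          show (b : G) * c = c * b
          calc (b : G) * c = (c * (b : G) * c⁻¹) * c := by rw [hcb']
            _ = c * b := by group
        have hb2 : (b : G) ^ 2 = 1 := ((mem_torsionSub A hA 2 b.1).mp b.2).2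
        have hbne : (b : G) ≠ 1 := fun h => hb1 (Subtype.ext h)
        have hob : orderOf (b : G) = 2 := orderOf_eq_prime hb2 hbne
        have := hcomm.orderOf_mul_eq_mul_orderOf_of_coprime (by rw [hob, hc]; norm_num)
        rw [hob, hc] at this
        exact h10 _ this
      intro x y
      apply Subtype.ext
      rw [huniq x.1 x.2, huniq y.1 y.2]
    rw [hfix, hk] at hmod
    unfold Nat.ModEq at hmod
    interval_cases k
    · exact hk1 rfl
    · norm_num at hmod
    · norm_num at hmod
  · exact hn3 (subsingleton_sylow_of_normal_pgroup 3 20 hG (by norm_num) B hBp hBne)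
  · exact hn5 (subsingleton_sylow_of_normal_pgroup 5 12 hG (by norm_num) B hBp hBne)

/-- recognition of `A₅` -/
theorem nonempty_equiv_A5 (hG : Nat.card G = 60) (hn3 : ¬ Subsingleton (Sylow 3 G))
    (hn5 : ¬ Subsingleton (Sylow 5 G)) (h10 : ∀ g : G, orderOf g ≠ 10) :
    Nonempty (G ≃* alternatingGroup (Fin 5)) := by
  have := simple_of_card_sixty' hG (not_isSolvable_of hG hn3 hn5 h10)
  exact Cfsg.Agent.Helper2.nonempty_mulEquiv_alternatingGroup_five_of_card hG

end Cfsg.Agent.Helper18.Klein
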