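import Mathlib

set_option autoImplicit false

/-! S4501 piece AR7: the arithmetic endgame `|G| = 168`. -/

namespace Cfsg.Agent.S4501P

/-- valuation of `3 * p^a * q^b` at a prime `r ≠ 3` -/
theorem val_three_mul (r p q a b : ℕ) (hr : r.Prime) (hp : p.Prime) (hq : q.Prime) (hr3 : r ≠ 3) :
    padicValNat r (3 * p ^ a * q ^ b) =
      a * (if p = r then 1 else 0) + b * (if q = r then 1 else 0) := by
  have : Fact r.Prime := ⟨hr⟩
  have : Fact p.Prime := ⟨hp⟩
  have : Fact q.Prime := ⟨hq⟩
  have hp0 : p ^ a ≠ 0 := pow_ne_zero _ hp.ne_zero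
  have hq0 : q ^ b ≠ 0 := pow_ne_zero _ hq.ne_zero
  have h3 : padicValNat r 3 = 0 := by
    have : Fact (Nat.Prime 3) := ⟨Nat.prime_three⟩
    exact padicValNat_primes (p := r) (q := 3) hr3
  have hvp : padicValNat r p = if p = r then 1 else 0 := by
    split_ifs with h
    · subst h; exact padicValNat_self
    · exact padicValNat_primes (p := r) (q := p) (fun hh => h hh.symm)
  have hvq : padicValNat r q = if q = r then 1 else 0 := by
    split_ifs with h
    · subst h; exact padicValNat_self
    · exact padicValNat_primes (p := r) (q := q) (fun hh => h hh.symm)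
  rw [padicValNat.mul (by positivity) hq0, padicValNat.mul (by norm_num) hp0,
    padicValNat.pow, padicValNat.pow, h3, hvp, hvq]
  ring

theorem arith7 (p q a b : ℕ) (hp : p.Prime) (hq : q.Prime) (hpq : p ≠ q) (ha : a ≤ 2)
    (p3 : p ≠ 3) (q3 : q ≠ 3)
    (c : ℕ) (hc : 21 * c ^ 2 = 8 * (3 * p ^ a * q ^ b)) (hcN : c ∣ 3 * p ^ a * q ^ b)
    (hS : 2 ^ (3 * p ^ a * q ^ b).factorization 2 ∣ c) : 3 * p ^ a * q ^ b = 168 := by
  have : Fact (Nat.Prime 2) := ⟨Nat.prime_two⟩
  have h7p : Nat.Prime 7 := by norm_num
  have : Fact (Nat.Prime 7) := ⟨h7p⟩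
  set N := 3 * p ^ a * q ^ b with hN
  have hN0 : N ≠ 0 := by
    rw [hN]
    have := hp.pos; have := hq.pos
    positivity
  have hc0 : c ≠ 0 := by
    rintro rfl
    simp at hc
    omega
  -- valuations at 2
  have e2 : 2 * padicValNat 2 c = 3 + padicValNat 2 N := by
    have h := congrArg (padicValNat 2) hc
    rw [padicValNat.mul (by norm_num) (pow_ne_zero _ hc0), padicValNat.pow,
      padicValNat.mul (by norm_num) hN0] at h
    have h21 : padicValNat 2 21 = 0 := by
      apply padicValNat.eq_zero_of_not_dvd; norm_num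
    have h8 : padicValNat 2 8 = 3 := by
      have : (8 : ℕ) = 2 ^ 3 := by norm_num
      rw [this, padicValNat.prime_pow]
    omega
  have hS' : padicValNat 2 N ≤ padicValNat 2 c := by
    rw [Nat.factorization_def N Nat.prime_two] at hS
    exact (padicValNat_dvd_iff_le hc0).mp hS
  have hcN' : padicValNat 2 c ≤ padicValNat 2 N := by
    have := (padicValNat_dvd_iff_le (p := 2) hN0 (n := padicValNat 2 c)).mp
      ((pow_padicValNat_dvd).trans hcN)
    exact this
  have hv2N : padicValNat 2 N = 3 := by omega
  -- valuations at 7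
  have e7 : 1 + 2 * padicValNat 7 c = padicValNat 7 N := by
    have h := congrArg (padicValNat 7) hc
    rw [padicValNat.mul (by norm_num) (pow_ne_zero _ hc0), padicValNat.pow,
      padicValNat.mul (by norm_num) hN0] at h
    have h21 : padicValNat 7 21 = 1 := by
      have : (21 : ℕ) = 7 * 3 := by norm_num
      rw [this, padicValNat.mul (by norm_num) (by norm_num), padicValNat_self]
      have : padicValNat 7 3 = 0 := by
        apply padicValNat.eq_zero_of_not_dvd; norm_num
      omega
    have h8 : padicValNat 7 8 = 0 := by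
      apply padicValNat.eq_zero_of_not_dvd; norm_num
    omega
  have f2 := val_three_mul 2 p q a b Nat.prime_two hp hq (by norm_num)
  have f7 := val_three_mul 7 p q a b h7p hp hq (by norm_num)
  rw [← hN] at f2 f7
  rw [hv2N] at f2
  by_cases hp2 : p = 2
  · have hq2 : q ≠ 2 := fun h => hpq (hp2.trans h.symm)
    rw [if_pos hp2, if_neg hq2] at f2
    omega
  · rw [if_neg hp2] at f2
    by_cases hq2 : q = 2
    · rw [if_pos hq2] at f2
      have hb : b = 3 := by omega
      have hq7 : q ≠ 7 := by rw [hq2]; norm_num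
      rw [if_neg hq7] at f7
      by_cases hp7 : p = 7
      · rw [if_pos hp7] at f7
        have ha1 : a = 1 := by omega
        rw [hN, hp7, hq2, ha1, hb]
        norm_num
      · rw [if_neg hp7] at f7
        omega
    · rw [if_neg hq2] at f2
      omega

end Cfsg.Agent.S4501P
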