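import Mathlib
import Cfsg.Agent.Helper18.S4501AR7

set_option autoImplicit false

/-! S4501 piece AR4: the arithmetic endgame `|G| = 60` or `4·3·5^k`. -/

namespace Cfsg.Agent.S4501P

theorem arith4 (p q a b : ℕ) (hp : p.Prime) (hq : q.Prime) (hpq : p ≠ q) (ha : a ≤ 2)
    (p3 : p ≠ 3) (q3 : q ≠ 3)
    (c : ℕ) (hc : 15 * c ^ 2 = 4 * (3 * p ^ a * q ^ b)) (hcN : c ∣ 3 * p ^ a * q ^ b)
    (hS : 2 ^ (3 * p ^ a * q ^ b).factorization 2 ∣ c) :
    3 * p ^ a * q ^ b = 60 ∨ ∃ k : ℕ, 3 * p ^ a * q ^ b = 4 * 3 ^ 1 * 5 ^ k := by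
  have : Fact (Nat.Prime 2) := ⟨Nat.prime_two⟩
  have h5p : Nat.Prime 5 := by norm_num
  have : Fact (Nat.Prime 5) := ⟨h5p⟩
  set N := 3 * p ^ a * q ^ b with hN
  have hN0 : N ≠ 0 := by
    rw [hN]
    have := hp.pos; have := hq.pos
    positivity
  have hc0 : c ≠ 0 := by
    rintro rfl
    simp at hc
    omega
  have e2 : 2 * padicValNat 2 c = 2 + padicValNat 2 N := by
    have h := congrArg (padicValNat 2) hc
    rw [padicValNat.mul (by norm_num) (pow_ne_zero _ hc0), padicValNat.pow,
      padicValNat.mul (by norm_num) hN0] at h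
    have h15 : padicValNat 2 15 = 0 := by
      apply padicValNat.eq_zero_of_not_dvd; norm_num
    have h4 : padicValNat 2 4 = 2 := by
      have : (4 : ℕ) = 2 ^ 2 := by norm_num
      rw [this, padicValNat.prime_pow]
    omega
  have hS' : padicValNat 2 N ≤ padicValNat 2 c := by
    rw [Nat.factorization_def N Nat.prime_two] at hS
    exact (padicValNat_dvd_iff_le hc0).mp hS
  have hcN' : padicValNat 2 c ≤ padicValNat 2 N := by
    have := (padicValNat_dvd_iff_le (p := 2) hN0 (n := padicValNat 2 c)).mp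
      ((pow_padicValNat_dvd).trans hcN)
    exact this
  have hv2N : padicValNat 2 N = 2 := by omega
  have e5 : 1 + 2 * padicValNat 5 c = padicValNat 5 N := by
    have h := congrArg (padicValNat 5) hc
    rw [padicValNat.mul (by norm_num) (pow_ne_zero _ hc0), padicValNat.pow,
      padicValNat.mul (by norm_num) hN0] at h
    have h15 : padicValNat 5 15 = 1 := by
      have : (15 : ℕ) = 5 * 3 := by norm_num
      rw [this, padicValNat.mul (by norm_num) (by norm_num), padicValNat_self]
      have : padicValNat 5 3 = 0 := by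
        apply padicValNat.eq_zero_of_not_dvd; norm_num
      omega
    have h4 : padicValNat 5 4 = 0 := by
      apply padicValNat.eq_zero_of_not_dvd; norm_num
    omega
  have f2 := val_three_mul 2 p q a b Nat.prime_two hp hq (by norm_num)
  have f5 := val_three_mul 5 p q a b h5p hp hq (by norm_num)
  rw [← hN] at f2 f5
  rw [hv2N] at f2
  by_cases hp2 : p = 2
  · have hq2 : q ≠ 2 := fun h => hpq (hp2.trans h.symm)
    rw [if_pos hp2, if_neg hq2] at f2
    have ha2 : a = 2 := by omega
    have hp5 : p ≠ 5 := by rw [hp2]; norm_num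
    rw [if_neg hp5] at f5
    by_cases hq5 : q = 5
    · right
      refine ⟨b, ?_⟩
      rw [hN, hp2, hq5, ha2]
      ring
    · rw [if_neg hq5] at f5
      omega
  · rw [if_neg hp2] at f2
    by_cases hq2 : q = 2
    · rw [if_pos hq2] at f2
      have hb : b = 2 := by omega
      have hq5 : q ≠ 5 := by rw [hq2]; norm_num
      rw [if_neg hq5] at f5
      by_cases hp5 : p = 5
      · rw [if_pos hp5] at f5
        have ha1 : a = 1 := by omega
        left
        rw [hN, hp5, hq2, ha1, hb]
        norm_num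
      · rw [if_neg hp5] at f5
        omega
    · rw [if_neg hq2] at f2
      omega

end Cfsg.Agent.S4501P
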