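import Mathlib
import Cfsg.Agent.Helper18.CensusB
import Cfsg.Agent.Helper18.PSL27b
import Cfsg.Agent.S0999
import Cfsg.Agent.S4501
import Cfsg.Agent.S0904

/-!
# Census engine, part C: certificates from Brauer-Reynolds (S0999), S4501 and S0904
-/

set_option autoImplicit false

namespace Cfsg.Agent.Helper18.Census

universe u

/-- Brauer-Reynolds certificate: a prime `p ∣ n` with `n < p^3`, and `n` is not the order of
`PSL(2,p)` or `PSL(2,p-1)`. -/
def checkBr (n p : ℕ) : Bool :=
  isPrimeB p && decide (n % p = 0) && decide (n < p ^ 3) && decide (2 * n ≠ p * (p * p - 1)) &&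
    decide (n ≠ (p - 1) * p * (p - 2))

theorem card_psl2_odd {F : Type} [Field F] [Fintype F] (p : ℕ) (hF : Fintype.card F = p)
    (hp3 : 3 < p) (hodd : p % 2 = 1) :
    2 * Nat.card (Matrix.ProjectiveSpecialLinearGroup (Fin 2) F) = p * (p * p - 1) := by
  have h := Cfsg.Agent.Helper18.PSL27.card_psl2 p hF (by omega)
  obtain ⟨k, rfl⟩ : ∃ k, p = 2 * k + 3 := ⟨(p - 3) / 2, by omega⟩
  have hg : Nat.gcd 2 (2 * k + 3 - 1) = 2 := by
    have : 2 * k + 3 - 1 = 2 * (k + 1) := by omega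
    rw [this]; exact Nat.gcd_mul_right_right (k + 1) 2
  rw [hg] at h
  have e1 : 2 * k + 3 - 1 = 2 * k + 2 := by omega
  have e2 : (2 * k + 3) ^ 2 - 1 = (2 * k + 2) * (2 * k + 4) := by
    have : (2 * k + 3) ^ 2 = (2 * k + 2) * (2 * k + 4) + 1 := by ring
    omega
  have e3 : (2 * k + 3) ^ 2 - (2 * k + 3) = (2 * k + 3) * (2 * k + 2) := by
    have : (2 * k + 3) ^ 2 = (2 * k + 3) * (2 * k + 2) + (2 * k + 3) := by ring
    omega
  have e4 : (2 * k + 3) * (2 * k + 3) - 1 = (2 * k + 2) * (2 * k + 4) := by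
    have : (2 * k + 3) * (2 * k + 3) = (2 * k + 2) * (2 * k + 4) + 1 := by ring
    omega
  rw [e1, e2, e3] at h
  rw [e4]
  have hpos : 0 < 2 * k + 2 := by omega
  apply Nat.eq_of_mul_eq_mul_right hpos
  nlinarith [h]

theorem card_psl2_even {F : Type} [Field F] [Fintype F] (q : ℕ) (hF : Fintype.card F = q)
    (hq3 : 3 ≤ q) (heven : q % 2 = 0) :
    Nat.card (Matrix.ProjectiveSpecialLinearGroup (Fin 2) F) = q * (q + 1) * (q - 1) := by
  have h := Cfsg.Agent.Helper18.PSL27.card_psl2 q hF (by omega)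
  obtain ⟨k, rfl⟩ : ∃ k, q = 2 * k + 4 := ⟨(q - 4) / 2, by omega⟩
  have hg : Nat.gcd 2 (2 * k + 4 - 1) = 1 := by
    have : 2 * k + 4 - 1 = 2 * (k + 1) + 1 := by omega
    rw [this]
    have : Nat.Coprime 2 (2 * (k + 1) + 1) := by
      rw [Nat.coprime_comm, Nat.coprime_two_right]
      exact ⟨k + 1, rfl⟩
    exact this
  rw [hg] at h
  have e1 : 2 * k + 4 - 1 = 2 * k + 3 := by omega
  have e2 : (2 * k + 4) ^ 2 - 1 = (2 * k + 3) * (2 * k + 5) := by
    have : (2 * k + 4) ^ 2 = (2 * k + 3) * (2 * k + 5) + 1 := by ring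
    omega
  have e3 : (2 * k + 4) ^ 2 - (2 * k + 4) = (2 * k + 4) * (2 * k + 3) := by
    have : (2 * k + 4) ^ 2 = (2 * k + 4) * (2 * k + 3) + (2 * k + 4) := by ring
    omega
  rw [e1, e2, e3] at h
  rw [e1]
  have hpos : 0 < 2 * k + 3 := by omega
  apply Nat.eq_of_mul_eq_mul_right hpos
  nlinarith [h]

theorem checkBr_sound {n p : ℕ} (h : checkBr n p = true) : NoSimple.{u} n := by
  unfold checkBr at h
  simp only [Bool.and_eq_true, decide_eq_true_eq] at h
  obtain ⟨⟨⟨⟨hp, hdvd⟩, hlt⟩, h1⟩, h2⟩ := h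
  have hp' : p.Prime := isPrimeB_sound hp
  intro G _ _ _ hG hcard
  have hcyc : ¬ IsCyclic G := by
    intro hc
    apply hG
    exact ⟨⟨fun a b => (IsCyclic.commGroup (α := G)).mul_comm a b⟩⟩
  have hd : p ∣ Nat.card G := by rw [hcard]; exact Nat.dvd_of_mod_eq_zero hdvd
  rcases Cfsg.Agent.S0999.result hcyc p hp' hd (by rw [hcard]; exact hlt) with
    ⟨F, _, _, hF, hp3, ⟨e⟩⟩ | ⟨m, F, _, _, hF, hpm, hp3, ⟨e⟩⟩
  · have hodd : p % 2 = 1 := by
      rcases hp'.eq_two_or_odd with h | h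
      · omega
      · exact h
    have := card_psl2_odd p hF hp3 hodd
    rw [← Nat.card_congr e.toEquiv, hcard] at this
    exact h1 this
  · have hq : Fintype.card F = p - 1 := by rw [hF, hpm]; simp
    have hm0 : m ≠ 0 := by
      rintro rfl
      simp at hpm
      omega
    have heven : (p - 1) % 2 = 0 := by
      rw [hpm]
      simp only [Nat.add_sub_cancel]
      obtain ⟨j, rfl⟩ := Nat.exists_eq_succ_of_ne_zero hm0
      rw [pow_succ]
      omega
    have := card_psl2_even (p - 1) hq (by omega) heven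
    rw [← Nat.card_congr e.toEquiv, hcard] at this
    apply h2
    rw [this]
    have e1 : p - 1 + 1 = p := by omega
    have e2 : p - 1 - 1 = p - 2 := by omega
    rw [e1, e2]

/-- S4501 certificate: `n = c * p^a * q^b` with `c ∈ {3, 4}`, `a ≤ 2`. -/
def checkS4501 (n c p a q b : ℕ) : Bool :=
  isPrimeB p && isPrimeB q && decide (p ≠ q) && decide (a ≤ 2) && decide (c = 3 ∨ c = 4) &&
    decide (n = c * p ^ a * q ^ b) && decide (n ≠ 60) && decide (n ≠ 168)

theorem card_alt5 : Nat.card (alternatingGroup (Fin 5)) = 60 := by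
  have h := two_mul_nat_card_alternatingGroup (α := Fin 5)
  rw [Nat.card_eq_fintype_card (α := Equiv.Perm (Fin 5)), Fintype.card_perm, Fintype.card_fin] at h
  have : Nat.factorial 5 = 120 := by decide
  omega

theorem checkS4501_sound {n c p a q b : ℕ} (h : checkS4501 n c p a q b = true) :
    NoSimple.{u} n := by
  unfold checkS4501 at h
  simp only [Bool.and_eq_true, decide_eq_true_eq] at h
  obtain ⟨⟨⟨⟨⟨⟨⟨hp, hq⟩, hpq⟩, ha⟩, hc⟩, hn⟩, h60⟩, h168⟩ := h
  intro G _ _ _ hG hcard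
  have hna : ∃ x y : G, x * y ≠ y * x := by
    by_contra hcon
    push Not at hcon
    exact hG ⟨⟨hcon⟩⟩
  obtain ⟨h4, h3⟩ := Cfsg.Agent.S4501.result hna p q a b (isPrimeB_sound hp) (isPrimeB_sound hq)
    hpq ha
  have key : Nonempty (G ≃* alternatingGroup (Fin 5)) ∨
      Nonempty (G ≃* Matrix.ProjectiveSpecialLinearGroup (Fin 2) (ZMod 7)) := by
    rcases hc with rfl | rfl
    · exact h3 (hcard.trans hn)
    · exact Or.inl (h4 (hcard.trans hn))
  rcases key with ⟨⟨e⟩⟩ | ⟨⟨e⟩⟩
  · apply h60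
    rw [← hcard, Nat.card_congr e.toEquiv, card_alt5]
  · apply h168
    have : Fact (Nat.Prime 7) := ⟨by norm_num⟩
    rw [← hcard, Nat.card_congr e.toEquiv]
    exact Cfsg.Agent.Helper18.PSL27.card_psl27 (F := ZMod 7) (ZMod.card 7)

/-- S0904 certificate: `n = p^a q^b r` and the Sylow `r`-subgroup is self-centralizing,
so `|N(R)| = r e` with `e ∣ r - 1`. -/
def checkSc3 (n p a q b r : ℕ) : Bool :=
  isPrimeB p && isPrimeB q && isPrimeB r && decide (p ≠ q) && decide (p ≠ r) && decide (q ≠ r) &&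
    decide (n = p ^ a * q ^ b * r) && decide ((p ^ a * q ^ b) % r ≠ 0) &&
  (List.range ((p ^ a * q ^ b) / r + 1)).all
    (fun k => decide (k = 0) || decide ((p ^ a * q ^ b) % (k * r + 1) ≠ 0) ||
      (decide (k * r + 1 ≤ 30) && !(decide (2 * n ∣ (k * r + 1).factorial))) ||
      !(decide ((p ^ a * q ^ b) / (k * r + 1) ∣ r - 1)))

theorem checkSc3_sound {n p a q b r : ℕ} (h : checkSc3 n p a q b r = true) : NoSimple.{u} n := by
  unfold checkSc3 at h
  simp only [Bool.and_eq_true, decide_eq_true_eq, List.all_eq_true, List.mem_range,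
    Bool.or_eq_true, Bool.not_eq_true', decide_eq_false_iff_not] at h
  obtain ⟨⟨⟨⟨⟨⟨⟨⟨hp, hq⟩, hr⟩, hpq⟩, hpr⟩, hqr⟩, hn⟩, hmr⟩, hall⟩ := h
  have hp' : p.Prime := isPrimeB_sound hp
  have hq' : q.Prime := isPrimeB_sound hq
  have hr' : r.Prime := isPrimeB_sound hr
  intro G _ _ _ hG hcard
  have : Fact r.Prime := ⟨hr'⟩
  set m := p ^ a * q ^ b with hmdef
  have hG' : Nat.card G = m * r ^ 1 := by rw [pow_one]; exact hcard.trans hn
  have hm : ¬ r ∣ m := fun hd => hmr (Nat.mod_eq_zero_of_dvd hd)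
  have hrn : r ∣ Nat.card G := by rw [hG', pow_one]; exact Dvd.intro_left _ rfl
  have hmem := Cfsg.Agent.Helper11.card_sylow_mem_filter m 1 hG' hm
  rw [Finset.mem_filter, Nat.mem_divisors] at hmem
  obtain ⟨⟨hdm, hm0⟩, hd1⟩ := hmem
  have hne1 := Cfsg.Agent.Helper11.simple_card_sylow_ne_one hG r hrn
  set d := Nat.card (Sylow r G) with hd
  have hdle : d ≤ m := Nat.le_of_dvd (Nat.pos_of_ne_zero hm0) hdm
  have hdk : d = d / r * r + 1 := by
    have := Nat.div_add_mod d r
    rw [hd1] at this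
    rw [mul_comm]; exact this.symm
  have hk0 : d / r ≠ 0 := by
    intro h0
    rw [h0] at hdk
    omega
  have hklt : d / r < m / r + 1 := by
    have : d / r ≤ m / r := Nat.div_le_div_right hdle
    omega
  have hd0 : 0 < d := Nat.pos_of_ne_zero (by intro h0; rw [h0] at hdk; omega)
  rcases hall (d / r) hklt with ((h1 | h1) | h1) | h1
  · exact hk0 h1
  · rw [← hdk] at h1
    exact h1 (Nat.mod_eq_zero_of_dvd hdm)
  · rw [← hdk] at h1
    apply h1.2
    have := Cfsg.Agent.Helper11.simple_two_mul_card_dvd_factorial_card_sylow hG r hrn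
    rwa [hcard] at this
  · rw [← hdk] at h1
    apply h1
    obtain ⟨S⟩ : Nonempty (Sylow r G) := inferInstance
    have hS : Nat.card ↥(S : Subgroup G) = r := by
      have := (Cfsg.Agent.Helper11.sylow_card_of_card_eq_pow m 1 hG' hm S).1
      rwa [pow_one] at this
    have hC : Subgroup.centralizer ((S : Subgroup G) : Set G) = (S : Subgroup G) :=
      Cfsg.Agent.S0904.result p q r a b hp' hq' hpq hpr hqr (hcard.trans hn) S
    have hNd : d * Nat.card ↥(Subgroup.normalizer ((S : Subgroup G) : Set G)) = m * r := by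
      have h0 := Cfsg.Agent.Helper11.card_sylow_mul_card_normalizer S
      rw [hG', pow_one] at h0
      exact h0
    have h2 := Cfsg.Agent.Helper11.relIndex_mul_card
      (Subgroup.centralizer_le_normalizer ((S : Subgroup G) : Set G))
    rw [hC, hS] at h2
    have h3 := Cfsg.Agent.Helper11.relIndex_centralizer_normalizer_dvd_card_mulAut (S : Subgroup G)
    have hcycS : IsCyclic ↥(S : Subgroup G) := isCyclic_of_prime_card hS
    rw [IsCyclic.card_mulAut, hS, Nat.totient_prime hr', hC] at h3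
    set e := ((S : Subgroup G)).relIndex (Subgroup.normalizer ((S : Subgroup G) : Set G)) with he
    rw [← h2] at hNd
    have h4 : d * e = m := by
      have : d * (e * r) = m * r := hNd
      have hrpos : 0 < r := hr'.pos
      apply Nat.eq_of_mul_eq_mul_right hrpos
      rw [mul_assoc]; exact this
    have h5 : m / d = e := by
      rw [← h4, Nat.mul_div_cancel_left _ hd0]
    rw [h5]
    exact h3

end Cfsg.Agent.Helper18.Census
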