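import Mathlib

/-! S0997/S0998 reduction pieces R-98A and R-98B (arithmetic). -/

set_option autoImplicit false

namespace Cfsg.Agent.S0997R

namespace R98

/-- `2^m * s = r * q^b`, `s` odd, `m ≥ 2`, `q ≠ r` primes: then `q = 2` and `r = s`. -/
theorem core {m s r q b : ℕ} (hm : 2 ≤ m) (hs : s % 2 = 1) (hq : q.Prime) (hr : r.Prime)
    (hqr : q ≠ r) (h : 2 ^ m * s = r * q ^ b) : q = 2 ∧ r = s := by
  have hq2 : q = 2 := by
    by_contra hne
    have hcop : Nat.Coprime (2 ^ m) (q ^ b) := by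
      apply Nat.Coprime.pow
      exact (Nat.coprime_primes Nat.prime_two hq).mpr (Ne.symm hne)
    have hd : 2 ^ m ∣ r * q ^ b := ⟨s, h.symm⟩
    have hd2 : 2 ^ m ∣ r := hcop.dvd_of_dvd_mul_right hd
    have h4 : 4 ∣ r := by
      have : (4 : ℕ) ∣ 2 ^ m := by
        obtain ⟨k, rfl⟩ : ∃ k, m = 2 + k := ⟨m - 2, by omega⟩
        rw [pow_add]; exact Dvd.intro _ rfl
      exact this.trans hd2
    have h2r : 2 ∣ r := (by norm_num : (2 : ℕ) ∣ 4).trans h4
    have := (Nat.prime_dvd_prime_iff_eq Nat.prime_two hr).mp h2r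
    omega
  refine ⟨hq2, ?_⟩
  subst hq2
  have hr2 : r ≠ 2 := fun h' => hqr h'.symm
  have hrodd : r % 2 = 1 := by
    rcases hr.eq_two_or_odd with h' | h'
    · exact absurd h' hr2
    · exact h'
  have hcr : ∀ k, Nat.Coprime r (2 ^ k) := fun k => by
    apply Nat.Coprime.pow_right
    exact (Nat.coprime_primes hr Nat.prime_two).mpr hr2
  have hcs : ∀ k, Nat.Coprime s (2 ^ k) := fun k => by
    apply Nat.Coprime.pow_right
    exact Nat.coprime_two_right.mpr (Nat.odd_iff.mpr hs)
  have h1 : r ∣ s := by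
    have : r ∣ 2 ^ m * s := ⟨2 ^ b, h⟩
    exact ((hcr m).dvd_of_dvd_mul_left this)
  have h2 : s ∣ r := by
    have : s ∣ r * 2 ^ b := ⟨2 ^ m, by rw [← h]; ring⟩
    exact ((hcs b).dvd_of_dvd_mul_right this)
  exact Nat.dvd_antisymm h1 h2

theorem four_ne {r q b : ℕ} (hq : q.Prime) (hr : r.Prime) (hqr : q ≠ r) : r * q ^ b ≠ 4 := by
  intro h
  have hr4 : r ∣ 4 := ⟨q ^ b, h.symm⟩
  have hr2 : r = 2 := by
    have : r ∣ 2 ^ 2 := by norm_num; exact hr4
    exact (Nat.prime_dvd_prime_iff_eq hr Nat.prime_two).mp (hr.dvd_of_dvd_pow this)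
  subst hr2
  have h2 : q ^ b = 2 := by omega
  have hq2 : q ∣ 2 := by
    rcases Nat.eq_zero_or_pos b with rfl | hb
    · simp at h2
    · rw [← h2]; exact dvd_pow_self q (by omega)
  have := (Nat.prime_dvd_prime_iff_eq hq Nat.prime_two).mp hq2
  exact hqr this

theorem three_dvd_of_odd {k : ℕ} (hk : k % 2 = 1) : 3 ∣ 2 ^ k + 1 := by
  have h := Odd.nat_add_dvd_pow_add_pow 2 1 (Nat.odd_iff.mpr hk)
  simpa using h

end R98

/-- R-98A -/
theorem arith98_a {p q r b m n : ℕ} (hp : p.Prime) (hq : q.Prime) (hr : r.Prime) (hqr : q ≠ r)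
    (hm : p = 2 ^ m + 1 ∨ p = 2 ^ m - 1) (hpn : p = 2 * n + 1)
    (h : (p + 1) * (p * n) = p * r * q ^ b) : p = 5 ∨ p = 7 := by
  have h' : (p + 1) * n = r * q ^ b := by
    apply Nat.eq_of_mul_eq_mul_left hp.pos
    calc p * ((p + 1) * n) = (p + 1) * (p * n) := by ring
      _ = p * r * q ^ b := h
      _ = p * (r * q ^ b) := by ring
  rcases hm with hm | hm
  · -- p = 2^m + 1
    left
    have hm0 : m ≠ 0 := by
      rintro rfl
      simp at hm
      omega
    obtain ⟨k, rfl⟩ := Nat.exists_eq_succ_of_ne_zero hm0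
    have hn : n = 2 ^ k := by
      have : 2 ^ (k + 1) = 2 * 2 ^ k := by rw [pow_succ]; ring
      omega
    rcases Nat.eq_zero_or_pos k with rfl | hk
    · exfalso
      simp at hn
      subst hn
      have hp3 : p = 3 := by omega
      subst hp3
      exact R98.four_ne hq hr hqr (b := b) (by omega)
    · have heq : 2 ^ (k + 1) * (2 ^ k + 1) = r * q ^ b := by
        rw [← h', hm, hn]
        have : 2 ^ (k + 1) = 2 * 2 ^ k := by rw [pow_succ]; ring
        rw [this]; ring
      have hsodd : (2 ^ k + 1) % 2 = 1 := by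
        obtain ⟨j, rfl⟩ := Nat.exists_eq_succ_of_ne_zero hk.ne'
        rw [pow_succ]; omega
      obtain ⟨-, hrs⟩ := R98.core (by omega) hsodd hq hr hqr heq
      -- one of k, k+1 is odd
      rcases Nat.even_or_odd k with hev | hodd
      · -- k+1 odd: 3 ∣ p
        exfalso
        have hk1 : (k + 1) % 2 = 1 := by
          have := Nat.even_iff.mp hev; omega
        have h3 := R98.three_dvd_of_odd hk1
        rw [← hm] at h3
        have := (Nat.prime_dvd_prime_iff_eq Nat.prime_three hp).mp h3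
        have h4 : 2 ^ (k + 1) ≥ 4 := by
          obtain ⟨j, rfl⟩ := Nat.exists_eq_succ_of_ne_zero hk.ne'
          have : 2 ^ (j + 1 + 1) = 4 * 2 ^ j := by rw [pow_succ, pow_succ]; ring
          have : 0 < 2 ^ j := by positivity
          omega
        omega
      · have h3 := R98.three_dvd_of_odd (Nat.odd_iff.mp hodd)
        rw [← hrs] at h3
        have h3r := (Nat.prime_dvd_prime_iff_eq Nat.prime_three hr).mp h3
        have hk1 : 2 ^ k = 2 := by omega
        have : k = 1 := by
          have : 2 ^ k = 2 ^ 1 := by simpa using hk1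
          exact Nat.pow_right_injective (le_refl 2) this
        subst this
        rw [hm]; norm_num
  · -- p = 2^m - 1
    right
    have hm2 : 2 ≤ m := by
      by_contra hlt
      have : m = 0 ∨ m = 1 := by omega
      rcases this with rfl | rfl
      · simp at hm; subst hm; exact Nat.not_prime_zero hp
      · simp at hm; subst hm; exact Nat.not_prime_one hp
    obtain ⟨k, rfl⟩ : ∃ k, m = k + 1 := ⟨m - 1, by omega⟩
    have hpow : 2 ^ (k + 1) = 2 * 2 ^ k := by rw [pow_succ]; ring
    have hkpos : 0 < 2 ^ k := by positivity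
    have hk1 : 1 ≤ k := by omega
    have h2k : 2 ≤ 2 ^ k := by
      obtain ⟨j, rfl⟩ : ∃ j, k = j + 1 := ⟨k - 1, by omega⟩
      rw [pow_succ]
      have : 0 < 2 ^ j := by positivity
      omega
    have hn : n = 2 ^ k - 1 := by omega
    rcases Nat.eq_or_lt_of_le hk1 with rfl | hk2
    · exfalso
      norm_num at hn hm
      subst hn; subst hm
      exact R98.four_ne hq hr hqr (b := b) (by omega)
    · have h4k : 4 ≤ 2 ^ k := by
        obtain ⟨j, rfl⟩ : ∃ j, k = j + 2 := ⟨k - 2, by omega⟩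
        rw [pow_succ, pow_succ]
        have : 0 < 2 ^ j := by positivity
        omega
      have heq : 2 ^ (k + 1) * (2 ^ k - 1) = r * q ^ b := by
        rw [← h', hm, hn]
        have : 2 ^ (k + 1) - 1 + 1 = 2 ^ (k + 1) := by omega
        rw [this]
      have hsodd : (2 ^ k - 1) % 2 = 1 := by
        obtain ⟨j, rfl⟩ : ∃ j, k = j + 1 := ⟨k - 1, by omega⟩
        rw [pow_succ]
        have : 0 < 2 ^ j := by positivity
        omega
      obtain ⟨-, hrs⟩ := R98.core (by omega) hsodd hq hr hqr heq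
      have hr' : (2 ^ k - 1).Prime := hrs ▸ hr
      have hp' : (2 ^ (k + 1) - 1).Prime := hm ▸ hp
      have hkp := (Nat.prime_of_pow_sub_one_prime (by omega) hr').2
      have hk1p := (Nat.prime_of_pow_sub_one_prime (by omega) hp').2
      -- k and k+1 both prime: k = 2
      have : k = 2 := by
        rcases hkp.eq_two_or_odd with h2 | hodd
        · exact h2
        · exfalso
          rcases hk1p.eq_two_or_odd with h2 | hodd'
          · omega
          · omega
      subst this
      rw [hm]; norm_num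

/-- R-98B -/
theorem arith98_b {p q r b m : ℕ} (hp : p.Prime) (hq : q.Prime) (hr : r.Prime) (hqr : q ≠ r)
    (hpm : p = 2 ^ m + 1) (h3 : 3 < p)
    (h : (2 ^ m + 1) * (2 ^ m * (2 ^ m - 1)) = p * r * q ^ b) : m = 2 := by
  have h' : 2 ^ m * (2 ^ m - 1) = r * q ^ b := by
    apply Nat.eq_of_mul_eq_mul_left hp.pos
    calc p * (2 ^ m * (2 ^ m - 1)) = (2 ^ m + 1) * (2 ^ m * (2 ^ m - 1)) := by rw [hpm]
      _ = p * r * q ^ b := h
      _ = p * (r * q ^ b) := by ring
  have hm2 : 2 ≤ m := by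
    by_contra hlt
    have : m = 0 ∨ m = 1 := by omega
    rcases this with rfl | rfl <;> norm_num at hpm <;> omega
  obtain ⟨k, rfl⟩ : ∃ k, m = k + 2 := ⟨m - 2, by omega⟩
  have hpow : 2 ^ (k + 2) = 4 * 2 ^ k := by rw [pow_succ, pow_succ]; ring
  have hkpos : 0 < 2 ^ k := by positivity
  have hsodd : (2 ^ (k + 2) - 1) % 2 = 1 := by omega
  obtain ⟨-, hrs⟩ := R98.core (by omega) hsodd hq hr hqr h'
  -- 3 divides 2^m - 1 or 2^m + 1
  have hmod : (2 ^ (k + 2)) % 3 = 1 ∨ (2 ^ (k + 2)) % 3 = 2 := by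
    have h2 : ∀ j : ℕ, (2 ^ j) % 3 = 1 ∨ (2 ^ j) % 3 = 2 := by
      intro j
      induction j with
      | zero => left; norm_num
      | succ j ih =>
        rw [pow_succ]
        rcases ih with h | h <;> omega
    exact h2 _
  rcases hmod with h1 | h1
  · have h3r : 3 ∣ r := by
      rw [hrs]; omega
    have := (Nat.prime_dvd_prime_iff_eq Nat.prime_three hr).mp h3r
    have : 2 ^ k = 1 := by omega
    have : k = 0 := by
      by_contra hk
      obtain ⟨j, rfl⟩ := Nat.exists_eq_succ_of_ne_zero hk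
      rw [pow_succ] at this
      omega
    omega
  · exfalso
    have h3p : 3 ∣ p := by
      rw [hpm]; omega
    have := (Nat.prime_dvd_prime_iff_eq Nat.prime_three hp).mp h3p
    omega

end Cfsg.Agent.S0997R
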