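import Mathlib
import Cfsg.Agent.Helper18.CensusC
import Cfsg.Agent.Helper18.S0997R98A
import Cfsg.Agent.S0252
import Cfsg.Agent.S0253

/-! S0998 from the S0997 statement: piece R-98M. -/

set_option autoImplicit false

namespace Cfsg.Agent.S0997R

universe u

namespace R98M

open Cfsg.Agent.Helper18.Census

/-- The statement of S0997, as a hypothesis. -/
def HypTuan (G : Type u) [Group G] : Prop :=
  ∀ (p q b g₀ : ℕ), p.Prime → q.Prime → p ≠ q → Nat.card G = p * q ^ b * g₀ → g₀ < p - 1 →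
      (∃ (m : ℕ) (F : Type) (_ : Field F) (_ : Fintype F), Fintype.card F = p ∧
        (p = 2 ^ m + 1 ∨ p = 2 ^ m - 1) ∧
        Nonempty (G ≃* Matrix.ProjectiveSpecialLinearGroup (Fin 2) F)) ∨
      (∃ (m : ℕ) (F : Type) (_ : Field F) (_ : Fintype F), Fintype.card F = 2 ^ m ∧ p = 2 ^ m + 1 ∧
        3 < p ∧ Nonempty (G ≃* Matrix.ProjectiveSpecialLinearGroup (Fin 2) F))

theorem aux {G : Type u} [Group G] [Finite G] [IsSimpleGroup G] (hG : ¬ IsCyclic G)
    (H : HypTuan G)
    (p q r b : ℕ) (hp : p.Prime) (hq : q.Prime) (hr : r.Prime) (hpq : p ≠ q) (hpr : p ≠ r)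
    (hqr : q ≠ r) (hG' : Nat.card G = p * r * q ^ b) (hrp : r < p) :
    (∃ (F : Type) (_ : Field F) (_ : Fintype F), Fintype.card F = 5 ∧
      Nonempty (G ≃* Matrix.ProjectiveSpecialLinearGroup (Fin 2) F)) ∨
    (∃ (F : Type) (_ : Field F) (_ : Fintype F), Fintype.card F = 7 ∧
      Nonempty (G ≃* Matrix.ProjectiveSpecialLinearGroup (Fin 2) F)) := by
  have hr2 := hr.two_le
  have hna : ∃ x y : G, x * y ≠ y * x := by
    by_contra hcon
    push Not at hcon
    apply hG
    let _ : CommGroup G := { (inferInstance : Group G) with mul_comm := hcon }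
    exact IsSimpleGroup.isCyclic
  by_cases hr1 : r = p - 1
  · -- r = 2, p = 3
    exfalso
    have hp3 : p = 3 := by
      rcases hp.eq_two_or_odd with h | h
      · omega
      · rcases hr.eq_two_or_odd with h' | h'
        · omega
        · omega
    have hr2' : r = 2 := by omega
    subst hp3; subst hr2'
    obtain ⟨-, h3⟩ := Cfsg.Agent.S4501.result hna 2 q 1 b Nat.prime_two hq (Ne.symm hqr)
      (by norm_num)
    have hc : Nat.card G = 3 * 2 ^ 1 * q ^ b := by rw [hG', pow_one]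
    rcases h3 hc with ⟨⟨e⟩⟩ | ⟨⟨e⟩⟩
    · have h60 : Nat.card G = 60 := by rw [Nat.card_congr e.toEquiv, card_alt5]
      rw [hG'] at h60
      have hqb : q ^ b = 10 := by omega
      have h2 : (2 : ℕ) ∣ q ^ b := by rw [hqb]; norm_num
      have := (Nat.prime_dvd_prime_iff_eq Nat.prime_two hq).mp (Nat.prime_two.dvd_of_dvd_pow h2)
      exact hqr this.symm
    · have : Fact (Nat.Prime 7) := ⟨by norm_num⟩
      have h168 : Nat.card G = 168 := by
        rw [Nat.card_congr e.toEquiv]
        exact Cfsg.Agent.Helper18.PSL27.card_psl27 (F := ZMod 7) (ZMod.card 7)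
      rw [hG'] at h168
      have hqb : q ^ b = 28 := by omega
      have h2 : (2 : ℕ) ∣ q ^ b := by rw [hqb]; norm_num
      have := (Nat.prime_dvd_prime_iff_eq Nat.prime_two hq).mp (Nat.prime_two.dvd_of_dvd_pow h2)
      exact hqr this.symm
  · have hlt : r < p - 1 := by omega
    have hc : Nat.card G = p * q ^ b * r := by rw [hG']; ring
    have hp5 : 3 < p := by
      rcases hp.eq_two_or_odd with h | h
      · omega
      · omega
    have hodd : p % 2 = 1 := by
      rcases hp.eq_two_or_odd with h | h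
      · omega
      · exact h
    rcases H p q b r hp hq hpq hc hlt with ⟨m, F, _, _, hF, hm, ⟨e⟩⟩ | ⟨m, F, _, _, hF, hpm, h3, ⟨e⟩⟩
    · have h1 := card_psl2_odd p hF hp5 hodd
      rw [← Nat.card_congr e.toEquiv, hG'] at h1
      obtain ⟨n, hn⟩ : ∃ n, p = 2 * n + 1 := ⟨p / 2, by omega⟩
      have h2 : (p + 1) * (p * n) = p * r * q ^ b := by
        have e1 : p * p - 1 = (p + 1) * (2 * n) := by
          have : p * p = (p + 1) * (2 * n) + 1 := by rw [hn]; ring
          omega
        rw [e1] at h1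
        have : 2 * ((p + 1) * (p * n)) = 2 * (p * r * q ^ b) := by
          rw [h1]; ring
        omega
      rcases arith98_a hp hq hr hqr hm hn h2 with h5 | h7
      · left; exact ⟨F, _, _, hF.trans h5, ⟨e⟩⟩
      · right; exact ⟨F, _, _, hF.trans h7, ⟨e⟩⟩
    · have hQ : Fintype.card F = p - 1 := by rw [hF, hpm]; simp
      have hm0 : m ≠ 0 := by
        rintro rfl
        simp at hpm
        omega
      have heven : (p - 1) % 2 = 0 := by
        rw [hpm]
        simp only [Nat.add_sub_cancel]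
        obtain ⟨j, rfl⟩ := Nat.exists_eq_succ_of_ne_zero hm0
        rw [pow_succ]
        omega
      have h1 := card_psl2_even (p - 1) hQ (by omega) heven
      rw [← Nat.card_congr e.toEquiv, hG'] at h1
      have h2 : (2 ^ m + 1) * (2 ^ m * (2 ^ m - 1)) = p * r * q ^ b := by
        rw [h1]
        have e1 : p - 1 = 2 ^ m := by rw [hpm]; simp
        rw [e1]; ring
      have hm2 := arith98_b hp hq hr hqr hpm h3 h2
      subst hm2
      left
      have hF4 : Fintype.card F = 4 := by rw [hF]; norm_num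
      obtain ⟨e4⟩ := Cfsg.Agent.S0252.result hF4
      have : Fact (Nat.Prime 5) := ⟨by norm_num⟩
      obtain ⟨e5⟩ := Cfsg.Agent.S0253.result (F := ZMod 5) (ZMod.card 5)
      exact ⟨ZMod 5, inferInstance, inferInstance, ZMod.card 5, ⟨(e.trans e4).trans e5.symm⟩⟩

end R98M

/-- R-98M -/
theorem s0998_of_s0997 {G : Type u} [Group G] [Finite G] [IsSimpleGroup G] (hG : ¬ IsCyclic G)
    (H : ∀ (p q b g₀ : ℕ), p.Prime → q.Prime → p ≠ q → Nat.card G = p * q ^ b * g₀ → g₀ < p - 1 →
      (∃ (m : ℕ) (F : Type) (_ : Field F) (_ : Fintype F), Fintype.card F = p ∧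
        (p = 2 ^ m + 1 ∨ p = 2 ^ m - 1) ∧
        Nonempty (G ≃* Matrix.ProjectiveSpecialLinearGroup (Fin 2) F)) ∨
      (∃ (m : ℕ) (F : Type) (_ : Field F) (_ : Fintype F), Fintype.card F = 2 ^ m ∧ p = 2 ^ m + 1 ∧
        3 < p ∧ Nonempty (G ≃* Matrix.ProjectiveSpecialLinearGroup (Fin 2) F)))
    (p q r b : ℕ) (hp : p.Prime) (hq : q.Prime) (hr : r.Prime) (hpq : p ≠ q) (hpr : p ≠ r)
    (hqr : q ≠ r) (hG' : Nat.card G = p * r * q ^ b) :
    (∃ (F : Type) (_ : Field F) (_ : Fintype F), Fintype.card F = 5 ∧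
      Nonempty (G ≃* Matrix.ProjectiveSpecialLinearGroup (Fin 2) F)) ∨
    (∃ (F : Type) (_ : Field F) (_ : Fintype F), Fintype.card F = 7 ∧
      Nonempty (G ≃* Matrix.ProjectiveSpecialLinearGroup (Fin 2) F)) := by
  rcases lt_or_gt_of_ne hpr with hlt | hgt
  · -- p < r: swap the roles
    exact R98M.aux hG H r q p b hr hq hp (Ne.symm hqr) (Ne.symm hpr) (Ne.symm hpq)
      (by rw [hG']; ring) hlt
  · exact R98M.aux hG H p q r b hp hq hr hpq hpr hqr hG' hgt

end Cfsg.Agent.S0997R
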