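import Mathlib
import Cfsg.Agent.Helper5.S0999Defs

/-! S0997 reduction piece R-INV. -/

set_option autoImplicit false

namespace Cfsg.Agent.S0997R

open Cfsg Cfsg.Agent.Helper24 Cfsg.Agent.S4503P

universe u

namespace RINV

/-- An automorphism of order two of a group of prime order is inversion. -/
theorem aut_inv {T : Type*} [Group T] [Finite T] {p : ℕ} [Fact p.Prime] (hT : Nat.card T = p)
    (α : MulAut T) (h2 : α * α = 1) (h1 : α ≠ 1) (y : T) : α y = y⁻¹ := by
  have hcyc : IsCyclic T := isCyclic_of_prime_card hT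
  have hcomm : ∀ a b : T, a * b = b * a := fun a b => (IsCyclic.commGroup (α := T)).mul_comm a b
  let F : Subgroup T :=
    { carrier := {x | α x = x}
      one_mem' := by simp
      mul_mem' := fun {a b} ha hb => by
        simp only [Set.mem_ofPred_eq] at ha hb ⊢
        rw [map_mul, ha, hb]
      inv_mem' := fun {a} ha => by
        simp only [Set.mem_ofPred_eq] at ha ⊢
        rw [map_inv, ha] }
  have hF : F = ⊥ := by
    have hfact : Fact (Nat.card T).Prime := ⟨by rw [hT]; exact Fact.out⟩
    rcases Subgroup.eq_bot_or_eq_top_of_prime_card F with h | h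
    · exact h
    · exfalso
      apply h1
      ext x
      have : x ∈ F := by rw [h]; trivial
      exact this
  have hz : y * α y ∈ F := by
    change α (y * α y) = y * α y
    rw [map_mul]
    have : α (α y) = y := by
      have := congrArg (fun β : MulAut T => β y) h2
      simpa using this
    rw [this, hcomm]
  rw [hF, Subgroup.mem_bot] at hz
  exact (eq_inv_of_mul_eq_one_right hz)

end RINV

/-- R-INV -/
theorem exists_conj_inv {G : Type u} [Group G] [Finite G] (p : ℕ) [Fact p.Prime] (P : Sylow p G)
    (hP : Nat.card P = p)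
    (hC : Subgroup.centralizer ((P : Subgroup G) : Set G) = (P : Subgroup G))
    (hf : Even (fN (P : Subgroup G))) :
    ∀ y ∈ (P : Subgroup G), ∃ g : G, g * y * g⁻¹ = y⁻¹ := by
  classical
  set φ := (P : Subgroup G).normalizerMonoidHom with hφ
  have hcard : Nat.card φ.range = fN (P : Subgroup G) := by
    rw [← Subgroup.index_ker, Subgroup.normalizerMonoidHom_ker]
    rfl
  have h2 : 2 ∣ Nat.card φ.range := by
    rw [hcard]; exact even_iff_two_dvd.mp hf
  have : Fact (Nat.Prime 2) := ⟨Nat.prime_two⟩
  obtain ⟨α, hα⟩ := exists_prime_orderOf_dvd_card' 2 h2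
  obtain ⟨g, hg⟩ := α.2
  have hα2 : (α : MulAut ↥(P : Subgroup G)) * (α : MulAut ↥(P : Subgroup G)) = 1 := by
    have := pow_orderOf_eq_one α
    rw [hα, pow_two] at this
    exact congrArg Subtype.val this
  have hα1 : (α : MulAut ↥(P : Subgroup G)) ≠ 1 := by
    intro h
    have : α = 1 := Subtype.ext h
    rw [this, orderOf_one] at hα
    omega
  intro y hy
  refine ⟨(g : G), ?_⟩
  have := RINV.aut_inv (T := ↥(P : Subgroup G)) hP (α : MulAut ↥(P : Subgroup G)) hα2 hα1 ⟨y, hy⟩
  rw [← hg] at this
  have h3 := congrArg Subtype.val this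
  rw [hφ] at h3
  exact h3

end Cfsg.Agent.S0997R
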