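import Mathlib

set_option autoImplicit false

/-!
General lemmas for the order-720 argument (no simple group of order 720 with ten Sylow 3-subgroups):
orbit-stabiliser for subgroups, a fixed point congruence, a parity lemma for involutions.
-/

namespace Cfsg.Agent.Helper18.NS720

open MulAction

/-- the stabiliser in the subgroup `H` (acting by restriction) has the order of `H ⊓ G_x`. -/
theorem card_stabilizer_subgroup {G X : Type*} [Group G] [MulAction G X]
    (H : Subgroup G) (x : X) :
    Nat.card (stabilizer H x) = Nat.card (H ⊓ stabilizer G x : Subgroup G) := by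
  have e : stabilizer H x = (stabilizer G x).subgroupOf H := by
    ext h
    rw [mem_stabilizer_iff, Subgroup.mem_subgroupOf, mem_stabilizer_iff]
    rfl
  rw [e, ← Subgroup.inf_subgroupOf_left]
  exact Nat.card_congr (Subgroup.subgroupOfEquivOfLe inf_le_left).toEquiv

/-- orbit-stabiliser for a subgroup. -/
theorem card_eq_orbit_mul_stab {G X : Type*} [Group G] [MulAction G X]
    (H : Subgroup G) (x : X) :
    Nat.card H = (orbit H x).ncard * Nat.card (H ⊓ stabilizer G x : Subgroup G) := by
  have h1 : (stabilizer H x).index = (orbit H x).ncard := index_stabilizer H x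
  have h2 : Nat.card (stabilizer H x) * (stabilizer H x).index = Nat.card H :=
    Subgroup.card_mul_index _
  rw [← card_stabilizer_subgroup, ← h1, ← h2, mul_comm]

/-- orbit-stabiliser inequality for a subgroup. -/
theorem card_le_ncard_mul_card_stab {G X : Type*} [Group G] [MulAction G X]
    (H : Subgroup G) (x : X) (S : Set X) (hS : S.Finite) (hmem : ∀ h ∈ H, h • x ∈ S) :
    Nat.card H ≤ S.ncard * Nat.card (H ⊓ stabilizer G x : Subgroup G) := by
  rw [card_eq_orbit_mul_stab H x]
  apply Nat.mul_le_mul_right
  apply Set.ncard_le_ncard _ hS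
  rintro _ ⟨h, rfl⟩
  exact hmem h h.2

/-- fixed point congruence: if the `p`-group `D` commutes with `t` and has the unique fixed point
`a`, then the number of fixed points of `t` is `1` mod `p`. -/
theorem card_fixed_modEq_one {G Ω : Type*} [Group G] [MulAction G Ω] [Finite Ω] (p : ℕ)
    [Fact p.Prime] (D : Subgroup G) (hD : IsPGroup p D) (t : G)
    (hcomm : ∀ x ∈ D, t * x = x * t) (a : Ω) (ha : ∀ ω : Ω, (∀ x ∈ D, x • ω = ω) ↔ ω = a) :
    Nat.card {ω : Ω // t • ω = ω} ≡ 1 [MOD p] := by
  let S : SubMulAction D Ω :=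
    { carrier := {ω | t • ω = ω}
      smul_mem' := by
        intro c ω hω
        have hω' : t • ω = ω := hω
        change t • ((c : G) • ω) = (c : G) • ω
        rw [← mul_smul, hcomm c c.2, mul_smul, hω'] }
  have h := hD.card_modEq_card_fixedPoints S
  have hta : t • a = a := by
    rw [← ha]
    intro x hx
    rw [← mul_smul, ← hcomm x hx, mul_smul, (ha a).2 rfl x hx]
  have h1 : Nat.card (fixedPoints D S) = 1 := by
    rw [Nat.card_eq_one_iff_unique]
    constructor
    · constructor
      rintro ⟨⟨ω, hω⟩, h1⟩ ⟨⟨ω', hω'⟩, h2⟩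
      have e1 : ω = a := by
        rw [← ha]
        intro x hx
        have := h1 ⟨x, hx⟩
        exact congrArg (fun z : S => (z : Ω)) this
      have e2 : ω' = a := by
        rw [← ha]
        intro x hx
        have := h2 ⟨x, hx⟩
        exact congrArg (fun z : S => (z : Ω)) this
      subst e1 e2
      rfl
    · refine ⟨⟨⟨a, hta⟩, ?_⟩⟩
      intro x
      apply Subtype.ext
      exact (ha a).2 rfl x x.2
  rw [h1] at h
  exact h

/-- an even involution moves a multiple of four points. -/
theorem four_dvd_card_support {Ω : Type*} [Fintype Ω] [DecidableEq Ω] (σ : Equiv.Perm Ω)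
    (h2 : σ * σ = 1) (hs : Equiv.Perm.sign σ = 1) : 4 ∣ σ.support.card := by
  have hord : orderOf σ ∣ 2 := orderOf_dvd_of_pow_eq_one (by rw [pow_two]; exact h2)
  have hct : ∀ n ∈ σ.cycleType, n = 2 := by
    intro n hn
    have h1 := Equiv.Perm.dvd_of_mem_cycleType hn
    have h2' := Equiv.Perm.two_le_of_mem_cycleType hn
    have := Nat.le_of_dvd (by norm_num) (h1.trans hord)
    omega
  have hrep : σ.cycleType = Multiset.replicate (Multiset.card σ.cycleType) 2 :=
    Multiset.eq_replicate_card.2 hct
  have hsum : σ.cycleType.sum = 2 * Multiset.card σ.cycleType := by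
    conv_lhs => rw [hrep]
    simp [mul_comm]
  rw [Equiv.Perm.sign_of_cycleType, hsum] at hs
  have hne : (-1 : ℤˣ) ≠ 1 := by decide
  have hev : Even (2 * Multiset.card σ.cycleType + Multiset.card σ.cycleType) :=
    (neg_one_pow_eq_one_iff_even hne).1 hs
  rw [← Equiv.Perm.sum_cycleType, hsum]
  obtain ⟨k, hk⟩ := hev
  exact ⟨k - Multiset.card σ.cycleType, by omega⟩

/-- fixed points plus support. -/
theorem card_fixed_add_support {G Ω : Type*} [Group G] [MulAction G Ω] [Fintype Ω]
    [DecidableEq Ω] (t : G) :
    Nat.card {ω : Ω // t • ω = ω} + (MulAction.toPerm t : Equiv.Perm Ω).support.card =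
      Fintype.card Ω := by
  classical
  rw [Nat.card_eq_fintype_card, Fintype.card_subtype]
  have hsupp : (MulAction.toPerm t : Equiv.Perm Ω).support =
      Finset.univ.filter (fun ω : Ω => ¬ t • ω = ω) := by
    ext ω
    simp [Equiv.Perm.mem_support]
  rw [hsupp]
  exact Finset.card_filter_add_card_filter_not (s := (Finset.univ : Finset Ω)) (fun ω : Ω => t • ω = ω)

/-- In a faithful action on ten points by even permutations, no involution commutes with a
`3`-subgroup having a unique fixed point. -/
theorem no_invol_comm {G Ω : Type*} [Group G] [MulAction G Ω] [Fintype Ω] [DecidableEq Ω]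
    (hcard : Fintype.card Ω = 10) (hfaith : ∀ g : G, (∀ ω : Ω, g • ω = ω) → g = 1)
    (heven : ∀ g : G, Equiv.Perm.sign (MulAction.toPerm g : Equiv.Perm Ω) = 1)
    (D : Subgroup G) (hD : IsPGroup 3 D) (t : G) (ht1 : t ≠ 1) (ht2 : t * t = 1)
    (hcomm : ∀ x ∈ D, t * x = x * t) (a : Ω) (ha : ∀ ω : Ω, (∀ x ∈ D, x • ω = ω) ↔ ω = a) :
    False := by
  have : Fact (Nat.Prime 3) := ⟨by norm_num⟩
  have h1 := card_fixed_modEq_one 3 D hD t hcomm a ha
  have h2 := card_fixed_add_support (Ω := Ω) t
  have h3 : 4 ∣ (MulAction.toPerm t : Equiv.Perm Ω).support.card := by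
    apply four_dvd_card_support _ _ (heven t)
    ext ω
    change t • t • ω = ω
    rw [← mul_smul, ht2, one_smul]
  have h4 : (MulAction.toPerm t : Equiv.Perm Ω).support.card = 0 := by
    obtain ⟨k, hk⟩ := h3
    have h5 := h1
    unfold Nat.ModEq at h5
    omega
  apply ht1
  apply hfaith
  intro ω
  by_contra hne
  have : ω ∈ (MulAction.toPerm t : Equiv.Perm Ω).support := by
    rw [Equiv.Perm.mem_support]
    exact hne
  rw [Finset.card_eq_zero] at h4
  rw [h4] at this
  exact absurd this (Finset.notMem_empty ω)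

end Cfsg.Agent.Helper18.NS720
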