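import Mathlib
import Cfsg.Agent.Helper18.NS720a
import Cfsg.Agent.Helper11.NoSimple

set_option autoImplicit false

/-!
Order 720 with ten Sylow 3-subgroups: the action on the Sylow 3-subgroups.
-/

namespace Cfsg.Agent.Helper18.NS720

open MulAction

/-- a copy of `G` on which `G` acts by conjugation. -/
structure CjPt (G : Type*) where
  /-- the underlying element -/
  val : G

instance cjPtMulAction {G : Type*} [Group G] : MulAction G (CjPt G) where
  smul g x := ⟨g * x.val * g⁻¹⟩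
  one_smul x := by
    cases x
    change CjPt.mk _ = _
    simp
  mul_smul g h x := by
    cases x with
    | mk v =>
      change CjPt.mk ((g * h) * v * (g * h)⁻¹) = CjPt.mk (g * (h * v * h⁻¹) * g⁻¹)
      simp [mul_assoc]

theorem cjPt_smul_val {G : Type*} [Group G] (g : G) (x : CjPt G) :
    (g • x).val = g * x.val * g⁻¹ := rfl

theorem cjPt_ext {G : Type*} {x y : CjPt G} (h : x.val = y.val) : x = y := by
  cases x; cases y; cases h; rfl

variable {G : Type*} [Group G] [Finite G] [Fintype (Sylow 3 G)] [DecidableEq (Sylow 3 G)]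

/-- the hypotheses: order 720, ten Sylow 3-subgroups, acting faithfully by even permutations. -/
structure Hyp (G : Type*) [Group G] [Fintype (Sylow 3 G)] [DecidableEq (Sylow 3 G)] : Prop where
  card : Nat.card G = 720
  ten : Fintype.card (Sylow 3 G) = 10
  faith : ∀ g : G, (∀ Q : Sylow 3 G, g • Q = Q) → g = 1
  even : ∀ g : G, Equiv.Perm.sign (MulAction.toPerm g : Equiv.Perm (Sylow 3 G)) = 1

instance fact3 : Fact (Nat.Prime 3) := ⟨by norm_num⟩

theorem card_sylow (h : Hyp G) (P : Sylow 3 G) : Nat.card (P : Subgroup G) = 9 := by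
  have h1 := (Cfsg.Agent.Helper11.sylow_card_of_card_eq_pow (p := 3) 80 2
    (by rw [h.card]; norm_num) (by norm_num) P).1
  rw [h1]
  norm_num

theorem card_stab (h : Hyp G) (P : Sylow 3 G) : Nat.card (stabilizer G P) = 72 := by
  have h1 : (stabilizer G P).index = Nat.card (Sylow 3 G) := index_stabilizer_of_transitive G P
  have h2 := Subgroup.card_mul_index (stabilizer G P)
  rw [h1, Nat.card_eq_fintype_card (α := Sylow 3 G), h.ten, h.card] at h2
  omega

theorem le_of_fix (H : Subgroup G) (hH : IsPGroup 3 H) (Q : Sylow 3 G)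
    (hfix : ∀ x ∈ H, x • Q = Q) : H ≤ Q := by
  rw [← hH.sylow_mem_fixedPoints_iff]
  intro x
  exact hfix x x.2

theorem smul_eq_of_mem (P : Sylow 3 G) (x : G) (hx : x ∈ P) : x • P = P := by
  rw [Sylow.smul_eq_iff_mem_normalizer]
  exact Subgroup.le_normalizer hx

theorem fix_iff (P Q : Sylow 3 G) : (∀ x ∈ P, x • Q = Q) ↔ Q = P := by
  constructor
  · intro hfix
    have hle := le_of_fix (P : Subgroup G) P.isPGroup' Q hfix
    exact Sylow.ext (P.is_maximal' Q.isPGroup' hle)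
  · rintro rfl x hx
    exact smul_eq_of_mem Q x hx

theorem conj_mem (P : Sylow 3 G) (g : G) (hg : g • P = P) (x : G) (hx : x ∈ P) :
    g * x * g⁻¹ ∈ P := by
  rw [Sylow.smul_eq_iff_mem_normalizer, Subgroup.mem_set_normalizer_iff] at hg
  exact (hg x).1 hx

/-- (I) no involution centralises a Sylow 3-subgroup. -/
theorem no_invol_centralizes (h : Hyp G) (P : Sylow 3 G) (r : G) (hr1 : r ≠ 1) (hr2 : r * r = 1)
    (hc : ∀ x ∈ P, r * x = x * r) : False :=
  no_invol_comm h.ten h.faith h.even (P : Subgroup G) P.isPGroup' r hr1 hr2 hc P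
    (fun Q => fix_iff P Q)

/-- a trivial stabiliser in `P` of one point forces `P` to be regular on the other nine points. -/
theorem exists_smul_of_trivial_stab (h : Hyp G) (P Q : Sylow 3 G) (hQ : Q ≠ P)
    (hst : ∀ x ∈ P, x • Q = Q → x = 1) (Q' : Sylow 3 G) (hQ' : Q' ≠ P) :
    ∃ x ∈ P, x • Q = Q' := by
  let φ : ↥(P : Subgroup G) → {ω : Sylow 3 G // ω ≠ P} := fun x => ⟨(x : G) • Q, by
    intro he
    apply hQ
    have he2 : (x : G) • Q = (x : G) • P := he.trans (smul_eq_of_mem P x x.2).symm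
    exact smul_left_cancel _ he2⟩
  have hinj : Function.Injective φ := by
    intro x y hxy
    have h1 : (x : G) • Q = (y : G) • Q := congrArg Subtype.val hxy
    have h2 : ((y : G)⁻¹ * x) • Q = Q := by
      rw [mul_smul, h1, inv_smul_smul]
    have h3 := hst _ (P.1.mul_mem (P.1.inv_mem y.2) x.2) h2
    apply Subtype.ext
    have : (y : G)⁻¹ * x = 1 := h3
    calc (x : G) = y * ((y : G)⁻¹ * x) := by group
      _ = y := by rw [this, mul_one]
  have hc1 : Nat.card (P : Subgroup G) = 9 := card_sylow h P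
  have hc2 : Nat.card {ω : Sylow 3 G // ω ≠ P} = 9 := by
    rw [Nat.card_eq_fintype_card, Fintype.card_subtype_compl, h.ten]
    simp
  have hbij := hinj.bijective_of_nat_card_le (by rw [hc1, hc2])
  obtain ⟨x, hx⟩ := hbij.2 ⟨Q', hQ'⟩
  exact ⟨x, x.2, congrArg Subtype.val hx⟩

/-- the key step of (II): an involution `r` of `N(P)` fixing `Q₁` and `y • Q₁` and centralising
`d` centralises `P`, which is impossible. -/
theorem semiregular_aux (h : Hyp G) (P Q₁ : Sylow 3 G) (hQ₁ne : Q₁ ≠ P)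
    (d : G) (hdP : d ∈ P) (hdQ : d • Q₁ = Q₁) (hd1 : d ≠ 1)
    (y : G) (hyP : y ∈ P) (hyQ : y • Q₁ ≠ Q₁)
    (r : G) (hr1 : r ≠ 1) (hr2 : r * r = 1) (hrP : r • P = P) (hrQ : r • Q₁ = Q₁)
    (hry : r • (y • Q₁) = y • Q₁) (hrd : r * d * r⁻¹ = d) : False := by
  classical
  set D₁ : Subgroup G := (P : Subgroup G) ⊓ stabilizer G Q₁ with hD₁
  have hdD : d ∈ D₁ := ⟨hdP, hdQ⟩
  have hP9 := card_sylow h P
  have hdvd9 : ∀ K : Subgroup G, K ≤ (P : Subgroup G) →
      Nat.card K = 1 ∨ Nat.card K = 3 ∨ Nat.card K = 9 := by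
    intro K hK
    have hdvd : Nat.card K ∣ 3 ^ 2 := by
      have := Subgroup.card_dvd_of_le hK
      rw [hP9] at this
      exact this
    obtain ⟨k, hk, hk'⟩ := (Nat.dvd_prime_pow Nat.prime_three).1 hdvd
    interval_cases k <;> simp [hk']
  have hD₁ne : D₁ ≠ (P : Subgroup G) := by
    intro he
    have : Q₁ = P := (fix_iff P Q₁).1 (fun z hz => by
      have hz' : z ∈ D₁ := by rw [he]; exact hz
      exact hz'.2)
    exact hQ₁ne this
  have hD₁card : Nat.card D₁ = 3 := by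
    rcases hdvd9 D₁ inf_le_left with h1 | h3 | h9
    · exfalso
      rw [Subgroup.card_eq_one] at h1
      rw [h1, Subgroup.mem_bot] at hdD
      exact hd1 hdD
    · exact h3
    · exfalso
      exact hD₁ne (Subgroup.eq_of_le_of_card_ge inf_le_left (by rw [h9, hP9]))
  have hrinv : r⁻¹ = r := inv_eq_of_mul_eq_one_right hr2
  -- D₁ centralised by r
  have hDcent : D₁ ≤ Subgroup.centralizer {r} := by
    have hC : D₁ ⊓ Subgroup.centralizer {r} = D₁ := by
      apply Subgroup.eq_of_le_of_card_ge inf_le_left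
      have hdvd : Nat.card (D₁ ⊓ Subgroup.centralizer {r} : Subgroup G) ∣ 3 := by
        rw [← hD₁card]
        exact Subgroup.card_dvd_of_le inf_le_left
      rcases (Nat.dvd_prime Nat.prime_three).1 hdvd with h1 | h3
      · exfalso
        rw [Subgroup.card_eq_one] at h1
        have hmem : d ∈ D₁ ⊓ Subgroup.centralizer {r} := by
          refine Subgroup.mem_inf.2 ⟨hdD, ?_⟩
          rw [Subgroup.mem_centralizer_singleton_iff]
          calc d * r = (r * d * r⁻¹) * r := by rw [hrd]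
            _ = r * d := by group
        rw [h1, Subgroup.mem_bot] at hmem
        exact hd1 hmem
      · rw [h3, hD₁card]
    rw [← hC]
    exact inf_le_right
  -- e
  set e : G := y⁻¹ * (r * y * r⁻¹) with he
  have heP : e ∈ P := P.1.mul_mem (P.1.inv_mem hyP) (conj_mem P r hrP y hyP)
  have hrQ' : r⁻¹ • Q₁ = Q₁ := by rw [inv_smul_eq_iff, hrQ]
  have heQ : e • Q₁ = Q₁ := by
    rw [he, mul_smul, mul_smul, mul_smul, hrQ', hry, inv_smul_smul]
  have heD : e ∈ D₁ := ⟨heP, heQ⟩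
  have hre : e * r = r * e := Subgroup.mem_centralizer_singleton_iff.1 (hDcent heD)
  have hc1 : r * y * r⁻¹ = y * e := by rw [he]; group
  have hc2 : r * e * r⁻¹ = e := by rw [← hre]; group
  have hc3 : r * (r * y * r⁻¹) * r⁻¹ = y := by
    have : r * (r * y * r⁻¹) * r⁻¹ = (r * r) * y * (r * r)⁻¹ := by group
    rw [this, hr2]; simp
  have hc4 : y = y * e * e := by
    calc y = r * (r * y * r⁻¹) * r⁻¹ := hc3.symm
      _ = r * (y * e) * r⁻¹ := by rw [hc1]
      _ = (r * y * r⁻¹) * (r * e * r⁻¹) := by group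
      _ = y * e * e := by rw [hc1, hc2]
  have hee : e * e = 1 := by
    have : y * (e * e) = y * 1 := by rw [mul_one, ← mul_assoc]; exact hc4.symm
    exact mul_left_cancel this
  have he3 : e ^ 3 = 1 := by
    have := pow_card_eq_one' (G := D₁) (x := ⟨e, heD⟩)
    rw [hD₁card] at this
    exact congrArg Subtype.val this
  have he1 : e = 1 := by
    calc e = e ^ 3 * (e * e)⁻¹ := by group
      _ = 1 := by rw [he3, hee]; simp
  have hyc : y ∈ Subgroup.centralizer {r} := by
    rw [Subgroup.mem_centralizer_singleton_iff]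
    rw [he1, mul_one] at hc1
    calc y * r = (r * y * r⁻¹) * r := by rw [hc1]
      _ = r * y := by group
  -- K
  set K : Subgroup G := (P : Subgroup G) ⊓ Subgroup.centralizer {r} with hK
  have hDK : D₁ ≤ K := le_inf inf_le_left hDcent
  have hyK : y ∈ K := ⟨hyP, hyc⟩
  have hyD : y ∉ D₁ := fun hy => hyQ hy.2
  have hK9 : Nat.card K = 9 := by
    rcases hdvd9 K inf_le_left with h1 | h3 | h9
    · exfalso
      rw [Subgroup.card_eq_one] at h1
      have : d ∈ K := hDK hdD
      rw [h1, Subgroup.mem_bot] at this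
      exact hd1 this
    · exfalso
      have : D₁ = K := Subgroup.eq_of_le_of_card_ge hDK (by rw [h3, hD₁card])
      exact hyD (this ▸ hyK)
    · exact h9
  have hKP : K = (P : Subgroup G) :=
    Subgroup.eq_of_le_of_card_ge inf_le_left (by rw [hK9, hP9])
  apply no_invol_centralizes h P r hr1 hr2
  intro x hx
  have hx' : x ∈ K := by rw [hKP]; exact hx
  exact (Subgroup.mem_centralizer_singleton_iff.1 hx'.2).symm

/-- existence of the involution for (II). -/
theorem semiregular_exists_r (h : Hyp G) (P Q₁ : Sylow 3 G) (hQ₁ne : Q₁ ≠ P)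
    (T₂ : Subgroup G) (hT₂card : Nat.card T₂ = 8) (hT₂P : ∀ t ∈ T₂, t • P = P)
    (hT₂Q : ∀ t ∈ T₂, t • Q₁ = Q₁)
    (d : G) (hdP : d ∈ P) (hdQ : d • Q₁ = Q₁) (hd1 : d ≠ 1)
    (y : G) (hyP : y ∈ P) (hyQ : y • Q₁ ≠ Q₁) :
    ∃ r ∈ T₂, r ≠ 1 ∧ r * r = 1 ∧ r • (y • Q₁) = y • Q₁ ∧ r * d * r⁻¹ = d := by
  classical
  set D₁ : Subgroup G := (P : Subgroup G) ⊓ stabilizer G Q₁ with hD₁
  have hdD : d ∈ D₁ := ⟨hdP, hdQ⟩
  have hP9 := card_sylow h P
  have hD₁ne : D₁ ≠ (P : Subgroup G) := by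
    intro he
    have : Q₁ = P := (fix_iff P Q₁).1 (fun z hz => by
      have hz' : z ∈ D₁ := by rw [he]; exact hz
      exact hz'.2)
    exact hQ₁ne this
  have hD₁card : Nat.card D₁ = 3 := by
    have hdvd : Nat.card D₁ ∣ 3 ^ 2 := by
      have := Subgroup.card_dvd_of_le (inf_le_left : D₁ ≤ (P : Subgroup G))
      rw [hP9] at this
      exact this
    obtain ⟨k, hk, hk'⟩ := (Nat.dvd_prime_pow Nat.prime_three).1 hdvd
    interval_cases k
    · exfalso
      rw [pow_zero, Subgroup.card_eq_one] at hk'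
      rw [hk', Subgroup.mem_bot] at hdD
      exact hd1 hdD
    · simpa using hk'
    · exfalso
      exact hD₁ne (Subgroup.eq_of_le_of_card_ge inf_le_left (by rw [hk', hP9]; norm_num))
  -- the orbit of Q₁ under P has three points
  have horb : (orbit (P : Subgroup G) Q₁).ncard = 3 := by
    have := card_eq_orbit_mul_stab (P : Subgroup G) Q₁
    rw [hP9, ← hD₁, hD₁card] at this
    omega
  set S₁ : Set (Sylow 3 G) := orbit (P : Subgroup G) Q₁ \ {Q₁} with hS₁
  have hS₁card : S₁.ncard = 2 := by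
    rw [hS₁, Set.ncard_sdiff_singleton_of_mem (mem_orbit_self Q₁), horb]
  set S₂ : Set (CjPt G) := CjPt.mk '' ((D₁ : Set G) \ {1}) with hS₂
  have hS₂card : S₂.ncard = 2 := by
    have hinj : Function.Injective (CjPt.mk : G → CjPt G) := by
      intro a b hab
      exact congrArg CjPt.val hab
    rw [hS₂, Set.ncard_image_of_injective _ hinj,
      Set.ncard_sdiff_singleton_of_mem (show (1 : G) ∈ (D₁ : Set G) from D₁.one_mem)]
    have : (D₁ : Set G).ncard = Nat.card D₁ := (Nat.card_coe_set_eq (D₁ : Set G)).symm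
    rw [this, hD₁card]
  have hSfin : (S₁ ×ˢ S₂).Finite :=
    (Set.toFinite S₁).prod ((Set.toFinite ((D₁ : Set G) \ {1})).image _)
  have hScard : (S₁ ×ˢ S₂).ncard = 4 := by
    rw [Set.ncard_prod, hS₁card, hS₂card]
  have hmem : ∀ t ∈ T₂, t • ((y • Q₁, CjPt.mk d) : Sylow 3 G × CjPt G) ∈ S₁ ×ˢ S₂ := by
    intro t ht
    have htP := hT₂P t ht
    have htQ := hT₂Q t ht
    have htQ' : t⁻¹ • Q₁ = Q₁ := by rw [inv_smul_eq_iff, htQ]
    rw [Prod.smul_mk, Set.mem_prod]
    refine ⟨⟨?_, ?_⟩, ?_⟩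
    · rw [mem_orbit_iff]
      refine ⟨⟨t * y * t⁻¹, conj_mem P t htP y hyP⟩, ?_⟩
      change (t * y * t⁻¹) • Q₁ = t • y • Q₁
      rw [mul_smul, mul_smul, htQ']
    · intro he
      rw [Set.mem_singleton_iff] at he
      apply hyQ
      have : t • (y • Q₁) = t • Q₁ := he.trans htQ.symm
      exact smul_left_cancel _ this
    · refine ⟨t * d * t⁻¹, ⟨?_, ?_⟩, rfl⟩
      · refine Subgroup.mem_inf.2 ⟨conj_mem P t htP d hdP, ?_⟩
        rw [mem_stabilizer_iff, mul_smul, mul_smul, htQ', hdQ, htQ]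
      · intro he
        rw [Set.mem_singleton_iff] at he
        apply hd1
        calc d = t⁻¹ * (t * d * t⁻¹) * t := by group
          _ = 1 := by rw [he]; group
  have hle := card_le_ncard_mul_card_stab T₂ ((y • Q₁, CjPt.mk d) : Sylow 3 G × CjPt G)
    (S₁ ×ˢ S₂) hSfin hmem
  rw [hT₂card, hScard] at hle
  set R : Subgroup G := T₂ ⊓ stabilizer G ((y • Q₁, CjPt.mk d) : Sylow 3 G × CjPt G) with hR
  have hR2 : 2 ≤ Nat.card R := by omega
  have hRdvd : Nat.card R ∣ 2 ^ 3 := by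
    have := Subgroup.card_dvd_of_le (inf_le_left : R ≤ T₂)
    rw [hT₂card] at this
    exact this
  have h2dvd : 2 ∣ Nat.card R := by
    obtain ⟨k, hk, hk'⟩ := (Nat.dvd_prime_pow Nat.prime_two).1 hRdvd
    rw [hk'] at hR2 ⊢
    rcases Nat.eq_zero_or_pos k with h0 | hpos
    · rw [h0] at hR2
      norm_num at hR2
    · exact dvd_pow_self 2 (by omega)
  have : Fact (Nat.Prime 2) := ⟨Nat.prime_two⟩
  obtain ⟨r, hr⟩ := exists_prime_orderOf_dvd_card' (G := R) 2 h2dvd
  have hrmem : (r : G) ∈ R := r.2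
  have hrT : (r : G) ∈ T₂ := hrmem.1
  have hrst : (r : G) • ((y • Q₁, CjPt.mk d) : Sylow 3 G × CjPt G) = (y • Q₁, CjPt.mk d) :=
    hrmem.2
  rw [Prod.smul_mk, Prod.mk.injEq] at hrst
  refine ⟨(r : G), hrT, ?_, ?_, hrst.1, congrArg CjPt.val hrst.2⟩
  · intro h1
    have : r = 1 := Subtype.ext h1
    rw [this, orderOf_one] at hr
    norm_num at hr
  · have := pow_orderOf_eq_one r
    rw [hr, pow_two] at this
    exact congrArg Subtype.val this

/-- (II) a Sylow 3-subgroup acts semiregularly on the other nine. -/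
theorem semiregular (h : Hyp G) (P Q : Sylow 3 G) (hQ : Q ≠ P) (x : G) (hx : x ∈ P)
    (hxQ : x • Q = Q) : x = 1 := by
  classical
  have hN : Nat.card (stabilizer G P) = 72 := card_stab h P
  have : Fact (Nat.Prime 2) := ⟨Nat.prime_two⟩
  obtain ⟨K, hK⟩ := Sylow.exists_subgroup_card_pow_prime (G := stabilizer G P) 2 (n := 3)
    (by rw [hN]; norm_num)
  set T₂ : Subgroup G := K.map (stabilizer G P).subtype with hT₂
  have hT₂card : Nat.card T₂ = 8 := by
    rw [hT₂, Subgroup.card_map_of_injective (Subgroup.subtype_injective _), hK]; norm_num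
  have hT₂le : T₂ ≤ stabilizer G P := Subgroup.map_subtype_le K
  have hT₂p : IsPGroup 2 T₂ := IsPGroup.of_card (n := 3) (by rw [hT₂card]; norm_num)
  have hT₂P : ∀ t ∈ T₂, t • P = P := fun t ht => hT₂le ht
  have hPfix : P ∈ fixedPoints T₂ (Sylow 3 G) := by
    intro t
    exact hT₂P t t.2
  obtain ⟨Q₁, hQ₁fix, hQ₁ne⟩ :=
    hT₂p.exists_fixed_point_of_prime_dvd_card_of_fixed_point (α := Sylow 3 G)
      (by rw [Nat.card_eq_fintype_card, h.ten]; norm_num) hPfix
  have hT₂Q : ∀ t ∈ T₂, t • Q₁ = Q₁ := fun t ht => hQ₁fix ⟨t, ht⟩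
  by_cases hst : ∀ z ∈ P, z • Q₁ = Q₁ → z = 1
  · obtain ⟨y, hy, hyQ⟩ := exists_smul_of_trivial_stab h P Q₁ (Ne.symm hQ₁ne) hst Q hQ
    have h1 : (y⁻¹ * x * y) • Q₁ = Q₁ := by
      rw [mul_smul, mul_smul, hyQ, hxQ, ← hyQ, inv_smul_smul]
    have h2 := hst _ (P.1.mul_mem (P.1.mul_mem (P.1.inv_mem hy) hx) hy) h1
    calc x = y * (y⁻¹ * x * y) * y⁻¹ := by group
      _ = 1 := by rw [h2]; group
  · exfalso
    push Not at hst
    obtain ⟨d, hdP, hdQ, hd1⟩ := hst
    obtain ⟨y, hyP, hyQ⟩ : ∃ y ∈ P, y • Q₁ ≠ Q₁ := by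
      by_contra hcon
      push Not at hcon
      exact hQ₁ne ((fix_iff P Q₁).1 hcon).symm
    obtain ⟨r, hrT, hr1, hr2, hry, hrd⟩ := semiregular_exists_r h P Q₁ (Ne.symm hQ₁ne) T₂ hT₂card
      hT₂P hT₂Q d hdP hdQ hd1 y hyP hyQ
    exact semiregular_aux h P Q₁ (Ne.symm hQ₁ne) d hdP hdQ hd1 y hyP hyQ r hr1 hr2
      (hT₂P r hrT) (hT₂Q r hrT) hry hrd

end Cfsg.Agent.Helper18.NS720
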