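import Cfsg.Agent.Helper18.QD9
import Cfsg.Agent.Helper4.S4Coxeter

set_option autoImplicit false

namespace Cfsg.Agent.Helper18.AutQ8

open QuaternionGroup

/-- swap `i` and `j` (so `k ↦ -k`) -/
def fA : QuaternionGroup 2 → QuaternionGroup 2
  | .a i => if i = 0 then .a 0 else if i = 1 then .xa 0 else if i = 2 then .a 2 else .xa 2
  | .xa i => if i = 0 then .a 1 else if i = 1 then .xa 3 else if i = 2 then .a 3 else .xa 1

/-- swap `j` and `k` (so `i ↦ -i`) -/
def fB : QuaternionGroup 2 → QuaternionGroup 2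
  | .a i => if i = 0 then .a 0 else if i = 1 then .a 3 else if i = 2 then .a 2 else .a 1
  | .xa i => if i = 0 then .xa 3 else if i = 1 then .xa 2 else if i = 2 then .xa 1 else .xa 0

/-- `i ↦ -j`, `j ↦ -i`, `k ↦ -k` -/
def fC : QuaternionGroup 2 → QuaternionGroup 2
  | .a i => if i = 0 then .a 0 else if i = 1 then .xa 2 else if i = 2 then .a 2 else .xa 0
  | .xa i => if i = 0 then .a 3 else if i = 1 then .xa 3 else if i = 2 then .a 1 else .xa 1

theorem fA_mul : ∀ x y : QuaternionGroup 2, fA (x * y) = fA x * fA y := by decide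
theorem fB_mul : ∀ x y : QuaternionGroup 2, fB (x * y) = fB x * fB y := by decide
theorem fC_mul : ∀ x y : QuaternionGroup 2, fC (x * y) = fC x * fC y := by decide
theorem fA_invol : ∀ x : QuaternionGroup 2, fA (fA x) = x := by decide
theorem fB_invol : ∀ x : QuaternionGroup 2, fB (fB x) = x := by decide
theorem fC_invol : ∀ x : QuaternionGroup 2, fC (fC x) = x := by decide

def eA : MulAut (QuaternionGroup 2) := ⟨⟨fA, fA, fA_invol, fA_invol⟩, fA_mul⟩
def eB : MulAut (QuaternionGroup 2) := ⟨⟨fB, fB, fB_invol, fB_invol⟩, fB_mul⟩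
def eC : MulAut (QuaternionGroup 2) := ⟨⟨fC, fC, fC_invol, fC_invol⟩, fC_mul⟩

theorem eA_sq : eA * eA = 1 := by
  apply MulEquiv.ext; intro x; exact fA_invol x
theorem eB_sq : eB * eB = 1 := by
  apply MulEquiv.ext; intro x; exact fB_invol x
theorem eC_sq : eC * eC = 1 := by
  apply MulEquiv.ext; intro x; exact fC_invol x

theorem aba : ∀ x : QuaternionGroup 2, fA (fB (fA x)) = fB (fA (fB x)) := by decide
theorem bcb : ∀ x : QuaternionGroup 2, fB (fC (fB x)) = fC (fB (fC x)) := by decide
theorem ac : ∀ x : QuaternionGroup 2, fA (fC x) = fC (fA x) := by decide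

theorem eAB : eA * eB * eA = eB * eA * eB := by
  apply MulEquiv.ext; intro x; exact aba x
theorem eBC : eB * eC * eB = eC * eB * eC := by
  apply MulEquiv.ext; intro x; exact bcb x
theorem eAC : eA * eC = eC * eA := by
  apply MulEquiv.ext; intro x; exact ac x

theorem eAC_ne : eA * eC ≠ 1 := by
  intro h
  have := congrArg (fun e : MulAut (QuaternionGroup 2) => e (.a 1)) h
  revert this
  show fA (fC (.a 1)) = .a 1 → False
  decide

theorem main : Nonempty (MulAut (QuaternionGroup 2) ≃* Equiv.Perm (Fin 4)) := by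
  obtain ⟨φ, ha, hb, hc⟩ := Cfsg.Agent.Helper4.S4Coxeter.exists_hom eA eB eC eA_sq eB_sq eC_sq
    eAB eBC eAC
  have hinj : Function.Injective φ := by
    apply Cfsg.Agent.Helper4.S4Coxeter.injective_of_ne_one
    rw [map_mul, ha, hc]
    exact eAC_ne
  have hfin : Finite (MulAut (QuaternionGroup 2)) := inferInstance
  have hle : Nat.card (MulAut (QuaternionGroup 2)) ≤ Nat.card (Equiv.Perm (Fin 4)) := by
    have h24 : Nat.card (Equiv.Perm (Fin 4)) = 24 := by
      rw [Nat.card_eq_fintype_card, Fintype.card_perm, Fintype.card_fin]; rfl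
    rw [h24]
    exact Cfsg.Agent.Helper18.QD.q8_card_aut_le
  have hbij : Function.Bijective φ := hinj.bijective_of_nat_card_le hle
  exact ⟨(MulEquiv.ofBijective φ hbij).symm⟩

end Cfsg.Agent.Helper18.AutQ8
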