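import Mathlib
import Cfsg.Agent.Helper18.NS720b
import Cfsg.Agent.S0729
import Cfsg.Agent.Helper3.Sh3NSe

set_option autoImplicit false
set_option linter.style.haveILetI false

/-!
No simple group of order 720 has ten Sylow 3-subgroups: such a group would be a Zassenhaus group of
degree 10 with two-point stabiliser of order 8, contradicting `Sh3NS.card_eq_of_simple`.
-/

namespace Cfsg.Agent.Helper18.NS720

open MulAction

variable {G : Type*} [Group G] [Finite G] [Fintype (Sylow 3 G)] [DecidableEq (Sylow 3 G)]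

/-- `P` is regular on the other nine Sylow 3-subgroups. -/
theorem exists_smul (h : Hyp G) (P Q Q' : Sylow 3 G) (hQ : Q ≠ P) (hQ' : Q' ≠ P) :
    ∃ x ∈ P, x • Q = Q' :=
  exists_smul_of_trivial_stab h P Q hQ (fun x hx hxQ => semiregular h P Q hQ x hx hxQ) Q' hQ'

theorem two_trans (h : Hyp G) : IsMultiplyPretransitive G (Sylow 3 G) 2 := by
  rw [is_two_pretransitive_iff]
  intro a b c d hab hcd
  obtain ⟨g, hg⟩ := exists_smul_eq G a c
  have h1 : g • b ≠ c := by
    intro he
    apply hab
    rw [← hg] at he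
    exact (smul_left_cancel _ he).symm
  obtain ⟨x, hx, hxb⟩ := exists_smul h c (g • b) d h1 (Ne.symm hcd)
  refine ⟨x * g, ?_, ?_⟩
  · rw [mul_smul, hg, smul_eq_of_mem c x hx]
  · rw [mul_smul, hxb]

/-- no nonidentity element fixes three points. -/
theorem eq_one_of_fix_three (h : Hyp G) (g : G) (a b c : Sylow 3 G) (hab : a ≠ b) (hbc : b ≠ c)
    (hac : a ≠ c) (ha : g • a = a) (hb : g • b = b) (hc : g • c = c) : g = 1 := by
  by_contra hg1
  have hord : orderOf g ≠ 1 := by
    intro h1
    exact hg1 (orderOf_eq_one_iff.1 h1)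
  obtain ⟨p, hp, hpdvd⟩ := Nat.exists_prime_and_dvd hord
  set k : G := g ^ (orderOf g / p) with hk
  have hkord : orderOf k = p := orderOf_pow_orderOf_div (orderOf_pos g).ne' hpdvd
  have hka : k ∈ stabilizer G a := Subgroup.pow_mem _ ha _
  have hkb : k ∈ stabilizer G b := Subgroup.pow_mem _ hb _
  have hkc : k ∈ stabilizer G c := Subgroup.pow_mem _ hc _
  have hk1 : k ≠ 1 := by
    intro h1
    rw [h1, orderOf_one] at hkord
    exact hp.one_lt.ne hkord
  have hp72 : p ∣ 72 := by
    have := (stabilizer G a).orderOf_dvd_natCard hka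
    rw [hkord, card_stab h a] at this
    exact this
  have hp23 : p = 2 ∨ p = 3 := by
    have h72 : (72 : ℕ) = 2 ^ 3 * 3 ^ 2 := by norm_num
    rw [h72] at hp72
    rcases (Nat.Prime.dvd_mul hp).1 hp72 with h2 | h3
    · left
      exact (Nat.prime_dvd_prime_iff_eq hp Nat.prime_two).1 (hp.dvd_of_dvd_pow h2)
    · right
      exact (Nat.prime_dvd_prime_iff_eq hp Nat.prime_three).1 (hp.dvd_of_dvd_pow h3)
  rcases hp23 with rfl | rfl
  · -- involution
    have hk2 : k * k = 1 := by
      have := pow_orderOf_eq_one k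
      rw [hkord, pow_two] at this
      exact this
    obtain ⟨x, hx, hxb⟩ := exists_smul h a b c (Ne.symm hab) (Ne.symm hac)
    have hx1 : x ≠ 1 := by
      intro h1
      rw [h1, one_smul] at hxb
      exact hbc hxb
    have hkb' : k⁻¹ • b = b := by rw [inv_smul_eq_iff]; exact hkb.symm
    have hconj : k * x * k⁻¹ ∈ a := conj_mem a k hka x hx
    have h1 : (x⁻¹ * (k * x * k⁻¹)) • b = b := by
      rw [mul_smul, mul_smul, mul_smul, hkb', hxb]
      have : k • c = c := hkc
      rw [this, ← hxb, inv_smul_smul]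
    have h2 := semiregular h a b (Ne.symm hab) _ (a.1.mul_mem (a.1.inv_mem hx) hconj) h1
    have hcomm : x * k = k * x := by
      calc x * k = x * (x⁻¹ * (k * x * k⁻¹)) * k := by rw [h2, mul_one]
        _ = k * x := by group
    have hDle : Subgroup.zpowers x ≤ (a : Subgroup G) := Subgroup.zpowers_le.2 hx
    have hDc : Subgroup.zpowers x ≤ Subgroup.centralizer {k} :=
      Subgroup.zpowers_le.2 (Subgroup.mem_centralizer_singleton_iff.2 hcomm)
    apply no_invol_comm h.ten h.faith h.even (Subgroup.zpowers x) (a.isPGroup'.to_le hDle) k hk1 hk2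
      (fun z hz => (Subgroup.mem_centralizer_singleton_iff.1 (hDc hz)).symm) a
    intro ω
    constructor
    · intro hfix
      by_contra hne
      exact hx1 (semiregular h a ω hne x hx (hfix x (Subgroup.mem_zpowers x)))
    · rintro rfl z hz
      exact smul_eq_of_mem ω z (hDle hz)
  · -- order three
    have hpg : IsPGroup 3 (Subgroup.zpowers k) := by
      apply IsPGroup.of_card (n := 1)
      rw [Nat.card_zpowers, hkord, pow_one]
    have hle : Subgroup.zpowers k ≤ (a : Subgroup G) := by
      apply le_of_fix _ hpg a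
      intro z hz
      have : Subgroup.zpowers k ≤ stabilizer G a := Subgroup.zpowers_le.2 hka
      exact this hz
    have hkA : k ∈ a := hle (Subgroup.mem_zpowers k)
    exact hk1 (semiregular h a b (Ne.symm hab) k hkA hkb)

theorem exists_two_ne (h : Hyp G) : ∃ a b : Sylow 3 G, a ≠ b := by
  have : 1 < Fintype.card (Sylow 3 G) := by rw [h.ten]; norm_num
  exact Fintype.one_lt_card_iff.1 this

/-- some nonidentity element fixes two points. -/
theorem exists_fix_two (h : Hyp G) (a b : Sylow 3 G) (hab : a ≠ b) :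
    ∃ g : G, g ≠ 1 ∧ g • a = a ∧ g • b = b := by
  have hle := card_le_ncard_mul_card_stab (stabilizer G a) b (Set.univ \ {a}) (Set.toFinite _)
    (by
      intro g hg
      refine ⟨Set.mem_univ _, ?_⟩
      intro he
      rw [Set.mem_singleton_iff] at he
      apply hab
      have hg' : g • a = a := hg
      have : g • b = g • a := he.trans hg'.symm
      exact (smul_left_cancel _ this).symm)
  rw [card_stab h a, Set.ncard_sdiff_singleton_of_mem (Set.mem_univ a), Set.ncard_univ,
    Nat.card_eq_fintype_card, h.ten] at hle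
  have hne : (stabilizer G a ⊓ stabilizer G b : Subgroup G) ≠ ⊥ := by
    rw [← Subgroup.one_lt_card_iff_ne_bot]
    omega
  obtain ⟨g, hg⟩ := Subgroup.ne_bot_iff_exists_ne_one.1 hne
  refine ⟨(g : G), ?_, g.2.1, g.2.2⟩
  intro h1
  exact hg (Subtype.ext h1)

theorem isZassenhaus [IsSimpleGroup G] (h : Hyp G) : Cfsg.IsZassenhausGroup G (Sylow 3 G) := by
  obtain ⟨a, b, hab⟩ := exists_two_ne h
  obtain ⟨g₀, hg₀1, hg₀a, hg₀b⟩ := exists_fix_two h a b hab
  refine ⟨⟨?_⟩, two_trans h, ?_, ⟨g₀, hg₀1, a, b, hab, hg₀a, hg₀b⟩, ?_⟩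
  · intro m₁ m₂ hm
    have h1 : m₂⁻¹ * m₁ = 1 := h.faith _ (fun Q => by rw [mul_smul, hm, inv_smul_smul])
    calc m₁ = m₂ * (m₂⁻¹ * m₁) := by group
      _ = m₂ := by rw [h1, mul_one]
  · intro g x y z hxy hyz hxz hx hy hz
    exact eq_one_of_fix_three h g x y z hxy hyz hxz hx hy hz
  · intro N hN htrans
    rcases hN.eq_bot_or_eq_top with rfl | rfl
    · exfalso
      obtain ⟨n, hn⟩ := htrans.exists_smul_eq a b
      have hn1 : (n : G) = 1 := Subgroup.mem_bot.1 n.2
      have : (n : G) • a = b := hn
      rw [hn1, one_smul] at this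
      exact hab this
    · refine ⟨a, ?_⟩
      intro hbot
      have hmem : (⟨g₀, Subgroup.mem_top g₀⟩ : (⊤ : Subgroup G)) ∈
          stabilizer (⊤ : Subgroup G) a := by
        rw [mem_stabilizer_iff]
        exact hg₀a
      rw [hbot, Subgroup.mem_bot] at hmem
      exact hg₀1 (congrArg Subtype.val hmem)

end Cfsg.Agent.Helper18.NS720

namespace Cfsg.Agent.Helper18.NoSimple720b

open MulAction Cfsg.Agent.Helper18.NS720

/-- No simple group of order 720 has exactly ten Sylow 3-subgroups. -/
theorem no_simple_720_of_ten {G : Type*} [Group G] [Finite G] [IsSimpleGroup G]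
    (hcard : Nat.card G = 720) (h10 : Nat.card (Sylow 3 G) = 10) : False := by
  classical
  have : Finite (Sylow 3 G) := Nat.finite_of_card_ne_zero (by rw [h10]; norm_num)
  letI : Fintype (Sylow 3 G) := Fintype.ofFinite _
  have hten : Fintype.card (Sylow 3 G) = 10 := by
    rw [← Nat.card_eq_fintype_card]
    exact h10
  -- two distinct points
  obtain ⟨a, b, hab⟩ : ∃ a b : Sylow 3 G, a ≠ b := by
    have : 1 < Fintype.card (Sylow 3 G) := by rw [hten]; norm_num
    exact Fintype.one_lt_card_iff.1 this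
  -- faithful
  have hfaith : ∀ g : G, (∀ Q : Sylow 3 G, g • Q = Q) → g = 1 := by
    intro g hg
    have hker : g ∈ (MulAction.toPermHom G (Sylow 3 G)).ker := by
      rw [MonoidHom.mem_ker]
      apply Equiv.ext
      intro Q
      exact hg Q
    rcases (MonoidHom.normal_ker (MulAction.toPermHom G (Sylow 3 G))).eq_bot_or_eq_top with hb | ht
    · rw [hb, Subgroup.mem_bot] at hker
      exact hker
    · exfalso
      obtain ⟨x, hx⟩ := exists_smul_eq G a b
      have hxk : x ∈ (MulAction.toPermHom G (Sylow 3 G)).ker := by rw [ht]; exact Subgroup.mem_top x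
      rw [MonoidHom.mem_ker] at hxk
      have : x • a = a := by
        have := congrArg (fun σ : Equiv.Perm (Sylow 3 G) => σ a) hxk
        exact this
      exact hab (this.symm.trans hx)
  -- even
  have heven : ∀ g : G, Equiv.Perm.sign (MulAction.toPerm g : Equiv.Perm (Sylow 3 G)) = 1 := by
    intro g
    set ψ : G →* ℤˣ := Equiv.Perm.sign.comp (MulAction.toPermHom G (Sylow 3 G)) with hψ
    rcases (MonoidHom.normal_ker ψ).eq_bot_or_eq_top with hb | ht
    · exfalso
      have hinj : Function.Injective ψ := (MonoidHom.ker_eq_bot_iff ψ).1 hb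
      have hle : Nat.card G ≤ Nat.card ℤˣ := Nat.card_le_card_of_injective ψ hinj
      have hc2 : Nat.card ℤˣ = 2 := by
        rw [Nat.card_eq_fintype_card]
        rfl
      rw [hcard, hc2] at hle
      omega
    · have : g ∈ ψ.ker := by rw [ht]; exact Subgroup.mem_top g
      rw [MonoidHom.mem_ker] at this
      exact this
  have hH : Hyp G := ⟨hcard, hten, hfaith, heven⟩
  have hZ := isZassenhaus hH
  have hcg := Cfsg.Agent.Helper5.Zassenhaus.card_group hZ hab
  have hd : Nat.card (stabilizer G a ⊓ stabilizer G b : Subgroup G) = 8 := by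
    rw [hcard, hten] at hcg
    omega
  have hev : Even (Nat.card (stabilizer G a ⊓ stabilizer G b : Subgroup G)) := by
    rw [hd]
    decide
  have hfin := Cfsg.Agent.Helper3.Sh3NS.card_eq_of_simple hZ hab hev
    (fun hev h6 G' h3 hsharp _ _ _ hab' hac' hbc' s hsa hsb hsc =>
      Cfsg.Agent.S0729.result hev h6 G' h3 hsharp hab' hac' hbc' s hsa hsb hsc)
  rw [hd, hten] at hfin
  omega

end Cfsg.Agent.Helper18.NoSimple720b
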