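import Mathlib
import Cfsg.Agent.Helper3.S4411Defs
import Cfsg.Agent.Helper23.HallHigman
import Cfsg.Agent.Helper14.PCore

set_option autoImplicit false

/-! Board `s4411pieces`, piece NTSSUB (blueprint `departures/helper3_S4411_blueprint.md`). -/

namespace Cfsg.Agent.S4411P

open Cfsg

/-- `O_{p'}(Y) = 1`, `Y` `p`-solvable, `X ≥ O_p(Y)` of order divisible by `q ≠ p`: `TNT` holds in `X`. -/
theorem NTS_sub {Y : Type*} [Group Y] [Finite Y] (p q : ℕ) [Fact p.Prime] [Fact q.Prime] (hpq : p ≠ q)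
    (hsol : Cfsg.IsPSolvable p Y) (hO : Cfsg.pPrimeCore p Y = ⊥) (X : Subgroup Y)
    (hPX : Cfsg.pCore p Y ≤ X) (hq : q ∣ Nat.card X) : TNT p q ↥X := by
  obtain ⟨x, hx⟩ := exists_prime_orderOf_dvd_card' q hq
  have hPn : (Cfsg.pCore p Y).Normal := Cfsg.Agent.Helper14.pCore_normal p
  have hPp : IsPGroup p ↥(Cfsg.pCore p Y) := Cfsg.Agent.Helper14.pCore_isPGroup p
  have hcent := Cfsg.Agent.Helper23.centralizer_pCore_le_of_isPSolvable hsol hO
  have hH0n : ((Cfsg.pCore p Y).subgroupOf X).Normal := hPn.subgroupOf X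
  refine ⟨(Cfsg.pCore p Y).subgroupOf X, ?_, x, ?_, ?_, ⟨1, ?_⟩⟩
  · exact hPp.comap_subtype
  · rw [Subgroup.normalizer_eq_top]
    exact Subgroup.mem_top x
  · intro hxc
    -- then `x` centralises `O_p(Y)`
    have hxC : (x : Y) ∈ Subgroup.centralizer (Cfsg.pCore p Y : Set Y) := by
      rw [Subgroup.mem_centralizer_iff]
      intro h hh
      have hhX : h ∈ X := hPX hh
      have := (Subgroup.mem_centralizer_iff.mp hxc) ⟨h, hhX⟩
        (by rw [SetLike.mem_coe, Subgroup.mem_subgroupOf]; exact hh)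
      exact congrArg Subtype.val this
    have hxP : (x : Y) ∈ Cfsg.pCore p Y := hcent hxC
    obtain ⟨k, hk⟩ := (IsPGroup.iff_orderOf.mp hPp) ⟨(x : Y), hxP⟩
    have ho : orderOf (x : Y) = q := by
      rw [← hx]
      exact Subgroup.orderOf_coe x
    have ho' : orderOf (⟨(x : Y), hxP⟩ : ↥(Cfsg.pCore p Y)) = q := by
      rw [← ho]
      exact (Subgroup.orderOf_mk (x : Y) hxP)
    rw [ho'] at hk
    have hk0 : k ≠ 0 := by
      rintro rfl
      rw [pow_zero] at hk
      exact (Fact.out : q.Prime).one_lt.ne' hk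
    have : p ∣ q := by
      rw [hk]
      exact dvd_pow_self p hk0
    rcases (Nat.dvd_prime (Fact.out : q.Prime)).1 this with h1 | h1
    · exact (Fact.out : p.Prime).one_lt.ne' h1
    · exact hpq h1
  · rw [pow_one, ← hx]
    exact pow_orderOf_eq_one x

end Cfsg.Agent.S4411P
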