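import Mathlib
import Cfsg.Prelude.Def_GeometricClasses
import Cfsg.Agent.Helper2.S5886.Defs
import Cfsg.Agent.Helper2.S5664.Defs
import Cfsg.Agent.Helper4.S5886SYLGENB
import Cfsg.Agent.Helper23.S5886GALFIX
import Cfsg.Agent.Helper11.S5886SYLH1

/-! # S5664 piece SYLH1P (`SYLH1'`): copy of `S5886P.SYLH1` with the call of FIXL replaced by `hfix`. -/

set_option autoImplicit false
set_option linter.style.haveILetI false

namespace Cfsg.Agent.S5664P

open Cfsg.Agent.S5886P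

variable {F K V : Type*} [Field F] [Field K] [Algebra F K]
  [AddCommGroup V] [Module F V] [Module K V] [IsScalarTower F K V]

/-- SYLH1' (S-M): copy of Cfsg/Agent/Helper11/S5886SYLH1.lean with the call of FIXL replaced by the hypothesis `hfix`. -/
theorem SYLH1' [Finite F] [Finite K] [Finite V] (p : ℕ) [Fact p.Prime]
    (hr : (Module.finrank F K).Prime)
    (M : Subgroup (V ≃ₗ[F] V)) (v : V) (hv : v ≠ 0) (k : K)
    (hk : k ∉ Set.range (algebraMap F K))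
    (S1 : ∀ g ∈ M, (∀ x ∈ Kline (F := F) (K := K) v, g x ∈ Kline (F := F) (K := K) v) → g v = v →
      ∃ σ : K ≃ₐ[F] K, ∀ c : K, g (c • v) = σ c • v)
    (Q : Subgroup (V ≃ₗ[F] V)) (hQ : IsSylIn p (StabPt M (Kline (F := F) (K := K) v)) Q)
    (hfix : ∀ x : V, (∀ g ∈ Q, g x = x) → x ∈ Kline (F := F) (K := K) v) :
    IsSylIn p (Stab2 M v (k • v)) Q := by
  obtain ⟨hQH0, hQp, hQmax⟩ := hQ
  have hH01 : StabPt M (Kline (F := F) (K := K) v) ≤ Stab2 M v (k • v) := by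
    rintro g ⟨hgM, hgL⟩
    exact ⟨hgM, hgL v (SYLH1.self_mem_Kline v), hgL (k • v) (SYLH1.smul_mem_Kline v k)⟩
  refine ⟨hQH0.trans hH01, hQp, ?_⟩
  intro Q' hQ'H1 hQ'p hQQ'
  by_contra hne
  obtain ⟨g, hgQ', hgQ, hgn⟩ := SYLGEN.norm_grow p Q' Q hQ'p hQQ' (fun hh => hne hh.symm)
  -- `g` maps `L` into `L`
  have hgL : ∀ x ∈ Kline (F := F) (K := K) v, g x ∈ Kline (F := F) (K := K) v := by
    intro x hx
    apply hfix
    intro q hq
    -- `g⁻¹ q g ∈ Q`
    have h1 : g⁻¹ * q * g ∈ Q := by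
      rw [hgn (g⁻¹ * q * g)]
      have : g * (g⁻¹ * q * g) * g⁻¹ = q := by group
      rw [this]; exact hq
    have h2 : (g⁻¹ * q * g) x = x := (hQH0 h1).2 x hx
    have h3 : q (g x) = g ((g⁻¹ * q * g) x) := by
      simp only [LinearEquiv.mul_apply]
      have : g (g⁻¹ (q (g x))) = q (g x) := by
        rw [← LinearEquiv.mul_apply, mul_inv_cancel]; rfl
      rw [this]
    rw [h3, h2]
  obtain ⟨hgM, hgv, hgk⟩ := hQ'H1 hgQ'
  obtain ⟨σ, hσ⟩ := S1 g hgM hgL hgv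
  have hσk : σ k = k := by
    have h1 := hσ k
    rw [hgk] at h1
    have h2 : (k - σ k) • v = 0 := by rw [sub_smul, ← h1, sub_self]
    rcases smul_eq_zero.mp h2 with h3 | h3
    · exact (sub_eq_zero.mp h3).symm
    · exact absurd h3 hv
  have hσ1 : σ = 1 := GALFIX hr σ k hk hσk
  -- `g` fixes `L` pointwise
  have hgH0 : g ∈ StabPt M (Kline (F := F) (K := K) v) := by
    refine ⟨hgM, ?_⟩
    intro x hx
    obtain ⟨c, rfl⟩ := SYLH1.mem_Kline.mp hx
    rw [hσ c, hσ1]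
    rfl
  -- `Q' ⊓ H0` is a `p`-subgroup of `H0` containing `Q` and `g`
  have h4 := hQmax (Q' ⊓ StabPt M (Kline (F := F) (K := K) v)) inf_le_right
    (hQ'p.to_le inf_le_left) (le_inf hQQ' hQH0)
  have h5 : g ∈ Q' ⊓ StabPt M (Kline (F := F) (K := K) v) := ⟨hgQ', hgH0⟩
  rw [h4] at h5
  exact hgQ h5

end Cfsg.Agent.S5664P
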