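import Mathlib
import Cfsg.Agent.Helper5.ZasDefs
import Cfsg.Agent.Helper3.ZasBasic
import Cfsg.Agent.Helper3.ZasBasic2
import Cfsg.Agent.Helper18.DicksonK2

/-!
# Zassenhaus cluster, piece Z2: Dickson's theorem applied to a subgroup of `SL₂(ZMod p)` generated
by elements of order three.
-/

set_option autoImplicit false

namespace Cfsg.Agent.Helper5.Zas

variable {p : ℕ} [Fact p.Prime] {G : Type*} [Group G] [Finite G] {V : Type*} [AddCommGroup V]
  [Module (ZMod p) V] [Finite V] [Nontrivial V]

local notation "SL2p" => Matrix.SpecialLinearGroup (Fin 2) (ZMod p)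
local notation "PSL2p" => Matrix.ProjectiveSpecialLinearGroup (Fin 2) (ZMod p)

namespace Z2

theorem diag_neg_one {F : Type*} [Field F] :
    (Matrix.diagonal fun _ : Fin 2 => (-1 : F)) = -1 := by
  ext i j
  fin_cases i <;> fin_cases j <;> simp

/-- an element of the centre of `SL₂` is `±1` -/
theorem center_cases {F : Type*} [Field F] (A : Matrix.SpecialLinearGroup (Fin 2) F)
    (hA : A ∈ Subgroup.center (Matrix.SpecialLinearGroup (Fin 2) F)) : A = 1 ∨ A = -1 := by
  rw [Matrix.SpecialLinearGroup.mem_center_iff] at hA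
  obtain ⟨r, hr, hA⟩ := hA
  rw [Fintype.card_fin] at hr
  have hr' : r = 1 ∨ r = -1 := sq_eq_one_iff.mp hr
  rcases hr' with h | h
  · left
    apply Subtype.ext
    rw [← hA, h]
    simp
  · right
    apply Subtype.ext
    rw [← hA, h]
    simp [diag_neg_one]

theorem neg_one_mem_center {F : Type*} [Field F] :
    (-1 : Matrix.SpecialLinearGroup (Fin 2) F) ∈
      Subgroup.center (Matrix.SpecialLinearGroup (Fin 2) F) := by
  rw [Matrix.SpecialLinearGroup.mem_center_iff]
  refine ⟨-1, by simp, ?_⟩
  simp [diag_neg_one]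

/-- an element of `DihedralGroup k` whose cube is `1` is a rotation -/
theorem dihedral_cube {k : ℕ} (a : DihedralGroup k) (ha : a ^ 3 = 1) : ∃ i, a = DihedralGroup.r i := by
  cases a with
  | r i => exact ⟨i, rfl⟩
  | sr i =>
    exfalso
    have h2 : DihedralGroup.sr i * DihedralGroup.sr i = 1 := DihedralGroup.sr_mul_self i
    have h3 : (DihedralGroup.sr i) ^ 3 = DihedralGroup.sr i := by
      rw [pow_succ, pow_two, h2, one_mul]
    rw [h3] at ha
    have := DihedralGroup.orderOf_sr i
    rw [ha, orderOf_one] at this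
    omega

end Z2

open Z2 in
theorem isBinary_of_sl2 (S : Setup p G V) (T : Set G) (h3 : ∀ g ∈ T, orderOf g = 3)
    {x y : G} (hx : x ∈ T) (hy : y ∈ T) (hxy : y ∉ Subgroup.zpowers x)
    (φ : Subgroup.closure T →* SL2p) (hφ : Function.Injective φ) :
    IsBinary (Subgroup.closure T) := by
  classical
  have hpgt := S.p_gt
  have hGpos : 0 < Nat.card G := Nat.card_pos
  have hp2 : p ≠ 2 := by omega
  have h2F : (2 : ZMod p) ≠ 0 := by
    intro h
    have : ((2 : ℕ) : ZMod p) = 0 := by exact_mod_cast h
    rw [ZMod.natCast_eq_zero_iff] at this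
    have := Nat.le_of_dvd (by norm_num) this
    omega
  obtain ⟨M, hM⟩ : ∃ M : Subgroup G, M = Subgroup.closure T := ⟨_, rfl⟩
  -- the projection to `PSL₂`
  let q : SL2p →* PSL2p := QuotientGroup.mk' _
  let ψ : Subgroup.closure T →* PSL2p := q.comp φ
  have hker : ∀ g : Subgroup.closure T, ψ g = 1 ↔ (φ g = 1 ∨ φ g = -1) := by
    intro g
    show q (φ g) = 1 ↔ _
    rw [← MonoidHom.mem_ker, QuotientGroup.ker_mk']
    constructor
    · exact center_cases _
    · rintro (h | h)
      · rw [h]; exact Subgroup.one_mem _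
      · rw [h]; exact neg_one_mem_center
  -- an element mapping to `-1` is a central involution
  have hneg_sq : ∀ g : Subgroup.closure T, φ g = -1 → g * g = 1 := by
    intro g hg
    apply hφ
    rw [map_mul, hg, map_one]
    simp
  have hneg_ne : ∀ g : Subgroup.closure T, φ g = -1 → g ≠ 1 := by
    intro g hg h1
    rw [h1, map_one] at hg
    have h00 := congrArg (fun A : SL2p => (A : Matrix (Fin 2) (Fin 2) (ZMod p)) 0 0) hg
    simp only [Matrix.SpecialLinearGroup.coe_one, Matrix.one_apply_eq,
      Matrix.SpecialLinearGroup.coe_neg, Matrix.neg_apply] at h00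
    apply h2F
    linear_combination h00
  have hneg_comm : ∀ g : Subgroup.closure T, φ g = -1 → ∀ h : Subgroup.closure T, g * h = h * g := by
    intro g hg h
    apply hφ
    rw [map_mul, map_mul, hg]
    exact (Subgroup.mem_center_iff.mp neg_one_mem_center (φ h)).symm
  -- the two generators
  let a : Subgroup.closure T := ⟨x, Subgroup.subset_closure hx⟩
  let b : Subgroup.closure T := ⟨y, Subgroup.subset_closure hy⟩
  have ha3 : a ^ 3 = 1 := by
    apply Subtype.ext
    show x ^ 3 = 1
    rw [← h3 x hx]; exact pow_orderOf_eq_one x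
  have hb3 : b ^ 3 = 1 := by
    apply Subtype.ext
    show y ^ 3 = 1
    rw [← h3 y hy]; exact pow_orderOf_eq_one y
  have hb1 : b ≠ 1 := by
    intro h
    have : y = 1 := congrArg Subtype.val h
    have h3y := h3 y hy
    rw [this, orderOf_one] at h3y
    omega
  -- the images of `a` and `b` do not commute
  have hnc : ψ a * ψ b ≠ ψ b * ψ a := by
    intro hc
    have h1 : ψ (a * b * a⁻¹ * b⁻¹) = 1 := by
      rw [map_mul, map_mul, map_mul, hc, map_inv, map_inv]
      group
    rcases (hker _).mp h1 with h | h
    · have h2 : a * b * a⁻¹ * b⁻¹ = 1 := hφ (by rw [h, map_one])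
      have h4 : a * b = b * a := by
        calc a * b = (a * b * a⁻¹ * b⁻¹) * (b * a) := by group
          _ = b * a := by rw [h2, one_mul]
      have h5 : x * y = y * x := congrArg Subtype.val h4
      exact hxy (S.mem_zpowers_of_commute h5 (by rw [h3 x hx, h3 y hy]))
    · obtain ⟨c, hc⟩ : ∃ c, c = a * b * a⁻¹ * b⁻¹ := ⟨_, rfl⟩
      rw [← hc] at h
      have hcc := hneg_sq c h
      have hc1 := hneg_ne c h
      have hcom := hneg_comm c h
      have h6 : a * b * a⁻¹ = c * b := by rw [hc]; group
      have h7 : (a * b * a⁻¹) ^ 3 = 1 := by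
        rw [conj_pow, hb3]; group
      rw [h6] at h7
      have h8 : (c * b) ^ 3 = c := by
        have : (c * b) ^ 3 = c * c * c * (b ^ 3) := by
          rw [pow_succ, pow_two, pow_succ, pow_two]
          have e1 := hcom b
          calc c * b * (c * b) * (c * b) = c * (b * c) * (b * c) * b := by group
            _ = c * (c * b) * (c * b) * b := by rw [← e1]
            _ = c * c * (b * c) * b * b := by group
            _ = c * c * (c * b) * b * b := by rw [← e1]
            _ = c * c * c * (b * b * b) := by group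
        rw [this, hb3, hcc, one_mul, mul_one]
      rw [h8] at h7
      exact hc1 h7
  -- Dickson
  have hcardH : ¬ p ∣ Nat.card ψ.range := by
    intro hdvd
    have h1 : Nat.card ψ.range ∣ Nat.card (Subgroup.closure T) := Subgroup.card_range_dvd ψ
    have h2 : Nat.card (Subgroup.closure T) ∣ Nat.card G := Subgroup.card_subgroup_dvd_card _
    have h3 := Nat.le_of_dvd hGpos (hdvd.trans (h1.trans h2))
    omega
  -- the restricted map
  have hsurj : Function.Surjective ψ.rangeRestrict := ψ.rangeRestrict_surjective
  have hrr : ∀ g, (ψ.rangeRestrict g : PSL2p) = ψ g := fun g => rfl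
  have hnc' : ψ.rangeRestrict a * ψ.rangeRestrict b ≠ ψ.rangeRestrict b * ψ.rangeRestrict a := by
    intro h
    apply hnc
    have := congrArg Subtype.val h
    simpa using this
  -- kernel of order two when the image has even order
  have hkercard : ∀ {A : Type} [Group A] (π : Subgroup.closure T →* A),
      (∀ g, π g = 1 ↔ ψ g = 1) → Even (Nat.card (Subgroup.closure T)) → Nat.card π.ker = 2 := by
    intro A _ π hπ heven
    have h2dvd : 2 ∣ Nat.card (Subgroup.closure T) := heven.two_dvd
    have : Fact (Nat.Prime 2) := ⟨Nat.prime_two⟩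
    obtain ⟨z, hz⟩ := exists_prime_orderOf_dvd_card' 2 h2dvd
    have hz1 : z ≠ 1 := by
      intro h; rw [h, orderOf_one] at hz; omega
    have hzz : z * z = 1 := by
      rw [← pow_two, ← hz]; exact pow_orderOf_eq_one z
    have hφz : φ z = -1 := by
      apply Cfsg.Agent.Helper18.Dickson.eq_neg_one_of_sq h2F
      · intro h
        exact hz1 (hφ (by rw [h, map_one]))
      · rw [← map_mul, hzz, map_one]
    have hset : (π.ker : Set (Subgroup.closure T)) = {1, z} := by
      ext g
      simp only [SetLike.mem_coe, MonoidHom.mem_ker, Set.mem_insert_iff, Set.mem_singleton_iff]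
      rw [hπ, hker]
      constructor
      · rintro (h | h)
        · left; exact hφ (by rw [h, map_one])
        · right; exact hφ (by rw [h, hφz])
      · rintro (h | h)
        · left; rw [h, map_one]
        · right; rw [h, hφz]
    have : Nat.card π.ker = Set.ncard (π.ker : Set (Subgroup.closure T)) := by
      rw [← Nat.card_coe_set_eq]; rfl
    rw [this, hset, Set.ncard_pair (Ne.symm hz1)]
  have hcardM : ∀ {A : Type} [Group A] (π : Subgroup.closure T →* A), Function.Surjective π →
      Nat.card (Subgroup.closure T) = Nat.card π.ker * Nat.card A := by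
    intro A _ π hπ
    rw [← Nat.card_congr (QuotientGroup.quotientKerEquivOfSurjective π hπ).toEquiv, mul_comm]
    exact Subgroup.card_eq_card_quotient_mul_card_subgroup _
  rcases Cfsg.Agent.Helper18.Dickson.pprime_dickson p hp2 ψ.range hcardH with ⟨k, -, ⟨hcyc, -⟩ | ⟨⟨e⟩⟩⟩ | ⟨⟨e⟩⟩ | ⟨⟨e⟩⟩ | ⟨⟨e⟩⟩
  · -- cyclic
    exfalso
    apply hnc'
    obtain ⟨g, hg⟩ := hcyc.exists_generator
    obtain ⟨m, hm⟩ := Subgroup.mem_zpowers_iff.mp (hg (ψ.rangeRestrict a))
    obtain ⟨n, hn⟩ := Subgroup.mem_zpowers_iff.mp (hg (ψ.rangeRestrict b))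
    rw [← hm, ← hn, ← zpow_add, ← zpow_add, add_comm]
  · -- dihedral
    exfalso
    apply hnc'
    apply e.injective
    rw [map_mul, map_mul]
    obtain ⟨i, hi⟩ := dihedral_cube (e (ψ.rangeRestrict a)) (by rw [← map_pow, ← map_pow, ha3, map_one, map_one])
    obtain ⟨j, hj⟩ := dihedral_cube (e (ψ.rangeRestrict b)) (by rw [← map_pow, ← map_pow, hb3, map_one, map_one])
    rw [hi, hj, DihedralGroup.r_mul_r, DihedralGroup.r_mul_r, add_comm]
  · -- `A₄`
    left
    let π : Subgroup.closure T →* alternatingGroup (Fin 4) := e.toMonoidHom.comp ψ.rangeRestrict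
    have hπs : Function.Surjective π := e.surjective.comp hsurj
    have hπk : ∀ g, π g = 1 ↔ ψ g = 1 := by
      intro g
      show e (ψ.rangeRestrict g) = 1 ↔ _
      rw [map_eq_one_iff e e.injective, Subtype.ext_iff, hrr]
      rfl
    have hc := hcardM π hπs
    have hA : Nat.card (alternatingGroup (Fin 4)) = 12 := by
      have := two_mul_nat_card_alternatingGroup (α := Fin 4)
      rw [Nat.card_perm, Nat.card_fin] at this
      have h24 : Nat.factorial 4 = 24 := by decide
      omega
    have heven : Even (Nat.card (Subgroup.closure T)) := by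
      rw [hc, hA]; exact Even.mul_left (by decide) _
    have hk := hkercard π hπk heven
    refine ⟨by rw [hc, hk, hA], π, hπs, hk⟩
  · -- `S₄`
    exfalso
    let π : Subgroup.closure T →* Equiv.Perm (Fin 4) := e.toMonoidHom.comp ψ.rangeRestrict
    have hπs : Function.Surjective π := e.surjective.comp hsurj
    let σ : Subgroup.closure T →* ℤˣ := Equiv.Perm.sign.comp π
    have hσ : ∀ g : Subgroup.closure T, σ g = 1 := by
      intro g
      have hle : Subgroup.closure T ≤ (σ.ker).map (Subgroup.closure T).subtype := by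
        rw [Subgroup.closure_le]
        intro t ht
        refine ⟨⟨t, Subgroup.subset_closure ht⟩, ?_, rfl⟩
        rw [SetLike.mem_coe, MonoidHom.mem_ker]
        have h3t : (⟨t, Subgroup.subset_closure ht⟩ : Subgroup.closure T) ^ 3 = 1 := by
          apply Subtype.ext
          show t ^ 3 = 1
          rw [← h3 t ht]; exact pow_orderOf_eq_one t
        have h4 : (σ ⟨t, Subgroup.subset_closure ht⟩) ^ 3 = 1 := by rw [← map_pow, h3t, map_one]
        rcases Int.units_eq_one_or (σ ⟨t, Subgroup.subset_closure ht⟩) with h | h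
        · exact h
        · rw [h] at h4
          exact absurd h4 (by decide)
      obtain ⟨g', hg', hgg⟩ := hle g.2
      have : g' = g := Subtype.ext hgg
      rw [← this]; exact hg'
    obtain ⟨g, hg⟩ := hπs (Equiv.swap 0 1)
    have := hσ g
    change Equiv.Perm.sign (π g) = 1 at this
    rw [hg, Equiv.Perm.sign_swap (by decide)] at this
    exact absurd this (by decide)
  · -- `A₅`
    right
    let π : Subgroup.closure T →* alternatingGroup (Fin 5) := e.toMonoidHom.comp ψ.rangeRestrict
    have hπs : Function.Surjective π := e.surjective.comp hsurj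
    have hπk : ∀ g, π g = 1 ↔ ψ g = 1 := by
      intro g
      show e (ψ.rangeRestrict g) = 1 ↔ _
      rw [map_eq_one_iff e e.injective, Subtype.ext_iff, hrr]
      rfl
    have hc := hcardM π hπs
    have hA : Nat.card (alternatingGroup (Fin 5)) = 60 := by
      have := two_mul_nat_card_alternatingGroup (α := Fin 5)
      rw [Nat.card_perm, Nat.card_fin] at this
      have h120 : Nat.factorial 5 = 120 := by decide
      omega
    have heven : Even (Nat.card (Subgroup.closure T)) := by
      rw [hc, hA]; exact Even.mul_left (by decide) _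
    have hk := hkercard π hπk heven
    refine ⟨by rw [hc, hk, hA], π, hπs, hk⟩

end Cfsg.Agent.Helper5.Zas
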