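import Mathlib
import Cfsg.Agent.Helper5.ZasDefs
import Cfsg.Agent.Helper18.Order60Char

/-!
# Zassenhaus cluster, piece Y2 (relative form): a nonsolvable group with a split fixed-point-free
setup has `N = ⟨elements of order three⟩` binary icosahedral, normal, perfect and `≅ SL(2,5)`.

The three inputs (`order_three_closure` (Z9), the two `Y1` by-products and `perfect_iso_sl25`
(Z10)) are taken as hypotheses; the absolute wrapper lives in `ZasNonsolv2`.
-/

set_option autoImplicit false
set_option linter.unusedSectionVars false

open scoped commutatorElement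

namespace Cfsg.Agent.Helper5.Zas

namespace Y2

variable {p : ℕ} [Fact p.Prime] {G : Type*} [Group G] [Finite G] {V : Type*} [AddCommGroup V]
  [Module (ZMod p) V] [Finite V] [Nontrivial V]

theorem not_isSolvable_A5 : ¬ Group.IsSolvable (alternatingGroup (Fin 5)) := by
  intro hs
  apply Equiv.Perm.not_isSolvable_fin_5
  exact Group.isSolvable_of_ker_le_range (alternatingGroup (Fin 5)).subtype Equiv.Perm.sign (by
    rw [Subgroup.range_subtype]; exact le_of_eq rfl)

/-- `A₅` is perfect -/
theorem commutator_A5 : commutator (alternatingGroup (Fin 5)) = ⊤ := by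
  have hn : (commutator (alternatingGroup (Fin 5))).Normal := by
    unfold commutator; infer_instance
  rcases hn.eq_bot_or_eq_top with h | h
  · exfalso
    apply not_isSolvable_A5
    have hc : ∀ a b : alternatingGroup (Fin 5), a * b = b * a := by
      intro a b
      have : ⁅a, b⁆ ∈ commutator (alternatingGroup (Fin 5)) :=
        Subgroup.commutator_mem_commutator (Subgroup.mem_top a) (Subgroup.mem_top b)
      rw [h, Subgroup.mem_bot, commutatorElement_def] at this
      calc a * b = (a * b * a⁻¹ * b⁻¹) * (b * a) := by group
        _ = b * a := by rw [this, one_mul]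
    exact (IsSimpleGroup.comm_iff_isSolvable (G := alternatingGroup (Fin 5))).1 hc
  · exact h

/-- the subgroup generated by the elements of order three is normal -/
theorem closure_three_normal : (Subgroup.closure {g : G | orderOf g = 3}).Normal := by
  refine ⟨fun n hn g => ?_⟩
  induction hn using Subgroup.closure_induction with
  | mem x hx =>
    apply Subgroup.subset_closure
    show orderOf (g * x * g⁻¹) = 3
    have := (MulAut.conj g).orderOf_eq x
    rw [MulAut.conj_apply] at this
    rw [this]; exact hx
  | one => simp
  | mul x y _ _ hx hy =>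
    have : g * (x * y) * g⁻¹ = (g * x * g⁻¹) * (g * y * g⁻¹) := by group
    rw [this]; exact mul_mem hx hy
  | inv x _ hx =>
    have : g * x⁻¹ * g⁻¹ = (g * x * g⁻¹)⁻¹ := by group
    rw [this]; exact inv_mem hx

/-- a group of order `24` with a quotient `A₄` with kernel of order two is solvable -/
theorem solvable_of_binary_tetra {N : Type*} [Group N] [Finite N]
    (π : N →* alternatingGroup (Fin 4)) (hker : Nat.card π.ker = 2) : Group.IsSolvable N := by
  have h1 : Group.IsSolvable π.ker :=
    Cfsg.Agent.Helper18.Order60Char.solvable_of_card_dvd_sixty (by rw [hker]; norm_num)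
      (by rw [hker]; norm_num)
  have h2 : Group.IsSolvable (alternatingGroup (Fin 4)) := by
    have hc : Nat.card (alternatingGroup (Fin 4)) = 12 := by
      rw [Nat.card_eq_fintype_card]; decide
    exact Cfsg.Agent.Helper18.Order60Char.solvable_of_card_dvd_sixty (by rw [hc]; norm_num)
      (by rw [hc]; norm_num)
  exact Group.isSolvable_of_ker_le_range π.ker.subtype π (by rw [Subgroup.range_subtype])

/-- the restriction of a setup to a subgroup (same space) -/
def subSetup (S : Setup p G V) (N : Subgroup G) : Setup p N V where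
  ρ := S.ρ.comp N.subtype
  fpf := fun g hg v hv => S.fpf (g : G) (fun h => hg (Subtype.ext h)) v hv
  split := dvd_trans (mul_dvd_mul_left 120 (Subgroup.card_subgroup_dvd_card N)) S.split

/-- a group generated by elements of order three with a quotient `A₅` with kernel of order two is
perfect -/
theorem perfect_of_binary_icos (N : Subgroup G)
    (hN : N = Subgroup.closure {g : G | orderOf g = 3})
    (π : N →* alternatingGroup (Fin 5)) (hπ : Function.Surjective π)
    (hker : Nat.card π.ker = 2) : commutator N = ⊤ := by
  have hCn : (commutator N).Normal := by unfold commutator; infer_instance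
  have hmap : (commutator N).map π = ⊤ := by
    unfold commutator
    rw [Subgroup.map_commutator, ← MonoidHom.range_eq_map, MonoidHom.range_eq_top.2 hπ]
    exact commutator_A5
  have key : ∀ x : N, orderOf (x : G) = 3 → x ∈ commutator N := by
    intro x hx
    have hx3 : x ^ 3 = 1 := by
      apply Subtype.ext
      rw [Subgroup.coe_pow, ← hx, pow_orderOf_eq_one]; rfl
    have : π x ∈ (commutator N).map π := by rw [hmap]; exact Subgroup.mem_top _
    obtain ⟨c, hc, hcx⟩ := this
    have hk : c⁻¹ * x ∈ π.ker := by
      rw [MonoidHom.mem_ker, map_mul, map_inv, hcx, inv_mul_cancel]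
    have hk2 : (c⁻¹ * x) ^ 2 = 1 := by
      have := pow_card_eq_one' (G := π.ker) (x := ⟨c⁻¹ * x, hk⟩)
      rw [hker] at this
      exact congrArg Subtype.val this
    -- x² = c * (k c k⁻¹) * k²
    have hx2 : x ^ 2 ∈ commutator N := by
      have e : x ^ 2 = c * ((c⁻¹ * x) * c * (c⁻¹ * x)⁻¹) * ((c⁻¹ * x) * (c⁻¹ * x)) := by
        rw [pow_two]; group
      rw [e, ← pow_two, hk2, mul_one]
      exact mul_mem hc (hCn.conj_mem c hc _)
    have e2 : x = (x ^ 2)⁻¹ := by
      rw [eq_inv_iff_mul_eq_one]
      calc x * x ^ 2 = x ^ 3 := by group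
        _ = 1 := hx3
    rw [e2]; exact inv_mem hx2
  rw [eq_top_iff]
  intro y _
  have hle : N ≤ (commutator N).map N.subtype := by
    conv_lhs => rw [hN]
    rw [Subgroup.closure_le]
    intro g hg
    have hgN : g ∈ N := by rw [hN]; exact Subgroup.subset_closure hg
    exact ⟨⟨g, hgN⟩, key ⟨g, hgN⟩ hg, rfl⟩
  obtain ⟨y', hy', e⟩ := hle y.2
  have : y' = y := Subtype.ext e
  rw [← this]; exact hy'

/-- **Y2, relative form.** -/
theorem nonsolvable_closure_of (S : Setup p G V) (hns : ¬ Group.IsSolvable G)
    (hZ9 : (∃ x : G, ∀ g : G, orderOf g = 3 → g ∈ Subgroup.zpowers x) ∨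
      IsBinary (Subgroup.closure {g : G | orderOf g = 3}))
    (hY1a : (∃ x : G, ∀ g : G, orderOf g = 3 → g ∈ Subgroup.zpowers x) → Group.IsSolvable G)
    (hY1b : IsBinary (Subgroup.closure {g : G | orderOf g = 3}) →
      ∀ _ : (Subgroup.closure {g : G | orderOf g = 3}).Normal,
        Group.IsSolvable (G ⧸ Subgroup.closure {g : G | orderOf g = 3}))
    (hZ10 : Setup p (Subgroup.closure {g : G | orderOf g = 3}) V →
      commutator (Subgroup.closure {g : G | orderOf g = 3}) = ⊤ →
      Nontrivial (Subgroup.closure {g : G | orderOf g = 3}) →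
      Nonempty ((Subgroup.closure {g : G | orderOf g = 3}) ≃*
        Matrix.SpecialLinearGroup (Fin 2) (ZMod 5))) :
    Nat.card (Subgroup.closure {g : G | orderOf g = 3}) = 120 ∧
    (Subgroup.closure {g : G | orderOf g = 3}).Normal ∧
    (∃ π : Subgroup.closure {g : G | orderOf g = 3} →* alternatingGroup (Fin 5),
      Function.Surjective π ∧ Nat.card π.ker = 2) ∧
    Nonempty (Subgroup.closure {g : G | orderOf g = 3} ≃*
      Matrix.SpecialLinearGroup (Fin 2) (ZMod 5)) := by
  have hnorm : (Subgroup.closure {g : G | orderOf g = 3}).Normal := closure_three_normal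
  rcases hZ9 with h | hbin
  · exact absurd (hY1a h) hns
  have hquot := hY1b hbin hnorm
  rcases hbin with ⟨_, π, _, hker⟩ | ⟨hcard, π, hπ, hker⟩
  · exfalso
    apply hns
    have hsN : Group.IsSolvable (Subgroup.closure {g : G | orderOf g = 3}) :=
      solvable_of_binary_tetra π hker
    exact Group.isSolvable_of_ker_le_range
      (Subgroup.closure {g : G | orderOf g = 3}).subtype
      (QuotientGroup.mk' (Subgroup.closure {g : G | orderOf g = 3}))
      (by rw [QuotientGroup.ker_mk', Subgroup.range_subtype])
  · refine ⟨hcard, hnorm, ⟨π, hπ, hker⟩, ?_⟩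
    have hperf := perfect_of_binary_icos (Subgroup.closure {g : G | orderOf g = 3}) rfl π hπ hker
    have hnt : Nontrivial (Subgroup.closure {g : G | orderOf g = 3}) := by
      have : 1 < Nat.card (Subgroup.closure {g : G | orderOf g = 3}) := by rw [hcard]; norm_num
      exact Finite.one_lt_card_iff_nontrivial.1 this
    exact hZ10 (subSetup S _) hperf hnt

end Y2

end Cfsg.Agent.Helper5.Zas
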