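import Mathlib
import Cfsg.Agent.Helper5.ZasDefs
import Cfsg.Agent.Helper3.ZasBasic

/-!
# Zassenhaus cluster, piece Z8: the pentagon argument (relative version)

`pentagon_of` proves the pentagon statement from `pair_cases`, `corA` and `thmB`, taken as
hypotheses.
-/

set_option autoImplicit false

namespace Cfsg.Agent.Helper5.Zas

variable {p : ℕ} [Fact p.Prime] {G : Type*} [Group G] [Finite G] {V : Type*} [AddCommGroup V]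
  [Module (ZMod p) V] [Finite V] [Nontrivial V]

namespace Z8

/-! ### Facts about `Perm (Fin 5)` -/

theorem fix_other (σ : Equiv.Perm (Fin 5)) : σ ^ 3 = 1 → σ ≠ 1 → ∀ k : Fin 5, σ k = k →
    ∃ j : Fin 5, j ≠ k ∧ σ j = j ∧ ∀ i, σ i = i → i = k ∨ i = j := by
  revert σ
  decide +kernel

theorem same_fix (σ : Equiv.Perm (Fin 5)) : σ ^ 3 = 1 → σ ≠ 1 → ∀ k j : Fin 5, k ≠ j → σ k = k →
    σ j = j → ∀ τ : Equiv.Perm (Fin 5), τ ^ 3 = 1 → τ ≠ 1 → τ k = k → τ j = j →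
      τ = σ ∨ τ = σ⁻¹ := by
  revert σ
  decide +kernel

set_option synthInstance.maxSize 2000 in
set_option synthInstance.maxHeartbeats 400000 in
theorem disjoint_fix_aux (σ : Equiv.Perm (Fin 5)) : (σ ^ 3 = 1 ∧ σ ≠ 1) → ∀ i j : Fin 5,
    (i ≠ j ∧ σ i = i ∧ σ j = j) → ∀ τ : Equiv.Perm (Fin 5), (τ ^ 3 = 1 ∧ τ ≠ 1) → ∀ i' j' : Fin 5,
      (i' ≠ j' ∧ τ i' = i' ∧ τ j' = j' ∧ i ≠ i' ∧ i ≠ j' ∧ j ≠ i' ∧ j ≠ j') →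
        (σ * τ) ^ 5 = 1 ∧ σ * τ ≠ 1 := by
  revert σ
  decide +kernel

theorem disjoint_fix (σ : Equiv.Perm (Fin 5)) (h1 : σ ^ 3 = 1) (h2 : σ ≠ 1) (i j : Fin 5)
    (hij : i ≠ j) (hi : σ i = i) (hj : σ j = j) (τ : Equiv.Perm (Fin 5)) (h3 : τ ^ 3 = 1)
    (h4 : τ ≠ 1) (i' j' : Fin 5) (hij' : i' ≠ j') (hi' : τ i' = i') (hj' : τ j' = j')
    (h5 : i ≠ i') (h6 : i ≠ j') (h7 : j ≠ i') (h8 : j ≠ j') :
    (σ * τ) ^ 5 = 1 ∧ σ * τ ≠ 1 :=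
  disjoint_fix_aux σ ⟨h1, h2⟩ i j ⟨hij, hi, hj⟩ τ ⟨h3, h4⟩ i' j' ⟨hij', hi', hj', h5, h6, h7, h8⟩

theorem exists_pair (k : Fin 5) : ∃ σ τ : Equiv.Perm (Fin 5), σ ^ 3 = 1 ∧ τ ^ 3 = 1 ∧ σ k = k ∧
    τ k = k ∧ (σ * τ) ^ 2 = 1 ∧ σ * τ ≠ 1 := by
  revert k
  decide +kernel

theorem sign_of_cube (σ : Equiv.Perm (Fin 5)) (h : σ ^ 3 = 1) : Equiv.Perm.sign σ = 1 := by
  have h1 : (Equiv.Perm.sign σ) ^ 3 = 1 := by rw [← map_pow, h, map_one]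
  rcases Int.units_eq_one_or (Equiv.Perm.sign σ) with h2 | h2
  · exact h2
  · rw [h2] at h1
    exact absurd h1 (by decide)

theorem exists_third (a b : Fin 5) : ∃ c : Fin 5, c ≠ 0 ∧ c ≠ a ∧ c ≠ b := by
  revert a b
  decide

theorem comb_aux (a b c u v : Fin 5) : (a ≠ 0 ∧ b ≠ 0 ∧ a ≠ b ∧ c ≠ 0 ∧ c ≠ a ∧ c ≠ b ∧ u ≠ c ∧
    v ≠ c ∧ u ≠ v) →
    (0 ≠ u ∧ a ≠ u) ∨ (0 ≠ v ∧ a ≠ v) ∨ (0 ≠ u ∧ b ≠ u) ∨ (0 ≠ v ∧ b ≠ v) := by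
  revert a b c u v
  decide

theorem comb (a b c u v : Fin 5) (h1 : a ≠ 0) (h2 : b ≠ 0) (h3 : a ≠ b) (h4 : c ≠ 0) (h5 : c ≠ a)
    (h6 : c ≠ b) (h7 : u ≠ c) (h8 : v ≠ c) (h9 : u ≠ v) :
    (0 ≠ u ∧ a ≠ u) ∨ (0 ≠ v ∧ a ≠ v) ∨ (0 ≠ u ∧ b ≠ u) ∨ (0 ≠ v ∧ b ≠ v) :=
  comb_aux a b c u v ⟨h1, h2, h3, h4, h5, h6, h7, h8, h9⟩

/-! ### Lifting elements of order three -/

theorem ker_sq {L : Subgroup G} (π : L →* alternatingGroup (Fin 5)) (hker : Nat.card π.ker = 2)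
    {g : L} (hg : π g = 1) : g ^ 2 = 1 := by
  have h1 : (⟨g, hg⟩ : π.ker) ^ Nat.card π.ker = 1 := pow_card_eq_one'
  rw [hker] at h1
  exact congrArg Subtype.val h1

theorem exists_lift {L : Subgroup G} (π : L →* alternatingGroup (Fin 5))
    (hπ : Function.Surjective π) (hker : Nat.card π.ker = 2) (σ : alternatingGroup (Fin 5))
    (hσ : σ ^ 3 = 1) : ∃ a : L, π a = σ ∧ a ^ 3 = 1 := by
  obtain ⟨a₀, ha₀⟩ := hπ σ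
  refine ⟨a₀ ^ 4, ?_, ?_⟩
  · rw [map_pow, ha₀]
    calc σ ^ 4 = σ ^ 3 * σ := pow_succ σ 3
      _ = σ := by rw [hσ, one_mul]
  · have h1 : π (a₀ ^ 3) = 1 := by rw [map_pow, ha₀, hσ]
    have h2 := ker_sq π hker h1
    calc (a₀ ^ 4) ^ 3 = ((a₀ ^ 3) ^ 2) ^ 2 := by rw [← pow_mul, ← pow_mul, ← pow_mul]
      _ = 1 := by rw [h2, one_pow]

theorem eq_one_of_sq_cube {H : Type*} [Group H] {g : H} (h2 : g ^ 2 = 1) (h3 : g ^ 3 = 1) :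
    g = 1 := by
  calc g = g ^ 3 * (g ^ 2)⁻¹ := by group
    _ = 1 := by rw [h2, h3]; group

theorem orderOf_three_of {H : Type*} [Group H] {g : H} (h3 : g ^ 3 = 1) (h1 : g ≠ 1) :
    orderOf g = 3 := by
  have : Fact (Nat.Prime 3) := ⟨by norm_num⟩
  exact orderOf_eq_prime h3 h1

end Z8

end Cfsg.Agent.Helper5.Zas
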