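import Mathlib
import Cfsg.Agent.Helper18.ZasPentagon

/-!
# Zassenhaus cluster, piece Z8: the pentagon argument (relative version), main proof
-/

set_option autoImplicit false

namespace Cfsg.Agent.Helper5.Zas

variable {p : ℕ} [Fact p.Prime] {G : Type*} [Group G] [Finite G] {V : Type*} [AddCommGroup V]
  [Module (ZMod p) V] [Finite V] [Nontrivial V]

namespace Z8

/-- the coercion `L → Perm (Fin 5)` -/
def pp {L : Subgroup G} (π : L →* alternatingGroup (Fin 5)) (a : L) : Equiv.Perm (Fin 5) :=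
  ((π a : alternatingGroup (Fin 5)) : Equiv.Perm (Fin 5))

theorem pp_mul {L : Subgroup G} (π : L →* alternatingGroup (Fin 5)) (a b : L) :
    pp π (a * b) = pp π a * pp π b := by
  simp [pp]

theorem pp_pow {L : Subgroup G} (π : L →* alternatingGroup (Fin 5)) (a : L) (n : ℕ) :
    pp π (a ^ n) = pp π a ^ n := by
  simp [pp]

theorem pp_one {L : Subgroup G} (π : L →* alternatingGroup (Fin 5)) :
    pp π 1 = 1 := by
  simp [pp]

theorem pp_inv {L : Subgroup G} (π : L →* alternatingGroup (Fin 5)) (a : L) :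
    pp π a⁻¹ = (pp π a)⁻¹ := by
  simp [pp]

theorem pp_eq_one {L : Subgroup G} (π : L →* alternatingGroup (Fin 5)) {a : L} (h : pp π a = 1) :
    π a = 1 := Subtype.ext h

/-- the relation: some good element of order three of `L` fixes `i` and `j` -/
def Rel {L : Subgroup G} (π : L →* alternatingGroup (Fin 5)) (w : G) (i j : Fin 5) : Prop :=
  ∃ a : L, orderOf (a : G) = 3 ∧ Good (a : G) w ∧ pp π a i = i ∧ pp π a j = j

section
variable (S : Setup p G V)
  (hpair : ∀ {x w : G}, orderOf x = 3 → orderOf w = 3 → w ∉ Subgroup.zpowers x →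
    (Good x w ∧ Nat.card (Subgroup.closure ({x, w} : Set G)) = 24) ∨
    (orderOf (x * w) = 10 ∧ Nat.card (Subgroup.closure ({x, w} : Set G)) = 120))
  (hcorA : ∀ {x y w : G}, orderOf x = 3 → orderOf y = 3 → y ∉ Subgroup.zpowers x → Good x y →
    orderOf w = 3 → w ∉ Subgroup.closure ({x, y} : Set G) →
    ∃ a b : G, a ∈ Subgroup.closure ({x, y} : Set G) ∧ b ∈ Subgroup.closure ({x, y} : Set G) ∧
      orderOf a = 3 ∧ orderOf b = 3 ∧ b ∉ Subgroup.zpowers a ∧ Good a w ∧ Good b w)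
  (hthmB : ∀ {x y w : G}, orderOf x = 3 → orderOf y = 3 → orderOf w = 3 →
    orderOf (x * y) = 10 → Good x w → Good y w → w ∈ Subgroup.closure ({x, y} : Set G))
  (L : Subgroup G) (hL : Nat.card L = 120)
  (π : L →* alternatingGroup (Fin 5)) (hπ : Function.Surjective π) (hker : Nat.card π.ker = 2)
  {w : G} (hw : orderOf w = 3) (hwL : w ∉ L)

include S hpair hcorA hπ hker hw hwL

/-- every vertex has two neighbours -/
theorem two_neighbours (k : Fin 5) :
    ∃ j j' : Fin 5, j ≠ k ∧ j' ≠ k ∧ j ≠ j' ∧ Rel π w k j ∧ Rel π w k j' := by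
  obtain ⟨σ, τ, hσ3, hτ3, hσk, hτk, hst2, hst1⟩ := exists_pair k
  have hσA : σ ∈ alternatingGroup (Fin 5) := Equiv.Perm.mem_alternatingGroup.mpr (sign_of_cube σ hσ3)
  have hτA : τ ∈ alternatingGroup (Fin 5) := Equiv.Perm.mem_alternatingGroup.mpr (sign_of_cube τ hτ3)
  obtain ⟨x, hxπ, hx3⟩ := exists_lift π hπ hker ⟨σ, hσA⟩ (Subtype.ext hσ3)
  obtain ⟨y, hyπ, hy3⟩ := exists_lift π hπ hker ⟨τ, hτA⟩ (Subtype.ext hτ3)
  have hppx : pp π x = σ := by rw [pp, hxπ]
  have hppy : pp π y = τ := by rw [pp, hyπ]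
  have hσ1 : σ ≠ 1 := by
    intro h
    rw [h, one_mul] at hst2 hst1
    exact hst1 (eq_one_of_sq_cube hst2 hτ3)
  have hτ1 : τ ≠ 1 := by
    intro h
    rw [h, mul_one] at hst2 hst1
    exact hst1 (eq_one_of_sq_cube hst2 hσ3)
  have hx1 : x ≠ 1 := by
    intro h; rw [h, pp_one] at hppx; exact hσ1 hppx.symm
  have hy1 : y ≠ 1 := by
    intro h; rw [h, pp_one] at hppy; exact hτ1 hppy.symm
  have hxo : orderOf (x : G) = 3 := by
    rw [Subgroup.orderOf_coe]; exact orderOf_three_of hx3 hx1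
  have hyo : orderOf (y : G) = 3 := by
    rw [Subgroup.orderOf_coe]; exact orderOf_three_of hy3 hy1
  have hyx : (y : G) ∉ Subgroup.zpowers (x : G) := by
    intro h
    obtain ⟨n, hn⟩ := Subgroup.mem_zpowers_iff.mp h
    have hn' : x ^ n = y := Subtype.ext (by rw [Subgroup.coe_zpow]; exact hn)
    -- then `σ τ` is a power of `σ`
    have h1 : (x * y) ^ 3 = 1 := by
      rw [← hn', ← zpow_one_add, ← zpow_natCast, ← zpow_mul, mul_comm, zpow_mul, zpow_natCast, hx3,
        one_zpow]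
    have h2 : (σ * τ) ^ 3 = 1 := by
      rw [← hppx, ← hppy, ← pp_mul, ← pp_pow, h1, pp_one]
    exact hst1 (eq_one_of_sq_cube hst2 h2)
  -- the pair is good
  have hgood : Good (x : G) (y : G) := by
    rcases hpair hxo hyo hyx with h | h
    · exact h.1
    · exfalso
      have h1 : π ((x * y) ^ 2) = 1 := by
        apply Subtype.ext
        show pp π ((x * y) ^ 2) = 1
        rw [pp_pow, pp_mul, hppx, hppy, hst2]
      have h2 := ker_sq π hker h1
      have h3 : ((x : G) * (y : G)) ^ 4 = 1 := by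
        have := congrArg (Subtype.val) h2
        simp only [Subgroup.coe_pow, Subgroup.coe_mul, Subgroup.coe_one] at this
        rw [← this, ← pow_mul]
      have h4 := orderOf_dvd_of_pow_eq_one h3
      rw [h.1] at h4
      omega
  have hTL : Subgroup.closure ({(x : G), (y : G)} : Set G) ≤ L := by
    rw [Subgroup.closure_le]
    rintro g (rfl | rfl)
    · exact x.2
    · exact y.2
  have hwT : w ∉ Subgroup.closure ({(x : G), (y : G)} : Set G) := fun h => hwL (hTL h)
  obtain ⟨a, b, haT, hbT, hao, hbo, hba, hga, hgb⟩ := hcorA hxo hyo hyx hgood hw hwT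
  -- elements of the closure fix `k`
  have hfix : ∀ g : G, g ∈ Subgroup.closure ({(x : G), (y : G)} : Set G) →
      ∃ g' : L, (g' : G) = g ∧ pp π g' k = k := by
    intro g hg
    have hle : Subgroup.closure ({(x : G), (y : G)} : Set G) ≤
        ((MulAction.stabilizer (Equiv.Perm (Fin 5)) k).comap
          ((alternatingGroup (Fin 5)).subtype.comp π)).map L.subtype := by
      rw [Subgroup.closure_le]
      rintro g (rfl | rfl)
      · refine ⟨x, ?_, rfl⟩
        show pp π x • k = k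
        rw [hppx]; exact hσk
      · refine ⟨y, ?_, rfl⟩
        show pp π y • k = k
        rw [hppy]; exact hτk
    obtain ⟨g', hg', hgg⟩ := hle hg
    exact ⟨g', hgg, hg'⟩
  obtain ⟨a', haa, hak⟩ := hfix a haT
  obtain ⟨b', hbb, hbk⟩ := hfix b hbT
  have hao' : orderOf a' = 3 := by rw [← Subgroup.orderOf_coe, haa]; exact hao
  have hbo' : orderOf b' = 3 := by rw [← Subgroup.orderOf_coe, hbb]; exact hbo
  have ha3 : a' ^ 3 = 1 := by rw [← hao']; exact pow_orderOf_eq_one a'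
  have hb3 : b' ^ 3 = 1 := by rw [← hbo']; exact pow_orderOf_eq_one b'
  have ha1 : a' ≠ 1 := by
    intro h; rw [h, orderOf_one] at hao'; omega
  have hb1 : b' ≠ 1 := by
    intro h; rw [h, orderOf_one] at hbo'; omega
  have hpa3 : pp π a' ^ 3 = 1 := by rw [← pp_pow, ha3, pp_one]
  have hpb3 : pp π b' ^ 3 = 1 := by rw [← pp_pow, hb3, pp_one]
  have hpa1 : pp π a' ≠ 1 := by
    intro h
    exact ha1 (eq_one_of_sq_cube (ker_sq π hker (pp_eq_one π h)) ha3)
  have hpb1 : pp π b' ≠ 1 := by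
    intro h
    exact hb1 (eq_one_of_sq_cube (ker_sq π hker (pp_eq_one π h)) hb3)
  obtain ⟨j, hjk, hja, hjonly⟩ := fix_other (pp π a') hpa3 hpa1 k hak
  obtain ⟨j', hjk', hjb, hjonly'⟩ := fix_other (pp π b') hpb3 hpb1 k hbk
  refine ⟨j, j', hjk, hjk', ?_, ⟨a', by rw [haa]; exact hao, by rw [haa]; exact hga, hak, hja⟩,
    ⟨b', by rw [hbb]; exact hbo, by rw [hbb]; exact hgb, hbk, hjb⟩⟩
  intro hjj
  rw [← hjj] at hjb
  -- then `π b' = (π a')^{±1}`
  have hcen : ∀ c : L, π c = 1 → ∀ d : L, d ^ 3 = 1 → (c * d) ^ 3 = 1 → c = 1 := by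
    intro c hc d hd hcd
    have hc2 := ker_sq π hker hc
    by_cases hc1 : c = 1
    · exact hc1
    · exfalso
      have hco : orderOf (c : G) = 2 := by
        rw [Subgroup.orderOf_coe]
        have : Fact (Nat.Prime 2) := ⟨Nat.prime_two⟩
        exact orderOf_eq_prime hc2 hc1
      have hcomm : c * d = d * c := Subtype.ext (S.invol_central hco (d : G))
      have h1 : (c * d) ^ 3 = c ^ 3 * d ^ 3 := (Commute.mul_pow hcomm 3)
      rw [h1, hd, mul_one] at hcd
      exact hc1 (eq_one_of_sq_cube hc2 hcd)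
  rcases same_fix (pp π a') hpa3 hpa1 k j hjk.symm hak hja (pp π b') hpb3 hpb1 hbk hjb with h | h
  · -- `b' = a'`
    have h1 : π (b' * a'⁻¹) = 1 := by
      apply Subtype.ext
      show pp π (b' * a'⁻¹) = 1
      rw [pp_mul, pp_inv, h, mul_inv_cancel]
    have h2 := hcen (b' * a'⁻¹) h1 a' ha3 (by rw [inv_mul_cancel_right]; exact hb3)
    have h3 : b' = a' := by rw [mul_inv_eq_one] at h2; exact h2
    apply hba
    rw [← hbb, ← haa, h3]
    exact Subgroup.mem_zpowers _
  · -- `b' = a'⁻¹`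
    have h1 : π (b' * a') = 1 := by
      apply Subtype.ext
      show pp π (b' * a') = 1
      rw [pp_mul, h, inv_mul_cancel]
    have ha3' : a'⁻¹ ^ 3 = 1 := by rw [inv_pow, ha3, inv_one]
    have h2 := hcen (b' * a') h1 a'⁻¹ ha3' (by rw [mul_inv_cancel_right]; exact hb3)
    have h3 : b' = a'⁻¹ := by rw [mul_eq_one_iff_eq_inv] at h2; exact h2
    apply hba
    rw [← hbb, ← haa, h3]
    exact Subgroup.inv_mem _ (Subgroup.mem_zpowers _)

include hthmB hL in
/-- **The pentagon argument**, relative to `pair_cases`, `corA` and `thmB`. -/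
theorem pentagon_of : False := by
  have hN := two_neighbours S hpair hcorA L π hπ hker hw hwL
  obtain ⟨a₀, b₀, ha₀, hb₀, hab₀, hRa, hRb⟩ := hN 0
  obtain ⟨c, hc0, hca, hcb⟩ := exists_third a₀ b₀
  obtain ⟨u, v, huc, hvc, huv, hRu, hRv⟩ := hN c
  -- two disjoint edges
  have key : ∃ i j i' j' : Fin 5, Rel π w i j ∧ Rel π w i' j' ∧ i ≠ j ∧ i' ≠ j' ∧ i ≠ i' ∧
      i ≠ j' ∧ j ≠ i' ∧ j ≠ j' := by
    rcases comb a₀ b₀ c u v ha₀ hb₀ hab₀ hc0 hca hcb huc hvc huv with h | h | h | h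
    · exact ⟨0, a₀, c, u, hRa, hRu, ha₀.symm, huc.symm, hc0.symm, h.1, hca.symm, h.2⟩
    · exact ⟨0, a₀, c, v, hRa, hRv, ha₀.symm, hvc.symm, hc0.symm, h.1, hca.symm, h.2⟩
    · exact ⟨0, b₀, c, u, hRb, hRu, hb₀.symm, huc.symm, hc0.symm, h.1, hcb.symm, h.2⟩
    · exact ⟨0, b₀, c, v, hRb, hRv, hb₀.symm, hvc.symm, hc0.symm, h.1, hcb.symm, h.2⟩
  obtain ⟨i, j, i', j', ⟨a, hao, hga, hai, haj⟩, ⟨b, hbo, hgb, hbi, hbj⟩, hij, hij', h1, h2, h3, h4⟩ :=
    key
  have hao' : orderOf a = 3 := by rw [← Subgroup.orderOf_coe]; exact hao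
  have hbo' : orderOf b = 3 := by rw [← Subgroup.orderOf_coe]; exact hbo
  have ha3 : a ^ 3 = 1 := by rw [← hao']; exact pow_orderOf_eq_one a
  have hb3 : b ^ 3 = 1 := by rw [← hbo']; exact pow_orderOf_eq_one b
  have ha1 : a ≠ 1 := by
    intro h; rw [h, orderOf_one] at hao'; omega
  have hb1 : b ≠ 1 := by
    intro h; rw [h, orderOf_one] at hbo'; omega
  have hpa3 : pp π a ^ 3 = 1 := by rw [← pp_pow, ha3, pp_one]
  have hpb3 : pp π b ^ 3 = 1 := by rw [← pp_pow, hb3, pp_one]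
  have hpa1 : pp π a ≠ 1 := by
    intro h
    exact ha1 (eq_one_of_sq_cube (ker_sq π hker (pp_eq_one π h)) ha3)
  have hpb1 : pp π b ≠ 1 := by
    intro h
    exact hb1 (eq_one_of_sq_cube (ker_sq π hker (pp_eq_one π h)) hb3)
  obtain ⟨h5, hne⟩ := disjoint_fix (pp π a) hpa3 hpa1 i j hij hai haj (pp π b) hpb3 hpb1 i' j' hij'
    hbi hbj h1 h2 h3 h4
  -- `5 ∣ o(ab)`
  have hord5 : orderOf (pp π a * pp π b) = 5 := by
    have : Fact (Nat.Prime 5) := ⟨by norm_num⟩
    exact orderOf_eq_prime h5 hne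
  have hdvd : 5 ∣ orderOf ((a : G) * (b : G)) := by
    have h6 : (pp π a * pp π b) ^ orderOf ((a : G) * (b : G)) = 1 := by
      rw [← pp_mul, ← pp_pow]
      have : (a * b) ^ orderOf ((a : G) * (b : G)) = 1 := by
        apply Subtype.ext
        rw [Subgroup.coe_pow, Subgroup.coe_mul]
        exact pow_orderOf_eq_one _
      rw [this, pp_one]
    rw [← hord5]
    exact orderOf_dvd_of_pow_eq_one h6
  have hba : (b : G) ∉ Subgroup.zpowers (a : G) := by
    intro h
    obtain ⟨n, hn⟩ := Subgroup.mem_zpowers_iff.mp h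
    have h7 : ((a : G) * (b : G)) ^ 3 = 1 := by
      have ha3G : (a : G) ^ 3 = 1 := by rw [← hao]; exact pow_orderOf_eq_one _
      rw [← hn, ← zpow_one_add, ← zpow_natCast, ← zpow_mul, mul_comm, zpow_mul, zpow_natCast, ha3G,
        one_zpow]
    have h8 := orderOf_dvd_of_pow_eq_one h7
    have h9 := Nat.le_of_dvd (by norm_num) (hdvd.trans h8)
    omega
  rcases hpair hao hbo hba with ⟨hg, -⟩ | ⟨h10, hcard⟩
  · rcases hg with h | h <;> rw [h] at hdvd <;> omega
  · have hle : Subgroup.closure ({(a : G), (b : G)} : Set G) ≤ L := by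
      rw [Subgroup.closure_le]
      rintro g (rfl | rfl)
      · exact a.2
      · exact b.2
    have heq : Subgroup.closure ({(a : G), (b : G)} : Set G) = L :=
      Subgroup.eq_of_le_of_card_ge hle (by rw [hL, hcard])
    apply hwL
    rw [← heq]
    exact hthmB hao hbo hw h10 hga hgb

end

end Z8

end Cfsg.Agent.Helper5.Zas
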