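import Mathlib
import Cfsg.Prelude.Def_FusionSystem
import Cfsg.Agent.Helper26.CB7
import Cfsg.Agent.Helper26.TT2
import Cfsg.Agent.Helper25.TTIM

set_option autoImplicit false

/-! Piece GRAD of the Tate project (driver helper26): the grading `d : X → S ⧸ hyp(F)` on the
characteristic biset.  Here the statement of piece IM enters as a hypothesis `hIM`. -/

namespace Cfsg.Agent.Helper18.TT

open Cfsg Cfsg.FusionSystem Cfsg.Agent.Helper25 Cfsg.Agent.Helper25.Park Cfsg.Agent.Helper26.TT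
  Cfsg.Agent.Helper26.CB

universe u

/-- General equivariant-map lemma: if every point `x` admits some `m` fixed by the stabilizer of
`x`, there is an equivariant map. -/
theorem exists_equivariant {H X M : Type*} [Group H] (a : H →* Equiv.Perm X)
    (β : H →* Equiv.Perm M)
    (hfix : ∀ x : X, ∃ m : M, ∀ g : H, a g x = x → β g m = m) :
    ∃ d : X → M, ∀ g x, d (a g x) = β g (d x) := by
  classical
  let rel : Setoid X :=
    { r := fun x x' => ∃ g, a g x = x'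
      iseqv := ⟨fun x => ⟨1, by simp⟩,
        fun {x y} ⟨g, hg⟩ => ⟨g⁻¹, by rw [← hg]; simp⟩,
        fun {x y z} ⟨g, hg⟩ ⟨g', hg'⟩ => ⟨g' * g, by
          rw [map_mul, Equiv.Perm.mul_apply, hg, hg']⟩⟩ }
  let rep : X → X := fun x => Quotient.out (Quotient.mk rel x)
  have hrep : ∀ x, ∃ g, a g (rep x) = x := fun x =>
    Quotient.exact (Quotient.out_eq (Quotient.mk rel x))
  choose γ hγ using hrep
  choose μ hμ using hfix
  refine ⟨fun x => β (γ x) (μ (rep x)), ?_⟩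
  intro g x
  have h1 : rep (a g x) = rep x := by
    show Quotient.out _ = Quotient.out _
    congr 1
    apply Quotient.sound
    exact ⟨g⁻¹, by simp⟩
  show β (γ (a g x)) (μ (rep (a g x))) = β g (β (γ x) (μ (rep x)))
  rw [h1]
  have h2 : a ((g * γ x)⁻¹ * γ (a g x)) (rep x) = rep x := by
    have e1 := hγ (a g x)
    rw [h1] at e1
    rw [map_mul, Equiv.Perm.mul_apply, e1, map_inv, Equiv.Perm.inv_eq_iff_eq, map_mul,
      Equiv.Perm.mul_apply, hγ x]
  have h3 := hμ (rep x) _ h2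
  rw [map_mul, Equiv.Perm.mul_apply, map_inv, Equiv.Perm.inv_eq_iff_eq, map_mul,
    Equiv.Perm.mul_apply] at h3
  exact h3

/-- the action of `S × S` on `S ⧸ Qs` by `m ↦ u m s⁻¹` -/
def betaAct {Ω : Type u} [Group Ω] (S : Subgroup Ω) (Qs : Subgroup ↥S) [Qs.Normal] :
    ↥(S.prod S) →* Equiv.Perm (↥S ⧸ Qs) where
  toFun h := Equiv.mulLeft ((pL S h : ↥S) : ↥S ⧸ Qs) * Equiv.mulRight (((pR S h : ↥S) : ↥S ⧸ Qs))⁻¹
  map_one' := by
    ext m
    simp
  map_mul' h h' := by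
    ext m
    simp only [map_mul, QuotientGroup.mk_mul, Equiv.Perm.mul_apply, Equiv.coe_mulLeft,
      Equiv.coe_mulRight, mul_inv_rev]
    group

theorem betaAct_apply {Ω : Type u} [Group Ω] (S : Subgroup Ω) (Qs : Subgroup ↥S) [Qs.Normal]
    (h : ↥(S.prod S)) (m : ↥S ⧸ Qs) :
    betaAct S Qs h m = ((pL S h : ↥S) : ↥S ⧸ Qs) * m * (((pR S h : ↥S) : ↥S ⧸ Qs))⁻¹ := by
  unfold betaAct
  simp [mul_assoc]

variable {Ω : Type u} [Group Ω] {S : Subgroup Ω}

/-- **Piece GRAD**, with the statement of piece IM as a hypothesis. -/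
theorem exists_grading_of_IM (p : ℕ) (F : FusionSystem S)
    (hIM : ∀ {R : Subgroup Ω} {ψ : R →* Ω}, ψ ∈ F.Hom R →
      ∃ c ∈ S, ∀ x : R, (ψ x)⁻¹ * (c * (x : Ω) * c⁻¹) ∈ F.hyperfocalSubgroup p)
    {X : Type u} (a : ↥(S.prod S) →* Equiv.Perm X)
    (hTD : ∀ x, TD F (stab a x)) (Qs : Subgroup ↥S) [Qs.Normal]
    (hQs : Qs = (F.hyperfocalSubgroup p).subgroupOf S) :
    ∃ d : X → ↥S ⧸ Qs, Grading Qs (lAct a) (rAct a) d := by
  have hfix : ∀ x : X, ∃ m : ↥S ⧸ Qs, ∀ g : ↥(S.prod S), a g x = x → betaAct S Qs g m = m := by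
    intro x
    obtain ⟨R, ψ, hψ, hall⟩ := hTD x
    obtain ⟨c, hc, hcx⟩ := hIM hψ
    refine ⟨(((⟨c, hc⟩ : ↥S) : ↥S ⧸ Qs))⁻¹, ?_⟩
    intro g hg
    obtain ⟨hq, he⟩ := hall g hg
    rw [betaAct_apply]
    have key : ((pR S g : ↥S) : ↥S ⧸ Qs) =
        ((⟨c, hc⟩ : ↥S) : ↥S ⧸ Qs) * ((pL S g : ↥S) : ↥S ⧸ Qs) * (((⟨c, hc⟩ : ↥S) : ↥S ⧸ Qs))⁻¹ := by
      rw [← QuotientGroup.mk_inv, ← QuotientGroup.mk_mul, ← QuotientGroup.mk_mul, QuotientGroup.eq,
        hQs, Subgroup.mem_subgroupOf]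
      have := hcx ⟨(g : Ω × Ω).1, hq⟩
      rw [he] at this
      exact this
    rw [key]
    group
  obtain ⟨d, hd⟩ := exists_equivariant a (betaAct S Qs) hfix
  refine ⟨d, ⟨?_, ?_, ?_⟩⟩
  · intro u s
    rw [lAct_mul_rAct, rAct_mul_lAct]
  · intro u x
    rw [lAct_apply, hd, betaAct_apply]
    simp
  · intro s x
    rw [rAct_apply, hd, betaAct_apply]
    simp

/-- **Piece GRAD.** -/
theorem exists_grading [Finite S] (p : ℕ) [Fact p.Prime] (hS : IsPGroup p S)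
    (F : FusionSystem S) (hF : F.IsSaturated p) {X : Type u} (a : ↥(S.prod S) →* Equiv.Perm X)
    (hTD : ∀ x, TD F (stab a x)) (Qs : Subgroup ↥S) [Qs.Normal]
    (hQs : Qs = (F.hyperfocalSubgroup p).subgroupOf S) :
    ∃ d : X → ↥S ⧸ Qs, Grading Qs (lAct a) (rAct a) d :=
  exists_grading_of_IM p F
    (fun hψ => Cfsg.Agent.Helper25.TT.exists_conj_mod_hyp p hS F hF hψ) a hTD Qs hQs

end Cfsg.Agent.Helper18.TT
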