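import Mathlib
import Cfsg.Agent.Helper7.K2M.Defs
import Cfsg.Agent.Helper28.OrthMax3
import Cfsg.Agent.Helper17.OC2TBLKND

set_option autoImplicit false
set_option linter.unusedSectionVars false
set_option linter.unusedVariables false

namespace Cfsg.Agent.K2M

open Matrix Cfsg.Agent.OC2P Cfsg.Agent.Helper28.Sg Cfsg.Agent.Helper28.Spin
  Cfsg.Agent.Helper12.OrthGen

variable {F : Type*} [Field F] [Fintype F] {t : ℕ} {Q : QuadraticForm F (Fin t × Fin 2 → F)}
  {q : QuadraticForm F (Fin 2 → F)}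

omit [Fintype F] in
/-- ANISO (S-M): a binary form not of plus type is anisotropic -/
theorem ANISO.main (q₀ : (Fin 2 → F) → F) (hq : Cfsg.Geo.IsNondegenerateQuadraticForm q₀)
    (hminus : ¬ Cfsg.Geo.IsPlusTypeOn q₀ ⊤) (y : Fin 2 → F) (hy : q₀ y = 0) : y = 0 := by
  by_contra hy0
  apply hminus
  refine ⟨Submodule.span F {y}, le_top, ?_, ?_⟩
  · intro w hw
    obtain ⟨c, rfl⟩ := Submodule.mem_span_singleton.mp hw
    rw [hq.smul, hy, mul_zero]
  · rw [finrank_span_singleton hy0, finrank_top, Module.finrank_fin_fun]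

end Cfsg.Agent.K2M
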