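import Mathlib

set_option autoImplicit false

/-! Marggraff's theorem: a primitive group with a Jordan set of size `≤ n/2` is 3-transitive. -/

namespace Cfsg.Agent.Helper18.Marggraff

open MulAction
open scoped Pointwise

variable {G Ω : Type*} [Group G] [MulAction G Ω]

/-- elementary form of "Jordan set" -/
def IsJordan (G : Type*) {Ω : Type*} [Group G] [MulAction G Ω] (Δ : Set Ω) : Prop :=
  ∀ x ∈ Δ, ∀ y ∈ Δ, ∃ g : G, (∀ z ∉ Δ, g • z = z) ∧ g • x = y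

theorem IsJordan.smul {Δ : Set Ω} (h : IsJordan G Δ) (g : G) : IsJordan G (g • Δ) := by
  rintro x ⟨x', hx', rfl⟩ y ⟨y', hy', rfl⟩
  obtain ⟨k, hk1, hk2⟩ := h x' hx' y' hy'
  refine ⟨g * k * g⁻¹, ?_, ?_⟩
  · intro z hz
    have h1 : g⁻¹ • z ∉ Δ := fun hc => hz ⟨g⁻¹ • z, hc, smul_inv_smul g z⟩
    rw [mul_smul, mul_smul, hk1 _ h1, smul_inv_smul]
  · show (g * k * g⁻¹) • g • x' = g • y'
    rw [mul_smul, inv_smul_smul, mul_smul, hk2]

theorem IsJordan.union {Δ₁ Δ₂ : Set Ω} (h₁ : IsJordan G Δ₁) (h₂ : IsJordan G Δ₂)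
    (hne : (Δ₁ ∩ Δ₂).Nonempty) : IsJordan G (Δ₁ ∪ Δ₂) := by
  obtain ⟨c, hc1, hc2⟩ := hne
  have key : ∀ x ∈ Δ₁ ∪ Δ₂, ∃ g : G, (∀ z ∉ Δ₁ ∪ Δ₂, g • z = z) ∧ g • x = c := by
    rintro x (hx | hx)
    · obtain ⟨g, hg1, hg2⟩ := h₁ x hx c hc1
      exact ⟨g, fun z hz => hg1 z (fun h => hz (Or.inl h)), hg2⟩
    · obtain ⟨g, hg1, hg2⟩ := h₂ x hx c hc2
      exact ⟨g, fun z hz => hg1 z (fun h => hz (Or.inr h)), hg2⟩
  intro x hx y hy
  obtain ⟨g, hg1, hg2⟩ := key x hx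
  obtain ⟨k, hk1, hk2⟩ := key y hy
  refine ⟨k⁻¹ * g, ?_, ?_⟩
  · intro z hz
    rw [mul_smul, hg1 z hz, inv_smul_eq_iff, hk1 z hz]
  · rw [mul_smul, hg2, inv_smul_eq_iff, hk2]

/-- Jordan's theorem (from Mathlib) in elementary form -/
theorem two_transitive [Finite Ω] (hprim : IsPreprimitive G Ω) (Γ : Set Ω) (h1 : 1 < Γ.ncard)
    (h2 : Γ.ncard < Nat.card Ω) (htr : IsJordan G Γ) : IsMultiplyPretransitive G Ω 2 := by
  have hc : Γ.ncard + Γᶜ.ncard = Nat.card Ω := Set.ncard_add_ncard_compl Γ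
  obtain ⟨n, hn⟩ : ∃ n, Γᶜ.ncard = n + 1 := ⟨Γᶜ.ncard - 1, by omega⟩
  apply hprim.is_two_pretransitive (s := Γᶜ) hn (by omega)
  constructor
  rintro ⟨x, hx⟩ ⟨y, hy⟩
  have hx' : x ∈ Γ := by
    rw [SubMulAction.mem_ofFixingSubgroup_iff] at hx
    simpa using hx
  have hy' : y ∈ Γ := by
    rw [SubMulAction.mem_ofFixingSubgroup_iff] at hy
    simpa using hy
  obtain ⟨g, hg1, hg2⟩ := htr x hx' y hy'
  refine ⟨⟨g, ?_⟩, ?_⟩
  · rw [mem_fixingSubgroup_iff]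
    intro z hz
    exact hg1 z hz
  · apply Subtype.ext
    exact hg2


section core
variable [Finite Ω]

/-- the combinatorial heart: a maximal Jordan set of size `≤ n - 2` has size exactly `n - 2` -/
theorem exists_jordan_card_sub_two (hprim : IsPreprimitive G Ω) (Γ : Set Ω) (h1 : 1 < Γ.ncard)
    (h2 : 2 * Γ.ncard ≤ Nat.card Ω) (htr : IsJordan G Γ)
    (h2t : ∀ {a b c d : Ω} (_ : a ≠ b) (_ : c ≠ d), ∃ g : G, g • a = c ∧ g • b = d) :
    ∃ Δ : Set Ω, IsJordan G Δ ∧ Δ.ncard + 2 = Nat.card Ω := by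
  classical
  have := hprim
  set n := Nat.card Ω with hn
  let 𝒮 : Set (Set Ω) := {Δ | IsJordan G Δ ∧ 2 ≤ Δ.ncard ∧ Δ.ncard + 2 ≤ n}
  have h𝒮 : 𝒮.Nonempty := ⟨Γ, htr, h1, by omega⟩
  obtain ⟨Δ, ⟨hΔJ, hΔ2, hΔn⟩, hΔmax⟩ := Set.exists_max_image 𝒮 Set.ncard (Set.toFinite 𝒮) h𝒮
  refine ⟨Δ, hΔJ, ?_⟩
  by_contra hk
  have hk3 : Δ.ncard + 3 ≤ n := by omega
  have hcardg : ∀ g : G, (g • Δ).ncard = Δ.ncard := fun g => Set.ncard_smul_set g Δ
  have hcompl : ∀ U : Set Ω, U.ncard + Uᶜ.ncard = n := fun U => Set.ncard_add_ncard_compl U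
  -- maximality
  have hM : ∀ (Δ' : Set Ω) (g : G), IsJordan G Δ' → (Δ' ∩ g • Δ).Nonempty →
      Δ' ⊆ g • Δ ∨ n ≤ (Δ' ∪ g • Δ).ncard + 1 := by
    intro Δ' g hJ hne
    have hU : IsJordan G (Δ' ∪ g • Δ) := hJ.union (hΔJ.smul g) hne
    have hsub : g • Δ ⊆ Δ' ∪ g • Δ := Set.subset_union_right
    have hle : Δ.ncard ≤ (Δ' ∪ g • Δ).ncard := by
      rw [← hcardg g]; exact Set.ncard_le_ncard hsub (Set.toFinite _)
    by_cases hU2 : (Δ' ∪ g • Δ).ncard + 2 ≤ n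
    · left
      have h3 : (Δ' ∪ g • Δ).ncard ≤ Δ.ncard := hΔmax _ ⟨hU, by omega, hU2⟩
      have h4 : g • Δ = Δ' ∪ g • Δ :=
        Set.eq_of_subset_of_ncard_le hsub (by rw [hcardg]; exact h3) (Set.toFinite _)
      rw [h4]; exact Set.subset_union_left
    · right; omega
  -- 2M + 1 ≥ n
  have hbig : n ≤ 2 * Δ.ncard + 1 := by
    obtain ⟨a, b, ha, hb, hab⟩ := (Set.one_lt_ncard_iff (Set.toFinite Δ)).mp (by omega)
    have hΔne : Δ ≠ Set.univ := by
      intro h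
      rw [h, Set.ncard_univ] at hΔn
      omega
    obtain ⟨g, hga, hgb⟩ := IsPreprimitive.exists_mem_smul_and_notMem_smul (G := G) (Set.toFinite Δ) ⟨a, ha⟩ hΔne hab
    rcases hM Δ g hΔJ ⟨a, ha, hga⟩ with h | h
    · exact absurd (h hb) hgb
    · have := Set.ncard_union_le Δ (g • Δ)
      rw [hcardg] at this
      omega
  -- lines
  have hL1 : ∀ x y : Ω, x ≠ y → ∃ g : G, x ∉ g • Δ ∧ y ∉ g • Δ := by
    intro x y hxy
    have h3 := hcompl Δ
    obtain ⟨a, b, ha, hb, hab⟩ := (Set.one_lt_ncard_iff (Set.toFinite Δᶜ)).mp (by omega)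
    obtain ⟨g, hg1, hg2⟩ := h2t hab hxy
    refine ⟨g, ?_, ?_⟩
    · rw [← hg1, Set.smul_mem_smul_set_iff]; exact ha
    · rw [← hg2, Set.smul_mem_smul_set_iff]; exact hb
  have hL2 : ∀ (g h : G) (x y : Ω), x ≠ y → x ∉ g • Δ → y ∉ g • Δ → x ∉ h • Δ → y ∉ h • Δ →
      g • Δ = h • Δ := by
    intro g h x y hxy hxg hyg hxh hyh
    by_contra hne
    have hU : n ≤ (h • Δ ∪ g • Δ).ncard + 1 := by
      by_cases hint : (h • Δ ∩ g • Δ).Nonempty
      · rcases hM (h • Δ) g (hΔJ.smul h) hint with h5 | h5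
        · exfalso
          apply hne
          exact (Set.eq_of_subset_of_ncard_le h5 (by rw [hcardg, hcardg]) (Set.toFinite _)).symm
        · exact h5
      · rw [Set.not_nonempty_iff_eq_empty, ← Set.disjoint_iff_inter_eq_empty] at hint
        rw [Set.ncard_union_eq hint (Set.toFinite _) (Set.toFinite _), hcardg, hcardg]
        omega
    have h6 := hcompl (h • Δ ∪ g • Δ)
    have h7 : 1 < (h • Δ ∪ g • Δ)ᶜ.ncard := by
      rw [Set.one_lt_ncard_iff (Set.toFinite _)]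
      refine ⟨x, y, ?_, ?_, hxy⟩
      · simp only [Set.mem_compl_iff, Set.mem_union, not_or]; exact ⟨hxh, hxg⟩
      · simp only [Set.mem_compl_iff, Set.mem_union, not_or]; exact ⟨hyh, hyg⟩
    omega
  have hL3 : ∀ g : G, Γ ∩ g • Δ = ∅ ∨ Γ ⊆ g • Δ ∨ ((g • Δ)ᶜ \ Γ).Subsingleton := by
    intro g
    by_cases hint : (Γ ∩ g • Δ).Nonempty
    · right
      rcases hM Γ g htr hint with h5 | h5
      · exact Or.inl h5
      · right
        have h6 := hcompl (Γ ∪ g • Δ)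
        have h7 : (Γ ∪ g • Δ)ᶜ.ncard ≤ 1 := by omega
        have h8 : (g • Δ)ᶜ \ Γ = (Γ ∪ g • Δ)ᶜ := by
          ext z
          simp only [Set.mem_sdiff, Set.mem_compl_iff, Set.mem_union, not_or]
          tauto
        rw [h8]
        exact Set.ncard_le_one_iff_subsingleton.mp h7
    · left
      exact Set.not_nonempty_iff_eq_empty.mp hint
  have h3pts : ∀ g : G, ∃ a b c : Ω, a ∉ g • Δ ∧ b ∉ g • Δ ∧ c ∉ g • Δ ∧ a ≠ b ∧ a ≠ c ∧ b ≠ c := by
    intro g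
    have h6 := hcompl (g • Δ)
    rw [hcardg] at h6
    have h7 : 2 < (g • Δ)ᶜ.ncard := by omega
    obtain ⟨a, b, c, ha, hb, hc, hab, hac, hbc⟩ := (Set.two_lt_ncard_iff (Set.toFinite _)).mp h7
    exact ⟨a, b, c, ha, hb, hc, hab, hac, hbc⟩
  obtain ⟨x, x', hx, hx', hxx'⟩ := (Set.one_lt_ncard_iff (Set.toFinite Γ)).mp h1
  by_cases hcol : ∃ g : G, Γ ∩ g • Δ = ∅
  · obtain ⟨g, hg⟩ := hcol
    have hΓg : ∀ y ∈ Γ, y ∉ g • Δ := fun y hy hyg => by
      have : y ∈ Γ ∩ g • Δ := ⟨hy, hyg⟩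
      rw [hg] at this
      exact this
    obtain ⟨p, hp⟩ : (g • Δ).Nonempty := by
      apply Set.nonempty_of_ncard_ne_zero
      rw [hcardg]; omega
    have hxp : x ≠ p := fun h => hΓg x hx (h ▸ hp)
    obtain ⟨h, hxh, hph⟩ := hL1 x p hxp
    rcases hL3 h with h5 | h5 | h5
    · -- Γ ⊆ ℓ h
      have hx'h : x' ∉ h • Δ := fun hc => by
        have : x' ∈ Γ ∩ h • Δ := ⟨hx', hc⟩
        rw [h5] at this
        exact this
      have := hL2 g h x x' hxx' (hΓg x hx) (hΓg x' hx') hxh hx'h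
      rw [this] at hp
      exact hph hp
    · exact hxh (h5 hx)
    · obtain ⟨a, b, c, ha, hb, hc, hab, hac, hbc⟩ := h3pts h
      -- two of a, b, c lie in Γ
      have hsub : ∀ u v : Ω, u ∉ h • Δ → v ∉ h • Δ → u ≠ v → u ∈ Γ → v ∈ Γ → False := by
        intro u v hu hv huv huΓ hvΓ
        have := hL2 g h u v huv (hΓg u huΓ) (hΓg v hvΓ) hu hv
        rw [this] at hp
        exact hph hp
      have hin : ∀ u v : Ω, u ∉ h • Δ → v ∉ h • Δ → u ≠ v → u ∉ Γ → v ∈ Γ := by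
        intro u v hu hv huv huΓ
        by_contra hvΓ
        exact huv (h5 ⟨hu, huΓ⟩ ⟨hv, hvΓ⟩)
      by_cases haΓ : a ∈ Γ
      · by_cases hbΓ : b ∈ Γ
        · exact hsub a b ha hb hab haΓ hbΓ
        · exact hsub a c ha hc hac haΓ (hin b c hb hc hbc hbΓ)
      · exact hsub b c hb hc hbc (hin a b ha hb hab haΓ) (hin a c ha hc hac haΓ)
  · push Not at hcol
    have hex : ∀ p : Ω, p ∉ Γ → ∃ q : Ω, q ∈ Γ ∧ q ≠ x ∧ ∃ h : G, x ∉ h • Δ ∧ p ∉ h • Δ ∧
        q ∉ h • Δ ∧ ((h • Δ)ᶜ \ Γ).Subsingleton := by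
      intro p hp
      have hxp : x ≠ p := fun h => hp (h ▸ hx)
      obtain ⟨h, hxh, hph⟩ := hL1 x p hxp
      rcases hL3 h with h5 | h5 | h5
      · exact absurd h5 (Set.nonempty_iff_ne_empty.mp (hcol h))
      · exact absurd (h5 hx) hxh
      · obtain ⟨a, b, c, ha, hb, hc, hab, hac, hbc⟩ := h3pts h
        have hin : ∀ u : Ω, u ∉ h • Δ → u ≠ p → u ∈ Γ := by
          intro u hu hup
          by_contra huΓ
          exact hup (h5 ⟨hu, huΓ⟩ ⟨hph, hp⟩)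
        -- one of a, b, c differs from both x and p
        have : ∃ q : Ω, q ∉ h • Δ ∧ q ≠ x ∧ q ≠ p := by
          by_cases h1 : a ≠ x ∧ a ≠ p
          · exact ⟨a, ha, h1.1, h1.2⟩
          · by_cases h2 : b ≠ x ∧ b ≠ p
            · exact ⟨b, hb, h2.1, h2.2⟩
            · refine ⟨c, hc, ?_, ?_⟩
              · rintro rfl
                rw [not_and_or, not_not, not_not] at h1 h2
                rcases h1 with h1 | h1 <;> rcases h2 with h2 | h2
                · exact hac h1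
                · exact hac h1
                · exact hbc h2
                · exact hab (h1.trans h2.symm)
              · rintro rfl
                rw [not_and_or, not_not, not_not] at h1 h2
                rcases h1 with h1 | h1 <;> rcases h2 with h2 | h2
                · exact hab (h1.trans h2.symm)
                · exact hbc h2
                · exact hac h1
                · exact hac h1
        obtain ⟨q, hqh, hqx, hqp⟩ := this
        exact ⟨q, hin q hqh hqp, hqx, h, hxh, hph, hqh, h5⟩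
    choose! f hf using hex
    have hmaps : ∀ p ∈ Γᶜ, f p ∈ Γ \ {x} := fun p hp => ⟨(hf p hp).1, (hf p hp).2.1⟩
    have hinj : Set.InjOn f Γᶜ := by
      intro p hp p' hp' hpp'
      obtain ⟨hq1, hq2, h, hxh, hph, hqh, hsub⟩ := hf p hp
      obtain ⟨hq1', hq2', h', hxh', hph', hqh', hsub'⟩ := hf p' hp'
      rw [← hpp'] at hqh'
      have := hL2 h h' x (f p) (Ne.symm hq2) hxh hqh hxh' hqh'
      rw [← this] at hph'
      exact hsub ⟨hph, hp⟩ ⟨hph', hp'⟩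
    have hle := Set.ncard_le_ncard_of_injOn f hmaps hinj (Set.toFinite _)
    have h9 := Set.ncard_sdiff_singleton_of_mem hx
    have h10 := hcompl Γ
    omega


/-- Marggraff: a primitive group with a Jordan set of size `≤ n/2` is 3-transitive -/
theorem main (hprim : IsPreprimitive G Ω) (Γ : Set Ω) (h1 : 1 < Γ.ncard)
    (h2 : 2 * Γ.ncard ≤ Nat.card Ω) (htr : IsJordan G Γ) : IsMultiplyPretransitive G Ω 3 := by
  have h2t' : IsMultiplyPretransitive G Ω 2 := two_transitive hprim Γ h1 (by omega) htr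
  have h2t : ∀ {a b c d : Ω} (_ : a ≠ b) (_ : c ≠ d), ∃ g : G, g • a = c ∧ g • b = d :=
    fun hab hcd => is_two_pretransitive_iff.mp h2t' hab hcd
  obtain ⟨Δ, hΔJ, hΔn⟩ := exists_jordan_card_sub_two hprim Γ h1 h2 htr h2t
  have hc := Set.ncard_add_ncard_compl Δ
  have hc2 : Δᶜ.ncard = 2 := by omega
  obtain ⟨α, β, hαβ, hΔc⟩ := Set.ncard_eq_two.mp hc2
  have hαΔ : α ∉ Δ := by
    have : α ∈ Δᶜ := by rw [hΔc]; exact Set.mem_insert _ _
    exact this
  have hβΔ : β ∉ Δ := by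
    have : β ∈ Δᶜ := by rw [hΔc]; exact Set.mem_insert_of_mem _ rfl
    exact this
  have hmem : ∀ w : Ω, w ≠ α → w ≠ β → w ∈ Δ := by
    intro w hwα hwβ
    by_contra hw
    have : w ∈ Δᶜ := hw
    rw [hΔc] at this
    rcases this with h | h
    · exact hwα h
    · exact hwβ h
  rw [isMultiplyPretransitive_iff]
  intro x y
  have hx01 : x 0 ≠ x 1 := fun h => absurd (x.injective h) (by decide)
  have hx02 : x 0 ≠ x 2 := fun h => absurd (x.injective h) (by decide)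
  have hx12 : x 1 ≠ x 2 := fun h => absurd (x.injective h) (by decide)
  have hy01 : y 0 ≠ y 1 := fun h => absurd (y.injective h) (by decide)
  have hy02 : y 0 ≠ y 2 := fun h => absurd (y.injective h) (by decide)
  have hy12 : y 1 ≠ y 2 := fun h => absurd (y.injective h) (by decide)
  obtain ⟨g₁, hg1a, hg1b⟩ := h2t hx01 hαβ
  obtain ⟨g₂, hg2a, hg2b⟩ := h2t hy01 hαβ
  have hx2 : g₁ • x 2 ∈ Δ := by
    apply hmem
    · rw [← hg1a]; exact fun h => hx02 (smul_left_cancel g₁ h).symm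
    · rw [← hg1b]; exact fun h => hx12 (smul_left_cancel g₁ h).symm
  have hy2 : g₂ • y 2 ∈ Δ := by
    apply hmem
    · rw [← hg2a]; exact fun h => hy02 (smul_left_cancel g₂ h).symm
    · rw [← hg2b]; exact fun h => hy12 (smul_left_cancel g₂ h).symm
  obtain ⟨h, hh1, hh2⟩ := hΔJ _ hx2 _ hy2
  refine ⟨g₂⁻¹ * h * g₁, ?_⟩
  ext i
  rw [Function.Embedding.smul_apply]
  fin_cases i
  · show (g₂⁻¹ * h * g₁) • x 0 = y 0
    rw [mul_smul, mul_smul, hg1a, hh1 α hαΔ, inv_smul_eq_iff, hg2a]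
  · show (g₂⁻¹ * h * g₁) • x 1 = y 1
    rw [mul_smul, mul_smul, hg1b, hh1 β hβΔ, inv_smul_eq_iff, hg2b]
  · show (g₂⁻¹ * h * g₁) • x 2 = y 2
    rw [mul_smul, mul_smul, hh2, inv_smul_smul]

end core

end Cfsg.Agent.Helper18.Marggraff
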