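import Mathlib
import Cfsg.Agent.Helper28.S5704SDefs

set_option autoImplicit false
set_option linter.unusedSectionVars false
set_option linter.unusedVariables false

namespace Cfsg.Agent.S5704S

open Matrix Cfsg.Agent.Helper28.Sg

variable {F : Type*} [Field F] {n a b m : ℕ}

/-- the form in coordinates, dimension two -/
theorem EXTWO.bf_two (G : Matrix (Fin 2) (Fin 2) F) (x y : Fin 2 → F) :
    bf G x y = x 0 * (G 0 0 * y 0 + G 0 1 * y 1) + x 1 * (G 1 0 * y 0 + G 1 1 * y 1) := by
  unfold bf
  simp only [dotProduct, mulVec, Fin.sum_univ_two]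

/-- an alternating form in dimension two is a multiple of the determinant -/
theorem EXTWO.bf_eq {G : Matrix (Fin 2) (Fin 2) F} (hG : IsSymp G) (x y : Fin 2 → F) :
    bf G x y = G 0 1 * (x 0 * y 1 - x 1 * y 0) := by
  have h0 := hG.alt ![1, 0]
  have h1 := hG.alt ![0, 1]
  have h2 := hG.alt ![1, 1]
  rw [EXTWO.bf_two] at h0 h1 h2
  simp only [Matrix.cons_val_zero, Matrix.cons_val_one, mul_one, mul_zero, add_zero,
    zero_add, one_mul, zero_mul] at h0 h1 h2
  rw [EXTWO.bf_two]
  have h3 : G 1 0 = - G 0 1 := by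
    rw [h0, h1] at h2
    linear_combination h2
  rw [h0, h1, h3]
  ring

/-- C2TWO (S-M): in dimension two, orthogonal vectors are proportional: `u* ` with `bf u u* = 1` (`EX.one`), `u, u*` independent hence a basis of
`F²` (`Fin 2`), `u' = α u + β u*`, `β = bf u u' = 0`. -/
theorem EX.two {G : Matrix (Fin 2) (Fin 2) F} (hG : IsSymp G) {u u' : Fin 2 → F} (hu : u ≠ 0)
    (h : bf G u u' = 0) : ∃ c : F, u' = c • u := by
  have hg : G 0 1 ≠ 0 := by
    intro hg
    apply hu
    apply hG.nondeg
    intro y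
    rw [EXTWO.bf_eq hG, hg, zero_mul]
  rw [EXTWO.bf_eq hG] at h
  have hd : u 0 * u' 1 - u 1 * u' 0 = 0 := (mul_eq_zero.mp h).resolve_left hg
  by_cases h0 : u 0 = 0
  · have h1 : u 1 ≠ 0 := by
      intro h1
      apply hu
      funext i
      fin_cases i
      · exact h0
      · exact h1
    refine ⟨u' 1 / u 1, ?_⟩
    funext i
    fin_cases i
    · show u' 0 = (u' 1 / u 1) * u 0
      rw [h0, mul_zero]
      rw [h0, zero_mul, zero_sub, neg_eq_zero] at hd
      exact (mul_eq_zero.mp hd).resolve_left h1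
    · show u' 1 = (u' 1 / u 1) * u 1
      field_simp
  · refine ⟨u' 0 / u 0, ?_⟩
    funext i
    fin_cases i
    · show u' 0 = (u' 0 / u 0) * u 0
      field_simp
    · show u' 1 = (u' 0 / u 0) * u 1
      field_simp
      linear_combination hd

end Cfsg.Agent.S5704S
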