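import Mathlib

set_option autoImplicit false

namespace Cfsg.Agent.Helper18

theorem perm_inv_apply_self' {Ω : Type*} (x : Equiv.Perm Ω) (a : Ω) : x⁻¹ (x a) = a := by simp

theorem perm_apply_inv_self' {Ω : Type*} (x : Equiv.Perm Ω) (a : Ω) : x (x⁻¹ a) = a := by simp

/-- If the supports of two permutations meet in exactly one point, their commutator is a
3-cycle. -/
theorem isThreeCycle_commutator_of_support_inter {Ω : Type*} [Fintype Ω] [DecidableEq Ω]
    (x y : Equiv.Perm Ω) (α : Ω) (hx : x α ≠ α) (hy : y α ≠ α)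
    (h : ∀ ω, ω ≠ α → x ω = ω ∨ y ω = ω) :
    (x⁻¹ * y⁻¹ * x * y).IsThreeCycle := by
  obtain ⟨γ, hγ⟩ : ∃ γ, γ = x⁻¹ α := ⟨_, rfl⟩
  obtain ⟨δ, hδ⟩ : ∃ δ, δ = y⁻¹ α := ⟨_, rfl⟩
  have hxγ : x γ = α := by rw [hγ]; exact perm_apply_inv_self' x α
  have hyδ : y δ = α := by rw [hδ]; exact perm_apply_inv_self' y α
  have hγα : γ ≠ α := fun e => hx (by rw [e] at hxγ; exact hxγ)
  have hδα : δ ≠ α := fun e => hy (by rw [e] at hyδ; exact hyδ)
  have hxinv : ∀ ω, x ω = ω → x⁻¹ ω = ω := fun ω h => by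
    rw [Equiv.Perm.inv_eq_iff_eq]; exact h.symm
  have hyinv : ∀ ω, y ω = ω → y⁻¹ ω = ω := fun ω h => by
    rw [Equiv.Perm.inv_eq_iff_eq]; exact h.symm
  have hxδ : x δ = δ := (h δ hδα).resolve_right (by rw [hyδ]; exact hδα.symm)
  have hyγ : y γ = γ := (h γ hγα).resolve_left (by rw [hxγ]; exact hγα.symm)
  have hγδ : γ ≠ δ := fun e => by rw [e, hxδ] at hxγ; exact hδα hxγ
  have key : x⁻¹ * y⁻¹ * x * y = Equiv.swap α δ * Equiv.swap α γ := by
    ext ω
    simp only [Equiv.Perm.mul_apply]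
    by_cases h1 : ω = α
    · rw [h1]
      have : x (y α) = y α := (h (y α) hy).resolve_right (fun e => hy (y.injective e))
      rw [this, perm_inv_apply_self', Equiv.swap_apply_left,
        Equiv.swap_apply_of_ne_of_ne hγα hγδ, hγ]
    by_cases h2 : ω = γ
    · rw [h2, hyγ, hxγ, Equiv.swap_apply_right, Equiv.swap_apply_left, ← hδ]
      exact hxinv δ hxδ
    by_cases h3 : ω = δ
    · rw [h3, hyδ, Equiv.swap_apply_of_ne_of_ne hδα (Ne.symm hγδ), Equiv.swap_apply_right]
      have : y (x α) = x α := (h (x α) hx).resolve_left (fun e => hx (x.injective e))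
      rw [hyinv _ this, perm_inv_apply_self']
    · rw [Equiv.swap_apply_of_ne_of_ne h1 h2, Equiv.swap_apply_of_ne_of_ne h1 h3]
      by_cases hxω : x ω = ω
      · have h4 : y ω ≠ α := fun e => h3 (by rw [hδ, ← e, perm_inv_apply_self'])
        have h5 : x (y ω) = y ω := by
          by_cases hyω : y ω = ω
          · rw [hyω]; exact hxω
          · exact (h (y ω) h4).resolve_right (fun e => hyω (y.injective e))
        rw [h5, perm_inv_apply_self']; exact hxinv ω hxω
      · have hyω : y ω = ω := (h ω h1).resolve_left hxω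
        have h4 : x ω ≠ α := fun e => h2 (by rw [hγ, ← e, perm_inv_apply_self'])
        have h5 : y (x ω) = x ω := (h (x ω) h4).resolve_left (fun e => hxω (x.injective e))
        rw [hyω, hyinv _ h5, perm_inv_apply_self']
  rw [key]
  exact Equiv.Perm.isThreeCycle_swap_mul_swap_same hδα.symm hγα.symm hγδ.symm

/-- Bochert's bound for a primitive permutation group not containing the alternating group. -/
theorem bochert_subgroup {Ω : Type*} [Fintype Ω] [DecidableEq Ω] (P : Subgroup (Equiv.Perm Ω))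
    (hprim : MulAction.IsPreprimitive P Ω) (hA : ¬ alternatingGroup Ω ≤ P) :
    Nat.card P * Nat.factorial ((Fintype.card Ω + 1) / 2) ≤ Nat.factorial (Fintype.card Ω) := by
  classical
  let Q : Finset Ω → Prop := fun Γ => ∀ σ ∈ P, (∀ ω, ω ∉ Γ → σ ω = ω) → σ = 1
  have hQ0 : Q ∅ := fun σ _ h => Equiv.ext fun ω => h ω (Finset.notMem_empty ω)
  obtain ⟨Γ, hΓmem, hΓmax⟩ := Finset.exists_max_image (Finset.univ.filter Q) Finset.card
    ⟨∅, by simp [hQ0]⟩
  have hQΓ : Q Γ := (Finset.mem_filter.mp hΓmem).2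
  have hmax : ∀ Δ : Finset Ω, Γ.card < Δ.card → ¬ Q Δ := fun Δ hlt hQ =>
    absurd (hΓmax Δ (Finset.mem_filter.mpr ⟨Finset.mem_univ _, hQ⟩)) (not_le.mpr hlt)
  by_cases hcase : Fintype.card Ω ≤ 2 * Γ.card
  · -- counting
    have hle : (Fintype.card Ω + 1) / 2 ≤ Γ.card := by omega
    have hinj : Function.Injective
        (fun p : P × Equiv.Perm Γ => (p.1 : Equiv.Perm Ω) * Equiv.Perm.ofSubtype p.2) := by
      rintro ⟨σ₁, π₁⟩ ⟨σ₂, π₂⟩ heq
      simp only at heq
      have h1 : ((σ₂⁻¹ * σ₁ : P) : Equiv.Perm Ω) = Equiv.Perm.ofSubtype (π₂ * π₁⁻¹) := by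
        rw [map_mul, map_inv]
        push_cast
        rw [inv_mul_eq_iff_eq_mul, ← mul_assoc, eq_mul_inv_iff_mul_eq]; exact heq
      have h2 : ((σ₂⁻¹ * σ₁ : P) : Equiv.Perm Ω) = 1 := by
        apply hQΓ _ (σ₂⁻¹ * σ₁).2
        intro ω hω
        rw [h1]; exact Equiv.Perm.ofSubtype_apply_of_not_mem _ hω
      have h3 : σ₁ = σ₂ := by
        have : σ₂⁻¹ * σ₁ = 1 := Subtype.ext h2
        exact (inv_mul_eq_one.mp this).symm
      subst h3
      have h4 : Equiv.Perm.ofSubtype π₁ = Equiv.Perm.ofSubtype π₂ := mul_left_cancel heq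
      rw [Equiv.Perm.ofSubtype_injective h4]
    have hcard := Nat.card_le_card_of_injective _ hinj
    rw [Nat.card_prod, Nat.card_perm, Nat.card_perm, Nat.card_eq_fintype_card (α := Γ),
      Fintype.card_coe, Nat.card_eq_fintype_card (α := Ω)] at hcard
    exact le_trans (Nat.mul_le_mul_left _ (Nat.factorial_le hle)) hcard
  · exfalso
    push Not at hcase
    have hcompl : Γ.card < Γᶜ.card := by rw [Finset.card_compl]; omega
    have h1 := hmax Γᶜ hcompl
    simp only [Q] at h1; push Not at h1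
    obtain ⟨y, hyP, hyfix, hy1⟩ := h1
    have hyfix' : ∀ ω ∈ Γ, y ω = ω := fun ω hω => hyfix ω (by simpa using hω)
    obtain ⟨α, hα⟩ : ∃ α, y α ≠ α := by
      by_contra hcon; push Not at hcon; exact hy1 (Equiv.ext hcon)
    have hαΓ : α ∉ Γ := fun hm => hα (hyfix' α hm)
    have h2 := hmax (insert α Γ) (by rw [Finset.card_insert_of_notMem hαΓ]; omega)
    simp only [Q] at h2; push Not at h2
    obtain ⟨x, hxP, hxfix, hx1⟩ := h2
    have hxα : x α ≠ α := by
      intro hxα
      apply hx1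
      apply hQΓ x hxP
      intro ω hω
      by_cases e : ω = α
      · rw [e]; exact hxα
      · exact hxfix ω (by simp [Finset.mem_insert, e, hω])
    have h3 : ∀ ω, ω ≠ α → x ω = ω ∨ y ω = ω := by
      intro ω hω
      by_cases hm : ω ∈ Γ
      · right; exact hyfix' ω hm
      · left; exact hxfix ω (by simp [Finset.mem_insert, hω, hm])
    have h3c := isThreeCycle_commutator_of_support_inter x y α hxα hα h3
    have hmemc : x⁻¹ * y⁻¹ * x * y ∈ P :=
      P.mul_mem (P.mul_mem (P.mul_mem (P.inv_mem hxP) (P.inv_mem hyP)) hxP) hyP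
    exact hA (Equiv.Perm.alternatingGroup_le_of_isPreprimitive_of_isThreeCycle_mem hprim h3c hmemc)

/-- Bochert's bound for a faithful primitive action. -/
theorem bochert {G Ω : Type*} [Group G] [Finite G] [MulAction G Ω] [FaithfulSMul G Ω] [Fintype Ω]
    [DecidableEq Ω] (hprim : MulAction.IsPreprimitive G Ω)
    (hA : ¬ alternatingGroup Ω ≤ (MulAction.toPermHom G Ω).range) :
    Nat.card G * Nat.factorial ((Fintype.card Ω + 1) / 2) ≤ Nat.factorial (Fintype.card Ω) := by
  have hinj : Function.Injective (MulAction.toPermHom G Ω) := MulAction.toPerm_injective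
  have hcard : Nat.card G = Nat.card (MulAction.toPermHom G Ω).range :=
    Nat.card_congr (MonoidHom.ofInjective hinj).toEquiv
  rw [hcard]
  apply bochert_subgroup _ _ hA
  have := hprim
  let f : Ω →ₑ[(MulAction.toPermHom G Ω).rangeRestrict] Ω :=
    { toFun := id, map_smul' := fun g ω => rfl }
  exact MulAction.IsPreprimitive.of_surjective (f := f) Function.surjective_id

end Cfsg.Agent.Helper18
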