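import Cfsg.Agent.Helper18.Dickson20

/-! Dickson-type counting, part 21: the normalizer `NK K` of `SL₂(K)` in `SL₂(F)`; it is maximal
when `[F:K] = 2`. -/

set_option autoImplicit false

namespace Cfsg.Agent.Helper18.Dickson

open Cfsg.Agent.Helper11.FinSub

variable {F : Type*} [Field F]

local notation "SF" => Matrix.SpecialLinearGroup (Fin 2) F
local notation "MF" => Matrix (Fin 2) (Fin 2) F

/-- The elements of `SL₂(F)` which are scalar multiples `t⁻¹ g₀` of matrices over `K` with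
`t² ∈ K`. -/
def NK (K : Subfield F) : Subgroup SF where
  carrier := {g | ∃ t : F, t ≠ 0 ∧ t ^ 2 ∈ K ∧ ∀ i j, t * (g : MF) i j ∈ K}
  one_mem' := by
    refine ⟨1, one_ne_zero, by simp [K.one_mem], ?_⟩
    intro i j
    by_cases hij : i = j
    · subst hij; simp [K.one_mem]
    · simp [Matrix.one_apply_ne hij, K.zero_mem]
  mul_mem' := by
    rintro g h ⟨t, ht0, ht2, ht⟩ ⟨s, hs0, hs2, hs⟩
    refine ⟨t * s, mul_ne_zero ht0 hs0, ?_, ?_⟩
    · rw [mul_pow]; exact K.mul_mem ht2 hs2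
    · intro i j
      rw [Matrix.SpecialLinearGroup.coe_mul, Matrix.mul_apply, Fin.sum_univ_two]
      have e : t * s * ((g : MF) i 0 * (h : MF) 0 j + (g : MF) i 1 * (h : MF) 1 j) =
          (t * (g : MF) i 0) * (s * (h : MF) 0 j) + (t * (g : MF) i 1) * (s * (h : MF) 1 j) := by
        ring
      rw [e]
      exact K.add_mem (K.mul_mem (ht _ _) (hs _ _)) (K.mul_mem (ht _ _) (hs _ _))
  inv_mem' := by
    rintro g ⟨t, ht0, ht2, ht⟩
    refine ⟨t, ht0, ht2, ?_⟩
    intro i j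
    rw [Matrix.SpecialLinearGroup.coe_inv, Matrix.adjugate_fin_two]
    fin_cases i <;> fin_cases j
    · simpa using ht 1 1
    · simp only [Fin.zero_eta, Fin.isValue, Fin.mk_one, Matrix.of_apply, Matrix.cons_val',
        Matrix.cons_val_one, Matrix.cons_val_fin_one, Matrix.cons_val_zero, mul_neg]
      exact K.neg_mem (ht 0 1)
    · simp only [Fin.zero_eta, Fin.isValue, Fin.mk_one, Matrix.of_apply, Matrix.cons_val',
        Matrix.cons_val_one, Matrix.cons_val_fin_one, Matrix.cons_val_zero, mul_neg]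
      exact K.neg_mem (ht 1 0)
    · simpa using ht 0 0

theorem mem_NK (K : Subfield F) (g : SF) :
    g ∈ NK K ↔ ∃ t : F, t ≠ 0 ∧ t ^ 2 ∈ K ∧ ∀ i j, t * (g : MF) i j ∈ K := Iff.rfl

theorem SLK_le_NK (K : Subfield F) : SLK K ≤ NK K := by
  intro g hg
  rw [mem_SLK] at hg
  exact ⟨1, one_ne_zero, by simp [K.one_mem], fun i j => by simpa using hg i j⟩

/-- `diag(t, t⁻¹)` -/
def dM (t : F) (ht : t ≠ 0) : SF := ⟨!![t, 0; 0, t⁻¹], by simp [Matrix.det_fin_two_of, ht]⟩

theorem dM_coe (t : F) (ht : t ≠ 0) : ((dM t ht : SF) : MF) = !![t, 0; 0, t⁻¹] := rfl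

theorem dM_mem_NK (K : Subfield F) (t : F) (ht : t ≠ 0) (ht2 : t ^ 2 ∈ K) : dM t ht ∈ NK K := by
  refine ⟨t, ht, ht2, ?_⟩
  intro i j
  rw [dM_coe]
  fin_cases i <;> fin_cases j
  · simpa [pow_two] using ht2
  · simp [K.zero_mem]
  · simp [K.zero_mem]
  · simp [ht, K.one_mem]

theorem uM_mem_NK (K : Subfield F) (x : F) : uM x ∈ NK K ↔ x ∈ K := by
  constructor
  · rintro ⟨t, ht0, ht2, ht⟩
    have h1 := ht 0 0
    have h2 := ht 0 1
    simp only [uM_coe, Matrix.of_apply, Matrix.cons_val', Matrix.cons_val_zero,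
      Matrix.cons_val_fin_one, mul_one, Matrix.cons_val_one] at h1 h2
    have : x = t⁻¹ * (t * x) := by field_simp
    rw [this]
    exact K.mul_mem (K.inv_mem h1) h2
  · intro hx
    exact SLK_le_NK K ((uM_mem_SLK K x).2 hx)

/-- `NK K` is a maximal subgroup of `SL₂(F)` when `[F:K] = 2`. -/
theorem isCoatom_NK_of [Fintype F] (p : ℕ) [Fact p.Prime] [CharP F p] (hp : p ≠ 2)
    (K₀ : Subfield F) (hcard : Fintype.card F = Nat.card K₀ ^ 2)
    (hex : p = 3 → ∀ H : Subgroup SF, NK K₀ < H → Nat.card H ≠ 120) : IsCoatom (NK K₀) := by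
  have h2 : (2 : F) ≠ 0 := two_ne_zero_of_char p hp
  have hq2 := two_le_card K₀
  constructor
  · intro htop
    have h1 : K₀ = ⊤ := by
      rw [eq_top_iff]
      intro x _
      rw [← uM_mem_NK, htop]; trivial
    have h3 : Nat.card K₀ = Fintype.card F := by
      rw [h1, ← Nat.card_eq_fintype_card]
      exact Nat.card_congr Subfield.topEquiv.toEquiv
    rw [← h3] at hcard
    have h4 : Nat.card K₀ ^ 1 = Nat.card K₀ ^ 2 := by rw [pow_one]; exact hcard
    have := Nat.pow_right_injective hq2 h4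
    omega
  · intro H hlt
    have hle : SLK K₀ ≤ H := (SLK_le_NK K₀).trans hlt.le
    have hu1 : uM (1 : F) ∈ H := hle ((uM_mem_SLK K₀ 1).2 K₀.one_mem)
    have hl1 : lM (1 : F) ∈ H := hle ((lM_mem_SLK K₀ 1).2 K₀.one_mem)
    obtain ⟨K₁, hK1, hK2, hle1, hN, -⟩ := struct_of_subgroup' p hp H 1 one_ne_zero hu1 hl1
      (fun h3 => hex h3 H hlt)
    have h01 : K₀ ≤ K₁ := by
      intro x hx
      rw [← hK1]
      exact hle ((uM_mem_SLK K₀ x).2 hx)
    obtain ⟨j, hj1, hj⟩ := card_pow_of_le K₀ K₁ h01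
    obtain ⟨m, hm1, hm⟩ := card_pow_top K₁
    have hrjm : 2 = j * m := by
      rw [hm, hj, ← pow_mul] at hcard
      exact (Nat.pow_right_injective hq2 hcard).symm
    have hj' : j = 1 ∨ (j = 2 ∧ m = 1) := by
      have hjle : j ≤ 2 := by
        calc j = j * 1 := (mul_one j).symm
          _ ≤ j * m := Nat.mul_le_mul_left j hm1
          _ = 2 := hrjm.symm
      interval_cases j
      · left; rfl
      · right; exact ⟨rfl, by omega⟩
    rcases hj' with hj' | ⟨hj', hm'⟩
    · -- `K₁ = K₀`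
      exfalso
      have hK10 : K₀ = K₁ := by
        apply eq_of_le_of_card_eq K₀ K₁ h01
        rw [hj, hj', pow_one]
      apply hlt.not_ge
      intro h hh
      obtain ⟨t, ht0, ht2, ht⟩ := hN h hh
      rw [← hK10] at ht2 ht
      exact ⟨t, ht0, ht2, ht⟩
    · -- `K₁ = ⊤`
      have hK1top : K₁ = ⊤ := by
        apply eq_top_of_card_eq
        rw [hm, hm', pow_one]
      apply eq_top_of_uM_lM
      · intro x; rw [hK1, hK1top]; exact Subfield.mem_top x
      · intro x; rw [hK2, hK1top]; exact Subfield.mem_top x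

end Cfsg.Agent.Helper18.Dickson
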