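import Cfsg.Agent.Helper18.Dickson22

/-! Dickson-type counting, part 23: the image of `NK K₀` in `PSL₂(F)` is `PGL₂(K)`
(`[F:K₀] = 2`, `K₀ ≅ K`). -/

set_option autoImplicit false

namespace Cfsg.Agent.Helper18.Dickson

open Cfsg.Agent.Helper11.FinSub

variable {F : Type*} [Field F] {K : Type*} [Field K]

local notation "SF" => Matrix.SpecialLinearGroup (Fin 2) F
local notation "MF" => Matrix (Fin 2) (Fin 2) F
local notation "PF" => Matrix.ProjectiveSpecialLinearGroup (Fin 2) F

/-- `x ∈ SL₂(F)` is a scalar multiple of the image of `g₀ ∈ GL₂(K)` -/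
def IsLift (j : K →+* F) (g₀ : GL (Fin 2) K) (x : SF) : Prop :=
  ∃ s : F, (x : MF) = s • (g₀ : Matrix (Fin 2) (Fin 2) K).map j

theorem det_map_ne_zero (j : K →+* F) (g₀ : GL (Fin 2) K) :
    ((g₀ : Matrix (Fin 2) (Fin 2) K).map j).det ≠ 0 := by
  have h1 : ((g₀ : Matrix (Fin 2) (Fin 2) K).map j).det =
      j (g₀ : Matrix (Fin 2) (Fin 2) K).det := by
    rw [← RingHom.mapMatrix_apply, ← RingHom.map_det]
  rw [h1]
  intro h
  have h3 : (g₀ : Matrix (Fin 2) (Fin 2) K).det = 0 := by
    apply j.injective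
    rw [h, map_zero]
  have := Matrix.GeneralLinearGroup.det_ne_zero g₀
  exact this h3

theorem IsLift.sq_mul_det {j : K →+* F} {g₀ : GL (Fin 2) K} {x : SF} {s : F}
    (h : (x : MF) = s • (g₀ : Matrix (Fin 2) (Fin 2) K).map j) :
    s ^ 2 * ((g₀ : Matrix (Fin 2) (Fin 2) K).map j).det = 1 := by
  have := x.2
  rw [h, Matrix.det_smul] at this
  simpa using this

theorem IsLift.unique {j : K →+* F} {g₀ : GL (Fin 2) K} {x y : SF} (hx : IsLift j g₀ x)
    (hy : IsLift j g₀ y) : y = x ∨ y = -x := by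
  obtain ⟨s, hs⟩ := hx
  obtain ⟨s', hs'⟩ := hy
  have h1 := IsLift.sq_mul_det hs
  have h2 := IsLift.sq_mul_det hs'
  have hd := det_map_ne_zero j g₀
  have h3 : s' ^ 2 = s ^ 2 := by
    have : s' ^ 2 * ((g₀ : Matrix (Fin 2) (Fin 2) K).map j).det =
        s ^ 2 * ((g₀ : Matrix (Fin 2) (Fin 2) K).map j).det := by rw [h1, h2]
    exact mul_right_cancel₀ hd this
  have h4 : (s' - s) * (s' + s) = 0 := by linear_combination h3
  rcases mul_eq_zero.1 h4 with h | h
  · left
    apply Subtype.ext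
    rw [hs, hs']
    have : s' = s := by linear_combination h
    rw [this]
  · right
    apply Subtype.ext
    rw [Matrix.SpecialLinearGroup.coe_neg, hs, hs']
    have : s' = -s := by linear_combination h
    rw [this, neg_smul]

theorem IsLift.mul {j : K →+* F} {g₀ h₀ : GL (Fin 2) K} {x y : SF} (hx : IsLift j g₀ x)
    (hy : IsLift j h₀ y) : IsLift j (g₀ * h₀) (x * y) := by
  obtain ⟨s, hs⟩ := hx
  obtain ⟨s', hs'⟩ := hy
  refine ⟨s * s', ?_⟩
  rw [Matrix.SpecialLinearGroup.coe_mul, hs, hs', Units.val_mul, Matrix.map_mul,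
    Matrix.smul_mul, Matrix.mul_smul, smul_smul]

theorem mk_neg (x : SF) :
    (QuotientGroup.mk' (Subgroup.center SF)) (-x) = (QuotientGroup.mk' (Subgroup.center SF)) x := by
  have h1 : -x = (-1 : SF) * x := by simp
  rw [h1, map_mul]
  have h2 : (-1 : SF) ∈ Subgroup.center SF := by
    rw [Matrix.SpecialLinearGroup.mem_center_iff]
    refine ⟨-1, by simp, ?_⟩
    ext i j
    by_cases hij : i = j
    · subst hij; simp
    · simp [Matrix.scalar_apply, Matrix.diagonal_apply_ne _ hij, Matrix.one_apply_ne hij]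
  have h3 : (QuotientGroup.mk' (Subgroup.center SF)) (-1 : SF) = 1 := by
    rw [QuotientGroup.mk'_apply, QuotientGroup.eq_one_iff]
    exact h2
  rw [h3, one_mul]

section quad

variable [Fintype F] (h2 : (2 : F) ≠ 0) (K₀ : Subfield F)
  (hcard : Fintype.card F = Nat.card K₀ ^ 2) (j : K →+* F) (hj : ∀ x : F, x ∈ K₀ ↔ ∃ y : K, j y = x)

include h2 hcard hj in
theorem exists_isLift (g₀ : GL (Fin 2) K) : ∃ x : SF, IsLift j g₀ x := by
  have hd := det_map_ne_zero j g₀
  have h1 : ((g₀ : Matrix (Fin 2) (Fin 2) K).map j).det ∈ K₀ := by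
    rw [hj]
    refine ⟨(g₀ : Matrix (Fin 2) (Fin 2) K).det, ?_⟩
    rw [← RingHom.mapMatrix_apply, ← RingHom.map_det]
  obtain ⟨s, hs⟩ := exists_sqrt_of_mem h2 K₀ hcard _ (K₀.inv_mem h1)
  refine ⟨⟨s • (g₀ : Matrix (Fin 2) (Fin 2) K).map j, ?_⟩, s, rfl⟩
  rw [Matrix.det_smul]
  simp only [Fintype.card_fin]
  rw [hs, inv_mul_cancel₀ hd]

/-- the homomorphism `GL₂(K) → PSL₂(F)` -/
noncomputable def pglHom : GL (Fin 2) K →* PF :=
  MonoidHom.mk' (fun g₀ => (QuotientGroup.mk' (Subgroup.center SF))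
    (Classical.choose (exists_isLift h2 K₀ hcard j hj g₀))) (by
    intro g₀ h₀
    have h1 := Classical.choose_spec (exists_isLift h2 K₀ hcard j hj g₀)
    have h3 := Classical.choose_spec (exists_isLift h2 K₀ hcard j hj h₀)
    have h4 := Classical.choose_spec (exists_isLift h2 K₀ hcard j hj (g₀ * h₀))
    rw [← map_mul]
    rcases IsLift.unique (h1.mul h3) h4 with h | h
    · rw [h]
    · rw [h, mk_neg])

theorem pglHom_eq (g₀ : GL (Fin 2) K) (x : SF) (hx : IsLift j g₀ x) :
    pglHom h2 K₀ hcard j hj g₀ = (QuotientGroup.mk' (Subgroup.center SF)) x := by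
  have h1 := Classical.choose_spec (exists_isLift h2 K₀ hcard j hj g₀)
  show (QuotientGroup.mk' (Subgroup.center SF)) (Classical.choose _) = _
  rcases IsLift.unique hx h1 with h | h
  · rw [h]
  · rw [h, mk_neg]

theorem pglHom_ker : (pglHom h2 K₀ hcard j hj).ker = Subgroup.center (GL (Fin 2) K) := by
  ext g₀
  obtain ⟨x, hx⟩ := exists_isLift h2 K₀ hcard j hj g₀
  rw [MonoidHom.mem_ker, pglHom_eq h2 K₀ hcard j hj g₀ x hx, QuotientGroup.mk'_apply,
    QuotientGroup.eq_one_iff, Matrix.SpecialLinearGroup.mem_center_iff,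
    Matrix.GeneralLinearGroup.mem_center_iff_val_mem_range_scalar]
  obtain ⟨s, hs⟩ := hx
  have hsd := IsLift.sq_mul_det hs
  have hs0 : s ≠ 0 := by
    intro h0
    rw [h0] at hsd
    simp at hsd
  constructor
  · rintro ⟨r, hr, hrx⟩
    have hent : ∀ a b, r * (1 : MF) a b = s * j ((g₀ : Matrix (Fin 2) (Fin 2) K) a b) := by
      intro a b
      have := congrFun (congrFun (hrx.trans hs) a) b
      simpa [Matrix.scalar_apply, Matrix.diagonal_apply, Matrix.one_apply] using this
    have h01 : (g₀ : Matrix (Fin 2) (Fin 2) K) 0 1 = 0 := by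
      have := hent 0 1
      simp only [Fin.isValue, ne_eq, zero_ne_one, not_false_eq_true, Matrix.one_apply_ne,
        mul_zero] at this
      rcases mul_eq_zero.1 this.symm with h | h
      · exact absurd h hs0
      · exact j.injective (h.trans (map_zero j).symm)
    have h10 : (g₀ : Matrix (Fin 2) (Fin 2) K) 1 0 = 0 := by
      have := hent 1 0
      simp only [Fin.isValue, ne_eq, one_ne_zero, not_false_eq_true, Matrix.one_apply_ne,
        mul_zero] at this
      rcases mul_eq_zero.1 this.symm with h | h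
      · exact absurd h hs0
      · exact j.injective (h.trans (map_zero j).symm)
    have h11 : (g₀ : Matrix (Fin 2) (Fin 2) K) 1 1 = (g₀ : Matrix (Fin 2) (Fin 2) K) 0 0 := by
      have e0 := hent 0 0
      have e1 := hent 1 1
      simp only [Matrix.one_apply_eq, mul_one] at e0 e1
      have : s * j ((g₀ : Matrix (Fin 2) (Fin 2) K) 1 1) =
          s * j ((g₀ : Matrix (Fin 2) (Fin 2) K) 0 0) := by rw [← e0, ← e1]
      exact j.injective (mul_left_cancel₀ hs0 this)
    refine ⟨(g₀ : Matrix (Fin 2) (Fin 2) K) 0 0, ?_⟩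
    ext a b
    fin_cases a <;> fin_cases b <;> simp [Matrix.scalar_apply, h01, h10, h11]
  · rintro ⟨a, ha⟩
    have hmap : (g₀ : Matrix (Fin 2) (Fin 2) K).map j = Matrix.scalar (Fin 2) (j a) := by
      rw [← ha]
      ext u v
      by_cases huv : u = v
      · subst huv; simp
      · simp [Matrix.scalar_apply, Matrix.diagonal_apply_ne _ huv]
    refine ⟨s * j a, ?_, ?_⟩
    · have : ((g₀ : Matrix (Fin 2) (Fin 2) K).map j).det = j a ^ 2 := by
        rw [hmap]; simp [Matrix.det_fin_two, pow_two]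
      rw [this] at hsd
      simp only [Fintype.card_fin]
      rw [mul_pow]; exact hsd
    · rw [hs, hmap]
      ext u v
      by_cases huv : u = v
      · subst huv; simp
      · simp [Matrix.scalar_apply, Matrix.diagonal_apply_ne _ huv]

theorem pglHom_range : (pglHom h2 K₀ hcard j hj).range =
    (NK K₀).map (QuotientGroup.mk' (Subgroup.center SF)) := by
  ext y
  constructor
  · rintro ⟨g₀, rfl⟩
    obtain ⟨x, hx⟩ := exists_isLift h2 K₀ hcard j hj g₀
    rw [pglHom_eq h2 K₀ hcard j hj g₀ x hx]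
    refine ⟨x, ?_, rfl⟩
    obtain ⟨s, hs⟩ := hx
    have hsd := IsLift.sq_mul_det hs
    have hs0 : s ≠ 0 := by
      intro h0
      rw [h0] at hsd
      simp at hsd
    refine ⟨s⁻¹, inv_ne_zero hs0, ?_, ?_⟩
    · have hd := det_map_ne_zero j g₀
      have : s⁻¹ ^ 2 = ((g₀ : Matrix (Fin 2) (Fin 2) K).map j).det := by
        field_simp
        linear_combination -hsd
      rw [this, hj]
      refine ⟨(g₀ : Matrix (Fin 2) (Fin 2) K).det, ?_⟩
      rw [← RingHom.mapMatrix_apply, ← RingHom.map_det]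
    · intro a b
      rw [hs, Matrix.smul_apply, smul_eq_mul, ← mul_assoc, inv_mul_cancel₀ hs0, one_mul,
        Matrix.map_apply, hj]
      exact ⟨_, rfl⟩
  · rintro ⟨x, ⟨t, ht0, ht2, ht⟩, rfl⟩
    have hex : ∀ a b, ∃ z : K, j z = t * (x : MF) a b := fun a b => (hj _).1 (ht a b)
    choose m hm using hex
    have hmap : (Matrix.of m).map j = t • (x : MF) := by
      ext a b
      simp [hm]
    have hdet : (Matrix.of m).det ≠ 0 := by
      intro h0
      have h1 : ((Matrix.of m).map j).det = j (Matrix.of m).det := by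
        rw [← RingHom.mapMatrix_apply, ← RingHom.map_det]
      rw [h0, map_zero, hmap, Matrix.det_smul, x.2] at h1
      simp only [Fintype.card_fin, mul_one] at h1
      exact ht0 (pow_eq_zero_iff (two_ne_zero) |>.1 h1)
    refine ⟨Matrix.GeneralLinearGroup.mkOfDetNeZero (Matrix.of m) hdet, ?_⟩
    apply pglHom_eq
    refine ⟨t⁻¹, ?_⟩
    show (x : MF) = t⁻¹ • (Matrix.of m).map j
    rw [hmap, smul_smul, inv_mul_cancel₀ ht0, one_smul]

include h2 hcard j hj in
/-- the image of `NK K₀` in `PSL₂(F)` is `PGL₂(K)` -/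
theorem nonempty_map_NK_equiv :
    Nonempty ((NK K₀).map (QuotientGroup.mk' (Subgroup.center SF)) ≃*
      Matrix.ProjGenLinGroup (Fin 2) K) := by
  have e1 := QuotientGroup.quotientKerEquivRange (pglHom h2 K₀ hcard j hj)
  have e2 := QuotientGroup.quotientMulEquivOfEq (pglHom_ker h2 K₀ hcard j hj)
  have e3 := MulEquiv.subgroupCongr (pglHom_range h2 K₀ hcard j hj)
  have e0 : (GL (Fin 2) K ⧸ Subgroup.center (GL (Fin 2) K)) ≃* Matrix.ProjGenLinGroup (Fin 2) K :=
    MulEquiv.refl _
  exact ⟨e3.symm.trans (e1.symm.trans (e2.trans e0))⟩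

end quad

end Cfsg.Agent.Helper18.Dickson
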