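import Cfsg.Agent.Helper28.S2510Defs

/-! S2510 piece NPOW. -/

set_option autoImplicit false

namespace Cfsg.Agent.S2510P

open Polynomial

variable {F : Type*} [Field F] [Fintype F] {n : ℕ} {p : ℕ}

/-- NPOW (M). -/
theorem nilN_pow (b s : ℕ) : (nilN n F b) ^ s =
    Matrix.of fun i j : Fin n =>
      if (j : ℕ) = (i : ℕ) + s ∧ ((j : ℕ) < b ∨ s = 0) then (1 : F) else 0 := by
  induction s with
  | zero =>
    ext i j
    rw [pow_zero, Matrix.one_apply, Matrix.of_apply]
    by_cases h : i = j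
    · subst h
      simp
    · have h' : ¬ ((j : ℕ) = (i : ℕ) + 0 ∧ ((j : ℕ) < b ∨ 0 = 0)) := by
        rintro ⟨h1, -⟩
        exact h (Fin.ext (by omega))
      rw [if_neg h, if_neg h']
  | succ s ih =>
    ext i j
    rw [pow_succ, ih, Matrix.mul_apply, Matrix.of_apply]
    by_cases h : (j : ℕ) = (i : ℕ) + (s + 1) ∧ ((j : ℕ) < b ∨ s + 1 = 0)
    · rw [if_pos h]
      obtain ⟨h1, h2⟩ := h
      have h2' : (j : ℕ) < b := by
        rcases h2 with h2 | h2
        · exact h2
        · omega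
      have hk : (i : ℕ) + s < n := by have := j.2; omega
      rw [Finset.sum_eq_single (⟨(i : ℕ) + s, hk⟩ : Fin n)]
      · rw [Matrix.of_apply, nilN, Matrix.of_apply, if_pos, if_pos, mul_one]
        · exact ⟨by show (j : ℕ) = (i : ℕ) + s + 1; omega, h2'⟩
        · exact ⟨rfl, Or.inl (by show (i : ℕ) + s < b; omega)⟩
      · intro k _ hk'
        rw [Matrix.of_apply, if_neg, zero_mul]
        rintro ⟨h3, -⟩
        exact hk' (Fin.ext h3)
      · intro h'
        exact absurd (Finset.mem_univ _) h'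
    · rw [if_neg h]
      apply Finset.sum_eq_zero
      intro k _
      rw [Matrix.of_apply, nilN, Matrix.of_apply]
      by_cases h3 : (k : ℕ) = (i : ℕ) + s ∧ ((k : ℕ) < b ∨ s = 0)
      · by_cases h4 : (j : ℕ) = (k : ℕ) + 1 ∧ (j : ℕ) < b
        · exfalso
          apply h
          exact ⟨by omega, Or.inl h4.2⟩
        · rw [if_neg h4, mul_zero]
      · rw [if_neg h3, zero_mul]

end Cfsg.Agent.S2510P
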