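import Mathlib
import Cfsg.Agent.Helper4.S2522.Defs

/-! S2522 piece N2CRIT (helper18): a criterion for `rank (comp - 1) ≥ 2`. -/

set_option autoImplicit false

namespace Cfsg.Agent.S2522P

open Module

namespace N2CRIT
variable {K : Type*} [Field K] {V : Type*} [AddCommGroup V] [Module K V]

theorem li3 {x y z : V} (hli : LinearIndependent K ![x, y, z]) (a b c : K)
    (h : a • x + b • y + c • z = 0) : a = 0 ∧ b = 0 ∧ c = 0 := by
  have h1 := Fintype.linearIndependent_iff.mp hli ![a, b, c]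
  rw [Fin.sum_univ_three] at h1
  have h2 := h1 h
  exact ⟨h2 0, h2 1, h2 2⟩

theorem two_le_rank [FiniteDimensional K V] (g : Module.End K V) (e : V) (φ : Module.Dual K V)
    (h : φ (g e) = 1) (w₁ w₂ : V) (hw₁ : φ w₁ = 0) (hw₂ : φ w₂ = 0)
    (hli : LinearIndependent K ![(g - 1) w₁, (g - 1) w₂, g e]) :
    2 ≤ Module.finrank K (LinearMap.range (comp g e φ h - 1)) := by
  set A' := comp g e φ h with hA'
  let W₁ : LinearMap.ker φ := ⟨w₁, hw₁⟩
  let W₂ : LinearMap.ker φ := ⟨w₂, hw₂⟩
  let b : Fin 2 → LinearMap.range (A' - 1) :=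
    ![⟨(A' - 1) W₁, LinearMap.mem_range_self _ _⟩, ⟨(A' - 1) W₂, LinearMap.mem_range_self _ _⟩]
  have hcoe₁ : (((A' - 1) W₁ : LinearMap.ker φ) : V) = (g - 1) w₁ - φ (g w₁) • g e := by
    rw [LinearMap.sub_apply, Submodule.coe_sub, hA', comp_coe]
    simp only [W₁, Module.End.one_apply, LinearMap.sub_apply]
    abel
  have hcoe₂ : (((A' - 1) W₂ : LinearMap.ker φ) : V) = (g - 1) w₂ - φ (g w₂) • g e := by
    rw [LinearMap.sub_apply, Submodule.coe_sub, hA', comp_coe]
    simp only [W₂, Module.End.one_apply, LinearMap.sub_apply]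
    abel
  have hb : LinearIndependent K b := by
    apply LinearIndependent.of_comp
      ((LinearMap.ker φ).subtype ∘ₗ (LinearMap.range (A' - 1)).subtype)
    have hfb : (⇑((LinearMap.ker φ).subtype ∘ₗ (LinearMap.range (A' - 1)).subtype) ∘ b) =
        ![(g - 1) w₁ - φ (g w₁) • g e, (g - 1) w₂ - φ (g w₂) • g e] := by
      funext i
      fin_cases i
      · exact hcoe₁
      · exact hcoe₂
    rw [hfb, LinearIndependent.pair_iff]
    intro s t hst
    have h3 := li3 hli s t (-(s * φ (g w₁) + t * φ (g w₂))) (by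
      rw [← hst]
      simp only [smul_sub, smul_smul, neg_smul, add_smul]
      abel)
    exact ⟨h3.1, h3.2.1⟩
  have := hb.fintype_card_le_finrank
  simpa using this

end N2CRIT

end Cfsg.Agent.S2522P
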