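import Mathlib
import Cfsg.Agent.Helper2.SLCard

set_option autoImplicit false

/-! Field facts for `F` of order `q²`, `q = 2ⁿ`: Frobenius `x ↦ x^q`, the fixed field
`{c | c^q = c}`, the trace-like map `b ↦ b + b^q`. -/

namespace Cfsg.Agent.Helper18.SuzU

variable {F : Type*} [Field F] [Fintype F]

/-- the basic hypotheses: `|F| = q²`, characteristic two, `x ↦ x^q` additive -/
structure FqSq (F : Type*) [Field F] [Fintype F] (q : ℕ) : Prop where
  card : Fintype.card F = q ^ 2
  two : (2 : F) = 0
  frob_add : ∀ x y : F, (x + y) ^ q = x ^ q + y ^ q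
  two_le : 2 ≤ q
  even : Even q

theorem FqSq.of_pow {n : ℕ} (hn : 1 ≤ n) (hF : Fintype.card F = (2 ^ n) ^ 2) : FqSq F (2 ^ n) := by
  have h2n : 2 ≤ 2 ^ n := by
    calc 2 = 2 ^ 1 := by norm_num
      _ ≤ 2 ^ n := Nat.pow_le_pow_right (by norm_num) hn
  have hchar : CharP F 2 := by
    obtain ⟨p, hp⟩ := CharP.exists F
    haveI := hp
    have hpp : p.Prime := CharP.char_is_prime F p
    haveI : Fact p.Prime := ⟨hpp⟩
    have hdvd : p ∣ Fintype.card F := by
      have := FiniteField.card F p
      obtain ⟨m, -, hm⟩ := this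
      rw [hm]
      exact dvd_pow_self p m.ne_zero
    rw [hF, ← pow_mul] at hdvd
    have := (Nat.prime_dvd_prime_iff_eq hpp Nat.prime_two).mp (hpp.dvd_of_dvd_pow hdvd)
    rw [← this]
    exact hp
  haveI := hchar
  refine ⟨hF, ?_, ?_, h2n, ?_⟩
  · exact CharTwo.two_eq_zero
  · intro x y
    haveI : Fact (Nat.Prime 2) := ⟨Nat.prime_two⟩
    exact add_pow_char_pow x y 2 n
  · exact (Nat.even_pow' (by omega)).mpr even_two

namespace FqSq

variable {q : ℕ} (H : FqSq F q)
include H

theorem add_self (x : F) : x + x = 0 := by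
  have : x + x = 2 * x := by ring
  rw [this, H.two, zero_mul]

theorem neg_eq (x : F) : -x = x := by
  have := H.add_self x
  exact neg_eq_of_add_eq_zero_left this

theorem sub_eq (x y : F) : x - y = x + y := by
  rw [sub_eq_add_neg, H.neg_eq]

theorem pow_qq (x : F) : (x ^ q) ^ q = x := by
  rw [← pow_mul, ← pow_two, ← H.card, FiniteField.pow_card]

theorem frob_mul (x y : F) : (x * y) ^ q = x ^ q * y ^ q := mul_pow x y q

theorem frob_zero : (0 : F) ^ q = 0 := zero_pow (by have := H.two_le; omega)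

/-- `q - 1` divides `|Fˣ| = q² - 1` -/
theorem card_units : Nat.card Fˣ = (q - 1) * (q + 1) := by
  rw [Cfsg.Agent.Helper2.card_units_field, H.card]
  have := H.two_le
  obtain ⟨m, rfl⟩ : ∃ m, q = m + 1 := ⟨q - 1, by omega⟩
  simp only [Nat.add_sub_cancel]
  have : (m + 1) ^ 2 = m * (m + 1 + 1) + 1 := by ring
  rw [this, Nat.add_sub_cancel]

/-- the fixed field of `x ↦ x^q` -/
def Fix (_ : FqSq F q) : Set F := {c | c ^ q = c}

theorem mem_Fix {c : F} : c ∈ H.Fix ↔ c ^ q = c := Iff.rfl

theorem zero_mem_Fix : (0 : F) ∈ H.Fix := H.frob_zero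

theorem one_mem_Fix : (1 : F) ∈ H.Fix := one_pow q

theorem add_mem_Fix {c d : F} (hc : c ∈ H.Fix) (hd : d ∈ H.Fix) : c + d ∈ H.Fix := by
  rw [mem_Fix] at *
  rw [H.frob_add, hc, hd]

theorem mul_mem_Fix {c d : F} (hc : c ∈ H.Fix) (hd : d ∈ H.Fix) : c * d ∈ H.Fix := by
  rw [mem_Fix] at *
  rw [mul_pow, hc, hd]

theorem norm_mem_Fix (a : F) : a ^ (q + 1) ∈ H.Fix := by
  rw [mem_Fix, ← pow_mul, add_mul, one_mul, pow_add, pow_mul, H.pow_qq, pow_succ, mul_comm]

theorem trace_mem_Fix (b : F) : b + b ^ q ∈ H.Fix := by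
  rw [mem_Fix, H.frob_add, H.pow_qq, add_comm]

/-- `|Fix| = q` -/
theorem card_Fix : Nat.card H.Fix = q := by
  classical
  have hq := H.two_le
  -- nonzero fixed elements are the `(q-1)`-th roots of unity
  have h1 : Nat.card (rootsOfUnity (q - 1) F) = q - 1 := by
    rw [Cfsg.Agent.Helper2.card_rootsOfUnity_field, H.card_units]
    exact Nat.gcd_eq_right (dvd_mul_right _ _)
  have hpow : ∀ c : F, c ≠ 0 → (c ^ q = c ↔ c ^ (q - 1) = 1) := by
    intro c hc
    have : c ^ q = c ^ (q - 1) * c := by rw [← pow_succ]; congr 1; omega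
    rw [this]
    constructor
    · intro h
      exact mul_right_cancel₀ hc (h.trans (one_mul c).symm)
    · intro h
      rw [h, one_mul]
  -- bijection `Option (rootsOfUnity (q-1) F) ≃ Fix`
  have e : Option (rootsOfUnity (q - 1) F) ≃ H.Fix := by
    refine Equiv.ofBijective (fun o => match o with
      | none => ⟨0, H.zero_mem_Fix⟩
      | some u => ⟨((u : Fˣ) : F), by
          rw [mem_Fix, hpow _ (Units.ne_zero _)]
          have := u.2
          rw [mem_rootsOfUnity'] at this
          exact this⟩) ⟨?_, ?_⟩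
    · intro o o' h
      rcases o with _ | u <;> rcases o' with _ | u'
      · rfl
      · exfalso
        have := congrArg Subtype.val h
        exact (Units.ne_zero (u' : Fˣ)) this.symm
      · exfalso
        have := congrArg Subtype.val h
        exact (Units.ne_zero (u : Fˣ)) this
      · have := congrArg Subtype.val h
        exact congrArg some (Subtype.ext (Units.ext this))
    · rintro ⟨c, hc⟩
      by_cases h0 : c = 0
      · exact ⟨none, Subtype.ext h0.symm⟩
      · haveI : NeZero (q - 1) := ⟨by omega⟩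
        refine ⟨some (rootsOfUnity.mkOfPowEq c ((hpow c h0).mp hc)), Subtype.ext rfl⟩
  rw [← Nat.card_congr e, Nat.card_eq_fintype_card, Fintype.card_option,
    ← Nat.card_eq_fintype_card, h1]
  omega

/-- the additive map `b ↦ b + b^q` -/
def T (H : FqSq F q) : F →+ F where
  toFun b := b + b ^ q
  map_zero' := by rw [H.frob_zero, add_zero]
  map_add' x y := by rw [H.frob_add]; ring

theorem T_apply (b : F) : H.T b = b + b ^ q := rfl

theorem mem_ker_T {b : F} : b ∈ H.T.ker ↔ b ∈ H.Fix := by
  rw [AddMonoidHom.mem_ker, T_apply, mem_Fix]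
  constructor
  · intro h
    have : b ^ q = -b := eq_neg_of_add_eq_zero_right h
    rw [this, H.neg_eq]
  · intro h
    rw [h, H.add_self]

theorem card_ker_T : Nat.card H.T.ker = q := by
  refine Eq.trans (Nat.card_congr ?_) H.card_Fix
  exact Equiv.subtypeEquivRight (fun b => H.mem_ker_T)

theorem card_range_T : Nat.card H.T.range = q := by
  have h1 := AddSubgroup.card_mul_index H.T.ker
  rw [AddSubgroup.index_ker, H.card_ker_T, Nat.card_eq_fintype_card (α := F), H.card, pow_two] at h1
  have hq : 0 < q := by have := H.two_le; omega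
  exact Nat.eq_of_mul_eq_mul_left hq h1

/-- the trace-like map is onto the fixed field -/
theorem exists_trace {c : F} (hc : c ∈ H.Fix) : ∃ b : F, b + b ^ q = c := by
  classical
  have hsub : (H.T.range : Set F) ⊆ H.Fix := by
    rintro _ ⟨b, rfl⟩
    exact H.trace_mem_Fix b
  have hfin : (H.Fix).Finite := Set.toFinite _
  have heq : (H.T.range : Set F) = H.Fix := by
    apply Set.eq_of_subset_of_ncard_le hsub _ hfin
    rw [← Nat.card_coe_set_eq, ← Nat.card_coe_set_eq, H.card_Fix]
    exact (H.card_range_T).ge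
  have : c ∈ (H.T.range : Set F) := by rw [heq]; exact hc
  obtain ⟨b, hb⟩ := this
  exact ⟨b, hb⟩

/-- each fibre of the trace-like map over the fixed field has `q` elements -/
theorem card_fibre {c : F} (hc : c ∈ H.Fix) : Nat.card {b : F // b + b ^ q = c} = q := by
  obtain ⟨b0, hb0⟩ := H.exists_trace hc
  refine Eq.trans (Nat.card_congr ?_) H.card_ker_T
  refine ⟨fun b => ⟨b.1 + b0, ?_⟩, fun k => ⟨k.1 + b0, ?_⟩, ?_, ?_⟩
  · rw [AddMonoidHom.mem_ker, map_add, T_apply, T_apply, b.2, hb0, H.add_self]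
  · have := k.2
    rw [AddMonoidHom.mem_ker, T_apply] at this
    rw [H.frob_add]
    have e : k.1 + b0 + (k.1 ^ q + b0 ^ q) = (k.1 + k.1 ^ q) + (b0 + b0 ^ q) := by ring
    rw [e, this, hb0, zero_add]
  · intro b
    apply Subtype.ext
    show b.1 + b0 + b0 = b.1
    rw [add_assoc, H.add_self, add_zero]
  · intro k
    apply Subtype.ext
    show k.1 + b0 + b0 = k.1
    rw [add_assoc, H.add_self, add_zero]

/-- there is an element outside the fixed field -/
theorem exists_not_mem_Fix : ∃ t : F, t ∉ H.Fix := by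
  by_contra hall
  push Not at hall
  have h1 : Nat.card H.Fix = Nat.card F := by
    apply Nat.card_congr
    exact ⟨fun c => c.1, fun c => ⟨c, hall c⟩, fun _ => rfl, fun _ => rfl⟩
  rw [H.card_Fix, Nat.card_eq_fintype_card, H.card] at h1
  have := H.two_le
  nlinarith

end FqSq

end Cfsg.Agent.Helper18.SuzU
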