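import Mathlib
import Cfsg.Agent.Helper18.SuzU1

set_option autoImplicit false

/-! Abstract coordinates `u a b` (`b + b^q = a^(q+1)`) with
`u a b * u a' b' = u (a + a') (b + b' + a^q a')`: the Sylow 2-subgroup of `SU₃(q)`, `q` even. -/

namespace Cfsg.Agent.Helper18.SuzU

variable {F : Type*} [Field F] [Fintype F] {q : ℕ} {G : Type*} [Group G]

/-- valid coordinate pairs -/
def Valid (q : ℕ) (a b : F) : Prop := b + b ^ q = a ^ (q + 1)

/-- coordinates on `G` -/
structure UCoord (F : Type*) [Field F] (q : ℕ) (G : Type*) [Group G] where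
  u : F → F → G
  mul : ∀ a b a' b' : F, Valid q a b → Valid q a' b' →
    u a b * u a' b' = u (a + a') (b + b' + a ^ q * a')
  surj : ∀ g : G, ∃ a b : F, Valid q a b ∧ u a b = g
  inj : ∀ a b a' b' : F, Valid q a b → Valid q a' b' → u a b = u a' b' → a = a' ∧ b = b'

/-- transport along an isomorphism -/
def UCoord.map {H' : Type*} [Group H'] (C : UCoord F q G) (e : G ≃* H') : UCoord F q H' where
  u a b := e (C.u a b)
  mul a b a' b' h h' := by rw [← map_mul, C.mul a b a' b' h h']
  surj g := by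
    obtain ⟨a, b, hv, hab⟩ := C.surj (e.symm g)
    exact ⟨a, b, hv, by rw [hab, MulEquiv.apply_symm_apply]⟩
  inj a b a' b' h h' he := C.inj a b a' b' h h' (e.injective he)

namespace FqSq

variable (H : FqSq F q)
include H

theorem valid_zero : Valid q (0 : F) 0 := by
  show (0 : F) + 0 ^ q = 0 ^ (q + 1)
  rw [H.frob_zero, zero_pow (by omega), add_zero]

theorem valid_zero_iff {c : F} : Valid q (0 : F) c ↔ c ∈ H.Fix := by
  show c + c ^ q = 0 ^ (q + 1) ↔ _
  rw [zero_pow (by omega), ← H.T_apply, ← AddMonoidHom.mem_ker, H.mem_ker_T]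

theorem valid_mul {a b a' b' : F} (h : Valid q a b) (h' : Valid q a' b') :
    Valid q (a + a') (b + b' + a ^ q * a') := by
  unfold Valid at *
  have e1 : (b + b' + a ^ q * a') ^ q = b ^ q + b' ^ q + a * a' ^ q := by
    rw [H.frob_add, H.frob_add, mul_pow, H.pow_qq]
  have e2 : (a + a') ^ (q + 1) = (a ^ q + a' ^ q) * (a + a') := by
    rw [pow_succ, H.frob_add]
  have e3 : a ^ (q + 1) = a ^ q * a := pow_succ a q
  have e4 : a' ^ (q + 1) = a' ^ q * a' := pow_succ a' q
  rw [e1, e2]
  rw [e3] at h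
  rw [e4] at h'
  linear_combination h + h'

theorem valid_inv {a b : F} (h : Valid q a b) : Valid q a (b + a ^ (q + 1)) := by
  unfold Valid at *
  have hn := H.norm_mem_Fix a
  rw [H.mem_Fix] at hn
  rw [H.frob_add, hn]
  have := H.add_self (a ^ (q + 1))
  linear_combination h + this

theorem exists_valid (a : F) : ∃ b : F, Valid q a b :=
  H.exists_trace (H.norm_mem_Fix a)

variable (C : UCoord F q G)
include C

theorem u_one : C.u 0 0 = 1 := by
  have := C.mul 0 0 0 0 H.valid_zero H.valid_zero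
  simp only [add_zero, H.frob_zero, zero_mul] at this
  exact mul_eq_left.mp this

theorem u_eq_one_iff {a b : F} (h : Valid q a b) : C.u a b = 1 ↔ a = 0 ∧ b = 0 := by
  rw [← H.u_one C]
  constructor
  · intro he
    exact C.inj a b 0 0 h H.valid_zero he
  · rintro ⟨rfl, rfl⟩
    rfl

theorem u_inv {a b : F} (h : Valid q a b) : (C.u a b)⁻¹ = C.u a (b + a ^ (q + 1)) := by
  symm
  apply eq_inv_of_mul_eq_one_left
  rw [C.mul _ _ _ _ (H.valid_inv h) h, ← H.u_one C]
  congr 1
  · exact H.add_self a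
  · have e3 : a ^ (q + 1) = a ^ q * a := pow_succ a q
    rw [e3]
    have := H.add_self b
    have h2 := H.add_self (a ^ q * a)
    linear_combination this + h2

theorem u_sq {a b : F} (h : Valid q a b) : C.u a b ^ 2 = C.u 0 (a ^ (q + 1)) := by
  rw [pow_two, C.mul _ _ _ _ h h]
  congr 1
  · exact H.add_self a
  · rw [H.add_self, zero_add, pow_succ]

theorem commute_iff {a b a' b' : F} (h : Valid q a b) (h' : Valid q a' b') :
    C.u a b * C.u a' b' = C.u a' b' * C.u a b ↔ a ^ q * a' = a' ^ q * a := by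
  rw [C.mul _ _ _ _ h h', C.mul _ _ _ _ h' h]
  constructor
  · intro he
    have := (C.inj _ _ _ _ (H.valid_mul h h') (H.valid_mul h' h) he).2
    linear_combination this
  · intro he
    congr 1
    · exact add_comm _ _
    · linear_combination he

theorem mem_center_iff {a b : F} (h : Valid q a b) : C.u a b ∈ Subgroup.center G ↔ a = 0 := by
  rw [Subgroup.mem_center_iff]
  constructor
  · intro hc
    by_contra ha
    obtain ⟨t, ht⟩ := H.exists_not_mem_Fix
    obtain ⟨b', hb'⟩ := H.exists_valid (a * t)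
    have h1 := hc (C.u (a * t) b')
    rw [H.commute_iff C hb' h, mul_pow] at h1
    apply ht
    rw [H.mem_Fix]
    have ha' : a ^ q ≠ 0 := pow_ne_zero _ ha
    have : a ^ q * a * (t ^ q - t) = 0 := by linear_combination h1
    rcases mul_eq_zero.mp this with h2 | h2
    · exact absurd h2 (mul_ne_zero ha' ha)
    · exact sub_eq_zero.mp h2
  · rintro rfl g
    obtain ⟨a', b', hv', rfl⟩ := C.surj g
    rw [H.commute_iff C hv' h, H.frob_zero, mul_zero, zero_mul]

/-- central elements are `u 0 c` with `c` in the fixed field -/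
theorem mem_center_iff_exists (g : G) :
    g ∈ Subgroup.center G ↔ ∃ c : F, c ∈ H.Fix ∧ C.u 0 c = g := by
  constructor
  · intro hg
    obtain ⟨a, b, hv, rfl⟩ := C.surj g
    have ha := (H.mem_center_iff C hv).mp hg
    subst ha
    exact ⟨b, H.valid_zero_iff.mp hv, rfl⟩
  · rintro ⟨c, hc, rfl⟩
    exact (H.mem_center_iff C (H.valid_zero_iff.mpr hc)).mpr rfl

theorem sq_mem_center (g : G) : g ^ 2 ∈ Subgroup.center G := by
  obtain ⟨a, b, hv, rfl⟩ := C.surj g
  rw [H.u_sq C hv]
  exact (H.mem_center_iff_exists C _).mpr ⟨_, H.norm_mem_Fix a, rfl⟩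

theorem center_sq {z : G} (hz : z ∈ Subgroup.center G) : z ^ 2 = 1 := by
  obtain ⟨c, hc, rfl⟩ := (H.mem_center_iff_exists C z).mp hz
  rw [H.u_sq C (H.valid_zero_iff.mpr hc), zero_pow (by omega), H.u_one C]

/-- involutions are exactly the nonidentity central elements -/
theorem involution_iff (g : G) : (g ≠ 1 ∧ g * g = 1) ↔ (g ≠ 1 ∧ g ∈ Subgroup.center G) := by
  constructor
  · rintro ⟨h1, h2⟩
    refine ⟨h1, ?_⟩
    obtain ⟨a, b, hv, rfl⟩ := C.surj g
    rw [← pow_two, H.u_sq C hv, H.u_eq_one_iff C (H.valid_zero_iff.mpr (H.norm_mem_Fix a))] at h2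
    have ha : a = 0 := pow_eq_zero_iff (by omega) |>.mp h2.2
    exact (H.mem_center_iff C hv).mpr ha
  · rintro ⟨h1, h2⟩
    refine ⟨h1, ?_⟩
    rw [← pow_two]
    exact H.center_sq C h2

theorem orderOf_eq_two_iff (g : G) : orderOf g = 2 ↔ (g ≠ 1 ∧ g ∈ Subgroup.center G) := by
  rw [← H.involution_iff C, orderOf_eq_iff (by norm_num)]
  constructor
  · rintro ⟨h1, h2⟩
    refine ⟨?_, by rw [← pow_two]; exact h1⟩
    intro hg
    exact h2 1 (by norm_num) (by norm_num) (by rw [hg, pow_one])
  · rintro ⟨h1, h2⟩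
    refine ⟨by rw [pow_two]; exact h2, ?_⟩
    intro m hm hm0
    have : m = 1 := by omega
    subst this
    rw [pow_one]
    exact h1

end FqSq

end Cfsg.Agent.Helper18.SuzU
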