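import Mathlib
import Cfsg.Agent.Helper18.SuzU2

set_option autoImplicit false

/-! Cardinalities, commutator subgroup, involutions for groups with `UCoord`. -/

namespace Cfsg.Agent.Helper18.SuzU

variable {F : Type*} [Field F] [Fintype F] {q : ℕ} {G : Type*} [Group G]

open scoped commutatorElement

/-- the coordinate bijection -/
noncomputable def UCoord.coordEquiv (C : UCoord F q G) : {p : F × F // Valid q p.1 p.2} ≃ G :=
  Equiv.ofBijective (fun p => C.u p.1.1 p.1.2)
    ⟨fun p p' h => by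
      obtain ⟨h1, h2⟩ := C.inj _ _ _ _ p.2 p'.2 h
      exact Subtype.ext (Prod.ext h1 h2),
     fun g => by
      obtain ⟨a, b, hv, hab⟩ := C.surj g
      exact ⟨⟨(a, b), hv⟩, hab⟩⟩

theorem UCoord.finite_G (C : UCoord F q G) : Finite G := Finite.of_equiv _ C.coordEquiv

namespace FqSq

variable (H : FqSq F q) (C : UCoord F q G)
include H C

theorem card_G : Nat.card G = q ^ 3 := by
  classical
  rw [← Nat.card_congr C.coordEquiv,
    Nat.card_congr (Equiv.subtypeProdEquivSigmaSubtype (fun a b : F => Valid q a b)),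
    Nat.card_sigma]
  have : ∀ a : F, Nat.card {b : F // Valid q a b} = q := fun a => H.card_fibre (H.norm_mem_Fix a)
  simp only [this, Finset.sum_const, Finset.card_univ, smul_eq_mul, H.card]
  ring

theorem card_center : Nat.card (Subgroup.center G) = q := by
  refine Eq.trans (Nat.card_congr ?_) H.card_Fix
  symm
  refine Equiv.ofBijective (fun c => ⟨C.u 0 c.1, (H.mem_center_iff_exists C _).mpr ⟨c.1, c.2, rfl⟩⟩)
    ⟨?_, ?_⟩
  · intro c c' h
    have h1 : C.u 0 c.1 = C.u 0 c'.1 := congrArg Subtype.val h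
    exact Subtype.ext (C.inj _ _ _ _ (H.valid_zero_iff.mpr c.2) (H.valid_zero_iff.mpr c'.2) h1).2
  · rintro ⟨z, hz⟩
    obtain ⟨c, hc, rfl⟩ := (H.mem_center_iff_exists C z).mp hz
    exact ⟨⟨c, hc⟩, rfl⟩

theorem card_quotient : Nat.card (G ⧸ Subgroup.center G) = q ^ 2 := by
  have h1 := Subgroup.card_eq_card_quotient_mul_card_subgroup (Subgroup.center G)
  rw [H.card_G C, H.card_center C] at h1
  have hq : 0 < q := by have := H.two_le; omega
  have : q * q ^ 2 = q * Nat.card (G ⧸ Subgroup.center G) := by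
    rw [mul_comm q (Nat.card _), ← h1]; ring
  exact (Nat.eq_of_mul_eq_mul_left hq this).symm

theorem quotient_sq (x : G ⧸ Subgroup.center G) : x ^ 2 = 1 := by
  induction x using QuotientGroup.induction_on with
  | H g =>
    rw [← QuotientGroup.mk_pow, QuotientGroup.eq_one_iff]
    exact H.sq_mem_center C g

/-- commutators -/
theorem comm_eq {a b a' b' : F} (h : Valid q a b) (h' : Valid q a' b') :
    ⁅C.u a b, C.u a' b'⁆ = C.u 0 (a ^ q * a' + a' ^ q * a) := by
  have hc : a ^ q * a' + a' ^ q * a ∈ H.Fix := by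
    rw [H.mem_Fix, H.frob_add, mul_pow, mul_pow, H.pow_qq, H.pow_qq]
    ring
  have hv0 := H.valid_zero_iff.mpr hc
  have key : C.u a b * C.u a' b' = C.u 0 (a ^ q * a' + a' ^ q * a) * (C.u a' b' * C.u a b) := by
    rw [C.mul _ _ _ _ h h', C.mul _ _ _ _ h' h, C.mul _ _ _ _ hv0 (H.valid_mul h' h)]
    congr 1
    · ring
    · rw [H.frob_zero, zero_mul, add_zero]
      have := H.add_self (a' ^ q * a)
      linear_combination -this
  rw [commutatorElement_def, key]
  group

theorem commutator_eq_center : commutator G = Subgroup.center G := by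
  apply le_antisymm
  · rw [commutator_eq_closure, Subgroup.closure_le]
    rintro g ⟨x, y, rfl⟩
    obtain ⟨a, b, hv, rfl⟩ := C.surj x
    obtain ⟨a', b', hv', rfl⟩ := C.surj y
    rw [H.comm_eq C hv hv']
    refine (H.mem_center_iff_exists C _).mpr ⟨_, ?_, rfl⟩
    rw [H.mem_Fix, H.frob_add, mul_pow, mul_pow, H.pow_qq, H.pow_qq]
    ring
  · intro z hz
    obtain ⟨c, hc, rfl⟩ := (H.mem_center_iff_exists C z).mp hz
    obtain ⟨b1, hb1⟩ := H.exists_trace hc
    obtain ⟨β, hβ⟩ := H.exists_valid (1 : F)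
    obtain ⟨β', hβ'⟩ := H.exists_valid b1
    have := H.comm_eq C hβ hβ'
    rw [one_pow, one_mul, mul_one, hb1] at this
    rw [← this, commutator_def]
    exact Subgroup.commutator_mem_commutator (Subgroup.mem_top _) (Subgroup.mem_top _)

theorem center_eq_closure :
    Subgroup.center G = Subgroup.closure {x : G | orderOf x = 2} := by
  apply le_antisymm
  · intro z hz
    by_cases h1 : z = 1
    · rw [h1]; exact Subgroup.one_mem _
    · exact Subgroup.subset_closure ((H.orderOf_eq_two_iff C z).mpr ⟨h1, hz⟩)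
  · rw [Subgroup.closure_le]
    intro x hx
    exact ((H.orderOf_eq_two_iff C x).mp hx).2

theorem isKleinFour_center (hq : q = 4) : IsKleinFour (Subgroup.center G) := by
  have hcard : Nat.card (Subgroup.center G) = 4 := by rw [H.card_center C, hq]
  refine ⟨hcard, ?_⟩
  have hdvd : Monoid.exponent (Subgroup.center G) ∣ 2 := by
    apply Monoid.exponent_dvd_of_forall_pow_eq_one
    intro z
    apply Subtype.ext
    rw [Subgroup.coe_pow, Subgroup.coe_one]
    exact H.center_sq C z.2
  rcases (Nat.dvd_prime Nat.prime_two).mp hdvd with h | h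
  · exfalso
    rw [Monoid.exp_eq_one_iff] at h
    haveI := h
    have := Nat.card_of_subsingleton (1 : Subgroup.center G)
    omega
  · exact h

theorem not_comm : ∃ x y : G, x * y ≠ y * x := by
  obtain ⟨t, ht⟩ := H.exists_not_mem_Fix
  obtain ⟨β, hβ⟩ := H.exists_valid (1 : F)
  obtain ⟨β', hβ'⟩ := H.exists_valid t
  refine ⟨C.u 1 β, C.u t β', ?_⟩
  rw [Ne, H.commute_iff C hβ hβ', one_pow, one_mul, mul_one]
  intro h
  exact ht (H.mem_Fix.mpr h.symm)

theorem exists_two_involutions (hq : 3 ≤ q) :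
    ∃ x y : G, x ≠ y ∧ x ≠ 1 ∧ x * x = 1 ∧ y ≠ 1 ∧ y * y = 1 := by
  obtain ⟨c, hc, hc0, hc1⟩ : ∃ c : F, c ∈ H.Fix ∧ c ≠ 0 ∧ c ≠ 1 := by
    by_contra hno
    push Not at hno
    have hsub : H.Fix ⊆ ({0, 1} : Set F) := by
      intro c hc
      by_cases h0 : c = 0
      · left; exact h0
      · right; exact hno c hc h0
    have h1 := Set.ncard_le_ncard hsub (Set.toFinite _)
    rw [← Nat.card_coe_set_eq, H.card_Fix] at h1
    have h2 : ({0, 1} : Set F).ncard ≤ 2 := by
      have := Set.ncard_insert_le (0 : F) {1}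
      rw [Set.ncard_singleton] at this
      exact this
    omega
  have hv1 := H.valid_zero_iff.mpr H.one_mem_Fix
  have hvc := H.valid_zero_iff.mpr hc
  refine ⟨C.u 0 1, C.u 0 c, ?_, ?_, ?_, ?_, ?_⟩
  · intro h
    exact hc1 (C.inj _ _ _ _ hv1 hvc h).2.symm
  · rw [Ne, H.u_eq_one_iff C hv1]
    rintro ⟨-, h⟩
    exact one_ne_zero h
  · rw [← pow_two]
    exact H.center_sq C ((H.mem_center_iff_exists C _).mpr ⟨1, H.one_mem_Fix, rfl⟩)
  · rw [Ne, H.u_eq_one_iff C hvc]
    rintro ⟨-, h⟩
    exact hc0 h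
  · rw [← pow_two]
    exact H.center_sq C ((H.mem_center_iff_exists C _).mpr ⟨c, hc, rfl⟩)

end FqSq

end Cfsg.Agent.Helper18.SuzU
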