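import Mathlib
import Cfsg.Agent.Helper18.SuzU3
import Cfsg.Agent.Helper2.UnitaryCenter

set_option autoImplicit false

/-! Matrix realisation of the Sylow 2-subgroup of `SU₃(q)`, `q` even, for the form `Σ uᵢ vᵢ^q`. -/

namespace Cfsg.Agent.Helper18.SuzU

open Matrix

variable {F : Type*} [Field F] [Fintype F] {q : ℕ}

/-- the unipotent matrix with parameters `a`, `b` -/
def Mm (q : ℕ) (a b : F) : Matrix (Fin 3) (Fin 3) F :=
  !![1 + b, b, a ^ q; b, 1 + b, a ^ q; a, a, 1]

namespace FqSq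

variable (H : FqSq F q)
include H

theorem det_Mm (a b : F) : (Mm q a b).det = 1 := by
  rw [Matrix.det_fin_three]
  simp [Mm]
  linear_combination (b - a ^ q * a) * H.two

theorem Mm_mul (a b a' b' : F) :
    Mm q a b * Mm q a' b' = Mm q (a + a') (b + b' + a ^ q * a') := by
  ext i j
  fin_cases i <;> fin_cases j <;>
    simp [Mm, Matrix.mul_apply, Fin.sum_univ_three, H.frob_add]
  · linear_combination (b * b') * H.two
  · linear_combination (b * b') * H.two
  · linear_combination (b * a' ^ q) * H.two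
  · linear_combination (b * b') * H.two
  · linear_combination (b * b') * H.two
  · linear_combination (b * a' ^ q) * H.two
  · linear_combination (a * b') * H.two
  · linear_combination (a * b') * H.two
  · linear_combination (a * a' ^ q) * H.two

theorem Mm_zero : Mm q (0 : F) 0 = 1 := by
  ext i j
  fin_cases i <;> fin_cases j <;> simp [Mm, H.frob_zero]

theorem Mm_inj {a b a' b' : F} (h : Mm q a b = Mm q a' b') : a = a' ∧ b = b' := by
  refine ⟨?_, ?_⟩
  · simpa [Mm] using congrFun (congrFun h 2) 0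
  · simpa [Mm] using congrFun (congrFun h 0) 1

theorem isON_Mm {a b : F} (hv : Valid q a b) :
    Cfsg.Agent.Helper2.Herm.IsON q (Cfsg.Agent.Helper2.Herm.cols (Mm q a b)) := by
  have hv' : b + b ^ q = a ^ q * a := by rw [← pow_succ]; exact hv
  intro i j
  fin_cases i <;> fin_cases j <;>
    simp [Cfsg.hermForm, Cfsg.Agent.Helper2.Herm.cols, Mm, Fin.sum_univ_three, H.frob_add,
      H.pow_qq]
  · linear_combination hv' + (a ^ q * a + b * b ^ q) * H.two
  · linear_combination hv' + (a ^ q * a + b * b ^ q) * H.two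
  · linear_combination (a + a * b) * H.two
  · linear_combination hv' + (a ^ q * a + b * b ^ q) * H.two
  · linear_combination hv' + (a ^ q * a + b * b ^ q) * H.two
  · linear_combination (a + a * b) * H.two
  · linear_combination (a ^ q + a ^ q * b ^ q) * H.two
  · linear_combination (a ^ q + a ^ q * b ^ q) * H.two
  · linear_combination (a ^ q * a) * H.two

/-- the element of `SU₃` with parameters `a`, `b` -/
def mkSU (a b : F) (hv : Valid q a b) : Cfsg.SU 3 F q :=
  ⟨(⟨Mm q a b, H.det_Mm a b⟩ : Matrix.SpecialLinearGroup (Fin 3) F),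
    (Cfsg.Agent.Helper2.Herm.mem_SU_iff_isON H.card
      (⟨Mm q a b, H.det_Mm a b⟩ : Matrix.SpecialLinearGroup (Fin 3) F)).mpr (H.isON_Mm hv)⟩

theorem mkSU_val (a b : F) (hv : Valid q a b) :
    (((H.mkSU a b hv : Cfsg.SU 3 F q) : Matrix.SpecialLinearGroup (Fin 3) F) :
      Matrix (Fin 3) (Fin 3) F) = Mm q a b := rfl

theorem mkSU_mul (a b a' b' : F) (hv : Valid q a b) (hv' : Valid q a' b') :
    H.mkSU a b hv * H.mkSU a' b' hv' =
      H.mkSU (a + a') (b + b' + a ^ q * a') (H.valid_mul hv hv') := by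
  apply Subtype.ext
  apply Subtype.ext
  show Mm q a b * Mm q a' b' = Mm q (a + a') (b + b' + a ^ q * a')
  exact H.Mm_mul a b a' b'

theorem mkSU_zero : H.mkSU 0 0 H.valid_zero = 1 := by
  apply Subtype.ext
  apply Subtype.ext
  show Mm q (0 : F) 0 = 1
  exact H.Mm_zero

theorem mkSU_inj {a b a' b' : F} {hv : Valid q a b} {hv' : Valid q a' b'}
    (h : H.mkSU a b hv = H.mkSU a' b' hv') : a = a' ∧ b = b' := by
  apply H.Mm_inj
  have := congrArg (fun g : Cfsg.SU 3 F q =>
    ((g : Matrix.SpecialLinearGroup (Fin 3) F) : Matrix (Fin 3) (Fin 3) F)) h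
  exact this

theorem mkSU_congr {a b a' b' : F} (hv : Valid q a b) (ha : a = a') (hb : b = b') :
    H.mkSU a b hv = H.mkSU a' b' (by rw [← ha, ← hb]; exact hv) := by
  subst ha; subst hb; rfl

/-- the Sylow 2-subgroup of `SU₃(q)` -/
def Q0 : Subgroup (Cfsg.SU 3 F q) where
  carrier := {g | ∃ (a b : F) (hv : Valid q a b), g = H.mkSU a b hv}
  mul_mem' := by
    rintro _ _ ⟨a, b, hv, rfl⟩ ⟨a', b', hv', rfl⟩
    exact ⟨_, _, _, H.mkSU_mul a b a' b' hv hv'⟩
  one_mem' := ⟨0, 0, H.valid_zero, H.mkSU_zero.symm⟩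
  inv_mem' := by
    rintro _ ⟨a, b, hv, rfl⟩
    refine ⟨a, b + a ^ (q + 1), H.valid_inv hv, ?_⟩
    apply inv_eq_of_mul_eq_one_left
    rw [H.mkSU_mul _ _ _ _ (H.valid_inv hv) hv, ← H.mkSU_zero]
    apply H.mkSU_congr
    · exact H.add_self a
    · have e3 : a ^ (q + 1) = a ^ q * a := pow_succ a q
      rw [e3]
      have := H.add_self b
      have h2 := H.add_self (a ^ q * a)
      linear_combination this + h2

theorem mem_Q0 {g : Cfsg.SU 3 F q} :
    g ∈ H.Q0 ↔ ∃ (a b : F) (hv : Valid q a b), g = H.mkSU a b hv := Iff.rfl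

open Classical in
/-- coordinates on `Q0` -/
noncomputable def coordQ0 : UCoord F q H.Q0 where
  u a b := if hv : Valid q a b then ⟨H.mkSU a b hv, ⟨a, b, hv, rfl⟩⟩ else 1
  mul a b a' b' hv hv' := by
    rw [dif_pos hv, dif_pos hv', dif_pos (H.valid_mul hv hv')]
    apply Subtype.ext
    exact H.mkSU_mul a b a' b' hv hv'
  surj g := by
    obtain ⟨a, b, hv, hg⟩ := g.2
    refine ⟨a, b, hv, ?_⟩
    rw [dif_pos hv]
    exact Subtype.ext hg.symm
  inj a b a' b' hv hv' h := by
    rw [dif_pos hv, dif_pos hv'] at h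
    exact H.mkSU_inj (hv := hv) (hv' := hv') (congrArg Subtype.val h)

end FqSq

end Cfsg.Agent.Helper18.SuzU
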