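import Mathlib
import Cfsg.Agent.Helper18.SuzU4

set_option autoImplicit false

/-! Every Sylow 2-subgroup of `PSU₃(q)`, `q = 2ⁿ`, carries `UCoord` coordinates. -/

namespace Cfsg.Agent.Helper18.SuzU

open Matrix

variable {F : Type*} [Field F] [Fintype F] {q : ℕ}

namespace FqSq

variable (H : FqSq F q)
include H

theorem card_Q0 : Nat.card H.Q0 = q ^ 3 := H.card_G H.coordQ0

theorem eq_one_of_mem_Q0_of_mem_center {n : ℕ} (hq : q = 2 ^ n) {z : Cfsg.SU 3 F q}
    (hz : z ∈ H.Q0) (hc : z ∈ Subgroup.center (Cfsg.SU 3 F q)) : z = 1 := by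
  have h1 : orderOf z ∣ q ^ 3 := by
    have := orderOf_dvd_natCard (⟨z, hz⟩ : H.Q0)
    rw [H.card_Q0, ← Subgroup.orderOf_coe] at this
    exact this
  have h2 : orderOf z ∣ 3 := by
    have := orderOf_dvd_natCard (⟨z, hc⟩ : Subgroup.center (Cfsg.SU 3 F q))
    rw [Cfsg.Agent.Helper2.Herm.card_center_SU H.card 3 (by norm_num),
      ← Subgroup.orderOf_coe] at this
    exact this.trans (Nat.gcd_dvd_left _ _)
  have hcop : Nat.Coprime (q ^ 3) 3 := by
    rw [hq]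
    exact Nat.Coprime.pow_left _ (Nat.Coprime.pow_left _ (by norm_num))
  have h3 : orderOf z ∣ 1 := by
    have := Nat.dvd_gcd h1 h2
    rwa [hcop] at this
  exact orderOf_eq_one_iff.mp (Nat.dvd_one.mp h3)

/-- the map `Q0 → PSU₃(q)` -/
noncomputable def toPSU : H.Q0 →* Cfsg.PSU 3 F q :=
  (QuotientGroup.mk' (Subgroup.center (Cfsg.SU 3 F q))).comp H.Q0.subtype

theorem toPSU_injective {n : ℕ} (hq : q = 2 ^ n) : Function.Injective H.toPSU := by
  rw [injective_iff_map_eq_one]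
  intro x hx
  have : (x : Cfsg.SU 3 F q) ∈ Subgroup.center (Cfsg.SU 3 F q) := by
    rw [← QuotientGroup.eq_one_iff]
    exact hx
  exact Subtype.ext (H.eq_one_of_mem_Q0_of_mem_center hq x.2 this)

theorem card_range_toPSU {n : ℕ} (hq : q = 2 ^ n) : Nat.card H.toPSU.range = q ^ 3 := by
  rw [← H.card_Q0]
  exact (Nat.card_congr (MonoidHom.ofInjective (H.toPSU_injective hq)).toEquiv).symm

theorem odd_aux : Odd ((q + 1) * (q ^ 2 - 1) * (q ^ 3 + 1)) := by
  have he := H.even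
  have h2 := H.two_le
  refine Nat.odd_mul.mpr ⟨Nat.odd_mul.mpr ⟨he.add_one, ?_⟩, ?_⟩
  · apply Nat.Even.sub_odd
    · exact Nat.one_le_pow _ _ (by omega)
    · exact (Nat.even_pow.mpr ⟨he, by norm_num⟩)
    · exact odd_one
  · exact (Nat.even_pow.mpr ⟨he, by norm_num⟩).add_one

theorem not_dvd_index {n : ℕ} (hq : q = 2 ^ n) : ¬ 2 ∣ H.toPSU.range.index := by
  intro hdvd
  have h1 := Cfsg.Agent.Helper2.Herm.card_PSU_closed H.card 3 (by norm_num)
  have hprod : ∏ i ∈ Finset.range 3, (if Even i then q ^ (i + 1) + 1 else q ^ (i + 1) - 1) =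
      (q + 1) * (q ^ 2 - 1) * (q ^ 3 + 1) := by
    rw [Finset.prod_range_succ, Finset.prod_range_succ, Finset.prod_range_succ,
      Finset.prod_range_zero]
    simp [Nat.even_add_one]
  rw [hprod] at h1
  have h3 : (3 * (3 - 1) / 2) = 3 := by norm_num
  rw [h3] at h1
  have h2 := Subgroup.card_mul_index H.toPSU.range
  rw [H.card_range_toPSU hq] at h2
  rw [← h2] at h1
  have hq0 : 0 < q ^ 3 := by have := H.two_le; positivity
  have h4 : q ^ 3 * (Nat.gcd 3 (q + 1) * ((q + 1) * H.toPSU.range.index)) =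
      q ^ 3 * ((q + 1) * (q ^ 2 - 1) * (q ^ 3 + 1)) := by
    rw [← h1]; ring
  have h5 := Nat.eq_of_mul_eq_mul_left hq0 h4
  have h6 : 2 ∣ (q + 1) * (q ^ 2 - 1) * (q ^ 3 + 1) := by
    rw [← h5]
    exact Dvd.dvd.mul_left (Dvd.dvd.mul_left hdvd _) _
  have := H.odd_aux
  rw [Nat.odd_iff] at this
  omega

/-- the explicit Sylow 2-subgroup of `PSU₃(q)` -/
noncomputable def sylow0 {n : ℕ} (hq : q = 2 ^ n) : Sylow 2 (Cfsg.PSU 3 F q) :=
  haveI : Fact (Nat.Prime 2) := ⟨Nat.prime_two⟩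
  (IsPGroup.of_card (n := 3 * n) (by rw [H.card_range_toPSU hq, hq, ← pow_mul, mul_comm])).toSylow
    (H.not_dvd_index hq)

/-- coordinates on any Sylow 2-subgroup -/
noncomputable def coordSylow {n : ℕ} (hq : q = 2 ^ n) (S : Sylow 2 (Cfsg.PSU 3 F q)) :
    UCoord F q (S : Subgroup (Cfsg.PSU 3 F q)) :=
  haveI : Fact (Nat.Prime 2) := ⟨Nat.prime_two⟩
  H.coordQ0.map ((MonoidHom.ofInjective (H.toPSU_injective hq)).trans
    (Sylow.equiv (H.sylow0 hq) S))

end FqSq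

end Cfsg.Agent.Helper18.SuzU
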