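import Mathlib
import Cfsg.Agent.Helper18.SuzU5

set_option autoImplicit false

/-! Structure of a Sylow 2-subgroup of `PSU₃(4)` (S1248). -/

namespace Cfsg.Agent.Helper18.SuzU

variable {F : Type*} [Field F] [Fintype F]

theorem FqSq.of_pow' {q n : ℕ} (hq : q = 2 ^ n) (hn : 1 ≤ n) (hF : Fintype.card F = q ^ 2) :
    FqSq F q := by
  subst hq
  exact FqSq.of_pow hn hF

theorem u34 (hF : Fintype.card F = 16) (S : Sylow 2 (Cfsg.PSU 3 F 4)) :
    Nat.card S = 64 ∧ IsKleinFour (Subgroup.center (S : Subgroup (Cfsg.PSU 3 F 4))) ∧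
    Subgroup.center (S : Subgroup (Cfsg.PSU 3 F 4)) =
      Subgroup.closure {x : (S : Subgroup (Cfsg.PSU 3 F 4)) | orderOf x = 2} ∧
    Subgroup.center (S : Subgroup (Cfsg.PSU 3 F 4)) =
      commutator (S : Subgroup (Cfsg.PSU 3 F 4)) ∧
    Nat.card ((S : Subgroup (Cfsg.PSU 3 F 4)) ⧸
      Subgroup.center (S : Subgroup (Cfsg.PSU 3 F 4))) = 16 ∧
    ∀ x : (S : Subgroup (Cfsg.PSU 3 F 4)) ⧸ Subgroup.center (S : Subgroup (Cfsg.PSU 3 F 4)),
      x ^ 2 = 1 := by
  have hq : (4 : ℕ) = 2 ^ 2 := by norm_num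
  have H : FqSq F 4 := FqSq.of_pow' hq (by norm_num) (by rw [hF]; norm_num)
  have C := H.coordSylow hq S
  refine ⟨?_, H.isKleinFour_center C rfl, H.center_eq_closure C, (H.commutator_eq_center C).symm,
    ?_, H.quotient_sq C⟩
  · have := H.card_G C
    rw [this]; norm_num
  · have := H.card_quotient C
    rw [this]; norm_num

end Cfsg.Agent.Helper18.SuzU
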