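import Mathlib
import Cfsg.Agent.Helper18.SuzU5
import Cfsg.Prelude.Def_LieRecognition

set_option autoImplicit false

/-! Scaling automorphisms of a group with `UCoord`; the Sylow 2-subgroups of `PSU₃(2ⁿ)` are
Suzuki 2-groups (S1141). -/

namespace Cfsg.Agent.Helper18.SuzU

variable {F : Type*} [Field F] [Fintype F] {q : ℕ} {G : Type*} [Group G]

namespace UCoord

variable (C : UCoord F q G)

/-- first coordinate -/
noncomputable def fst (g : G) : F := (C.surj g).choose

/-- second coordinate -/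
noncomputable def snd (g : G) : F := (C.surj g).choose_spec.choose

theorem valid_coord (g : G) : Valid q (C.fst g) (C.snd g) :=
  (C.surj g).choose_spec.choose_spec.1

theorem u_coord (g : G) : C.u (C.fst g) (C.snd g) = g :=
  (C.surj g).choose_spec.choose_spec.2

theorem fst_u {a b : F} (hv : Valid q a b) : C.fst (C.u a b) = a :=
  (C.inj _ _ _ _ (C.valid_coord _) hv (C.u_coord _)).1

theorem snd_u {a b : F} (hv : Valid q a b) : C.snd (C.u a b) = b :=
  (C.inj _ _ _ _ (C.valid_coord _) hv (C.u_coord _)).2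

/-- the scaling map `(a, b) ↦ (l a, l^(q+1) b)` -/
noncomputable def phiFun (l : F) (g : G) : G := C.u (l * C.fst g) (l ^ (q + 1) * C.snd g)

end UCoord

namespace FqSq

variable (H : FqSq F q) (C : UCoord F q G)
include H

theorem valid_scale (l : F) {a b : F} (hv : Valid q a b) :
    Valid q (l * a) (l ^ (q + 1) * b) := by
  unfold Valid at *
  have hn := H.norm_mem_Fix l
  rw [H.mem_Fix] at hn
  rw [mul_pow, hn, mul_pow, ← hv]
  ring

theorem phiFun_u (l : F) {a b : F} (hv : Valid q a b) :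
    C.phiFun l (C.u a b) = C.u (l * a) (l ^ (q + 1) * b) := by
  rw [UCoord.phiFun, C.fst_u hv, C.snd_u hv]

theorem phiFun_mul (l : F) (g g' : G) :
    C.phiFun l (g * g') = C.phiFun l g * C.phiFun l g' := by
  obtain ⟨a, b, hv, rfl⟩ := C.surj g
  obtain ⟨a', b', hv', rfl⟩ := C.surj g'
  rw [C.mul _ _ _ _ hv hv', H.phiFun_u C l (H.valid_mul hv hv'), H.phiFun_u C l hv,
    H.phiFun_u C l hv', C.mul _ _ _ _ (H.valid_scale l hv) (H.valid_scale l hv')]
  congr 1
  · ring
  · rw [mul_pow, pow_succ]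
    ring

theorem phiFun_comp (l m : F) (g : G) : C.phiFun l (C.phiFun m g) = C.phiFun (l * m) g := by
  obtain ⟨a, b, hv, rfl⟩ := C.surj g
  rw [H.phiFun_u C m hv, H.phiFun_u C l (H.valid_scale m hv), H.phiFun_u C (l * m) hv]
  congr 1
  · ring
  · rw [mul_pow]; ring

theorem phiFun_one (g : G) : C.phiFun 1 g = g := by
  obtain ⟨a, b, hv, rfl⟩ := C.surj g
  rw [H.phiFun_u C 1 hv, one_mul, one_pow, one_mul]

/-- the scaling automorphisms -/
noncomputable def phi : Fˣ →* MulAut G where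
  toFun l :=
    { toFun := C.phiFun (l : F)
      invFun := C.phiFun ((l⁻¹ : Fˣ) : F)
      left_inv := fun g => by rw [H.phiFun_comp C, Units.inv_mul, H.phiFun_one C]
      right_inv := fun g => by rw [H.phiFun_comp C, Units.mul_inv, H.phiFun_one C]
      map_mul' := H.phiFun_mul C (l : F) }
  map_one' := by
    ext g
    exact H.phiFun_one C g
  map_mul' l m := by
    ext g
    show C.phiFun ((l * m : Fˣ) : F) g = C.phiFun (l : F) (C.phiFun (m : F) g)
    rw [H.phiFun_comp C, Units.val_mul]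

theorem phi_apply (l : Fˣ) (g : G) : H.phi C l g = C.phiFun (l : F) g := rfl

/-- units in the fixed field -/
def FixU (H : FqSq F q) : Subgroup Fˣ where
  carrier := {l | ((l : Fˣ) : F) ∈ H.Fix}
  mul_mem' := by
    intro l m hl hm
    show ((l * m : Fˣ) : F) ∈ H.Fix
    rw [Units.val_mul]
    exact H.mul_mem_Fix hl hm
  one_mem' := by
    show ((1 : Fˣ) : F) ∈ H.Fix
    rw [Units.val_one]
    exact H.one_mem_Fix
  inv_mem' := by
    intro l hl
    show ((l⁻¹ : Fˣ) : F) ∈ H.Fix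
    have hl' : ((l : Fˣ) : F) ^ q = l := hl
    rw [H.mem_Fix, Units.val_inv_eq_inv_val, inv_pow, hl']

theorem mem_FixU {l : Fˣ} : l ∈ H.FixU ↔ (l : F) ^ q = l := Iff.rfl

/-- the cyclic group of automorphisms -/
noncomputable def K : Subgroup (MulAut G) := H.FixU.map (H.phi C)

theorem isCyclic_K : IsCyclic (H.K C) := by
  haveI : IsCyclic H.FixU := inferInstance
  exact isCyclic_of_surjective ((H.phi C).subgroupMap H.FixU)
    ((H.phi C).subgroupMap_surjective H.FixU)

theorem sq_inj {l m : F} (h : l * l = m * m) : l = m := by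
  have h1 : (l + m) * (l + m) = 0 := by
    have := H.add_self (l * m)
    have h2 := H.add_self (m * m)
    linear_combination h + this + h2
  have h2 : l + m = 0 := by
    rcases mul_eq_zero.mp h1 with h | h <;> exact h
  have := H.neg_eq m
  rw [← this]
  exact eq_neg_of_add_eq_zero_left h2

theorem exists_sqrt {d : F} (hd : d ∈ H.Fix) : ∃ l : F, l ∈ H.Fix ∧ l * l = d := by
  obtain ⟨m, hm⟩ := H.even
  rw [H.mem_Fix] at hd
  refine ⟨d ^ m, ?_, ?_⟩
  · rw [H.mem_Fix, ← pow_mul, mul_comm, pow_mul, hd]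
  · rw [← pow_add, ← hm, hd]

/-- `K` permutes the involutions regularly -/
theorem K_regular (x y : G) (hx1 : x ≠ 1) (hx2 : x * x = 1) (hy1 : y ≠ 1) (hy2 : y * y = 1) :
    ∃! k : H.K C, (k : MulAut G) x = y := by
  obtain ⟨-, hxc⟩ := (H.involution_iff C x).mp ⟨hx1, hx2⟩
  obtain ⟨-, hyc⟩ := (H.involution_iff C y).mp ⟨hy1, hy2⟩
  obtain ⟨c, hc, rfl⟩ := (H.mem_center_iff_exists C x).mp hxc
  obtain ⟨c', hc', rfl⟩ := (H.mem_center_iff_exists C y).mp hyc
  have hvc := H.valid_zero_iff.mpr hc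
  have hvc' := H.valid_zero_iff.mpr hc'
  have hc0 : c ≠ 0 := by
    rintro rfl
    exact hx1 (H.u_one C)
  have hc'0 : c' ≠ 0 := by
    rintro rfl
    exact hy1 (H.u_one C)
  have hact : ∀ l : Fˣ, l ∈ H.FixU → H.phi C l (C.u 0 c) = C.u 0 ((l : F) * l * c) := by
    intro l hl
    rw [H.phi_apply C, H.phiFun_u C _ hvc, mul_zero, pow_succ, (H.mem_FixU).mp hl]
  -- existence
  have hd : c' * c⁻¹ ∈ H.Fix := by
    apply H.mul_mem_Fix hc'
    rw [H.mem_Fix] at hc ⊢
    rw [inv_pow, hc]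
  obtain ⟨l, hl, hll⟩ := H.exists_sqrt hd
  have hl0 : l ≠ 0 := by
    rintro rfl
    rw [mul_zero] at hll
    exact (mul_ne_zero hc'0 (inv_ne_zero hc0)) hll.symm
  have hlU : Units.mk0 l hl0 ∈ H.FixU := by
    rw [H.mem_FixU, Units.val_mk0]
    exact hl
  refine ⟨⟨H.phi C (Units.mk0 l hl0), ⟨_, hlU, rfl⟩⟩, ?_, ?_⟩
  · show H.phi C (Units.mk0 l hl0) (C.u 0 c) = C.u 0 c'
    rw [hact _ hlU, Units.val_mk0, hll]
    congr 1
    field_simp
  · rintro ⟨k, m, hm, rfl⟩ hk
    have hk' : H.phi C m (C.u 0 c) = C.u 0 c' := hk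
    rw [hact m hm] at hk'
    have h1 := (C.inj _ _ _ _
      (H.valid_zero_iff.mpr (H.mul_mem_Fix (H.mul_mem_Fix hm hm) hc)) hvc' hk').2
    have h2 : (m : F) * m = l * l := by
      rw [hll]
      field_simp
      rw [pow_two]
      exact h1
    have h3 : (m : F) = l := H.sq_inj h2
    apply Subtype.ext
    show H.phi C m = H.phi C (Units.mk0 l hl0)
    congr 1
    exact Units.ext h3

end FqSq

/-- S1141 -/
theorem suzuki_main {n : ℕ} (hn : 2 ≤ n) (hF : Fintype.card F = (2 ^ n) ^ 2)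
    (S : Sylow 2 (Cfsg.PSU 3 F (2 ^ n))) :
    Nat.card S = (2 ^ n) ^ 3 ∧
      Nat.card (Subgroup.center ↥(S : Subgroup (Cfsg.PSU 3 F (2 ^ n)))) = 2 ^ n ∧
      Cfsg.IsSuzukiTwoGroup ↥(S : Subgroup (Cfsg.PSU 3 F (2 ^ n))) := by
  have H : FqSq F (2 ^ n) := FqSq.of_pow (by omega) hF
  have C := H.coordSylow rfl S
  have hcard := H.card_G C
  refine ⟨hcard, H.card_center C, C.finite_G, ?_, H.not_comm C, ?_, H.K C, H.isCyclic_K C, ?_⟩
  · haveI : Fact (Nat.Prime 2) := ⟨Nat.prime_two⟩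
    exact IsPGroup.of_card (n := n * 3) (by rw [hcard, pow_mul])
  · apply H.exists_two_involutions C
    calc 3 ≤ 2 ^ 2 := by norm_num
      _ ≤ 2 ^ n := Nat.pow_le_pow_right (by norm_num) hn
  · intro x y hx1 hx2 hy1 hy2
    exact H.K_regular C x y hx1 hx2 hy1 hy2

end Cfsg.Agent.Helper18.SuzU
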