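import Mathlib
import Cfsg.Prelude.Def_Classical
import Cfsg.Agent.Helper15.S2933Defs
import Cfsg.Agent.Helper18.SuzU6
import Cfsg.Agent.Helper18.SuzU7

/-!
# S2933 piece MODEL (board `s2933pieces`): every Sylow 2-subgroup of `PSU(3, F, 4)`, `|F| = 16`, carries the
normal form data `UData`.  Works for every field of order 16 (no `decide`): `ζ` of order 5, `τ = ζ + ζ⁴` is a primitive
cube root of unity, `ω = τ²`, `ρ = phi ω`, `s = u 0 1`, `x = u 1 b₁`, `w = u ζ b₂`.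
-/

set_option autoImplicit false

namespace Cfsg.Agent.S2933P

open scoped commutatorElement
open Cfsg.Agent.Helper16.S64 Cfsg.Agent.Helper18.SuzU

theorem MODEL_aux_field {F : Type*} [Field F] [Fintype F] (hF : Fintype.card F = 16) :
    ∃ z τ : F, z ^ 5 = 1 ∧ τ = z + z ^ 4 ∧ τ ≠ 0 ∧ τ ≠ 1 ∧ τ ^ 3 = 1 := by
  classical
  have hq : (4 : ℕ) = 2 ^ 2 := by norm_num
  have H : FqSq F 4 := FqSq.of_pow' hq (by norm_num) (by rw [hF]; norm_num)
  have hcard : Fintype.card Fˣ = 15 := by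
    rw [← Nat.card_eq_fintype_card, H.card_units]
  haveI : Fact (Nat.Prime 5) := ⟨by norm_num⟩
  obtain ⟨ζ, hζ⟩ := exists_prime_orderOf_dvd_card (G := Fˣ) 5 (by rw [hcard]; norm_num)
  have hz5u : ζ ^ 5 = 1 := by rw [← hζ]; exact pow_orderOf_eq_one ζ
  have hz1u : ζ ≠ 1 := by
    intro h
    rw [h, orderOf_one] at hζ
    norm_num at hζ
  set z : F := (ζ : F) with hz
  have hz5 : z ^ 5 = 1 := by
    rw [hz, ← Units.val_pow_eq_pow_val, hz5u, Units.val_one]
  have hz0 : z ≠ 0 := ζ.ne_zero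
  have hz1 : z ≠ 1 := by
    intro h
    apply hz1u
    exact Units.ext (by rw [Units.val_one]; exact h)
  -- z³ = 1 is impossible
  have hno3 : z ^ 3 ≠ 1 := by
    intro h3
    have h2' : z ^ 2 = 1 := by
      have : z ^ 5 = z ^ 3 * z ^ 2 := by ring
      rw [this, h3, one_mul] at hz5
      exact hz5
    have : z ^ 3 = z ^ 2 * z := by ring
    rw [this, h2', one_mul] at h3
    exact hz1 h3
  have hτ0 : z + z ^ 4 ≠ 0 := by
    intro h0
    have h4 : z ^ 4 = z := by linear_combination h0 - H.add_self z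
    apply hno3
    have : z * (z ^ 3 - 1) = 0 := by
      have : z * (z ^ 3 - 1) = z ^ 4 - z := by ring
      rw [this, h4, sub_self]
    rcases mul_eq_zero.1 this with h | h
    · exact absurd h hz0
    · exact sub_eq_zero.1 h
  refine ⟨z, z + z ^ 4, hz5, rfl, hτ0, ?_, ?_⟩
  · intro h1
    -- z² + z + 1 = 0, so z³ = 1
    apply hno3
    have e : z ^ 2 + z + 1 = 0 := by linear_combination z * h1 - hz5 + H.add_self z
    have : z ^ 3 - 1 = (z - 1) * (z ^ 2 + z + 1) := by ring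
    rw [e, mul_zero] at this
    exact sub_eq_zero.1 this
  · -- τ⁴ = τ and τ ≠ 0
    have hτ4 : (z + z ^ 4) ^ 4 = z + z ^ 4 := by
      rw [H.frob_add]
      have : (z ^ 4) ^ 4 = z ^ 5 * z ^ 5 * z ^ 5 * z := by ring
      rw [this, hz5]; ring
    have : (z + z ^ 4) * ((z + z ^ 4) ^ 3 - 1) = 0 := by
      have : (z + z ^ 4) * ((z + z ^ 4) ^ 3 - 1) = (z + z ^ 4) ^ 4 - (z + z ^ 4) := by ring
      rw [this, hτ4, sub_self]
    rcases mul_eq_zero.1 this with h | h
    · exact absurd h hτ0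
    · exact sub_eq_zero.1 h

theorem MODEL_aux {F : Type*} [Field F] [Fintype F] (hF : Fintype.card F = 16)
    (P : Sylow 2 (Cfsg.PSU 3 F 4)) :
    ∃ (ρ : MulAut ↥(P : Subgroup (Cfsg.PSU 3 F 4)))
      (s x w : ↥(P : Subgroup (Cfsg.PSU 3 F 4))), UData ρ s x w := by
  classical
  have hq : (4 : ℕ) = 2 ^ 2 := by norm_num
  have H : FqSq F 4 := FqSq.of_pow' hq (by norm_num) (by rw [hF]; norm_num)
  let C := H.coordSylow hq P
  obtain ⟨z, τ, hz5, hτ, hτ0, hτ1, hτ3⟩ := MODEL_aux_field hF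
  -- ω = τ²
  have hω0 : τ ^ 2 ≠ 0 := pow_ne_zero 2 hτ0
  let ω : Fˣ := Units.mk0 (τ ^ 2) hω0
  have hωv : (ω : F) = τ ^ 2 := rfl
  have hω3 : (ω : F) * (ω : F) * (ω : F) = 1 := by
    rw [hωv]
    have : τ ^ 2 * τ ^ 2 * τ ^ 2 = τ ^ 3 * τ ^ 3 := by ring
    rw [this, hτ3, one_mul]
  have hω1 : (ω : F) ≠ 1 := by
    rw [hωv]
    intro h
    apply hτ1
    have : τ ^ 3 = τ ^ 2 * τ := by ring
    rw [this, h, one_mul] at hτ3
    exact hτ3
  have hω5 : (ω : F) ^ (4 + 1) = τ := by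
    rw [hωv]
    have : (τ ^ 2) ^ (4 + 1) = τ ^ 3 * τ ^ 3 * τ ^ 3 * τ := by ring
    rw [this, hτ3]; ring
  obtain ⟨b1, hv1⟩ := H.exists_valid (1 : F)
  obtain ⟨b2, hv2⟩ := H.exists_valid z
  have hv01 : Valid 4 (0 : F) 1 := H.valid_zero_iff.mpr H.one_mem_Fix
  have hvτ : Valid 4 (0 : F) τ := by
    have := H.valid_scale (ω : F) hv01
    rw [mul_zero, mul_one, hω5] at this
    exact this
  refine ⟨H.phi C ω, C.u 0 1, C.u 1 b1, C.u z b2, ?_⟩
  refine ⟨?_, ⟨?_, ?_⟩, ?_, ?_, ?_, ?_, ?_⟩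
  · -- card
    have := H.card_G C
    rw [this]; norm_num
  · -- cube
    intro t
    rw [H.phi_apply, H.phi_apply, H.phi_apply, H.phiFun_comp C, H.phiFun_comp C, hω3,
      H.phiFun_one C]
  · -- fixed-point-free
    intro t ht
    obtain ⟨a, b, hv, rfl⟩ := C.surj t
    rw [H.phi_apply, H.phiFun_u C _ hv] at ht
    obtain ⟨ha, hb⟩ := C.inj _ _ _ _ (H.valid_scale _ hv) hv ht
    have ha0 : a = 0 := by
      have : ((ω : F) - 1) * a = 0 := by rw [sub_mul, ha, one_mul, sub_self]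
      rcases mul_eq_zero.1 this with h | h
      · exact absurd (sub_eq_zero.1 h) hω1
      · exact h
    have hb0 : b = 0 := by
      rw [hω5] at hb
      have : (τ - 1) * b = 0 := by rw [sub_mul, hb, one_mul, sub_self]
      rcases mul_eq_zero.1 this with h | h
      · exact absurd (sub_eq_zero.1 h) hτ1
      · exact h
    rw [ha0, hb0]
    exact H.u_one C
  · -- s central
    exact (H.mem_center_iff C hv01).2 rfl
  · -- s ≠ 1
    intro h
    have := (H.u_eq_one_iff C hv01).1 h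
    exact one_ne_zero this.2
  · -- x² = s
    rw [← sq, H.u_sq C hv1, one_pow]
  · -- w² = s
    rw [← sq, H.u_sq C hv2]
    have : z ^ (4 + 1) = 1 := hz5
    rw [this]
  · -- the commutator
    rw [H.comm_eq C hv1 hv2, H.phi_apply, H.phiFun_u C _ hv01, mul_zero, mul_one, hω5]
    congr 1
    rw [hτ]; ring

/-- MODEL: every Sylow 2-subgroup of `PSU(3, F, 4)` (one concrete `F` of order 16) has the data. -/
theorem MODEL : ∃ (F : Type) (_ : Field F) (_ : Fintype F), Fintype.card F = 16 ∧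
    ∀ P : Sylow 2 (Cfsg.PSU 3 F 4), ∃ (ρ : MulAut ↥(P : Subgroup (Cfsg.PSU 3 F 4)))
      (s x w : ↥(P : Subgroup (Cfsg.PSU 3 F 4))), UData ρ s x w := by
  haveI : Fact (Nat.Prime 2) := ⟨Nat.prime_two⟩
  letI : Fintype (GaloisField 2 4) := Fintype.ofFinite _
  have hcard : Fintype.card (GaloisField 2 4) = 16 := by
    rw [← Nat.card_eq_fintype_card, GaloisField.card 2 4 (by norm_num)]
    norm_num
  exact ⟨GaloisField 2 4, inferInstance, inferInstance, hcard, fun P => MODEL_aux hcard P⟩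

end Cfsg.Agent.S2933P
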