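import Mathlib
import Cfsg.Agent.Helper16.S64Defs
import Cfsg.Agent.Helper11.L34Gens

set_option autoImplicit false

/-! Piece G of S3157 (driver helper16): `Heis F4` is a Sylow 2-subgroup of `PSL(3, F4)`. -/

namespace Cfsg.Agent.Helper18.S64

open Cfsg.Agent.Helper16.S64 Matrix

variable {R : Type*} [CommRing R]

/-- the unitriangular matrix of an element of the Heisenberg group -/
def heisMat (p : Heis R) : Matrix (Fin 3) (Fin 3) R :=
  !![1, p.a, p.c; 0, 1, p.b; 0, 0, 1]

theorem heisMat_det (p : Heis R) : (heisMat p).det = 1 := by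
  rw [heisMat, Matrix.det_fin_three]
  simp

theorem heisMat_mul (p q : Heis R) : heisMat (p * q) = heisMat p * heisMat q := by
  ext i j
  fin_cases i <;> fin_cases j <;>
    simp [heisMat, Matrix.mul_apply, Fin.sum_univ_three] <;> ring

theorem heisMat_one : heisMat (1 : Heis R) = 1 := by
  ext i j
  fin_cases i <;> fin_cases j <;> simp [heisMat]

/-- the embedding `Heis R →* SL(3, R)` -/
def heisSL : Heis R →* SpecialLinearGroup (Fin 3) R where
  toFun p := ⟨heisMat p, heisMat_det p⟩
  map_one' := Subtype.ext heisMat_one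
  map_mul' p q := Subtype.ext (heisMat_mul p q)

theorem heisSL_coe (p : Heis R) : ((heisSL p : SpecialLinearGroup (Fin 3) R) :
    Matrix (Fin 3) (Fin 3) R) = heisMat p := rfl

/-- the composite `Heis R →* PSL(3, R)` is injective -/
theorem heisPSL_injective :
    Function.Injective ((QuotientGroup.mk' (Subgroup.center (SpecialLinearGroup (Fin 3) R))).comp
      (heisSL (R := R))) := by
  rw [injective_iff_map_eq_one]
  intro p hp
  rw [MonoidHom.comp_apply, QuotientGroup.mk'_apply, QuotientGroup.eq_one_iff,
    Matrix.SpecialLinearGroup.mem_center_iff] at hp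
  obtain ⟨r, -, hr⟩ := hp
  have hm : Matrix.scalar (Fin 3) r = heisMat p := by rw [hr, heisSL_coe]
  have h01 := congrFun (congrFun hm 0) 1
  have h12 := congrFun (congrFun hm 1) 2
  have h02 := congrFun (congrFun hm 0) 2
  simp [heisMat, Matrix.scalar_apply] at h01 h12 h02
  ext
  · exact h01.symm
  · exact h12.symm
  · exact h02.symm

/-- **Piece G.** -/
theorem heis_sylow : ∃ S : Sylow 2 (Matrix.ProjectiveSpecialLinearGroup (Fin 3) F4),
    Nonempty (Heis F4 ≃* ↥(S : Subgroup (Matrix.ProjectiveSpecialLinearGroup (Fin 3) F4))) := by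
  classical
  set φ : Heis F4 →* Matrix.ProjectiveSpecialLinearGroup (Fin 3) F4 :=
    (QuotientGroup.mk' (Subgroup.center (SpecialLinearGroup (Fin 3) F4))).comp heisSL with hφ
  have hinj : Function.Injective φ := heisPSL_injective
  have hcardG : Nat.card (Matrix.ProjectiveSpecialLinearGroup (Fin 3) F4) = 20160 :=
    Cfsg.Agent.Helper11.L34.card_psl34 Cfsg.Agent.Helper19.Sp4.F4.card_eq
  haveI : Finite (Matrix.ProjectiveSpecialLinearGroup (Fin 3) F4) :=
    Nat.finite_of_card_ne_zero (by rw [hcardG]; norm_num)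
  have hrange : Nat.card φ.range = 64 := by
    rw [← card_heis_F4]
    exact (Nat.card_congr (MonoidHom.ofInjective hinj).toEquiv).symm
  have hfac : (Nat.card (Matrix.ProjectiveSpecialLinearGroup (Fin 3) F4)).factorization 2 = 6 := by
    rw [hcardG]
    have h1 : (20160 : ℕ) = 2 ^ 6 * 315 := by norm_num
    rw [h1, Nat.factorization_mul (by norm_num) (by norm_num), Nat.factorization_pow]
    have h2 : (315 : ℕ).factorization 2 = 0 :=
      Nat.factorization_eq_zero_of_not_dvd (by norm_num)
    simp [h2, Nat.Prime.factorization_self Nat.prime_two]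
  refine ⟨Sylow.ofCard φ.range (by rw [hrange, hfac]; norm_num), ⟨?_⟩⟩
  exact MonoidHom.ofInjective hinj

end Cfsg.Agent.Helper18.S64
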