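import Cfsg.Prelude.Def_Involutions
import Cfsg.Agent.Helper2.Invol
import Mathlib.GroupTheory.Sylow
import Mathlib.GroupTheory.PGroup
import Mathlib.GroupTheory.Perm.Cycle.Type

/-!
# Groups in which centralizers of involutions are elementary abelian 2-groups
-/

namespace Cfsg.Agent.Helper18

open Subgroup
open Cfsg.Agent.Helper2

variable {G : Type*} [Group G]

/-- The hypothesis: the centralizer of every involution is an elementary abelian `2`-group. -/
def CITHyp (G : Type*) [Group G] : Prop :=
  ∀ t : G, orderOf t = 2 → IsMulCommutative (Subgroup.centralizer ({t} : Set G)) ∧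
    ∀ c ∈ Subgroup.centralizer ({t} : Set G), c ^ 2 = 1

/-- A finite subgroup of even order contains an involution. -/
theorem exists_invol_of_even_card [Finite G] (K : Subgroup G) (hK : Even (Nat.card K)) :
    ∃ s ∈ K, orderOf s = 2 := by
  have hp2 : Fact (Nat.Prime 2) := ⟨Nat.prime_two⟩
  obtain ⟨x, hx⟩ := exists_prime_orderOf_dvd_card' (G := K) 2 (even_iff_two_dvd.1 hK)
  exact ⟨x, x.2, by rw [← hx, Subgroup.orderOf_coe]⟩

/-- A finite subgroup without involutions has odd order. -/
theorem odd_card_of_no_invol [Finite G] (K : Subgroup G) (hK : ∀ s ∈ K, orderOf s ≠ 2) :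
    Odd (Nat.card K) := by
  rw [← Nat.not_even_iff_odd]
  intro h
  obtain ⟨s, hs, hs2⟩ := exists_invol_of_even_card K h
  exact hK s hs hs2

/-- A subgroup containing an involution has even order. -/
theorem even_card_of_invol_mem [Finite G] (K : Subgroup G) {s : G} (hs : s ∈ K)
    (hs2 : orderOf s = 2) : Even (Nat.card K) := by
  rw [even_iff_two_dvd, ← hs2, ← Subgroup.orderOf_mk s hs]
  exact orderOf_dvd_natCard _

/-- A nontrivial Sylow `2`-subgroup contains an involution. -/
theorem exists_invol_mem_sylow [Finite G] (T : Sylow 2 G) (hT : (T : Subgroup G) ≠ ⊥) :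
    ∃ s ∈ (T : Subgroup G), orderOf s = 2 := by
  have hp2 : Fact (Nat.Prime 2) := ⟨Nat.prime_two⟩
  apply exists_invol_of_even_card
  obtain ⟨k, hk⟩ := IsPGroup.iff_card.1 T.2
  have hk0 : k ≠ 0 := by
    intro h0
    rw [h0, pow_zero] at hk
    exact hT ((Subgroup.card_eq_one).1 hk)
  rw [hk]
  exact (Nat.even_pow' hk0).2 even_two

section CIT

variable [Finite G] (T : Sylow 2 G) (hC : CITHyp G)

include hC

omit [Finite G] in
/-- In a CIT-type group, the centralizer of an involution is a `2`-group. -/
theorem cit_isPGroup_centralizer {t : G} (ht : orderOf t = 2) :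
    IsPGroup 2 (Subgroup.centralizer ({t} : Set G)) := by
  intro c
  refine ⟨1, ?_⟩
  apply Subtype.ext
  rw [pow_one, Subgroup.coe_pow]
  exact (hC t ht).2 c c.2

/-- A nontrivial Sylow `2`-subgroup of a CIT-type group is the centralizer of each of its
involutions. -/
theorem cit_centralizer_eq (hT : (T : Subgroup G) ≠ ⊥) {s : G} (hs : s ∈ (T : Subgroup G))
    (hs2 : orderOf s = 2) : Subgroup.centralizer ({s} : Set G) = T := by
  have hp2 : Fact (Nat.Prime 2) := ⟨Nat.prime_two⟩
  -- a central involution of T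
  have hnt : Nontrivial (T : Subgroup G) := (Subgroup.nontrivial_iff_ne_bot _).2 hT
  have hcen : Nontrivial (Subgroup.center (T : Subgroup G)) := T.2.center_nontrivial
  have hcen2 : IsPGroup 2 (Subgroup.center (T : Subgroup G)) := T.2.to_subgroup _
  obtain ⟨k, hk⟩ := IsPGroup.iff_card.1 hcen2
  have hk0 : k ≠ 0 := by
    intro h0
    rw [h0, pow_zero] at hk
    have := Finite.one_lt_card (α := Subgroup.center (T : Subgroup G))
    omega
  obtain ⟨z, hz⟩ := exists_prime_orderOf_dvd_card' (G := Subgroup.center (T : Subgroup G)) 2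
    (by rw [hk]; exact dvd_pow_self 2 hk0)
  have hz2 : orderOf ((z : (T : Subgroup G)) : G) = 2 := by
    rw [Subgroup.orderOf_coe, Subgroup.orderOf_coe]; exact hz
  -- T ≤ C(z)
  have hTle : (T : Subgroup G) ≤ Subgroup.centralizer ({((z : (T : Subgroup G)) : G)} : Set G) := by
    intro x hx
    rw [Subgroup.mem_centralizer_singleton_iff]
    have := (Subgroup.mem_center_iff.1 z.2) ⟨x, hx⟩
    exact congrArg Subtype.val this
  have hCz := T.is_maximal' (cit_isPGroup_centralizer hC hz2) hTle
  -- T is commutative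
  have hcomm : ∀ x ∈ (T : Subgroup G), ∀ y ∈ (T : Subgroup G), x * y = y * x := by
    intro x hx y hy
    have hx' : x ∈ Subgroup.centralizer ({((z : (T : Subgroup G)) : G)} : Set G) := hTle hx
    have hy' : y ∈ Subgroup.centralizer ({((z : (T : Subgroup G)) : G)} : Set G) := hTle hy
    exact congrArg Subtype.val ((hC _ hz2).1.is_comm.comm ⟨x, hx'⟩ ⟨y, hy'⟩)
  have hTle' : (T : Subgroup G) ≤ Subgroup.centralizer ({s} : Set G) := by
    intro x hx
    rw [Subgroup.mem_centralizer_singleton_iff]
    exact hcomm x hx s hs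
  exact T.is_maximal' (cit_isPGroup_centralizer hC hs2) hTle'

/-- The Sylow `2`-subgroup of a CIT-type group is commutative. -/
theorem cit_comm {x y : G} (hx : x ∈ (T : Subgroup G)) (hy : y ∈ (T : Subgroup G)) :
    x * y = y * x := by
  have hp2 : Fact (Nat.Prime 2) := ⟨Nat.prime_two⟩
  by_cases hT : (T : Subgroup G) = ⊥
  · rw [hT, Subgroup.mem_bot] at hx
    rw [hx, one_mul, mul_one]
  · obtain ⟨s, hs, hs2⟩ : ∃ s ∈ (T : Subgroup G), orderOf s = 2 := by
      apply exists_invol_of_even_card
      obtain ⟨k, hk⟩ := IsPGroup.iff_card.1 T.2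
      have hk0 : k ≠ 0 := by
        intro h0
        rw [h0, pow_zero] at hk
        exact hT ((Subgroup.card_eq_one).1 hk)
      rw [hk]
      exact (Nat.even_pow' hk0).2 even_two
    have h := cit_centralizer_eq T hC hT hs hs2
    have hx' : x ∈ Subgroup.centralizer ({s} : Set G) := by rw [h]; exact hx
    have hy' : y ∈ Subgroup.centralizer ({s} : Set G) := by rw [h]; exact hy
    exact congrArg Subtype.val ((hC _ hs2).1.is_comm.comm ⟨x, hx'⟩ ⟨y, hy'⟩)

/-- Elements of the Sylow `2`-subgroup of a CIT-type group square to one. -/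
theorem cit_sq {x : G} (hx : x ∈ (T : Subgroup G)) : x ^ 2 = 1 := by
  by_cases hT : (T : Subgroup G) = ⊥
  · rw [hT, Subgroup.mem_bot] at hx
    rw [hx, one_pow]
  · obtain ⟨s, hs, hs2⟩ : ∃ s ∈ (T : Subgroup G), orderOf s = 2 := by
      apply exists_invol_of_even_card
      obtain ⟨k, hk⟩ := IsPGroup.iff_card.1 T.2
      have hk0 : k ≠ 0 := by
        intro h0
        rw [h0, pow_zero] at hk
        exact hT ((Subgroup.card_eq_one).1 hk)
      rw [hk]
      exact (Nat.even_pow' hk0).2 even_two
    have h := cit_centralizer_eq T hC hT hs hs2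
    have hx' : x ∈ Subgroup.centralizer ({s} : Set G) := by rw [h]; exact hx
    exact (hC _ hs2).2 x hx'

omit hC [Finite G] in
/-- An involution normalizing a Sylow `2`-subgroup lies in it. -/
theorem invol_mem_sylow_of_mem_normalizer {s : G} (hs2 : orderOf s = 2)
    (hs : s ∈ Subgroup.normalizer ((T : Subgroup G) : Set G)) : s ∈ (T : Subgroup G) := by
  have hp2 : Fact (Nat.Prime 2) := ⟨Nat.prime_two⟩
  have hZ : IsPGroup 2 (Subgroup.zpowers s) := by
    apply IsPGroup.of_card (n := 1)
    rw [Nat.card_zpowers, hs2, pow_one]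
  have hle : Subgroup.zpowers s ≤ Subgroup.normalizer ((T : Subgroup G) : Set G) := by
    rw [Subgroup.zpowers_le]; exact hs
  have hsup : IsPGroup 2 ((T : Subgroup G) ⊔ Subgroup.zpowers s : Subgroup G) :=
    T.2.to_sup_of_normal_left' hZ hle
  have := T.is_maximal' hsup le_sup_left
  have h2 : Subgroup.zpowers s ≤ (T : Subgroup G) := by
    rw [← this]; exact le_sup_right
  exact h2 (Subgroup.mem_zpowers s)

/-- The Sylow `2`-subgroups of a CIT-type group are T.I.: an element conjugating an involution of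
`T` into `T` normalizes `T`. -/
theorem cit_mem_normalizer_of_conj_mem (hT : (T : Subgroup G) ≠ ⊥) {s g : G}
    (hs : s ∈ (T : Subgroup G)) (hs2 : orderOf s = 2) (hg : g⁻¹ * s * g ∈ (T : Subgroup G)) :
    g ∈ Subgroup.normalizer ((T : Subgroup G) : Set G) := by
  have h1 := cit_centralizer_eq T hC hT hs hs2
  have hs2' : orderOf (g⁻¹ * s * g) = 2 := by
    have : g⁻¹ * s * g = MulAut.conj g⁻¹ s := by simp
    rw [this, MulEquiv.orderOf_eq, hs2]
  have h2 := cit_centralizer_eq T hC hT hg hs2'
  rw [Subgroup.mem_normalizer_iff]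
  intro x
  rw [← SetLike.mem_coe, ← SetLike.mem_coe] at *
  constructor
  · intro hx
    have hx' : x ∈ Subgroup.centralizer ({g⁻¹ * s * g} : Set G) := by rw [h2]; exact hx
    rw [Subgroup.mem_centralizer_singleton_iff] at hx'
    have : g * x * g⁻¹ ∈ Subgroup.centralizer ({s} : Set G) := by
      rw [Subgroup.mem_centralizer_singleton_iff]
      calc g * x * g⁻¹ * s = g * (x * (g⁻¹ * s * g)) * g⁻¹ := by group
        _ = g * ((g⁻¹ * s * g) * x) * g⁻¹ := by rw [hx']
        _ = s * (g * x * g⁻¹) := by group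
    rw [h1] at this
    exact this
  · intro hx
    have hx' : g * x * g⁻¹ ∈ Subgroup.centralizer ({s} : Set G) := by rw [h1]; exact hx
    rw [Subgroup.mem_centralizer_singleton_iff] at hx'
    have : x ∈ Subgroup.centralizer ({g⁻¹ * s * g} : Set G) := by
      rw [Subgroup.mem_centralizer_singleton_iff]
      calc x * (g⁻¹ * s * g) = g⁻¹ * ((g * x * g⁻¹) * s) * g := by group
        _ = g⁻¹ * (s * (g * x * g⁻¹)) * g := by rw [hx']
        _ = g⁻¹ * s * g * x := by group
    rw [h2] at this
    exact this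

end CIT

end Cfsg.Agent.Helper18
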