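import Mathlib.GroupTheory.Sylow
import Mathlib.Algebra.Group.End
import Mathlib.Tactic.Group

/-!
# T.I. elementary abelian 2-subgroups are weakly closed in centralizers of their involutions
-/

namespace Cfsg.Agent.Helper18

variable {G : Type*} [Group G]

theorem mem_map_conj_iff' (A : Subgroup G) (g y : G) :
    y ∈ A.map (MulAut.conj g).toMonoidHom ↔ g⁻¹ * y * g ∈ A := by
  constructor
  · rintro ⟨x, hx, rfl⟩
    have : g⁻¹ * ((MulAut.conj g).toMonoidHom x) * g = x := by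
      simp [MulAut.conj_apply, mul_assoc]
    rw [this]; exact hx
  · intro h
    refine ⟨g⁻¹ * y * g, h, ?_⟩
    simp [MulAut.conj_apply, mul_assoc]

/-- Core of the T.I. argument, in elementwise form. -/
theorem ti_weakly_closed_core (A : Subgroup G)
    (hcomm : ∀ x ∈ A, ∀ y ∈ A, x * y = y * x) (hexp : ∀ x ∈ A, x * x = 1)
    (hTI : ∀ h : G, (∃ x, x ≠ 1 ∧ x ∈ A ∧ h⁻¹ * x * h ∈ A) → ∀ y, (h⁻¹ * y * h ∈ A ↔ y ∈ A))
    (hB : ∀ h : G, (∀ a ∈ A, ∀ b, h⁻¹ * b * h ∈ A → a * b = b * a) →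
      ∀ y, (h⁻¹ * y * h ∈ A ↔ y ∈ A))
    (a : G) (ha : a ∈ A) (ha1 : a ≠ 1) (g : G) (hg : ∀ b, g⁻¹ * b * g ∈ A → b * a = a * b) :
    ∀ y, (g⁻¹ * y * g ∈ A ↔ y ∈ A) := by
  classical
  -- B as a subgroup
  obtain ⟨B, hBmem⟩ : ∃ B : Subgroup G, ∀ y, y ∈ B ↔ g⁻¹ * y * g ∈ A :=
    ⟨A.map (MulAut.conj g).toMonoidHom, mem_map_conj_iff' A g⟩
  have hBcomm : ∀ x ∈ B, ∀ y ∈ B, x * y = y * x := by
    intro x hx y hy
    have h1 := hcomm _ ((hBmem x).1 hx) _ ((hBmem y).1 hy)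
    have h2 : g⁻¹ * (x * y) * g = g⁻¹ * (y * x) * g := by
      calc g⁻¹ * (x * y) * g = (g⁻¹ * x * g) * (g⁻¹ * y * g) := by group
        _ = (g⁻¹ * y * g) * (g⁻¹ * x * g) := h1
        _ = g⁻¹ * (y * x) * g := by group
    exact mul_left_cancel (mul_right_cancel h2)
  have hBexp : ∀ x ∈ B, x * x = 1 := by
    intro x hx
    have h1 := hexp _ ((hBmem x).1 hx)
    have h2 : g⁻¹ * (x * x) * g = g⁻¹ * 1 * g := by
      calc g⁻¹ * (x * x) * g = (g⁻¹ * x * g) * (g⁻¹ * x * g) := by group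
        _ = 1 := h1
        _ = g⁻¹ * 1 * g := by group
    exact mul_left_cancel (mul_right_cancel h2)
  have hAinv : ∀ x ∈ A, x⁻¹ = x := fun x hx => inv_eq_of_mul_eq_one_right (hexp x hx)
  have hBinv : ∀ x ∈ B, x⁻¹ = x := fun x hx => inv_eq_of_mul_eq_one_right (hBexp x hx)
  -- Step 1: B normalizes A
  have step1 : ∀ b ∈ B, ∀ y, (b⁻¹ * y * b ∈ A ↔ y ∈ A) := by
    intro b hb
    apply hTI b
    refine ⟨a, ha1, ha, ?_⟩
    have h1 := hg b ((hBmem b).1 hb)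
    have : b⁻¹ * a * b = a := by
      calc b⁻¹ * a * b = b⁻¹ * (a * b) := by group
        _ = b⁻¹ * (b * a) := by rw [h1]
        _ = a := by group
    rw [this]; exact ha
  have step1' : ∀ b ∈ B, ∀ y ∈ A, b * y * b⁻¹ ∈ A := by
    intro b hb y hy
    have := (step1 b⁻¹ (B.inv_mem hb) y).2 hy
    rwa [inv_inv] at this
  -- it suffices to prove that A and B commute elementwise
  apply hB g
  by_cases hD : ∃ x, x ≠ 1 ∧ x ∈ A ∧ x ∈ B
  · -- A ∩ B ≠ 1: B = A by TI, and A is commutative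
    obtain ⟨x, hx1, hxA, hxB⟩ := hD
    have hBA := hTI g ⟨x, hx1, hxA, (hBmem x).1 hxB⟩
    intro a' ha' b hb
    exact hcomm a' ha' b ((hBA b).1 hb)
  · push Not at hD
    have hD' : ∀ x, x ∈ A → x ∈ B → x = 1 := by
      intro x hxA hxB
      by_contra hne
      exact hD x hne hxA hxB
    -- Step 3
    have step3 : ∀ b ∈ B, b ≠ 1 → ∀ a' ∈ A, a' * b = b * a' → ∀ b' ∈ B, a' * b' = b' * a' := by
      intro b hb hb1 a' ha' hab b' hb'
      -- a' normalizes B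
      have hnorm : ∀ y, ((g⁻¹ * a' * g)⁻¹ * y * (g⁻¹ * a' * g) ∈ A ↔ y ∈ A) := by
        apply hTI
        refine ⟨g⁻¹ * b * g, ?_, (hBmem b).1 hb, ?_⟩
        · intro h1
          apply hb1
          have : g⁻¹ * b * g = g⁻¹ * 1 * g := by rw [h1]; group
          exact mul_left_cancel (mul_right_cancel this)
        · have : (g⁻¹ * a' * g)⁻¹ * (g⁻¹ * b * g) * (g⁻¹ * a' * g) = g⁻¹ * (a'⁻¹ * (b * a')) * g := by
            group
          rw [this, ← hab]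
          have : g⁻¹ * (a'⁻¹ * (a' * b)) * g = g⁻¹ * b * g := by group
          rw [this]; exact (hBmem b).1 hb
      have hmemB : a'⁻¹ * b' * a' ∈ B := by
        rw [hBmem]
        have := (hnorm (g⁻¹ * b' * g)).2 ((hBmem b').1 hb')
        have e : (g⁻¹ * a' * g)⁻¹ * (g⁻¹ * b' * g) * (g⁻¹ * a' * g) = g⁻¹ * (a'⁻¹ * b' * a') * g := by
          group
        rwa [e] at this
      have hcB : a'⁻¹ * b' * a' * b'⁻¹ ∈ B := B.mul_mem hmemB (B.inv_mem hb')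
      have hcA : a'⁻¹ * b' * a' * b'⁻¹ ∈ A := by
        have h1 : b' * a' * b'⁻¹ ∈ A := step1' b' hb' a' ha'
        have : a'⁻¹ * b' * a' * b'⁻¹ = a'⁻¹ * (b' * a' * b'⁻¹) := by group
        rw [this]
        exact A.mul_mem (A.inv_mem ha') h1
      have hc1 := hD' _ hcA hcB
      symm
      calc b' * a' = a' * (a'⁻¹ * b' * a' * b'⁻¹) * b' := by group
        _ = a' * b' := by rw [hc1]; group
    -- Step 4: a1 b a1⁻¹ = w b with w ∈ A centralizing B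
    have step4 : ∀ a1 ∈ A, ∀ b ∈ B, ∃ w ∈ A, a1 * b * a1⁻¹ = w * b ∧ ∀ b' ∈ B, w * b' = b' * w := by
      intro a1 ha1' b hb
      by_cases hb1 : b = 1
      · refine ⟨1, A.one_mem, by rw [hb1]; group, fun b' _ => by rw [one_mul, mul_one]⟩
      · have hc : b * a1 * b⁻¹ ∈ A := step1' b hb a1 ha1'
        refine ⟨a1 * (b * a1 * b⁻¹), A.mul_mem ha1' hc, ?_, ?_⟩
        · rw [hAinv a1 ha1']
          group
        · apply step3 b hb hb1 _ (A.mul_mem ha1' hc)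
          -- w commutes with b
          have h1 : b * (b * a1 * b⁻¹) * b⁻¹ = a1 := by
            have hbb := hBexp b hb
            have hbi := hBinv b hb
            calc b * (b * a1 * b⁻¹) * b⁻¹ = (b * b) * a1 * (b⁻¹ * b⁻¹) := by group
              _ = a1 := by rw [hbi, hbb]; group
          have h2 : a1 * (b * a1 * b⁻¹) = (b * a1 * b⁻¹) * a1 := hcomm _ ha1' _ hc
          calc a1 * (b * a1 * b⁻¹) * b = (b * a1 * b⁻¹) * a1 * b := by rw [h2]
            _ = (b * a1 * b⁻¹) * (b * (b * a1 * b⁻¹) * b⁻¹) * b := by rw [h1]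
            _ = b * (a1 * (b * a1 * b⁻¹)) := by group
    -- Step 5: A normalizes B
    have step5 : ∀ a1 ∈ A, ∀ y, (a1⁻¹ * y * a1 ∈ B ↔ y ∈ B) := by
      intro a1 ha1' y
      have hn : ∀ y, ((g⁻¹ * a1 * g)⁻¹ * y * (g⁻¹ * a1 * g) ∈ A ↔ y ∈ A) := by
        apply hB
        intro a2 ha2 y2 hy2
        -- b1 = g a2 g⁻¹ ∈ B, y' = g y2 g⁻¹, b2 = a1⁻¹ y' a1 ∈ B
        have hb1 : g * a2 * g⁻¹ ∈ B := by
          rw [hBmem]
          have : g⁻¹ * (g * a2 * g⁻¹) * g = a2 := by group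
          rw [this]; exact ha2
        have hb2 : a1⁻¹ * (g * y2 * g⁻¹) * a1 ∈ B := by
          rw [hBmem]
          have : g⁻¹ * (a1⁻¹ * (g * y2 * g⁻¹) * a1) * g =
              (g⁻¹ * a1 * g)⁻¹ * y2 * (g⁻¹ * a1 * g) := by group
          rw [this]; exact hy2
        obtain ⟨w, hwA, hw, hwc⟩ := step4 a1 ha1' _ hb2
        have hy' : g * y2 * g⁻¹ = w * (a1⁻¹ * (g * y2 * g⁻¹) * a1) := by
          rw [← hw]; group
        -- y' commutes with b1
        have hcomm' : (g * a2 * g⁻¹) * (g * y2 * g⁻¹) = (g * y2 * g⁻¹) * (g * a2 * g⁻¹) := by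
          rw [hy']
          calc g * a2 * g⁻¹ * (w * (a1⁻¹ * (g * y2 * g⁻¹) * a1))
              = (g * a2 * g⁻¹ * w) * (a1⁻¹ * (g * y2 * g⁻¹) * a1) := by group
            _ = (w * (g * a2 * g⁻¹)) * (a1⁻¹ * (g * y2 * g⁻¹) * a1) := by rw [hwc _ hb1]
            _ = w * ((g * a2 * g⁻¹) * (a1⁻¹ * (g * y2 * g⁻¹) * a1)) := by group
            _ = w * ((a1⁻¹ * (g * y2 * g⁻¹) * a1) * (g * a2 * g⁻¹)) := by
                rw [hBcomm _ hb1 _ hb2]
            _ = w * (a1⁻¹ * (g * y2 * g⁻¹) * a1) * (g * a2 * g⁻¹) := by group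
        have : g * (a2 * y2) * g⁻¹ = g * (y2 * a2) * g⁻¹ := by
          calc g * (a2 * y2) * g⁻¹ = (g * a2 * g⁻¹) * (g * y2 * g⁻¹) := by group
            _ = (g * y2 * g⁻¹) * (g * a2 * g⁻¹) := hcomm'
            _ = g * (y2 * a2) * g⁻¹ := by group
        exact mul_left_cancel (mul_right_cancel this)
      rw [hBmem, hBmem]
      have e : g⁻¹ * (a1⁻¹ * y * a1) * g = (g⁻¹ * a1 * g)⁻¹ * (g⁻¹ * y * g) * (g⁻¹ * a1 * g) := by
        group
      rw [e]
      exact hn _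
    -- Step 6
    intro a1 ha1' b hb
    have hb' : b ∈ B := (hBmem b).2 hb
    have hcB : a1⁻¹ * b * a1 * b⁻¹ ∈ B := B.mul_mem ((step5 a1 ha1' b).2 hb') (B.inv_mem hb')
    have hcA : a1⁻¹ * b * a1 * b⁻¹ ∈ A := by
      have h1 : b * a1 * b⁻¹ ∈ A := step1' b hb' a1 ha1'
      have : a1⁻¹ * b * a1 * b⁻¹ = a1⁻¹ * (b * a1 * b⁻¹) := by group
      rw [this]
      exact A.mul_mem (A.inv_mem ha1') h1
    have hc1 := hD' _ hcA hcB
    symm
    calc b * a1 = a1 * (a1⁻¹ * b * a1 * b⁻¹) * b := by group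
      _ = a1 * b := by rw [hc1]; group

end Cfsg.Agent.Helper18
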