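import Cfsg.Prelude.Def_Involutions
import Cfsg.Agent.Helper2.Invol
import Cfsg.Agent.Helper18.Isolated
import Cfsg.Agent.Helper18.CIT
import Cfsg.Agent.Helper18.TIWeaklyClosed

/-!
# Strongly embedded subgroups: basic facts
-/

namespace Cfsg.Agent.Helper18

open Subgroup
open Cfsg.Agent.Helper2

variable {G : Type*} [Group G]

theorem orderOf_conj_eq' (g x : G) : orderOf (g * x * g⁻¹) = orderOf x := by
  rw [← MulAut.conj_apply, MulEquiv.orderOf_eq]

theorem orderOf_conj_eq'' (g x : G) : orderOf (g⁻¹ * x * g) = orderOf x := by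
  have := orderOf_conj_eq' g⁻¹ x
  rwa [inv_inv] at this

/-- A finite type is the disjoint union of the fibres of a map. -/
theorem card_eq_sum_card_fiber {α β : Type*} [Finite α] [Fintype β] (f : α → β) :
    Nat.card α = ∑ y : β, Nat.card {a : α // f a = y} := by
  rw [← Nat.card_sigma]
  exact Nat.card_congr (Equiv.sigmaFiberEquiv f).symm

/-- If a family of numbers, each at least `m`, sums to `card * m`, they are all equal to `m`. -/
theorem eq_of_sum_eq_card_mul {β : Type*} [Fintype β] (a : β → ℕ) (m : ℕ)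
    (hle : ∀ y, m ≤ a y) (hsum : ∑ y : β, a y = Fintype.card β * m) : ∀ y, a y = m := by
  have h1 : ∑ _y : β, m = ∑ y : β, a y := by
    rw [hsum, Finset.sum_const, Finset.card_univ, smul_eq_mul]
  have := (Finset.sum_eq_sum_iff_of_le (s := Finset.univ) (f := fun _ => m) (g := a)
    (fun y _ => hle y)).1 h1
  intro y
  exact (this y (Finset.mem_univ y)).symm

section SE

variable [Finite G] {H : Subgroup G} (hH : Cfsg.IsStronglyEmbedded H)

include hH

/-- A strongly embedded subgroup controls fusion of its involutions. -/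
theorem se_mem_of_conj {t g : G} (ht : t ∈ H) (ht2 : orderOf t = 2) (hg : g⁻¹ * t * g ∈ H) :
    g ∈ H := by
  by_contra hgH
  have hodd := hH.2.2 g hgH
  have hmem : t ∈ H ⊓ H.map (MulAut.conj g).toMonoidHom :=
    Subgroup.mem_inf.2 ⟨ht, (mem_map_conj_iff' H g t).2 hg⟩
  have heven := even_card_of_invol_mem _ hmem ht2
  exact (Nat.not_even_iff_odd.2 hodd) heven

theorem se_mem_of_conj' {t g : G} (ht : t ∈ H) (ht2 : orderOf t = 2) (hg : g * t * g⁻¹ ∈ H) :
    g ∈ H := by
  have : g⁻¹ ∈ H := se_mem_of_conj hH ht ht2 (by rwa [inv_inv])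
  simpa using H.inv_mem this

/-- A strongly embedded subgroup contains the centralizers of its involutions. -/
theorem se_centralizer_le {t : G} (ht : t ∈ H) (ht2 : orderOf t = 2) :
    Subgroup.centralizer ({t} : Set G) ≤ H := by
  intro g hg
  rw [Subgroup.mem_centralizer_singleton_iff] at hg
  apply se_mem_of_conj hH ht ht2
  have : g⁻¹ * t * g = t := by
    calc g⁻¹ * t * g = g⁻¹ * (t * g) := by group
      _ = g⁻¹ * (g * t) := by rw [hg]
      _ = t := by group
  rw [this]; exact ht

/-- A strongly embedded subgroup contains an involution. -/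
theorem se_exists_invol_mem : ∃ t ∈ H, orderOf t = 2 :=
  exists_invol_of_even_card H hH.2.1

/-- There is an involution outside a strongly embedded subgroup. -/
theorem se_exists_invol_not_mem : ∃ u : G, orderOf u = 2 ∧ u ∉ H := by
  by_contra hcon
  push Not at hcon
  obtain ⟨t, ht, ht2⟩ := se_exists_invol_mem hH
  have : H = ⊤ := by
    rw [eq_top_iff]
    intro g _
    apply se_mem_of_conj hH ht ht2
    apply hcon
    rw [orderOf_conj_eq'', ht2]
  exact hH.1 this

/-- The product of an involution of `H` and an involution outside `H` has odd order. -/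
theorem se_odd_orderOf_mul {t u : G} (ht : t ∈ H) (ht2 : orderOf t = 2) (hu2 : orderOf u = 2)
    (hu : u ∉ H) : Odd (orderOf (t * u)) := by
  by_contra hodd
  rw [Nat.not_odd_iff_even] at hodd
  have htt := mul_self_of_orderOf_two ht2
  have huu := mul_self_of_orderOf_two hu2
  obtain ⟨hz2, hzt, hzu⟩ := invol_half_pow htt huu (orderOf_pos _) hodd
  set z := (t * u) ^ (orderOf (t * u) / 2) with hz
  have hzH : z ∈ H := by
    apply se_centralizer_le hH ht ht2
    rw [Subgroup.mem_centralizer_singleton_iff]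
    exact hzt.eq
  have huH : u ∈ H := by
    apply se_centralizer_le hH hzH hz2
    rw [Subgroup.mem_centralizer_singleton_iff]
    exact hzu.eq.symm
  exact hu huH

/-- An involution of `H` and an involution outside `H` are conjugate. -/
theorem se_conj_of_mem_of_not_mem {t u : G} (ht : t ∈ H) (ht2 : orderOf t = 2)
    (hu2 : orderOf u = 2) (hu : u ∉ H) : ∃ w : G, w * t * w⁻¹ = u := by
  have hodd := se_odd_orderOf_mul hH ht ht2 hu2 hu
  rw [orderOf_mul_comm'] at hodd
  obtain ⟨r, hr⟩ := hodd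
  have htt := mul_self_of_orderOf_two ht2
  have huu := mul_self_of_orderOf_two hu2
  exact ⟨_, (odd_dihedral_conj htt huu hr).1⟩

/-- All involutions of a group with a strongly embedded subgroup are conjugate. -/
theorem se_isConj {a b : G} (ha : orderOf a = 2) (hb : orderOf b = 2) : IsConj a b := by
  obtain ⟨t, ht, ht2⟩ := se_exists_invol_mem hH
  obtain ⟨u, hu2, hu⟩ := se_exists_invol_not_mem hH
  have key : ∀ c : G, orderOf c = 2 → IsConj t c := by
    intro c hc
    by_cases hcH : c ∈ H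
    · obtain ⟨w1, hw1⟩ := se_conj_of_mem_of_not_mem hH ht ht2 hu2 hu
      obtain ⟨w2, hw2⟩ := se_conj_of_mem_of_not_mem hH hcH hc hu2 hu
      exact (isConj_iff.2 ⟨w1, hw1⟩).trans (isConj_iff.2 ⟨w2, hw2⟩).symm
    · obtain ⟨w, hw⟩ := se_conj_of_mem_of_not_mem hH ht ht2 hc hcH
      exact isConj_iff.2 ⟨w, hw⟩
  exact (key a ha).symm.trans (key b hb)

/-- Involutions of `H` are conjugate in `H`. -/
theorem se_conj_in {s t : G} (hs : s ∈ H) (hs2 : orderOf s = 2) (ht : t ∈ H)
    (ht2 : orderOf t = 2) : ∃ h ∈ H, h * s * h⁻¹ = t := by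
  obtain ⟨c, hc⟩ := isConj_iff.1 (se_isConj hH hs2 ht2)
  exact ⟨c, se_mem_of_conj' hH hs hs2 (by rw [hc]; exact ht), hc⟩

omit hH [Finite G] in
theorem smul_mk_eq_iff (i g : G) :
    i • (QuotientGroup.mk g : G ⧸ H) = QuotientGroup.mk g ↔ g⁻¹ * i * g ∈ H := by
  rw [MulAction.Quotient.smul_mk, QuotientGroup.eq, smul_eq_mul]
  have : (i * g)⁻¹ * g = (g⁻¹ * i * g)⁻¹ := by group
  rw [this, Subgroup.inv_mem_iff]

omit hH [Finite G] in
theorem smul_mk_eq_mk_iff (i g k : G) :
    i • (QuotientGroup.mk g : G ⧸ H) = QuotientGroup.mk k ↔ k⁻¹ * i * g ∈ H := by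
  rw [MulAction.Quotient.smul_mk, QuotientGroup.eq, smul_eq_mul]
  have : (i * g)⁻¹ * k = (k⁻¹ * i * g)⁻¹ := by group
  rw [this, Subgroup.inv_mem_iff]

/-- An involution fixes at most one coset of a strongly embedded subgroup. -/
theorem se_fixed_unique {i : G} (hi : orderOf i = 2) {x y : G ⧸ H} (hx : i • x = x)
    (hy : i • y = y) : x = y := by
  obtain ⟨g, rfl⟩ := QuotientGroup.mk_surjective x
  obtain ⟨k, rfl⟩ := QuotientGroup.mk_surjective y
  rw [smul_mk_eq_iff] at hx hy
  rw [QuotientGroup.eq]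
  apply se_mem_of_conj hH hx (by rw [orderOf_conj_eq'', hi])
  have : (g⁻¹ * k)⁻¹ * (g⁻¹ * i * g) * (g⁻¹ * k) = k⁻¹ * i * k := by group
  rw [this]; exact hy

/-- An involution fixes some coset of a strongly embedded subgroup. -/
theorem se_exists_fixed {i : G} (hi : orderOf i = 2) : ∃ x : G ⧸ H, i • x = x := by
  obtain ⟨t, ht, ht2⟩ := se_exists_invol_mem hH
  obtain ⟨c, hc⟩ := isConj_iff.1 (se_isConj hH ht2 hi)
  refine ⟨QuotientGroup.mk c, ?_⟩
  rw [smul_mk_eq_iff, ← hc]
  have : c⁻¹ * (c * t * c⁻¹) * c = t := by group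
  rw [this]; exact ht

/-- Involutions with distinct fixed cosets have a product of odd order. -/
theorem se_odd_orderOf_mul_of_fixed {s v : G} (hs : orderOf s = 2) (hv : orderOf v = 2)
    {x y : G ⧸ H} (hx : s • x = x) (hy : v • y = y) (hxy : x ≠ y) : Odd (orderOf (v * s)) := by
  obtain ⟨g, rfl⟩ := QuotientGroup.mk_surjective x
  have h1 : g⁻¹ * s * g ∈ H := (smul_mk_eq_iff s g).1 hx
  have h2 : g⁻¹ * v * g ∉ H := by
    intro h
    have := (smul_mk_eq_iff v g).2 h
    exact hxy (se_fixed_unique hH hv this hy)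
  have := se_odd_orderOf_mul hH h1 (by rw [orderOf_conj_eq'', hs]) (by rw [orderOf_conj_eq'', hv]) h2
  have e : g⁻¹ * s * g * (g⁻¹ * v * g) = g⁻¹ * (s * v) * g := by group
  rw [e, orderOf_conj_eq'', orderOf_mul_comm'] at this
  exact this

omit hH [Finite G] in
/-- The number of involutions fixing a given coset equals the number of involutions of `H`. -/
theorem se_card_fixing (x : G ⧸ H) :
    Nat.card {i : G // orderOf i = 2 ∧ i • x = x} = Nat.card {t : G // orderOf t = 2 ∧ t ∈ H} := by
  obtain ⟨g, rfl⟩ := QuotientGroup.mk_surjective x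
  apply Nat.card_congr
  refine ⟨fun i => ⟨g⁻¹ * i.1 * g, by rw [orderOf_conj_eq'']; exact i.2.1,
      (smul_mk_eq_iff i.1 g).1 i.2.2⟩,
    fun t => ⟨g * t.1 * g⁻¹, by rw [orderOf_conj_eq']; exact t.2.1, ?_⟩, ?_, ?_⟩
  · rw [smul_mk_eq_iff]
    have : g⁻¹ * (g * t.1 * g⁻¹) * g = t.1 := by group
    rw [this]; exact t.2.2
  · intro i
    apply Subtype.ext
    show g * (g⁻¹ * i.1 * g) * g⁻¹ = i.1
    group
  · intro t
    apply Subtype.ext
    show g⁻¹ * (g * t.1 * g⁻¹) * g = t.1
    group

/-- The number of involutions of `G` is `|G : H|` times the number of involutions of `H`. -/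
theorem se_card_invol [Fintype (G ⧸ H)] :
    Nat.card {i : G // orderOf i = 2} =
      Fintype.card (G ⧸ H) * Nat.card {t : G // orderOf t = 2 ∧ t ∈ H} := by
  classical
  have hfp : ∀ i : {i : G // orderOf i = 2}, ∃ x : G ⧸ H, i.1 • x = x :=
    fun i => se_exists_fixed hH i.2
  choose fp hfp' using hfp
  rw [card_eq_sum_card_fiber fp]
  have : ∀ x : G ⧸ H, Nat.card {i : {i : G // orderOf i = 2} // fp i = x} =
      Nat.card {t : G // orderOf t = 2 ∧ t ∈ H} := by
    intro x
    rw [← se_card_fixing x]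
    apply Nat.card_congr
    refine ⟨fun i => ⟨i.1.1, i.1.2, by have := hfp' i.1; rw [i.2] at this; exact this⟩,
      fun i => ⟨⟨i.1, i.2.1⟩, se_fixed_unique hH i.2.1 (hfp' ⟨i.1, i.2.1⟩) i.2.2⟩, ?_, ?_⟩
    · intro i; rfl
    · intro i; rfl
  simp_rw [this]
  rw [Finset.sum_const, Finset.card_univ, smul_eq_mul]

/-- For `x ≠ y`, at least as many involutions map `x` to `y` as there are involutions in `H`. -/
theorem se_le_card_mapping {x y : G ⧸ H} (hxy : x ≠ y) :
    Nat.card {t : G // orderOf t = 2 ∧ t ∈ H} ≤ Nat.card {i : G // orderOf i = 2 ∧ i • x = y} := by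
  classical
  rw [← se_card_fixing y]
  -- fix an involution s fixing x
  obtain ⟨s, hs2, hsx⟩ : ∃ s : G, orderOf s = 2 ∧ s • x = x := by
    obtain ⟨t, ht, ht2⟩ := se_exists_invol_mem hH
    obtain ⟨g, rfl⟩ := QuotientGroup.mk_surjective x
    refine ⟨g * t * g⁻¹, by rw [orderOf_conj_eq', ht2], ?_⟩
    rw [smul_mk_eq_iff]
    have : g⁻¹ * (g * t * g⁻¹) * g = t := by group
    rw [this]; exact ht
  have hss := mul_self_of_orderOf_two hs2
  -- for each involution v fixing y, the element w with w s w⁻¹ = v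
  have key : ∀ v : {i : G // orderOf i = 2 ∧ i • y = y}, ∃ w : G,
      w * s * w⁻¹ = v.1 ∧ s * w * s⁻¹ = w⁻¹ := by
    intro v
    have hodd := se_odd_orderOf_mul_of_fixed hH hs2 v.2.1 hsx v.2.2 hxy
    obtain ⟨r, hr⟩ := hodd
    have hvv := mul_self_of_orderOf_two v.2.1
    obtain ⟨h1, h2, -⟩ := odd_dihedral_conj hss hvv hr
    exact ⟨_, h1, h2⟩
  choose w hw1 hw2 using key
  have hinv : ∀ v, (w v * s) * (w v * s) = 1 := by
    intro v
    have hsinv : s⁻¹ = s := inv_eq_of_mul_eq_one_right hss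
    calc w v * s * (w v * s) = w v * (s * w v * s⁻¹) * (s * s) := by group
      _ = 1 := by rw [hw2, hss]; group
  have hconj : ∀ v, (w v * s) * s * (w v * s)⁻¹ = v.1 := by
    intro v
    have : (w v * s) * s * (w v * s)⁻¹ = w v * s * (w v)⁻¹ := by group
    rw [this, hw1]
  have hne : ∀ v, w v * s ≠ 1 := by
    intro v h1
    have h2 := hconj v
    rw [h1] at h2
    have h3 : s = v.1 := by simpa using h2
    have h4 : s • y = y := by rw [h3]; exact v.2.2
    exact hxy (se_fixed_unique hH hs2 hsx h4)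
  apply Nat.card_le_card_of_injective
    (fun v : {i : G // orderOf i = 2 ∧ i • y = y} =>
      (⟨w v * s, orderOf_two_iff.2 ⟨hinv v, hne v⟩, by
        -- v fixes (w v * s) • x
        have hfix : v.1 • ((w v * s) • x) = (w v * s) • x := by
          rw [← hconj v, smul_smul]
          have : (w v * s) * s * (w v * s)⁻¹ * (w v * s) = (w v * s) * s := by group
          rw [this, mul_smul (w v * s) s, hsx]
        exact se_fixed_unique hH v.2.1 hfix v.2.2⟩ :
        {i : G // orderOf i = 2 ∧ i • x = y}))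
  intro v v' hvv'
  have h1 : w v * s = w v' * s := congrArg Subtype.val hvv'
  apply Subtype.ext
  rw [← hconj v, ← hconj v', h1]

/-- **Involutions interchanging two cosets**: for cosets `x, y` of a strongly embedded
subgroup `H`, the number of involutions mapping `x` to `y` is the number of involutions of `H`. -/
theorem se_card_mapping (x y : G ⧸ H) :
    Nat.card {i : G // orderOf i = 2 ∧ i • x = y} = Nat.card {t : G // orderOf t = 2 ∧ t ∈ H} := by
  classical
  have : Fintype (G ⧸ H) := Fintype.ofFinite _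
  have hsum : ∑ z : G ⧸ H, Nat.card {i : G // orderOf i = 2 ∧ i • x = z} =
      Fintype.card (G ⧸ H) * Nat.card {t : G // orderOf t = 2 ∧ t ∈ H} := by
    rw [← se_card_invol hH, card_eq_sum_card_fiber (fun i : {i : G // orderOf i = 2} => i.1 • x)]
    apply Finset.sum_congr rfl
    intro z _
    apply Nat.card_congr
    exact ⟨fun i => ⟨⟨i.1, i.2.1⟩, i.2.2⟩, fun i => ⟨i.1.1, i.1.2, i.2⟩, fun _ => rfl, fun _ => rfl⟩
  have hle : ∀ z : G ⧸ H, Nat.card {t : G // orderOf t = 2 ∧ t ∈ H} ≤
      Nat.card {i : G // orderOf i = 2 ∧ i • x = z} := by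
    intro z
    by_cases hz : x = z
    · subst hz
      rw [se_card_fixing x]
    · exact se_le_card_mapping hH hz
  exact eq_of_sum_eq_card_mul _ _ hle hsum y

end SE

end Cfsg.Agent.Helper18
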