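import Mathlib
import Cfsg.Prelude.Def_JComponents
import Cfsg.Prelude.Def_Involutions
import Cfsg.Agent.Helper5.S2951Defs
import Cfsg.Agent.Helper18.StronglyEmbedded

/-!
# S2951 board, piece XSE (blueprint §8 (X1)): a 2-local containing a Sylow 2-subgroup `S` and a
`J(S)`-component is not strongly embedded.
-/

set_option autoImplicit false

universe u

namespace Cfsg.Agent.S2951P

open Cfsg Subgroup Cfsg.Agent.Helper15.JComp Cfsg.Agent.S2951P

variable {G : Type u} [Group G] [Finite G] {M T K K' L L' : Subgroup G}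

omit [Finite G] in
/-- an element of a 2-group of odd order is trivial -/
theorem XSE_aux_odd {Q : Subgroup G} (hQ : IsPGroup 2 Q) {x : G} (hx : x ∈ Q) (hodd : Odd (orderOf x)) :
    x = 1 := by
  obtain ⟨k, hk⟩ := hQ ⟨x, hx⟩
  have h1 : x ^ 2 ^ k = 1 := by
    have := congrArg Subtype.val hk
    simpa using this
  have h2 : orderOf x ∣ 2 ^ k := orderOf_dvd_of_pow_eq_one h1
  obtain ⟨j, -, hj⟩ := (Nat.dvd_prime_pow Nat.prime_two).1 h2
  rcases Nat.eq_zero_or_pos j with rfl | hjpos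
  · rw [pow_zero] at hj
    exact orderOf_eq_one_iff.1 hj
  · exfalso
    rw [hj] at hodd
    exact (Nat.not_even_iff_odd.2 hodd) (Nat.even_pow.2 ⟨even_two, hjpos.ne'⟩)

/-- XSE (M) = (X1). -/
theorem XSE (g : Glob G) {L : Subgroup G} (hL2 : IsTwoLocal L) (S : Sylow 2 G)
    (hSL : (S : Subgroup G) ≤ L) {K : Subgroup G} (hK : IsJComponent (S : Subgroup G) K) (hKL : K ≤ L) :
    ¬ IsStronglyEmbedded L := by
  intro hse
  obtain ⟨Q, hQ2, hQ1, rfl⟩ := hL2
  have hQL : Q ≤ normalizer (Q : Set G) := le_normalizer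
  -- an involution in `Q`
  have hQfin : Finite Q := inferInstance
  have h2 : 2 ∣ Nat.card Q := by
    obtain ⟨n, hn⟩ := (IsPGroup.iff_card (p := 2) (G := Q)).1 hQ2
    rcases Nat.eq_zero_or_pos n with rfl | hnpos
    · exfalso
      apply hQ1
      rw [pow_zero] at hn
      exact (Subgroup.card_eq_one).1 hn
    · rw [hn]
      exact dvd_pow_self 2 hnpos.ne'
  haveI : Fact (Nat.Prime 2) := ⟨Nat.prime_two⟩
  obtain ⟨z, hz⟩ := exists_prime_orderOf_dvd_card' (G := Q) 2 h2
  have hz2 : orderOf (z : G) = 2 := by rw [Subgroup.orderOf_coe]; exact hz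
  -- every involution of `L` lies in `Q`
  have hinv : ∀ t ∈ normalizer (Q : Set G), orderOf t = 2 → t ∈ Q := by
    intro t ht ht2
    obtain ⟨h, hh, hconj⟩ :=
      Cfsg.Agent.Helper18.se_conj_in hse (hQL z.2) hz2 ht ht2
    rw [← hconj]
    exact conj_mem_of_mem_normalizer hh z.2
  -- `J(S) ≤ Q`
  have hJQ : thompsonSubgroupOf 2 (S : Subgroup G) ≤ Q := by
    rw [thompsonSubgroupOf_eq_sSup_maxEA]
    apply sSup_le
    intro E hE x hx
    have hx2 : x ^ 2 = 1 := hE.2.1.2 x hx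
    by_cases hx1 : x = 1
    · rw [hx1]; exact one_mem _
    · apply hinv x (hSL (hE.1 hx))
      exact orderOf_eq_prime hx2 hx1
  -- `K = [K, J(S)] ≤ Q`
  have hKQ : K ≤ Q := by
    rw [← hK.2.1]
    rw [commutator_le]
    intro k hk j hj
    have hkN : k ∈ normalizer (Q : Set G) := hKL hk
    have hjQ : j ∈ Q := hJQ hj
    rw [commutatorElement_def]
    have h1 : k * j * k⁻¹ ∈ Q := conj_mem_of_mem_normalizer hkN hjQ
    exact Q.mul_mem h1 (Q.inv_mem hjQ)
  -- `K` is generated by its elements of odd order, which are trivial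
  have hKbot : K = ⊥ := by
    rw [← hK.1, eq_bot_iff]
    apply (closure_le _).2
    rintro x ⟨hxK, hodd⟩
    rw [SetLike.mem_coe, mem_bot]
    exact XSE_aux_odd hQ2 (hKQ hxK) hodd
  have h3 := hK.2.2.1
  rw [hKbot] at h3
  simp at h3

end Cfsg.Agent.S2951P
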