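import Mathlib
import Cfsg.Prelude.Def_BaumannBlocks

/-! S3001, case (c), the core `CSPLIT`: an `𝔽₂E`-module `Ut` (`E ≅ S_m`, `m ≥ 5`) such that `Ut / U₀` is the even-weight permutation
module and the elements of order `3` of `E` centralise `U₀` satisfies `[Ut, E'] ∩ U₀ = 1` (i.e. `H¹(A_m, N_m) = 0`, by hand, with `3`-cycles
only: for the `3`-cycle `x = (a b c)` the four-group `[Ut, x]` maps isomorphically onto `⟨e_a+e_b, e_b+e_c⟩`, the lift `w_{ab}` of `e_a + e_b`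
in it does not depend on `c`, and `w_{ab} w_{bc} = w_{ca}`). -/

set_option autoImplicit false

namespace Cfsg.Agent.S3001P

open Equiv Equiv.Perm
open scoped commutatorElement

variable {G : Type*} [Group G] {m : ℕ} {E Ut U₀ : Subgroup G}

/-- the data of `CSPLIT` -/
structure CSD (m : ℕ) (E Ut U₀ : Subgroup G) where
  ρ : ↥E →* Equiv.Perm (Fin m)
  ψ : ↥Ut →* Multiplicative (Fin m → ZMod 2)
  hab : ∀ u ∈ Ut, ∀ v ∈ Ut, u * v = v * u
  hexp : ∀ u ∈ Ut, u * u = 1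
  hEN : E ≤ Subgroup.normalizer (Ut : Set G)
  hρ : Function.Bijective ρ
  heven : ∀ u : ↥Ut, ∑ i, Multiplicative.toAdd (ψ u) i = 0
  hsurj : ∀ v : Fin m → ZMod 2, ∑ i, v i = 0 → ∃ u : ↥Ut, Multiplicative.toAdd (ψ u) = v
  hker : ∀ u : ↥Ut, ψ u = 1 ↔ (u : G) ∈ U₀
  heq : ∀ (e : ↥E) (u : ↥Ut), ∃ w : ↥Ut, (w : G) = (e : G) * (u : G) * (e : G)⁻¹ ∧
    ∀ i : Fin m, Multiplicative.toAdd (ψ w) i = Multiplicative.toAdd (ψ u) ((ρ e)⁻¹ i)
  hcen : ∀ x ∈ E, orderOf x = 3 → ∀ u ∈ U₀, x * u = u * x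

namespace CSD


/-- the coordinates of `u ∈ Ut` -/
def φ (S : CSD m E Ut U₀) (u : ↥Ut) : Fin m → ZMod 2 := Multiplicative.toAdd (S.ψ u)

theorem φ_mul (S : CSD m E Ut U₀) (u v : ↥Ut) : S.φ (u * v) = S.φ u + S.φ v := by
  unfold φ; rw [map_mul]; rfl

theorem φ_one (S : CSD m E Ut U₀) : S.φ 1 = 0 := by
  unfold φ; rw [map_one]; rfl

theorem φ_eq_zero_iff (S : CSD m E Ut U₀) (u : ↥Ut) : S.φ u = 0 ↔ (u : G) ∈ U₀ := by
  rw [← S.hker]
  unfold φ
  constructor
  · intro h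
    exact Multiplicative.toAdd.injective h
  · intro h
    rw [h]; rfl

theorem comm (S : CSD m E Ut U₀) (u v : ↥Ut) : u * v = v * u := Subtype.ext (S.hab u u.2 v v.2)

theorem mul_self (S : CSD m E Ut U₀) (u : ↥Ut) : u * u = 1 := Subtype.ext (S.hexp u u.2)

theorem inv_eq (S : CSD m E Ut U₀) (u : ↥Ut) : u⁻¹ = u := inv_eq_of_mul_eq_one_left (S.mul_self u)

/-- the conjugation action of `E` on `Ut` -/
def cj (S : CSD m E Ut U₀) (x : ↥E) (u : ↥Ut) : ↥Ut :=
  ⟨(x : G) * (u : G) * (x : G)⁻¹, (Subgroup.mem_normalizer_iff.mp (S.hEN x.2) u).mp u.2⟩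

@[simp] theorem coe_cj (S : CSD m E Ut U₀) (x : ↥E) (u : ↥Ut) : ((S.cj x u : ↥Ut) : G) = (x : G) * (u : G) * (x : G)⁻¹ := rfl

theorem φ_cj (S : CSD m E Ut U₀) (x : ↥E) (u : ↥Ut) (i : Fin m) : S.φ (S.cj x u) i = S.φ u ((S.ρ x)⁻¹ i) := by
  obtain ⟨w, hw, h⟩ := S.heq x u
  have : w = S.cj x u := Subtype.ext hw
  rw [← this]
  exact h i

theorem cj_mul (S : CSD m E Ut U₀) (x y : ↥E) (u : ↥Ut) : S.cj (x * y) u = S.cj x (S.cj y u) := by
  apply Subtype.ext
  simp only [coe_cj, Subgroup.coe_mul]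
  group

theorem cj_one (S : CSD m E Ut U₀) (u : ↥Ut) : S.cj 1 u = u := by
  apply Subtype.ext
  simp

theorem cj_mul_right (S : CSD m E Ut U₀) (x : ↥E) (u v : ↥Ut) : S.cj x (u * v) = S.cj x u * S.cj x v := by
  apply Subtype.ext
  simp only [coe_cj, Subgroup.coe_mul]
  group

theorem cj_one_right (S : CSD m E Ut U₀) (x : ↥E) : S.cj x 1 = 1 := by
  apply Subtype.ext
  simp

/-- `θ x u = [x, u]` -/
def θ (S : CSD m E Ut U₀) (x : ↥E) (u : ↥Ut) : ↥Ut := S.cj x u * u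

theorem θ_mul (S : CSD m E Ut U₀) (x : ↥E) (u v : ↥Ut) : S.θ x (u * v) = S.θ x u * S.θ x v := by
  unfold θ
  rw [cj_mul_right]
  calc S.cj x u * S.cj x v * (u * v) = S.cj x u * (S.cj x v * u) * v := by group
    _ = S.cj x u * (u * S.cj x v) * v := by rw [S.comm (S.cj x v) u]
    _ = _ := by group

theorem θ_one_right (S : CSD m E Ut U₀) (x : ↥E) : S.θ x 1 = 1 := by
  unfold θ; rw [cj_one_right, one_mul]

theorem φ_θ (S : CSD m E Ut U₀) (x : ↥E) (u : ↥Ut) (i : Fin m) : S.φ (S.θ x u) i = S.φ u ((S.ρ x)⁻¹ i) + S.φ u i := by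
  unfold θ
  rw [φ_mul, Pi.add_apply, φ_cj]

theorem θ_cj (S : CSD m E Ut U₀) (y x : ↥E) (u : ↥Ut) : S.cj y (S.θ x u) = S.θ (y * x * y⁻¹) (S.cj y u) := by
  unfold θ
  rw [cj_mul_right, ← cj_mul, ← cj_mul]
  congr 2
  group

theorem θ_mul_left (S : CSD m E Ut U₀) (x y : ↥E) (u : ↥Ut) : S.θ (x * y) u = S.cj x (S.θ y u) * S.θ x u := by
  unfold θ
  rw [cj_mul_right, cj_mul]
  calc S.cj x (S.cj y u) * u = S.cj x (S.cj y u) * (S.cj x u * S.cj x u) * u := by
        rw [S.mul_self, mul_one]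
    _ = _ := by group

theorem θ_inv_left (S : CSD m E Ut U₀) (x : ↥E) (u : ↥Ut) : S.θ x⁻¹ u = S.θ x (S.cj x⁻¹ u) := by
  unfold θ
  rw [← cj_mul, mul_inv_cancel, cj_one, S.comm]

theorem cj_eq (S : CSD m E Ut U₀) (x : ↥E) (u : ↥Ut) : S.cj x u = S.θ x u * u := by
  unfold θ
  rw [mul_assoc, S.mul_self, mul_one]

/-- an element of order dividing `3` has no fixed points on `[Ut, x]` -/
theorem θ_fix (S : CSD m E Ut U₀) {x : ↥E} (hx : x * x * x = 1) {u : ↥Ut} (h : S.cj x (S.θ x u) = S.θ x u) : S.θ x u = 1 := by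
  unfold θ at h ⊢
  rw [cj_mul_right, ← cj_mul] at h
  -- `cj (x*x) u * cj x u = cj x u * u`
  have h1 : S.cj (x * x) u = u := by
    have := congrArg (fun z => z * S.cj x u) h
    beta_reduce at this
    rw [mul_assoc, S.mul_self, mul_one] at this
    rw [this]
    calc S.cj x u * u * S.cj x u = u * (S.cj x u * S.cj x u) := by
          rw [S.comm (S.cj x u) u]; group
      _ = u := by rw [S.mul_self, mul_one]
  have h2 : S.cj x u = u := by
    calc S.cj x u = S.cj x (S.cj (x * x) u) := by rw [h1]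
      _ = S.cj (x * (x * x)) u := by rw [← cj_mul]
      _ = u := by rw [← mul_assoc, hx, cj_one]
  rw [h2, S.mul_self]

theorem θ_ker (S : CSD m E Ut U₀) {x : ↥E} (hx : orderOf (x : G) = 3) {u : ↥Ut} (h : S.φ (S.θ x u) = 0) : S.θ x u = 1 := by
  have hx3 : x * x * x = 1 := by
    apply Subtype.ext
    have := pow_orderOf_eq_one (x : G)
    rw [hx] at this
    simp only [Subgroup.coe_mul, Subgroup.coe_one]
    rw [← this, pow_succ, pow_two]
  apply S.θ_fix hx3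
  apply Subtype.ext
  have hU := (S.φ_eq_zero_iff _).mp h
  have := S.hcen (x : G) x.2 hx _ hU
  rw [coe_cj, this]; group

theorem θ_inj (S : CSD m E Ut U₀) {x : ↥E} (hx : orderOf (x : G) = 3) {u v : ↥Ut} (h : S.φ (S.θ x u) = S.φ (S.θ x v)) :
    S.θ x u = S.θ x v := by
  have h1 : S.θ x (u * v) = 1 := by
    apply S.θ_ker hx
    rw [θ_mul, φ_mul, h]
    ext i
    simp only [Pi.add_apply, Pi.zero_apply]
    exact CharTwo.add_self_eq_zero _
  rw [θ_mul] at h1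
  calc S.θ x u = S.θ x u * (S.θ x v * S.θ x v) := by rw [S.mul_self, mul_one]
    _ = (S.θ x u * S.θ x v) * S.θ x v := by group
    _ = S.θ x v := by rw [h1, one_mul]

end CSD

/-! ### `3`-cycles -/

namespace CSD

section cyc

variable {m : ℕ}

/-- the `3`-cycle `a ↦ b ↦ c ↦ a` -/
def cyc (a b c : Fin m) : Perm (Fin m) := swap a b * swap b c

theorem cyc_apply_a {a b c : Fin m} (hab : a ≠ b) (hac : a ≠ c) : cyc a b c a = b := by
  unfold cyc
  rw [Perm.mul_apply, swap_apply_of_ne_of_ne hab hac, swap_apply_left]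

theorem cyc_apply_b {a b c : Fin m} (hac : a ≠ c) (hbc : b ≠ c) : cyc a b c b = c := by
  unfold cyc
  rw [Perm.mul_apply, swap_apply_left, swap_apply_of_ne_of_ne hac.symm hbc.symm]

theorem cyc_apply_c {a b c : Fin m} : cyc a b c c = a := by
  unfold cyc
  rw [Perm.mul_apply, swap_apply_right, swap_apply_right]

theorem cyc_apply_of_ne {a b c x : Fin m} (hxa : x ≠ a) (hxb : x ≠ b) (hxc : x ≠ c) : cyc a b c x = x := by
  unfold cyc
  rw [Perm.mul_apply, swap_apply_of_ne_of_ne hxb hxc, swap_apply_of_ne_of_ne hxa hxb]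

theorem cyc_isThreeCycle {a b c : Fin m} (hab : a ≠ b) (hac : a ≠ c) (hbc : b ≠ c) : IsThreeCycle (cyc a b c) := by
  unfold cyc
  rw [swap_comm a b]
  exact isThreeCycle_swap_mul_swap_same hab.symm hbc hac

theorem cyc_rot {a b c : Fin m} (hab : a ≠ b) (hac : a ≠ c) (hbc : b ≠ c) : cyc b c a = cyc a b c := by
  ext x
  by_cases hxa : x = a
  · subst hxa
    rw [cyc_apply_c, cyc_apply_a hab hac]
  by_cases hxb : x = b
  · subst hxb
    rw [cyc_apply_a hbc hab.symm, cyc_apply_b hac hbc]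
  by_cases hxc : x = c
  · subst hxc
    rw [cyc_apply_b hab.symm hac.symm, cyc_apply_c]
  rw [cyc_apply_of_ne hxb hxc hxa, cyc_apply_of_ne hxa hxb hxc]

theorem cyc_inv {a b c : Fin m} (hab : a ≠ b) (hac : a ≠ c) (hbc : b ≠ c) : cyc b a c = (cyc a b c)⁻¹ := by
  rw [eq_inv_iff_mul_eq_one]
  ext x
  rw [Perm.mul_apply, Perm.one_apply]
  by_cases hxa : x = a
  · subst hxa
    rw [cyc_apply_a hab hac, cyc_apply_a hab.symm hbc]
  by_cases hxb : x = b
  · subst hxb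
    rw [cyc_apply_b hac hbc, cyc_apply_c]
  by_cases hxc : x = c
  · subst hxc
    rw [cyc_apply_c, cyc_apply_b hbc hac]
  rw [cyc_apply_of_ne hxa hxb hxc, cyc_apply_of_ne hxb hxa hxc]

theorem cyc_conj (τ : Perm (Fin m)) (a b c : Fin m) : τ * cyc a b c * τ⁻¹ = cyc (τ a) (τ b) (τ c) := by
  unfold cyc
  rw [swap_apply_apply, swap_apply_apply]
  group

/-- every `3`-cycle is a `cyc a b c` -/
theorem exists_cyc {g : Perm (Fin m)} (hg : IsThreeCycle g) :
    ∃ a b c : Fin m, a ≠ b ∧ a ≠ c ∧ b ≠ c ∧ g = cyc a b c := by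
  have hne : g.support.Nonempty := by
    rw [← Finset.card_pos, hg.card_support]; norm_num
  obtain ⟨a, ha⟩ := hne
  have h1 := hg.eq_swap_mul_swap_iff_mem_support.mpr ha
  have h2 := hg.nodup_iff_mem_support.mpr ha
  simp only [List.nodup_cons, List.mem_cons, not_or, List.not_mem_nil,
    not_false_eq_true, List.nodup_nil, and_true] at h2
  exact ⟨a, g a, g (g a), h2.1.1, h2.1.2, h2.2, h1⟩

/-- the vector `e_b + e_c` -/
def pr (b c : Fin m) : Fin m → ZMod 2 := Pi.single b 1 + Pi.single c 1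

theorem sum_pr (b c : Fin m) : ∑ i, pr b c i = 0 := by
  unfold pr
  simp only [Pi.add_apply]
  rw [Finset.sum_add_distrib, Finset.sum_pi_single', Finset.sum_pi_single']
  simp only [Finset.mem_univ, if_true]
  exact CharTwo.add_self_eq_zero _

theorem pr_comm (b c : Fin m) : pr b c = pr c b := by unfold pr; rw [add_comm]

theorem pr_perm (σ : Perm (Fin m)) (b c i : Fin m) : pr b c (σ⁻¹ i) = pr (σ b) (σ c) i := by
  unfold pr
  simp only [Pi.add_apply, Pi.single_apply, Perm.inv_eq_iff_eq]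

theorem pr_add_pr (a b c : Fin m) : pr a b + pr b c = pr c a := by
  unfold pr
  ext i
  simp only [Pi.add_apply]
  have := CharTwo.add_self_eq_zero ((Pi.single b (1 : ZMod 2) : Fin m → ZMod 2) i)
  linear_combination this

theorem pr_add_self (a b : Fin m) : pr a b + pr a b = 0 := by
  ext i
  exact CharTwo.add_self_eq_zero (pr a b i)

end cyc

end CSD

namespace CSD

variable {G : Type*} [Group G] {m : ℕ} {E Ut U₀ : Subgroup G}

/-- the element of `E` mapping to the `3`-cycle `cyc a b c` -/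
noncomputable def X (S : CSD m E Ut U₀) (a b c : Fin m) : ↥E := (Equiv.ofBijective S.ρ S.hρ).symm (cyc a b c)

theorem ρ_X (S : CSD m E Ut U₀) (a b c : Fin m) : S.ρ (S.X a b c) = cyc a b c :=
  (Equiv.ofBijective S.ρ S.hρ).apply_symm_apply _

theorem orderOf_X (S : CSD m E Ut U₀) {a b c : Fin m} (hab : a ≠ b) (hac : a ≠ c) (hbc : b ≠ c) :
    orderOf ((S.X a b c : ↥E) : G) = 3 := by
  rw [Subgroup.orderOf_coe, ← orderOf_injective S.ρ S.hρ.1, ρ_X]
  exact (cyc_isThreeCycle hab hac hbc).orderOf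

theorem X_rot (S : CSD m E Ut U₀) {a b c : Fin m} (hab : a ≠ b) (hac : a ≠ c) (hbc : b ≠ c) :
    S.X b c a = S.X a b c := by
  apply S.hρ.1
  rw [ρ_X, ρ_X, cyc_rot hab hac hbc]

theorem X_inv (S : CSD m E Ut U₀) {a b c : Fin m} (hab : a ≠ b) (hac : a ≠ c) (hbc : b ≠ c) :
    S.X b a c = (S.X a b c)⁻¹ := by
  apply S.hρ.1
  rw [map_inv, ρ_X, ρ_X, cyc_inv hab hac hbc]

theorem X_conj (S : CSD m E Ut U₀) (y : ↥E) (a b c : Fin m) :
    y * S.X a b c * y⁻¹ = S.X (S.ρ y a) (S.ρ y b) (S.ρ y c) := by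
  apply S.hρ.1
  rw [map_mul, map_mul, map_inv, ρ_X, ρ_X, cyc_conj]

/-- a lift of an even-weight vector -/
noncomputable def lift (S : CSD m E Ut U₀) (v : Fin m → ZMod 2) : ↥Ut :=
  if h : ∑ i, v i = 0 then Classical.choose (S.hsurj v h) else 1

theorem φ_lift (S : CSD m E Ut U₀) {v : Fin m → ZMod 2} (h : ∑ i, v i = 0) : S.φ (S.lift v) = v := by
  unfold lift φ
  rw [dif_pos h]
  exact Classical.choose_spec (S.hsurj v h)

/-- the lift `w_{ab}` of `e_a + e_b` inside `[Ut, (a b c)]` -/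
noncomputable def W (S : CSD m E Ut U₀) (a b c : Fin m) : ↥Ut := S.θ (S.X a b c) (S.lift (pr b c))

theorem φ_θ_X (S : CSD m E Ut U₀) (a b c : Fin m) (u : ↥Ut) (i : Fin m) :
    S.φ (S.θ (S.X a b c) u) i = S.φ u ((cyc a b c)⁻¹ i) + S.φ u i := by
  rw [φ_θ, ρ_X]

theorem φ_W (S : CSD m E Ut U₀) {a b c : Fin m} (_hab : a ≠ b) (hac : a ≠ c) (hbc : b ≠ c) :
    S.φ (S.W a b c) = pr a b := by
  ext i
  unfold W
  rw [φ_θ_X, φ_lift S (sum_pr b c), pr_perm, cyc_apply_b hac hbc, cyc_apply_c]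
  unfold pr
  simp only [Pi.add_apply]
  have := CharTwo.add_self_eq_zero ((Pi.single c (1 : ZMod 2) : Fin m → ZMod 2) i)
  linear_combination this

theorem φ_cj_pr (S : CSD m E Ut U₀) (y : ↥E) {u : ↥Ut} {a b : Fin m} (h : S.φ u = pr a b) :
    S.φ (S.cj y u) = pr (S.ρ y a) (S.ρ y b) := by
  ext i
  rw [φ_cj, h, pr_perm]

/-- `w_{ab}` does not depend on the third point -/
theorem W_indep (S : CSD m E Ut U₀) {a b c d n : Fin m} (hab : a ≠ b) (hac : a ≠ c) (hbc : b ≠ c)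
    (had : a ≠ d) (hbd : b ≠ d) (hcd : c ≠ d) (han : a ≠ n) (hbn : b ≠ n) (hcn : c ≠ n) (hdn : d ≠ n) :
    S.W a b c = S.W a b d := by
  set y := S.X c d n with hy
  have hya : S.ρ y a = a := by rw [hy, ρ_X]; exact cyc_apply_of_ne hac had han
  have hyb : S.ρ y b = b := by rw [hy, ρ_X]; exact cyc_apply_of_ne hbc hbd hbn
  have hyc : S.ρ y c = d := by rw [hy, ρ_X]; exact cyc_apply_a hcd hcn
  have hoy : orderOf ((y : ↥E) : G) = 3 := S.orderOf_X hcd hcn hdn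
  -- `cj y (W a b c) = W a b d`
  have h1 : S.cj y (S.W a b c) = S.W a b d := by
    unfold W
    rw [θ_cj, X_conj, hya, hyb, hyc]
    apply S.θ_inj (S.orderOf_X hab had hbd)
    have e1 : S.θ (S.X a b d) (S.cj y (S.lift (pr b c))) = S.cj y (S.W a b c) := by
      unfold W
      rw [θ_cj, X_conj, hya, hyb, hyc]
    rw [e1, S.φ_cj_pr y (S.φ_W hab hac hbc), hya, hyb]
    exact (S.φ_W hab had hbd).symm
  -- `W a b c * W a b d = θ y (W a b c)` has coordinates `0`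
  have h2 : S.θ y (S.W a b c) = 1 := by
    apply S.θ_ker hoy
    unfold θ
    rw [h1, φ_mul, S.φ_W hab had hbd, S.φ_W hab hac hbc, pr_add_self]
  unfold θ at h2
  rw [h1] at h2
  calc S.W a b c = (S.W a b d * S.W a b d) * S.W a b c := by rw [S.mul_self, one_mul]
    _ = S.W a b d * (S.W a b d * S.W a b c) := by rw [mul_assoc]
    _ = S.W a b d := by rw [h2, mul_one]

end CSD

namespace CSD

variable {G : Type*} [Group G] {m : ℕ} {E Ut U₀ : Subgroup G}

/-- `w_{ba} = w_{ab}` -/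
theorem W_symm (S : CSD m E Ut U₀) {a b c : Fin m} (hab : a ≠ b) (hac : a ≠ c) (hbc : b ≠ c) :
    S.W b a c = S.W a b c := by
  have e1 : S.W b a c = S.θ (S.X a b c) (S.cj (S.X a b c)⁻¹ (S.lift (pr a c))) := by
    unfold W
    rw [S.X_inv hab hac hbc, θ_inv_left]
  have e2 := S.φ_W hab.symm hbc hac
  rw [e1] at e2 ⊢
  unfold W
  apply S.θ_inj (S.orderOf_X hab hac hbc)
  rw [e2, pr_comm]
  exact (S.φ_W hab hac hbc).symm

/-- `w_{ab} w_{bc} = w_{ca}` -/
theorem W_rel (S : CSD m E Ut U₀) {a b c : Fin m} (hab : a ≠ b) (hac : a ≠ c) (hbc : b ≠ c) :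
    S.W a b c * S.W b c a = S.W c a b := by
  have e1 := S.φ_W hab hac hbc
  have e2 := S.φ_W hbc hab.symm hac.symm
  have e3 := S.φ_W hac.symm hbc.symm hab
  unfold W at e1 e2 e3 ⊢
  rw [S.X_rot hab hac hbc] at e2 ⊢
  rw [S.X_rot hbc hab.symm hac.symm, S.X_rot hab hac hbc] at e3 ⊢
  rw [← θ_mul]
  apply S.θ_inj (S.orderOf_X hab hac hbc)
  rw [θ_mul, φ_mul, e1, e2, e3, pr_add_pr]

/-- the subgroup generated by the `w_{oa}` -/
def W0 (S : CSD m E Ut U₀) (o : Fin m) : Subgroup ↥Ut :=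
  Subgroup.closure {w | ∃ a c : Fin m, o ≠ a ∧ o ≠ c ∧ a ≠ c ∧ w = S.W o a c}

theorem W_mem_W0_aux (S : CSD m E Ut U₀) (o : Fin m) {a b : Fin m} (hoa : o ≠ a) (hob : o ≠ b) (hab : a ≠ b) :
    S.W a b o ∈ S.W0 o := by
  -- `W o a b * W a b o = W b o a`
  have h1 := S.W_rel hoa hob hab
  have h2 : S.W o a b ∈ S.W0 o := Subgroup.subset_closure ⟨a, b, hoa, hob, hab, rfl⟩
  have h3 : S.W b o a ∈ S.W0 o := by
    rw [S.W_symm hob hoa hab.symm]
    exact Subgroup.subset_closure ⟨b, a, hob, hoa, hab.symm, rfl⟩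
  have h4 : S.W a b o = S.W o a b * S.W b o a := by
    rw [← h1, ← mul_assoc, S.mul_self, one_mul]
  rw [h4]
  exact Subgroup.mul_mem _ h2 h3

theorem exists_fifth (hm : 5 ≤ m) (a b c d : Fin m) : ∃ n : Fin m, a ≠ n ∧ b ≠ n ∧ c ≠ n ∧ d ≠ n := by
  classical
  by_contra hcon
  push Not at hcon
  have hsub : (Finset.univ : Finset (Fin m)) ⊆ {a, b, c, d} := by
    intro n _
    simp only [Finset.mem_insert, Finset.mem_singleton]
    by_cases h1 : a = n
    · exact Or.inl h1.symm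
    by_cases h2 : b = n
    · exact Or.inr (Or.inl h2.symm)
    by_cases h3 : c = n
    · exact Or.inr (Or.inr (Or.inl h3.symm))
    exact Or.inr (Or.inr (Or.inr (hcon n h1 h2 h3).symm))
  have h1 := Finset.card_le_card hsub
  rw [Finset.card_univ, Fintype.card_fin] at h1
  have h2 : ({a, b, c, d} : Finset (Fin m)).card ≤ 4 := Finset.card_le_four
  omega

theorem W_mem_W0 (S : CSD m E Ut U₀) (hm : 5 ≤ m) (o : Fin m) {a b c : Fin m} (hab : a ≠ b) (hac : a ≠ c)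
    (hbc : b ≠ c) : S.W a b c ∈ S.W0 o := by
  by_cases hoa : o = a
  · subst hoa
    exact Subgroup.subset_closure ⟨b, c, hab, hac, hbc, rfl⟩
  by_cases hob : o = b
  · subst hob
    rw [S.W_symm hab.symm hbc hac]
    exact Subgroup.subset_closure ⟨a, c, hab.symm, hbc, hac, rfl⟩
  by_cases hoc : o = c
  · subst hoc
    exact S.W_mem_W0_aux o hoa hob hab
  obtain ⟨n, han, hbn, hcn, hon⟩ := exists_fifth hm a b c o
  rw [S.W_indep hab hac hbc (Ne.symm hoa) (Ne.symm hob) (Ne.symm hoc) han hbn hcn hon]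
  exact S.W_mem_W0_aux o hoa hob hab

theorem zmod2_cases (t : ZMod 2) : t = 0 ∨ t = 1 := by
  revert t; decide

/-- `[Ut, x] ≤ W₀` for the `3`-cycle elements -/
theorem θ_X_mem (S : CSD m E Ut U₀) (hm : 5 ≤ m) (o : Fin m) {a b c : Fin m} (hab : a ≠ b) (hac : a ≠ c)
    (hbc : b ≠ c) (u : ↥Ut) : S.θ (S.X a b c) u ∈ S.W0 o := by
  have hord := S.orderOf_X hab hac hbc
  -- the coordinates of `θ x u`
  have hφ : S.φ (S.θ (S.X a b c) u) = (S.φ u a + S.φ u c) • pr a b + (S.φ u b + S.φ u c) • pr b c := by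
    ext i
    rw [φ_θ_X]
    have hia : (cyc a b c)⁻¹ a = c := by rw [Perm.inv_eq_iff_eq, cyc_apply_c]
    have hib : (cyc a b c)⁻¹ b = a := by rw [Perm.inv_eq_iff_eq, cyc_apply_a hab hac]
    have hic : (cyc a b c)⁻¹ c = b := by rw [Perm.inv_eq_iff_eq, cyc_apply_b hac hbc]
    simp only [Pi.add_apply, Pi.smul_apply, smul_eq_mul, pr, Pi.single_apply]
    by_cases h1 : i = a
    · subst h1
      rw [hia]
      simp only [if_true, if_neg hab, if_neg hac]
      ring_nf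
    by_cases h2 : i = b
    · subst h2
      rw [hib]
      simp only [if_true, if_neg hab.symm, if_neg hbc]
      have := CharTwo.add_self_eq_zero (S.φ u c)
      linear_combination (-1 : ZMod 2) * this
    by_cases h3 : i = c
    · subst h3
      rw [hic]
      simp only [if_true, if_neg hac.symm, if_neg hbc.symm]
      ring_nf
    have hi : (cyc a b c)⁻¹ i = i := by
      rw [Perm.inv_eq_iff_eq, cyc_apply_of_ne h1 h2 h3]
    rw [hi]
    simp only [if_neg h1, if_neg h2, if_neg h3]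
    have := CharTwo.add_self_eq_zero (S.φ u i)
    linear_combination this
  have e1 := S.φ_W hab hac hbc
  have e2 := S.φ_W hbc hab.symm hac.symm
  have e3 := S.φ_W hac.symm hbc.symm hab
  have m1 := S.W_mem_W0 hm o hab hac hbc
  have m2 := S.W_mem_W0 hm o hbc hab.symm hac.symm
  have m3 := S.W_mem_W0 hm o hac.symm hbc.symm hab
  unfold W at e1 e2 e3 m1 m2 m3
  rw [S.X_rot hab hac hbc] at e2 m2
  rw [S.X_rot hbc hab.symm hac.symm, S.X_rot hab hac hbc] at e3 m3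
  rcases zmod2_cases (S.φ u a + S.φ u c) with hα | hα <;> rcases zmod2_cases (S.φ u b + S.φ u c) with hβ | hβ
  · rw [hα, hβ, zero_smul, zero_smul, add_zero] at hφ
    rw [S.θ_ker hord hφ]
    exact Subgroup.one_mem _
  · rw [hα, hβ, zero_smul, one_smul, zero_add] at hφ
    rw [S.θ_inj hord (hφ.trans e2.symm)]
    exact m2
  · rw [hα, hβ, zero_smul, one_smul, add_zero] at hφ
    rw [S.θ_inj hord (hφ.trans e1.symm)]
    exact m1
  · rw [hα, hβ, one_smul, one_smul, pr_add_pr] at hφ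
    rw [S.θ_inj hord (hφ.trans e3.symm)]
    exact m3

/-- the elements `x` of `E` with `[Ut, x] ≤ W₀` -/
def S0 (S : CSD m E Ut U₀) (o : Fin m) : Subgroup ↥E where
  carrier := {x | ∀ u, S.θ x u ∈ S.W0 o}
  one_mem' := by
    intro u
    have : S.θ 1 u = 1 := by
      unfold θ; rw [cj_one, S.mul_self]
    rw [this]; exact Subgroup.one_mem _
  mul_mem' := by
    intro x y hx hy u
    rw [θ_mul_left, cj_eq]
    exact Subgroup.mul_mem _ (Subgroup.mul_mem _ (hx _) (hy u)) (hx u)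
  inv_mem' := by
    intro x hx u
    rw [θ_inv_left]
    exact hx _

theorem mem_S0 (S : CSD m E Ut U₀) (o : Fin m) (x : ↥E) : x ∈ S.S0 o ↔ ∀ u, S.θ x u ∈ S.W0 o := Iff.rfl

theorem threeCycle_mem_S0 (S : CSD m E Ut U₀) (hm : 5 ≤ m) (o : Fin m) {x : ↥E} (hx : IsThreeCycle (S.ρ x)) :
    x ∈ S.S0 o := by
  obtain ⟨a, b, c, hab, hac, hbc, h⟩ := exists_cyc hx
  have : x = S.X a b c := by
    apply S.hρ.1
    rw [h, ρ_X]
  rw [this]
  intro u
  exact S.θ_X_mem hm o hab hac hbc u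

theorem alt_le_S0 (S : CSD m E Ut U₀) (hm : 5 ≤ m) (o : Fin m) :
    (alternatingGroup (Fin m)).comap S.ρ ≤ S.S0 o := by
  have h1 : Subgroup.closure {σ : Perm (Fin m) | IsThreeCycle σ} ≤ (S.S0 o).map S.ρ := by
    rw [Subgroup.closure_le]
    intro σ hσ
    obtain ⟨x, rfl⟩ := S.hρ.2 σ
    exact ⟨x, S.threeCycle_mem_S0 hm o hσ, rfl⟩
  rw [Equiv.Perm.closure_three_cycles_eq_alternating] at h1
  intro x hx
  obtain ⟨y, hy, hyx⟩ := h1 hx
  rw [← S.hρ.1 hyx]
  exact hy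

/-- the derived subgroup of `E` maps into the alternating group -/
theorem commutator_le_alt (S : CSD m E Ut U₀) :
    ⁅E, E⁆ ≤ ((alternatingGroup (Fin m)).comap S.ρ).map E.subtype := by
  rw [Subgroup.commutator_le]
  intro g₁ h₁ g₂ h₂
  refine ⟨⁅(⟨g₁, h₁⟩ : ↥E), (⟨g₂, h₂⟩ : ↥E)⁆, ?_, rfl⟩
  rw [SetLike.mem_coe, Subgroup.mem_comap, Equiv.Perm.mem_alternatingGroup, map_commutatorElement, map_commutatorElement]
  exact commutatorElement_eq_one_iff_commute.mpr (Commute.all _ _)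

/-- `[Ut, E'] ≤ W₀` -/
theorem commutator_le_W0 (S : CSD m E Ut U₀) (hm : 5 ≤ m) (o : Fin m) :
    ⁅Ut, ⁅E, E⁆⁆ ≤ (S.W0 o).map Ut.subtype := by
  rw [Subgroup.commutator_le]
  intro u hu k hk
  obtain ⟨x, hx, rfl⟩ := S.commutator_le_alt hk
  have hx0 := S.alt_le_S0 hm o hx
  refine ⟨S.θ x ⟨u, hu⟩, hx0 _, ?_⟩
  -- `θ x u = x u x⁻¹ u = u x u⁻¹ x⁻¹`
  have hinv : u⁻¹ = u := inv_eq_of_mul_eq_one_left (S.hexp u hu)
  have hc := congrArg Subtype.val (S.comm (S.cj x ⟨u, hu⟩) ⟨u, hu⟩)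
  simp only [Subgroup.coe_mul, coe_cj] at hc
  unfold θ
  simp only [Subgroup.coe_mul, coe_cj, Subgroup.coe_subtype, commutatorElement_def]
  rw [hc, hinv]
  group

/-- a point different from `o` and `a` -/
noncomputable def third (hm : 5 ≤ m) (o a : Fin m) : Fin m := Classical.choose (exists_fifth hm o a o a)

theorem third_ne_o (hm : 5 ≤ m) (o a : Fin m) : o ≠ third hm o a := (Classical.choose_spec (exists_fifth hm o a o a)).1

theorem third_ne_a (hm : 5 ≤ m) (o a : Fin m) : a ≠ third hm o a := (Classical.choose_spec (exists_fifth hm o a o a)).2.1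

/-- the generator `w_{oa}` (and `1` for `a = o`) -/
noncomputable def gen (S : CSD m E Ut U₀) (hm : 5 ≤ m) (o a : Fin m) : ↥Ut :=
  if a = o then 1 else S.W o a (third hm o a)

theorem gen_eq (S : CSD m E Ut U₀) (hm : 5 ≤ m) {o a c : Fin m} (hoa : o ≠ a) (hoc : o ≠ c) (hac : a ≠ c) :
    S.gen hm o a = S.W o a c := by
  unfold gen
  rw [if_neg hoa.symm]
  by_cases h : third hm o a = c
  · rw [h]
  obtain ⟨n, h1, h2, h3, h4⟩ := exists_fifth hm o a (third hm o a) c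
  exact S.W_indep hoa (third_ne_o hm o a) (third_ne_a hm o a) hoc hac h h1 h2 h3 h4

/-- the commutative group structure of `Ut` -/
@[reducible] def commGroup (S : CSD m E Ut U₀) : CommGroup ↥Ut :=
  { (inferInstance : Group ↥Ut) with mul_comm := S.comm }

theorem pow_val_add (S : CSD m E Ut U₀) (g : ↥Ut) (s t : ZMod 2) :
    g ^ (s + t).val = g ^ s.val * g ^ t.val := by
  have h2 : g ^ 2 = 1 := by rw [pow_two, S.mul_self]
  rw [← pow_add, ZMod.val_add, pow_eq_pow_mod _ h2, Nat.mod_mod, ← pow_eq_pow_mod _ h2]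

/-- the section `v ↦ ∏ w_{oa}^{v a}` -/
noncomputable def sec (S : CSD m E Ut U₀) (hm : 5 ≤ m) (o : Fin m) (v : Fin m → ZMod 2) : ↥Ut :=
  letI := S.commGroup
  ∏ a, S.gen hm o a ^ (v a).val

theorem sec_add (S : CSD m E Ut U₀) (hm : 5 ≤ m) (o : Fin m) (v v' : Fin m → ZMod 2) :
    S.sec hm o (v + v') = S.sec hm o v * S.sec hm o v' := by
  let _ := S.commGroup
  unfold sec
  rw [← Finset.prod_mul_distrib]
  apply Finset.prod_congr rfl
  intro a _
  rw [Pi.add_apply]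
  exact S.pow_val_add _ _ _

theorem sec_zero (S : CSD m E Ut U₀) (hm : 5 ≤ m) (o : Fin m) : S.sec hm o 0 = 1 := by
  let _ := S.commGroup
  unfold sec
  apply Finset.prod_eq_one
  intro a _
  rw [Pi.zero_apply, ZMod.val_zero, pow_zero]

theorem sec_pr (S : CSD m E Ut U₀) (hm : 5 ≤ m) {o a c : Fin m} (hoa : o ≠ a) (hoc : o ≠ c) (hac : a ≠ c) :
    S.sec hm o (pr o a) = S.W o a c := by
  let _ := S.commGroup
  unfold sec
  rw [Finset.prod_eq_single a]
  · have : pr o a a = 1 := by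
      unfold pr
      simp only [Pi.add_apply, Pi.single_apply, if_neg hoa.symm, if_true, zero_add]
    rw [this, ZMod.val_one, pow_one, S.gen_eq hm hoa hoc hac]
  · intro b _ hba
    by_cases hbo : b = o
    · unfold gen
      rw [if_pos hbo, one_pow]
    · have : pr o a b = 0 := by
        unfold pr
        simp only [Pi.add_apply, Pi.single_apply, if_neg hbo, if_neg hba, zero_add]
      rw [this, ZMod.val_zero, pow_zero]
  · intro h
    exact absurd (Finset.mem_univ a) h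

/-- every element of `W₀` is the value of the section at its coordinates -/
theorem eq_sec_of_mem_W0 (S : CSD m E Ut U₀) (hm : 5 ≤ m) (o : Fin m) {w : ↥Ut} (hw : w ∈ S.W0 o) :
    w = S.sec hm o (S.φ w) := by
  unfold W0 at hw
  induction hw using Subgroup.closure_induction with
  | mem w hw =>
    obtain ⟨a, c, hoa, hoc, hac, rfl⟩ := hw
    rw [S.φ_W hoa hoc hac, S.sec_pr hm hoa hoc hac]
  | one => rw [S.φ_one, S.sec_zero]
  | mul x y _ _ hx hy => rw [S.φ_mul, S.sec_add, ← hx, ← hy]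
  | inv x _ hx => rw [S.inv_eq]; exact hx

theorem W0_inf_ker (S : CSD m E Ut U₀) (hm : 5 ≤ m) (o : Fin m) {w : ↥Ut} (hw : w ∈ S.W0 o) (h0 : S.φ w = 0) :
    w = 1 := by
  rw [S.eq_sec_of_mem_W0 hm o hw, h0, S.sec_zero]

/-- the conclusion of `CSPLIT` from the data -/
theorem split (S : CSD m E Ut U₀) (hm : 5 ≤ m) : ⁅Ut, ⁅E, E⁆⁆ ⊓ U₀ = ⊥ := by
  rw [eq_bot_iff]
  intro g hg
  have o : Fin m := ⟨0, by omega⟩
  obtain ⟨w, hw, rfl⟩ := S.commutator_le_W0 hm o hg.1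
  have h0 : S.φ w = 0 := (S.φ_eq_zero_iff w).mpr hg.2
  rw [S.W0_inf_ker hm o hw h0]
  exact Subgroup.one_mem _

end CSD

/-- **CSPLIT**, without finiteness of the ambient group -/
theorem CSPLIT_core {G : Type*} [Group G] {m : ℕ} (hm : 5 ≤ m) {E Ut U₀ : Subgroup G}
    (hab : ∀ u ∈ Ut, ∀ v ∈ Ut, u * v = v * u) (hexp : ∀ u ∈ Ut, u * u = 1)
    (hiso : Nonempty (↥E ≃* Equiv.Perm (Fin m)))
    (hact : Cfsg.ActsAsOddPermModuleOnSection m ⊤ E Ut U₀)
    (hcen : ∀ x ∈ E, orderOf x = 3 → ∀ u ∈ U₀, x * u = u * x) :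
    ⁅Ut, ⁅E, E⁆⁆ ⊓ U₀ = ⊥ := by
  obtain ⟨hEN, -, ρ, ψ, hρ, heven, hsurj, hker, heq⟩ := hact
  obtain ⟨e⟩ := hiso
  have hfin : Finite ↥E := Finite.of_equiv _ e.symm.toEquiv
  have hsur : Function.Surjective ρ := MonoidHom.range_eq_top.mp hρ
  have hcard : Nat.card ↥E = Nat.card (Equiv.Perm (Fin m)) := Nat.card_congr e.toEquiv
  have hbij : Function.Bijective ρ := by
    rw [Nat.bijective_iff_surjective_and_card]
    exact ⟨hsur, hcard⟩
  exact (CSD.mk ρ ψ hab hexp hEN hbij heven hsurj hker heq hcen).split hm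

/-- **CSPLIT** (the board signature, row `CSPLIT` of `s3001pieces`) -/
theorem CSPLIT {G : Type*} [Group G] [Finite G] {m : ℕ} (hm : 5 ≤ m) {E₁ Ut U₀ : Subgroup G}
    (hab : ∀ u ∈ Ut, ∀ v ∈ Ut, u * v = v * u) (hexp : ∀ u ∈ Ut, u * u = 1)
    (hiso : Nonempty (↥E₁ ≃* Equiv.Perm (Fin m)))
    (hact : Cfsg.ActsAsOddPermModuleOnSection m ⊤ E₁ Ut U₀)
    (hcen : ∀ x ∈ E₁, orderOf x = 3 → ∀ u ∈ U₀, x * u = u * x) : ⁅Ut, ⁅E₁, E₁⁆⁆ ⊓ U₀ = ⊥ :=
  CSPLIT_core hm hab hexp hiso hact hcen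

end Cfsg.Agent.S3001P
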