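import Mathlib
import Cfsg.Agent.Helper15.S3412.Defs2
import Cfsg.Agent.Helper7.AutPSL5
import Cfsg.Agent.Helper20.S3412SISQ
import Cfsg.Agent.Helper20.S3412STM2
import Cfsg.Agent.Helper26.S3412SK4

/-! S3412 piece SKER (helper18): `KerHyp L33`. -/

set_option autoImplicit false

namespace Cfsg.Agent.S3412P

open Matrix Cfsg.Agent.Helper2.RootSLn Cfsg.Agent.Helper7.AutPSL

namespace SKER

theorem single_ne_zero (i : Fin 3) : (Pi.single i 1 : Fin 3 → ZMod 3) ≠ 0 := by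
  intro h
  have := congrFun h i
  simp at this

theorem kerHyp_L33 : KerHyp L33 := by
  refine ⟨?_, ?_⟩
  · refine ⟨⟨TP (Pi.single 0 1), SISQ.isQ_TP (single_ne_zero 0)⟩,
      ⟨TP (Pi.single 1 1), SISQ.isQ_TP (single_ne_zero 1)⟩, ?_⟩
    intro a ha hb
    have hbot : (TP (Pi.single 0 1 : Fin 3 → ZMod 3) : Subgroup L33) ⊓ TP (Pi.single 1 1) = ⊥ := by
      apply TP_inf_TP_eq_bot
      intro c h
      have := congrFun h 0
      simp at this
    have hmem : a ∈ (TP (Pi.single 0 1 : Fin 3 → ZMod 3) : Subgroup L33) ⊓ TP (Pi.single 1 1) :=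
      ⟨ha, hb⟩
    rw [hbot, Subgroup.mem_bot] at hmem
    exact hmem
  · rintro ⟨A, hA⟩ a ha ha1
    have h27 := hA.2.2 a ha ha1
    have htm : IsTm a := STM2.isTm_of_dvd h27
    rcases isTm_cases htm with h1 | ⟨v, φ, h, hv, hφ, rfl⟩
    · exact absurd h1 ha1
    · obtain ⟨i, hi⟩ := Function.ne_iff.mp hφ
      have hv' : φ ⬝ᵥ (Pi.single i 1 : Fin 3 → ZMod 3) ≠ 0 := by
        rw [dotProduct_single, mul_one]
        exact hi
      refine ⟨⟨TP (Pi.single i 1), SISQ.isQ_TP (single_ne_zero i)⟩, ?_⟩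
      intro b hb hb1
      exact SK4.not_commute_of_not_orth h hv hφ hv' b hb hb1

end SKER

end Cfsg.Agent.S3412P
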