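import Mathlib
import Cfsg.Prelude.Def_Classical
import Cfsg.Prelude.Def_FusionComponents
import Cfsg.Agent.Helper26.S5320.Defs

/-! # S5320 piece Q8MEM (driver helper26): the eight elements of `Q₈ = ⟨i, j⟩ ≤ SL₂(F)`. -/

set_option autoImplicit false
set_option linter.unusedSectionVars false
set_option linter.unusedVariables false

namespace Cfsg.Agent.S5320P

open Matrix

variable {F : Type*} [Field F]

namespace Q8MEM

variable {a b : F} (hab : a ^ 2 + b ^ 2 = -1)

theorem qi_mul_qi : qi a b hab * qi a b hab = -1 := by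
  apply Subtype.ext
  show qiM a b * qiM a b = -(1 : M2 F)
  unfold qiM
  ext i j
  fin_cases i <;> fin_cases j <;> simp [Matrix.mul_apply, Fin.sum_univ_two]
  · linear_combination hab
  · ring
  · ring
  · linear_combination hab

theorem qj_mul_qj : (qj : L F) * qj = -1 := by
  apply Subtype.ext
  show (qjM : M2 F) * qjM = -(1 : M2 F)
  unfold qjM
  ext i j
  fin_cases i <;> fin_cases j <;> simp [Matrix.mul_apply, Fin.sum_univ_two]

theorem qk_mul_qk : qk a b hab * qk a b hab = -1 := by
  apply Subtype.ext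
  show qkM a b * qkM a b = -(1 : M2 F)
  unfold qkM
  ext i j
  fin_cases i <;> fin_cases j <;> simp [Matrix.mul_apply, Fin.sum_univ_two]
  · linear_combination hab
  · ring
  · ring
  · linear_combination hab

theorem qi_mul_qj : qi a b hab * qj = qk a b hab := by
  apply Subtype.ext
  show qiM a b * qjM = qkM a b
  unfold qiM qjM qkM
  ext i j
  fin_cases i <;> fin_cases j <;> simp [Matrix.mul_apply, Fin.sum_univ_two]

theorem qj_mul_qi : qj * qi a b hab = -qk a b hab := by
  apply Subtype.ext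
  show qjM * qiM a b = -qkM a b
  unfold qiM qjM qkM
  ext i j
  fin_cases i <;> fin_cases j <;> simp [Matrix.mul_apply, Fin.sum_univ_two]

theorem qj_mul_qk : qj * qk a b hab = qi a b hab := by
  apply Subtype.ext
  show qjM * qkM a b = qiM a b
  unfold qiM qjM qkM
  ext i j
  fin_cases i <;> fin_cases j <;> simp [Matrix.mul_apply, Fin.sum_univ_two]

theorem qk_mul_qj : qk a b hab * qj = -qi a b hab := by
  apply Subtype.ext
  show qkM a b * qjM = -qiM a b
  unfold qiM qjM qkM
  ext i j
  fin_cases i <;> fin_cases j <;> simp [Matrix.mul_apply, Fin.sum_univ_two]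

theorem qk_mul_qi : qk a b hab * qi a b hab = qj := by
  apply Subtype.ext
  show qkM a b * qiM a b = qjM
  unfold qiM qjM qkM
  ext i j
  fin_cases i <;> fin_cases j <;> simp [Matrix.mul_apply, Fin.sum_univ_two]
  · ring
  · linear_combination -hab
  · linear_combination hab
  · ring

theorem qi_mul_qk : qi a b hab * qk a b hab = -qj := by
  apply Subtype.ext
  show qiM a b * qkM a b = -qjM
  unfold qiM qjM qkM
  ext i j
  fin_cases i <;> fin_cases j <;> simp [Matrix.mul_apply, Fin.sum_univ_two]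
  · ring
  · linear_combination hab
  · linear_combination -hab
  · ring

/-- the eight elements -/
def IsElt (x : L F) : Prop :=
  x = 1 ∨ x = -1 ∨ x = qi a b hab ∨ x = -qi a b hab ∨ x = qj ∨ x = -qj ∨
      x = qk a b hab ∨ x = -qk a b hab

theorem isElt_mul {x y : L F} (hx : IsElt hab x) (hy : IsElt hab y) : IsElt hab (x * y) := by
  unfold IsElt at hx hy ⊢
  rcases hx with rfl | rfl | rfl | rfl | rfl | rfl | rfl | rfl <;>
  rcases hy with rfl | rfl | rfl | rfl | rfl | rfl | rfl | rfl <;>
  simp only [one_mul, mul_one, neg_mul, mul_neg, neg_neg, qi_mul_qi, qj_mul_qj, qk_mul_qk,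
    qi_mul_qj, qj_mul_qi, qj_mul_qk, qk_mul_qj, qk_mul_qi, qi_mul_qk, true_or, or_true]

theorem isElt_inv {x : L F} (hx : IsElt hab x) : IsElt hab x⁻¹ := by
  unfold IsElt at hx
  rcases hx with rfl | rfl | rfl | rfl | rfl | rfl | rfl | rfl
  · rw [inv_one]; exact Or.inl rfl
  · have : (-1 : L F)⁻¹ = -1 := inv_eq_of_mul_eq_one_right (by simp)
    rw [this]; exact Or.inr (Or.inl rfl)
  · have : (qi a b hab)⁻¹ = -qi a b hab :=
      inv_eq_of_mul_eq_one_right (by rw [mul_neg, qi_mul_qi, neg_neg])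
    rw [this]; exact Or.inr (Or.inr (Or.inr (Or.inl rfl)))
  · have : (-qi a b hab)⁻¹ = qi a b hab :=
      inv_eq_of_mul_eq_one_right (by rw [neg_mul, qi_mul_qi, neg_neg])
    rw [this]; exact Or.inr (Or.inr (Or.inl rfl))
  · have : (qj : L F)⁻¹ = -qj :=
      inv_eq_of_mul_eq_one_right (by rw [mul_neg, qj_mul_qj, neg_neg])
    rw [this]; exact Or.inr (Or.inr (Or.inr (Or.inr (Or.inr (Or.inl rfl)))))
  · have : (-qj : L F)⁻¹ = qj :=
      inv_eq_of_mul_eq_one_right (by rw [neg_mul, qj_mul_qj, neg_neg])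
    rw [this]; exact Or.inr (Or.inr (Or.inr (Or.inr (Or.inl rfl))))
  · have : (qk a b hab)⁻¹ = -qk a b hab :=
      inv_eq_of_mul_eq_one_right (by rw [mul_neg, qk_mul_qk, neg_neg])
    rw [this]; exact Or.inr (Or.inr (Or.inr (Or.inr (Or.inr (Or.inr (Or.inr rfl))))))
  · have : (-qk a b hab)⁻¹ = qk a b hab :=
      inv_eq_of_mul_eq_one_right (by rw [neg_mul, qk_mul_qk, neg_neg])
    rw [this]; exact Or.inr (Or.inr (Or.inr (Or.inr (Or.inr (Or.inr (Or.inl rfl))))))

/-- the subgroup of the eight elements -/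
def eltSubgroup : Subgroup (L F) where
  carrier := {x | IsElt hab x}
  mul_mem' hx hy := isElt_mul hab hx hy
  one_mem' := Or.inl rfl
  inv_mem' hx := isElt_inv hab hx

theorem qi_mem : qi a b hab ∈ Q8 a b hab := Subgroup.subset_closure (Or.inl rfl)

theorem qj_mem : (qj : L F) ∈ Q8 a b hab := Subgroup.subset_closure (Or.inr rfl)

theorem neg_one_mem : (-1 : L F) ∈ Q8 a b hab := by
  rw [← qi_mul_qi hab]
  exact Subgroup.mul_mem _ (qi_mem hab) (qi_mem hab)

theorem qk_mem : qk a b hab ∈ Q8 a b hab := by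
  rw [← qi_mul_qj hab]
  exact Subgroup.mul_mem _ (qi_mem hab) (qj_mem hab)

theorem neg_mem {x : L F} (hx : x ∈ Q8 a b hab) : -x ∈ Q8 a b hab := by
  have : -x = (-1 : L F) * x := by rw [neg_mul, one_mul]
  rw [this]
  exact Subgroup.mul_mem _ (neg_one_mem hab) hx

theorem neg_one_ne_one (h2 : (2 : F) ≠ 0) : (-1 : L F) ≠ 1 := by
  intro h
  have := congrArg (fun w : L F => (w : M2 F) 0 0) h
  simp only [Matrix.SpecialLinearGroup.coe_neg, Matrix.SpecialLinearGroup.coe_one,
    Matrix.neg_apply, Matrix.one_apply_eq] at this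
  apply h2
  linear_combination -this

theorem qk_ne_neg (h2 : (2 : F) ≠ 0) : qk a b hab ≠ -qk a b hab := by
  intro h
  have hm : qkM a b = -qkM a b := congrArg Subtype.val h
  have h00 := congrFun (congrFun hm 0) 0
  have h01 := congrFun (congrFun hm 0) 1
  simp [qkM] at h00 h01
  have hb : b = 0 := by
    have : (2 : F) * b = 0 := by linear_combination -h00
    rcases mul_eq_zero.1 this with h | h
    · exact absurd h h2
    · exact h
  have ha : a = 0 := by
    have : (2 : F) * a = 0 := by linear_combination h01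
    rcases mul_eq_zero.1 this with h | h
    · exact absurd h h2
    · exact h
  rw [ha, hb] at hab
  simp at hab

end Q8MEM

theorem Q8MEM.mem_iff (h2 : (2 : F) ≠ 0) {a b : F} (hab : a ^ 2 + b ^ 2 = -1) (x : L F) :
    x ∈ Q8 a b hab ↔ x = 1 ∨ x = -1 ∨ x = qi a b hab ∨ x = -qi a b hab ∨ x = qj ∨ x = -qj ∨
      x = qk a b hab ∨ x = -qk a b hab := by
  constructor
  · intro hx
    have hle : Q8 a b hab ≤ Q8MEM.eltSubgroup hab := by
      unfold Q8
      rw [Subgroup.closure_le]
      rintro y (rfl | rfl)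
      · exact Or.inr (Or.inr (Or.inl rfl))
      · exact Or.inr (Or.inr (Or.inr (Or.inr (Or.inl rfl))))
    exact hle hx
  · rintro (rfl | rfl | rfl | rfl | rfl | rfl | rfl | rfl)
    · exact Subgroup.one_mem _
    · exact Q8MEM.neg_one_mem hab
    · exact Q8MEM.qi_mem hab
    · exact Q8MEM.neg_mem hab (Q8MEM.qi_mem hab)
    · exact Q8MEM.qj_mem hab
    · exact Q8MEM.neg_mem hab (Q8MEM.qj_mem hab)
    · exact Q8MEM.qk_mem hab
    · exact Q8MEM.neg_mem hab (Q8MEM.qk_mem hab)

theorem Q8MEM.card (h2 : (2 : F) ≠ 0) {a b : F} (hab : a ^ 2 + b ^ 2 = -1) :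
    Nat.card (Q8 a b hab) = 8 := by
  classical
  -- at most eight elements
  let l : List (L F) := [1, -1, qi a b hab, -qi a b hab, qj, -qj, qk a b hab, -qk a b hab]
  have hsub : ((Q8 a b hab : Subgroup (L F)) : Set (L F)) ⊆ (l.toFinset : Set (L F)) := by
    intro x hx
    have := (Q8MEM.mem_iff h2 hab x).1 hx
    simp only [Finset.mem_coe, List.mem_toFinset, l, List.mem_cons, List.not_mem_nil, or_false]
    exact this
  have hfin : ((Q8 a b hab : Subgroup (L F)) : Set (L F)).Finite :=
    (l.toFinset.finite_toSet).subset hsub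
  have : Finite (Q8 a b hab) := hfin
  have hle : Nat.card (Q8 a b hab) ≤ 8 := by
    have h1 : Nat.card (Q8 a b hab) ≤ (l.toFinset : Set (L F)).ncard := by
      have h0 : Nat.card (Q8 a b hab) = ((Q8 a b hab : Subgroup (L F)) : Set (L F)).ncard :=
        Nat.card_coe_set_eq _
      rw [h0]
      exact Set.ncard_le_ncard hsub (l.toFinset.finite_toSet)
    have h2' : (l.toFinset : Set (L F)).ncard = l.toFinset.card := Set.ncard_coe_finset _
    have h3 : l.toFinset.card ≤ l.length := List.toFinset_card_le l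
    have h4 : l.length = 8 := rfl
    omega
  -- `qi` has order `4`
  have hord : orderOf (qi a b hab) = 4 := by
    have := orderOf_eq_prime_pow (p := 2) (n := 1) (x := qi a b hab) ?_ ?_
    · simpa using this
    · rw [pow_one, pow_two, Q8MEM.qi_mul_qi]
      exact Q8MEM.neg_one_ne_one h2
    · show qi a b hab ^ 4 = 1
      have : qi a b hab ^ 4 = (qi a b hab * qi a b hab) * (qi a b hab * qi a b hab) := by
        rw [← pow_two, ← pow_two, ← pow_mul]
      rw [this, Q8MEM.qi_mul_qi]
      simp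
  let g : Q8 a b hab := ⟨qi a b hab, Q8MEM.qi_mem hab⟩
  have hordg : orderOf g = 4 := by
    rw [← hord]
    exact Subgroup.orderOf_mk _ _
  have hdvd : 4 ∣ Nat.card (Q8 a b hab) := by
    rw [← hordg]
    exact orderOf_dvd_natCard g
  have hpos : 0 < Nat.card (Q8 a b hab) := Nat.card_pos
  obtain ⟨m, hm⟩ := hdvd
  have hm12 : m = 1 ∨ m = 2 := by omega
  rcases hm12 with rfl | rfl
  · -- cyclic, hence commutative: contradiction
    exfalso
    have hcyc : IsCyclic (Q8 a b hab) := isCyclic_of_orderOf_eq_card g (by rw [hordg, hm])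
    have hcomm := hcyc.isMulCommutative
    have h1 := hcomm.is_comm.comm g ⟨qj, Q8MEM.qj_mem hab⟩
    have h2'' := congrArg Subtype.val h1
    simp only [Subgroup.coe_mul, g] at h2''
    rw [Q8MEM.qi_mul_qj, Q8MEM.qj_mul_qi] at h2''
    exact Q8MEM.qk_ne_neg hab h2 h2''
  · omega

end Cfsg.Agent.S5320P
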