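import Mathlib
import Cfsg.Prelude.Def_Classical
import Cfsg.Prelude.Def_GeometricClasses
import Cfsg.Agent.Helper5.S5973Defs
import Cfsg.Agent.Helper8.S5955INVSPLIT

set_option autoImplicit false
open scoped MatrixGroups

/-! S5973 piece PRODSPLIT: invariant totally singular subspaces of an orthogonal sum `V₁ × V₂`,
`y = y₁ × 1`. -/

universe u

namespace Cfsg.Agent.S5973P

open Module Polynomial Cfsg.Agent.S5955P

namespace PRODSPLIT

/-- the dimension of the image of a subspace under a map injective on it -/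
theorem finrank_map_of_injOn {F V V' : Type*} [Field F] [AddCommGroup V] [Module F V]
    [AddCommGroup V'] [Module F V'] [FiniteDimensional F V] (f : V →ₗ[F] V')
    (P : Submodule F V) (hinj : ∀ v ∈ P, f v = 0 → v = 0) :
    finrank F (P.map f) = finrank F P := by
  have hi : Function.Injective (f.domRestrict P) := by
    rw [← LinearMap.ker_eq_bot, LinearMap.ker_eq_bot']
    intro v hv
    exact Subtype.ext (hinj v v.2 hv)
  rw [← LinearMap.range_domRestrict, LinearMap.finrank_range_of_inj hi]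

end PRODSPLIT

/-- PRODSPLIT: invariant totally singular subspaces of an orthogonal sum `V₁ × V₂`, `y = y₁ × 1` -/
theorem prod_inv_split {F V₁ V₂ : Type*} [Field F] [Fintype F] [AddCommGroup V₁] [Module F V₁]
    [FiniteDimensional F V₁] [AddCommGroup V₂] [Module F V₂] [FiniteDimensional F V₂]
    {p : ℕ} [Fact p.Prime] [CharP F p] (r : ℕ) [Fact r.Prime] (hrp : r ≠ p)
    (Q₁ : QuadraticForm F V₁) (Q₂ : QuadraticForm F V₂) (y₁ : Module.End F V₁)
    (h₁ : IsYO Q₁ y₁ r) (hfix : LinearMap.ker (y₁ - 1) = ⊥)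
    (W : Submodule F (V₁ × V₂)) (hW : W.map (y₁.prodMap (1 : Module.End F V₂)) ≤ W)
    (hts : IsTS (Q₁.prod Q₂) W) :
    ∃ (W₁ : Submodule F V₁) (W₂ : Submodule F V₂), W₁.map y₁ ≤ W₁ ∧ IsTS Q₁ W₁ ∧ IsTS Q₂ W₂ ∧
      finrank F W = finrank F W₂ + finrank F W₁ ∧
      orderOf ((Fintype.card F : ℕ) : ZMod r) ∣ finrank F W₁ := by
  classical
  have hyapp : ∀ v : V₁ × V₂, (y₁.prodMap (1 : Module.End F V₂)) v = (y₁ v.1, v.2) := fun v => rfl
  have hpown : ∀ n : ℕ, (y₁.prodMap (1 : Module.End F V₂)) ^ n =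
      (y₁ ^ n).prodMap (1 : Module.End F V₂) := by
    intro n
    induction n with
    | zero => rw [pow_zero, pow_zero, LinearMap.prodMap_one]
    | succ n ih => rw [pow_succ, ih, pow_succ, LinearMap.prodMap_mul, mul_one]
  have hypow : (y₁.prodMap (1 : Module.End F V₂)) ^ r = 1 := by
    rw [hpown, h₁.pow, LinearMap.prodMap_one]
  obtain ⟨-, hsplit, hdvd⟩ := Cfsg.Agent.S5955P.inv_split r hrp _ hypow W hW
  have hker : LinearMap.ker (y₁.prodMap (1 : Module.End F V₂) - 1) =
      (⊥ : Submodule F V₁).prod ⊤ := by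
    ext v
    rw [LinearMap.mem_ker, Submodule.mem_prod, LinearMap.sub_apply, Module.End.one_apply, hyapp]
    constructor
    · intro h
      have h1 : y₁ v.1 - v.1 = 0 := congrArg Prod.fst h
      have : v.1 ∈ LinearMap.ker (y₁ - 1) := by
        rw [LinearMap.mem_ker, LinearMap.sub_apply, Module.End.one_apply]
        exact h1
      rw [hfix] at this
      exact ⟨this, Submodule.mem_top⟩
    · rintro ⟨h1, -⟩
      rw [Submodule.mem_bot] at h1
      apply Prod.ext
      · simp [h1]
      · simp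
  have hsurj : Function.Surjective (y₁ - 1 : Module.End F V₁) :=
    LinearMap.surjective_of_injective (LinearMap.ker_eq_bot.mp hfix)
  have hrange : LinearMap.range (y₁.prodMap (1 : Module.End F V₂) - 1) =
      (⊤ : Submodule F V₁).prod ⊥ := by
    ext v
    rw [LinearMap.mem_range, Submodule.mem_prod]
    constructor
    · rintro ⟨w, rfl⟩
      refine ⟨Submodule.mem_top, ?_⟩
      rw [LinearMap.sub_apply, Module.End.one_apply, hyapp, Submodule.mem_bot]
      simp
    · rintro ⟨-, h2⟩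
      rw [Submodule.mem_bot] at h2
      obtain ⟨u, hu⟩ := hsurj v.1
      refine ⟨(u, 0), ?_⟩
      rw [LinearMap.sub_apply, Module.End.one_apply, hyapp]
      apply Prod.ext
      · simpa using hu
      · simp [h2]
  rw [hker, hrange] at hsplit
  rw [hrange] at hdvd
  refine ⟨(W ⊓ (⊤ : Submodule F V₁).prod ⊥).map (LinearMap.fst F V₁ V₂),
    (W ⊓ (⊥ : Submodule F V₁).prod ⊤).map (LinearMap.snd F V₁ V₂), ?_, ?_, ?_, ?_, ?_⟩
  · rintro _ ⟨_, ⟨v, hv, rfl⟩, rfl⟩
    have hv2 : v.2 = 0 := (Submodule.mem_bot F).mp hv.2.2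
    refine ⟨(y₁.prodMap (1 : Module.End F V₂)) v, ⟨hW ⟨v, hv.1, rfl⟩, ?_⟩, rfl⟩
    rw [hyapp]
    exact ⟨Submodule.mem_top, by rw [hv2]; exact Submodule.zero_mem _⟩
  · rintro _ ⟨v, hv, rfl⟩
    have hv2 : v.2 = 0 := (Submodule.mem_bot F).mp hv.2.2
    have := hts v hv.1
    rw [QuadraticMap.prod_apply, hv2, map_zero, add_zero] at this
    exact this
  · rintro _ ⟨v, hv, rfl⟩
    have hv1 : v.1 = 0 := (Submodule.mem_bot F).mp hv.2.1
    have := hts v hv.1
    rw [QuadraticMap.prod_apply, hv1, map_zero, zero_add] at this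
    exact this
  · rw [PRODSPLIT.finrank_map_of_injOn, PRODSPLIT.finrank_map_of_injOn]
    · exact hsplit.symm
    · intro v hv h0
      have hv2 : v.2 = 0 := (Submodule.mem_bot F).mp hv.2.2
      exact Prod.ext h0 hv2
    · intro v hv h0
      have hv1 : v.1 = 0 := (Submodule.mem_bot F).mp hv.2.1
      exact Prod.ext hv1 h0
  · rw [PRODSPLIT.finrank_map_of_injOn]
    · exact hdvd
    · intro v hv h0
      have hv2 : v.2 = 0 := (Submodule.mem_bot F).mp hv.2.2
      exact Prod.ext h0 hv2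

end Cfsg.Agent.S5973P
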