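import Mathlib
import Cfsg.Prelude.Def_Classical
import Cfsg.Prelude.Def_GeometricClasses
import Cfsg.Agent.Helper5.S5973Defs
import Cfsg.Agent.Helper13.S5973HCANCEL
import Cfsg.Agent.Helper21.S5973DISC
import Cfsg.Agent.Helper13.S5973CLASSIF

set_option autoImplicit false
open scoped MatrixGroups

/-! S5973 piece ORTHONORMAL: an orthonormal basis of a quadratic space of the type of the sum of
squares. -/

universe u

namespace Cfsg.Agent.S5973P

open Module

section Matrix

variable {F : Type*} [Field F] [Fintype F] {ι : Type} [Fintype ι] [DecidableEq ι]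

/-- ORTHONORMAL: an orthonormal basis -/
theorem exists_orthonormal (h2 : (2 : F) ≠ 0) (hneg : ¬ IsSquare (-1 : F))
    (Q : QuadraticForm F (ι → F)) (hQ : ND Q) (d : ℕ) (hcard : Fintype.card ι = 2 * d)
    (hhyp : IsHyp Q ↔ Even d) :
    ∃ b : Module.Basis (Fin d × Fin 2) F (ι → F),
      (∀ i j, i ≠ j → QuadraticMap.polar ⇑Q (b i) (b j) = 0) ∧ ∀ i, Q (b i) = 1 := by
  classical
  set Q₁ : QuadraticForm F (Fin d × Fin 2 → F) :=
    QuadraticMap.weightedSumSquares F (fun _ : Fin d × Fin 2 => (1 : F)) with hQ₁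
  have hQ₁app : ∀ v : Fin d × Fin 2 → F, Q₁ v = ∑ i, v i * v i := by
    intro v
    rw [hQ₁, QuadraticMap.weightedSumSquares_apply]
    simp
  have hpol : ∀ u v : Fin d × Fin 2 → F, QuadraticMap.polar Q₁ u v = 2 * ∑ i, u i * v i := by
    intro u v
    unfold QuadraticMap.polar
    rw [hQ₁app, hQ₁app, hQ₁app, Finset.mul_sum, ← Finset.sum_sub_distrib, ← Finset.sum_sub_distrib]
    apply Finset.sum_congr rfl
    intro i _
    simp only [Pi.add_apply]
    ring
  have hsingle : ∀ (v : Fin d × Fin 2 → F) (i : Fin d × Fin 2),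
      ∑ l, v l * (Pi.single i (1 : F) : Fin d × Fin 2 → F) l = v i := by
    intro v i
    rw [Finset.sum_eq_single i]
    · simp
    · intro l _ hl
      rw [Pi.single_eq_of_ne hl, mul_zero]
    · intro h
      exact absurd (Finset.mem_univ _) h
  have hND₁ : ND Q₁ := by
    apply HCANCEL.nd_of_left
    intro v hv
    funext i
    have := hv (Pi.single i 1)
    rw [hpol, hsingle] at this
    rcases mul_eq_zero.mp this with h | h
    · exact absurd h h2
    · exact h
  have hbf : ∀ i, (Pi.basisFun F (Fin d × Fin 2)) i = Pi.single i (1 : F) := fun i => by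
    rw [Pi.basisFun_apply]
  have hst : ∀ i, Q₁ ((Pi.basisFun F (Fin d × Fin 2)) i) = 1 := by
    intro i
    rw [hbf, hQ₁app, hsingle]
    simp
  have horth₁ : ∀ i j, i ≠ j → QuadraticMap.polar Q₁ ((Pi.basisFun F (Fin d × Fin 2)) i)
      ((Pi.basisFun F (Fin d × Fin 2)) j) = 0 := by
    intro i j hij
    rw [hbf, hbf, hpol, hsingle, Pi.single_eq_of_ne' hij, mul_zero]
  have hcard₁ : Fintype.card (Fin d × Fin 2) = 2 * d := by
    rw [Fintype.card_prod, Fintype.card_fin, Fintype.card_fin, mul_comm]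
  have hdisc := isHyp_iff_disc h2 Q₁ d hcard₁ (Pi.basisFun F (Fin d × Fin 2)) horth₁
    (fun i => by rw [hst]; exact one_ne_zero)
  have hH₁ : IsHyp Q₁ ↔ Even d := by
    rw [hdisc]
    simp only [hst, Finset.prod_const_one, mul_one]
    constructor
    · intro hsq
      by_contra hodd
      rw [Nat.not_even_iff_odd] at hodd
      rw [hodd.neg_one_pow] at hsq
      exact hneg hsq
    · intro hev
      rw [hev.neg_one_pow]
      exact ⟨1, by ring⟩
  have hfr : finrank F (Fin d × Fin 2 → F) = finrank F (ι → F) := by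
    rw [Module.finrank_fintype_fun_eq_card, Module.finrank_fintype_fun_eq_card, hcard₁, hcard]
  have hev : Even (finrank F (Fin d × Fin 2 → F)) := by
    rw [Module.finrank_fintype_fun_eq_card, hcard₁]
    exact even_two_mul d
  obtain ⟨g, hg⟩ := exists_isometry_of_type Q₁ Q hND₁ hQ hfr hev (by rw [hH₁, hhyp])
  have hgpol : ∀ u v, QuadraticMap.polar ⇑Q (g u) (g v) = QuadraticMap.polar Q₁ u v := by
    intro u v
    unfold QuadraticMap.polar
    rw [← map_add, hg, hg, hg]
  refine ⟨(Pi.basisFun F (Fin d × Fin 2)).map g, ?_, ?_⟩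
  · intro i j hij
    rw [Module.Basis.map_apply, Module.Basis.map_apply, hgpol]
    exact horth₁ i j hij
  · intro i
    rw [Module.Basis.map_apply, hg]
    exact hst i

end Matrix

end Cfsg.Agent.S5973P
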