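import Mathlib
import Cfsg.Prelude.Def_Classical
import Cfsg.Prelude.Def_GeometricClasses
import Cfsg.Agent.Helper5.S5973Defs
import Cfsg.Agent.Helper13.S5973NDRES

set_option autoImplicit false
open scoped MatrixGroups

/-! S5973 piece INVOLSPLIT: the eigenspaces of an involutory isometry. -/

universe u

namespace Cfsg.Agent.S5973P

open Module

section Matrix

variable {F : Type*} [Field F] [Fintype F] {ι : Type} [Fintype ι] [DecidableEq ι]

/-- INVOLSPLIT: the eigenspaces of an involutory isometry -/
theorem invol_split_q (h2 : (2 : F) ≠ 0) (Q : QuadraticForm F (ι → F)) (hQ : ND Q)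
    (x : Matrix ι ι F) (hx : ∀ v, Q (x.mulVec v) = Q v) (hxx : x * x = 1) :
    IsCompl (LinearMap.ker (Matrix.toLin' x - 1)) (LinearMap.ker (Matrix.toLin' x + 1)) ∧
    POrth Q (LinearMap.ker (Matrix.toLin' x - 1)) (LinearMap.ker (Matrix.toLin' x + 1)) ∧
    ND (resQ Q (LinearMap.ker (Matrix.toLin' x - 1))) ∧
    ND (resQ Q (LinearMap.ker (Matrix.toLin' x + 1))) := by
  have hxxv : ∀ v : ι → F, x.mulVec (x.mulVec v) = v := by
    intro v
    rw [Matrix.mulVec_mulVec, hxx, Matrix.one_mulVec]
  have hmemP : ∀ v : ι → F, v ∈ LinearMap.ker (Matrix.toLin' x - 1) ↔ x.mulVec v = v := by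
    intro v
    rw [LinearMap.mem_ker, LinearMap.sub_apply, Module.End.one_apply, Matrix.toLin'_apply,
      sub_eq_zero]
  have hmemM : ∀ v : ι → F, v ∈ LinearMap.ker (Matrix.toLin' x + 1) ↔ x.mulVec v = -v := by
    intro v
    rw [LinearMap.mem_ker, LinearMap.add_apply, Module.End.one_apply, Matrix.toLin'_apply,
      add_eq_zero_iff_eq_neg]
  have hcompl : IsCompl (LinearMap.ker (Matrix.toLin' x - 1))
      (LinearMap.ker (Matrix.toLin' x + 1)) := by
    constructor
    · rw [Submodule.disjoint_def]
      intro v hv1 hv2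
      rw [hmemP] at hv1
      rw [hmemM, hv1] at hv2
      have h3 : (2 : F) • v = 0 := by
        rw [two_smul]
        nth_rewrite 1 [hv2]
        exact neg_add_cancel v
      rcases smul_eq_zero.mp h3 with h | h
      · exact absurd h h2
      · exact h
    · rw [codisjoint_iff, eq_top_iff]
      intro v _
      have hv : v = (2 : F)⁻¹ • (v + x.mulVec v) + (2 : F)⁻¹ • (v - x.mulVec v) := by
        rw [← smul_add, add_add_sub_cancel, ← two_smul F v, smul_smul, inv_mul_cancel₀ h2,
          one_smul]
      rw [hv]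
      apply Submodule.add_mem_sup
      · apply Submodule.smul_mem
        rw [hmemP, Matrix.mulVec_add, hxxv, add_comm]
      · apply Submodule.smul_mem
        rw [hmemM, Matrix.mulVec_sub, hxxv]
        abel
  have hpolar : ∀ u w : ι → F, QuadraticMap.polar Q (x.mulVec u) (x.mulVec w) =
      QuadraticMap.polar Q u w := by
    intro u w
    unfold QuadraticMap.polar
    rw [← Matrix.mulVec_add, hx, hx, hx]
  have horth : POrth Q (LinearMap.ker (Matrix.toLin' x - 1))
      (LinearMap.ker (Matrix.toLin' x + 1)) := by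
    intro u hu w hw
    rw [hmemP] at hu
    rw [hmemM] at hw
    have h3 := hpolar u w
    rw [hu, hw, QuadraticMap.polar_neg_right] at h3
    have h4 : (2 : F) * QuadraticMap.polar Q u w = 0 := by linear_combination -h3
    rcases mul_eq_zero.mp h4 with h | h
    · exact absurd h h2
    · exact h
  obtain ⟨h5, h6⟩ := nd_res_of_orth Q hQ _ _ hcompl horth
  exact ⟨hcompl, horth, h5, h6⟩

end Matrix

end Cfsg.Agent.S5973P
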