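import Cfsg.Agent.Helper18.Dickson5
import Cfsg.Agent.Helper2.Transvec

/-! Dickson-type counting, part 6: a copy of `SL₂(p)` from `u(a)` and a conjugate of `l(1/a)`. -/

set_option autoImplicit false

open scoped LinearAlgebra.Projectivization

namespace Cfsg.Agent.Helper18.Dickson

variable {E : Type*} [Field E]

local notation "S2" => Matrix.SpecialLinearGroup (Fin 2) E
local notation "M2" => Matrix (Fin 2) (Fin 2) E
local notation "PL" => ℙ E (Fin 2 → E)

/-- conjugation by `diag(a,1)` on matrices -/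
def scaleMat (a : E) (M : M2) : M2 := !![M 0 0, a * M 0 1; M 1 0 / a, M 1 1]

theorem scaleMat_mul (a : E) (ha : a ≠ 0) (M N : M2) :
    scaleMat a (M * N) = scaleMat a M * scaleMat a N := by
  unfold scaleMat
  ext i j
  fin_cases i <;> fin_cases j <;>
    simp [Matrix.mul_apply, Fin.sum_univ_two] <;> field_simp

theorem scaleMat_det (a : E) (ha : a ≠ 0) (M : M2) : (scaleMat a M).det = M.det := by
  unfold scaleMat
  rw [Matrix.det_fin_two_of, Matrix.det_fin_two]
  field_simp

/-- conjugation by `diag(a,1)` -/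
def scaleHom (a : E) (ha : a ≠ 0) : S2 →* S2 where
  toFun g := ⟨scaleMat a (g : M2), by rw [scaleMat_det a ha]; exact g.2⟩
  map_one' := by
    apply Subtype.ext
    show scaleMat a ((1 : S2) : M2) = ((1 : S2) : M2)
    simp only [Matrix.SpecialLinearGroup.coe_one, scaleMat]
    ext i j
    fin_cases i <;> fin_cases j <;> simp
  map_mul' g h := by
    apply Subtype.ext
    show scaleMat a ((g * h : S2) : M2) = scaleMat a (g : M2) * scaleMat a (h : M2)
    rw [Matrix.SpecialLinearGroup.coe_mul, scaleMat_mul a ha]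

theorem scaleHom_coe (a : E) (ha : a ≠ 0) (g : S2) :
    ((scaleHom a ha g : S2) : M2) =
      !![(g : M2) 0 0, a * (g : M2) 0 1; (g : M2) 1 0 / a, (g : M2) 1 1] := rfl

theorem scaleHom_injective (a : E) (ha : a ≠ 0) : Function.Injective (scaleHom a ha) := by
  intro g h hgh
  have h1 := congrArg (fun x : S2 => (x : M2)) hgh
  simp only [scaleHom_coe] at h1
  have e00 := congrFun (congrFun h1 0) 0
  have e01 := congrFun (congrFun h1 0) 1
  have e10 := congrFun (congrFun h1 1) 0
  have e11 := congrFun (congrFun h1 1) 1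
  simp only [Matrix.of_apply, Matrix.cons_val', Matrix.cons_val_zero, Matrix.cons_val_one,
    Matrix.empty_val', Matrix.cons_val_fin_one] at e00 e01 e10 e11
  apply Subtype.ext
  ext i j
  fin_cases i <;> fin_cases j
  · exact e00
  · exact mul_left_cancel₀ ha e01
  · exact (div_left_inj' ha).1 e10
  · exact e11

theorem scaleHom_uM (a : E) (ha : a ≠ 0) (x : E) : scaleHom a ha (uM x) = uM (a * x) := by
  apply Subtype.ext
  rw [scaleHom_coe, uM_coe, uM_coe]
  simp

theorem scaleHom_lM (a : E) (ha : a ≠ 0) (x : E) : scaleHom a ha (lM x) = lM (x / a) := by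
  apply Subtype.ext
  rw [scaleHom_coe, lM_coe, lM_coe]
  simp


section gen

variable (p : ℕ) [Fact p.Prime]

theorem uM_natCast (n : ℕ) : (uM (1 : ZMod p)) ^ n = uM (n : ZMod p) := by
  rw [uM_pow, mul_one]

theorem lM_mul {K : Type*} [Field K] (a b : K) : lM a * lM b = lM (a + b) := by
  apply Subtype.ext
  rw [Matrix.SpecialLinearGroup.coe_mul, lM_coe, lM_coe, lM_coe]
  simp [add_comm]

theorem lM_zero {K : Type*} [Field K] : lM (0 : K) = 1 := by
  apply Subtype.ext
  rw [lM_coe]
  exact Matrix.one_fin_two.symm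

theorem lM_pow {K : Type*} [Field K] (a : K) (n : ℕ) : lM a ^ n = lM (n * a) := by
  induction n with
  | zero => simp [lM_zero]
  | succ k ih => rw [pow_succ, ih, lM_mul]; congr 1; push_cast; ring

/-- `SL₂(𝔽_p)` is generated by the two elementary matrices -/
theorem closure_uM_lM_zmod :
    Subgroup.closure ({uM (1 : ZMod p), lM (1 : ZMod p)} :
      Set (Matrix.SpecialLinearGroup (Fin 2) (ZMod p))) = ⊤ := by
  rw [eq_top_iff]
  intro g _
  refine Cfsg.Agent.Helper2.SL_transvection_induction
    (fun g => g ∈ Subgroup.closure ({uM (1 : ZMod p), lM (1 : ZMod p)} :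
      Set (Matrix.SpecialLinearGroup (Fin 2) (ZMod p)))) ?_
    (fun A B hA hB => Subgroup.mul_mem _ hA hB) g
  intro i j hij c
  have hc : c = ((c.val : ℕ) : ZMod p) := by simp
  fin_cases i <;> fin_cases j
  · exact absurd rfl hij
  · have e : Matrix.SpecialLinearGroup.transvection hij c = uM (1 : ZMod p) ^ c.val := by
      rw [uM_pow, mul_one, ← hc]
      apply Subtype.ext
      ext a b
      fin_cases a <;> fin_cases b <;>
        simp [Matrix.SpecialLinearGroup.transvection, Matrix.transvection, uM_coe, Matrix.single]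
    rw [e]
    exact Subgroup.pow_mem _ (Subgroup.subset_closure (by simp)) _
  · have e : Matrix.SpecialLinearGroup.transvection hij c = lM (1 : ZMod p) ^ c.val := by
      rw [lM_pow, mul_one, ← hc]
      apply Subtype.ext
      ext a b
      fin_cases a <;> fin_cases b <;>
        simp [Matrix.SpecialLinearGroup.transvection, Matrix.transvection, lM_coe, Matrix.single]
    rw [e]
    exact Subgroup.pow_mem _ (Subgroup.subset_closure (by simp)) _
  · exact absurd rfl hij

end gen


section emb

variable (p : ℕ) [Fact p.Prime] [CharP E p]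

/-- the embedding `SL₂(𝔽_p) → SL₂(E)` -/
noncomputable def embZ : Matrix.SpecialLinearGroup (Fin 2) (ZMod p) →* S2 :=
  Matrix.SpecialLinearGroup.map (ZMod.castHom (dvd_refl p) E)

theorem embZ_coe (g : Matrix.SpecialLinearGroup (Fin 2) (ZMod p)) (i j : Fin 2) :
    ((embZ (E := E) p g : S2) : M2) i j =
      ZMod.castHom (dvd_refl p) E ((g : Matrix (Fin 2) (Fin 2) (ZMod p)) i j) := by
  unfold embZ
  rw [Matrix.SpecialLinearGroup.map_apply_coe, RingHom.mapMatrix_apply, Matrix.map_apply]

theorem embZ_injective : Function.Injective (embZ (E := E) p) := by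
  intro g h hgh
  apply Subtype.ext
  ext i j
  have := congrArg (fun x : S2 => (x : M2) i j) hgh
  simp only [embZ_coe] at this
  exact (ZMod.castHom (dvd_refl p) E).injective this

theorem embZ_uM (x : ZMod p) : embZ (E := E) p (uM x) = uM (ZMod.castHom (dvd_refl p) E x) := by
  apply Subtype.ext
  ext i j
  rw [embZ_coe, uM_coe, uM_coe]
  fin_cases i <;> fin_cases j <;> simp

theorem embZ_lM (x : ZMod p) : embZ (E := E) p (lM x) = lM (ZMod.castHom (dvd_refl p) E x) := by
  apply Subtype.ext
  ext i j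
  rw [embZ_coe, lM_coe, lM_coe]
  fin_cases i <;> fin_cases j <;> simp

theorem exists_sl2p_of_pair (H : Subgroup S2) (a c : E) (ha : a ≠ 0)
    (h1 : uM a ∈ H) (h2 : uM c * lM (1 / a) * (uM c)⁻¹ ∈ H) :
    ∃ K : Subgroup S2, K ≤ H ∧
      Nonempty (K ≃* Matrix.SpecialLinearGroup (Fin 2) (ZMod p)) := by
  let ψ : Matrix.SpecialLinearGroup (Fin 2) (ZMod p) →* S2 :=
    (MulAut.conj (uM c)).toMonoidHom.comp ((scaleHom a ha).comp (embZ (E := E) p))
  have hinj : Function.Injective ψ := by
    intro g h hgh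
    apply embZ_injective (E := E) p
    apply scaleHom_injective a ha
    exact (MulAut.conj (uM c)).injective hgh
  have e1 : ψ (uM 1) = uM a := by
    show uM c * scaleHom a ha (embZ (E := E) p (uM 1)) * (uM c)⁻¹ = uM a
    rw [embZ_uM, scaleHom_uM, map_one, mul_one, uM_inv, uM_mul, uM_mul]
    congr 1; ring
  have e2 : ψ (lM 1) = uM c * lM (1 / a) * (uM c)⁻¹ := by
    show uM c * scaleHom a ha (embZ (E := E) p (lM 1)) * (uM c)⁻¹ = _
    rw [embZ_lM, scaleHom_lM, map_one]
  refine ⟨ψ.range, ?_, ⟨(MonoidHom.ofInjective hinj).symm⟩⟩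
  rw [MonoidHom.range_eq_map, ← closure_uM_lM_zmod p, MonoidHom.map_closure, Subgroup.closure_le]
  rintro x ⟨y, hy, rfl⟩
  rcases hy with rfl | rfl
  · rw [e1]; exact h1
  · rw [e2]; exact h2

end emb

end Cfsg.Agent.Helper18.Dickson
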