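import Cfsg.Agent.Helper18.Dickson11

/-! Dickson's theorem for `SL₂(q)`, `q` odd: concrete generators. A subgroup `H` of `SL₂(F)` with
more than one Sylow `p`-subgroup contains `g * uM a * g⁻¹` and `g * lM (1/a) * g⁻¹` for some
`g ∈ SL₂(F)` and `a ≠ 0`. -/

set_option autoImplicit false

open scoped LinearAlgebra.Projectivization

namespace Cfsg.Agent.Helper18.Dickson

section coreE

variable {E : Type*} [Field E]

local notation "S2" => Matrix.SpecialLinearGroup (Fin 2) E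
local notation "M2" => Matrix (Fin 2) (Fin 2) E
local notation "PL" => ℙ E (Fin 2 → E)

/-- Concrete version of the core theorem, outside the exceptional case. -/
theorem core_pair [Finite E] (p : ℕ) [Fact p.Prime] [CharP E p] (hp : p ≠ 2) (H : Subgroup S2)
    (hsplit : ∀ g ∈ H, ∃ μ : E, μ ^ 2 - tr g * μ + 1 = 0)
    (hpar : ∀ g ∈ H, IsPar g → ∃ h ∈ H, ((h * g * h⁻¹ : S2) : M2) 1 0 = 0)
    (hQ : 1 < Nat.card (Aset H)) (hn : 1 < (orb H pinf).ncard)
    (hex : p = 3 → Nat.card H ≠ 120) :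
    ∃ a c : E, a ≠ 0 ∧ uM a ∈ H ∧ uM c * lM (1 / a) * (uM c)⁻¹ ∈ H := by
  have hpp : p.Prime := Fact.out
  have h2 : (2 : E) ≠ 0 := two_ne_zero_of_char p hp
  obtain ⟨k, d, m, e, hnk, hk1, hd1, hd2, hst, hm, hme⟩ := counting p hp H hsplit hpar hQ hn
  obtain ⟨a0, ha0, ha00⟩ := exists_ne_zero_of_card (Aset H) hQ
  have hpQ : p ∣ Nat.card (Aset H) := p_dvd_card_of_ne_zero p (Aset H) a0 ha0 ha00
  have hp3 : 3 ≤ p := by
    have := hpp.two_le
    omega
  have hQ3 : 3 ≤ Nat.card (Aset H) := le_trans hp3 (Nat.le_of_dvd (by omega) hpQ)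
  rcases dickson_arith _ k d e m _ hQ3 hk1 hnk hd1 hd2 hm hme with h1 | ⟨hQe, hke, hde, _⟩
  · -- doubly transitive case
    rw [h1, one_mul, add_comm] at hnk
    exact case_one H hQ hnk
  · -- exceptional case
    exfalso
    have hp3' : p = 3 := by
      rw [hQe] at hpQ
      exact (Nat.prime_dvd_prime_iff_eq hpp Nat.prime_three).1 hpQ
    have hex' := hex hp3'
    subst hp3'
    have hHcard : Nat.card H = 60 * tot H IsPM := by
      rw [← orb_mul_stN H pinf, hnk, hst, hQe, hke, hde]; ring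
    have hz2 : tot H IsPM = 2 := by
      rcases tot_pm_pos 3 hp H with h1 | h1
      · exfalso
        rw [h1] at hHcard
        have : Fact (Nat.Prime 2) := ⟨Nat.prime_two⟩
        obtain ⟨g, hg⟩ := exists_prime_orderOf_dvd_card' (G := H) 2 (by rw [hHcard]; norm_num)
        have hg1 : (g : S2) ≠ 1 := by
          intro h0
          have : g = 1 := Subtype.ext h0
          rw [this, orderOf_one] at hg
          norm_num at hg
        have hgg : (g : S2) * (g : S2) = 1 := by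
          have := pow_orderOf_eq_one g
          rw [hg, pow_two] at this
          have := congrArg Subtype.val this
          simpa using this
        have hm1 := eq_neg_one_of_sq h2 (g : S2) hg1 hgg
        have : (-1 : S2) ∈ H := hm1 ▸ g.2
        rw [tot_pm_of_mem h2 H this] at h1
        norm_num at h1
      · exact h1
    rw [hz2] at hHcard
    exact hex' hHcard

/-- Concrete pair from an injective hom of a finite group with two Sylow `p`-subgroups into
`SL₂(E)`, one of which is mapped into the upper unitriangular group. -/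
theorem pair_of_hom_unip [Finite E] (p : ℕ) [Fact p.Prime] [CharP E p] (hp : p ≠ 2)
    {G : Type*} [Group G] [Finite G] (ψ1 : G →* S2) (hinj1 : Function.Injective ψ1)
    (hsplit : ∀ x : G, ∃ μ : E, μ ^ 2 - tr (ψ1 x) * μ + 1 = 0)
    (P Q : Sylow p G) (hPQ : P ≠ Q)
    (hU : ∀ x ∈ P, ((ψ1 x : S2) : M2) 1 0 = 0 ∧ ((ψ1 x : S2) : M2) 0 0 = 1)
    (hex : p = 3 → Nat.card G ≠ 120) :
    ∃ a c : E, a ≠ 0 ∧ uM a ∈ ψ1.range ∧ uM c * lM (1 / a) * (uM c)⁻¹ ∈ ψ1.range := by
  classical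
  have : Fintype E := Fintype.ofFinite _
  have hpp : p.Prime := Fact.out
  have h2 := two_ne_zero_of_char (E := E) p hp
  -- `p`-elements are conjugate into `P`
  have hconj : ∀ y : G, y ^ p = 1 → ∃ k : G, k * y * k⁻¹ ∈ P := by
    intro y hy
    have hyp : IsPGroup p (Subgroup.zpowers y) := by
      intro x
      obtain ⟨x, hx⟩ := x
      obtain ⟨j, rfl⟩ := Subgroup.mem_zpowers_iff.1 hx
      refine ⟨1, ?_⟩
      apply Subtype.ext
      simp only [pow_one, Subgroup.coe_pow, Subgroup.coe_one]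
      rw [← zpow_natCast, ← zpow_mul, mul_comm, zpow_mul, zpow_natCast, hy, one_zpow]
    obtain ⟨R, hR⟩ := hyp.exists_le_sylow
    obtain ⟨k, hk⟩ := MulAction.exists_smul_eq G R P
    refine ⟨k, ?_⟩
    have h1 : y ∈ (R : Subgroup G) := hR (Subgroup.mem_zpowers y)
    have h3 : k * y * k⁻¹ ∈ ((k • R : Sylow p G) : Subgroup G) := by
      rw [Sylow.coe_subgroup_smul, Subgroup.mem_pointwise_smul_iff_inv_smul_mem]
      simpa [MulAut.smul_def, mul_assoc] using h1
    rw [hk] at h3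
    exact h3
  -- an element of `Q` outside `P`
  obtain ⟨y0, hy0Q, hy0P⟩ : ∃ y0 ∈ Q, y0 ∉ P := by
    by_contra hcon
    push Not at hcon
    apply hPQ
    have : (P : Subgroup G) = (Q : Subgroup G) := Q.is_maximal' P.isPGroup' hcon
    exact Sylow.ext this
  obtain ⟨j, hj⟩ := Q.isPGroup' ⟨y0, hy0Q⟩
  have hy0j : y0 ^ (p ^ j) = 1 := by
    have := congrArg Subtype.val hj
    simpa using this
  -- the preimage of `U` is `P`
  have hP' : ∀ x : G, ((ψ1 x : S2) : M2) 1 0 = 0 → ((ψ1 x : S2) : M2) 0 0 = 1 → x ∈ P := by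
    intro x hx1 hx2
    let P' : Subgroup G := (Cfsg.Agent.Helper12.unipSL E).comap ψ1
    have hPP' : (P : Subgroup G) ≤ P' := fun z hz =>
      (Cfsg.Agent.Helper12.mem_unipSL_iff _).2 (hU z hz)
    have hP'p : IsPGroup p P' := by
      rintro ⟨z, hz⟩
      refine ⟨1, ?_⟩
      apply Subtype.ext
      simp only [pow_one, Subgroup.coe_pow, Subgroup.coe_one]
      apply hinj1
      rw [map_pow, map_one]
      have hz' := (Cfsg.Agent.Helper12.mem_unipSL_iff _).1 hz
      rw [eq_uM (ψ1 z) hz'.1 hz'.2]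
      exact uM_pow_char p _
    have := P.is_maximal' hP'p hPP'
    have hx : x ∈ P' := (Cfsg.Agent.Helper12.mem_unipSL_iff _).2 ⟨hx1, hx2⟩
    rw [this] at hx
    exact hx
  -- `P` is nontrivial
  obtain ⟨x0, hx0P, hx01⟩ : ∃ x0 ∈ P, x0 ≠ 1 := by
    by_contra hcon
    push Not at hcon
    have hPbot : (P : Subgroup G) = ⊥ := by
      rw [Subgroup.eq_bot_iff_forall]; exact hcon
    have hcard : Nat.card (P : Subgroup G) = Nat.card (Q : Subgroup G) :=
      Nat.card_congr (Sylow.equiv P Q).toEquiv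
    rw [hPbot, Subgroup.card_bot] at hcard
    have hQbot : (Q : Subgroup G) = ⊥ := Subgroup.card_eq_one.1 hcard.symm
    exact hPQ (Sylow.ext (hPbot.trans hQbot.symm))
  set H1 : Subgroup S2 := ψ1.range with hH1
  have hsplit1 : ∀ g ∈ H1, ∃ μ : E, μ ^ 2 - tr g * μ + 1 = 0 := by
    rintro g ⟨x, rfl⟩
    exact hsplit x
  have hpar1 : ∀ g ∈ H1, IsPar g → ∃ h ∈ H1, ((h * g * h⁻¹ : S2) : M2) 1 0 = 0 := by
    rintro g ⟨x, rfl⟩ hg
    have hy : (x ^ 2) ^ p = 1 := by
      apply hinj1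
      rw [map_pow, map_pow, map_one]
      exact sq_pow_eq_one_of_isPar p h2 _ hg
    obtain ⟨k, hk⟩ := hconj (x ^ 2) hy
    refine ⟨ψ1 k, ⟨k, rfl⟩, ?_⟩
    have hk' := hU _ hk
    have e1 : ψ1 (k * x ^ 2 * k⁻¹) = (ψ1 k * ψ1 x * (ψ1 k)⁻¹) ^ 2 := by
      rw [conj_pow, map_mul, map_mul, map_pow, map_inv]
    set t := ψ1 k * ψ1 x * (ψ1 k)⁻¹ with ht
    have e2 : t ^ 2 = uM (((t ^ 2 : S2) : M2) 0 1) := by
      rw [← e1]
      exact eq_uM _ hk'.1 hk'.2
    have hne : ((t ^ 2 : S2) : M2) 0 1 ≠ 0 := by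
      intro h0
      rw [h0, uM_zero] at e2
      have : (ψ1 x) ^ 2 = 1 := by
        have e3 : (ψ1 x) ^ 2 = (ψ1 k)⁻¹ * t ^ 2 * (ψ1 k)⁻¹⁻¹ := by
          rw [ht, conj_pow]; group
        rw [e3, e2]; group
      exact sq_ne_one_of_isPar h2 _ hg this
    apply borel_of_commute_uM _ hne t
    rw [← e2, ← pow_succ', ← pow_succ]
  have hQ1 : 1 < Nat.card (Aset H1) := by
    have hx0 := hU x0 hx0P
    have e := eq_uM (ψ1 x0) hx0.1 hx0.2
    have hne : ((ψ1 x0 : S2) : M2) 0 1 ≠ 0 := by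
      intro h0
      rw [h0, uM_zero] at e
      exact hx01 (hinj1 (e.trans (map_one ψ1).symm))
    have hmem : ((ψ1 x0 : S2) : M2) 0 1 ∈ Aset H1 := by
      rw [mem_Aset, ← e]
      exact ⟨x0, rfl⟩
    rw [AddSubgroup.one_lt_card_iff_ne_bot]
    intro hbot
    rw [hbot, AddSubgroup.mem_bot] at hmem
    exact hne hmem
  have hn1 : 1 < (orb H1 (pinf : PL)).ncard := by
    rw [Set.one_lt_ncard_iff (Set.toFinite _)]
    have hmem : ψ1 y0 ∈ H1 := ⟨y0, rfl⟩
    refine ⟨pinf, ψ1 y0 • pinf, mem_orb_self _ _, ⟨ψ1 y0, hmem, rfl⟩, ?_⟩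
    intro heq
    have h10 := (smul_pinf_eq_iff (ψ1 y0)).1 heq.symm
    have h00 := borel_diag_eq_one_of_pow p (ψ1 y0) h10 j (by rw [← map_pow, hy0j, map_one])
    exact hy0P (hP' y0 h10 h00)
  have hcardH1 : Nat.card H1 = Nat.card G :=
    (Nat.card_congr (MonoidHom.ofInjective hinj1).toEquiv).symm
  exact core_pair p hp H1 hsplit1 hpar1 hQ1 hn1 (fun h3 => by rw [hcardH1]; exact hex h3)

end coreE

end Cfsg.Agent.Helper18.Dickson

namespace Cfsg.Agent.Helper18.Dickson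

section rational

variable {F : Type*} [Field F]

local notation "SF" => Matrix.SpecialLinearGroup (Fin 2) F

theorem map_uM {E : Type*} [Field E] (ι : F →+* E) (a : F) :
    Matrix.SpecialLinearGroup.map ι (uM a) = uM (ι a) := by
  apply Subtype.ext
  ext i j
  rw [Matrix.SpecialLinearGroup.map_apply_coe, RingHom.mapMatrix_apply, Matrix.map_apply, uM_coe,
    uM_coe]
  fin_cases i <;> fin_cases j <;> simp

theorem map_lM {E : Type*} [Field E] (ι : F →+* E) (a : F) :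
    Matrix.SpecialLinearGroup.map ι (lM a) = lM (ι a) := by
  apply Subtype.ext
  ext i j
  rw [Matrix.SpecialLinearGroup.map_apply_coe, RingHom.mapMatrix_apply, Matrix.map_apply, lM_coe,
    lM_coe]
  fin_cases i <;> fin_cases j <;> simp

theorem conj_lM_00 {E : Type*} [Field E] (c b : E) :
    ((uM c * lM b * (uM c)⁻¹ : Matrix.SpecialLinearGroup (Fin 2) E) :
      Matrix (Fin 2) (Fin 2) E) 0 0 = 1 + c * b := by
  rw [uM_inv, Matrix.SpecialLinearGroup.coe_mul, Matrix.SpecialLinearGroup.coe_mul, uM_coe, lM_coe,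
    uM_coe]
  simp [Matrix.mul_apply, Fin.sum_univ_two]

theorem arith_aux {E : Type*} [Field E] (a c : E) (ha : a ≠ 0) :
    a * (1 + c * (1 / a) - 1) = c := by
  field_simp
  ring

/-- **Dickson, concrete form** (outside the exceptional case `p = 3`, `|G| = 120`). -/
theorem pair_of_hom [Finite F] (p : ℕ) [Fact p.Prime] [CharP F p]
    (hp : p ≠ 2) {G : Type*} [Group G] [Finite G]
    (ψ : G →* SF) (hinj : Function.Injective ψ)
    (P Q : Sylow p G) (hPQ : P ≠ Q) (hex : p = 3 → Nat.card G ≠ 120) :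
    ∃ (g : SF) (a : F), a ≠ 0 ∧ g * uM a * g⁻¹ ∈ ψ.range ∧ g * lM (1 / a) * g⁻¹ ∈ ψ.range := by
  classical
  have : Fintype F := Fintype.ofFinite _
  -- step 1: conjugate `P` into the upper unitriangular group
  have hPp : IsPGroup p ((P : Subgroup G).map ψ) := P.isPGroup'.map ψ
  obtain ⟨S, hS⟩ := hPp.exists_le_sylow
  obtain ⟨g0, hg0⟩ := Cfsg.Agent.Helper12.exists_conj_sylow_eq_unipSL p S
  let ψ1 : G →* SF := (MulAut.conj g0).toMonoidHom.comp ψ
  have hψ1 : ∀ x, ψ1 x = g0 * ψ x * g0⁻¹ := fun x => rfl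
  have hinj1 : Function.Injective ψ1 := (MulAut.conj g0).injective.comp hinj
  have hU : ∀ x ∈ P, ((ψ1 x : SF) : Matrix (Fin 2) (Fin 2) F) 1 0 = 0 ∧
      ((ψ1 x : SF) : Matrix (Fin 2) (Fin 2) F) 0 0 = 1 := by
    intro x hx
    have : ψ1 x ∈ Cfsg.Agent.Helper12.unipSL F := by
      rw [← hg0]
      exact ⟨ψ x, hS ⟨x, hx, rfl⟩, rfl⟩
    exact (Cfsg.Agent.Helper12.mem_unipSL_iff _).1 this
  -- step 2: extend scalars
  let E := FiniteField.Extension F p 2
  have : CharP E p := charP_of_injective_algebraMap (algebraMap F E).injective p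
  let ι : F →+* E := algebraMap F E
  have hι : Function.Injective ι := (algebraMap F E).injective
  let φ : SF →* Matrix.SpecialLinearGroup (Fin 2) E := Matrix.SpecialLinearGroup.map ι
  have hφ : ∀ (g : SF) (i j : Fin 2),
      ((φ g : Matrix.SpecialLinearGroup (Fin 2) E) : Matrix (Fin 2) (Fin 2) E) i j =
        ι ((g : Matrix (Fin 2) (Fin 2) F) i j) := by
    intro g i j
    show ((Matrix.SpecialLinearGroup.map ι g :
      Matrix.SpecialLinearGroup (Fin 2) E) : Matrix (Fin 2) (Fin 2) E) i j = _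
    rw [Matrix.SpecialLinearGroup.map_apply_coe, RingHom.mapMatrix_apply, Matrix.map_apply]
  have hφinj : Function.Injective φ := by
    intro g h hgh
    apply Subtype.ext
    ext i j
    have := congrArg (fun x : Matrix.SpecialLinearGroup (Fin 2) E =>
      (x : Matrix (Fin 2) (Fin 2) E) i j) hgh
    simp only [hφ] at this
    exact hι this
  have hsplit : ∀ x : G, ∃ μ : E, μ ^ 2 - tr ((φ.comp ψ1) x) * μ + 1 = 0 := by
    intro x
    obtain ⟨μ, hμ⟩ := exists_root_quadratic_ext p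
      (((ψ1 x : SF) : Matrix (Fin 2) (Fin 2) F) 0 0 + ((ψ1 x : SF) : Matrix (Fin 2) (Fin 2) F) 1 1)
    refine ⟨μ, ?_⟩
    unfold tr
    rw [MonoidHom.comp_apply, hφ, hφ, ← map_add]
    exact hμ
  have hU2 : ∀ x ∈ P, (((φ.comp ψ1) x : Matrix.SpecialLinearGroup (Fin 2) E) :
      Matrix (Fin 2) (Fin 2) E) 1 0 = 0 ∧ (((φ.comp ψ1) x : Matrix.SpecialLinearGroup (Fin 2) E) :
      Matrix (Fin 2) (Fin 2) E) 0 0 = 1 := by
    intro x hx
    obtain ⟨h1, h2⟩ := hU x hx
    rw [MonoidHom.comp_apply, hφ, hφ, h1, h2, map_zero, map_one]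
    exact ⟨rfl, rfl⟩
  obtain ⟨a, c, ha, ⟨x, hx⟩, ⟨y, hy⟩⟩ := pair_of_hom_unip (E := E) p hp (φ.comp ψ1)
    (hφinj.comp hinj1) hsplit P Q hPQ hU2 hex
  -- step 3: descend
  set a' : F := ((ψ1 x : SF) : Matrix (Fin 2) (Fin 2) F) 0 1 with ha'
  have haa : ι a' = a := by
    have := congrArg (fun z : Matrix.SpecialLinearGroup (Fin 2) E =>
      (z : Matrix (Fin 2) (Fin 2) E) 0 1) hx
    simp only [MonoidHom.comp_apply, hφ, uM_coe] at this
    simpa using this
  have ha'0 : a' ≠ 0 := by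
    intro h0
    rw [h0, map_zero] at haa
    exact ha haa.symm
  have hx1 : ψ1 x = uM a' := by
    apply hφinj
    show (φ.comp ψ1) x = Matrix.SpecialLinearGroup.map ι (uM a')
    rw [hx, map_uM, haa]
  set c' : F := a' * (((ψ1 y : SF) : Matrix (Fin 2) (Fin 2) F) 0 0 - 1) with hc'
  have hcc : ι c' = c := by
    have := congrArg (fun z : Matrix.SpecialLinearGroup (Fin 2) E =>
      (z : Matrix (Fin 2) (Fin 2) E) 0 0) hy
    simp only [MonoidHom.comp_apply, hφ] at this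
    rw [conj_lM_00] at this
    rw [hc', map_mul, map_sub, map_one, this, haa]
    exact arith_aux a c ha
  have hy1 : ψ1 y = uM c' * lM (1 / a') * (uM c')⁻¹ := by
    apply hφinj
    show (φ.comp ψ1) y = Matrix.SpecialLinearGroup.map ι (uM c' * lM (1 / a') * (uM c')⁻¹)
    rw [hy, map_mul, map_mul, map_inv, map_uM, map_lM, hcc, map_div₀, map_one, haa]
  refine ⟨g0⁻¹ * uM c', a', ha'0, ⟨x, ?_⟩, ⟨y, ?_⟩⟩
  · have h1 : ψ x = g0⁻¹ * ψ1 x * g0 := by rw [hψ1]; group
    rw [h1, hx1]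
    have h2 : uM c' * uM a' * (uM c')⁻¹ = uM a' := by
      rw [uM_inv, uM_mul, uM_mul]; congr 1; ring
    calc g0⁻¹ * uM a' * g0 = g0⁻¹ * (uM c' * uM a' * (uM c')⁻¹) * g0 := by rw [h2]
      _ = g0⁻¹ * uM c' * uM a' * (g0⁻¹ * uM c')⁻¹ := by group
  · have h1 : ψ y = g0⁻¹ * ψ1 y * g0 := by rw [hψ1]; group
    rw [h1, hy1]
    group

end rational

end Cfsg.Agent.Helper18.Dickson

namespace Cfsg.Agent.Helper18.Dickson

/-- A group isomorphic to `SL₂(p)`, `p` odd, has two distinct Sylow `p`-subgroups. -/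
theorem two_sylow_of_equiv (p : ℕ) [Fact p.Prime] (hp : p ≠ 2) {K : Type*} [Group K] [Finite K]
    (e : K ≃* Matrix.SpecialLinearGroup (Fin 2) (ZMod p)) :
    ∃ P Q : Sylow p K, P ≠ Q := by
  have hpp : p.Prime := Fact.out
  have hpg : ∀ x : K, x ^ p = 1 → IsPGroup p (Subgroup.zpowers x) := by
    intro x hx z
    obtain ⟨z, hz⟩ := z
    obtain ⟨j, rfl⟩ := Subgroup.mem_zpowers_iff.1 hz
    refine ⟨1, ?_⟩
    apply Subtype.ext
    simp only [pow_one, Subgroup.coe_pow, Subgroup.coe_one]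
    rw [← zpow_natCast, ← zpow_mul, mul_comm, zpow_mul, zpow_natCast, hx, one_zpow]
  set x : K := e.symm (uM 1) with hx
  set y : K := e.symm (lM 1) with hy
  have hxp : x ^ p = 1 := by
    rw [hx, ← map_pow, uM_pow_char, map_one]
  have hyp : y ^ p = 1 := by
    rw [hy, ← map_pow, lM_pow]
    have : ((p : ℕ) : ZMod p) * 1 = 0 := by simp
    rw [this, lM_zero, map_one]
  obtain ⟨P, hP⟩ := (hpg x hxp).exists_le_sylow
  obtain ⟨Q, hQ⟩ := (hpg y hyp).exists_le_sylow
  refine ⟨P, Q, ?_⟩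
  intro hPQ
  have hxP : x ∈ (P : Subgroup K) := hP (Subgroup.mem_zpowers x)
  have hyP : y ∈ (P : Subgroup K) := by rw [hPQ]; exact hQ (Subgroup.mem_zpowers y)
  have htop : (P : Subgroup K) = ⊤ := by
    rw [eq_top_iff]
    have h1 : (⊤ : Subgroup K) = (⊤ : Subgroup (Matrix.SpecialLinearGroup (Fin 2) (ZMod p))).map
        e.symm.toMonoidHom := by
      rw [← MonoidHom.range_eq_map]
      exact (MonoidHom.range_eq_top.2 e.symm.surjective).symm
    rw [h1, ← closure_uM_lM_zmod p, MonoidHom.map_closure, Subgroup.closure_le]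
    rintro z ⟨w, hw, rfl⟩
    rcases hw with rfl | rfl
    · exact hxP
    · exact hyP
  set z : K := e.symm (-1) with hz
  have hzz : z ^ 2 = 1 := by
    rw [hz, ← map_pow]
    have : ((-1 : Matrix.SpecialLinearGroup (Fin 2) (ZMod p))) ^ 2 = 1 := by
      rw [neg_one_sq]
    rw [this, map_one]
  have hz1 : z ≠ 1 := by
    intro h
    have h1 : (-1 : Matrix.SpecialLinearGroup (Fin 2) (ZMod p)) = 1 := by
      have := congrArg e h
      rw [hz, MulEquiv.apply_symm_apply, map_one] at this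
      exact this
    have h2 := congrArg (fun g : Matrix.SpecialLinearGroup (Fin 2) (ZMod p) =>
      (g : Matrix (Fin 2) (Fin 2) (ZMod p)) 0 0) h1
    simp only [Matrix.SpecialLinearGroup.coe_neg, Matrix.SpecialLinearGroup.coe_one,
      Matrix.neg_apply, Matrix.one_apply_eq] at h2
    have h3 : (2 : ZMod p) = 0 := by
      have : (1 : ZMod p) + 1 = 0 := by
        nth_rewrite 1 [← h2]
        ring
      rw [← this]; norm_num
    exact two_ne_zero_of_char (E := ZMod p) p hp h3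
  have hzP : z ∈ (P : Subgroup K) := by rw [htop]; trivial
  obtain ⟨k, hk⟩ := P.isPGroup' ⟨z, hzP⟩
  have hk' : z ^ (p ^ k) = 1 := by
    have := congrArg Subtype.val hk
    simpa using this
  have ho1 : orderOf z ∣ 2 := orderOf_dvd_of_pow_eq_one hzz
  have ho2 : orderOf z ∣ p ^ k := orderOf_dvd_of_pow_eq_one hk'
  have hcop : Nat.Coprime 2 (p ^ k) := by
    apply Nat.Coprime.pow_right
    rw [Nat.coprime_primes Nat.prime_two hpp]
    exact fun h => hp h.symm
  have : orderOf z = 1 := Nat.eq_one_of_dvd_coprimes hcop ho1 ho2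
  exact hz1 (orderOf_eq_one_iff.1 this)

section rational2

variable {F : Type*} [Field F]

local notation "SF" => Matrix.SpecialLinearGroup (Fin 2) F

/-- **Dickson, concrete form.** If `ψ : G →* SL₂(F)` is injective (`F` finite of odd characteristic
`p`, `G` finite with two distinct Sylow `p`-subgroups), then `ψ(G)` contains
`g * uM a * g⁻¹` and `g * lM (1/a) * g⁻¹` for some `g ∈ SL₂(F)`, `a ≠ 0`. -/
theorem exists_pair_of_hom [Finite F] (p : ℕ) [Fact p.Prime] [CharP F p]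
    (hp : p ≠ 2) {G : Type*} [Group G] [Finite G]
    (ψ : G →* SF) (hinj : Function.Injective ψ)
    (P Q : Sylow p G) (hPQ : P ≠ Q) :
    ∃ (g : SF) (a : F), a ≠ 0 ∧ g * uM a * g⁻¹ ∈ ψ.range ∧ g * lM (1 / a) * g⁻¹ ∈ ψ.range := by
  classical
  obtain ⟨K, ⟨e⟩⟩ := exists_sl2p_of_hom p hp ψ hinj P Q hPQ
  obtain ⟨P', Q', hPQ'⟩ := two_sylow_of_equiv p hp e
  have hex : p = 3 → Nat.card K ≠ 120 := by
    intro h3
    subst h3
    rw [Nat.card_congr e.toEquiv, Cfsg.Agent.S2301.card_sl2, ZMod.card]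
    norm_num
  obtain ⟨g, a, ha, ⟨x, hx⟩, ⟨y, hy⟩⟩ := pair_of_hom p hp (ψ.comp K.subtype)
    (hinj.comp K.subtype_injective) P' Q' hPQ' hex
  exact ⟨g, a, ha, ⟨x, hx⟩, ⟨y, hy⟩⟩

/-- **Dickson, concrete form** for subgroups. -/
theorem exists_pair_subgroup [Finite F] (p : ℕ) [Fact p.Prime] [CharP F p]
    (hp : p ≠ 2) (H : Subgroup SF) (hH : 1 < Nat.card (Sylow p H)) :
    ∃ (g : SF) (a : F), a ≠ 0 ∧ g * uM a * g⁻¹ ∈ H ∧ g * lM (1 / a) * g⁻¹ ∈ H := by
  have hnt : Nontrivial (Sylow p H) := Finite.one_lt_card_iff_nontrivial.1 hH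
  obtain ⟨P, Q, hPQ⟩ := exists_pair_ne (Sylow p H)
  obtain ⟨g, a, ha, ⟨x, hx⟩, ⟨y, hy⟩⟩ :=
    exists_pair_of_hom p hp H.subtype H.subtype_injective P Q hPQ
  refine ⟨g, a, ha, ?_, ?_⟩
  · rw [← hx]; exact x.2
  · rw [← hy]; exact y.2

end rational2

end Cfsg.Agent.Helper18.Dickson
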