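import Mathlib
import Cfsg.Prelude.Def_FusionSystem
import Cfsg.Prelude.Def_CaseTheorems
import Cfsg.Agent.Helper18.ZStar6
import Cfsg.Agent.Helper25.FusionQuotGroup
import Cfsg.Agent.Helper19.Cores

/-!
# The Z*-theorem in fusion language
-/

set_option autoImplicit false

namespace Cfsg.Agent.Helper18.ZS

open Cfsg Cfsg.Agent.Helper6 Cfsg.Agent.Helper15

universe u

variable {G : Type u} [Group G]

/-- The preimage of the centre of `G/O(G)`, intersected with `S`. -/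
def zsub (S : Sylow 2 G) : Subgroup G :=
  (S : Subgroup G) ⊓ (Subgroup.center (G ⧸ Cfsg.oddCore G)).comap
    (QuotientGroup.mk' (Cfsg.oddCore G))

theorem mem_zsub_comm {S : Sylow 2 G} {q : G} (hq : q ∈ zsub S) (g : G) :
    g * q * g⁻¹ * q⁻¹ ∈ Cfsg.oddCore G := by
  have hn : (Cfsg.oddCore G).Normal := Cfsg.pPrimeCore_normal 2 G
  have h1 : (QuotientGroup.mk' (Cfsg.oddCore G)) q ∈ Subgroup.center (G ⧸ Cfsg.oddCore G) := hq.2
  have h2 := Subgroup.mem_center_iff.mp h1 (QuotientGroup.mk' (Cfsg.oddCore G) g)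
  rw [← QuotientGroup.eq_one_iff]
  simp only [QuotientGroup.mk_mul, QuotientGroup.mk_inv]
  have h3 : (g : G ⧸ Cfsg.oddCore G) * (q : G ⧸ Cfsg.oddCore G) =
      (q : G ⧸ Cfsg.oddCore G) * (g : G ⧸ Cfsg.oddCore G) := h2
  rw [h3]; group

/-- Two elements of a Sylow 2-subgroup congruent modulo `O(G)` are equal. -/
theorem eq_of_mem_sylow_of_div_mem [Finite G] (S : Sylow 2 G) {a b : G} (ha : a ∈ S) (hb : b ∈ S)
    (hab : a * b⁻¹ ∈ Cfsg.oddCore G) : a = b := by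
  have : Fact (Nat.Prime 2) := ⟨Nat.prime_two⟩
  have hc : a * b⁻¹ ∈ (S : Subgroup G) := Subgroup.mul_mem _ ha (Subgroup.inv_mem _ hb)
  have hodd : (Nat.card (Cfsg.oddCore G)).Coprime 2 := Cfsg.Agent.Helper19.pPrimeCore_coprime 2
  have h1 : orderOf (a * b⁻¹) ∣ Nat.card (Cfsg.oddCore G) := by
    have := orderOf_dvd_natCard (⟨a * b⁻¹, hab⟩ : Cfsg.oddCore G)
    rwa [Subgroup.orderOf_mk] at this
  obtain ⟨k, hk⟩ := (IsPGroup.iff_orderOf.mp S.isPGroup') ⟨a * b⁻¹, hc⟩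
  rw [Subgroup.orderOf_mk] at hk
  have h2 : orderOf (a * b⁻¹) = 1 := by
    have h3 : (orderOf (a * b⁻¹)).Coprime (2 ^ k) :=
      Nat.Coprime.pow_right k (Nat.Coprime.coprime_dvd_left h1 hodd)
    rw [hk] at h3
    rw [hk]
    exact (Nat.coprime_self _).mp h3
  rw [orderOf_eq_one_iff] at h2
  exact mul_inv_eq_one.mp h2

/-- Control of fusion: every conjugation map `P → S` agrees on `P` with conjugation by an
element centralizing `S ∩ Z*(G)`. -/
theorem control [Finite G] (S : Sylow 2 G) (P : Subgroup G) (hP : P ≤ S) (g : G)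
    (hg : ∀ y ∈ P, g * y * g⁻¹ ∈ S) :
    ∃ g' : G, (∀ y ∈ P, g' * y * g'⁻¹ = g * y * g⁻¹) ∧ ∀ q ∈ zsub S, g' * q * g'⁻¹ = q := by
  have : Fact (Nat.Prime 2) := ⟨Nat.prime_two⟩
  have hn : (Cfsg.oddCore G).Normal := Cfsg.pPrimeCore_normal 2 G
  set K := Cfsg.oddCore G with hK
  set Q := zsub S with hQ
  have hQS : Q ≤ S := inf_le_left
  set W : Subgroup G := (P ⊔ Q).map (MulAut.conj g).toMonoidHom with hW
  have hWp : IsPGroup 2 W := (S.isPGroup'.to_le (sup_le hP hQS)).map _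
  have hWle : W ≤ (S : Subgroup G) ⊔ K := by
    rw [hW, Subgroup.map_le_iff_le_comap]
    apply sup_le
    · intro y hy
      exact Subgroup.mem_sup_left (hg y hy)
    · intro q hq
      show g * q * g⁻¹ ∈ (S : Subgroup G) ⊔ K
      have h1 : g * q * g⁻¹ = (g * q * g⁻¹ * q⁻¹) * q := by group
      rw [h1]
      exact Subgroup.mul_mem _ (Subgroup.mem_sup_right (mem_zsub_comm hq g))
        (Subgroup.mem_sup_left (hQS hq))
  obtain ⟨k, hk, hkW⟩ := Cfsg.Agent.Helper25.exists_mem_normal_conj_mem 2 S K hWp hWle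
  have hcong : ∀ a : G, k * a * k⁻¹ * a⁻¹ ∈ K := by
    intro a
    have h1 : a * k⁻¹ * a⁻¹ ∈ K := hn.conj_mem _ (K.inv_mem hk) a
    have h2 : k * a * k⁻¹ * a⁻¹ = k * (a * k⁻¹ * a⁻¹) := by group
    rw [h2]; exact K.mul_mem hk h1
  refine ⟨k * g, ?_, ?_⟩
  · intro y hy
    have h1 : (k * g) * y * (k * g)⁻¹ = k * (g * y * g⁻¹) * k⁻¹ := by group
    rw [h1]
    apply eq_of_mem_sylow_of_div_mem S _ (hg y hy) (hcong _)
    apply hkW
    exact ⟨y, Subgroup.mem_sup_left hy, rfl⟩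
  · intro q hq
    have h1 : (k * g) * q * (k * g)⁻¹ = k * (g * q * g⁻¹) * k⁻¹ := by group
    rw [h1]
    apply eq_of_mem_sylow_of_div_mem S _ (hQS hq)
    · have h2 : k * (g * q * g⁻¹) * k⁻¹ * q⁻¹ =
          (k * (g * q * g⁻¹) * k⁻¹ * (g * q * g⁻¹)⁻¹) * (g * q * g⁻¹ * q⁻¹) := by group
      rw [h2]
      exact K.mul_mem (hcong _) (mem_zsub_comm hq g)
    · apply hkW
      exact ⟨q, Subgroup.mem_sup_right hq, rfl⟩

/-- `S ∩ Z*(G)` is central in the fusion system of `G` on `S`. -/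
theorem zsub_isCentral [Finite G] (S : Sylow 2 G) :
    (groupFusionSystem (S : Subgroup G)).IsCentral (zsub S) := by
  refine ⟨inf_le_left, ?_⟩
  rintro P φ ⟨hP, hφS, g, hg⟩
  have hg' : ∀ y ∈ P, g * y * g⁻¹ ∈ S := by
    intro y hy
    have := hφS ⟨y, hy⟩
    rw [hg] at this
    exact this
  obtain ⟨g', hg'P, hg'Q⟩ := control S P hP g hg'
  have hsupS : P ⊔ zsub S ≤ (S : Subgroup G) := sup_le hP inf_le_left
  refine ⟨conjHom (P ⊔ zsub S) g', ⟨hsupS, ?_, g', fun x => rfl⟩, ?_, ?_⟩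
  · intro x
    show g' * (x : G) * g'⁻¹ ∈ (S : Subgroup G)
    have hle : P ⊔ zsub S ≤ (S : Subgroup G).comap (MulAut.conj g').toMonoidHom := by
      apply sup_le
      · intro y hy
        show g' * y * g'⁻¹ ∈ (S : Subgroup G)
        rw [hg'P y hy]; exact hg' y hy
      · intro q hq
        show g' * q * g'⁻¹ ∈ (S : Subgroup G)
        rw [hg'Q q hq]; exact hq.1
    exact hle x.2
  · intro x
    show g' * (x : G) * g'⁻¹ = φ x
    rw [hg'P x x.2, hg]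
  · intro x
    show g' * (x : G) * g'⁻¹ = x
    exact hg'Q x x.2

/-- A central subgroup of the fusion system of `G` on `S` lies in `S ∩ Z*(G)`. -/
theorem le_zsub_of_isCentral [Finite G] (S : Sylow 2 G) {Q : Subgroup G}
    (hQ : (groupFusionSystem (S : Subgroup G)).IsCentral Q) : Q ≤ zsub S := by
  have : Fact (Nat.Prime 2) := ⟨Nat.prime_two⟩
  have hn : (Cfsg.oddCore G).Normal := Cfsg.pPrimeCore_normal 2 G
  intro x hx
  have hxS : x ∈ (S : Subgroup G) := hQ.1 hx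
  refine ⟨hxS, ?_⟩
  -- x is weakly closed in S
  have hwc : ∀ g : G, g * x * g⁻¹ ∈ S → g * x * g⁻¹ = x := by
    intro g hg
    set P := Subgroup.zpowers x with hP
    have hPS : P ≤ (S : Subgroup G) := Subgroup.zpowers_le.mpr hxS
    have hφ : conjHom P g ∈ (groupFusionSystem (S : Subgroup G)).Hom P := by
      refine ⟨hPS, ?_, g, fun y => rfl⟩
      rintro ⟨y, hy⟩
      obtain ⟨i, rfl⟩ := Subgroup.mem_zpowers_iff.mp hy
      show g * x ^ i * g⁻¹ ∈ (S : Subgroup G)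
      have : g * x ^ i * g⁻¹ = (g * x * g⁻¹) ^ i := by rw [conj_zpow]
      rw [this]; exact Subgroup.zpow_mem _ hg i
    obtain ⟨ψ, -, hψP, hψQ⟩ := hQ.2 P (conjHom P g) hφ
    have h1 := hψP ⟨x, Subgroup.mem_zpowers x⟩
    have h2 := hψQ ⟨x, hx⟩
    have h3 : (Subgroup.inclusion (le_sup_left : P ≤ P ⊔ Q) ⟨x, Subgroup.mem_zpowers x⟩) =
        (Subgroup.inclusion (le_sup_right : Q ≤ P ⊔ Q) ⟨x, hx⟩) := Subtype.ext rfl
    rw [h3, h2] at h1
    exact h1.symm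
  have hxp : ∃ k : ℕ, orderOf x = 2 ^ k := by
    obtain ⟨k, hk⟩ := (IsPGroup.iff_orderOf.mp S.isPGroup') ⟨x, hxS⟩
    rw [Subgroup.orderOf_mk] at hk
    exact ⟨k, hk⟩
  have hiso : IsIsolated x := isolated_of_sylow' S hxp hwc
  have hz := zstar_gen x hxp hiso
  show (QuotientGroup.mk' (Cfsg.oddCore G)) x ∈ Subgroup.center (G ⧸ Cfsg.oddCore G)
  rw [Subgroup.mem_center_iff]
  intro q
  obtain ⟨a, rfl⟩ := QuotientGroup.mk_surjective q
  have h1 : ((a * x * a⁻¹ * x⁻¹ : G) : G ⧸ Cfsg.oddCore G) = 1 :=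
    (QuotientGroup.eq_one_iff _).mpr (hz a)
  simp only [QuotientGroup.mk_mul, QuotientGroup.mk_inv] at h1
  show (a : G ⧸ Cfsg.oddCore G) * (x : G ⧸ Cfsg.oddCore G) =
    (x : G ⧸ Cfsg.oddCore G) * (a : G ⧸ Cfsg.oddCore G)
  calc (a : G ⧸ Cfsg.oddCore G) * (x : G ⧸ Cfsg.oddCore G) =
        ((a : G ⧸ Cfsg.oddCore G) * x * (a : G ⧸ Cfsg.oddCore G)⁻¹ * (x : G ⧸ Cfsg.oddCore G)⁻¹) *
          ((x : G ⧸ Cfsg.oddCore G) * a) := by group
    _ = (x : G ⧸ Cfsg.oddCore G) * a := by rw [h1, one_mul]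

/-- **Z*-theorem in fusion language.** -/
theorem center_groupFusionSystem [Finite G] (S : Sylow 2 G) :
    (groupFusionSystem (S : Subgroup G)).center = zsub S := by
  apply le_antisymm
  · apply sSup_le
    intro Q hQ
    exact le_zsub_of_isCentral S hQ
  · exact le_sSup (zsub_isCentral S)

end Cfsg.Agent.Helper18.ZS
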