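import Mathlib
import Cfsg.Agent.Helper16.BCDefs
import Cfsg.Agent.Helper16.BCElem
import Cfsg.Agent.Helper16.BCArrowLib
import Cfsg.Agent.Helper25.FusionKNorm

set_option autoImplicit false

/-! S5110 drive, piece BFINAL: if every `E`-automorphism of `Q` is the restriction of an
`E`-automorphism of `R₀ = N_N^K(Q)`, then `Q` is fully automized and receptive in `E`. -/

namespace Cfsg.Agent.Helper16.BC

open Cfsg Cfsg.FusionSystem Cfsg.Agent.Helper25

variable {Ω : Type*} [Group Ω]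

/-- conjugation by an element of the normalizer, as an automorphism -/
noncomputable abbrev bfin_cAut (Q : Subgroup Ω) (n : Ω) (hn : n ∈ Subgroup.normalizer (Q : Set Ω)) :
    MulAut Q := Q.normalizerMonoidHom ⟨n, hn⟩

theorem bfin_cAut_coe (Q : Subgroup Ω) (n : Ω) (hn : n ∈ Subgroup.normalizer (Q : Set Ω)) (x : Q) :
    ((bfin_cAut Q n hn x : Q) : Ω) = n * x * n⁻¹ := rfl

theorem bfin_cAut_mem {N : Subgroup Ω} (E : FusionSystem N) {Q : Subgroup Ω} (hQN : Q ≤ N) (n : Ω)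
    (hnN : n ∈ N) (hn : n ∈ Subgroup.normalizer (Q : Set Ω)) : bfin_cAut Q n hn ∈ E.autGroup Q := by
  rw [mem_autGroup_iff E hQN]
  have h1 : conjHom Q n ∈ E.Hom Q := E.conj_mem hQN hnN
  have e : autHom (bfin_cAut Q n hn) = conjHom Q n := by
    ext x
    simp [autHom, conjHom]
  rw [e]
  exact h1

/-- `N` normalizes `Q`. -/
theorem bfin_normalizes {N : Subgroup Ω} (E : FusionSystem N) {Q : Subgroup Ω} (hQN : Q ≤ N)
    (hnorm : ∀ (R : Subgroup Ω) (φ : R →* Ω), φ ∈ E.Hom R → Q ≤ R → img φ Q = Q) :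
    N ≤ Subgroup.normalizer (Q : Set Ω) := by
  have key : ∀ n ∈ N, ∀ x ∈ Q, n * x * n⁻¹ ∈ Q := by
    intro n hn x hx
    have h1 : conjHom N n ∈ E.Hom N := E.conj_mem le_rfl hn
    have h2 := hnorm N _ h1 hQN
    have h3 : conjHom N n ⟨x, hQN hx⟩ ∈ img (conjHom N n) Q := mem_img_of_mem _ ⟨x, hQN hx⟩ hx
    rw [h2] at h3
    simpa [conjHom] using h3
  intro n hn
  rw [Subgroup.mem_normalizer_iff]
  intro x
  constructor
  · exact key n hn x
  · intro hx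
    have := key n⁻¹ (N.inv_mem hn) _ hx
    have e : n⁻¹ * (n * x * n⁻¹) * n⁻¹⁻¹ = x := by group
    rwa [e] at this

/-- `R₀ = N_N^K(Q)` is normalized by `N`: one direction. -/
theorem bfin_conj_mem_R0 {N : Subgroup Ω} (E : FusionSystem N) {Q : Subgroup Ω} (hQN : Q ≤ N)
    (hnorm : ∀ (R : Subgroup Ω) (φ : R →* Ω), φ ∈ E.Hom R → Q ≤ R → img φ Q = Q)
    (K : Subgroup (MulAut Q)) (hKle : K ≤ E.autGroup Q)
    (hKnorm : (K.subgroupOf (E.autGroup Q)).Normal) {n g : Ω} (hn : n ∈ N)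
    (hg : g ∈ NKvia N Q.subtype K) : n * g * n⁻¹ ∈ NKvia N Q.subtype K := by
  obtain ⟨hgN, κ, hκ, hκg⟩ := hg
  have hnQ : n ∈ Subgroup.normalizer (Q : Set Ω) := bfin_normalizes E hQN hnorm hn
  have hν : bfin_cAut Q n hnQ ∈ E.autGroup Q := bfin_cAut_mem E hQN n hn hnQ
  have hκ' : bfin_cAut Q n hnQ * κ * (bfin_cAut Q n hnQ)⁻¹ ∈ K := by
    have h1 : (⟨κ, hKle hκ⟩ : E.autGroup Q) ∈ K.subgroupOf (E.autGroup Q) := by
      rw [Subgroup.mem_subgroupOf]; exact hκ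
    have h2 := hKnorm.conj_mem _ h1 ⟨bfin_cAut Q n hnQ, hν⟩
    rw [Subgroup.mem_subgroupOf] at h2
    exact h2
  refine ⟨N.mul_mem (N.mul_mem hn hgN) (N.inv_mem hn), _, hκ', fun x => ?_⟩
  -- compute
  have h3 : ∀ y : Q, (((bfin_cAut Q n hnQ)⁻¹ y : Q) : Ω) = n⁻¹ * y * n := by
    intro y
    have h4 : bfin_cAut Q n hnQ ((bfin_cAut Q n hnQ)⁻¹ y) = y := MulAut.apply_inv_self _ _ y
    have h5 := congrArg (fun z : Q => (z : Ω)) h4
    simp only [bfin_cAut_coe] at h5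
    rw [← h5]
    group
  have h6 := hκg ((bfin_cAut Q n hnQ)⁻¹ x)
  simp only [Subgroup.coe_subtype] at h6 ⊢
  rw [MulAut.mul_apply, MulAut.mul_apply, bfin_cAut_coe, h6, h3]
  group

/-- `N` normalizes `R₀`. -/
theorem bfin_normalizes_R0 {N : Subgroup Ω} (E : FusionSystem N) {Q : Subgroup Ω} (hQN : Q ≤ N)
    (hnorm : ∀ (R : Subgroup Ω) (φ : R →* Ω), φ ∈ E.Hom R → Q ≤ R → img φ Q = Q)
    (K : Subgroup (MulAut Q)) (hKle : K ≤ E.autGroup Q)
    (hKnorm : (K.subgroupOf (E.autGroup Q)).Normal) :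
    N ≤ Subgroup.normalizer (NKvia N Q.subtype K : Set Ω) := by
  intro n hn
  rw [Subgroup.mem_normalizer_iff]
  intro x
  constructor
  · exact bfin_conj_mem_R0 E hQN hnorm K hKle hKnorm hn
  · intro hx
    have := bfin_conj_mem_R0 E hQN hnorm K hKle hKnorm (N.inv_mem hn) hx
    have e : n⁻¹ * (n * x * n⁻¹) * n⁻¹⁻¹ = x := by group
    rwa [e] at this

/-- the restriction to `Q` of an `E`-map defined on an overgroup of `Q`, as an element of
`Aut_E(Q)` -/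
theorem bfin_res_mem {N : Subgroup Ω} (E : FusionSystem N) {Q : Subgroup Ω} (hQN : Q ≤ N)
    {R : Subgroup Ω} (hQR : Q ≤ R) {ψ : R →* Ω} (hψ : ψ ∈ E.Hom R) {ν : MulAut Q}
    (hν : IsRes hQR ψ ν) : ν ∈ E.autGroup Q := by
  rw [mem_autGroup_iff E hQN]
  have h1 : ψ.comp (Subgroup.inclusion hQR) ∈ E.Hom Q := restrict_mem E hQR hψ
  have e : autHom ν = ψ.comp (Subgroup.inclusion hQR) := by
    ext x
    exact hν x
  rw [e]
  exact h1

/-- every `E`-map defined on an overgroup `R` of `R₀` maps `R₀` into itself -/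
theorem bfin_map_R0 {N : Subgroup Ω} (E : FusionSystem N) {Q : Subgroup Ω} (hQN : Q ≤ N)
    (hnorm : ∀ (R : Subgroup Ω) (φ : R →* Ω), φ ∈ E.Hom R → Q ≤ R → img φ Q = Q)
    (K : Subgroup (MulAut Q)) (hKle : K ≤ E.autGroup Q)
    (hKnorm : (K.subgroupOf (E.autGroup Q)).Normal)
    {R : Subgroup Ω} (hQR : Q ≤ R) {ψ : R →* Ω} (hψ : ψ ∈ E.Hom R) (g : R)
    (hg : (g : Ω) ∈ NKvia N Q.subtype K) : ψ g ∈ NKvia N Q.subtype K := by
  obtain ⟨hgN, κ, hκ, hκg⟩ := hg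
  have hinj := E.injective_of_mem hψ
  have himg := hnorm R ψ hψ hQR
  set ν := resAutOf hQR ψ hinj himg with hνdef
  have hνres : IsRes hQR ψ ν := resAutOf_isRes hQR ψ hinj himg
  have hν : ν ∈ E.autGroup Q := bfin_res_mem E hQN hQR hψ hνres
  have hκ' : ν * κ * ν⁻¹ ∈ K := by
    have h1 : (⟨κ, hKle hκ⟩ : E.autGroup Q) ∈ K.subgroupOf (E.autGroup Q) := by
      rw [Subgroup.mem_subgroupOf]; exact hκ
    have h2 := hKnorm.conj_mem _ h1 ⟨ν, hν⟩
    rw [Subgroup.mem_subgroupOf] at h2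
    exact h2
  refine ⟨(E.le_of_mem hψ).2 g, _, hκ', fun x => ?_⟩
  simp only [Subgroup.coe_subtype] at hκg ⊢
  rw [MulAut.mul_apply, MulAut.mul_apply, hνres]
  -- `incl (κ y) = g * incl y * g⁻¹` in `R`
  have h3 : ∀ y : Q, Subgroup.inclusion hQR (κ y) = g * Subgroup.inclusion hQR y * g⁻¹ := by
    intro y
    apply Subtype.ext
    simp only [Subgroup.coe_inclusion, Subgroup.coe_mul, Subgroup.coe_inv]
    exact hκg y
  rw [h3, map_mul, map_mul, map_inv, ← hνres, MulAut.apply_inv_self]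

/-- every `E`-map defined on `R₀` is onto `R₀` -/
theorem bfin_range_R0 {N : Subgroup Ω} [Finite N] (E : FusionSystem N) {Q : Subgroup Ω}
    (hQN : Q ≤ N)
    (hnorm : ∀ (R : Subgroup Ω) (φ : R →* Ω), φ ∈ E.Hom R → Q ≤ R → img φ Q = Q)
    (K : Subgroup (MulAut Q)) (hKle : K ≤ E.autGroup Q)
    (hKnorm : (K.subgroupOf (E.autGroup Q)).Normal)
    (hQR0 : Q ≤ NKvia N Q.subtype K) {ψ : NKvia N Q.subtype K →* Ω}
    (hψ : ψ ∈ E.Hom (NKvia N Q.subtype K)) : ψ.range = NKvia N Q.subtype K := by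
  have hfin : Finite (NKvia N Q.subtype K) := finite_of_le (NKvia_le N Q.subtype K)
  have hle : ψ.range ≤ NKvia N Q.subtype K := by
    rintro _ ⟨g, rfl⟩
    exact bfin_map_R0 E hQN hnorm K hKle hKnorm hQR0 hψ g g.2
  have hcard : Nat.card ψ.range = Nat.card (NKvia N Q.subtype K) :=
    (Nat.card_congr (MonoidHom.ofInjective (E.injective_of_mem hψ)).toEquiv).symm
  exact Subgroup.eq_of_le_of_card_ge hle (le_of_eq hcard.symm)

/-- `R₀` is fully automized and receptive -/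
theorem bfin_R0_sat {N : Subgroup Ω} [Finite N] (p : ℕ) (E : FusionSystem N) {Q : Subgroup Ω}
    (hQN : Q ≤ N)
    (hnorm : ∀ (R : Subgroup Ω) (φ : R →* Ω), φ ∈ E.Hom R → Q ≤ R → img φ Q = Q)
    (hsat : ∀ R, Q ≤ R → R ≤ N → R ≠ Q →
      ∃ R', E.IsConj R R' ∧ E.IsFullyAutomized p R' ∧ E.IsReceptive R')
    (K : Subgroup (MulAut Q)) (hKle : K ≤ E.autGroup Q)
    (hKnorm : (K.subgroupOf (E.autGroup Q)).Normal)
    (hQR0 : Q ≤ NKvia N Q.subtype K) (hR0 : ¬ (NKvia N Q.subtype K ≤ Q)) :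
    E.IsFullyAutomized p (NKvia N Q.subtype K) ∧ E.IsReceptive (NKvia N Q.subtype K) := by
  have hne : NKvia N Q.subtype K ≠ Q := fun h => hR0 (le_of_eq h)
  obtain ⟨R', ⟨φ, hφ, hr⟩, hfa, hrec⟩ := hsat _ hQR0 (NKvia_le N Q.subtype K) hne
  have : R' = NKvia N Q.subtype K := by
    rw [← hr]
    exact bfin_range_R0 E hQN hnorm K hKle hKnorm hQR0 hφ
  rw [this] at hfa hrec
  exact ⟨hfa, hrec⟩

/-- restriction `Aut_E(R) → Aut_E(Q)`, as a function -/
noncomputable def bfin_resFun {N : Subgroup Ω} (E : FusionSystem N) {Q R : Subgroup Ω} (hQN : Q ≤ N)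
    (hRN : R ≤ N) (hQR : Q ≤ R) (hnormR : ∀ φ ∈ E.Hom R, img φ Q = Q) (β : E.autGroup R) :
    E.autGroup Q :=
  ⟨resAutOf hQR (autHom β.1) (E.injective_of_mem ((mem_autGroup_iff E hRN β.1).1 β.2))
      (hnormR _ ((mem_autGroup_iff E hRN β.1).1 β.2)),
    bfin_res_mem E hQN hQR ((mem_autGroup_iff E hRN β.1).1 β.2) (resAutOf_isRes hQR _ _ _)⟩

theorem bfin_resFun_spec {N : Subgroup Ω} (E : FusionSystem N) {Q R : Subgroup Ω} (hQN : Q ≤ N)
    (hRN : R ≤ N) (hQR : Q ≤ R) (hnormR : ∀ φ ∈ E.Hom R, img φ Q = Q) (β : E.autGroup R) (x : Q) :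
    (((bfin_resFun E hQN hRN hQR hnormR β).1 x : Q) : Ω) =
      ((β.1 (Subgroup.inclusion hQR x) : R) : Ω) :=
  resAutOf_isRes hQR (autHom β.1) (E.injective_of_mem ((mem_autGroup_iff E hRN β.1).1 β.2))
      (hnormR _ ((mem_autGroup_iff E hRN β.1).1 β.2)) x

theorem bfin_resFun_incl {N : Subgroup Ω} (E : FusionSystem N) {Q R : Subgroup Ω} (hQN : Q ≤ N)
    (hRN : R ≤ N) (hQR : Q ≤ R) (hnormR : ∀ φ ∈ E.Hom R, img φ Q = Q) (β : E.autGroup R) (x : Q) :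
    Subgroup.inclusion hQR ((bfin_resFun E hQN hRN hQR hnormR β).1 x) =
      β.1 (Subgroup.inclusion hQR x) := by
  apply Subtype.ext
  rw [Subgroup.coe_inclusion]
  exact bfin_resFun_spec E hQN hRN hQR hnormR β x

/-- restriction `Aut_E(R) → Aut_E(Q)`, as a homomorphism -/
noncomputable def bfin_resHom {N : Subgroup Ω} (E : FusionSystem N) {Q R : Subgroup Ω} (hQN : Q ≤ N)
    (hRN : R ≤ N) (hQR : Q ≤ R) (hnormR : ∀ φ ∈ E.Hom R, img φ Q = Q) :
    E.autGroup R →* E.autGroup Q :=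
  MonoidHom.mk' (bfin_resFun E hQN hRN hQR hnormR) (by
    intro a b
    apply Subtype.ext
    apply MulEquiv.ext
    intro x
    apply Subtype.ext
    rw [bfin_resFun_spec]
    show (((a.1 * b.1) (Subgroup.inclusion hQR x) : R) : Ω) = _
    rw [MulAut.mul_apply]
    show _ = (((bfin_resFun E hQN hRN hQR hnormR a).1
      ((bfin_resFun E hQN hRN hQR hnormR b).1 x) : Q) : Ω)
    rw [bfin_resFun_spec, bfin_resFun_incl])

theorem bfin_resHom_spec {N : Subgroup Ω} (E : FusionSystem N) {Q R : Subgroup Ω} (hQN : Q ≤ N)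
    (hRN : R ≤ N) (hQR : Q ≤ R) (hnormR : ∀ φ ∈ E.Hom R, img φ Q = Q) (β : E.autGroup R) (x : Q) :
    (((bfin_resHom E hQN hRN hQR hnormR β).1 x : Q) : Ω) =
      ((β.1 (Subgroup.inclusion hQR x) : R) : Ω) :=
  bfin_resFun_spec E hQN hRN hQR hnormR β x

/-- `Q` is fully automized -/
theorem bfin_fa {N : Subgroup Ω} [Finite N] (p : ℕ) [Fact p.Prime] (E : FusionSystem N)
    {Q : Subgroup Ω} (hQN : Q ≤ N)
    (hnorm : ∀ (R : Subgroup Ω) (φ : R →* Ω), φ ∈ E.Hom R → Q ≤ R → img φ Q = Q)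
    (K : Subgroup (MulAut Q)) (hKle : K ≤ E.autGroup Q)
    (hKnorm : (K.subgroupOf (E.autGroup Q)).Normal)
    (hQR0 : Q ≤ NKvia N Q.subtype K)
    (hfaR0 : E.IsFullyAutomized p (NKvia N Q.subtype K))
    (hall : ∀ α ∈ E.autGroup Q, α ∈ resSet E hQR0) : E.IsFullyAutomized p Q := by
  have hR0N : NKvia N Q.subtype K ≤ N := NKvia_le N Q.subtype K
  have hnormR : ∀ φ ∈ E.Hom (NKvia N Q.subtype K), img φ Q = Q :=
    fun φ hφ => hnorm _ φ hφ hQR0
  have hsurj : Function.Surjective (bfin_resHom E hQN hR0N hQR0 hnormR) := by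
    rintro ⟨α, hα⟩
    obtain ⟨β, hβ, hβr, hβres⟩ := hall α hα
    have hb : (isoOfHom β (E.injective_of_mem hβ) hβr : MulAut (NKvia N Q.subtype K)) ∈
        E.autGroup (NKvia N Q.subtype K) := by
      rw [mem_autGroup_iff E hR0N]
      have e : autHom (isoOfHom β (E.injective_of_mem hβ) hβr : MulAut (NKvia N Q.subtype K))
          = β := by
        ext x; rfl
      rw [e]; exact hβ
    refine ⟨⟨_, hb⟩, ?_⟩
    apply Subtype.ext
    apply MulEquiv.ext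
    intro x
    apply Subtype.ext
    rw [bfin_resHom_spec]
    exact (hβres x).symm
  obtain ⟨-, T₀, hT₀⟩ := hfaR0
  have hfin : Finite (NKvia N Q.subtype K) := finite_of_le hR0N
  refine ⟨hQN, T₀.mapSurjective hsurj, ?_⟩
  rw [Sylow.coe_mapSurjective]
  ext α
  rw [Subgroup.mem_map, Subgroup.mem_subgroupOf]
  constructor
  · rintro ⟨β, hβ, rfl⟩
    have hβ' : β ∈ (autInducedBy N (NKvia N Q.subtype K)).subgroupOf
        (E.autGroup (NKvia N Q.subtype K)) := hT₀ ▸ hβ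
    rw [Subgroup.mem_subgroupOf, mem_autInducedBy_iff] at hβ'
    obtain ⟨g, hg, hgβ⟩ := hβ'
    rw [mem_autInducedBy_iff]
    refine ⟨g, hg, fun x => ?_⟩
    rw [bfin_resHom_spec, hgβ]
    rfl
  · intro hα
    rw [mem_autInducedBy_iff] at hα
    obtain ⟨g, hg, hgα⟩ := hα
    have hgR : g ∈ Subgroup.normalizer (NKvia N Q.subtype K : Set Ω) :=
      bfin_normalizes_R0 E hQN hnorm K hKle hKnorm hg
    refine ⟨⟨bfin_cAut _ g hgR, bfin_cAut_mem E hR0N g hg hgR⟩, ?_, ?_⟩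
    · have h1 : (⟨bfin_cAut _ g hgR, bfin_cAut_mem E hR0N g hg hgR⟩ :
          E.autGroup (NKvia N Q.subtype K)) ∈
          (autInducedBy N (NKvia N Q.subtype K)).subgroupOf
            (E.autGroup (NKvia N Q.subtype K)) := by
        rw [Subgroup.mem_subgroupOf, mem_autInducedBy_iff]
        exact ⟨g, hg, fun x => rfl⟩
      rw [← hT₀] at h1
      exact h1
    · apply Subtype.ext
      apply MulEquiv.ext
      intro x
      apply Subtype.ext
      rw [bfin_resHom_spec, hgα]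
      rfl

theorem bfin_pPart_le_of_dvd (p : ℕ) [Fact p.Prime] {a b : ℕ} (h : a ∣ b) (hb : b ≠ 0) :
    pPart p a ≤ pPart p b := by
  have ha : a ≠ 0 := fun h0 => hb (by rw [h0] at h; exact Nat.eq_zero_of_zero_dvd h)
  unfold pPart
  exact Nat.pow_le_pow_right (Fact.out : p.Prime).pos ((Nat.factorization_le_iff_dvd ha hb).2 h p)

/-- the automorphisms of `R` whose restriction to `Q` is induced by an element of `N` -/
def bfin_H (N Q R : Subgroup Ω) (hQR : Q ≤ R) (hNQ : N ≤ Subgroup.normalizer (Q : Set Ω)) :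
    Subgroup (MulAut R) where
  carrier := {κ | ∃ n ∈ N, ∀ x : Q, ((κ (Subgroup.inclusion hQR x) : R) : Ω) = n * x * n⁻¹}
  one_mem' := ⟨1, N.one_mem, fun x => by simp⟩
  mul_mem' := by
    rintro a b ⟨n, hn, ha⟩ ⟨m, hm, hb⟩
    refine ⟨n * m, N.mul_mem hn hm, fun x => ?_⟩
    rw [MulAut.mul_apply]
    have hmx : m * (x : Ω) * m⁻¹ ∈ Q := (Subgroup.mem_normalizer_iff.mp (hNQ hm) _).mp x.2
    have h1 : b (Subgroup.inclusion hQR x) = Subgroup.inclusion hQR ⟨m * x * m⁻¹, hmx⟩ :=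
      Subtype.ext (hb x)
    rw [h1, ha]
    simp only [mul_inv_rev]
    group
  inv_mem' := by
    rintro a ⟨n, hn, ha⟩
    refine ⟨n⁻¹, N.inv_mem hn, fun x => ?_⟩
    have hnx : n⁻¹ * (x : Ω) * n⁻¹⁻¹ ∈ Q :=
      (Subgroup.mem_normalizer_iff.mp (hNQ (N.inv_mem hn)) _).mp x.2
    have h1 : a (Subgroup.inclusion hQR ⟨n⁻¹ * x * n⁻¹⁻¹, hnx⟩) = Subgroup.inclusion hQR x := by
      apply Subtype.ext
      rw [ha]
      simp only [Subgroup.coe_inclusion]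
      group
    rw [← h1, MulAut.inv_apply_self]
    rfl

theorem bfin_mem_H {N Q R : Subgroup Ω} {hQR : Q ≤ R} {hNQ : N ≤ Subgroup.normalizer (Q : Set Ω)}
    {κ : MulAut R} : κ ∈ bfin_H N Q R hQR hNQ ↔
      ∃ n ∈ N, ∀ x : Q, ((κ (Subgroup.inclusion hQR x) : R) : Ω) = n * x * n⁻¹ := Iff.rfl

/-- `Q` is receptive -/
theorem bfin_rec {N : Subgroup Ω} [Finite N] (p : ℕ) [Fact p.Prime] (hN : IsPGroup p N)
    (E : FusionSystem N) {Q : Subgroup Ω} (hQN : Q ≤ N)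
    (hnorm : ∀ (R : Subgroup Ω) (φ : R →* Ω), φ ∈ E.Hom R → Q ≤ R → img φ Q = Q)
    (K : Subgroup (MulAut Q)) (hKle : K ≤ E.autGroup Q)
    (hKnorm : (K.subgroupOf (E.autGroup Q)).Normal)
    (hQR0 : Q ≤ NKvia N Q.subtype K)
    (hfaR0 : E.IsFullyAutomized p (NKvia N Q.subtype K))
    (hrecR0 : E.IsReceptive (NKvia N Q.subtype K))
    (hall : ∀ α ∈ E.autGroup Q, α ∈ resSet E hQR0) : E.IsReceptive Q := by
  refine ⟨hQN, ?_⟩
  intro P φ hφ hr
  -- `P = Q`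
  obtain ⟨ψ, hψ, -, hψr⟩ := exists_inv_mem E hφ hr
  have hPQ : Q = P := by
    have h1 := hnorm Q ψ hψ le_rfl
    rw [img_self, hψr] at h1
    exact h1.symm
  subst hPQ
  have hR0N : NKvia N Q.subtype K ≤ N := NKvia_le N Q.subtype K
  have hNQ : N ≤ Subgroup.normalizer (Q : Set Ω) := bfin_normalizes E hQN hnorm
  have hNR : N ≤ Subgroup.normalizer (NKvia N Q.subtype K : Set Ω) :=
    bfin_normalizes_R0 E hQN hnorm K hKle hKnorm
  have hfin : Finite (NKvia N Q.subtype K) := finite_of_le hR0N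
  -- the automorphism `α` of `Q` given by `φ`
  obtain ⟨α, hαφ⟩ : ∃ α : MulAut Q, ∀ x : Q, ((α x : Q) : Ω) = φ x :=
    ⟨isoOfHom φ (E.injective_of_mem hφ) hr, fun x => rfl⟩
  have hα : α ∈ E.autGroup Q := by
    rw [mem_autGroup_iff E hQN]
    have e : autHom α = φ := by
      ext x; exact hαφ x
    rw [e]; exact hφ
  obtain ⟨β, hβ, hβr, hβres⟩ := hall α hα
  obtain ⟨b, hbβ⟩ : ∃ b : MulAut (NKvia N Q.subtype K), ∀ y, ((b y : NKvia N Q.subtype K) : Ω) = β y :=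
    ⟨isoOfHom β (E.injective_of_mem hβ) hβr, fun y => rfl⟩
  have hb : b ∈ E.autGroup (NKvia N Q.subtype K) := by
    rw [mem_autGroup_iff E hR0N]
    have e : autHom b = β := by
      ext y; exact hbβ y
    rw [e]; exact hβ
  have hψ' : autHom b⁻¹ ∈ E.Hom (NKvia N Q.subtype K) :=
    (mem_autGroup_iff E hR0N _).1 (Subgroup.inv_mem _ hb)
  have hbQ : ∀ x : Q, b (Subgroup.inclusion hQR0 x) = Subgroup.inclusion hQR0 (α x) := by
    intro x
    apply Subtype.ext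
    rw [Subgroup.coe_inclusion, hbβ]
    exact (hβres x).symm
  have hbinvQ : ∀ x : Q, b⁻¹ (Subgroup.inclusion hQR0 x) = Subgroup.inclusion hQR0 (α⁻¹ x) := by
    intro x
    have h1 := hbQ (α⁻¹ x)
    rw [MulAut.apply_inv_self] at h1
    rw [← h1, MulAut.inv_apply_self]
  -- the subgroup `H`
  have hKS : KSvia N (NKvia N Q.subtype K).subtype (bfin_H N Q _ hQR0 hNQ) =
      autInducedBy N (NKvia N Q.subtype K) := by
    ext κ
    rw [mem_KSvia, mem_autInducedBy_iff]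
    constructor
    · rintro ⟨-, g, hg, hgκ⟩
      exact ⟨g, hg, fun x => by simpa using hgκ x⟩
    · rintro ⟨g, hg, hgκ⟩
      refine ⟨⟨g, hg, fun x => ?_⟩, g, hg, fun x => by simpa using hgκ x⟩
      rw [hgκ]
      rfl
  have hcard : Nat.card (KSvia N (NKvia N Q.subtype K).subtype (bfin_H N Q _ hQR0 hNQ)) =
      pPart p (Nat.card ↥(bfin_H N Q _ hQR0 hNQ ⊓ E.autGroup (NKvia N Q.subtype K))) := by
    have hT_le : autInducedBy N (NKvia N Q.subtype K) ≤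
        bfin_H N Q _ hQR0 hNQ ⊓ E.autGroup (NKvia N Q.subtype K) := by
      rw [← hKS]
      exact le_inf (KSvia_le _ _ _) (KSvia_le_autGroup E (subtype_mem E hR0N) _)
    rw [hKS]
    have h1 := (isFullyAutomized_iff_card E p hR0N).1 hfaR0
    have h2 := card_le_pPart_of_isPGroup p (autInducedBy_isPGroup hN (NKvia N Q.subtype K)) hT_le
    have h3 : pPart p (Nat.card ↥(bfin_H N Q _ hQR0 hNQ ⊓ E.autGroup (NKvia N Q.subtype K))) ≤
        pPart p (Nat.card (E.autGroup (NKvia N Q.subtype K))) :=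
      bfin_pPart_le_of_dvd p (Subgroup.card_dvd_of_le inf_le_right) Nat.card_pos.ne'
    omega
  have hrec' : E.IsReceptive ((NKvia N Q.subtype K).subtype).range := by
    rw [Subgroup.range_subtype]
    exact hrecR0
  obtain ⟨χ, hχ, ρ, hρ, hρspec⟩ := exists_extension_of_sylow p hN E hR0N
    (bfin_H N Q _ hQR0 hNQ) (subtype_mem E hR0N) hrec' hcard hψ'
  obtain ⟨⟨n, hn, hnχ⟩, -⟩ := hχ
  -- the extender lies in the domain of `ρ`
  have hext : extender N Q φ ≤ NKvia N (autHom b⁻¹) (bfin_H N Q _ hQR0 hNQ) := by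
    unfold extender
    rw [Subgroup.closure_le]
    rintro g ⟨hgN, hgQ, h, hh, hgh⟩
    have hgR : g ∈ Subgroup.normalizer (NKvia N Q.subtype K : Set Ω) := hNR hgN
    refine ⟨hgN, b * bfin_cAut _ g hgR * b⁻¹, ?_, ?_⟩
    · refine ⟨h, hh, fun x => ?_⟩
      rw [MulAut.mul_apply, MulAut.mul_apply, hbinvQ]
      have hgx : g * ((α⁻¹ x : Q) : Ω) * g⁻¹ ∈ Q :=
        (Subgroup.mem_normalizer_iff.mp hgQ _).mp (α⁻¹ x).2
      have h1 : bfin_cAut _ g hgR (Subgroup.inclusion hQR0 (α⁻¹ x)) =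
          Subgroup.inclusion hQR0 ⟨g * ((α⁻¹ x : Q) : Ω) * g⁻¹, hgx⟩ := Subtype.ext rfl
      rw [h1, hbQ, Subgroup.coe_inclusion, hαφ, hgh (α⁻¹ x) hgx, ← hαφ, MulAut.apply_inv_self]
    · intro y
      simp only [MonoidHom.comp_apply, Subgroup.coe_subtype, MulEquiv.coe_toMonoidHom]
      rw [MulAut.mul_apply, MulAut.mul_apply, MulAut.inv_apply_self]
      rfl
  have hextD : extender N Q φ ≤ (autHom b⁻¹).range ⊔
      NKvia N (autHom b⁻¹) (bfin_H N Q _ hQR0 hNQ) := hext.trans le_sup_right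
  -- `ρ` on `Q`
  have hρQ : ∀ (x : Q) (hx : (x : Ω) ∈ (autHom b⁻¹).range ⊔
      NKvia N (autHom b⁻¹) (bfin_H N Q _ hQR0 hNQ)), ρ ⟨x, hx⟩ = n * φ x * n⁻¹ := by
    intro x hx
    have h1 : autHom b⁻¹ (b (Subgroup.inclusion hQR0 x)) = (x : Ω) := by
      simp only [MonoidHom.comp_apply, Subgroup.coe_subtype, MulEquiv.coe_toMonoidHom]
      rw [MulAut.inv_apply_self]
      rfl
    have h2 := hρspec (b (Subgroup.inclusion hQR0 x)) (by rw [h1]; exact hx)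
    have h3 : ρ ⟨x, hx⟩ = ρ ⟨autHom b⁻¹ (b (Subgroup.inclusion hQR0 x)), by rw [h1]; exact hx⟩ := by
      congr 1
      exact Subtype.ext h1.symm
    rw [h3, h2, hbQ, Subgroup.coe_subtype, hnχ, hαφ]
  -- the extension
  have hρN : ∀ z : extender N Q φ, (ρ.comp (Subgroup.inclusion hextD)) z ∈ N :=
    fun z => (E.le_of_mem hρ).2 _
  refine ⟨(conjHom N n⁻¹).comp ((ρ.comp (Subgroup.inclusion hextD)).codRestrict N hρN),
    E.comp_mem (restrict_mem E hextD hρ) (E.conj_mem le_rfl (N.inv_mem hn)) hρN, ?_⟩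
  intro x hP hN'
  have h1 := hρQ ⟨x, hP⟩ (hextD hN')
  simp only [MonoidHom.comp_apply, conjHom, MulEquiv.coe_toMonoidHom, MulAut.conj_apply,
    Subgroup.coe_subtype, MonoidHom.codRestrict_apply]
  have h2 : ρ (Subgroup.inclusion hextD ⟨x, hN'⟩) = n * φ ⟨x, hP⟩ * n⁻¹ := h1
  rw [h2]
  group

/-- **BFINAL** -/
theorem bfinal {N : Subgroup Ω} [Finite N] (p : ℕ) [Fact p.Prime] (hN : IsPGroup p N)
    (E : FusionSystem N) {Q : Subgroup Ω} (hQN : Q ≤ N)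
    (hnorm : ∀ (R : Subgroup Ω) (φ : R →* Ω), φ ∈ E.Hom R → Q ≤ R → img φ Q = Q)
    (hsat : ∀ R, Q ≤ R → R ≤ N → R ≠ Q →
      ∃ R', E.IsConj R R' ∧ E.IsFullyAutomized p R' ∧ E.IsReceptive R')
    (K : Subgroup (MulAut Q)) (hKle : K ≤ E.autGroup Q)
    (hKnorm : (K.subgroupOf (E.autGroup Q)).Normal)
    (hQR0 : Q ≤ NKvia N Q.subtype K) (hR0 : ¬ (NKvia N Q.subtype K ≤ Q))
    (hall : ∀ α ∈ E.autGroup Q, α ∈ resSet E hQR0) :
    E.IsFullyAutomized p Q ∧ E.IsReceptive Q := by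
  obtain ⟨hfa, hrec⟩ := bfin_R0_sat p E hQN hnorm hsat K hKle hKnorm hQR0 hR0
  exact ⟨bfin_fa p E hQN hnorm K hKle hKnorm hQR0 hfa hall,
    bfin_rec p hN E hQN hnorm K hKle hKnorm hQR0 hfa hrec hall⟩

end Cfsg.Agent.Helper16.BC
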