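import Mathlib
import Cfsg.Agent.Helper18.QD2
import Cfsg.Agent.Helper1.PGroup

/-!
Quasi-dihedral groups: the maximal subgroups, commutator subgroup, Frattini subgroup, centre.
-/

set_option autoImplicit false

namespace Cfsg.Agent.Helper18.QD

open scoped commutatorElement

theorem isCoatom_of_index_two {G : Type*} [Group G] {M : Subgroup G} (h : M.index = 2) :
    IsCoatom M := by
  constructor
  · intro htop; rw [htop, Subgroup.index_top] at h; norm_num at h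
  · intro K hK
    obtain ⟨g, hgK, hgM⟩ := SetLike.exists_of_lt hK
    rw [eq_top_iff]
    intro s _
    by_cases hs : s ∈ M
    · exact hK.le hs
    · have : s * g ∈ M :=
        (Subgroup.mul_mem_iff_of_index_two h).mpr ⟨fun h' => absurd h' hs, fun h' => absurd h' hgM⟩
      have h2 : s = (s * g) * g⁻¹ := by group
      rw [h2]; exact K.mul_mem (hK.le this) (K.inv_mem hgK)

theorem odd_unit {n : ℕ} (j : ZMod (2 ^ n)) : ∃ u : ZMod (2 ^ n), u * (2 * j + 1) = 1 := by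
  have hc : Nat.Coprime (2 * j.val + 1) (2 ^ n) := by
    apply Nat.Coprime.pow_right
    rw [Nat.coprime_two_right]
    exact ⟨j.val, rfl⟩
  obtain ⟨u, hu⟩ := (ZMod.isUnit_iff_coprime (2 * j.val + 1) (2 ^ n)).mpr hc
  refine ⟨↑u⁻¹, ?_⟩
  have : (2 * j + 1 : ZMod (2 ^ n)) = ((2 * j.val + 1 : ℕ) : ZMod (2 ^ n)) := by
    push_cast; rw [ZMod.natCast_zmod_val]
  rw [this, ← hu]; simp

namespace QDData

variable {S : Type*} [Group S] (D : QDData S)

/-- the cyclic maximal subgroup -/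
def R : Subgroup S where
  carrier := {s | ∃ i, s = D.r i}
  mul_mem' := by rintro _ _ ⟨i, rfl⟩ ⟨j, rfl⟩; exact ⟨i + j, (D.r_add i j).symm⟩
  one_mem' := ⟨0, D.r_zero.symm⟩
  inv_mem' := by rintro _ ⟨i, rfl⟩; exact ⟨-i, D.r_inv i⟩

/-- the subgroup generated by `x ^ 2` -/
def R2 : Subgroup S where
  carrier := {s | ∃ j, s = D.r (2 * j)}
  mul_mem' := by rintro _ _ ⟨i, rfl⟩ ⟨j, rfl⟩; exact ⟨i + j, by rw [mul_add, r_add]⟩
  one_mem' := ⟨0, by rw [mul_zero, r_zero]⟩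
  inv_mem' := by rintro _ ⟨i, rfl⟩; exact ⟨-i, by rw [r_inv]; congr 1; ring⟩

/-- the dihedral maximal subgroup -/
def Md : Subgroup S where
  carrier := {s | ∃ j, s = D.r (2 * j) ∨ s = D.sr (2 * j)}
  mul_mem' := by
    rintro _ _ ⟨i, rfl | rfl⟩ ⟨j, rfl | rfl⟩
    · exact ⟨i + j, Or.inl (by rw [mul_add, r_add])⟩
    · exact ⟨i + j, Or.inr (by rw [r_mul_sr, mul_add])⟩
    · exact ⟨i + D.k * j, Or.inr (by rw [sr_mul_r]; congr 1; ring)⟩
    · exact ⟨i + D.k * j, Or.inl (by rw [sr_mul_sr]; congr 1; ring)⟩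
  one_mem' := ⟨0, Or.inl (by rw [mul_zero, r_zero])⟩
  inv_mem' := by
    rintro _ ⟨i, rfl | rfl⟩
    · exact ⟨-i, Or.inl (by rw [r_inv]; congr 1; ring)⟩
    · exact ⟨i + hh D.n * i, Or.inr (by rw [sr_inv]; congr 1; ring)⟩

/-- the generalized quaternion maximal subgroup -/
def Mq : Subgroup S where
  carrier := {s | ∃ j, s = D.r (2 * j) ∨ s = D.sr (2 * j + 1)}
  mul_mem' := by
    rintro _ _ ⟨i, rfl | rfl⟩ ⟨j, rfl | rfl⟩
    · exact ⟨i + j, Or.inl (by rw [mul_add, r_add])⟩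
    · exact ⟨i + j, Or.inr (by rw [r_mul_sr]; congr 1; ring)⟩
    · exact ⟨i + D.k * j, Or.inr (by rw [sr_mul_r]; congr 1; ring)⟩
    · refine ⟨i + D.k * j + qq D.n, Or.inl ?_⟩
      rw [sr_mul_sr]; congr 1
      have := two_mul_qq D.hn2
      unfold k
      linear_combination -this
  one_mem' := ⟨0, Or.inl (by rw [mul_zero, r_zero])⟩
  inv_mem' := by
    rintro _ ⟨i, rfl | rfl⟩
    · exact ⟨-i, Or.inl (by rw [r_inv]; congr 1; ring)⟩
    · refine ⟨i + qq D.n * (2 * i + 1), Or.inr ?_⟩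
      rw [sr_inv]; congr 1
      have := two_mul_qq D.hn2
      linear_combination -(2 * i + 1) * this

theorem mem_R {s : S} : s ∈ D.R ↔ ∃ i, s = D.r i := Iff.rfl
theorem mem_R2 {s : S} : s ∈ D.R2 ↔ ∃ j, s = D.r (2 * j) := Iff.rfl
theorem mem_Md {s : S} : s ∈ D.Md ↔ ∃ j, s = D.r (2 * j) ∨ s = D.sr (2 * j) := Iff.rfl
theorem mem_Mq {s : S} : s ∈ D.Mq ↔ ∃ j, s = D.r (2 * j) ∨ s = D.sr (2 * j + 1) := Iff.rfl

theorem r_mem_R (i : ZMod (2 ^ D.n)) : D.r i ∈ D.R := ⟨i, rfl⟩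

theorem sr_not_mem_R (i : ZMod (2 ^ D.n)) : D.sr i ∉ D.R := by
  rintro ⟨j, hj⟩; exact D.r_ne_sr _ _ hj.symm

theorem r_mem_R2 {i : ZMod (2 ^ D.n)} : D.r i ∈ D.R2 ↔ ∃ j, i = 2 * j := by
  constructor
  · rintro ⟨j, hj⟩; exact ⟨j, D.r_inj.mp hj⟩
  · rintro ⟨j, rfl⟩; exact ⟨j, rfl⟩

theorem sr_not_mem_R2 (i : ZMod (2 ^ D.n)) : D.sr i ∉ D.R2 := by
  rintro ⟨j, hj⟩; exact D.r_ne_sr _ _ hj.symm

theorem r_mem_Md {i : ZMod (2 ^ D.n)} : D.r i ∈ D.Md ↔ ∃ j, i = 2 * j := by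
  constructor
  · rintro ⟨j, hj | hj⟩
    · exact ⟨j, D.r_inj.mp hj⟩
    · exact absurd hj (D.r_ne_sr _ _)
  · rintro ⟨j, rfl⟩; exact ⟨j, Or.inl rfl⟩

theorem sr_mem_Md {i : ZMod (2 ^ D.n)} : D.sr i ∈ D.Md ↔ ∃ j, i = 2 * j := by
  constructor
  · rintro ⟨j, hj | hj⟩
    · exact absurd hj.symm (D.r_ne_sr _ _)
    · exact ⟨j, D.sr_inj.mp hj⟩
  · rintro ⟨j, rfl⟩; exact ⟨j, Or.inr rfl⟩

theorem r_mem_Mq {i : ZMod (2 ^ D.n)} : D.r i ∈ D.Mq ↔ ∃ j, i = 2 * j := by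
  constructor
  · rintro ⟨j, hj | hj⟩
    · exact ⟨j, D.r_inj.mp hj⟩
    · exact absurd hj (D.r_ne_sr _ _)
  · rintro ⟨j, rfl⟩; exact ⟨j, Or.inl rfl⟩

theorem sr_mem_Mq {i : ZMod (2 ^ D.n)} : D.sr i ∈ D.Mq ↔ ∃ j, i = 2 * j + 1 := by
  constructor
  · rintro ⟨j, hj | hj⟩
    · exact absurd hj.symm (D.r_ne_sr _ _)
    · exact ⟨j, D.sr_inj.mp hj⟩
  · rintro ⟨j, rfl⟩; exact ⟨j, Or.inr rfl⟩

theorem not_even_odd (j : ZMod (2 ^ D.n)) : ¬ ∃ j', 2 * j + 1 = 2 * j' := by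
  rintro ⟨j', h⟩; exact two_mul_ne_odd D.hn1 j' j h.symm

theorem not_odd_even (j : ZMod (2 ^ D.n)) : ¬ ∃ j', 2 * j = 2 * j' + 1 := by
  rintro ⟨j', h⟩; exact two_mul_ne_odd D.hn1 j j' h

theorem k_odd : D.k = 2 * (qq D.n - 1) + 1 := by
  unfold k
  have := two_mul_qq D.hn2
  linear_combination -this

variable [Finite S]

theorem R_index : D.R.index = 2 := by
  rw [Subgroup.index_eq_two_iff]
  refine ⟨D.y, fun b => ?_⟩
  rcases D.exists_rep b with ⟨i, rfl⟩ | ⟨i, rfl⟩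
  · exact Or.inr ⟨D.r_mem_R i, D.sr_not_mem_R i⟩
  · refine Or.inl ⟨?_, D.sr_not_mem_R i⟩
    rw [← D.sr_zero, sr_mul_sr]; exact D.r_mem_R _

theorem Md_index : D.Md.index = 2 := by
  rw [Subgroup.index_eq_two_iff]
  refine ⟨D.r 1, fun b => ?_⟩
  rcases D.exists_rep b with ⟨i, rfl⟩ | ⟨i, rfl⟩
  · rw [← r_add, r_mem_Md, r_mem_Md]
    rcases even_or_odd i with ⟨j, rfl⟩ | ⟨j, rfl⟩
    · exact Or.inr ⟨⟨j, rfl⟩, D.not_even_odd j⟩
    · exact Or.inl ⟨⟨j + 1, by ring⟩, D.not_even_odd j⟩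
  · rw [sr_mul_r, sr_mem_Md, sr_mem_Md, mul_one, D.k_odd]
    rcases even_or_odd i with ⟨j, rfl⟩ | ⟨j, rfl⟩
    · refine Or.inr ⟨⟨j, rfl⟩, ?_⟩
      have e : 2 * j + (2 * (qq D.n - 1) + 1) = 2 * (j + qq D.n - 1) + 1 := by ring
      rw [e]; exact D.not_even_odd _
    · exact Or.inl ⟨⟨j + qq D.n, by ring⟩, D.not_even_odd j⟩

theorem Mq_index : D.Mq.index = 2 := by
  rw [Subgroup.index_eq_two_iff]
  refine ⟨D.r 1, fun b => ?_⟩
  rcases D.exists_rep b with ⟨i, rfl⟩ | ⟨i, rfl⟩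
  · rw [← r_add, r_mem_Mq, r_mem_Mq]
    rcases even_or_odd i with ⟨j, rfl⟩ | ⟨j, rfl⟩
    · exact Or.inr ⟨⟨j, rfl⟩, D.not_even_odd j⟩
    · exact Or.inl ⟨⟨j + 1, by ring⟩, D.not_even_odd j⟩
  · rw [sr_mul_r, sr_mem_Mq, sr_mem_Mq, mul_one, D.k_odd]
    rcases even_or_odd i with ⟨j, rfl⟩ | ⟨j, rfl⟩
    · exact Or.inl ⟨⟨j + qq D.n - 1, by ring⟩, D.not_odd_even j⟩
    · refine Or.inr ⟨⟨j, rfl⟩, ?_⟩
      have e : 2 * j + 1 + (2 * (qq D.n - 1) + 1) = 2 * (j + qq D.n) := by ring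
      rw [e]; exact D.not_odd_even _

theorem R_coatom : IsCoatom D.R := isCoatom_of_index_two D.R_index
theorem Md_coatom : IsCoatom D.Md := isCoatom_of_index_two D.Md_index
theorem Mq_coatom : IsCoatom D.Mq := isCoatom_of_index_two D.Mq_index

theorem card_of_index_two {M : Subgroup S} (h : M.index = 2) : Nat.card M = 2 ^ D.n := by
  have := Subgroup.card_mul_index M
  rw [h, D.card, pow_succ] at this
  omega

theorem isPGroup (D : QDData S) : IsPGroup 2 S := IsPGroup.of_card D.card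

/-- if `r i ∈ K` then `r (m * i) ∈ K` -/
theorem r_mul_mem (K : Subgroup S) {i : ZMod (2 ^ D.n)} (h : D.r i ∈ K) (m : ZMod (2 ^ D.n)) :
    D.r (m * i) ∈ K := by
  have hm : ((m.val : ℕ) : ZMod (2 ^ D.n)) = m := ZMod.natCast_zmod_val m
  rw [← hm, r_natCast_mul]
  exact K.pow_mem h _

theorem R2_le_of_r_two_mem (K : Subgroup S) (h : D.r 2 ∈ K) : D.R2 ≤ K := by
  rintro _ ⟨j, rfl⟩
  rw [mul_comm]
  exact D.r_mul_mem K h j

theorem R_le_of_r_one_mem (K : Subgroup S) (h : D.r 1 ∈ K) : D.R ≤ K := by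
  rintro _ ⟨j, rfl⟩
  have := D.r_mul_mem K h j
  rwa [mul_one] at this

theorem Md_le (K : Subgroup S) (h2 : D.r 2 ∈ K) (hy : D.y ∈ K) : D.Md ≤ K := by
  rintro _ ⟨j, rfl | rfl⟩
  · exact D.R2_le_of_r_two_mem K h2 ⟨j, rfl⟩
  · rw [sr_eq]; exact K.mul_mem (D.R2_le_of_r_two_mem K h2 ⟨j, rfl⟩) hy

theorem Mq_le (K : Subgroup S) (h2 : D.r 2 ∈ K) (hy : D.sr 1 ∈ K) : D.Mq ≤ K := by
  rintro _ ⟨j, rfl | rfl⟩
  · exact D.R2_le_of_r_two_mem K h2 ⟨j, rfl⟩
  · rw [← r_mul_sr]; exact K.mul_mem (D.R2_le_of_r_two_mem K h2 ⟨j, rfl⟩) hy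

theorem r_two_mem_coatom {M : Subgroup S} (hM : IsCoatom M) : D.r 2 ∈ M := by
  have : Fact (Nat.Prime 2) := ⟨Nat.prime_two⟩
  have := Cfsg.Agent.Helper1.IsPGroup.pow_mem_coatom D.isPGroup hM (D.r 1)
  rw [r_sq, mul_one] at this
  exact this

/-- the three maximal subgroups -/
theorem coatom_cases {M : Subgroup S} (hM : IsCoatom M) : M = D.R ∨ M = D.Mq ∨ M = D.Md := by
  have : Fact (Nat.Prime 2) := ⟨Nat.prime_two⟩
  have h2 := D.r_two_mem_coatom hM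
  have hidx : M.index = 2 := Cfsg.Agent.Helper1.IsPGroup.coatom_index D.isPGroup hM
  by_cases h1 : D.r 1 ∈ M
  · left
    exact ((D.R_coatom.le_iff_eq hM.1).mp (D.R_le_of_r_one_mem M h1))
  · by_cases hy : D.y ∈ M
    · right; right
      exact ((D.Md_coatom.le_iff_eq hM.1).mp (D.Md_le M h2 hy))
    · right; left
      have : D.r 1 * D.y ∈ M :=
        (Subgroup.mul_mem_iff_of_index_two hidx).mpr ⟨fun h' => absurd h' h1, fun h' => absurd h' hy⟩
      exact ((D.Mq_coatom.le_iff_eq hM.1).mp (D.Mq_le M h2 this))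

theorem R_ne_Mq : D.R ≠ D.Mq := by
  intro h
  have : D.r 1 ∈ D.Mq := h ▸ D.r_mem_R 1
  rw [r_mem_Mq] at this
  obtain ⟨j, hj⟩ := this
  have := D.not_even_odd 0
  apply this
  exact ⟨j, by rw [mul_zero, zero_add]; exact hj⟩

theorem R_ne_Md : D.R ≠ D.Md := by
  intro h
  have : D.r 1 ∈ D.Md := h ▸ D.r_mem_R 1
  rw [r_mem_Md] at this
  obtain ⟨j, hj⟩ := this
  have := D.not_even_odd 0
  apply this
  exact ⟨j, by rw [mul_zero, zero_add]; exact hj⟩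

theorem Mq_ne_Md : D.Mq ≠ D.Md := by
  intro h
  have : D.sr 1 ∈ D.Md := h ▸ (D.sr_mem_Mq.mpr ⟨0, by rw [mul_zero, zero_add]⟩)
  rw [sr_mem_Md] at this
  obtain ⟨j, hj⟩ := this
  have := D.not_even_odd 0
  apply this
  exact ⟨j, by rw [mul_zero, zero_add]; exact hj⟩

/-! ### commutator subgroup -/

theorem commutator_le_R2 : commutator S ≤ D.R2 := by
  rw [commutator_def, Subgroup.commutator_le]
  have key : ∀ (i j : ZMod (2 ^ D.n)), ⁅D.r i, D.sr j⁆ ∈ D.R2 := by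
    intro i j
    rw [commutatorElement_def, r_conj_sr, sr_inv, sr_mul_sr, r_mem_R2]
    refine ⟨i * (1 - qq D.n), ?_⟩
    have h1 := two_mul_qq D.hn2
    have h2 := hh_mul_hh D.hn2
    unfold k
    linear_combination i * h1 + j * h2
  intro a _ b _
  rcases D.exists_rep a with ⟨i, rfl⟩ | ⟨i, rfl⟩ <;> rcases D.exists_rep b with ⟨j, rfl⟩ | ⟨j, rfl⟩
  · rw [commutatorElement_def, r_conj_r, mul_inv_cancel]; exact D.R2.one_mem
  · exact key i j
  · rw [← commutatorElement_inv]; exact D.R2.inv_mem (key j i)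
  · rw [commutatorElement_def, sr_mul_sr, sr_inv, sr_inv, r_mul_sr, sr_mul_sr, r_mem_R2]
    refine ⟨i + D.k * j + qq D.n * i + D.k * qq D.n * j, ?_⟩
    have h1 := two_mul_qq D.hn2
    unfold k
    linear_combination -(i + (hh D.n - 1) * j) * h1

theorem r_two_mem_commutator : D.r 2 ∈ commutator S := by
  have hc : ⁅D.y, D.x⁆ ∈ commutator S := by
    rw [commutator_def]
    exact Subgroup.commutator_mem_commutator (Subgroup.mem_top _) (Subgroup.mem_top _)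
  rw [commutatorElement_def, ← D.r_one, y_conj_r, ← r_neg, ← r_add] at hc
  have := D.r_mul_mem _ hc (-(1 + qq D.n))
  have e : -(1 + qq D.n) * (D.k * 1 + -1) = 2 := by
    have := unit_identity D.hn
    unfold k
    linear_combination this
  rwa [e] at this

theorem commutator_eq_R2 : commutator S = D.R2 :=
  le_antisymm D.commutator_le_R2 (D.R2_le_of_r_two_mem _ D.r_two_mem_commutator)

theorem frattini_eq_R2 : frattini S = D.R2 := by
  apply le_antisymm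
  · intro s hs
    have h1 : s ∈ D.R := frattini_le_coatom D.R_coatom hs
    have h2 : s ∈ D.Md := frattini_le_coatom D.Md_coatom hs
    obtain ⟨i, rfl⟩ := h1
    rw [r_mem_Md] at h2
    exact D.r_mem_R2.mpr h2
  · rw [Cfsg.Agent.Helper1.le_frattini_iff]
    intro M hM
    exact D.R2_le_of_r_two_mem M (D.r_two_mem_coatom hM)

theorem R2_eq_zpowers : D.R2 = Subgroup.zpowers (D.r 2) := by
  apply le_antisymm
  · exact D.R2_le_of_r_two_mem _ (Subgroup.mem_zpowers _)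
  · rw [Subgroup.zpowers_le]; exact ⟨1, by rw [mul_one]⟩

theorem R_eq_zpowers : D.R = Subgroup.zpowers D.x := by
  apply le_antisymm
  · exact D.R_le_of_r_one_mem _ (by rw [D.r_one]; exact Subgroup.mem_zpowers _)
  · rw [Subgroup.zpowers_le]; exact ⟨1, D.r_one.symm⟩

theorem orderOf_r_two : orderOf (D.r 2) = 2 ^ (D.n - 1) := by
  have h2 : D.r 2 = D.x ^ 2 := by
    have := D.r_natCast 2
    rwa [Nat.cast_ofNat] at this
  rw [h2, orderOf_pow, D.hx]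
  have hpow : 2 ^ D.n = 2 * 2 ^ (D.n - 1) := by
    rw [← pow_succ']; congr 1; have := D.hn; omega
  have hg : Nat.gcd (2 ^ D.n) 2 = 2 := by
    rw [hpow]; exact Nat.gcd_mul_right_left _ _
  rw [hg, hpow]
  exact Nat.mul_div_cancel_left _ (by norm_num)

theorem card_R2 : Nat.card D.R2 = 2 ^ (D.n - 1) := by
  rw [R2_eq_zpowers, Nat.card_zpowers, orderOf_r_two]

theorem R_isCyclic : IsCyclic D.R := by
  rw [R_eq_zpowers]; infer_instance

theorem R2_le_R : D.R2 ≤ D.R := by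
  rintro _ ⟨j, rfl⟩; exact ⟨_, rfl⟩

theorem center_eq : Subgroup.center S = Subgroup.zpowers D.z := by
  apply le_antisymm
  · intro s hs
    rw [Subgroup.mem_center_iff] at hs
    rcases D.exists_rep s with ⟨i, rfl⟩ | ⟨i, rfl⟩
    · have h1 := hs D.y
      rw [y_mul_r, ← sr_eq, ← sr_eq, sr_inj] at h1
      have h2 : 2 * i = 0 := by
        apply two_mul_eq_zero_of_mul D.hn
        unfold k at h1
        linear_combination -h1
      rcases (two_mul_eq_zero_iff D.hn1 i).mp h2 with rfl | rfl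
      · rw [r_zero]; exact Subgroup.one_mem _
      · exact Subgroup.mem_zpowers _
    · exfalso
      have h1 := hs (D.r 1)
      rw [r_mul_sr, sr_mul_r, sr_inj] at h1
      apply D.k_ne_one
      linear_combination -h1
  · rw [Subgroup.zpowers_le, Subgroup.mem_center_iff]
    intro g; exact (D.z_central g).symm

theorem card_center (D : QDData S) : Nat.card (Subgroup.center S) = 2 := by
  rw [center_eq, Nat.card_zpowers]
  exact (D.invol_iff _).mpr (Or.inl rfl)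

end QDData

end Cfsg.Agent.Helper18.QD
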