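import Mathlib
import Cfsg.Agent.Helper18.QD3

/-!
Quasi-dihedral groups: the subgroups `sub m i0 = {r c, sr (i0 + c) : 2^m c = 0}`, their conjugates,
centralizers and normalizers; recognition of subgroups of this form.
-/

set_option autoImplicit false

namespace Cfsg.Agent.Helper18.QD

section zmod
variable {n : ℕ}

theorem two_pow_mul_hh {m : ℕ} (hn : 1 ≤ n) (hm : 1 ≤ m) : (2 : ZMod (2 ^ n)) ^ m * hh n = 0 := by
  obtain ⟨m', rfl⟩ : ∃ m', m = m' + 1 := ⟨m - 1, by omega⟩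
  rw [pow_succ, mul_assoc, two_mul_hh hn, mul_zero]

theorem two_pow_mul_eq_zero_iff {m : ℕ} (hmn : m ≤ n) (c : ZMod (2 ^ n)) :
    (2 : ZMod (2 ^ n)) ^ m * c = 0 ↔ ∃ c', c = 2 ^ (n - m) * c' := by
  constructor
  · intro h
    have hi : ((c.val : ℕ) : ZMod (2 ^ n)) = c := ZMod.natCast_zmod_val c
    have h2 : ((2 ^ m * c.val : ℕ) : ZMod (2 ^ n)) = 0 := by push_cast; rw [hi]; exact h
    rw [ZMod.natCast_eq_zero_iff] at h2
    have hpow : 2 ^ n = 2 ^ m * 2 ^ (n - m) := by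
      rw [← pow_add]; congr 1; omega
    have h2' : 2 ^ m * 2 ^ (n - m) ∣ 2 ^ m * c.val := by rw [← hpow]; exact h2
    have h3 : 2 ^ (n - m) ∣ c.val := (Nat.mul_dvd_mul_iff_left (by positivity)).mp h2'
    obtain ⟨c', hc'⟩ := h3
    refine ⟨(c' : ZMod (2 ^ n)), ?_⟩
    rw [← hi, hc']; push_cast; ring
  · rintro ⟨c', rfl⟩
    rw [← mul_assoc, ← pow_add]
    have : m + (n - m) = n := by omega
    rw [this, two_pow_self_eq_zero, zero_mul]

theorem two_pow_mul_two_pow_sub {m : ℕ} (hm : m + 1 ≤ n) :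
    (2 : ZMod (2 ^ n)) ^ m * 2 ^ (n - m - 1) = hh n := by
  unfold hh
  rw [← pow_add]; congr 1; omega

end zmod

namespace QDData

variable {S : Type*} [Group S] (D : QDData S)

/-- `{r c, sr (i0 + c) : 2^m c = 0}` -/
def sub (m : ℕ) (hm : 1 ≤ m) (i0 : ZMod (2 ^ D.n)) : Subgroup S where
  carrier := {s | (∃ c, 2 ^ m * c = 0 ∧ s = D.r c) ∨ (∃ c, 2 ^ m * c = 0 ∧ s = D.sr (i0 + c))}
  mul_mem' := by
    have hh0 := two_pow_mul_hh (n := D.n) D.hn1 hm
    rintro _ _ (⟨c, hc, rfl⟩ | ⟨c, hc, rfl⟩) (⟨c', hc', rfl⟩ | ⟨c', hc', rfl⟩)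
    · exact Or.inl ⟨c + c', by rw [mul_add, hc, hc', add_zero], (D.r_add _ _).symm⟩
    · exact Or.inr ⟨c + c', by rw [mul_add, hc, hc', add_zero], by rw [r_mul_sr]; congr 1; ring⟩
    · refine Or.inr ⟨c + D.k * c', ?_, by rw [sr_mul_r]; congr 1; ring⟩
      linear_combination hc + D.k * hc'
    · refine Or.inl ⟨c + D.k * c' + hh D.n * i0, ?_, by rw [sr_mul_sr]; congr 1; unfold k; ring⟩
      linear_combination hc + D.k * hc' + i0 * hh0
  one_mem' := Or.inl ⟨0, mul_zero _, D.r_zero.symm⟩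
  inv_mem' := by
    have hh0 := two_pow_mul_hh (n := D.n) D.hn1 hm
    rintro _ (⟨c, hc, rfl⟩ | ⟨c, hc, rfl⟩)
    · exact Or.inl ⟨-c, by rw [mul_neg, hc, neg_zero], D.r_inv c⟩
    · refine Or.inr ⟨c + hh D.n * (i0 + c), ?_, by rw [sr_inv]; congr 1; ring⟩
      linear_combination hc + (i0 + c) * hh0

theorem r_mem_sub {m : ℕ} {hm : 1 ≤ m} {i0 c : ZMod (2 ^ D.n)} :
    D.r c ∈ D.sub m hm i0 ↔ 2 ^ m * c = 0 := by
  constructor
  · rintro (⟨c', hc', h⟩ | ⟨c', _, h⟩)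
    · rw [D.r_inj.mp h]; exact hc'
    · exact absurd h (D.r_ne_sr _ _)
  · intro h; exact Or.inl ⟨c, h, rfl⟩

theorem sr_mem_sub {m : ℕ} {hm : 1 ≤ m} {i0 i : ZMod (2 ^ D.n)} :
    D.sr i ∈ D.sub m hm i0 ↔ 2 ^ m * (i - i0) = 0 := by
  constructor
  · rintro (⟨c', _, h⟩ | ⟨c', hc', h⟩)
    · exact absurd h.symm (D.r_ne_sr _ _)
    · rw [D.sr_inj.mp h]; rw [add_sub_cancel_left]; exact hc'
  · intro h; exact Or.inr ⟨i - i0, h, by congr 1; ring⟩

theorem sr_self_mem_sub {m : ℕ} {hm : 1 ≤ m} {i0 : ZMod (2 ^ D.n)} : D.sr i0 ∈ D.sub m hm i0 := by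
  rw [sr_mem_sub, sub_self, mul_zero]

/-- conjugation by `r a` -/
theorem map_conj_sub {m : ℕ} (hm : 1 ≤ m) (i0 a : ZMod (2 ^ D.n)) :
    (D.sub m hm i0).map (MulAut.conj (D.r a)).toMonoidHom = D.sub m hm (i0 + a * (2 - hh D.n)) := by
  ext u
  rw [Subgroup.mem_map]
  constructor
  · rintro ⟨t, ht, rfl⟩
    rcases ht with ⟨c, hc, rfl⟩ | ⟨c, hc, rfl⟩
    · show D.r a * D.r c * (D.r a)⁻¹ ∈ _
      rw [r_conj_r]; exact D.r_mem_sub.mpr hc
    · show D.r a * D.sr (i0 + c) * (D.r a)⁻¹ ∈ _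
      rw [r_conj_sr, sr_mem_sub]
      rw [← hc]; congr 1; ring
  · rintro (⟨c, hc, rfl⟩ | ⟨c, hc, rfl⟩)
    · refine ⟨D.r c, D.r_mem_sub.mpr hc, ?_⟩
      show D.r a * D.r c * (D.r a)⁻¹ = _
      rw [r_conj_r]
    · refine ⟨D.sr (i0 + c), D.sr_mem_sub.mpr (by rw [add_sub_cancel_left]; exact hc), ?_⟩
      show D.r a * D.sr (i0 + c) * (D.r a)⁻¹ = _
      rw [r_conj_sr]; congr 1; ring

/-- `sub m i0` and `sub m (i0 + 2 j)` are conjugate -/
theorem map_conj_sub_two {m : ℕ} (hm : 1 ≤ m) (i0 j : ZMod (2 ^ D.n)) :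
    (D.sub m hm i0).map (MulAut.conj (D.r (j * (1 + qq D.n)))).toMonoidHom
      = D.sub m hm (i0 + 2 * j) := by
  rw [map_conj_sub]; congr 1
  have := unit_identity D.hn
  linear_combination j * this

/-- elements commuting with `sr i0` -/
theorem comm_sr [Finite S] {s : S} {i0 : ZMod (2 ^ D.n)} (h : D.sr i0 * s = s * D.sr i0) :
    s ∈ D.sub 1 le_rfl i0 := by
  rcases D.exists_rep s with ⟨c, rfl⟩ | ⟨i, rfl⟩
  · rw [sr_mul_r, r_mul_sr, sr_inj] at h
    rw [r_mem_sub, pow_one]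
    apply two_mul_eq_zero_of_mul D.hn
    unfold k at h
    linear_combination -h
  · rw [sr_mul_sr, sr_mul_sr, r_inj] at h
    rw [sr_mem_sub, pow_one]
    apply two_mul_eq_zero_of_mul D.hn
    unfold k at h
    linear_combination -h

/-- `sr i` does not commute with `r (qq)` -/
theorem sr_not_comm_r_qq (i : ZMod (2 ^ D.n)) : D.sr i * D.r (qq D.n) ≠ D.r (qq D.n) * D.sr i := by
  rw [sr_mul_r, r_mul_sr, Ne, sr_inj]
  intro h
  have h1 := two_mul_qq D.hn2
  have h2 := qq_mul_hh D.hn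
  unfold k at h
  have : hh D.n = 0 := by linear_combination -h + h2 - h1
  exact hh_ne_zero D.hn1 this

/-- the normalizer of `sub m i0` has index 2 over it -/
theorem relIndex_normalizer_sub [Finite S] {m : ℕ} (hm : 1 ≤ m) (hmn : m + 1 ≤ D.n)
    (i0 : ZMod (2 ^ D.n)) :
    (D.sub m hm i0).relIndex (Subgroup.normalizer ((D.sub m hm i0 : Subgroup S) : Set S)) = 2 := by
  have hh0 := two_pow_mul_hh (n := D.n) D.hn1 hm
  have he := two_pow_mul_two_pow_sub (n := D.n) hmn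
  have hhh := hh_mul_hh D.hn2
  have h2h := two_mul_hh D.hn1
  have hne := hh_ne_zero D.hn1
  set e : ZMod (2 ^ D.n) := 2 ^ (D.n - m - 1) with he_def
  rw [Subgroup.relIndex_eq_two_iff]
  refine ⟨D.r e, ?_, ?_⟩
  · rw [Subgroup.mem_normalizer_iff]
    intro u
    rcases D.exists_rep u with ⟨c, rfl⟩ | ⟨i, rfl⟩
    · rw [r_conj_r]
    · rw [r_conj_sr, sr_mem_sub, sr_mem_sub]
      have : (2 : ZMod (2 ^ D.n)) ^ m * (i + e * (2 - hh D.n) - i0) = 2 ^ m * (i - i0) := by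
        linear_combination (2 - hh D.n) * he + h2h - hhh
      rw [this]
  · intro b hb
    rw [Subgroup.mem_normalizer_iff] at hb
    have hb0 := (hb (D.sr i0)).mp D.sr_self_mem_sub
    -- key: from `2 * t = 0` get the Xor
    have key : ∀ t : ZMod (2 ^ D.n), 2 * t = 0 → Xor (t + hh D.n = 0) (t = 0) := by
      intro t ht
      rcases (two_mul_eq_zero_iff D.hn1 t).mp ht with rfl | rfl
      · exact Or.inr ⟨rfl, by rw [zero_add]; exact hne⟩
      · exact Or.inl ⟨by linear_combination h2h, hne⟩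
    rcases D.exists_rep b with ⟨c, rfl⟩ | ⟨i, rfl⟩
    · rw [r_conj_sr, sr_mem_sub] at hb0
      rw [← r_add, r_mem_sub, r_mem_sub]
      have h2t : 2 * ((2 : ZMod (2 ^ D.n)) ^ m * c) = 0 := by
        linear_combination hb0 + c * hh0
      have := key _ h2t
      have e1 : (2 : ZMod (2 ^ D.n)) ^ m * (c + e) = 2 ^ m * c + hh D.n := by
        linear_combination he
      rw [e1]; exact this
    · rw [sr_mul_sr, sr_inv, r_mul_sr, sr_mem_sub] at hb0
      rw [sr_mul_r, sr_mem_sub, sr_mem_sub]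
      have h2t : 2 * ((2 : ZMod (2 ^ D.n)) ^ m * (i - i0)) = 0 := by
        unfold k at hb0
        linear_combination hb0 - (i + i0) * hh0
      have := key _ h2t
      have e1 : (2 : ZMod (2 ^ D.n)) ^ m * (i + D.k * e - i0) = 2 ^ m * (i - i0) + hh D.n := by
        unfold k
        linear_combination (hh D.n - 1) * he + hhh - h2h
      rw [e1]; exact this

/-- recognition of the subgroups `sub m i` -/
theorem subgroup_form [Finite S] (K : Subgroup S) {m : ℕ} (hm : 1 ≤ m) (hmn : m ≤ D.n)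
    (hcard : Nat.card K = 2 ^ (m + 1)) (hexp : ∀ c, D.r c ∈ K → 2 ^ m * c = 0) :
    ∃ i, D.sr i ∈ K ∧ K = D.sub m hm i := by
  set e : ZMod (2 ^ D.n) := 2 ^ (D.n - m) with he_def
  -- the subgroup `R_m`
  have hRm_card : Nat.card (Subgroup.zpowers (D.r e)) = 2 ^ m := by
    rw [Nat.card_zpowers]
    have h2 : D.r e = D.x ^ (2 ^ (D.n - m)) := by
      have := D.r_natCast (2 ^ (D.n - m))
      rw [← this, he_def]; push_cast; rfl
    rw [h2, orderOf_pow, D.hx]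
    have hdvd : 2 ^ (D.n - m) ∣ 2 ^ D.n := pow_dvd_pow 2 (Nat.sub_le _ _)
    rw [Nat.gcd_eq_right hdvd, Nat.pow_div (Nat.sub_le _ _) (by norm_num)]
    congr 1; omega
  have hKR_le : K ⊓ D.R ≤ Subgroup.zpowers (D.r e) := by
    rintro u ⟨huK, c, rfl⟩
    obtain ⟨c', rfl⟩ := (two_pow_mul_eq_zero_iff hmn c).mp (hexp c huK)
    rw [mul_comm]
    exact D.r_mul_mem _ (Subgroup.mem_zpowers _) c'
  -- K is not contained in R
  have hnot : ¬ K ≤ D.R := by
    intro hle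
    have h1 : K ≤ Subgroup.zpowers (D.r e) := fun u hu => hKR_le ⟨hu, hle hu⟩
    have h2 := Subgroup.card_le_of_le h1
    rw [hcard, hRm_card] at h2
    have : 2 ^ m < 2 ^ (m + 1) := Nat.pow_lt_pow_right (by norm_num) (by omega)
    omega
  obtain ⟨u, huK, huR⟩ := SetLike.not_le_iff_exists.mp hnot
  rcases D.exists_rep u with ⟨c, rfl⟩ | ⟨i, rfl⟩
  · exact absurd (D.r_mem_R c) huR
  refine ⟨i, huK, ?_⟩
  -- relIndex
  have : D.R.Normal := Subgroup.normal_of_index_eq_two D.R_index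
  have hrel : D.R.relIndex K = 2 := by
    have h1 : D.R.relIndex K ∣ 2 := by
      rw [← D.R_index]; exact Subgroup.relIndex_dvd_index_of_normal _ _
    have h2 : D.R.relIndex K ≠ 1 := by
      rw [Ne, Subgroup.relIndex_eq_one]; exact hnot
    rcases (Nat.dvd_prime Nat.prime_two).mp h1 with h | h
    · exact absurd h h2
    · exact h
  have hcardKR : Nat.card ↥(K ⊓ D.R) = 2 ^ m := by
    have h1 := Subgroup.relIndex_mul_relIndex (⊥ : Subgroup S) (K ⊓ D.R) K bot_le inf_le_left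
    rw [Subgroup.relIndex_bot_left, Subgroup.relIndex_bot_left,
      Subgroup.inf_relIndex_left, hrel, hcard, pow_succ] at h1
    omega
  have hKR_eq : K ⊓ D.R = Subgroup.zpowers (D.r e) :=
    Subgroup.eq_of_le_of_card_ge hKR_le (by rw [hcardKR, hRm_card])
  have hre : D.r e ∈ K := by
    have : D.r e ∈ K ⊓ D.R := by rw [hKR_eq]; exact Subgroup.mem_zpowers _
    exact this.1
  apply le_antisymm
  · intro v hv
    rcases D.exists_rep v with ⟨c, rfl⟩ | ⟨i', rfl⟩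
    · exact D.r_mem_sub.mpr (hexp c hv)
    · rw [sr_mem_sub]
      apply hexp
      have := K.mul_mem hv (K.inv_mem huK)
      rw [sr_inv, sr_mul_sr] at this
      have e1 : i' + D.k * (i + hh D.n * i) = i' - i := by
        unfold k
        have := hh_mul_hh D.hn2
        linear_combination i * this
      rwa [e1] at this
  · rintro v (⟨c, hc, rfl⟩ | ⟨c, hc, rfl⟩)
    · obtain ⟨c', rfl⟩ := (two_pow_mul_eq_zero_iff hmn c).mp hc
      rw [mul_comm]
      exact D.r_mul_mem K hre c'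
    · obtain ⟨c', rfl⟩ := (two_pow_mul_eq_zero_iff hmn c).mp hc
      rw [add_comm, ← r_mul_sr, mul_comm]
      exact K.mul_mem (D.r_mul_mem K hre c') huK

end QDData

end Cfsg.Agent.Helper18.QD
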