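import Mathlib
import Cfsg.Agent.Helper18.QD5

/-!
Quasi-dihedral groups: Klein four subgroups (S1190) and quaternion subgroups (S1191).
-/

set_option autoImplicit false

namespace Cfsg.Agent.Helper18.QD

theorem q8_pow_four : ∀ g : QuaternionGroup 2, g ^ 4 = 1 := by decide

theorem q8_invol_central : ∀ g h : QuaternionGroup 2, g ^ 2 = 1 → g * h = h * g := by decide

namespace QDData

variable {S : Type*} [Group S] (D : QDData S) [Finite S]

theorem klein_form (T : Subgroup S) [IsKleinFour T] : ∃ j, T = D.sub 1 le_rfl (2 * j) := by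
  have hcard : Nat.card T = 2 ^ (1 + 1) := by rw [IsKleinFour.card_four]; norm_num
  have hsq : ∀ t ∈ T, t * t = 1 := by
    intro t ht
    have := IsKleinFour.mul_self (⟨t, ht⟩ : T)
    exact congrArg Subtype.val this
  have hexp : ∀ c, D.r c ∈ T → 2 ^ 1 * c = 0 := by
    intro c hc
    have := hsq _ hc
    rw [← r_add, r_eq_one_iff] at this
    rw [pow_one]; linear_combination this
  obtain ⟨i, hi, hT⟩ := D.subgroup_form T le_rfl D.hn1 hcard hexp
  have h2 := hsq _ hi
  rw [sr_mul_self, r_eq_one_iff] at h2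
  rcases even_or_odd i with ⟨j, rfl⟩ | ⟨j, rfl⟩
  · exact ⟨j, hT⟩
  · rw [hh_mul_odd D.hn1] at h2
    exact absurd h2 (hh_ne_zero D.hn1)

theorem klein_main (D : QDData S) :
    (∀ T₁ T₂ : Subgroup S, IsKleinFour T₁ → IsKleinFour T₂ →
      ∃ s : S, T₁.map (MulAut.conj s).toMonoidHom = T₂) ∧
    (∀ T : Subgroup S, IsKleinFour T → Subgroup.centralizer (T : Set S) = T ∧
      T.relIndex (Subgroup.normalizer (T : Set S)) = 2) := by
  constructor
  · intro T₁ T₂ h₁ h₂
    obtain ⟨j₁, rfl⟩ := D.klein_form T₁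
    obtain ⟨j₂, rfl⟩ := D.klein_form T₂
    refine ⟨D.r ((j₂ - j₁) * (1 + qq D.n)), ?_⟩
    rw [map_conj_sub_two]; congr 1; ring
  · intro T hT
    have hcomm : ∀ a ∈ T, ∀ b ∈ T, a * b = b * a := by
      intro a ha b hb
      have h1 := IsKleinFour.isMulCommutative (G := T)
      have := h1.is_comm.comm (⟨a, ha⟩ : T) ⟨b, hb⟩
      exact congrArg Subtype.val this
    obtain ⟨j, rfl⟩ := D.klein_form T
    constructor
    · apply le_antisymm
      · intro s hs
        rw [Subgroup.mem_centralizer_iff] at hs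
        exact D.comm_sr (hs _ D.sr_self_mem_sub)
      · intro s hs
        rw [Subgroup.mem_centralizer_iff]
        intro t ht
        exact hcomm t ht s hs
    · exact D.relIndex_normalizer_sub le_rfl (by have := D.hn; omega) _

theorem quat_form (Q : Subgroup S) (hQ : Nonempty (Q ≃* QuaternionGroup 2)) :
    ∃ j, Q = D.sub 2 (by norm_num) (2 * j + 1) := by
  obtain ⟨φ⟩ := hQ
  have hcard : Nat.card Q = 2 ^ (2 + 1) := by
    rw [Nat.card_congr φ.toEquiv, Nat.card_eq_fintype_card, QuaternionGroup.card]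
    norm_num
  have hexp4 : ∀ t ∈ Q, t ^ 4 = 1 := by
    intro t ht
    have h1 := q8_pow_four (φ ⟨t, ht⟩)
    rw [← map_pow, ← map_one φ] at h1
    have := φ.injective h1
    exact congrArg Subtype.val this
  have hexp : ∀ c, D.r c ∈ Q → 2 ^ 2 * c = 0 := by
    intro c hc
    have := hexp4 _ hc
    rw [← r_natCast_mul, r_eq_one_iff] at this
    push_cast at this
    rw [← this]; norm_num
  obtain ⟨i, hi, hQ'⟩ := D.subgroup_form Q (by norm_num) D.hn2 hcard hexp
  rcases even_or_odd i with ⟨j, rfl⟩ | ⟨j, rfl⟩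
  · exfalso
    have hq : D.r (qq D.n) ∈ Q := by
      rw [hQ', r_mem_sub]
      have := four_mul_qq D.hn2
      rw [← this]; norm_num
    have h1 : (φ ⟨_, hi⟩) ^ 2 = 1 := by
      rw [← map_pow, ← map_one φ]
      congr 1
      apply Subtype.ext
      exact D.sr_even_sq j
    have h2 := q8_invol_central (φ ⟨_, hi⟩) (φ ⟨_, hq⟩) h1
    rw [← map_mul, ← map_mul] at h2
    have h3 := congrArg Subtype.val (φ.injective h2)
    exact D.sr_not_comm_r_qq _ h3
  · exact ⟨j, hQ'⟩

theorem centralizer_sub_two (i : ZMod (2 ^ D.n)) (s : S) :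
    s ∈ Subgroup.centralizer ((D.sub 2 (by norm_num) i : Subgroup S) : Set S) ↔ s = 1 ∨ s = D.z := by
  constructor
  · intro hs
    rw [Subgroup.mem_centralizer_iff] at hs
    have h1 := D.comm_sr (hs _ D.sr_self_mem_sub)
    have hq : D.r (qq D.n) ∈ D.sub 2 (by norm_num) i := by
      rw [r_mem_sub]
      have := four_mul_qq D.hn2
      rw [← this]; norm_num
    have h2 := hs _ hq
    rcases h1 with ⟨c, hc, rfl⟩ | ⟨c, hc, rfl⟩
    · rw [pow_one] at hc
      rcases (two_mul_eq_zero_iff D.hn1 c).mp hc with rfl | rfl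
      · left; exact D.r_zero
      · right; rfl
    · exact absurd h2.symm (D.sr_not_comm_r_qq _)
  · rintro (rfl | rfl)
    · exact Subgroup.one_mem _
    · rw [Subgroup.mem_centralizer_iff]
      intro t _
      exact (D.z_central t).symm

theorem quat_main (D : QDData S) :
    (∀ Q₁ Q₂ : Subgroup S, Nonempty (Q₁ ≃* QuaternionGroup 2) → Nonempty (Q₂ ≃* QuaternionGroup 2) →
      ∃ s : S, Q₁.map (MulAut.conj s).toMonoidHom = Q₂) ∧
    (∀ Q : Subgroup S, Nonempty (Q ≃* QuaternionGroup 2) →
      Subgroup.centralizer (Q : Set S) = (Subgroup.center Q).map Q.subtype ∧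
      Q.relIndex (Subgroup.normalizer (Q : Set S)) = 2) := by
  constructor
  · intro Q₁ Q₂ h₁ h₂
    obtain ⟨j₁, rfl⟩ := D.quat_form Q₁ h₁
    obtain ⟨j₂, rfl⟩ := D.quat_form Q₂ h₂
    refine ⟨D.r ((j₂ - j₁) * (1 + qq D.n)), ?_⟩
    rw [map_conj_sub_two]; congr 1; ring
  · intro Q hQ
    obtain ⟨j, rfl⟩ := D.quat_form Q hQ
    constructor
    · ext s
      rw [centralizer_sub_two, Subgroup.mem_map]
      constructor
      · have hz : D.z ∈ D.sub 2 (by norm_num) (2 * j + 1) := by
          unfold z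
          rw [r_mem_sub]
          exact two_pow_mul_hh D.hn1 (by norm_num)
        rintro (rfl | rfl)
        · exact ⟨1, Subgroup.one_mem _, rfl⟩
        · refine ⟨⟨D.z, hz⟩, ?_, rfl⟩
          rw [Subgroup.mem_center_iff]
          intro g
          apply Subtype.ext
          exact (D.z_central g).symm
      · rintro ⟨u, hu, rfl⟩
        rw [Subgroup.mem_center_iff] at hu
        rw [← centralizer_sub_two (i := 2 * j + 1), Subgroup.mem_centralizer_iff]
        intro t ht
        have := hu ⟨t, ht⟩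
        exact congrArg Subtype.val this
    · exact D.relIndex_normalizer_sub (by norm_num) (by have := D.hn; omega) _

end QDData

end Cfsg.Agent.Helper18.QD
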