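import Mathlib
import Cfsg.Agent.Helper18.QD6
import Cfsg.Agent.Helper18.Wr5
import Cfsg.Agent.Helper16.AutTwoGroup
import Cfsg.Agent.Helper2.QuaternionLift

/-!
Quasi-dihedral groups: every subgroup has a 2-group of automorphisms, or is a four-group, or is a
quaternion group of order 8.
-/

set_option autoImplicit false

namespace Cfsg.Agent.Helper18.QD

namespace QDData

variable {S : Type*} [Group S] [Finite S]

theorem sr_pow_four (D : QDData S) (i : ZMod (2 ^ D.n)) : D.sr i ^ 4 = 1 := by
  have : D.sr i ^ 4 = (D.sr i ^ 2) ^ 2 := by rw [← pow_mul]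
  rw [this, sr_sq, r_sq, r_eq_one_iff]
  have := two_mul_hh D.hn1
  linear_combination i * this

theorem subgroup_aut (D : QDData S) (K : Subgroup S) :
    IsPGroup 2 (MulAut K) ∨ IsKleinFour K ∨ Nonempty (K ≃* QuaternionGroup 2) := by
  obtain ⟨b, -, hb⟩ := (Nat.dvd_prime_pow Nat.prime_two).mp
    (D.card ▸ Subgroup.card_subgroup_dvd_card K)
  by_cases hK : K ≤ D.R
  · left
    have := D.R_isCyclic
    have : IsCyclic K := Subgroup.isCyclic_of_le hK
    exact Cfsg.Agent.Helper16.isPGroup_mulAut_of_isCyclic b hb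
  · obtain ⟨g, hgK, hgR⟩ := SetLike.not_le_iff_exists.mp hK
    rcases D.exists_rep g with ⟨i, rfl⟩ | ⟨i₀, rfl⟩
    · exact absurd (D.r_mem_R i) hgR
    have := D.R_isCyclic
    have hB : IsCyclic ↥(K ⊓ D.R) := Subgroup.isCyclic_of_le inf_le_right
    obtain ⟨⟨x, hxB⟩, hgen⟩ := IsCyclic.exists_generator (α := ↥(K ⊓ D.R))
    set x' : K := ⟨x, hxB.1⟩ with hx'
    have hmem : ∀ y : K, y ∈ Subgroup.zpowers x' ↔ (y : S) ∈ D.R := by
      intro y
      constructor
      · intro hy
        obtain ⟨k, rfl⟩ := Subgroup.mem_zpowers_iff.mp hy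
        rw [Subgroup.coe_zpow]
        exact Subgroup.zpow_mem _ hxB.2 k
      · intro hy
        obtain ⟨k, hk⟩ := Subgroup.mem_zpowers_iff.mp (hgen ⟨y, ⟨y.2, hy⟩⟩)
        rw [Subgroup.mem_zpowers_iff]
        refine ⟨k, ?_⟩
        apply Subtype.ext
        have := congrArg Subtype.val hk
        rw [Subgroup.coe_zpow] at this ⊢
        exact this
    have hidx : (Subgroup.zpowers x').index = 2 := by
      rw [Subgroup.index_eq_two_iff]
      refine ⟨⟨D.sr i₀, hgK⟩, fun y => ?_⟩
      rw [hmem, hmem]
      obtain ⟨y, hy⟩ := y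
      rcases D.exists_rep y with ⟨i, rfl⟩ | ⟨i, rfl⟩
      · refine Or.inr ⟨D.r_mem_R i, ?_⟩
        show D.r i * D.sr i₀ ∉ D.R
        rw [r_mul_sr]; exact D.sr_not_mem_R _
      · refine Or.inl ⟨?_, D.sr_not_mem_R i⟩
        show D.sr i * D.sr i₀ ∈ D.R
        rw [sr_mul_sr]; exact D.r_mem_R _
    obtain ⟨j, -, hj⟩ := (Nat.dvd_prime_pow Nat.prime_two).mp (hb ▸ orderOf_dvd_natCard x')
    have hcardK : Nat.card K = 2 ^ j * 2 := by
      have := Subgroup.card_mul_index (Subgroup.zpowers x')
      rw [hidx, Nat.card_zpowers, hj] at this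
      exact this.symm
    have hout : ∀ y : K, y ∉ Subgroup.zpowers x' → ∃ i, (y : S) = D.sr i := by
      intro y hy
      rw [hmem] at hy
      rcases D.exists_rep (y : S) with ⟨i, hi⟩ | ⟨i, hi⟩
      · exact absurd (hi ▸ D.r_mem_R i) hy
      · exact ⟨i, hi⟩
    have hout4 : ∀ y : K, y ∉ Subgroup.zpowers x' → orderOf y ∣ 4 := by
      intro y hy
      obtain ⟨i, hi⟩ := hout y hy
      apply orderOf_dvd_of_pow_eq_one
      apply Subtype.ext
      rw [Subgroup.coe_pow, hi, Subgroup.coe_one]
      exact D.sr_pow_four i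
    -- generic: use helper16 when no outside element has order 2^j
    have hgeneric : 1 ≤ j → (∀ y : K, y ∉ Subgroup.zpowers x' → orderOf y ≠ 2 ^ j) →
        IsPGroup 2 (MulAut K) := fun h1 h2 =>
      Cfsg.Agent.Helper16.isPGroup_mulAut_of_index_two x' j h1 hj hidx h2
    rcases j with _ | _ | _ | j
    · left
      rw [pow_zero, one_mul] at hcardK
      have hp : Fact (Nat.Prime 2) := ⟨Nat.prime_two⟩
      have : IsCyclic K := isCyclic_of_prime_card hcardK
      exact Cfsg.Agent.Helper16.isPGroup_mulAut_of_isCyclic 1 (by rw [hcardK]; norm_num)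
    · have hcard4 : Nat.card K = 4 := by rw [hcardK]; norm_num
      by_cases hall : ∀ y : K, y ∉ Subgroup.zpowers x' → (y : S) * y = 1
      · right; left
        apply Cfsg.Agent.Helper18.Wr.isKleinFour_of_card_of_sq K hcard4
        intro g hg
        by_cases hgz : (⟨g, hg⟩ : K) ∈ Subgroup.zpowers x'
        · obtain ⟨k, hk⟩ := Subgroup.mem_zpowers_iff.mp hgz
          have h2 : x' ^ 2 = 1 := by
            have := pow_orderOf_eq_one x'
            rwa [hj] at this
          have : (⟨g, hg⟩ : K) * ⟨g, hg⟩ = 1 := by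
            rw [← hk, ← zpow_add, ← two_mul, zpow_mul, zpow_ofNat, h2, one_zpow]
          exact congrArg Subtype.val this
        · exact hall ⟨g, hg⟩ hgz
      · left
        push Not at hall
        obtain ⟨y, hy, hy2⟩ := hall
        have h4 := hout4 y hy
        have hord : orderOf y = 4 := by
          have h2 : y ^ 2 ≠ 1 := by
            intro h
            apply hy2
            have := congrArg Subtype.val h
            rw [Subgroup.coe_pow, pow_two] at this
            exact this
          have h4' : y ^ 4 = 1 := orderOf_dvd_iff_pow_eq_one.mp h4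
          exact (orderOf_eq_four_iff y).mpr ⟨h4', h2⟩
        have : IsCyclic K := isCyclic_of_orderOf_eq_card y (by rw [hord, hcard4])
        exact Cfsg.Agent.Helper16.isPGroup_mulAut_of_isCyclic 2 (by rw [hcard4]; norm_num)
    · have hcard8 : Nat.card K = 8 := by rw [hcardK]; norm_num
      by_cases hex : ∃ y : K, y ∉ Subgroup.zpowers x' ∧ orderOf y = 4
      · right; right
        obtain ⟨y, hy, hy4⟩ := hex
        obtain ⟨i, hi⟩ := hout y hy
        -- i is odd
        have hy4' : orderOf (D.sr i) = 4 := by rw [← hi, Subgroup.orderOf_coe, hy4]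
        obtain ⟨j', rfl⟩ : ∃ j', i = 2 * j' + 1 := by
          rcases (D.order_four_iff _).mp hy4' with h | h | ⟨j', h⟩
          · exact absurd h.symm (D.r_ne_sr _ _)
          · exact absurd h.symm (D.r_ne_sr _ _)
          · exact ⟨j', D.sr_inj.mp h⟩
        -- r q ∈ K
        have hx4 : orderOf x = 4 := by
          have : orderOf x' = 4 := by rw [hj]; norm_num
          rw [← this, ← Subgroup.orderOf_coe]
        have hq : D.r (qq D.n) ∈ K := by
          rcases (D.order_four_iff _).mp hx4 with h | h | ⟨j'', h⟩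
          · rw [← h]; exact hxB.1
          · have : D.r (qq D.n) = x⁻¹ := by rw [h, ← r_neg, neg_neg]
            rw [this]; exact K.inv_mem hxB.1
          · exfalso
            obtain ⟨c, hc⟩ := hxB.2
            rw [hc] at h
            exact D.r_ne_sr _ _ h
        have hsrK : D.sr (2 * j' + 1) ∈ K := hi ▸ y.2
        refine Cfsg.Agent.Helper2.QLift.nonempty_mulEquiv_quaternionGroup 2 (by rw [hcard8])
          ⟨_, hq⟩ ⟨_, hsrK⟩ ?_ ?_ ?_ ?_
        · rw [Subgroup.orderOf_mk]
          exact (D.order_four_iff _).mpr (Or.inl rfl)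
        · apply Subtype.ext
          show D.sr (2 * j' + 1) * D.sr (2 * j' + 1) = D.r (qq D.n) ^ 2
          rw [sr_mul_self, r_sq, hh_mul_odd D.hn1, two_mul_qq D.hn2]
        · apply Subtype.ext
          show D.sr (2 * j' + 1) * D.r (qq D.n) * (D.sr (2 * j' + 1))⁻¹ = (D.r (qq D.n))⁻¹
          rw [sr_conj_r, ← r_neg, r_inj]
          unfold k
          have := qq_mul_hh D.hn
          linear_combination this
        · intro h
          obtain ⟨k, hk⟩ := Subgroup.mem_zpowers_iff.mp h
          have h2 := congrArg Subtype.val hk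
          rw [Subgroup.coe_zpow] at h2
          have : D.r (qq D.n) ^ k ∈ D.R := Subgroup.zpow_mem _ (D.r_mem_R _) k
          rw [h2] at this
          exact D.sr_not_mem_R _ this
      · left
        push Not at hex
        exact hgeneric (by norm_num) (fun y hy => by
          have := hex y hy
          norm_num; exact this)
    · left
      apply hgeneric (by omega)
      intro y hy hord
      have h4 := hout4 y hy
      rw [hord] at h4
      have h5 := Nat.le_of_dvd (by norm_num) h4
      have : 8 ≤ 2 ^ (j + 1 + 1 + 1) := by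
        calc 8 = 2 ^ 3 := by norm_num
          _ ≤ 2 ^ (j + 1 + 1 + 1) := Nat.pow_le_pow_right (by norm_num) (by omega)
      omega

end QDData

end Cfsg.Agent.Helper18.QD
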