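import Mathlib
import Cfsg.Prelude.Def_Transfer
import Cfsg.Agent.Helper18.QD7
import Cfsg.Agent.Helper18.DihSylow

/-!
Groups with quasi-dihedral Sylow 2-subgroups: the nilpotent case (S1207).
-/

set_option autoImplicit false

namespace Cfsg.Agent.Helper18.QD

section generic

variable {G : Type*} [Group G]

theorem orderOf_conj' (g x : G) : orderOf (g * x * g⁻¹) = orderOf x := by
  have := MulEquiv.orderOf_eq (MulAut.conj g) x
  rwa [MulAut.conj_apply] at this

/-- odd-order elements of `N` lie in any subgroup of relative index 2 -/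
theorem mem_of_relIndex_two (H N : Subgroup G) (h : H.relIndex N = 2) (g : G) (hg : g ∈ N)
    (hodd : Nat.Coprime (orderOf g) 2) : g ∈ H := by
  have hidx : (H.subgroupOf N).index = 2 := h
  set g' : N := ⟨g, hg⟩ with hg'
  have hsq : g' * g' ∈ H.subgroupOf N := (Subgroup.mul_mem_iff_of_index_two hidx).mpr Iff.rfl
  have hord : orderOf g' = orderOf g := Subgroup.orderOf_mk g hg
  have hoddn : Odd (orderOf g) := Nat.coprime_two_right.mp hodd
  obtain ⟨m, hm⟩ := hoddn
  have h1 : (g' * g') ^ (m + 1) = g' := by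
    rw [← pow_two, ← pow_mul]
    have : 2 * (m + 1) = orderOf g' + 1 := by rw [hord, hm]; ring
    rw [this, pow_succ, pow_orderOf_eq_one, one_mul]
  have h2 : g' ∈ H.subgroupOf N := by
    rw [← h1]; exact Subgroup.pow_mem _ hsq _
  exact Subgroup.mem_subgroupOf.mp h2

theorem normalizer_conj (P P₂ : Subgroup G) (s g : G) (hg : g ∈ Subgroup.normalizer (P : Set G))
    (h1 : ∀ p ∈ P, s * p * s⁻¹ ∈ P₂) (h2 : ∀ t ∈ P₂, s⁻¹ * t * s ∈ P) :
    s * g * s⁻¹ ∈ Subgroup.normalizer (P₂ : Set G) := by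
  rw [Subgroup.mem_normalizer_iff] at hg ⊢
  intro h
  have e : s * g * s⁻¹ * h * (s * g * s⁻¹)⁻¹ = s * (g * (s⁻¹ * h * s) * g⁻¹) * s⁻¹ := by group
  constructor
  · intro hh
    rw [e]
    exact h1 _ ((hg _).mp (h2 h hh))
  · intro hh
    rw [e] at hh
    have h3 := h2 _ hh
    have e2 : s⁻¹ * (s * (g * (s⁻¹ * h * s) * g⁻¹) * s⁻¹) * s = g * (s⁻¹ * h * s) * g⁻¹ := by group
    rw [e2] at h3
    have h4 := (hg _).mpr h3
    have h5 := h1 _ h4
    have e3 : s * (s⁻¹ * h * s) * s⁻¹ = h := by group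
    rwa [e3] at h5

theorem centralizer_conj_back (P P₂ : Subgroup G) (s x : G)
    (hx : s * x * s⁻¹ ∈ Subgroup.centralizer (P₂ : Set G))
    (h1 : ∀ p ∈ P, s * p * s⁻¹ ∈ P₂) : x ∈ Subgroup.centralizer (P : Set G) := by
  rw [Subgroup.mem_centralizer_iff] at hx ⊢
  intro p hp
  have := hx _ (h1 p hp)
  have e1 : s * p * s⁻¹ * (s * x * s⁻¹) = s * (p * x) * s⁻¹ := by group
  have e2 : s * x * s⁻¹ * (s * p * s⁻¹) = s * (x * p) * s⁻¹ := by group
  rw [e1, e2] at this
  exact mul_left_cancel (mul_right_cancel this)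

/-- transfer of the "odd-order elements of the normalizer centralize" property along conjugation -/
theorem odd_centralize_conj (P P₂ : Subgroup G) (s : G)
    (h1 : ∀ p ∈ P, s * p * s⁻¹ ∈ P₂) (h2 : ∀ t ∈ P₂, s⁻¹ * t * s ∈ P)
    (hbase : ∀ x ∈ Subgroup.normalizer (P₂ : Set G), Nat.Coprime (orderOf x) 2 →
      x ∈ Subgroup.centralizer (P₂ : Set G))
    (g : G) (hg : g ∈ Subgroup.normalizer (P : Set G)) (hodd : Nat.Coprime (orderOf g) 2) :
    g ∈ Subgroup.centralizer (P : Set G) := by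
  apply centralizer_conj_back P P₂ s g _ h1
  apply hbase _ (normalizer_conj P P₂ s g hg h1 h2)
  rw [orderOf_conj']; exact hodd

variable [Finite G]

/-- generalized form of `DihSylow.mem_centralizer_of_normalizer_eq` -/
theorem mem_centralizer_of_mem_sup (Q S : Subgroup G) (hS : IsPGroup 2 S)
    (g : G) (hg : g ∈ Subgroup.normalizer (Q : Set G))
    (hg' : g ∈ Subgroup.centralizer (Q : Set G) ⊔ (S ⊓ Subgroup.normalizer (Q : Set G)))
    (hodd : Nat.Coprime (orderOf g) 2) :
    g ∈ Subgroup.centralizer (Q : Set G) := by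
  set N := Subgroup.normalizer (Q : Set G) with hNdef
  set ψ := Q.normalizerMonoidHom
  set T' : Subgroup N := (S ⊓ N).subgroupOf N
  have hT' : IsPGroup 2 T' := by
    intro t
    obtain ⟨k, hk⟩ := hS ⟨(t : N), (Subgroup.mem_subgroupOf.mp t.2).1⟩
    refine ⟨k, ?_⟩
    apply Subtype.ext
    apply Subtype.ext
    have := congrArg Subtype.val hk
    simpa using this
  have hM : IsPGroup 2 (T'.map ψ) := hT'.map ψ
  set L : Subgroup G := ((T'.map ψ).comap ψ).map N.subtype
  have hCL : Subgroup.centralizer (Q : Set G) ≤ L := by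
    intro c hc
    have hcN : c ∈ N := Subgroup.centralizer_le_normalizer (Q : Set G) hc
    refine ⟨⟨c, hcN⟩, ?_, rfl⟩
    have : (⟨c, hcN⟩ : N) ∈ ψ.ker := by
      rw [Subgroup.normalizerMonoidHom_ker, Subgroup.mem_subgroupOf]; exact hc
    show ψ ⟨c, hcN⟩ ∈ T'.map ψ
    rw [MonoidHom.mem_ker.mp this]
    exact Subgroup.one_mem _
  have hSL : S ⊓ N ≤ L := by
    intro s hs
    refine ⟨⟨s, hs.2⟩, ?_, rfl⟩
    show ψ ⟨s, hs.2⟩ ∈ T'.map ψ
    exact Subgroup.mem_map_of_mem ψ (Subgroup.mem_subgroupOf.mpr hs)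
  have hgL : g ∈ L := (sup_le hCL hSL) hg'
  obtain ⟨n, hn, hng⟩ := hgL
  have hn' : n = ⟨g, hg⟩ := Subtype.ext hng
  rw [hn'] at hn
  have hn2 : ψ ⟨g, hg⟩ ∈ T'.map ψ := hn
  obtain ⟨k, hk⟩ := hM ⟨_, hn2⟩
  have hk' : (ψ ⟨g, hg⟩) ^ 2 ^ k = 1 := by
    have := congrArg Subtype.val hk
    simpa using this
  have h1 : (ψ ⟨g, hg⟩) ^ orderOf g = 1 := by
    rw [← map_pow]
    have : (⟨g, hg⟩ : N) ^ orderOf g = 1 := by
      apply Subtype.ext
      rw [Subgroup.coe_pow]
      exact pow_orderOf_eq_one g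
    rw [this, map_one]
  have h2 := orderOf_dvd_of_pow_eq_one h1
  have h3 := orderOf_dvd_of_pow_eq_one hk'
  have h4 : orderOf (ψ ⟨g, hg⟩) = 1 :=
    Nat.eq_one_of_dvd_coprimes (Nat.Coprime.pow_right k hodd) h2 h3
  rw [orderOf_eq_one_iff] at h4
  have h5 : (⟨g, hg⟩ : N) ∈ ψ.ker := h4
  rw [Subgroup.normalizerMonoidHom_ker, Subgroup.mem_subgroupOf] at h5
  exact h5

/-- with a normal complement, fusion in `S` is controlled by `S` -/
theorem fusion_of_complement (S K : Subgroup G) [K.Normal] (hc : K.IsComplement' S)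
    (s s' : G) (hs : s ∈ S) (hs' : s' ∈ S) (g : G) (hg : g * s * g⁻¹ = s') :
    ∃ t ∈ S, t * s * t⁻¹ = s' := by
  have htop : K ⊔ S = ⊤ := hc.sup_eq_top
  have hgm : g ∈ K ⊔ S := by rw [htop]; trivial
  rw [Subgroup.mem_sup_of_normal_left] at hgm
  obtain ⟨k, hk, t, ht, rfl⟩ := hgm
  refine ⟨t, ht, ?_⟩
  set u := t * s * t⁻¹ with hu
  have huS : u ∈ S := S.mul_mem (S.mul_mem ht hs) (S.inv_mem ht)
  have e : k * t * s * (k * t)⁻¹ = k * u * k⁻¹ := by rw [hu]; group
  rw [e] at hg
  have h3 : k * u * k⁻¹ * u⁻¹ ∈ K := by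
    have : k * u * k⁻¹ * u⁻¹ = k * (u * k⁻¹ * u⁻¹) := by group
    rw [this]
    exact K.mul_mem hk (Subgroup.Normal.conj_mem inferInstance _ (K.inv_mem hk) _)
  have h4 : k * u * k⁻¹ * u⁻¹ ∈ S := by
    rw [hg]; exact S.mul_mem hs' (S.inv_mem huS)
  have h5 := Subgroup.disjoint_def.mp hc.disjoint h3 h4
  rw [← hg]
  exact (mul_inv_eq_one.mp h5).symm

/-- 2-elements are conjugate into a Sylow 2-subgroup -/
theorem exists_conj_mem_sylow (S : Sylow 2 G) (x : G) (k : ℕ) (hx : orderOf x = 2 ^ k) :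
    ∃ g : G, g * x * g⁻¹ ∈ (S : Subgroup G) := by
  have hp : Fact (Nat.Prime 2) := ⟨Nat.prime_two⟩
  have hP : IsPGroup 2 (Subgroup.zpowers x) :=
    IsPGroup.of_card (n := k) (by rw [Nat.card_zpowers, hx])
  obtain ⟨Q, hQ⟩ := hP.exists_le_sylow
  obtain ⟨g, hg⟩ := MulAction.exists_smul_eq G Q S
  refine ⟨g, ?_⟩
  rw [← hg, Sylow.coe_subgroup_smul]
  have hxQ : x ∈ (Q : Subgroup G) := hQ (Subgroup.mem_zpowers x)
  have := Subgroup.smul_mem_pointwise_smul x (MulAut.conj g) (Q : Subgroup G) hxQ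
  rwa [MulAut.smul_def, MulAut.conj_apply] at this

end generic

section main

variable {G : Type*} [Group G] [Finite G]

theorem nilpotent_case (S : Sylow 2 G) (hS : Cfsg.IsQuasiDihedral (S : Subgroup G)) (T : Subgroup G)
    (hT : IsKleinFour T) (hTS : T ≤ S) (Q : Subgroup G) (hQS : Q ≤ S)
    (eQ : Q ≃* QuaternionGroup 2)
    (h₁ : (Subgroup.centralizer (T : Set G)).relIndex (Subgroup.normalizer (T : Set G)) = 2)
    (h₂ : (Q ⊔ Subgroup.centralizer (Q : Set G)).relIndex (Subgroup.normalizer (Q : Set G)) = 2) :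
    Cfsg.HasNormalPComplement 2 G ∧
    Nat.card {C : ConjClasses G // ∃ t : G, orderOf t = 2 ∧ ConjClasses.mk t = C} = 2 ∧
    Nat.card {C : ConjClasses G // ∃ t : G, orderOf t = 4 ∧ ConjClasses.mk t = C} = 2 := by
  have hp : Fact (Nat.Prime 2) := ⟨Nat.prime_two⟩
  obtain ⟨D⟩ := exists_qdData hS
  -- the subgroups of ↥S corresponding to T and Q
  set T' : Subgroup (S : Subgroup G) := T.subgroupOf S with hT'
  set Q' : Subgroup (S : Subgroup G) := Q.subgroupOf S with hQ'
  have hT'K : IsKleinFour T' := by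
    apply Cfsg.Agent.Helper18.Wr.isKleinFour_of_card_of_sq
    · rw [Nat.card_congr (Subgroup.subgroupOfEquivOfLe hTS).toEquiv]; exact hT.card_four
    · intro v hv
      have hvT : (v : G) ∈ T := Subgroup.mem_subgroupOf.mp hv
      have := IsKleinFour.mul_self (⟨(v : G), hvT⟩ : T)
      apply Subtype.ext
      have h3 := congrArg Subtype.val this
      simpa using h3
  have hQ'e : Nonempty (Q' ≃* QuaternionGroup 2) := ⟨(Subgroup.subgroupOfEquivOfLe hQS).trans eQ⟩
  -- base facts
  have hbaseT : ∀ x ∈ Subgroup.normalizer (T : Set G), Nat.Coprime (orderOf x) 2 →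
      x ∈ Subgroup.centralizer (T : Set G) := fun x hx hodd =>
    mem_of_relIndex_two _ _ h₁ x hx hodd
  have hbaseQ : ∀ x ∈ Subgroup.normalizer (Q : Set G), Nat.Coprime (orderOf x) 2 →
      x ∈ Subgroup.centralizer (Q : Set G) := by
    intro x hx hodd
    have h1 := mem_of_relIndex_two _ _ h₂ x hx hodd
    apply mem_centralizer_of_mem_sup Q S S.isPGroup' x hx _ hodd
    have : Q ⊔ Subgroup.centralizer (Q : Set G) ≤
        Subgroup.centralizer (Q : Set G) ⊔ ((S : Subgroup G) ⊓ Subgroup.normalizer (Q : Set G)) := by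
      apply sup_le
      · exact le_trans (le_inf hQS Subgroup.le_normalizer) le_sup_right
      · exact le_sup_left
    exact this h1
  -- conjugation transfer from ↥S to G
  have htransfer : ∀ (P P₂ : Subgroup G) (hPS : P ≤ S) (hP₂S : P₂ ≤ S) (s' : (S : Subgroup G)),
      (P.subgroupOf S).map (MulAut.conj s').toMonoidHom = P₂.subgroupOf S →
      (∀ p ∈ P, (s' : G) * p * (s' : G)⁻¹ ∈ P₂) ∧ (∀ t ∈ P₂, (s' : G)⁻¹ * t * (s' : G) ∈ P) := by
    intro P P₂ hPS hP₂S s' hmap
    constructor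
    · intro p hp
      have h1 : (⟨p, hPS hp⟩ : (S : Subgroup G)) ∈ P.subgroupOf S := Subgroup.mem_subgroupOf.mpr hp
      have h2 : (MulAut.conj s').toMonoidHom ⟨p, hPS hp⟩ ∈ P₂.subgroupOf S := by
        rw [← hmap]; exact Subgroup.mem_map_of_mem _ h1
      have h3 := Subgroup.mem_subgroupOf.mp h2
      simpa using h3
    · intro t ht
      have h1 : (⟨t, hP₂S ht⟩ : (S : Subgroup G)) ∈ P₂.subgroupOf S :=
        Subgroup.mem_subgroupOf.mpr ht
      rw [← hmap] at h1
      obtain ⟨p', hp', hpt⟩ := h1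
      have h3 : (p' : G) ∈ P := Subgroup.mem_subgroupOf.mp hp'
      have h4 : (s' : G) * (p' : G) * (s' : G)⁻¹ = t := by
        have := congrArg Subtype.val hpt
        simpa using this
      rw [← h4]
      have e : (s' : G)⁻¹ * ((s' : G) * (p' : G) * (s' : G)⁻¹) * (s' : G) = p' := by group
      rw [e]; exact h3
  -- Frobenius criterion
  have hfrob : ∀ P : Subgroup G, P ≤ (S : Subgroup G) → ∀ g ∈ Subgroup.normalizer (P : Set G),
      Nat.Coprime (orderOf g) 2 → g ∈ Subgroup.centralizer (P : Set G) := by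
    intro P hPS g hg hodd
    rcases D.subgroup_aut (P.subgroupOf S) with hA | hKl | hQ8
    · have φ₁ : P.subgroupOf S ≃* P := Subgroup.subgroupOfEquivOfLe hPS
      exact Cfsg.Agent.Helper18.DihSylow.mem_centralizer_of_aut_pgroup P
        (hA.of_equiv (MulAut.congr φ₁)) g hg hodd
    · obtain ⟨s', hs'⟩ := D.klein_main.1 (P.subgroupOf S) T' hKl hT'K
      obtain ⟨h1, h2⟩ := htransfer P T hPS hTS s' hs'
      exact odd_centralize_conj P T s' h1 h2 hbaseT g hg hodd
    · obtain ⟨s', hs'⟩ := D.quat_main.1 (P.subgroupOf S) Q' hQ8 hQ'e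
      obtain ⟨h1, h2⟩ := htransfer P Q hPS hQS s' hs'
      exact odd_centralize_conj P Q s' h1 h2 hbaseQ g hg hodd
  obtain ⟨K, hK, hc⟩ := (Cfsg.Agent.S0071.result S).mpr hfrob
  refine ⟨⟨S, K, hK, hc⟩, ?_, ?_⟩
  · -- involutions
    have hzS : ((D.z : (S : Subgroup G)) : G) ∈ (S : Subgroup G) := (D.z).2
    have hset : {C : ConjClasses G | ∃ t : G, orderOf t = 2 ∧ ConjClasses.mk t = C} =
        {ConjClasses.mk ((D.z : (S : Subgroup G)) : G), ConjClasses.mk ((D.y : (S : Subgroup G)) : G)} := by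
      ext C
      simp only [Set.mem_ofPred_eq, Set.mem_insert_iff, Set.mem_singleton_iff]
      constructor
      · rintro ⟨t, ht, rfl⟩
        obtain ⟨g, hg⟩ := exists_conj_mem_sylow S t 1 (by rw [ht]; norm_num)
        have hconj : ConjClasses.mk t = ConjClasses.mk (g * t * g⁻¹) := by
          rw [ConjClasses.mk_eq_mk_iff_isConj, isConj_iff]; exact ⟨g, rfl⟩
        have hord : orderOf (⟨g * t * g⁻¹, hg⟩ : (S : Subgroup G)) = 2 := by
          rw [Subgroup.orderOf_mk, orderOf_conj', ht]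
        rcases (D.invol_iff _).mp hord with h | ⟨j, h⟩
        · left
          rw [hconj]
          have := congrArg Subtype.val h
          simp only at this
          rw [this]
        · right
          rw [hconj, ConjClasses.mk_eq_mk_iff_isConj, isConj_comm, isConj_iff]
          refine ⟨((D.r (j * (1 + qq D.n)) : (S : Subgroup G)) : G), ?_⟩
          have h2 := D.r_conj_sr_two j 0
          rw [zero_add, D.sr_zero, ← h] at h2
          have := congrArg Subtype.val h2
          simpa using this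
      · rintro (rfl | rfl)
        · refine ⟨_, ?_, rfl⟩
          rw [Subgroup.orderOf_coe]; exact (D.invol_iff _).mpr (Or.inl rfl)
        · refine ⟨_, ?_, rfl⟩
          rw [Subgroup.orderOf_coe]; exact D.hy
    have hne : ConjClasses.mk ((D.z : (S : Subgroup G)) : G) ≠
        ConjClasses.mk ((D.y : (S : Subgroup G)) : G) := by
      rw [Ne, ConjClasses.mk_eq_mk_iff_isConj, isConj_iff]
      rintro ⟨c, hc'⟩
      obtain ⟨t, ht, htc⟩ := fusion_of_complement (S : Subgroup G) K hc _ _ (D.z).2 (D.y).2 c hc'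
      have h1 : (⟨t, ht⟩ : (S : Subgroup G)) * D.z * (⟨t, ht⟩ : (S : Subgroup G))⁻¹ = D.y := by
        apply Subtype.ext; simpa using htc
      rw [D.z_conj, ← D.sr_zero] at h1
      exact D.r_ne_sr _ _ h1
    show Nat.card ↥{C : ConjClasses G | ∃ t : G, orderOf t = 2 ∧ ConjClasses.mk t = C} = 2
    rw [Nat.card_coe_set_eq, hset, Set.ncard_pair hne]
  · -- elements of order 4
    have hset : {C : ConjClasses G | ∃ t : G, orderOf t = 4 ∧ ConjClasses.mk t = C} =
        {ConjClasses.mk ((D.r (qq D.n) : (S : Subgroup G)) : G),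
          ConjClasses.mk ((D.sr 1 : (S : Subgroup G)) : G)} := by
      ext C
      simp only [Set.mem_ofPred_eq, Set.mem_insert_iff, Set.mem_singleton_iff]
      constructor
      · rintro ⟨t, ht, rfl⟩
        obtain ⟨g, hg⟩ := exists_conj_mem_sylow S t 2 (by rw [ht]; norm_num)
        have hconj : ConjClasses.mk t = ConjClasses.mk (g * t * g⁻¹) := by
          rw [ConjClasses.mk_eq_mk_iff_isConj, isConj_iff]; exact ⟨g, rfl⟩
        have hord : orderOf (⟨g * t * g⁻¹, hg⟩ : (S : Subgroup G)) = 4 := by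
          rw [Subgroup.orderOf_mk, orderOf_conj', ht]
        rcases (D.order_four_iff _).mp hord with h | h | ⟨j, h⟩
        · left
          rw [hconj]
          have := congrArg Subtype.val h
          simp only at this
          rw [this]
        · left
          rw [hconj, ConjClasses.mk_eq_mk_iff_isConj, isConj_comm, isConj_iff]
          refine ⟨((D.y : (S : Subgroup G)) : G), ?_⟩
          have h2 : D.y * D.r (qq D.n) * D.y⁻¹ = D.r (-qq D.n) := by
            rw [D.y_conj_r, D.r_inj]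
            unfold QDData.k
            have h1 := qq_mul_hh D.hn
            linear_combination h1
          rw [← h] at h2
          have := congrArg Subtype.val h2
          simpa using this
        · right
          rw [hconj, ConjClasses.mk_eq_mk_iff_isConj, isConj_comm, isConj_iff]
          refine ⟨((D.r (j * (1 + qq D.n)) : (S : Subgroup G)) : G), ?_⟩
          have h2 := D.r_conj_sr_two j 1
          have e1 : (1 : ZMod (2 ^ D.n)) + 2 * j = 2 * j + 1 := by ring
          rw [e1, ← h] at h2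
          have := congrArg Subtype.val h2
          simpa using this
      · rintro (rfl | rfl)
        · refine ⟨_, ?_, rfl⟩
          rw [Subgroup.orderOf_coe]; exact (D.order_four_iff _).mpr (Or.inl rfl)
        · refine ⟨_, ?_, rfl⟩
          rw [Subgroup.orderOf_coe]
          exact (D.order_four_iff _).mpr (Or.inr (Or.inr ⟨0, by rw [mul_zero, zero_add]⟩))
    have hne : ConjClasses.mk ((D.r (qq D.n) : (S : Subgroup G)) : G) ≠
        ConjClasses.mk ((D.sr 1 : (S : Subgroup G)) : G) := by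
      rw [Ne, ConjClasses.mk_eq_mk_iff_isConj, isConj_iff]
      rintro ⟨c, hc'⟩
      obtain ⟨t, ht, htc⟩ := fusion_of_complement (S : Subgroup G) K hc _ _
        (D.r (qq D.n)).2 (D.sr 1).2 c hc'
      have h1 : (⟨t, ht⟩ : (S : Subgroup G)) * D.r (qq D.n) * (⟨t, ht⟩ : (S : Subgroup G))⁻¹
          = D.sr 1 := by
        apply Subtype.ext; simpa using htc
      rcases D.conj_r ⟨t, ht⟩ (qq D.n) with h | h
      · rw [h] at h1; exact D.r_ne_sr _ _ h1
      · rw [h] at h1; exact D.r_ne_sr _ _ h1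
    show Nat.card ↥{C : ConjClasses G | ∃ t : G, orderOf t = 4 ∧ ConjClasses.mk t = C} = 2
    rw [Nat.card_coe_set_eq, hset, Set.ncard_pair hne]

end main

end Cfsg.Agent.Helper18.QD
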