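import Mathlib
import Cfsg.Prelude.Def_TwoFusion
import Cfsg.Agent.Helper6.Isolated
import Cfsg.Agent.Helper16.ThompsonTransfer
import Cfsg.Agent.Helper18.Wr5
import Cfsg.Agent.Helper18.QD8

set_option autoImplicit false

/-! Groups with dihedral Sylow 2-subgroups: fusion simplicity (S1255). -/

namespace Cfsg.Agent.Helper18.DihFusion

open DihedralGroup

theorem zmod_two_torsion_unique {m : ℕ} [NeZero m] {i j : ZMod m} (hi : i + i = 0) (hi0 : i ≠ 0)
    (hj : j + j = 0) (hj0 : j ≠ 0) : i = j := by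
  have key : ∀ a : ZMod m, a + a = 0 → a ≠ 0 → 2 * a.val = m := by
    intro a ha ha0
    have h1 : (a + a).val = 0 := by rw [ha, ZMod.val_zero]
    rw [ZMod.val_add] at h1
    have h2 : a.val < m := ZMod.val_lt a
    have h3 : 0 < a.val := by
      rcases Nat.eq_zero_or_pos a.val with h | h
      · exact absurd ((ZMod.val_eq_zero a).mp h) ha0
      · exact h
    have h4 : m ∣ a.val + a.val := Nat.dvd_of_mod_eq_zero h1
    obtain ⟨c, hc⟩ := h4
    have hc1 : c = 1 := by
      rcases c with _ | _ | c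
      · omega
      · rfl
      · have : m * (c + 1 + 1) ≥ m * 2 := Nat.mul_le_mul_left m (by omega)
        omega
    rw [hc1] at hc
    omega
  apply ZMod.val_injective
  have := key i hi hi0
  have := key j hj hj0
  omega

variable {X : Type*} [Group X] [Finite X]

section klein

/-- the four-group generated by two commuting involutions -/
def kleinSub (w t : X) (hw : w * w = 1) (ht : t * t = 1) (hwt : w * t = t * w) : Subgroup X where
  carrier := {v | v = 1 ∨ v = w ∨ v = t ∨ v = w * t}
  one_mem' := Or.inl rfl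
  mul_mem' := by
    have hw' : ∀ x : X, w * (w * x) = x := fun x => by rw [← mul_assoc, hw, one_mul]
    have ht' : ∀ x : X, t * (t * x) = x := fun x => by rw [← mul_assoc, ht, one_mul]
    have htw : t * w = w * t := hwt.symm
    have htw' : ∀ x : X, t * (w * x) = w * (t * x) := fun x => by
      rw [← mul_assoc, htw, mul_assoc]
    rintro a b ha hb
    rcases ha with rfl | rfl | rfl | rfl <;> rcases hb with rfl | rfl | rfl | rfl
    · left; rw [one_mul]
    · right; left; rw [one_mul]
    · right; right; left; rw [one_mul]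
    · right; right; right; rw [one_mul]
    · right; left; rw [mul_one]
    · left; exact hw
    · right; right; right; rfl
    · right; right; left; rw [hw']
    · right; right; left; rw [mul_one]
    · right; right; right; exact htw
    · left; exact ht
    · right; left; rw [htw', ht, mul_one]
    · right; right; right; rw [mul_one]
    · right; right; left; rw [mul_assoc, htw, hw']
    · right; left; rw [mul_assoc, ht, mul_one]
    · left; rw [mul_assoc, htw', ht, mul_one, hw]
  inv_mem' := by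
    have hwi : w⁻¹ = w := inv_eq_of_mul_eq_one_left hw
    have hti : t⁻¹ = t := inv_eq_of_mul_eq_one_left ht
    rintro a ha
    rcases ha with rfl | rfl | rfl | rfl
    · left; exact inv_one
    · right; left; exact hwi
    · right; right; left; exact hti
    · right; right; right; rw [mul_inv_rev, hwi, hti, hwt]

omit [Finite X] in
theorem mem_kleinSub {w t : X} (hw : w * w = 1) (ht : t * t = 1) (hwt : w * t = t * w) (v : X) :
    v ∈ kleinSub w t hw ht hwt ↔ v = 1 ∨ v = w ∨ v = t ∨ v = w * t := Iff.rfl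

omit [Finite X] in
theorem kleinSub_isKleinFour {w t : X} (hw : w * w = 1) (ht : t * t = 1) (hwt : w * t = t * w)
    (hw1 : w ≠ 1) (ht1 : t ≠ 1) (hne : w ≠ t) : IsKleinFour (kleinSub w t hw ht hwt) := by
  apply Cfsg.Agent.Helper18.Wr.isKleinFour_of_card_of_sq
  · apply Cfsg.Agent.Helper18.Wr.card_eq_four_of_carrier _ w t (w * t) (mem_kleinSub hw ht hwt) hw1 ht1
    · intro h
      apply hne
      have : w * t = t * t := by rw [h, ht]
      exact mul_right_cancel this
    · exact hne
    · intro h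
      apply ht1
      have : w * 1 = w * t := by rw [mul_one]; exact h
      exact (mul_left_cancel this).symm
    · intro h
      apply hw1
      have : 1 * t = w * t := by rw [one_mul]; exact h
      exact (mul_right_cancel this).symm
  · rintro v (rfl | rfl | rfl | rfl)
    · exact one_mul 1
    · exact hw
    · exact ht
    · rw [mul_assoc, ← mul_assoc t, ← hwt, mul_assoc, ht, mul_one, hw]


omit [Finite X] in
/-- an element of `N(U)` of 3-power order not centralizing the four-group `U` fixes no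
involution of `U` -/
theorem conj_ne_self {a b g : X} (U : Subgroup X)
    (hU : ∀ v, v ∈ U ↔ v = 1 ∨ v = a ∨ v = b ∨ v = a * b)
    (ha : a * a = 1) (hne : a ≠ b) (hb1 : b ≠ 1)
    (hN : g ∈ Subgroup.normalizer (U : Set X))
    (hC : g ∉ Subgroup.centralizer (U : Set X))
    (k : ℕ) (hk : g ^ (3 ^ k) = 1) : g * a * g⁻¹ ≠ a := by
  intro hfix
  apply hC
  have hgb : g * b * g⁻¹ = b ∨ g * b * g⁻¹ = a * b := by
    have h1 : g * b * g⁻¹ ∈ U :=
      (Subgroup.mem_normalizer_iff.mp hN b).mp ((hU b).mpr (Or.inr (Or.inr (Or.inl rfl))))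
    rcases (hU _).mp h1 with h | h | h | h
    · exfalso
      apply hb1
      have : b = g⁻¹ * (g * b * g⁻¹) * g := by group
      rw [this, h]; group
    · exfalso
      apply hne
      have e1 : b = g⁻¹ * (g * b * g⁻¹) * g := by group
      have e2 : a = g⁻¹ * (g * a * g⁻¹) * g := by group
      calc a = g⁻¹ * (g * a * g⁻¹) * g := e2
        _ = g⁻¹ * a * g := by rw [hfix]
        _ = g⁻¹ * (g * b * g⁻¹) * g := by rw [h]
        _ = b := e1.symm
    · exact Or.inl h
    · exact Or.inr h
  have hg2a : g ^ 2 * a * (g ^ 2)⁻¹ = a := by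
    have : g ^ 2 * a * (g ^ 2)⁻¹ = g * (g * a * g⁻¹) * g⁻¹ := by rw [pow_two]; group
    rw [this, hfix, hfix]
  have hg2b : g ^ 2 * b * (g ^ 2)⁻¹ = b := by
    have e : g ^ 2 * b * (g ^ 2)⁻¹ = g * (g * b * g⁻¹) * g⁻¹ := by rw [pow_two]; group
    rcases hgb with h | h
    · rw [e, h, h]
    · have e2 : g * (a * b) * g⁻¹ = (g * a * g⁻¹) * (g * b * g⁻¹) := by group
      rw [e, h, e2, hfix, h, ← mul_assoc, ha, one_mul]
  have hg2C : g ^ 2 ∈ Subgroup.centralizer (U : Set X) := by
    rw [Subgroup.mem_centralizer_iff]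
    have ca : a * g ^ 2 = g ^ 2 * a := by
      have := congrArg (· * g ^ 2) hg2a
      simp only [inv_mul_cancel_right] at this
      exact this.symm
    have cb : b * g ^ 2 = g ^ 2 * b := by
      have := congrArg (· * g ^ 2) hg2b
      simp only [inv_mul_cancel_right] at this
      exact this.symm
    intro v hv
    rcases (hU v).mp hv with rfl | rfl | rfl | rfl
    · rw [one_mul, mul_one]
    · exact ca
    · exact cb
    · rw [mul_assoc, cb, ← mul_assoc, ca, mul_assoc]
  have hodd : Odd (3 ^ k) := Odd.pow (by decide)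
  obtain ⟨j, hj⟩ := hodd
  have : g = (g ^ 2) ^ (j + 1) := by
    rw [← pow_mul, show 2 * (j + 1) = (2 * j + 1) + 1 by ring, ← hj, pow_succ, hk, one_mul]
  rw [this]
  exact Subgroup.pow_mem _ hg2C _

/-- if `3 ∣ |N(U) : C(U)|` for the four-group `U = ⟨w, t⟩`, then `t` is conjugate to `w` -/
theorem conj_of_three_dvd {w t : X} (hw : w * w = 1) (ht : t * t = 1) (hwt : w * t = t * w)
    (hw1 : w ≠ 1) (ht1 : t ≠ 1) (hne : w ≠ t)
    (h3 : 3 ∣ (Subgroup.centralizer ((kleinSub w t hw ht hwt : Subgroup X) : Set X)).relIndex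
      (Subgroup.normalizer ((kleinSub w t hw ht hwt : Subgroup X) : Set X))) :
    ∃ g : X, g * t * g⁻¹ = w := by
  have hp3 : Fact (Nat.Prime 3) := ⟨Nat.prime_three⟩
  set U := kleinSub w t hw ht hwt with hUdef
  have hU : ∀ v, v ∈ U ↔ v = 1 ∨ v = w ∨ v = t ∨ v = w * t := mem_kleinSub hw ht hwt
  have hwt1 : w * t ≠ 1 := by
    intro h
    apply hne
    have : w * t = t * t := by rw [h, ht]
    exact mul_right_cancel this
  have hwtw : w * t ≠ w := by
    intro h
    apply ht1
    have : w * t = w * 1 := by rw [mul_one]; exact h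
    exact mul_left_cancel this
  have hwtt : w * t ≠ t := by
    intro h
    apply hw1
    have : w * t = 1 * t := by rw [one_mul]; exact h
    exact mul_right_cancel this
  obtain ⟨P⟩ : Nonempty (Sylow 3 (Subgroup.normalizer (U : Set X))) := inferInstance
  by_cases hall : ∀ g : Subgroup.normalizer (U : Set X), g ∈ P →
      (g : X) ∈ Subgroup.centralizer (U : Set X)
  · exfalso
    have hle : (P : Subgroup (Subgroup.normalizer (U : Set X))) ≤
        (Subgroup.centralizer (U : Set X)).subgroupOf (Subgroup.normalizer (U : Set X)) := by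
      intro g hg
      rw [Subgroup.mem_subgroupOf]
      exact hall g hg
    have := Subgroup.index_dvd_of_le hle
    exact P.not_dvd_index (dvd_trans h3 this)
  · push Not at hall
    obtain ⟨g, hgP, hgC⟩ := hall
    obtain ⟨k, hk⟩ := P.isPGroup' ⟨g, hgP⟩
    have hk' : (g : X) ^ (3 ^ k) = 1 := by
      have h1 : g ^ (3 ^ k) = 1 := by
        have := congrArg Subtype.val hk
        simpa using this
      have := congrArg Subtype.val h1
      simpa using this
    have hgN : (g : X) ∈ Subgroup.normalizer (U : Set X) := g.2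
    have hfw : (g : X) * w * (g : X)⁻¹ ≠ w :=
      conj_ne_self U hU hw hne ht1 hgN hgC k hk'
    have hft : (g : X) * t * (g : X)⁻¹ ≠ t := by
      refine conj_ne_self U ?_ ht (Ne.symm hne) hw1 hgN hgC k hk'
      intro v
      rw [hU v, ← hwt]
      tauto
    have hmemw : (g : X) * w * (g : X)⁻¹ ∈ U :=
      (Subgroup.mem_normalizer_iff.mp hgN w).mp ((hU w).mpr (Or.inr (Or.inl rfl)))
    have hmemt : (g : X) * t * (g : X)⁻¹ ∈ U :=
      (Subgroup.mem_normalizer_iff.mp hgN t).mp ((hU t).mpr (Or.inr (Or.inr (Or.inl rfl))))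
    have hinj : ∀ u v : X, (g : X) * u * (g : X)⁻¹ = (g : X) * v * (g : X)⁻¹ → u = v := by
      intro u v h
      have e1 : u = (g : X)⁻¹ * ((g : X) * u * (g : X)⁻¹) * (g : X) := by group
      have e2 : v = (g : X)⁻¹ * ((g : X) * v * (g : X)⁻¹) * (g : X) := by group
      rw [e1, h, ← e2]
    have hone : ∀ u : X, (g : X) * u * (g : X)⁻¹ = 1 → u = 1 := by
      intro u h
      apply hinj
      rw [h]; group
    rcases (hU _).mp hmemw with h | h | h | h
    · exact absurd (hone w h) hw1
    · exact absurd h hfw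
    · -- g w g⁻¹ = t
      refine ⟨(g : X)⁻¹, ?_⟩
      rw [← h]; group
    · -- g w g⁻¹ = w t
      rcases (hU _).mp hmemt with h' | h' | h' | h'
      · exact absurd (hone t h') ht1
      · exact ⟨(g : X), h'⟩
      · exact absurd h' hft
      · exact absurd (hinj w t (h.trans h'.symm)) hne

end klein

section
variable (S : Sylow 2 X) (m : ℕ) (eS : (S : Subgroup X) ≃* DihedralGroup m)

/-- the cyclic maximal subgroup of `S` -/
def rot : Subgroup (S : Subgroup X) where
  carrier := {y | ∃ i : ZMod m, eS y = r i}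
  one_mem' := ⟨0, by rw [map_one]; rfl⟩
  mul_mem' := by
    rintro a b ⟨i, hi⟩ ⟨j, hj⟩
    exact ⟨i + j, by rw [map_mul, hi, hj, r_mul_r]⟩
  inv_mem' := by
    rintro a ⟨i, hi⟩
    exact ⟨-i, by rw [map_inv, hi, inv_r]⟩

theorem mem_rot (y : (S : Subgroup X)) : y ∈ rot S m eS ↔ ∃ i : ZMod m, eS y = r i := Iff.rfl

theorem not_mem_rot (y : (S : Subgroup X)) : y ∉ rot S m eS ↔ ∃ i : ZMod m, eS y = sr i := by
  rw [mem_rot]
  constructor
  · intro h
    rcases hy : eS y with i | i
    · exact absurd ⟨i, hy⟩ h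
    · exact ⟨i, rfl⟩
  · rintro ⟨i, hi⟩ ⟨j, hj⟩
    rw [hi] at hj
    exact absurd hj (by simp)

theorem rot_index : (rot S m eS).index = 2 := by
  rw [Subgroup.index_eq_two_iff]
  refine ⟨eS.symm (sr 0), fun b => ?_⟩
  rcases hb : eS b with i | i
  · refine Or.inr ⟨⟨i, hb⟩, ?_⟩
    rw [not_mem_rot]
    exact ⟨0 - i, by rw [map_mul, hb, MulEquiv.apply_symm_apply, r_mul_sr]⟩
  · refine Or.inl ⟨⟨0 - i, by rw [map_mul, hb, MulEquiv.apply_symm_apply, sr_mul_sr]⟩, ?_⟩
    rw [not_mem_rot]
    exact ⟨i, hb⟩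

theorem orderOf_of_not_mem_rot (y : (S : Subgroup X)) (hy : y ∉ rot S m eS) :
    orderOf (y : X) = 2 := by
  obtain ⟨i, hi⟩ := (not_mem_rot S m eS y).mp hy
  rw [Subgroup.orderOf_coe, ← MulEquiv.orderOf_eq eS, hi, orderOf_sr]

theorem exists_mul_of_mem_rot (y : (S : Subgroup X)) (hy : y ∈ rot S m eS) :
    ∃ a b : (S : Subgroup X), a ∉ rot S m eS ∧ b ∉ rot S m eS ∧ y = a * b := by
  obtain ⟨i, hi⟩ := hy
  refine ⟨eS.symm (sr 0), eS.symm (sr i), ?_, ?_, ?_⟩
  · rw [not_mem_rot]; exact ⟨0, by rw [MulEquiv.apply_symm_apply]⟩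
  · rw [not_mem_rot]; exact ⟨i, by rw [MulEquiv.apply_symm_apply]⟩
  · apply eS.injective
    rw [map_mul, MulEquiv.apply_symm_apply, MulEquiv.apply_symm_apply, sr_mul_sr, hi, sub_zero]

theorem m_even (S : Sylow 2 X) (m : ℕ) (eS : (S : Subgroup X) ≃* DihedralGroup m) (hm : 2 ≤ m) :
    2 ∣ m := by
  have hp : Fact (Nat.Prime 2) := ⟨Nat.prime_two⟩
  obtain ⟨k, hk⟩ := (S.isPGroup').exists_card_eq
  have h1 : Nat.card (S : Subgroup X) = 2 * m := by
    rw [Nat.card_congr eS.toEquiv, DihedralGroup.nat_card]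
  have h2 : 2 * m = 2 ^ k := h1 ▸ hk
  rcases k with _ | _ | k
  · omega
  · omega
  · have : m = 2 ^ (k + 1) := by
      have : 2 * m = 2 * 2 ^ (k + 1) := by rw [h2]; ring
      omega
    rw [this]
    exact dvd_pow_self 2 (by omega)

/-- involutions of the cyclic maximal subgroup are unique -/
theorem rot_invol_unique (hm : 2 ≤ m) (y₁ y₂ : (S : Subgroup X)) (h₁ : y₁ ∈ rot S m eS)
    (h₂ : y₂ ∈ rot S m eS) (o₁ : orderOf (y₁ : X) = 2) (o₂ : orderOf (y₂ : X) = 2) : y₁ = y₂ := by
  have : NeZero m := ⟨by omega⟩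
  obtain ⟨i, hi⟩ := h₁
  obtain ⟨j, hj⟩ := h₂
  have key : ∀ (y : (S : Subgroup X)) (i : ZMod m), eS y = r i → orderOf (y : X) = 2 →
      i + i = 0 ∧ i ≠ 0 := by
    intro y i hi ho
    rw [Subgroup.orderOf_coe, ← MulEquiv.orderOf_eq eS, hi] at ho
    constructor
    · have h1 : (r i : DihedralGroup m) ^ 2 = 1 := by rw [← ho]; exact pow_orderOf_eq_one _
      rw [pow_two, r_mul_r, one_def] at h1
      exact r.inj h1
    · rintro rfl
      rw [← one_def, orderOf_one] at ho
      omega
  obtain ⟨a1, a2⟩ := key y₁ i hi o₁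
  obtain ⟨b1, b2⟩ := key y₂ j hj o₂
  apply eS.injective
  rw [hi, hj, zmod_two_torsion_unique a1 a2 b1 b2]

/-- the cyclic maximal subgroup contains an involution, which is central in `S` -/
theorem exists_rot_invol (hm : 2 ≤ m) : ∃ w : (S : Subgroup X), w ∈ rot S m eS ∧ orderOf (w : X) = 2 ∧
    ∀ y : (S : Subgroup X), w * y = y * w := by
  have hp : Fact (Nat.Prime 2) := ⟨Nat.prime_two⟩
  have h1 : Nat.card (S : Subgroup X) = 2 * m := by
    rw [Nat.card_congr eS.toEquiv, DihedralGroup.nat_card]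
  have h2 : Nat.card (rot S m eS) = m := by
    have := (rot S m eS).card_mul_index
    rw [rot_index, h1] at this
    omega
  have h3 : 2 ∣ Nat.card (rot S m eS) := by rw [h2]; exact m_even S m eS hm
  obtain ⟨w, hw⟩ := exists_prime_orderOf_dvd_card' 2 h3
  refine ⟨(w : (S : Subgroup X)), w.2, ?_, ?_⟩
  · rw [Subgroup.orderOf_coe, Subgroup.orderOf_coe]; exact hw
  · obtain ⟨i, hi⟩ := w.2
    have hw' : orderOf ((w : (S : Subgroup X)) : X) = 2 := by
      rw [Subgroup.orderOf_coe, Subgroup.orderOf_coe]; exact hw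
    have hii : i + i = 0 := by
      have ho := hw'
      rw [Subgroup.orderOf_coe, ← MulEquiv.orderOf_eq eS, hi] at ho
      have h1 : (r i : DihedralGroup m) ^ 2 = 1 := by rw [← ho]; exact pow_orderOf_eq_one _
      rw [pow_two, r_mul_r, one_def] at h1
      exact r.inj h1
    intro y
    apply eS.injective
    rw [map_mul, map_mul, hi]
    rcases eS y with j | j
    · rw [r_mul_r, r_mul_r, add_comm]
    · rw [r_mul_sr, sr_mul_r]
      congr 1
      have : -i = i := by
        have := congrArg (fun t => t - i) hii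
        simpa using this.symm
      rw [sub_eq_add_neg, this]


/-- Thompson transfer: without subgroups of index 2 every involution is conjugate into `rot` -/
theorem conj_into_rot (hG : ∀ H : Subgroup X, H.index ≠ 2) (a : X) (ha : orderOf a = 2) :
    ∃ g : X, ∃ h : g * a * g⁻¹ ∈ (S : Subgroup X),
      (⟨g * a * g⁻¹, h⟩ : (S : Subgroup X)) ∈ rot S m eS := by
  have hp : Fact (Nat.Prime 2) := ⟨Nat.prime_two⟩
  have hSodd : Odd (S : Subgroup X).index := by
    rw [← Nat.not_even_iff_odd, even_iff_two_dvd]; exact S.not_dvd_index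
  exact Cfsg.Agent.Helper16.thompson_transfer_general hG (S : Subgroup X) hSodd (rot S m eS)
    (rot_index S m eS) a 1 le_rfl (by rw [ha, pow_one])
    (fun y hy => by rw [orderOf_of_not_mem_rot S m eS y hy]; norm_num)

theorem all_conj_of_conj_into_rot (hm : 2 ≤ m)
    (h : ∀ a : X, orderOf a = 2 → ∃ g : X, ∃ h : g * a * g⁻¹ ∈ (S : Subgroup X),
      (⟨g * a * g⁻¹, h⟩ : (S : Subgroup X)) ∈ rot S m eS)
    (a b : X) (ha : orderOf a = 2) (hb : orderOf b = 2) : IsConj a b := by
  obtain ⟨g, hg, hgr⟩ := h a ha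
  obtain ⟨k, hk, hkr⟩ := h b hb
  have h1 := rot_invol_unique S m eS hm ⟨g * a * g⁻¹, hg⟩ ⟨k * b * k⁻¹, hk⟩ hgr hkr
    (by rw [Cfsg.Agent.Helper6.orderOf_conj_eq]; exact ha)
    (by rw [Cfsg.Agent.Helper6.orderOf_conj_eq]; exact hb)
  have h2 : g * a * g⁻¹ = k * b * k⁻¹ := congrArg Subtype.val h1
  rw [isConj_iff]
  refine ⟨k⁻¹ * g, ?_⟩
  calc k⁻¹ * g * a * (k⁻¹ * g)⁻¹ = k⁻¹ * (g * a * g⁻¹) * k := by group
    _ = b := by rw [h2]; group

/-- one class of involutions ⟹ fusion simple -/
theorem fusion_simple_of_all_conj (S : Sylow 2 X) (m : ℕ)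
    (eS : (S : Subgroup X) ≃* DihedralGroup m) (hm : 2 ≤ m)
    (hconj : ∀ a b : X, orderOf a = 2 → orderOf b = 2 → IsConj a b) :
    (∀ H : Subgroup X, H.index ≠ 2) ∧ (∀ z : X, ¬ Cfsg.IsIsolatedInvolution z) := by
  have hp : Fact (Nat.Prime 2) := ⟨Nat.prime_two⟩
  obtain ⟨w, hwr, hwo, hwc⟩ := exists_rot_invol S m eS hm
  -- an involution outside rot
  obtain ⟨t, ht⟩ : ∃ t : (S : Subgroup X), t ∉ rot S m eS :=
    ⟨eS.symm (sr 0), by rw [not_mem_rot]; exact ⟨0, by rw [MulEquiv.apply_symm_apply]⟩⟩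
  have hto := orderOf_of_not_mem_rot S m eS t ht
  constructor
  · intro H hH
    have hHn : H.Normal := Subgroup.normal_of_index_eq_two hH
    -- H has even order
    have h1 : Nat.card (S : Subgroup X) = 2 * m := by
      rw [Nat.card_congr eS.toEquiv, DihedralGroup.nat_card]
    have h2 : Nat.card (S : Subgroup X) ∣ Nat.card X := Subgroup.card_subgroup_dvd_card _
    have h3 := H.card_mul_index
    rw [hH] at h3
    have h4 : 2 ∣ Nat.card H := by
      obtain ⟨c, hc⟩ := h2
      obtain ⟨d, hd⟩ := m_even S m eS hm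
      rw [h1, hd] at hc
      have : Nat.card H = 2 * d * c := by
        have : Nat.card H * 2 = (2 * d * c) * 2 := by rw [h3, hc]; ring
        omega
      rw [this, mul_assoc]
      exact dvd_mul_right 2 _
    obtain ⟨u, hu⟩ := exists_prime_orderOf_dvd_card' 2 h4
    have huo : orderOf (u : X) = 2 := by rw [Subgroup.orderOf_coe]; exact hu
    -- all involutions lie in H
    have hall : ∀ b : X, orderOf b = 2 → b ∈ H := by
      intro b hb
      obtain ⟨c, hc⟩ := isConj_iff.mp (hconj (u : X) b huo hb)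
      rw [← hc]
      exact hHn.conj_mem _ u.2 c
    have hSH : (S : Subgroup X) ≤ H := by
      intro y hy
      have key : ∀ y' : (S : Subgroup X), y' ∉ rot S m eS → (y' : X) ∈ H := fun y' hy' =>
        hall _ (orderOf_of_not_mem_rot S m eS y' hy')
      by_cases hyr : (⟨y, hy⟩ : (S : Subgroup X)) ∈ rot S m eS
      · obtain ⟨a, b, ha, hb, hab⟩ := exists_mul_of_mem_rot S m eS _ hyr
        have : y = (a : X) * (b : X) := congrArg Subtype.val hab
        rw [this]
        exact H.mul_mem (key a ha) (key b hb)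
      · exact key ⟨y, hy⟩ hyr
    have h5 := Subgroup.index_dvd_of_le hSH
    rw [hH] at h5
    exact S.not_dvd_index h5
  · intro z hz
    -- z is conjugate to w, so w is isolated
    obtain ⟨c, hc⟩ := isConj_iff.mp (hconj z (w : X) hz.1 hwo)
    have hwiso : Cfsg.IsIsolatedInvolution (w : X) := hc ▸ Cfsg.Agent.Helper6.isolated_conj hz c
    obtain ⟨d, hd⟩ := isConj_iff.mp (hconj (w : X) (t : X) hwo hto)
    have hcomm : Commute (w : X) (d * (w : X) * d⁻¹) := by
      rw [hd]
      show (w : X) * (t : X) = (t : X) * (w : X)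
      exact congrArg Subtype.val (hwc t)
    have h6 := hwiso.2 d hcomm
    rw [hd] at h6
    apply ht
    have : t = w := Subtype.ext h6
    rw [this]
    exact hwr

/-- the second alternative implies that all involutions are conjugate into `rot` -/
theorem conj_into_rot_of_klein (hm : 2 ≤ m)
    (hK : ∀ U : Subgroup X, U ≤ S → IsKleinFour U →
      3 ∣ (Subgroup.centralizer (U : Set X)).relIndex (Subgroup.normalizer (U : Set X)))
    (a : X) (ha : orderOf a = 2) :
    ∃ g : X, ∃ h : g * a * g⁻¹ ∈ (S : Subgroup X),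
      (⟨g * a * g⁻¹, h⟩ : (S : Subgroup X)) ∈ rot S m eS := by
  obtain ⟨w, hwr, hwo, hwc⟩ := exists_rot_invol S m eS hm
  obtain ⟨g₁, hg₁⟩ := Cfsg.Agent.Helper18.QD.exists_conj_mem_sylow S a 1 (by rw [ha, pow_one])
  by_cases hin : (⟨g₁ * a * g₁⁻¹, hg₁⟩ : (S : Subgroup X)) ∈ rot S m eS
  · exact ⟨g₁, hg₁, hin⟩
  · set t : (S : Subgroup X) := ⟨g₁ * a * g₁⁻¹, hg₁⟩ with htdef
    have hto := orderOf_of_not_mem_rot S m eS t hin
    have hw2 : (w : X) * (w : X) = 1 := by
      have := pow_orderOf_eq_one (w : X)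
      rw [hwo, pow_two] at this
      exact this
    have ht2 : (t : X) * (t : X) = 1 := by
      have := pow_orderOf_eq_one (t : X)
      rw [hto, pow_two] at this
      exact this
    have hwt : (w : X) * (t : X) = (t : X) * (w : X) := congrArg Subtype.val (hwc t)
    have hw1 : (w : X) ≠ 1 := by
      intro h
      rw [h, orderOf_one] at hwo
      omega
    have ht1 : (t : X) ≠ 1 := by
      intro h
      rw [h, orderOf_one] at hto
      omega
    have hne : (w : X) ≠ (t : X) := by
      intro h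
      apply hin
      have : t = w := Subtype.ext h.symm
      rw [this]
      exact hwr
    have hUS : kleinSub (w : X) (t : X) hw2 ht2 hwt ≤ (S : Subgroup X) := by
      rintro v (rfl | rfl | rfl | rfl)
      · exact Subgroup.one_mem _
      · exact w.2
      · exact t.2
      · exact Subgroup.mul_mem _ w.2 t.2
    have h3 := hK _ hUS (kleinSub_isKleinFour hw2 ht2 hwt hw1 ht1 hne)
    obtain ⟨g₂, hg₂⟩ := conj_of_three_dvd hw2 ht2 hwt hw1 ht1 hne h3
    have hfin : g₂ * g₁ * a * (g₂ * g₁)⁻¹ = (w : X) := by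
      rw [← hg₂]
      show _ = g₂ * (g₁ * a * g₁⁻¹) * g₂⁻¹
      group
    refine ⟨g₂ * g₁, hfin ▸ w.2, ?_⟩
    have : (⟨g₂ * g₁ * a * (g₂ * g₁)⁻¹, hfin ▸ w.2⟩ : (S : Subgroup X)) = w := Subtype.ext hfin
    rw [this]
    exact hwr

theorem main (S : Sylow 2 X) (m : ℕ)
    (eS : (S : Subgroup X) ≃* DihedralGroup m) (hm : 2 ≤ m) :
    ((∀ H : Subgroup X, H.index ≠ 2) ∧ (∀ z : X, ¬ Cfsg.IsIsolatedInvolution z)) ↔
    ((∀ a b : X, orderOf a = 2 → orderOf b = 2 → IsConj a b) ∨
      (∀ U : Subgroup X, U ≤ S → IsKleinFour U →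
        (Subgroup.centralizer (U : Set X)).relIndex (Subgroup.normalizer (U : Set X)) =
          (if Nat.card S = 4 then 3 else 6))) := by
  constructor
  · rintro ⟨hG, -⟩
    left
    exact all_conj_of_conj_into_rot S m eS hm (conj_into_rot S m eS hG)
  · rintro (h | h)
    · exact fusion_simple_of_all_conj S m eS hm h
    · apply fusion_simple_of_all_conj S m eS hm
      apply all_conj_of_conj_into_rot S m eS hm
      apply conj_into_rot_of_klein S m eS hm
      intro U hU hUK
      rw [h U hU hUK]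
      split_ifs
      · exact dvd_refl 3
      · exact ⟨2, rfl⟩

end

end Cfsg.Agent.Helper18.DihFusion
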