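import Mathlib
import Cfsg.Prelude.Def_Transfer
import Cfsg.Agent.Helper18.QD8
import Cfsg.Agent.Helper11.Transfer

/-!
Quasi-dihedral Sylow 2-subgroups: the local indices `|N(T):C(T)|` and `|N(Q):Q C(Q)|` (S1203).
-/

set_option autoImplicit false

namespace Cfsg.Agent.Helper18.QD

section q8aut

open QuaternionGroup

theorem q8_a_eq : ∀ i : ZMod (2 * 2), (a i : QuaternionGroup 2) = a 1 ^ i.val := by decide

theorem q8_xa_eq : ∀ i : ZMod (2 * 2), (xa i : QuaternionGroup 2) = xa 0 * a 1 ^ i.val := by decide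

/-- pairs of possible images of the generators -/
def q8Pairs : Finset (QuaternionGroup 2 × QuaternionGroup 2) :=
  Finset.univ.filter (fun p => p.1 ^ 2 ≠ 1 ∧ p.2 ^ 2 ≠ 1 ∧ p.2 ≠ p.1 ∧ p.2 ≠ p.1⁻¹)

theorem q8Pairs_card : q8Pairs.card = 24 := by decide

theorem q8_gen_facts : ((a 1 : QuaternionGroup 2) ^ 2 ≠ 1) ∧ ((xa 0 : QuaternionGroup 2) ^ 2 ≠ 1) ∧
    ((xa 0 : QuaternionGroup 2) ≠ a 1) ∧ ((xa 0 : QuaternionGroup 2) ≠ (a 1)⁻¹) := by decide

theorem q8_aut_ext (φ ψ : MulAut (QuaternionGroup 2)) (h1 : φ (a 1) = ψ (a 1))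
    (h2 : φ (xa 0) = ψ (xa 0)) : φ = ψ := by
  ext g
  rcases g with i | i
  · rw [q8_a_eq i, map_pow, map_pow, h1]
  · rw [q8_xa_eq i, map_mul, map_mul, map_pow, map_pow, h1, h2]

theorem q8_card_aut_le : Nat.card (MulAut (QuaternionGroup 2)) ≤ 24 := by
  classical
  let f : MulAut (QuaternionGroup 2) → {p // p ∈ q8Pairs} := fun φ =>
    ⟨(φ (a 1), φ (xa 0)), by
      obtain ⟨f1, f2, f3, f4⟩ := q8_gen_facts
      unfold q8Pairs
      rw [Finset.mem_filter]
      refine ⟨Finset.mem_univ _, ?_, ?_, ?_, ?_⟩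
      · show φ (a 1) ^ 2 ≠ 1
        rw [← map_pow]; intro h; exact f1 (by rwa [map_eq_one_iff _ φ.injective] at h)
      · show φ (xa 0) ^ 2 ≠ 1
        rw [← map_pow]; intro h; exact f2 (by rwa [map_eq_one_iff _ φ.injective] at h)
      · show φ (xa 0) ≠ φ (a 1)
        intro h; exact f3 (φ.injective h)
      · show φ (xa 0) ≠ (φ (a 1))⁻¹
        rw [← map_inv]; intro h; exact f4 (φ.injective h)⟩
  have hf : Function.Injective f := by
    intro φ ψ h
    have h' := congrArg Subtype.val h
    simp only [f, Prod.mk.injEq] at h'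
    exact q8_aut_ext φ ψ h'.1 h'.2
  have := Nat.card_le_card_of_injective f hf
  have h2 : Nat.card {p // p ∈ q8Pairs} = 24 := by
    rw [Nat.card_eq_fintype_card, Fintype.card_coe, q8Pairs_card]
  rwa [h2] at this

/-- the automorphism of order 3 -/
def q8sig : QuaternionGroup 2 → QuaternionGroup 2
  | a i => if i = 0 then a 0 else if i = 1 then xa 0 else if i = 2 then a 2 else xa 2
  | xa i => if i = 0 then xa 3 else if i = 1 then a 3 else if i = 2 then xa 1 else a 1

theorem q8sig_mul : ∀ x y : QuaternionGroup 2, q8sig (x * y) = q8sig x * q8sig y := by decide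

theorem q8sig_cube : ∀ x : QuaternionGroup 2, q8sig (q8sig (q8sig x)) = x := by decide

theorem q8sig_ne : q8sig (a 1) ≠ a 1 := by decide

def q8sigEquiv : MulAut (QuaternionGroup 2) where
  toFun := q8sig
  invFun := fun x => q8sig (q8sig x)
  left_inv := fun x => q8sig_cube x
  right_inv := fun x => q8sig_cube x
  map_mul' := q8sig_mul

theorem q8_three_dvd : 3 ∣ Nat.card (MulAut (QuaternionGroup 2)) := by
  have h3 : q8sigEquiv ^ 3 = 1 := by
    ext x
    show q8sig (q8sig (q8sig x)) = x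
    exact q8sig_cube x
  have hne : q8sigEquiv ≠ 1 := by
    intro h
    have := congrArg (fun φ : MulAut (QuaternionGroup 2) => φ (a 1)) h
    exact q8sig_ne this
  have hp : Fact (Nat.Prime 3) := ⟨by norm_num⟩
  have := orderOf_eq_prime h3 hne
  rw [← this]
  exact orderOf_dvd_natCard _

theorem q8_card_center : Nat.card (Subgroup.center (QuaternionGroup 2)) = 2 := by
  rw [Nat.card_eq_fintype_card]
  decide

end q8aut

section generic

variable {G : Type*} [Group G]

/-- a 2-element of `N` outside the `N`-normal subgroup `H` makes the index even -/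
theorem two_dvd_relIndex (H N : Subgroup G) [hn : (H.subgroupOf N).Normal] (g : G) (hgN : g ∈ N)
    (hgH : g ∉ H) (k : ℕ) (hk : g ^ 2 ^ k = 1) : 2 ∣ H.relIndex N := by
  set g' : N := ⟨g, hgN⟩ with hg'
  set q : N ⧸ H.subgroupOf N := QuotientGroup.mk g' with hq
  have hq1 : q ≠ 1 := by
    intro h
    rw [hq, QuotientGroup.eq_one_iff] at h
    exact hgH (Subgroup.mem_subgroupOf.mp h)
  have hq2 : q ^ 2 ^ k = 1 := by
    have h1 : g' ^ 2 ^ k = 1 := by
      apply Subtype.ext
      rw [Subgroup.coe_pow]; exact hk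
    rw [hq, ← QuotientGroup.mk_pow, h1]; rfl
  obtain ⟨j, hj, hjo⟩ := (Nat.dvd_prime_pow Nat.prime_two).mp (orderOf_dvd_of_pow_eq_one hq2)
  have hj0 : j ≠ 0 := by
    rintro rfl
    rw [pow_zero, orderOf_eq_one_iff] at hjo
    exact hq1 hjo
  have h2 : 2 ∣ orderOf q := by rw [hjo]; exact dvd_pow_self 2 hj0
  exact h2.trans (orderOf_dvd_natCard q)

/-- normalizers computed in a subgroup `S` lie in the ambient normalizer -/
theorem coe_mem_normalizer (S P : Subgroup G) (hPS : P ≤ S) (g' : S)
    (hg' : g' ∈ Subgroup.normalizer ((P.subgroupOf S : Subgroup S) : Set S)) :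
    (g' : G) ∈ Subgroup.normalizer (P : Set G) := by
  rw [Subgroup.mem_normalizer_iff] at hg' ⊢
  intro h
  constructor
  · intro hh
    have h1 := (hg' ⟨h, hPS hh⟩).mp (Subgroup.mem_subgroupOf.mpr hh)
    have h2 := Subgroup.mem_subgroupOf.mp h1
    simpa using h2
  · intro hh
    have hS : h ∈ S := by
      have h1 := S.mul_mem (S.mul_mem (S.inv_mem g'.2) (hPS hh)) g'.2
      have e : (g' : G)⁻¹ * ((g' : G) * h * (g' : G)⁻¹) * (g' : G) = h := by group
      rwa [e] at h1
    have h1 : g' * ⟨h, hS⟩ * g'⁻¹ ∈ P.subgroupOf S := by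
      rw [Subgroup.mem_subgroupOf]; simpa using hh
    exact Subgroup.mem_subgroupOf.mp ((hg' ⟨h, hS⟩).mpr h1)

theorem mem_centralizer_subgroupOf (S P : Subgroup G) (g' : S)
    (hg : (g' : G) ∈ Subgroup.centralizer (P : Set G)) :
    g' ∈ Subgroup.centralizer ((P.subgroupOf S : Subgroup S) : Set S) := by
  rw [Subgroup.mem_centralizer_iff] at hg ⊢
  intro t ht
  apply Subtype.ext
  have := hg (t : G) (Subgroup.mem_subgroupOf.mp ht)
  simpa using this

end generic

section main

variable {G : Type*} [Group G] [Finite G]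

theorem centralizer_subgroupOf_normal (P : Subgroup G) :
    ((Subgroup.centralizer (P : Set G)).subgroupOf (Subgroup.normalizer (P : Set G))).Normal := by
  rw [← Subgroup.normalizerMonoidHom_ker]
  infer_instance

theorem local_index_klein (S : Sylow 2 G) (hS : Cfsg.IsQuasiDihedral (S : Subgroup G))
    (T : Subgroup G) (hT : IsKleinFour T) (hTS : T ≤ S) :
    (Subgroup.centralizer (T : Set G)).relIndex (Subgroup.normalizer (T : Set G)) = 2 ∨
    (Subgroup.centralizer (T : Set G)).relIndex (Subgroup.normalizer (T : Set G)) = 6 := by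
  have hp : Fact (Nat.Prime 2) := ⟨Nat.prime_two⟩
  obtain ⟨D⟩ := exists_qdData hS
  set T' : Subgroup (S : Subgroup G) := T.subgroupOf S with hT'
  have hT'K : IsKleinFour T' := by
    apply Cfsg.Agent.Helper18.Wr.isKleinFour_of_card_of_sq
    · rw [Nat.card_congr (Subgroup.subgroupOfEquivOfLe hTS).toEquiv]; exact hT.card_four
    · intro v hv
      have hvT : (v : G) ∈ T := Subgroup.mem_subgroupOf.mp hv
      have := IsKleinFour.mul_self (⟨(v : G), hvT⟩ : T)
      apply Subtype.ext
      have h3 := congrArg Subtype.val this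
      simpa using h3
  obtain ⟨hcent, hidx⟩ := D.klein_main.2 T' hT'K
  -- an element of `N_S(T) \ T`
  have hex : ∃ g' : (S : Subgroup G), g' ∈ Subgroup.normalizer (T' : Set (S : Subgroup G)) ∧
      g' ∉ T' := by
    by_contra hcon
    push Not at hcon
    have : T'.relIndex (Subgroup.normalizer (T' : Set (S : Subgroup G))) = 1 :=
      Subgroup.relIndex_eq_one.mpr hcon
    omega
  obtain ⟨g', hg'N, hg'T⟩ := hex
  have hgN : (g' : G) ∈ Subgroup.normalizer (T : Set G) := coe_mem_normalizer S T hTS g' hg'N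
  have hgC : (g' : G) ∉ Subgroup.centralizer (T : Set G) := by
    intro h
    have := mem_centralizer_subgroupOf S T g' h
    rw [hcent] at this
    exact hg'T this
  obtain ⟨k, hk⟩ := S.isPGroup' g'
  have hk' : (g' : G) ^ 2 ^ k = 1 := by
    have := congrArg Subtype.val hk
    simpa using this
  have hnorm := centralizer_subgroupOf_normal T
  have heven := two_dvd_relIndex _ _ (g' : G) hgN hgC k hk'
  have h1 := Cfsg.Agent.Helper11.relIndex_centralizer_normalizer_dvd_card_mulAut T
  have h2 := Cfsg.Agent.Helper11.card_mulAut_dvd_factorial T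
  rw [hT.card_four] at h2
  have h3 : (Subgroup.centralizer (T : Set G)).relIndex (Subgroup.normalizer (T : Set G)) ∣ 6 :=
    h1.trans h2
  have h4 := Nat.le_of_dvd (by norm_num) h3
  have h5 : (Subgroup.centralizer (T : Set G)).relIndex (Subgroup.normalizer (T : Set G)) ≠ 0 := by
    intro h; rw [h] at h3; omega
  generalize (Subgroup.centralizer (T : Set G)).relIndex (Subgroup.normalizer (T : Set G)) = m at *
  interval_cases m <;> omega

theorem local_index_quat (S : Sylow 2 G) (hS : Cfsg.IsQuasiDihedral (S : Subgroup G))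
    (Q : Subgroup G) (hQS : Q ≤ S) (eQ : Q ≃* QuaternionGroup 2) :
    (Q ⊔ Subgroup.centralizer (Q : Set G)).relIndex (Subgroup.normalizer (Q : Set G)) = 2 ∨
    (Q ⊔ Subgroup.centralizer (Q : Set G)).relIndex (Subgroup.normalizer (Q : Set G)) = 6 := by
  have hp : Fact (Nat.Prime 2) := ⟨Nat.prime_two⟩
  obtain ⟨D⟩ := exists_qdData hS
  set Q' : Subgroup (S : Subgroup G) := Q.subgroupOf S with hQ'
  have hQ'e : Nonempty (Q' ≃* QuaternionGroup 2) := ⟨(Subgroup.subgroupOfEquivOfLe hQS).trans eQ⟩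
  obtain ⟨hcent, hidx⟩ := D.quat_main.2 Q' hQ'e
  set N := Subgroup.normalizer (Q : Set G) with hN
  set C := Subgroup.centralizer (Q : Set G) with hC
  have hCN : C ≤ N := Subgroup.centralizer_le_normalizer (Q : Set G)
  have hQN : Q ≤ N := Subgroup.le_normalizer
  have hQCN : Q ⊔ C ≤ N := sup_le hQN hCN
  have hnormC : (C.subgroupOf N).Normal := centralizer_subgroupOf_normal Q
  have hnormQ : (Q.subgroupOf N).Normal := Subgroup.normal_in_normalizer
  have hsup : (Q ⊔ C).subgroupOf N = Q.subgroupOf N ⊔ C.subgroupOf N :=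
    Subgroup.subgroupOf_sup hQN hCN
  have hnormQC : ((Q ⊔ C).subgroupOf N).Normal := by rw [hsup]; infer_instance
  -- an element of `N_S(Q) \ Q`
  have hex : ∃ g' : (S : Subgroup G), g' ∈ Subgroup.normalizer (Q' : Set (S : Subgroup G)) ∧
      g' ∉ Q' := by
    by_contra hcon
    push Not at hcon
    have : Q'.relIndex (Subgroup.normalizer (Q' : Set (S : Subgroup G))) = 1 :=
      Subgroup.relIndex_eq_one.mpr hcon
    omega
  obtain ⟨g', hg'N, hg'Q⟩ := hex
  have hgN : (g' : G) ∈ N := coe_mem_normalizer S Q hQS g' hg'N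
  have hgQC : (g' : G) ∉ Q ⊔ C := by
    intro h
    have h1 : (⟨(g' : G), hgN⟩ : N) ∈ Q.subgroupOf N ⊔ C.subgroupOf N := by
      rw [← hsup, Subgroup.mem_subgroupOf]; exact h
    rw [Subgroup.mem_sup_of_normal_right] at h1
    obtain ⟨a, ha, b, hb, hab⟩ := h1
    have haQ : (a : G) ∈ Q := Subgroup.mem_subgroupOf.mp ha
    have hbC : (b : G) ∈ C := Subgroup.mem_subgroupOf.mp hb
    have hab' : (a : G) * (b : G) = (g' : G) := by
      have := congrArg Subtype.val hab
      simpa using this
    have hbS : (b : G) ∈ (S : Subgroup G) := by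
      have : (b : G) = (a : G)⁻¹ * (g' : G) := by rw [← hab']; group
      rw [this]
      exact Subgroup.mul_mem _ (Subgroup.inv_mem _ (hQS haQ)) g'.2
    have hb' := mem_centralizer_subgroupOf S Q ⟨(b : G), hbS⟩ hbC
    rw [hcent] at hb'
    obtain ⟨u, _, hu⟩ := hb'
    have hbQ' : (⟨(b : G), hbS⟩ : (S : Subgroup G)) ∈ Q' := by rw [← hu]; exact u.2
    have hbQ : (b : G) ∈ Q := Subgroup.mem_subgroupOf.mp hbQ'
    apply hg'Q
    rw [hQ', Subgroup.mem_subgroupOf, ← hab']
    exact Q.mul_mem haQ hbQ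
  obtain ⟨k, hk⟩ := S.isPGroup' g'
  have hk' : (g' : G) ^ 2 ^ k = 1 := by
    have := congrArg Subtype.val hk
    simpa using this
  have heven := two_dvd_relIndex (Q ⊔ C) N (g' : G) hgN hgQC k hk'
  -- `|QC : C| = 4`
  have h4 : C.relIndex (Q ⊔ C) = 4 := by
    rw [← Subgroup.relIndex_subgroupOf hQCN, hsup, Subgroup.relIndex_sup_right,
      Subgroup.relIndex_subgroupOf hQN]
    have e1 : C.subgroupOf Q = Subgroup.center Q := by
      ext x
      rw [Subgroup.mem_subgroupOf, Subgroup.mem_center_iff, Subgroup.mem_centralizer_iff]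
      constructor
      · intro h t
        apply Subtype.ext
        exact h t t.2
      · intro h t ht
        exact congrArg Subtype.val (h ⟨t, ht⟩)
    show (C.subgroupOf Q).index = 4
    rw [e1]
    have h8 : Nat.card Q = 8 := by
      rw [Nat.card_congr eQ.toEquiv, Nat.card_eq_fintype_card, QuaternionGroup.card]
    have h2 : Nat.card (Subgroup.center Q) = 2 := by
      rw [Nat.card_congr (Subgroup.centerCongr eQ).toEquiv]; exact q8_card_center
    have := Subgroup.card_mul_index (Subgroup.center Q)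
    rw [h8, h2] at this
    omega
  have hmul := Subgroup.relIndex_mul_relIndex C (Q ⊔ C) N le_sup_right hQCN
  have h1 := Cfsg.Agent.Helper11.relIndex_centralizer_normalizer_dvd_card_mulAut Q
  have hcard : Nat.card (MulAut Q) = Nat.card (MulAut (QuaternionGroup 2)) :=
    Nat.card_congr (MulAut.congr eQ).toEquiv
  rw [hcard] at h1
  have hA1 := q8_card_aut_le
  have hA2 := q8_three_dvd
  have hA0 : 0 < Nat.card (MulAut (QuaternionGroup 2)) := Nat.card_pos
  rw [← hmul, h4] at h1
  generalize Nat.card (MulAut (QuaternionGroup 2)) = A at *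
  generalize (Q ⊔ C).relIndex N = m at *
  have h12 : 12 ∣ A := by
    have h4A : 4 ∣ A := (Dvd.intro _ rfl).trans h1
    exact Nat.Coprime.mul_dvd_of_dvd_of_dvd (by norm_num : Nat.Coprime 4 3) h4A hA2
  obtain ⟨c, rfl⟩ := h12
  have hc : c = 1 ∨ c = 2 := by omega
  have h24 : 4 * m ∣ 24 := by
    rcases hc with rfl | rfl
    · exact h1.trans (by norm_num)
    · exact h1
  have hm6 : m ∣ 6 := by
    have : 4 * m ∣ 4 * 6 := h24
    exact Nat.dvd_of_mul_dvd_mul_left (by norm_num) this
  have hle := Nat.le_of_dvd (by norm_num) hm6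
  have hm0 : m ≠ 0 := by rintro rfl; omega
  interval_cases m <;> omega

end main

end Cfsg.Agent.Helper18.QD
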