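import Mathlib
import Cfsg.Agent.Helper18.QD3
import Cfsg.Agent.Helper2.QuaternionLift

/-!
Quasi-dihedral groups: S1192 (maximal subgroups), S1193 (derived/Frattini/centre/Ω₁), S1194 (normal subgroups).
-/

set_option autoImplicit false

namespace Cfsg.Agent.Helper18.QD

namespace QDData

variable {S : Type*} [Group S] (D : QDData S) [Finite S]

theorem n_eq {n : ℕ} (hn : Nat.card S = 2 ^ (n + 1)) : n = D.n := by
  have := D.card
  rw [hn] at this
  have h2 := Nat.pow_right_injective (le_refl 2) this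
  omega

theorem k_mul_two : D.k * 2 = -2 := by
  unfold k
  have := two_mul_hh D.hn1
  linear_combination this

theorem y_not_mem_zpowers_r_two {M : Subgroup S} (a b : M) (ha : (a : S) ∈ D.R) (hb : (b : S) ∉ D.R) :
    b ∉ Subgroup.zpowers a := by
  intro h
  obtain ⟨m, hm⟩ := Subgroup.mem_zpowers_iff.mp h
  apply hb
  rw [← hm, Subgroup.coe_zpow]
  exact D.R.zpow_mem ha m

theorem Md_dihedral : Nonempty (D.Md ≃* DihedralGroup (2 ^ (D.n - 1))) := by
  have hpow : 2 ^ D.n = 2 * 2 ^ (D.n - 1) := by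
    rw [← pow_succ']; congr 1; have := D.hn; omega
  have ha : D.r 2 ∈ D.Md := D.r_mem_Md.mpr ⟨1, by rw [mul_one]⟩
  have hb : D.y ∈ D.Md := by rw [← D.sr_zero]; exact D.sr_mem_Md.mpr ⟨0, by rw [mul_zero]⟩
  refine Cfsg.Agent.Helper11.nonempty_mulEquiv_dihedralGroup (2 ^ (D.n - 1)) ?_ ⟨D.r 2, ha⟩ ⟨D.y, hb⟩
    ?_ ?_ ?_ ?_
  · rw [D.card_of_index_two D.Md_index, hpow]
  · rw [Subgroup.orderOf_mk, D.orderOf_r_two]
  · exact Subtype.ext D.y_mul_y
  · apply Subtype.ext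
    show D.y * D.r 2 * D.y = (D.r 2)⁻¹
    have := D.y_conj_r 2
    rw [D.y_inv] at this
    rw [this, k_mul_two, r_neg]
  · apply D.y_not_mem_zpowers_r_two
    · exact D.r_mem_R 2
    · show D.y ∉ D.R
      rw [← D.sr_zero]; exact D.sr_not_mem_R 0

theorem Mq_quaternion : Nonempty (D.Mq ≃* QuaternionGroup (2 ^ (D.n - 2))) := by
  have hpow : 2 ^ D.n = 4 * 2 ^ (D.n - 2) := by
    have : (4 : ℕ) = 2 ^ 2 := by norm_num
    rw [this, ← pow_add]; congr 1; have := D.hn; omega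
  have hpow1 : 2 ^ (D.n - 1) = 2 * 2 ^ (D.n - 2) := by
    rw [← pow_succ']; congr 1; have := D.hn; omega
  have ha : D.r 2 ∈ D.Mq := D.r_mem_Mq.mpr ⟨1, by rw [mul_one]⟩
  have hb : D.sr 1 ∈ D.Mq := D.sr_mem_Mq.mpr ⟨0, by rw [mul_zero, zero_add]⟩
  refine Cfsg.Agent.Helper2.QLift.nonempty_mulEquiv_quaternionGroup (2 ^ (D.n - 2)) ?_
    ⟨D.r 2, ha⟩ ⟨D.sr 1, hb⟩ ?_ ?_ ?_ ?_
  · rw [D.card_of_index_two D.Mq_index, hpow]
  · rw [Subgroup.orderOf_mk, D.orderOf_r_two, hpow1]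
  · apply Subtype.ext
    show D.sr 1 * D.sr 1 = (D.r 2) ^ (2 ^ (D.n - 2))
    rw [sr_mul_self, ← r_natCast_mul, r_inj]
    have := two_mul_qq D.hn2
    unfold qq at this
    push_cast
    linear_combination -this
  · apply Subtype.ext
    show D.sr 1 * D.r 2 * (D.sr 1)⁻¹ = (D.r 2)⁻¹
    rw [sr_conj_r, k_mul_two, r_neg]
  · apply D.y_not_mem_zpowers_r_two
    · exact D.r_mem_R 2
    · exact D.sr_not_mem_R 1

theorem maximal_main (D : QDData S) (n : ℕ) (hn : Nat.card S = 2 ^ (n + 1)) :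
    ∃ M₁ M₂ M₃ : Subgroup S, IsCoatom M₁ ∧ IsCoatom M₂ ∧ IsCoatom M₃ ∧ M₁ ≠ M₂ ∧ M₁ ≠ M₃ ∧
      M₂ ≠ M₃ ∧ (∀ M : Subgroup S, IsCoatom M → M = M₁ ∨ M = M₂ ∨ M = M₃) ∧ IsCyclic M₁ ∧
      Nonempty (M₂ ≃* QuaternionGroup (2 ^ (n - 2))) ∧
      Nonempty (M₃ ≃* DihedralGroup (2 ^ (n - 1))) := by
  obtain rfl := D.n_eq hn
  exact ⟨D.R, D.Mq, D.Md, D.R_coatom, D.Mq_coatom, D.Md_coatom, D.R_ne_Mq, D.R_ne_Md, D.Mq_ne_Md,
    fun M hM => D.coatom_cases hM, D.R_isCyclic, D.Mq_quaternion, D.Md_dihedral⟩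

theorem closure_invol_eq : Subgroup.closure {x : S | orderOf x = 2} = D.Md := by
  apply le_antisymm
  · rw [Subgroup.closure_le]
    intro t ht
    rcases (D.invol_iff t).mp ht with rfl | ⟨j, rfl⟩
    · exact D.r_mem_Md.mpr ⟨qq D.n, (two_mul_qq D.hn2).symm⟩
    · exact D.sr_mem_Md.mpr ⟨j, rfl⟩
  · apply D.Md_le
    · have h1 : D.sr 2 ∈ Subgroup.closure {x : S | orderOf x = 2} :=
        Subgroup.subset_closure ((D.invol_iff _).mpr (Or.inr ⟨1, by rw [mul_one]⟩))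
      have h2 : D.sr 0 ∈ Subgroup.closure {x : S | orderOf x = 2} :=
        Subgroup.subset_closure ((D.invol_iff _).mpr (Or.inr ⟨0, by rw [mul_zero]⟩))
      have := Subgroup.mul_mem _ h1 h2
      rwa [sr_mul_sr, mul_zero, add_zero] at this
    · exact Subgroup.subset_closure D.hy

theorem derived_main (D : QDData S) (n : ℕ) (hn : Nat.card S = 2 ^ (n + 1)) :
    commutator S = frattini S ∧ IsCyclic (commutator S) ∧ Nat.card (commutator S) = 2 ^ (n - 1) ∧
      Nat.card (Subgroup.center S) = 2 ∧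
      Nonempty (↥(Subgroup.closure {x : S | orderOf x = 2}) ≃* DihedralGroup (2 ^ (n - 1))) := by
  obtain rfl := D.n_eq hn
  refine ⟨by rw [D.commutator_eq_R2, D.frattini_eq_R2], ?_, ?_, D.card_center, ?_⟩
  · rw [D.commutator_eq_R2]
    have := D.R_isCyclic
    exact Subgroup.isCyclic_of_le D.R2_le_R
  · rw [D.commutator_eq_R2]; exact D.card_R2
  · rw [D.closure_invol_eq]; exact D.Md_dihedral

theorem normal_main (D : QDData S) (N : Subgroup S) [N.Normal] (hN : N ≠ ⊤) :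
    IsCoatom N ∨ (IsCyclic N ∧ N ≤ commutator S) := by
  by_cases hsr : ∃ i, D.sr i ∈ N
  · left
    obtain ⟨i, hi⟩ := hsr
    have h1 : ∀ j, D.sr (i + 2 * j) ∈ N := by
      intro j
      rw [← D.r_conj_sr_two j i]
      exact Subgroup.Normal.conj_mem inferInstance _ hi _
    have h2 : D.r 2 ∈ N := by
      have := N.mul_mem (h1 1) (N.inv_mem hi)
      rw [sr_inv, sr_mul_sr] at this
      have e : i + 2 * 1 + D.k * (i + hh D.n * i) = 2 := by
        unfold k
        have := hh_mul_hh D.hn2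
        linear_combination i * this
      rwa [e] at this
    rcases even_or_odd i with ⟨j, rfl⟩ | ⟨j, rfl⟩
    · have hy : D.y ∈ N := by
        have := N.mul_mem (D.R2_le_of_r_two_mem N h2 ⟨-j, rfl⟩) hi
        rw [r_mul_sr] at this
        have e : 2 * -j + 2 * j = 0 := by ring
        rwa [e, sr_zero] at this
      rw [(D.Md_coatom.le_iff_eq hN).mp (D.Md_le N h2 hy)]
      exact D.Md_coatom
    · have hy : D.sr 1 ∈ N := by
        have := N.mul_mem (D.R2_le_of_r_two_mem N h2 ⟨-j, rfl⟩) hi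
        rw [r_mul_sr] at this
        have e : 2 * -j + (2 * j + 1) = 1 := by ring
        rwa [e] at this
      rw [(D.Mq_coatom.le_iff_eq hN).mp (D.Mq_le N h2 hy)]
      exact D.Mq_coatom
  · have hNR : N ≤ D.R := by
      intro s hs
      rcases D.exists_rep s with ⟨i, rfl⟩ | ⟨i, rfl⟩
      · exact D.r_mem_R i
      · exact absurd ⟨i, hs⟩ hsr
    by_cases hodd : ∃ j, D.r (2 * j + 1) ∈ N
    · left
      obtain ⟨j, hj⟩ := hodd
      obtain ⟨u, hu⟩ := odd_unit j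
      have := D.r_mul_mem N hj u
      rw [hu] at this
      rw [(D.R_coatom.le_iff_eq hN).mp (D.R_le_of_r_one_mem N this)]
      exact D.R_coatom
    · right
      constructor
      · haveI := D.R_isCyclic
        exact Subgroup.isCyclic_of_le hNR
      · rw [D.commutator_eq_R2]
        intro s hs
        obtain ⟨i, rfl⟩ := hNR hs
        rcases even_or_odd i with ⟨j, rfl⟩ | ⟨j, rfl⟩
        · exact ⟨j, rfl⟩
        · exact absurd ⟨j, hs⟩ hodd

end QDData

end Cfsg.Agent.Helper18.QD
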