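import Mathlib
import Cfsg.Agent.Helper18.Wr5
import Cfsg.Agent.Helper18.QD6
import Cfsg.Agent.Helper2.QuaternionLift

/-!
Wreathed 2-groups: the unique generalized quaternion subgroup of order `2^(n+1)` (S1199).
-/

set_option autoImplicit false

namespace Cfsg.Agent.Helper18.Wr

open Cfsg.Agent.Helper18.QD (hh two_mul_hh hh_ne_zero two_mul_eq_zero_iff neg_hh)

/-- abstract structure of a generalized quaternion group with distinguished cyclic subgroup -/
def QK {G : Type*} [Group G] (Y : Subgroup G) (c : G) (m : ℕ) : Prop :=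
  c ∈ Y ∧ orderOf c = 2 * m ∧
    ∀ y ∈ Y, y ∈ Subgroup.zpowers c ∨ (y ^ 2 = c ^ m ∧ y * c * y⁻¹ = c⁻¹)

theorem quat_conj_a_one {m : ℕ} (i : ZMod (2 * m)) :
    QuaternionGroup.xa i * QuaternionGroup.a 1 * (QuaternionGroup.xa i)⁻¹
      = (QuaternionGroup.a 1 : QuaternionGroup m)⁻¹ := by
  have hinv : (QuaternionGroup.a 1 : QuaternionGroup m)⁻¹ = QuaternionGroup.a (-1) := by
    apply inv_eq_of_mul_eq_one_right
    rw [QuaternionGroup.a_mul_a, add_neg_cancel, QuaternionGroup.a_zero]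
  rw [mul_inv_eq_iff_eq_mul, hinv, QuaternionGroup.xa_mul_a, QuaternionGroup.a_mul_xa, sub_neg_eq_add]

theorem qk_of_equiv {G : Type*} [Group G] (Y : Subgroup G) (m : ℕ) [NeZero m]
    (φ : Y ≃* QuaternionGroup m) : QK Y ((φ.symm (QuaternionGroup.a 1) : Y) : G) m := by
  refine ⟨(φ.symm (QuaternionGroup.a 1)).2, ?_, ?_⟩
  · rw [Subgroup.orderOf_coe, MulEquiv.orderOf_eq, QuaternionGroup.orderOf_a_one]
  · intro y hy
    have hy' : φ.symm (φ ⟨y, hy⟩) = ⟨y, hy⟩ := φ.symm_apply_apply _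
    rcases hg : φ ⟨y, hy⟩ with i | i
    · left
      rw [hg] at hy'
      have hi : ((i.val : ℕ) : ZMod (2 * m)) = i := ZMod.natCast_zmod_val i
      have h1 : (QuaternionGroup.a i : QuaternionGroup m) = QuaternionGroup.a 1 ^ i.val := by
        rw [QuaternionGroup.a_one_pow, hi]
      rw [h1, map_pow] at hy'
      have h2 : ((φ.symm (QuaternionGroup.a 1) ^ i.val : Y) : G) = y := congrArg Subtype.val hy'
      rw [Subgroup.coe_pow] at h2
      rw [← h2]
      exact Subgroup.pow_mem _ (Subgroup.mem_zpowers _) _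
    · right
      rw [hg] at hy'
      constructor
      · have h1 : (QuaternionGroup.xa i : QuaternionGroup m) ^ 2 = QuaternionGroup.a 1 ^ m := by
          rw [QuaternionGroup.xa_sq, QuaternionGroup.a_one_pow]
        have h2 := congrArg φ.symm h1
        rw [map_pow, map_pow, hy'] at h2
        have h3 := congrArg Subtype.val h2
        rwa [Subgroup.coe_pow, Subgroup.coe_pow] at h3
      · have h2 := congrArg φ.symm (quat_conj_a_one (m := m) i)
        rw [map_mul, map_mul, map_inv, map_inv, hy'] at h2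
        have h3 := congrArg Subtype.val h2
        simpa using h3

theorem q8_cyclic_structure : ∀ c y : QuaternionGroup 2, c ^ 2 ≠ 1 →
    (y = 1 ∨ y = c ∨ y = c ^ 2 ∨ y = c ^ 3) ∨ (y ^ 2 = c ^ 2 ∧ y * c * y⁻¹ = c⁻¹) := by decide

theorem q8_unique_invol : ∀ g : QuaternionGroup 2, g ^ 2 = 1 → g = 1 ∨ g = QuaternionGroup.a 2 := by
  decide

/-- in `Q₈`, any element of order 4 can serve as the distinguished generator -/
theorem qk_of_equiv_q8 {G : Type*} [Group G] (Y : Subgroup G) (φ : Y ≃* QuaternionGroup 2)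
    (c : G) (hc : c ∈ Y) (hc2 : c ^ 2 ≠ 1) : QK Y c 2 := by
  have hinj : ∀ a b : Y, φ a = φ b → a = b := fun a b h => φ.injective h
  have hc2' : (φ ⟨c, hc⟩) ^ 2 ≠ 1 := by
    intro h
    rw [← map_pow, ← map_one φ] at h
    have := congrArg Subtype.val (φ.injective h)
    exact hc2 (by simpa using this)
  refine ⟨hc, ?_, ?_⟩
  · have h4 : c ^ 4 = 1 := by
      have := QD.q8_pow_four (φ ⟨c, hc⟩)
      rw [← map_pow, ← map_one φ] at this
      have := congrArg Subtype.val (φ.injective this)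
      simpa using this
    exact (QD.orderOf_eq_four_iff c).mpr ⟨h4, hc2⟩
  · intro y hy
    rcases q8_cyclic_structure (φ ⟨c, hc⟩) (φ ⟨y, hy⟩) hc2' with h | h
    · left
      rcases h with h | h | h | h
      · rw [← map_one φ] at h
        have := congrArg Subtype.val (φ.injective h)
        simp only [Subgroup.coe_one] at this
        rw [this]; exact Subgroup.one_mem _
      · have := congrArg Subtype.val (φ.injective h)
        simp only at this
        rw [this]; exact Subgroup.mem_zpowers _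
      · rw [← map_pow] at h
        have := congrArg Subtype.val (φ.injective h)
        simp only [Subgroup.coe_pow] at this
        rw [this]; exact Subgroup.pow_mem _ (Subgroup.mem_zpowers _) _
      · rw [← map_pow] at h
        have := congrArg Subtype.val (φ.injective h)
        simp only [Subgroup.coe_pow] at this
        rw [this]; exact Subgroup.pow_mem _ (Subgroup.mem_zpowers _) _
    · right
      obtain ⟨h1, h2⟩ := h
      constructor
      · rw [← map_pow, ← map_pow] at h1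
        have := congrArg Subtype.val (φ.injective h1)
        simpa using this
      · rw [← map_inv, ← map_inv, ← map_mul, ← map_mul] at h2
        have := congrArg Subtype.val (φ.injective h2)
        simpa using this

namespace WrData

variable {S : Type*} [Group S] (D : WrData S)

/-- the generalized quaternion subgroup -/
def Qg : Subgroup S where
  carrier := {s | (∃ t, s = D.u t (-t)) ∨ (∃ a, s = D.uz a (hh D.n - a))}
  mul_mem' := by
    have h2h := two_mul_hh D.hn1
    rintro _ _ (⟨t, rfl⟩ | ⟨a, rfl⟩) (⟨t', rfl⟩ | ⟨a', rfl⟩)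
    · exact Or.inl ⟨t + t', by rw [u_mul_u, u_inj]; constructor <;> ring⟩
    · exact Or.inr ⟨t + a', by rw [u_mul_uz, uz_inj]; constructor <;> ring⟩
    · exact Or.inr ⟨a - t', by rw [uz_mul_u, uz_inj]; constructor <;> ring⟩
    · refine Or.inl ⟨a + hh D.n - a', ?_⟩
      rw [uz_mul_uz, u_inj]
      constructor
      · ring
      · linear_combination h2h
  one_mem' := Or.inl ⟨0, by rw [neg_zero, u_zero]⟩
  inv_mem' := by
    have h2h := two_mul_hh D.hn1
    rintro _ (⟨t, rfl⟩ | ⟨a, rfl⟩)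
    · exact Or.inl ⟨-t, by rw [u_inv]⟩
    · refine Or.inr ⟨a - hh D.n, ?_⟩
      rw [uz_inv, uz_inj]
      constructor
      · ring
      · linear_combination -h2h

theorem u_mem_Qg {a b : ZMod (2 ^ D.n)} : D.u a b ∈ D.Qg ↔ b = -a := by
  constructor
  · rintro (⟨t, h⟩ | ⟨a', h⟩)
    · obtain ⟨h1, h2⟩ := D.u_inj.mp h; rw [h1, h2]
    · exact absurd h (D.u_ne_uz _ _ _ _)
  · rintro rfl; exact Or.inl ⟨a, rfl⟩

theorem uz_mem_Qg {a b : ZMod (2 ^ D.n)} : D.uz a b ∈ D.Qg ↔ a + b = hh D.n := by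
  constructor
  · rintro (⟨t, h⟩ | ⟨a', h⟩)
    · exact absurd h.symm (D.u_ne_uz _ _ _ _)
    · obtain ⟨h1, h2⟩ := D.uz_inj.mp h; rw [h1, h2]; ring
  · intro h; exact Or.inr ⟨a, by rw [← h]; congr 1; ring⟩

theorem Qg_normal [Finite S] : D.Qg.Normal := by
  refine ⟨fun v hv g => ?_⟩
  rcases hv with ⟨t, rfl⟩ | ⟨a, rfl⟩
  · rcases D.conj_u g t (-t) with h | h
    · rw [h]; exact D.u_mem_Qg.mpr rfl
    · rw [h]; exact D.u_mem_Qg.mpr (by rw [neg_neg])
  · rcases D.exists_rep g with ⟨c, d, rfl⟩ | ⟨c, d, rfl⟩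
    · rw [u_conj_uz, uz_mem_Qg]; ring
    · rw [uz_conj_uz, uz_mem_Qg]; ring

theorem Qg_inf_U [Finite S] : D.Qg ⊓ D.U = commutator S := by
  ext s
  rw [D.mem_commutator_iff]
  constructor
  · rintro ⟨h1, a, b, rfl⟩
    exact ⟨a, by rw [D.u_mem_Qg.mp h1]⟩
  · rintro ⟨t, rfl⟩
    exact ⟨D.u_mem_Qg.mpr rfl, D.u_mem_U _ _⟩

theorem card_Qg [Finite S] : Nat.card D.Qg = 2 ^ (D.n + 1) := by
  have hnot : ¬ D.Qg ≤ D.U := by
    intro h
    have : D.uz 0 (hh D.n) ∈ D.Qg := D.uz_mem_Qg.mpr (zero_add _)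
    exact D.uz_not_mem_U _ _ (h this)
  have := D.card_inf_U D.Qg hnot
  rw [D.Qg_inf_U, D.commutator_eq, Nat.card_zpowers, orderOf_u_one_left] at this
  rw [← this, pow_succ]

theorem hh_eq_natCast : hh D.n = ((2 ^ (D.n - 1) : ℕ) : ZMod (2 ^ D.n)) := by
  unfold hh; push_cast; rfl

theorem Qg_equiv [Finite S] : Nonempty (D.Qg ≃* QuaternionGroup (2 ^ (D.n - 1))) := by
  have hpow : 2 ^ (D.n + 1) = 4 * 2 ^ (D.n - 1) := by
    have : (4 : ℕ) = 2 ^ 2 := by norm_num
    rw [this, ← pow_add]; congr 1; have := D.hn; omega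
  have hpow1 : 2 ^ D.n = 2 * 2 ^ (D.n - 1) := by
    rw [← pow_succ']; congr 1; have := D.hn; omega
  have ha : D.u 1 (-1) ∈ D.Qg := D.u_mem_Qg.mpr rfl
  have hb : D.uz 0 (hh D.n) ∈ D.Qg := D.uz_mem_Qg.mpr (zero_add _)
  refine Cfsg.Agent.Helper2.QLift.nonempty_mulEquiv_quaternionGroup (2 ^ (D.n - 1)) ?_
    ⟨_, ha⟩ ⟨_, hb⟩ ?_ ?_ ?_ ?_
  · rw [D.card_Qg, hpow]
  · rw [Subgroup.orderOf_mk, orderOf_u_one_left, hpow1]
  · apply Subtype.ext
    show D.uz 0 (hh D.n) * D.uz 0 (hh D.n) = (D.u 1 (-1)) ^ (2 ^ (D.n - 1))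
    rw [uz_mul_uz, u_pow, ← D.hh_eq_natCast, u_inj]
    have := neg_hh D.hn1
    constructor
    · ring
    · linear_combination -this
  · apply Subtype.ext
    show D.uz 0 (hh D.n) * D.u 1 (-1) * (D.uz 0 (hh D.n))⁻¹ = (D.u 1 (-1))⁻¹
    rw [uz_conj_u, u_inv, neg_neg]
  · intro h
    obtain ⟨k, hk⟩ := Subgroup.mem_zpowers_iff.mp h
    have h2 := congrArg Subtype.val hk
    rw [Subgroup.coe_zpow] at h2
    have : D.u 1 (-1) ^ k ∈ D.U := Subgroup.zpow_mem _ (D.u_mem_U _ _) k
    rw [h2] at this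
    exact D.uz_not_mem_U _ _ this

/-- a subgroup with quaternion structure whose cyclic generator lies in `U` is inside `Qg` -/
theorem le_Qg_of_QK [Finite S] (Y : Subgroup S) (c : S) (m : ℕ) (hm : 2 ≤ m) (hK : QK Y c m)
    (hcU : c ∈ D.U) (hnc : ∃ y ∈ Y, y ∉ Subgroup.zpowers c) : Y ≤ D.Qg := by
  obtain ⟨hcY, hord, hstr⟩ := hK
  obtain ⟨α, β, rfl⟩ := hcU
  have hne : D.u α β ≠ (D.u α β)⁻¹ := by
    intro h
    have h2 : D.u α β ^ 2 = 1 := by
      rw [pow_two]; nth_rewrite 2 [h]; exact mul_inv_cancel _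
    have := orderOf_dvd_of_pow_eq_one h2
    rw [hord] at this
    have := Nat.le_of_dvd (by norm_num) this
    omega
  -- elements outside zpowers c are of uz type
  have hout : ∀ y ∈ Y, y ∉ Subgroup.zpowers (D.u α β) → ∃ p q, y = D.uz p q ∧
      y ^ 2 = D.u α β ^ m ∧ y * D.u α β * y⁻¹ = (D.u α β)⁻¹ := by
    intro y hy hyc
    rcases hstr y hy with h | ⟨h1, h2⟩
    · exact absurd h hyc
    rcases D.exists_rep y with ⟨a, b, rfl⟩ | ⟨p, q, rfl⟩
    · rw [u_conj_u] at h2; exact absurd h2 hne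
    · exact ⟨p, q, rfl, h1, h2⟩
  obtain ⟨y₀, hy₀, hy₀c⟩ := hnc
  obtain ⟨p₀, q₀, rfl, h1, h2⟩ := hout y₀ hy₀ hy₀c
  rw [uz_conj_u, u_inv, u_inj] at h2
  obtain rfl : β = -α := h2.1
  -- c ^ m = u h h
  have hcm : D.u α (-α) ^ m = D.u (hh D.n) (hh D.n) := by
    rw [u_pow]
    have hne1 : D.u α (-α) ^ m ≠ 1 := by
      apply pow_ne_one_of_lt_orderOf (by omega)
      rw [hord]; omega
    have h21 : D.u α (-α) ^ (2 * m) = 1 := by rw [← hord]; exact pow_orderOf_eq_one _
    rw [u_pow, u_eq_one_iff] at h21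
    rw [u_pow, Ne, u_eq_one_iff] at hne1
    have h3 : 2 * ((m : ZMod (2 ^ D.n)) * α) = 0 := by
      have := h21.1; push_cast at this; linear_combination this
    rcases (two_mul_eq_zero_iff D.hn1 _).mp h3 with h | h
    · exfalso; apply hne1; exact ⟨h, by rw [mul_neg, h, neg_zero]⟩
    · rw [mul_neg, h, neg_hh D.hn1]
  intro y hy
  by_cases hyc : y ∈ Subgroup.zpowers (D.u α (-α))
  · have : Subgroup.zpowers (D.u α (-α)) ≤ D.Qg := by
      rw [Subgroup.zpowers_le]; exact D.u_mem_Qg.mpr rfl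
    exact this hyc
  · obtain ⟨p, q, rfl, h1', _⟩ := hout y hy hyc
    rw [hcm, uz_sq, u_inj] at h1'
    exact D.uz_mem_Qg.mpr h1'.1

theorem quat_unique [Finite S] (Y : Subgroup S) (hcard : Nat.card Y = 2 ^ (D.n + 1))
    (hY : Nonempty (Y ≃* QuaternionGroup (2 ^ (D.n - 1)))) : Y = D.Qg := by
  obtain ⟨φ⟩ := hY
  have hm2 : 2 ≤ 2 ^ (D.n - 1) := by
    calc 2 = 2 ^ 1 := by norm_num
      _ ≤ 2 ^ (D.n - 1) := Nat.pow_le_pow_right (by norm_num) (by have := D.hn; omega)
  have hpow1 : 2 * 2 ^ (D.n - 1) = 2 ^ D.n := by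
    rw [← pow_succ']; congr 1; have := D.hn; omega
  have hK := qk_of_equiv Y (2 ^ (D.n - 1)) φ
  set c : S := ((φ.symm (QuaternionGroup.a 1) : Y) : S) with hc_def
  have hnc : ∃ y ∈ Y, y ∉ Subgroup.zpowers c := by
    by_contra hcon
    push Not at hcon
    have hle : Y ≤ Subgroup.zpowers c := fun y hy => hcon y hy
    have := Subgroup.card_le_of_le hle
    rw [hcard, Nat.card_zpowers, hK.2.1, hpow1] at this
    have : 2 ^ D.n < 2 ^ (D.n + 1) := Nat.pow_lt_pow_right (by norm_num) (by omega)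
    omega
  suffices h : Y ≤ D.Qg from Subgroup.eq_of_le_of_card_ge h (by rw [hcard, D.card_Qg])
  by_cases hcU : c ∈ D.U
  · exact D.le_Qg_of_QK Y c _ hm2 hK hcU hnc
  · -- then n = 2
    obtain ⟨hcY, hord, hstr⟩ := hK
    rcases D.exists_rep c with ⟨a, b, hab⟩ | ⟨p, q, hpq⟩
    · exact absurd (hab ▸ D.u_mem_U a b) hcU
    obtain ⟨y, hy, hyc⟩ := hnc
    have hconj : y * c * y⁻¹ = c⁻¹ := by
      rcases hstr y hy with h | h
      · exact absurd h hyc
      · exact h.2
    have hc2 : c ^ 2 ∈ Subgroup.center S := by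
      rw [hpq, uz_sq, D.mem_center_iff]; exact ⟨_, rfl⟩
    have hc4 : c ^ 4 = 1 := by
      have h1 : y * c ^ 2 * y⁻¹ = (c⁻¹) ^ 2 := by rw [← hconj, conj_pow]
      rw [Subgroup.mem_center_iff] at hc2
      rw [hc2 y, mul_inv_cancel_right] at h1
      have : c ^ 4 = c ^ 2 * c ^ 2 := by rw [← pow_add]
      rw [this]; nth_rewrite 2 [h1]
      rw [inv_pow, mul_inv_cancel]
    have hdvd := orderOf_dvd_of_pow_eq_one hc4
    rw [hord] at hdvd
    have hle := Nat.le_of_dvd (by norm_num) hdvd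
    have hm : 2 ^ (D.n - 1) = 2 := by omega
    have hn2 : D.n = 2 := by
      have : 2 ^ (D.n - 1) = 2 ^ 1 := by rw [hm]; norm_num
      have := Nat.pow_right_injective (le_refl 2) this
      have := D.hn; omega
    -- transport φ
    have φ' : Y ≃* QuaternionGroup 2 := hm ▸ φ
    -- an element of order 4 in Y ⊓ U
    have hYU : ¬ Y ≤ D.U := fun h => hcU (h hcY)
    have hcardYU : Nat.card ↥(Y ⊓ D.U) = 4 := by
      have := D.card_inf_U Y hYU
      rw [hcard, hn2] at this
      omega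
    obtain ⟨d, hdY, hdU, hd2⟩ : ∃ d, d ∈ Y ∧ d ∈ D.U ∧ d ^ 2 ≠ 1 := by
      by_contra hcon
      push Not at hcon
      set ι : S := ((φ'.symm (QuaternionGroup.a 2) : Y) : S) with hι
      have hle : Y ⊓ D.U ≤ Subgroup.zpowers ι := by
        rintro v ⟨hvY, hvU⟩
        have h1 := hcon v hvY hvU
        have h2 : (φ' ⟨v, hvY⟩) ^ 2 = 1 := by
          rw [← map_pow, ← map_one φ']
          congr 1
          apply Subtype.ext
          simpa using h1
        rcases q8_unique_invol _ h2 with h | h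
        · rw [← map_one φ'] at h
          have := congrArg Subtype.val (φ'.injective h)
          simp only [Subgroup.coe_one] at this
          rw [this]; exact Subgroup.one_mem _
        · have h3 : (⟨v, hvY⟩ : Y) = φ'.symm (QuaternionGroup.a 2) := by
            rw [← h, φ'.symm_apply_apply]
          have := congrArg Subtype.val h3
          simp only at this
          rw [this]; exact Subgroup.mem_zpowers _
      have h1 := Subgroup.card_le_of_le hle
      rw [hcardYU, Nat.card_zpowers] at h1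
      have h2 : ι ^ 2 = 1 := by
        have : (QuaternionGroup.a 2 : QuaternionGroup 2) ^ 2 = 1 := by decide
        have h3 := congrArg φ'.symm this
        rw [map_pow, map_one] at h3
        have := congrArg Subtype.val h3
        simpa using this
      have := orderOf_le_of_pow_eq_one (by norm_num) h2
      omega
    have hK' := qk_of_equiv_q8 Y φ' d hdY hd2
    have hnc' : ∃ y ∈ Y, y ∉ Subgroup.zpowers d := by
      refine ⟨c, hcY, fun h => hcU ?_⟩
      have : Subgroup.zpowers d ≤ D.U := by rw [Subgroup.zpowers_le]; exact hdU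
      exact this h
    exact D.le_Qg_of_QK Y d 2 le_rfl hK' hdU hnc'

theorem quat_main [Finite S] (D : WrData S) (n : ℕ) (hn : Nat.card S = 2 ^ (2 * n + 1)) :
    (∃! Y : Subgroup S, Nat.card Y = 2 ^ (n + 1) ∧ Nonempty (Y ≃* QuaternionGroup (2 ^ (n - 1)))) ∧
    ∀ Y : Subgroup S, Nat.card Y = 2 ^ (n + 1) → Nonempty (Y ≃* QuaternionGroup (2 ^ (n - 1))) →
      Y.Normal := by
  obtain rfl := D.n_eq hn
  constructor
  · exact ⟨D.Qg, ⟨D.card_Qg, D.Qg_equiv⟩, fun Y hY => D.quat_unique Y hY.1 hY.2⟩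
  · intro Y h1 h2
    rw [D.quat_unique Y h1 h2]
    exact D.Qg_normal

end WrData

end Cfsg.Agent.Helper18.Wr
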