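import Mathlib
import Cfsg.Prelude.Def_Transfer
import Cfsg.Agent.Helper8.S1904Defs

/-! Board `s1904pieces`, row B4 (core): `|A| = 3`, with the rows B1, B3, T3 as hypotheses. -/

set_option autoImplicit false

namespace Cfsg.Agent.S1904P

variable {X : Type*} [Group X] [Finite X] {A : Subgroup (MulAut X)} {B : Subgroup X}

/-- every automorphism maps `W = Ω₁(Z(X))` into itself -/
theorem B4_aux_WW_aut (φ : MulAut X) {w : X} (hw : w ∈ WW X) : φ w ∈ WW X := by
  obtain ⟨h1, h2⟩ := hw
  refine ⟨?_, ?_⟩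
  · rw [Subgroup.mem_center_iff] at h1 ⊢
    intro g
    have := h1 (φ.symm g)
    have h3 := congrArg φ this
    simpa using h3
  · have h3 := congrArg φ h2
    simpa using h3

/-- the action of `A` on `W` as a homomorphism into the permutations of `W` -/
def B4_aux_act (A : Subgroup (MulAut X)) : A →* Equiv.Perm (WW X) where
  toFun φ :=
    { toFun := fun w => ⟨φ.1 w.1, B4_aux_WW_aut φ.1 w.2⟩
      invFun := fun w => ⟨φ.1⁻¹ w.1, B4_aux_WW_aut φ.1⁻¹ w.2⟩
      left_inv := fun w => by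
        apply Subtype.ext
        change φ.1⁻¹ (φ.1 w.1) = w.1
        rw [← MulAut.mul_apply, inv_mul_cancel, MulAut.one_apply]
      right_inv := fun w => by
        apply Subtype.ext
        change φ.1 (φ.1⁻¹ w.1) = w.1
        rw [← MulAut.mul_apply, mul_inv_cancel, MulAut.one_apply] }
  map_one' := by
    ext w
    rfl
  map_mul' φ ψ := by
    ext w
    rfl

/-- an element of `A` which fixes `B` pointwise is trivial (`B` self-centralizing, `|A|` odd) -/
theorem B4_aux_faithB (H : Hyp A) (hB : MaxAb A B)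
    (hB3 : ∀ x : X, (∀ b ∈ B, x * b = b * x) → x ∈ B)
    (φ : MulAut X) (hφ : φ ∈ A) (hfix : ∀ b ∈ B, φ b = b) : φ = 1 := by
  have hBn : B.Normal := hB.normal
  ext x
  rw [MulAut.one_apply]
  set β : X := x⁻¹ * φ x with hβ
  have hβB : β ∈ B := by
    apply hB3
    intro b hb
    have h1 : x * b * x⁻¹ ∈ B := hBn.conj_mem b hb x
    have h2 := hfix _ h1
    rw [map_mul, map_mul, map_inv, hfix b hb] at h2
    -- h2 : φ x * b * (φ x)⁻¹ = x * b * x⁻¹
    have h3 : φ x * b = x * b * x⁻¹ * φ x := by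
      rw [← h2]; group
    calc β * b = x⁻¹ * (φ x * b) := by rw [hβ]; group
      _ = x⁻¹ * (x * b * x⁻¹ * φ x) := by rw [h3]
      _ = b * β := by rw [hβ]; group
  have hφβ : φ β = β := hfix β hβB
  have hφx : φ x = x * β := by rw [hβ]; group
  have hpow : ∀ k : ℕ, (φ ^ k) x = x * β ^ k := by
    intro k
    induction k with
    | zero => simp
    | succ k ih =>
      rw [pow_succ', MulAut.mul_apply, ih, map_mul, map_pow, hφβ, hφx, pow_succ']
      group
  -- the order of φ is odd
  have hAfin : Finite A := by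
    apply Nat.finite_of_card_ne_zero
    intro h0
    have := H.oddA
    rw [h0] at this
    exact (by decide : ¬ Odd 0) this
  have hodd : Odd (orderOf φ) := by
    have h1 : orderOf (⟨φ, hφ⟩ : A) ∣ Nat.card A := orderOf_dvd_natCard _
    have h2 : orderOf (⟨φ, hφ⟩ : A) = orderOf φ := by
      rw [← Subgroup.orderOf_coe]
    rw [h2] at h1
    exact Odd.of_dvd_nat H.oddA h1
  have hβk : β ^ orderOf φ = 1 := by
    have := hpow (orderOf φ)
    rw [pow_orderOf_eq_one, MulAut.one_apply] at this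
    exact mul_left_cancel (a := x) (by rw [← this, mul_one])
  obtain ⟨n, hn⟩ := H.pX β
  have h1 : orderOf β ∣ 2 ^ n := orderOf_dvd_of_pow_eq_one hn
  have h2 : orderOf β ∣ orderOf φ := orderOf_dvd_of_pow_eq_one hβk
  have hcop : Nat.Coprime (2 ^ n) (orderOf φ) :=
    Nat.Coprime.pow_left n (Nat.coprime_two_left.2 hodd)
  have h3 : orderOf β ∣ 1 := by
    have := Nat.dvd_gcd h1 h2
    rwa [hcop.gcd_eq_one] at this
  have h4 : β = 1 := orderOf_eq_one_iff.1 (Nat.dvd_one.1 h3)
  rw [hφx, h4, mul_one]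

/-- B4 (core): `|A| = 3`. -/
theorem B4_core (H : Hyp A) (hB : MaxAb A B)
    (hW4 : Nat.card (WW X) = 4)
    (hΩ : ∀ b ∈ B, b * b = 1 → b ∈ WW X)
    (hnf : ¬ ∀ φ ∈ A, ∀ w ∈ WW X, φ w = w)
    (hB3 : ∀ x : X, (∀ b ∈ B, x * b = b * x) → x ∈ B)
    (hT3 : ∀ φ ∈ A, (∀ m ∈ B, m * m = 1 → φ m = m) → ∀ m ∈ B, φ m = m) :
    Nat.card A = 3 := by
  have hinj : Function.Injective (B4_aux_act A) := by
    rw [injective_iff_map_eq_one]
    intro φ h1
    apply Subtype.ext
    rw [Subgroup.coe_one]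
    apply B4_aux_faithB H hB hB3 φ.1 φ.2
    apply hT3 φ.1 φ.2
    intro m hm hm2
    have hmW : m ∈ WW X := hΩ m hm hm2
    have := congrArg (fun σ : Equiv.Perm (WW X) => (σ ⟨m, hmW⟩ : X)) h1
    simpa [B4_aux_act] using this
  have hdvd : Nat.card A ∣ Nat.card (Equiv.Perm (WW X)) :=
    Subgroup.card_dvd_of_injective _ hinj
  have hperm : Nat.card (Equiv.Perm (WW X)) = 24 := by
    classical
    have : Fintype (WW X) := Fintype.ofFinite _
    rw [Nat.card_eq_fintype_card, Fintype.card_perm, ← Nat.card_eq_fintype_card, hW4]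
    rfl
  rw [hperm] at hdvd
  have hodd := H.oddA
  have hne1 : Nat.card A ≠ 1 := by
    intro h1
    apply hnf
    intro φ hφ w _
    have hAfin : Finite A := Nat.finite_of_card_ne_zero (by rw [h1]; exact one_ne_zero)
    have hsub : Subsingleton A := (Nat.card_eq_one_iff_unique.1 h1).1
    have : (⟨φ, hφ⟩ : A) = 1 := Subsingleton.elim _ _
    have h2 : φ = 1 := congrArg Subtype.val this
    rw [h2, MulAut.one_apply]
  have hle : Nat.card A ≤ 24 := Nat.le_of_dvd (by norm_num) hdvd
  generalize Nat.card A = n at *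
  interval_cases n <;> first | rfl | (exfalso; revert hodd hdvd hne1; decide)

end Cfsg.Agent.S1904P
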