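import Mathlib
import Cfsg.Agent.Helper2.S2094.DefsR
import Cfsg.Agent.Helper25.S2096WXID
import Cfsg.Agent.Helper23.S2094WCONJWB
import Cfsg.Agent.Helper11.S2094HNORMB

set_option autoImplicit false
set_option linter.unusedSectionVars false
set_option linter.unusedVariables false

/-! S2094 chapter N, piece NACONJB: `NA X` normalizes `CSB Ys ⊔ HhB X Ys`. -/

namespace Cfsg.Agent.S2094P

open Matrix Cfsg.Agent.S3352P Cfsg.Agent.S3351P Cfsg.Agent.S2096P Cfsg.Agent.S2086P Cfsg.Agent.RGD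

variable {n : ℕ} {F : Type*} [Field F] {M : Type*} [Group M] {X : J n → J n → F → M}
  {Ys : J n → F → M}

namespace NACONJB

theorem isRoot_inl {i j : Fin n} (hij : i ≠ j) : IsRoot (Sum.inl i : J n) (Sum.inl j) := by
  refine ⟨?_, ?_⟩
  · intro h
    exact hij (Sum.inl.inj h)
  · intro h
    rw [ng_inl] at h
    exact Sum.inl_ne_inr h

/-- the inverse of a short Weyl element (formal) -/
theorem wY_inv_aux (hB : BRel X Ys) (a : J n) (t : F) : (wY Ys a t)⁻¹ = wY Ys a (-t) := by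
  unfold wY
  rw [_root_.mul_inv_rev, _root_.mul_inv_rev, Ys_inv hB, Ys_inv hB, inv_neg, mul_assoc]

/-- `wY Ys a t = tY Ys a t * wY Ys a 1` (formal) -/
theorem wY_eq_tY_mul_aux (hB : BRel X Ys) (a : J n) (t : F) :
    wY Ys a t = tY Ys a t * wY Ys a 1 := by
  unfold tY
  rw [← wY_inv_aux hB a 1, inv_mul_cancel_right]

theorem tY_mem_HhB (a : J n) {t : F} (ht : t ≠ 0) : tY Ys a t ∈ HhB X Ys :=
  Subgroup.subset_closure (Or.inr ⟨a, t, ht, rfl⟩)

theorem cB_mem_CSB (j : Fin n) : cB Ys j ∈ CSB Ys := Subgroup.subset_closure ⟨j, rfl⟩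

/-- a short Weyl element of a positive short root lies in `CSB ⊔ HhB` -/
theorem wY_mem_sup (hB : BRel X Ys) (j : Fin n) {t : F} (ht : t ≠ 0) :
    wY Ys (Sum.inl j) t ∈ CSB Ys ⊔ HhB X Ys := by
  rw [wY_eq_tY_mul_aux hB]
  exact Subgroup.mul_mem _ ((le_sup_right : HhB X Ys ≤ CSB Ys ⊔ HhB X Ys) (tY_mem_HhB _ ht))
    ((le_sup_left : CSB Ys ≤ CSB Ys ⊔ HhB X Ys) (cB_mem_CSB j))

/-- conjugation stabilizes `CSB Ys ⊔ HhB X Ys` as soon as it does so on the generators -/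
theorem conj_mem_sup (g : M) (hgen : ∀ j : Fin n, g * cB Ys j * g⁻¹ ∈ CSB Ys ⊔ HhB X Ys)
    (hH : ∀ h ∈ HhB X Ys, g * h * g⁻¹ ∈ HhB X Ys) {y : M} (hy : y ∈ CSB Ys ⊔ HhB X Ys) :
    g * y * g⁻¹ ∈ CSB Ys ⊔ HhB X Ys := by
  have hle : (CSB Ys ⊔ HhB X Ys).map (MulAut.conj g).toMonoidHom ≤ CSB Ys ⊔ HhB X Ys := by
    rw [Subgroup.map_sup]
    apply sup_le
    · unfold CSB
      rw [MonoidHom.map_closure, Subgroup.closure_le]
      rintro _ ⟨_, ⟨j, rfl⟩, rfl⟩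
      exact hgen j
    · rintro _ ⟨h, hh, rfl⟩
      exact (le_sup_right : HhB X Ys ≤ CSB Ys ⊔ HhB X Ys) (hH h hh)
  exact hle ⟨y, hy, rfl⟩

/-- the generators of `NA X` -/
theorem conj_gen [Fintype F] (π : M →* Matrix (I n) (I n) F)
    (hπX : ∀ a b, IsRoot a b → ∀ t : F, π (X a b t) = xmB a b t) (hn : 3 ≤ n) (hB : BRel X Ys)
    {i j : Fin n} (hij : i ≠ j) {t : F} (ht : t ≠ 0) {y : M} (hy : y ∈ CSB Ys ⊔ HhB X Ys) :
    wX X (Sum.inl i) (Sum.inl j) t * y * (wX X (Sum.inl i) (Sum.inl j) t)⁻¹ ∈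
      CSB Ys ⊔ HhB X Ys := by
  have hab := isRoot_inl (n := n) hij
  apply conj_mem_sup _ _ _ hy
  · intro k
    unfold cB
    by_cases hki : k = i
    · subst hki
      rw [wX_conj_wY_fst hn hB hab ht one_ne_zero]
      exact wY_mem_sup hB j (neg_ne_zero.2 (mul_ne_zero (inv_ne_zero ht) one_ne_zero))
    · by_cases hkj : k = j
      · subst hkj
        rw [wX_conj_wY_snd hn hB hab ht one_ne_zero]
        exact wY_mem_sup hB i (mul_ne_zero ht one_ne_zero)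
      · have h1 : (Sum.inl k : J n) ≠ Sum.inl i := fun h => hki (Sum.inl.inj h)
        have h2 : (Sum.inl k : J n) ≠ Sum.inl j := fun h => hkj (Sum.inl.inj h)
        have h3 : (Sum.inl k : J n) ≠ ng (Sum.inl i) := by
          rw [ng_inl]; exact Sum.inl_ne_inr
        have h4 : (Sum.inl k : J n) ≠ ng (Sum.inl j) := by
          rw [ng_inl]; exact Sum.inl_ne_inr
        rw [wX_conj_wY_of_ne hn hB hab t h1 h2 h3 h4]
        exact wY_mem_sup hB k one_ne_zero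
  · intro h hh
    exact wX_conj_HhB_mem π hπX hn hB hab ht hh

end NACONJB

open NACONJB in
/-- NACONJB -/
theorem NA_conj_mem_B [Fintype F] (π : M →* Matrix (I n) (I n) F)
    (hπX : ∀ a b, IsRoot a b → ∀ t : F, π (X a b t) = xmB a b t) (hn : 3 ≤ n) (hB : BRel X Ys)
    {ν y : M} (hν : ν ∈ NA X) (hy : y ∈ CSB Ys ⊔ HhB X Ys) :
    ν * y * ν⁻¹ ∈ CSB Ys ⊔ HhB X Ys := by
  have key : ∀ ν ∈ NA X, (∀ y ∈ CSB Ys ⊔ HhB X Ys, ν * y * ν⁻¹ ∈ CSB Ys ⊔ HhB X Ys) ∧
      (∀ y ∈ CSB Ys ⊔ HhB X Ys, ν⁻¹ * y * ν ∈ CSB Ys ⊔ HhB X Ys) := by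
    intro ν hν
    unfold NA at hν
    induction hν using Subgroup.closure_induction with
    | mem g hg =>
      obtain ⟨i, j, t, hij, ht, rfl⟩ := hg
      refine ⟨fun y hy => conj_gen π hπX hn hB hij ht hy, fun y hy => ?_⟩
      have h1 := wX_inv' hB.dX (isRoot_inl hij) t
      have h2 := conj_gen π hπX hn hB hij (neg_ne_zero.2 ht) hy
      rw [← h1, inv_inv] at h2
      exact h2
    | one =>
      refine ⟨fun y hy => ?_, fun y hy => ?_⟩
      · rw [one_mul, inv_one, mul_one]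
        exact hy
      · rw [inv_one, one_mul, mul_one]
        exact hy
    | mul a b _ _ iha ihb =>
      refine ⟨fun y hy => ?_, fun y hy => ?_⟩
      · have e : a * b * y * (a * b)⁻¹ = a * (b * y * b⁻¹) * a⁻¹ := by group
        rw [e]
        exact iha.1 _ (ihb.1 y hy)
      · have e : (a * b)⁻¹ * y * (a * b) = b⁻¹ * (a⁻¹ * y * a) * b := by group
        rw [e]
        exact ihb.2 _ (iha.2 y hy)
    | inv a _ iha =>
      refine ⟨fun y hy => ?_, fun y hy => ?_⟩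
      · rw [inv_inv]
        exact iha.2 y hy
      · rw [inv_inv]
        exact iha.1 y hy
  exact (key ν hν).1 y hy

end Cfsg.Agent.S2094P
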