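import Mathlib
import Cfsg.Prelude.Def_Classical
import Cfsg.Agent.Helper8.MatBNDefs
import Cfsg.Agent.Helper8.S2546Defs
import Cfsg.Agent.Helper21.S2549Defs
import Cfsg.Agent.Helper10.S2548PRES

set_option autoImplicit false
open scoped Matrix

/-! S2549 piece PRESJ (helper18): entrywise forms of `PresQ` (through helper10's S2548 `PRES`). -/

namespace Cfsg.Agent.S2549P

open Cfsg.Agent.MatBN

variable {K : Type*} [Field K]

namespace PRESJ

/-- the split form of S2549 is the one of S2548 -/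
theorem QJ_eq (n : ℕ) (x : Fin n → K) : QJ n x = Cfsg.Agent.S2548P.QJ n x := by
  rw [Cfsg.Agent.S2548P.QJ_apply]
  rfl

/-- functional form ⇒ entrywise form (of S2548) -/
theorem presQ48_of_presQ {n : ℕ} (hn : n % 2 = 0) (M : Matrix (Fin n) (Fin n) K)
    (hP : PresQ n M) : Cfsg.Agent.S2548P.PresQ n M := by
  have hP' : ∀ x : Fin n → K, Cfsg.Agent.S2548P.QJ n (M *ᵥ x) = Cfsg.Agent.S2548P.QJ n x := by
    intro x
    rw [← QJ_eq, ← QJ_eq]
    exact hP x
  constructor
  · intro a
    rw [← Cfsg.Agent.S2548P.PRES.mulVec_single, hP']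
    exact Cfsg.Agent.S2548P.PRES.QJ_single hn a 1
  · intro a c _
    have h1 : Cfsg.Agent.S2548P.BJ n (M *ᵥ Pi.single a 1) (M *ᵥ Pi.single c 1) =
        Cfsg.Agent.S2548P.BJ n (Pi.single a 1) (Pi.single c 1) := by
      rw [← Cfsg.Agent.S2548P.PRES.polar_eq_BJ hn, ← Cfsg.Agent.S2548P.PRES.polar_eq_BJ hn]
      unfold QuadraticMap.polar
      rw [← Matrix.mulVec_add, hP', hP', hP']
    rw [Cfsg.Agent.S2548P.PRES.mulVec_single, Cfsg.Agent.S2548P.PRES.mulVec_single,
      Cfsg.Agent.S2548P.PRES.BJ_single_left] at h1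
    have h2 : Cfsg.Agent.S2548P.BJ n (fun i => M i a) (fun i => M i c) =
        ∑ i, M i a * M i.rev c := rfl
    rw [← h2, h1]
    by_cases hc : c = a.rev
    · rw [if_pos hc, hc]
      simp
    · rw [if_neg hc]
      rw [Pi.single_eq_of_ne (fun h => hc h.symm)]

/-- entrywise form (of S2548) ⇒ functional form -/
theorem presQ_of_presQ48 {n : ℕ} (hn : n % 2 = 0) (M : Matrix (Fin n) (Fin n) K)
    (hP : Cfsg.Agent.S2548P.PresQ n M) : PresQ n M := by
  intro x
  rw [QJ_eq, QJ_eq]
  exact Cfsg.Agent.S2548P.PRES.QJ_mulVec hn M hP x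

theorem rev_ne {n : ℕ} (hn : n % 2 = 0) (i : Fin n) : i.rev ≠ i := by
  intro h
  have h1 := congrArg Fin.val h
  rw [Fin.val_rev] at h1
  have := i.2
  omega

/-- the diagonal of the polar condition follows from the singularity of the columns -/
theorem sum_self_rev {n : ℕ} (hn : n % 2 = 0) (M : Matrix (Fin n) (Fin n) K)
    (hP : Cfsg.Agent.S2548P.PresQ n M) (a : Fin n) : ∑ i, M i a * M i.rev a = 0 := by
  have h1 := hP.1 a
  rw [Cfsg.Agent.S2548P.QJ_apply] at h1
  rw [Cfsg.Agent.S2548P.PRES.sum_split hn]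
  have h2 : ∀ i : Fin n, (if i.val < n / 2 then M i a * M i.rev a + M i.rev a * M i.rev.rev a else 0) =
      2 * (if i.val < n / 2 then M i a * M i.rev a else 0) := by
    intro i
    split_ifs
    · rw [Fin.rev_rev]
      ring
    · ring
  rw [Finset.sum_congr rfl (fun i _ => h2 i), ← Finset.mul_sum, h1, mul_zero]

end PRESJ

open PRESJ

theorem presJ_of_presQ (m : ℕ) (M : Matrix (Fin (2 * m + 2)) (Fin (2 * m + 2)) K)
    (hP : PresQ (2 * m + 2) M) : Cfsg.Agent.S2546P.PresJ (RingHom.id K) (2 * m + 2) M := by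
  have hn : (2 * m + 2) % 2 = 0 := by omega
  have h48 := presQ48_of_presQ hn M hP
  intro a c
  simp only [RingHom.id_apply]
  by_cases hac : a = c
  · subst hac
    rw [sum_self_rev hn M h48 a, if_neg (fun h => rev_ne hn a h.symm)]
  · exact h48.2 a c hac

theorem presQ_iff (m : ℕ) (M : Matrix (Fin (2 * m + 2)) (Fin (2 * m + 2)) K) :
    PresQ (2 * m + 2) M ↔ Cfsg.Agent.S2546P.PresJ (RingHom.id K) (2 * m + 2) M ∧
      ∀ c : Fin (2 * m + 2), (∑ i : Fin (2 * m + 2), if i.val < m + 1 then M i c * M i.rev c else 0) = 0 := by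
  have hn : (2 * m + 2) % 2 = 0 := by omega
  have hhalf : (2 * m + 2) / 2 = m + 1 := by omega
  constructor
  · intro hP
    refine ⟨presJ_of_presQ m M hP, fun c => ?_⟩
    have h1 := (presQ48_of_presQ hn M hP).1 c
    rw [Cfsg.Agent.S2548P.QJ_apply, hhalf] at h1
    exact h1
  · rintro ⟨hJ, hc⟩
    apply presQ_of_presQ48 hn
    constructor
    · intro c
      rw [Cfsg.Agent.S2548P.QJ_apply, hhalf]
      exact hc c
    · intro a c _
      have := hJ a c
      simp only [RingHom.id_apply] at this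
      exact this

theorem presQ_mul (n : ℕ) (M N : Matrix (Fin n) (Fin n) K) (hM : PresQ n M) (hN : PresQ n N) :
    PresQ n (M * N) := by
  intro x
  rw [← Matrix.mulVec_mulVec, hM, hN]

/-- the diagonal entries of a triangular isometry -/
theorem presQ_diag (m : ℕ) (M : Matrix (Fin (2 * m + 2)) (Fin (2 * m + 2)) K)
    (hP : PresQ (2 * m + 2) M) (hT : IsTri M) (c : Fin (2 * m + 2)) : M c c * M c.rev c.rev = 1 := by
  have hJ := presJ_of_presQ m M hP c c.rev
  simp only [RingHom.id_apply, if_true] at hJ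
  rw [← hJ]
  symm
  apply Finset.sum_eq_single c
  · intro j _ hjc
    rcases lt_or_gt_of_ne hjc with h | h
    · have h1 : c.rev < j.rev := Fin.rev_lt_rev.mpr h
      rw [hT j.rev c.rev h1, mul_zero]
    · rw [hT j c h, zero_mul]
  · intro h
    exact absurd (Finset.mem_univ c) h

end Cfsg.Agent.S2549P
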