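import Mathlib
import Cfsg.Prelude.Def_Classical
import Cfsg.Agent.Helper8.MatBNDefs
import Cfsg.Agent.Helper8.S2546Defs
import Cfsg.Agent.Helper21.S2549Defs
import Cfsg.Agent.Helper18.S2549PRESJ

set_option autoImplicit false
open scoped Matrix

/-! S2549 piece OPPVAN (helper18): the middle off-diagonal entry of a triangular isometry vanishes. -/

namespace Cfsg.Agent.S2549P

open Cfsg.Agent.MatBN

variable {K : Type*} [Field K]

theorem oppvan_tri (m : ℕ) (M : Matrix (Fin (2 * m + 2)) (Fin (2 * m + 2)) K)
    (hP : PresQ (2 * m + 2) M) (hT : IsTri M) (r c : Fin (2 * m + 2)) (hr : r.val = m) (hc : c.val = m + 1) :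
    M r c = 0 := by
  have hcol := ((presQ_iff m M).mp hP).2 c
  have hsum : (∑ i : Fin (2 * m + 2), if i.val < m + 1 then M i c * M i.rev c else 0) =
      M r c * M r.rev c := by
    rw [Finset.sum_eq_single_of_mem r (Finset.mem_univ r), if_pos (by omega)]
    intro i _ hir
    split_ifs with h
    · have h1 : c < i.rev := by
        rw [Fin.lt_def, Fin.val_rev, hc]
        have h2 : i.val ≠ r.val := fun h3 => hir (Fin.ext h3)
        omega
      rw [hT i.rev c h1, mul_zero]
    · rfl
  rw [hsum] at hcol
  have hrrev : r.rev = c := by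
    apply Fin.ext
    rw [Fin.val_rev, hc]
    omega
  rw [hrrev] at hcol
  have hcc : M c c ≠ 0 := by
    intro h0
    have := presQ_diag m M hP hT c
    rw [h0, zero_mul] at this
    exact zero_ne_one this
  rcases mul_eq_zero.mp hcol with h | h
  · exact h
  · exact absurd h hcc

theorem oppvan_low (m : ℕ) (M : Matrix (Fin (2 * m + 2)) (Fin (2 * m + 2)) K)
    (hP : PresQ (2 * m + 2) M) (hL : ∀ i k : Fin (2 * m + 2), i < k → M i k = 0) (r c : Fin (2 * m + 2))
    (hr : r.val = m) (hc : c.val = m + 1) : M c r = 0 := by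
  have hcol := ((presQ_iff m M).mp hP).2 r
  have hrrev : r.rev = c := by
    apply Fin.ext
    rw [Fin.val_rev, hc]
    omega
  have hsum : (∑ i : Fin (2 * m + 2), if i.val < m + 1 then M i r * M i.rev r else 0) =
      M r r * M r.rev r := by
    rw [Finset.sum_eq_single_of_mem r (Finset.mem_univ r), if_pos (by omega)]
    intro i _ hir
    split_ifs with h
    · have h1 : i < r := by
        rw [Fin.lt_def]
        have h2 : i.val ≠ r.val := fun h3 => hir (Fin.ext h3)
        omega
      rw [hL i r h1, zero_mul]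
    · rfl
  rw [hsum, hrrev] at hcol
  -- `M r r ≠ 0`
  have hJ := presJ_of_presQ m M hP r r.rev
  simp only [RingHom.id_apply, if_true] at hJ
  have hsum2 : (∑ i : Fin (2 * m + 2), M i r * M i.rev r.rev) = M r r * M r.rev r.rev := by
    apply Finset.sum_eq_single_of_mem r (Finset.mem_univ r)
    intro i _ hir
    rcases lt_or_gt_of_ne hir with h | h
    · rw [hL i r h, zero_mul]
    · have h1 : i.rev < r.rev := Fin.rev_lt_rev.mpr h
      rw [hL i.rev r.rev h1, mul_zero]
  rw [hsum2] at hJ
  have hrr : M r r ≠ 0 := by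
    intro h0
    rw [h0, zero_mul] at hJ
    exact zero_ne_one hJ
  rcases mul_eq_zero.mp hcol with h | h
  · exact absurd h hrr
  · exact h

end Cfsg.Agent.S2549P
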