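import Mathlib
import Cfsg.Agent.Helper16.S3266Defs

/-!
# S3266 piece C3A: at least `(q+1)/2` values `x` with `c - x^2` a square (`-1` a nonsquare)
-/

set_option autoImplicit false

namespace Cfsg.Agent.Helper18.S3266C3A

variable {F : Type*} [Field F]

/-- in a finite field where `-1` is not a square, the negative of a nonsquare is a square -/
theorem isSquare_neg_of_not_isSquare [Fintype F] (hm1 : ¬ IsSquare (-1 : F)) {a : F}
    (ha : ¬ IsSquare a) : IsSquare (-a) := by
  classical
  have ha0 : a ≠ 0 := by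
    rintro rfl
    exact ha IsSquare.zero
  have h1 : quadraticChar F a = -1 := quadraticChar_neg_one_iff_not_isSquare.2 ha
  have h2 : quadraticChar F (-1) = -1 := quadraticChar_neg_one_iff_not_isSquare.2 hm1
  have h3 : quadraticChar F (-a) = 1 := by
    have : -a = -1 * a := by ring
    rw [this, map_mul, h1, h2]
    norm_num
  exact (quadraticChar_one_iff_isSquare (neg_ne_zero.2 ha0)).1 h3

end Cfsg.Agent.Helper18.S3266C3A

namespace Cfsg.Agent.S3266P

open Cfsg.Agent.Helper18.S3266C3A

variable {F : Type*} [Field F]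

/-- C3A -/
theorem card_sq_sub_sq [Fintype F] (h2 : (2 : F) ≠ 0) (hm1 : ¬ IsSquare (-1 : F)) (c : F)
    (hc : c ≠ 0) :
    Fintype.card F + 1 ≤ 2 * Set.ncard {x : F | IsSquare (c - x ^ 2)} := by
  classical
  set S : Set F := {x : F | IsSquare (c - x ^ 2)} with hS
  have key : ∀ x : F, x ∉ S → ∃ u : Fˣ, (u : F) + c / (u : F) = 2 * x ∧ (u : F) ^ 2 ≠ c := by
    intro x hx
    have hx' : ¬ IsSquare (c - x ^ 2) := hx
    obtain ⟨y, hy⟩ := isSquare_neg_of_not_isSquare hm1 hx'
    have hprod : (x - y) * (x + y) = c := by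
      have : x ^ 2 - c = y * y := by rw [← hy]; ring
      calc (x - y) * (x + y) = x ^ 2 - y * y := by ring
        _ = c := by rw [← this]; ring
    have hu0 : x - y ≠ 0 := by
      intro h0
      rw [h0, zero_mul] at hprod
      exact hc hprod.symm
    refine ⟨Units.mk0 (x - y) hu0, ?_, ?_⟩
    · rw [Units.val_mk0]
      have : c / (x - y) = x + y := by
        rw [div_eq_iff hu0, ← hprod]; ring
      rw [this]; ring
    · rw [Units.val_mk0]
      intro hsq
      -- (x - y)^2 = (x-y)(x+y) ⇒ x - y = x + y ⇒ y = 0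
      have h3 : (x - y) * ((x - y) - (x + y)) = 0 := by
        rw [mul_sub, hprod, ← hsq]; ring
      rcases mul_eq_zero.1 h3 with h4 | h4
      · exact hu0 h4
      · have h5 : (2 : F) * y = 0 := by
          have : (x - y) - (x + y) = -(2 * y) := by ring
          rw [this, neg_eq_zero] at h4
          exact h4
        have hy0 : y = 0 := by
          rcases mul_eq_zero.1 h5 with h6 | h6
          · exact absurd h6 h2
          · exact h6
        apply hx'
        have : c - x ^ 2 = 0 := by
          rw [hy0] at hy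
          have h7 : -(c - x ^ 2) = 0 := by rw [hy]; ring
          exact neg_eq_zero.1 h7
        rw [this]
        exact IsSquare.zero
  choose! u hu1 hu2 using key
  let cu : Fˣ := Units.mk0 c hc
  let φ : (↥Sᶜ) × Bool → Fˣ := fun xb => if xb.2 then u xb.1.1 else cu * (u xb.1.1)⁻¹
  have hval : ∀ xb : (↥Sᶜ) × Bool, ((φ xb : Fˣ) : F) + c / ((φ xb : Fˣ) : F) = 2 * xb.1.1 := by
    rintro ⟨⟨x, hx⟩, b⟩
    have hx' : x ∉ S := hx
    cases b
    · show ((cu * (u x)⁻¹ : Fˣ) : F) + c / ((cu * (u x)⁻¹ : Fˣ) : F) = 2 * x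
      have hne : ((u x : Fˣ) : F) ≠ 0 := (u x).ne_zero
      rw [Units.val_mul, Units.val_inv_eq_inv_val, Units.val_mk0, ← hu1 x hx']
      field_simp
      ring
    · show ((u x : Fˣ) : F) + c / ((u x : Fˣ) : F) = 2 * x
      exact hu1 x hx'
  have hφ : Function.Injective φ := by
    rintro ⟨⟨x, hx⟩, b⟩ ⟨⟨x', hx''⟩, b'⟩ h
    have hx' : x ∉ S := hx
    have e1 := hval (⟨x, hx⟩, b)
    have e2 := hval (⟨x', hx''⟩, b')
    rw [h] at e1
    have hxx : x = x' := by
      have : (2 : F) * x = 2 * x' := by
        have e1' : (2 : F) * x = _ := e1.symm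
        have e2' : _ = (2 : F) * x' := e2
        exact e1'.trans e2'
      exact mul_left_cancel₀ h2 this
    subst hxx
    have hbb : b = b' := by
      by_contra hne
      have hcase : u x = cu * (u x)⁻¹ := by
        cases b <;> cases b'
        · exact absurd rfl hne
        · exact h.symm
        · exact h
        · exact absurd rfl hne
      apply hu2 x hx'
      have h4 : u x * u x = cu := by
        calc u x * u x = (cu * (u x)⁻¹) * u x := by rw [← hcase]
          _ = cu := by rw [mul_assoc, inv_mul_cancel, mul_one]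
      have h5 := congrArg (fun w : Fˣ => (w : F)) h4
      simp only [Units.val_mul] at h5
      rw [pow_two, h5]
      rfl
    subst hbb
    rfl
  have h1 := Fintype.card_le_of_injective φ hφ
  rw [Fintype.card_prod, Fintype.card_bool, Fintype.card_units] at h1
  have h3 : S.ncard + Sᶜ.ncard = Fintype.card F := by
    rw [Set.ncard_add_ncard_compl, Nat.card_eq_fintype_card]
  have h4 : Fintype.card (↥Sᶜ) = Sᶜ.ncard := by
    rw [← Nat.card_eq_fintype_card, Nat.card_coe_set_eq]
  have hq : 0 < Fintype.card F := Fintype.card_pos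
  rw [h4] at h1
  omega

end Cfsg.Agent.S3266P
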