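import Mathlib
import Cfsg.Agent.Helper16.S3266Defs
import Cfsg.Agent.Helper18.S3266C3A

/-!
# S3266 piece C3B: a common point of two "circle shadows" by pigeonhole
-/

set_option autoImplicit false

namespace Cfsg.Agent.S3266P

variable {F : Type*} [Field F]

/-- C3B -/
theorem exists_psi [Fintype F] (h2 : (2 : F) ≠ 0) (hm1 : ¬ IsSquare (-1 : F)) (e s : F)
    (he : e ≠ 0) (hs : s ≠ 0) :
    ∃ ψ l k : F, ψ ^ 2 + l ^ 2 = -1 ∧ e ^ 2 * ψ ^ 2 + k ^ 2 = s ^ 2 := by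
  classical
  set S₁ : Set F := {x : F | IsSquare (-1 - x ^ 2)} with hS₁
  set S₂ : Set F := {x : F | IsSquare (s ^ 2 - (e * x) ^ 2)} with hS₂
  set S₂' : Set F := {y : F | IsSquare (s ^ 2 - y ^ 2)} with hS₂'
  have h1 : Fintype.card F + 1 ≤ 2 * S₁.ncard :=
    card_sq_sub_sq h2 hm1 (-1) (neg_ne_zero.2 one_ne_zero)
  have h2' : Fintype.card F + 1 ≤ 2 * S₂'.ncard :=
    card_sq_sub_sq h2 hm1 (s ^ 2) (pow_ne_zero 2 hs)
  have h3 : S₂'.ncard ≤ S₂.ncard := by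
    have hsub : S₂' ⊆ (fun x => e * x) '' S₂ := by
      intro y hy
      refine ⟨y / e, ?_, ?_⟩
      · show IsSquare (s ^ 2 - (e * (y / e)) ^ 2)
        rw [mul_div_cancel₀ y he]
        exact hy
      · show e * (y / e) = y
        exact mul_div_cancel₀ y he
    exact (Set.ncard_le_ncard hsub (Set.toFinite _)).trans (Set.ncard_image_le (Set.toFinite _))
  have h4 : (S₁ ∪ S₂).ncard + (S₁ ∩ S₂).ncard = S₁.ncard + S₂.ncard :=
    Set.ncard_union_add_ncard_inter S₁ S₂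
  have h5 : (S₁ ∪ S₂).ncard ≤ Fintype.card F := by
    rw [← Nat.card_eq_fintype_card, ← Set.ncard_univ]
    exact Set.ncard_le_ncard (Set.subset_univ _) (Set.toFinite _)
  have h6 : (S₁ ∩ S₂).ncard ≠ 0 := by omega
  obtain ⟨ψ, hψ1, hψ2⟩ := Set.nonempty_of_ncard_ne_zero h6
  obtain ⟨l, hl⟩ := hψ1
  obtain ⟨k, hk⟩ := hψ2
  refine ⟨ψ, l, k, ?_, ?_⟩
  · have : l ^ 2 = -1 - ψ ^ 2 := by rw [hl]; ring
    rw [this]; ring
  · have : k ^ 2 = s ^ 2 - (e * ψ) ^ 2 := by rw [hk]; ring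
    rw [this]; ring

end Cfsg.Agent.S3266P
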