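import Cfsg.Agent.Helper18.Klein2
import Cfsg.Agent.Helper18.Klein4

/-! Abstract Klein theorem: a finite group acting on a finite set such that every non-identity
element has exactly two fixed points and point stabilisers are cyclic is cyclic, dihedral,
`A₄`, `S₄` or `A₅`. -/

set_option autoImplicit false

namespace Cfsg.Agent.Helper18.Klein

open MulAction

variable {G X : Type*} [Group G] [MulAction G X]

/-- a point stabiliser of prime order `p = |Sylow|` with a large orbit: Sylow `p` not normal -/
theorem not_subsingleton_sylow [Finite G] [Finite X] (h2 : TwoFix G X) (p m : ℕ)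
    [Fact p.Prime] (hG : Nat.card G = p * m) (hm : ¬ p ∣ m) (hm3 : 3 ≤ m) (x : X)
    (hx : Nat.card (stabilizer G x) = p) : ¬ Subsingleton (Sylow p G) := by
  intro hss
  have hp : p.Prime := Fact.out
  have hS : IsPGroup p (stabilizer G x) := IsPGroup.of_card (n := 1) (by rw [hx, pow_one])
  obtain ⟨Q, hQ⟩ := hS.exists_le_sylow
  have hQc := (sylow_card_of p m hG hm Q).1
  have hSQ : stabilizer G x = Q := Subgroup.eq_of_le_of_card_ge hQ (by rw [hQc, hx])
  have hQn : (Q : Subgroup G).Normal := Sylow.normal_of_subsingleton Q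
  rw [← hSQ] at hQn
  have h1 := card_orbit_le_two_of_normal h2 x hQn (by rw [hx]; exact hp.two_le)
  rw [card_orbit_eq, hx, hG, Nat.mul_div_cancel_left _ hp.pos] at h1
  omega

theorem orderOf_dvd_of_triple [Finite G] (h2 : TwoFix G X) {x1 x2 x3 : X}
    (t : Triple G x1 x2 x3) (g : G) (hg : g ≠ 1) :
    orderOf g ∣ Nat.card (stabilizer G x1) ∨ orderOf g ∣ Nat.card (stabilizer G x2) ∨
      orderOf g ∣ Nat.card (stabilizer G x3) := by
  obtain ⟨y, hy⟩ := exists_fixed h2 g hg
  have h2y := two_le_card_stabilizer g hg y hy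
  have hp := pow_card_stabilizer g y hy
  rcases t.cover y h2y with h | h | h
  · left; rw [← card_stabilizer_eq_of_mem_orbit h]; exact orderOf_dvd_of_pow_eq_one hp
  · right; left; rw [← card_stabilizer_eq_of_mem_orbit h]; exact orderOf_dvd_of_pow_eq_one hp
  · right; right; rw [← card_stabilizer_eq_of_mem_orbit h]; exact orderOf_dvd_of_pow_eq_one hp

/-- **Abstract Klein theorem.** -/
theorem klein_main [Finite G] [Finite X] (h2 : TwoFix G X)
    (hc : ∀ x : X, IsCyclic (stabilizer G x)) :
    IsCyclic G ∨
    (∃ x : X, Nat.card G = 2 * Nat.card (stabilizer G x) ∧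
      Nonempty (G ≃* DihedralGroup (Nat.card (stabilizer G x)))) ∨
    Nonempty (G ≃* alternatingGroup (Fin 4)) ∨ Nonempty (G ≃* Equiv.Perm (Fin 4)) ∨
    Nonempty (G ≃* alternatingGroup (Fin 5)) := by
  have : Fact (Nat.Prime 3) := ⟨Nat.prime_three⟩
  have : Fact (Nat.Prime 5) := ⟨Nat.prime_five⟩
  rcases klein_types h2 with h | ⟨x, hx, -⟩ | ⟨x1, x2, x3, t, h⟩
  · exact Or.inl (isCyclic_of_card_eq_one h)
  · exact Or.inl (isCyclic_of_stabilizer_eq_top hc x hx)
  · rcases h with ⟨e1, e2, eg⟩ | ⟨e1, e2, e3, eg⟩ | ⟨e1, e2, e3, eg⟩ | ⟨e1, e2, e3, eg⟩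
    · right; left
      exact ⟨x3, eg, dihedral_case h2 hc t e1 e2 eg⟩
    · right; right; left
      apply nonempty_equiv_A4 eg
      exact not_subsingleton_sylow h2 3 4 eg (by norm_num) (by norm_num) x2 e2
    · right; right; right; left
      apply nonempty_equiv_S4 eg
      · exact not_subsingleton_sylow h2 3 8 eg (by norm_num) (by norm_num) x2 e2
      · intro g hg6
        have hg1 : g ≠ 1 := by
          intro h; rw [h, orderOf_one] at hg6; omega
        have := orderOf_dvd_of_triple h2 t g hg1
        rw [hg6, e1, e2, e3] at this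
        omega
    · right; right; right; right
      apply nonempty_equiv_A5 eg
      · exact not_subsingleton_sylow h2 3 20 eg (by norm_num) (by norm_num) x2 e2
      · exact not_subsingleton_sylow h2 5 12 eg (by norm_num) (by norm_num) x3 e3
      · intro g hg10
        have hg1 : g ≠ 1 := by
          intro h; rw [h, orderOf_one] at hg10; omega
        have := orderOf_dvd_of_triple h2 t g hg1
        rw [hg10, e1, e2, e3] at this
        omega

end Cfsg.Agent.Helper18.Klein
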