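import Cfsg.Agent.Helper18.Dickson27
import Cfsg.Agent.Helper18.Klein5

/-! The action of `PSL₂(F)` on the projective line over an extension field `E`, and the
`p′`-subgroups of `PSL₂(F)` (Klein's theorem). -/

set_option autoImplicit false

open scoped LinearAlgebra.Projectivization

namespace Cfsg.Agent.Helper18.Dickson

section act

variable {F : Type*} [Field F] {E : Type*} [Field E]

local notation "SF" => Matrix.SpecialLinearGroup (Fin 2) F
local notation "MF" => Matrix (Fin 2) (Fin 2) F
local notation "PF" => Matrix.ProjectiveSpecialLinearGroup (Fin 2) F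
local notation "S2" => Matrix.SpecialLinearGroup (Fin 2) E
local notation "M2" => Matrix (Fin 2) (Fin 2) E
local notation "PL" => ℙ E (Fin 2 → E)

theorem map_coe (ι : F →+* E) (g : SF) (i j : Fin 2) :
    ((Matrix.SpecialLinearGroup.map ι g : S2) : M2) i j = ι ((g : MF) i j) := by
  rw [Matrix.SpecialLinearGroup.map_apply_coe, RingHom.mapMatrix_apply, Matrix.map_apply]

theorem map_injective (ι : F →+* E) :
    Function.Injective (Matrix.SpecialLinearGroup.map ι : SF →* S2) := by
  intro g h hgh
  apply Subtype.ext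
  ext i j
  have := congrArg (fun x : S2 => (x : M2) i j) hgh
  simp only [map_coe] at this
  exact ι.injective this

/-- `SL₂(F)` acting on `P¹(E)` -/
noncomputable def actHom (ι : F →+* E) : SF →* Equiv.Perm PL :=
  (MulAction.toPermHom S2 PL).comp (Matrix.SpecialLinearGroup.map ι)

theorem actHom_apply (ι : F →+* E) (g : SF) (x : PL) :
    actHom ι g x = (Matrix.SpecialLinearGroup.map ι g : S2) • x := rfl

theorem map_neg_one (ι : F →+* E) :
    (Matrix.SpecialLinearGroup.map ι (-1 : SF) : S2) = -1 := by
  apply Subtype.ext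
  ext i j
  rw [map_coe]
  simp only [Matrix.SpecialLinearGroup.coe_neg, Matrix.SpecialLinearGroup.coe_one,
    Matrix.neg_apply, map_neg]
  fin_cases i <;> fin_cases j <;> simp

theorem mem_center_iff' (g : SF) : g ∈ Subgroup.center SF ↔ g = 1 ∨ g = -1 := by
  rw [Matrix.SpecialLinearGroup.mem_center_iff]
  constructor
  · rintro ⟨r, hr, h⟩
    have hr2 : (r - 1) * (r + 1) = 0 := by
      have : r ^ 2 = 1 := by simpa using hr
      linear_combination this
    rcases mul_eq_zero.1 hr2 with h1 | h1
    · left
      apply Subtype.ext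
      rw [← h, show r = 1 by linear_combination h1]
      simp
    · right
      apply Subtype.ext
      rw [← h, show r = -1 by linear_combination h1]
      ext i j
      fin_cases i <;> fin_cases j <;> simp
  · rintro (rfl | rfl)
    · exact ⟨1, by simp, by simp⟩
    · refine ⟨-1, by simp, ?_⟩
      ext i j
      fin_cases i <;> fin_cases j <;> simp

theorem center_le_ker_actHom (ι : F →+* E) : Subgroup.center SF ≤ (actHom ι).ker := by
  intro g hg
  rw [mem_center_iff'] at hg
  rw [MonoidHom.mem_ker]
  ext x
  rw [actHom_apply]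
  rcases hg with rfl | rfl
  · simp
  · rw [map_neg_one]
    exact IsPM.smul_eq (Or.inr (by simp)) x

/-- `PSL₂(F)` acting on `P¹(E)` -/
noncomputable def pslAct (ι : F →+* E) : PF →* Equiv.Perm PL :=
  QuotientGroup.lift (Subgroup.center SF) (actHom ι) (center_le_ker_actHom ι)

theorem pslAct_mk (ι : F →+* E) (g : SF) (x : PL) :
    pslAct ι (QuotientGroup.mk' (Subgroup.center SF) g) x =
      (Matrix.SpecialLinearGroup.map ι g : S2) • x := rfl

/-- the action of a subgroup of `PSL₂(F)` on `P¹(E)` -/
@[reducible] noncomputable def subAction (ι : F →+* E) (H : Subgroup PF) : MulAction H PL :=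
  MulAction.compHom PL ((pslAct ι).comp H.subtype)

theorem subAction_smul (ι : F →+* E) (H : Subgroup PF) (h : H) (x : PL) :
    (letI := subAction ι H; h • x) = pslAct ι (h : PF) x := rfl

end act

section pprime

variable {F : Type*} [Field F] {E : Type*} [Field E]

local notation "SF" => Matrix.SpecialLinearGroup (Fin 2) F
local notation "MF" => Matrix (Fin 2) (Fin 2) F
local notation "PF" => Matrix.ProjectiveSpecialLinearGroup (Fin 2) F
local notation "S2" => Matrix.SpecialLinearGroup (Fin 2) E
local notation "M2" => Matrix (Fin 2) (Fin 2) E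
local notation "PL" => ℙ E (Fin 2 → E)

theorem mk_eq_one_iff (g : SF) :
    QuotientGroup.mk' (Subgroup.center SF) g = 1 ↔ g = 1 ∨ g = -1 := by
  rw [← mem_center_iff']
  exact QuotientGroup.eq_one_iff g

theorem tr_map (ι : F →+* E) (g : SF) :
    tr (Matrix.SpecialLinearGroup.map ι g : S2) = ι ((g : MF) 0 0 + (g : MF) 1 1) := by
  unfold tr
  rw [map_coe, map_coe, map_add]

/-- lifts of `p′`-elements of `PSL₂(F)` are semisimple or `±1` -/
theorem isSs_map_of_lift (p : ℕ) [Fact p.Prime] [CharP F p] (hp : p ≠ 2) (ι : F →+* E)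
    (g : SF) (hg : (QuotientGroup.mk' (Subgroup.center SF) g) ^ p = 1 →
      QuotientGroup.mk' (Subgroup.center SF) g = 1) :
    IsPM (Matrix.SpecialLinearGroup.map ι g : S2) ∨ IsSs (Matrix.SpecialLinearGroup.map ι g : S2) := by
  have : CharP E p := charP_of_injective_ringHom ι.injective p
  have h2 : (2 : E) ≠ 0 := two_ne_zero_of_char (E := E) p hp
  rcases class_cases (Matrix.SpecialLinearGroup.map ι g : S2) with h | h | h
  · exact Or.inl h
  · exfalso
    have h1 := sq_pow_eq_one_of_isPar p h2 _ h
    set m := (Matrix.SpecialLinearGroup.map ι g : S2) with hm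
    have h3 : m ^ p * m ^ p = 1 := by
      rw [← pow_add, ← two_mul, pow_mul]; exact h1
    have h4 : m ^ p = 1 ∨ m ^ p = -1 := by
      by_cases h5 : m ^ p = 1
      · exact Or.inl h5
      · exact Or.inr (eq_neg_one_of_sq h2 _ h5 h3)
    have h5 : g ^ p = 1 ∨ g ^ p = -1 := by
      rcases h4 with h4 | h4
      · left
        apply map_injective ι
        rw [map_pow, map_one]; exact h4
      · right
        apply map_injective ι
        rw [map_pow, map_neg_one]; exact h4
    have h6 : (QuotientGroup.mk' (Subgroup.center SF) g) ^ p = 1 := by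
      rw [← map_pow, mk_eq_one_iff]; exact h5
    have h7 := (mk_eq_one_iff g).1 (hg h6)
    apply h.1
    rw [isPM_iff]
    rcases h7 with h7 | h7
    · left; rw [hm, h7, map_one]
    · right; rw [hm, h7, map_neg_one]
  · exact Or.inr h

theorem twoFix_subAction (p : ℕ) [Fact p.Prime] [CharP F p] (hp : p ≠ 2)
    (ι : F →+* E) (hroot : ∀ t : F, ∃ μ : E, μ ^ 2 - ι t * μ + 1 = 0)
    (H : Subgroup PF) (hH : ∀ h ∈ H, h ^ p = 1 → h = 1) :
    letI := subAction ι H
    Klein.TwoFix H PL := by
  letI := subAction ι H
  intro h hne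
  obtain ⟨g, hg⟩ := QuotientGroup.mk'_surjective (Subgroup.center SF) (h : PF)
  have hset : MulAction.fixedBy PL h = Fix (Matrix.SpecialLinearGroup.map ι g : S2) := by
    ext y
    rw [MulAction.mem_fixedBy, mem_Fix, subAction_smul, ← hg, pslAct_mk]
  rw [hset, Nat.card_coe_set_eq]
  have hss : IsSs (Matrix.SpecialLinearGroup.map ι g : S2) := by
    rcases isSs_map_of_lift p hp ι g (by rw [hg]; exact hH _ h.2) with h1 | h1
    · exfalso
      apply hne
      apply Subtype.ext
      rw [← hg, Subgroup.coe_one, mk_eq_one_iff]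
      rw [isPM_iff] at h1
      rcases h1 with h1 | h1
      · left; apply map_injective ι; rw [h1, map_one]
      · right; apply map_injective ι; rw [h1, map_neg_one]
    · exact h1
  obtain ⟨μ, hμ⟩ := hroot ((g : MF) 0 0 + (g : MF) 1 1)
  exact ncard_Fix_ss _ hss μ (by rw [tr_map]; exact hμ)

theorem exists_smul_eq_pinf (x : PL) : ∃ g : S2, g • x = pinf := by
  rcases eq_pinf_or_pt x with rfl | ⟨a, rfl⟩
  · exact ⟨1, one_smul _ _⟩
  · refine ⟨⟨!![0, -1; 1, -a], by simp [Matrix.det_fin_two_of]⟩, ?_⟩
    apply smul_pt_of_eq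
    simp

/-- the preimage in `SL₂(F)` of the stabiliser in `H` of a point -/
def stabLift (ι : F →+* E) (H : Subgroup PF) (x : PL) : Subgroup SF :=
  H.comap (QuotientGroup.mk' (Subgroup.center SF)) ⊓
    (MulAction.stabilizer S2 x).comap (Matrix.SpecialLinearGroup.map ι)

theorem mem_stabLift (ι : F →+* E) (H : Subgroup PF) (x : PL) (g : SF) :
    g ∈ stabLift ι H x ↔ QuotientGroup.mk' (Subgroup.center SF) g ∈ H ∧
      (Matrix.SpecialLinearGroup.map ι g : S2) • x = x := Iff.rfl

theorem isCyclic_stabLift [Finite F] (p : ℕ) [Fact p.Prime] [CharP F p] (hp : p ≠ 2)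
    (ι : F →+* E) (H : Subgroup PF) (hH : ∀ h ∈ H, h ^ p = 1 → h = 1) (x : PL) :
    IsCyclic (stabLift ι H x) := by
  have : CharP E p := charP_of_injective_ringHom ι.injective p
  have h2 : (2 : E) ≠ 0 := two_ne_zero_of_char (E := E) p hp
  obtain ⟨g0, hg0⟩ := exists_smul_eq_pinf x
  have hB : ∀ s : stabLift ι H x,
      ((g0 * Matrix.SpecialLinearGroup.map ι (s : SF) * g0⁻¹ : S2) : M2) 1 0 = 0 := by
    intro s
    rw [← smul_pinf_eq_iff, mul_smul, mul_smul]
    have h1 : g0⁻¹ • (pinf : PL) = x := by rw [← hg0, inv_smul_smul]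
    rw [h1, ((mem_stabLift ι H x _).1 s.2).2, hg0]
  let f : stabLift ι H x →* E :=
    { toFun := fun s => ((g0 * Matrix.SpecialLinearGroup.map ι (s : SF) * g0⁻¹ : S2) : M2) 0 0
      map_one' := by simp
      map_mul' := by
        intro a b
        have e : g0 * Matrix.SpecialLinearGroup.map ι ((a * b : stabLift ι H x) : SF) * g0⁻¹ =
            (g0 * Matrix.SpecialLinearGroup.map ι (a : SF) * g0⁻¹) *
              (g0 * Matrix.SpecialLinearGroup.map ι (b : SF) * g0⁻¹) := by
          rw [Subgroup.coe_mul, map_mul]; group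
        rw [e, borel_mul_00 _ _ (hB b)] }
  have hf : ∀ s : stabLift ι H x, f s =
      ((g0 * Matrix.SpecialLinearGroup.map ι (s : SF) * g0⁻¹ : S2) : M2) 0 0 := fun s => rfl
  have hker : ∀ s : stabLift ι H x, f s = 1 → s = 1 := by
    intro s hs
    rw [hf] at hs
    set m := g0 * Matrix.SpecialLinearGroup.map ι (s : SF) * g0⁻¹ with hm
    have hmu := eq_uM m (hB s) hs
    have htr : tr (Matrix.SpecialLinearGroup.map ι (s : SF) : S2) = 2 := by
      rw [← tr_conj g0, ← hm, hmu, tr_uM]
    have hmem := ((mem_stabLift ι H x _).1 s.2).1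
    rcases isSs_map_of_lift p hp ι (s : SF) (hH _ hmem) with h1 | h1
    · rw [isPM_iff] at h1
      rcases h1 with h1 | h1
      · apply Subtype.ext
        apply map_injective ι
        rw [h1, Subgroup.coe_one, map_one]
      · exfalso
        have : m = -1 := by rw [hm, h1]; simp
        rw [this] at hs
        simp only [Matrix.SpecialLinearGroup.coe_neg, Matrix.SpecialLinearGroup.coe_one,
          Matrix.neg_apply, Matrix.one_apply_eq] at hs
        apply h2
        linear_combination -hs
    · exfalso
      apply h1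
      rw [htr]; norm_num
  have hinj : Function.Injective f := by
    intro a b hab
    have h1 : f (a * b⁻¹) * f b = f a := by rw [← map_mul]; simp
    have hb0 : f b ≠ 0 := by
      rw [hf]
      intro h0
      have := borel_entries _ (hB b)
      rw [h0, zero_mul] at this
      exact zero_ne_one this
    have h3 : f (a * b⁻¹) = 1 := by
      have : f (a * b⁻¹) * f b = 1 * f b := by rw [h1, hab, one_mul]
      exact mul_right_cancel₀ hb0 this
    have := hker _ h3
    exact mul_inv_eq_one.mp this
  exact isCyclic_of_subgroup_isDomain f hinj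

theorem isCyclic_stabilizer_subAction [Finite F] (p : ℕ) [Fact p.Prime] [CharP F p] (hp : p ≠ 2)
    (ι : F →+* E) (H : Subgroup PF) (hH : ∀ h ∈ H, h ^ p = 1 → h = 1) (x : PL) :
    letI := subAction ι H
    IsCyclic (MulAction.stabilizer H x) := by
  letI := subAction ι H
  have hc := isCyclic_stabLift p hp ι H hH x
  let f1 : stabLift ι H x →* H :=
    ((QuotientGroup.mk' (Subgroup.center SF)).comp (stabLift ι H x).subtype).codRestrict H
      (fun s => ((mem_stabLift ι H x _).1 s.2).1)
  let f2 : stabLift ι H x →* MulAction.stabilizer H x :=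
    f1.codRestrict (MulAction.stabilizer H x) (fun s => by
      rw [MulAction.mem_stabilizer_iff, subAction_smul]
      exact ((mem_stabLift ι H x _).1 s.2).2)
  have hsurj : Function.Surjective f2 := by
    rintro ⟨⟨h, hh⟩, hst⟩
    obtain ⟨g, rfl⟩ := QuotientGroup.mk'_surjective (Subgroup.center SF) h
    have hg : g ∈ stabLift ι H x := by
      rw [mem_stabLift]
      refine ⟨hh, ?_⟩
      rw [MulAction.mem_stabilizer_iff, subAction_smul] at hst
      exact hst
    exact ⟨⟨g, hg⟩, rfl⟩
  exact isCyclic_of_surjective f2 hsurj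

end pprime

end Cfsg.Agent.Helper18.Dickson
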