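import Mathlib
import Cfsg.Prelude.Def_Classical
import Cfsg.Prelude.Def_FusionComponents
import Cfsg.Agent.Helper26.S5320.Defs
import Cfsg.Agent.Helper12.SL2Conj

/-! # S5320 piece ORD4CONJ (driver helper26): the elements with `x² = -1` of `SL₂(F)`, `F` finite of odd order,
form one conjugacy class (via `Cfsg.Agent.Helper12.sl2_isConj_of_trace_eq`: trace `0`, non-scalar). -/

set_option autoImplicit false
set_option linter.unusedSectionVars false
set_option linter.unusedVariables false

namespace Cfsg.Agent.S5320P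

open Matrix

variable {F : Type*} [Field F]

namespace ORD4CONJ

theorem two_ne_zero_of_card [Fintype F] (hodd : Fintype.card F % 2 = 1) : (2 : F) ≠ 0 := by
  intro h2
  have hdvd : ringChar F ∣ 2 := ringChar.dvd (by exact_mod_cast h2)
  have h := (Nat.dvd_prime Nat.prime_two).1 hdvd
  rcases h with h | h
  · exact CharP.ringChar_ne_one h
  · have := FiniteField.even_card_iff_char_two.1 h
    omega

/-- an element of square `-1` has trace `0` and is not scalar -/
theorem trace_zero (h2 : (2 : F) ≠ 0) (z : L F) (hz : z * z = -1) :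
    ¬ Cfsg.Agent.Helper12.IsScalar2 (z : M2 F) ∧ (z : M2 F).trace = 0 := by
  have hm : (z : M2 F) * (z : M2 F) = -1 := by
    have := congrArg (fun w : L F => (w : M2 F)) hz
    simpa using this
  have hdet : (z : M2 F).det = 1 := z.2
  rw [Matrix.det_fin_two] at hdet
  have e00 := congrFun (congrFun hm 0) 0
  have e11 := congrFun (congrFun hm 1) 1
  simp only [Matrix.mul_apply, Fin.sum_univ_two, Matrix.neg_apply, Matrix.one_apply_eq] at e00 e11
  have htr : (z : M2 F).trace = 0 := by
    rw [Matrix.trace_fin_two]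
    have hsq : ((z : M2 F) 0 0 + (z : M2 F) 1 1) ^ 2 = 0 := by
      linear_combination e00 + e11 + 2 * hdet
    exact pow_eq_zero_iff (two_ne_zero) |>.1 hsq
  refine ⟨?_, htr⟩
  rintro ⟨h01, h10, h00⟩
  rw [Matrix.trace_fin_two] at htr
  have h0 : (z : M2 F) 0 0 = 0 := by
    have : (2 : F) * (z : M2 F) 0 0 = 0 := by linear_combination htr + h00
    rcases mul_eq_zero.1 this with h | h
    · exact absurd h h2
    · exact h
  rw [h01, h0] at hdet
  simp at hdet

end ORD4CONJ

theorem ORD4CONJ.conj [Fintype F] (hodd : Fintype.card F % 2 = 1) (x y : L F) (hx : x * x = -1)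
    (hy : y * y = -1) : ∃ c : L F, c * x * c⁻¹ = y := by
  have h2 : (2 : F) ≠ 0 := ORD4CONJ.two_ne_zero_of_card hodd
  obtain ⟨hxs, hxt⟩ := ORD4CONJ.trace_zero h2 x hx
  obtain ⟨hys, hyt⟩ := ORD4CONJ.trace_zero h2 y hy
  have hconj : IsConj x y := by
    refine Cfsg.Agent.Helper12.sl2_isConj_of_trace_eq x y hxs hys (by rw [hxt, hyt]) (Or.inr ?_)
    rw [hxt]
    intro h4
    apply h2
    have h4' : (2 : F) * 2 = 0 := by linear_combination -h4
    rcases mul_eq_zero.1 h4' with h | h <;> exact h
  exact isConj_iff.1 hconj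

end Cfsg.Agent.S5320P
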