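import Mathlib
import Cfsg.Prelude.Def_GeometricClasses
import Cfsg.Prelude.Def_ClassicalGeometry
import Cfsg.Agent.Helper23.S5961Defs
import Cfsg.Agent.Helper2.SpDerange

set_option autoImplicit false
open scoped MatrixGroups

/-! S5961 piece DSUM: block-diagonal sum `Sp_2j × Sp_2k → Sp_2d`. -/

namespace Cfsg.Agent.S5961P

open Polynomial Cfsg.Agent.Helper2.SympInvol Cfsg.Agent.Helper2.SympUnits

namespace DSUM

open Matrix Cfsg.Agent.Helper2.SpDerange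

variable {F : Type*} [Field F] {j k d : ℕ}

/-- the block sum -/
def emb2 (e : Fin j ⊕ Fin k ≃ Fin d) (A : Matrix (Fin j ⊕ Fin j) (Fin j ⊕ Fin j) F)
    (A' : Matrix (Fin k ⊕ Fin k) (Fin k ⊕ Fin k) F) :
    Matrix (Fin d ⊕ Fin d) (Fin d ⊕ Fin d) F :=
  Matrix.reindex (tau e) (tau e) (Matrix.fromBlocks A 0 0 A')

theorem emb2_mul (e : Fin j ⊕ Fin k ≃ Fin d) (A B : Matrix (Fin j ⊕ Fin j) (Fin j ⊕ Fin j) F)
    (A' B' : Matrix (Fin k ⊕ Fin k) (Fin k ⊕ Fin k) F) :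
    emb2 e (A * B) (A' * B') = emb2 e A A' * emb2 e B B' := by
  unfold emb2
  rw [Matrix.reindex_apply, Matrix.reindex_apply, Matrix.reindex_apply,
    Matrix.submatrix_mul_equiv, Matrix.fromBlocks_multiply]
  simp

theorem emb2_one (e : Fin j ⊕ Fin k ≃ Fin d) :
    emb2 e (1 : Matrix (Fin j ⊕ Fin j) (Fin j ⊕ Fin j) F) 1 = 1 := by
  unfold emb2
  rw [Matrix.fromBlocks_one, Matrix.reindex_apply, Matrix.submatrix_one_equiv]

theorem emb2_pow (e : Fin j ⊕ Fin k ≃ Fin d) (A : Matrix (Fin j ⊕ Fin j) (Fin j ⊕ Fin j) F)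
    (A' : Matrix (Fin k ⊕ Fin k) (Fin k ⊕ Fin k) F) (n : ℕ) :
    emb2 e (A ^ n) (A' ^ n) = emb2 e A A' ^ n := by
  induction n with
  | zero => rw [pow_zero, pow_zero, pow_zero, emb2_one]
  | succ n ih => rw [pow_succ, pow_succ, pow_succ, emb2_mul, ih]

theorem emb2_transpose (e : Fin j ⊕ Fin k ≃ Fin d)
    (A : Matrix (Fin j ⊕ Fin j) (Fin j ⊕ Fin j) F)
    (A' : Matrix (Fin k ⊕ Fin k) (Fin k ⊕ Fin k) F) :
    (emb2 e A A')ᵀ = emb2 e Aᵀ A'ᵀ := by
  unfold emb2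
  rw [Matrix.reindex_apply, Matrix.reindex_apply, Matrix.transpose_submatrix,
    Matrix.fromBlocks_transpose]
  simp

theorem emb2_mem (e : Fin j ⊕ Fin k ≃ Fin d) {A : Matrix (Fin j ⊕ Fin j) (Fin j ⊕ Fin j) F}
    {A' : Matrix (Fin k ⊕ Fin k) (Fin k ⊕ Fin k) F}
    (hA : A ∈ Matrix.symplecticGroup (Fin j) F) (hA' : A' ∈ Matrix.symplecticGroup (Fin k) F) :
    emb2 e A A' ∈ Matrix.symplecticGroup (Fin d) F := by
  rw [SymplecticGroup.mem_iff] at hA hA' ⊢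
  rw [emb2_transpose, ← tau_J (F := F) e]
  unfold emb2
  rw [Matrix.reindex_apply, Matrix.reindex_apply, Matrix.reindex_apply,
    Matrix.submatrix_mul_equiv, Matrix.submatrix_mul_equiv, Matrix.fromBlocks_multiply,
    Matrix.fromBlocks_multiply]
  simp [hA, hA']

/-- the action of the block sum on glued vectors -/
theorem emb2_mulVec (e : Fin j ⊕ Fin k ≃ Fin d) (A : Matrix (Fin j ⊕ Fin j) (Fin j ⊕ Fin j) F)
    (A' : Matrix (Fin k ⊕ Fin k) (Fin k ⊕ Fin k) F) (v : Fin j ⊕ Fin j → F)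
    (v' : Fin k ⊕ Fin k → F) :
    emb2 e A A' *ᵥ (Sum.elim v v' ∘ (tau e).symm) =
      Sum.elim (A *ᵥ v) (A' *ᵥ v') ∘ (tau e).symm := by
  unfold emb2
  rw [Matrix.reindex_apply, Matrix.submatrix_mulVec_equiv, Equiv.symm_symm]
  have : (Sum.elim v v' ∘ (tau e).symm) ∘ (tau e) = Sum.elim v v' := by
    ext s; simp
  rw [this, Matrix.fromBlocks_mulVec]
  simp

/-- the gluing map `(v, v') ↦ Sum.elim v v' ∘ τ⁻¹` -/
def glue (e : Fin j ⊕ Fin k ≃ Fin d) :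
    ((Fin j ⊕ Fin j → F) × (Fin k ⊕ Fin k → F)) ≃ₗ[F] (Fin d ⊕ Fin d → F) :=
  (LinearEquiv.sumArrowLequivProdArrow (Fin j ⊕ Fin j) (Fin k ⊕ Fin k) F F).symm.trans
    (LinearEquiv.funCongrLeft F F (tau e).symm)

theorem glue_apply (e : Fin j ⊕ Fin k ≃ Fin d) (v : Fin j ⊕ Fin j → F) (v' : Fin k ⊕ Fin k → F) :
    glue e (v, v') = Sum.elim v v' ∘ (tau e).symm := by
  ext s
  simp only [glue, LinearEquiv.trans_apply, Function.comp_apply]
  change (LinearEquiv.sumArrowLequivProdArrow (Fin j ⊕ Fin j) (Fin k ⊕ Fin k) F F).symm (v, v')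
    ((tau e).symm s) = _
  generalize (tau e).symm s = t
  cases t <;> rfl

theorem finrank_ker (e : Fin j ⊕ Fin k ≃ Fin d) (A : Matrix (Fin j ⊕ Fin j) (Fin j ⊕ Fin j) F)
    (A' : Matrix (Fin k ⊕ Fin k) (Fin k ⊕ Fin k) F) :
    Module.finrank F (LinearMap.ker (Matrix.toLin' (emb2 e A A') - 1)) =
      Module.finrank F (LinearMap.ker (Matrix.toLin' A - 1)) +
      Module.finrank F (LinearMap.ker (Matrix.toLin' A' - 1)) := by
  rw [← Module.finrank_prod]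
  symm
  -- the map `K₁ × K₂ → K`
  have hmem : ∀ w : ↥(LinearMap.ker (Matrix.toLin' A - 1)) × ↥(LinearMap.ker (Matrix.toLin' A' - 1)),
      glue e ((w.1 : Fin j ⊕ Fin j → F), (w.2 : Fin k ⊕ Fin k → F)) ∈
        LinearMap.ker (Matrix.toLin' (emb2 e A A') - 1) := by
    rintro ⟨⟨v, hv⟩, ⟨v', hv'⟩⟩
    rw [LinearMap.mem_ker, LinearMap.sub_apply, sub_eq_zero, Matrix.toLin'_apply,
      Module.End.one_apply] at hv hv' ⊢
    simp only
    rw [glue_apply, emb2_mulVec, hv, hv']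
  let Ψ : (↥(LinearMap.ker (Matrix.toLin' A - 1)) × ↥(LinearMap.ker (Matrix.toLin' A' - 1))) →ₗ[F]
      ↥(LinearMap.ker (Matrix.toLin' (emb2 e A A') - 1)) :=
    LinearMap.codRestrict _ ((glue e).toLinearMap ∘ₗ
      (LinearMap.prodMap (Submodule.subtype _) (Submodule.subtype _))) hmem
  have hinj : Function.Injective Ψ := by
    intro a b hab
    have h1 := congrArg Subtype.val hab
    change glue e ((a.1 : Fin j ⊕ Fin j → F), (a.2 : Fin k ⊕ Fin k → F)) =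
      glue e ((b.1 : Fin j ⊕ Fin j → F), (b.2 : Fin k ⊕ Fin k → F)) at h1
    have h2 := (glue e).injective h1
    rw [Prod.mk.injEq] at h2
    exact Prod.ext (Subtype.ext h2.1) (Subtype.ext h2.2)
  have hsurj : Function.Surjective Ψ := by
    rintro ⟨w, hw⟩
    obtain ⟨⟨v, v'⟩, rfl⟩ := (glue e).surjective w
    rw [LinearMap.mem_ker, LinearMap.sub_apply, sub_eq_zero, Matrix.toLin'_apply,
      Module.End.one_apply, glue_apply, emb2_mulVec, ← glue_apply, ← glue_apply] at hw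
    have h2 := (glue e).injective hw
    rw [Prod.mk.injEq] at h2
    refine ⟨(⟨v, ?_⟩, ⟨v', ?_⟩), ?_⟩
    · rw [LinearMap.mem_ker, LinearMap.sub_apply, sub_eq_zero, Matrix.toLin'_apply,
        Module.End.one_apply]
      exact h2.1
    · rw [LinearMap.mem_ker, LinearMap.sub_apply, sub_eq_zero, Matrix.toLin'_apply,
        Module.End.one_apply]
      exact h2.2
    · apply Subtype.ext
      rfl
  exact (LinearEquiv.ofBijective Ψ ⟨hinj, hsurj⟩).finrank_eq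

end DSUM

/-- DSUM: block-diagonal sum `Sp_2j × Sp_2k → Sp_2d`, `d = j + k` (adapt Helper2.SpDerange.embM) -/
theorem sp_direct_sum {F : Type*} [Field F] (j k d : ℕ) (hd : j + k = d)
    (A : Matrix.symplecticGroup (Fin j) F) (A' : Matrix.symplecticGroup (Fin k) F) :
    ∃ x : Matrix.symplecticGroup (Fin d) F,
      (∀ n : ℕ, (A : Matrix (Fin j ⊕ Fin j) (Fin j ⊕ Fin j) F) ^ n = 1 →
        (A' : Matrix (Fin k ⊕ Fin k) (Fin k ⊕ Fin k) F) ^ n = 1 →
        (x : Matrix (Fin d ⊕ Fin d) (Fin d ⊕ Fin d) F) ^ n = 1) ∧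
      Module.finrank F (LinearMap.ker (Matrix.toLin'
        (x : Matrix (Fin d ⊕ Fin d) (Fin d ⊕ Fin d) F) - 1)) =
      Module.finrank F (LinearMap.ker (Matrix.toLin'
        (A : Matrix (Fin j ⊕ Fin j) (Fin j ⊕ Fin j) F) - 1)) +
      Module.finrank F (LinearMap.ker (Matrix.toLin'
        (A' : Matrix (Fin k ⊕ Fin k) (Fin k ⊕ Fin k) F) - 1)) := by
  let e : Fin j ⊕ Fin k ≃ Fin d := finSumFinEquiv.trans (finCongr hd)
  refine ⟨⟨DSUM.emb2 e A.1 A'.1, DSUM.emb2_mem e A.2 A'.2⟩, ?_, ?_⟩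
  · intro n h1 h2
    change DSUM.emb2 e A.1 A'.1 ^ n = 1
    rw [← DSUM.emb2_pow, h1, h2, DSUM.emb2_one]
  · exact DSUM.finrank_ker e A.1 A'.1

end Cfsg.Agent.S5961P
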