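import Mathlib
import Cfsg.Prelude.Def_GeometricClasses
import Cfsg.Prelude.Def_Classical
import Cfsg.Prelude.Def_LieClassical
import Cfsg.Agent.Helper16.S5974Defs
import Cfsg.Agent.Helper22.S5973NDVD
import Cfsg.Agent.Helper3.S5973NTYPE

/-! S5974 piece TYPEN (helper18): the Witt type of a `y`-invariant nondegenerate subspace
without fixed vectors. -/

set_option autoImplicit false
universe u

namespace Cfsg.Agent.S5974P

open Module Cfsg.Agent.S5973P Cfsg.Agent.Helper2.SympInvol Cfsg.Agent.Helper2.SympUnits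
  Cfsg.Agent.S5961P
open Cfsg.Agent.S5992P (PB Plus IsTy TS)

/-- TYPEN -/
theorem type_of_fpf_sub {F V : Type*} [Field F] [Fintype F] [AddCommGroup V] [Module F V]
    [FiniteDimensional F V] {p : ℕ} [Fact p.Prime] [CharP F p] (r : ℕ) [Fact r.Prime]
    (hr2 : r ≠ 2) (hrp : r ≠ p) (Q : QuadraticForm F V) (y : Module.End F V)
    (hY : IsYO Q y r) (M : Submodule F V) (hM : M.map y ≤ M) (hMnd : Nondeg (PB Q) M)
    (hfix : M ⊓ LinearMap.ker (y - 1) = ⊥) :
    cc F r ∣ finrank F M ∧
      (Plus Q M ↔ tNP (orderOf ((Fintype.card F : ℕ) : ZMod r)) (finrank F M / cc F r)) := by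
  classical
  have hM' : ∀ v ∈ M, y v ∈ M := fun v hv => hM ⟨v, hv, rfl⟩
  set y' : Module.End F M := y.restrict hM' with hy'
  have hy'v : ∀ v : M, ((y' v : M) : V) = y (v : V) := fun v => rfl
  have hpow : ∀ n : ℕ, ∀ v : M, (((y' ^ n) v : M) : V) = (y ^ n) (v : V) := by
    intro n
    induction n with
    | zero => intro v; simp
    | succ n ih =>
      intro v
      rw [pow_succ', pow_succ', Module.End.mul_apply, Module.End.mul_apply, hy'v, ih]
  have hYO : IsYO (resQ Q M) y' r := by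
    refine ⟨(nd_resQ_iff Q M).mpr hMnd, fun v => ?_, ?_⟩
    · rw [resQ_apply, resQ_apply, hy'v, hY.isom]
    · ext v
      rw [hpow, hY.pow]
      simp
  have hker : LinearMap.ker (y' - 1) = ⊥ := by
    rw [Submodule.eq_bot_iff]
    intro v hv
    have hv' : (y' - 1) v = 0 := hv
    have h1 : (v : V) ∈ M ⊓ LinearMap.ker (y - 1) := by
      refine ⟨v.2, ?_⟩
      show (y - 1) (v : V) = 0
      have h2 := congrArg (Subtype.val) hv'
      simpa [LinearMap.sub_apply, hy'v] using h2
    rw [hfix] at h1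
    exact Subtype.ext ((Submodule.mem_bot F).mp h1)
  have hdvd := fpf_dvd r hr2 hrp (resQ Q M) y' hYO hker
  obtain ⟨hodd, heven⟩ := fpf_type r hr2 hrp (resQ Q M) y' hYO hker
  rw [← cc_def] at hdvd
  refine ⟨hdvd, ?_⟩
  rw [← isHyp_resQ_iff]
  unfold tNP
  by_cases hi : Even (orderOf ((Fintype.card F : ℕ) : ZMod r))
  · have hcc : cc F r = orderOf ((Fintype.card F : ℕ) : ZMod r) := by
      rw [cc_def, if_pos hi]
    rw [hcc, heven hi]
    exact ⟨fun h _ => h, fun h => h hi⟩
  · have hi' : Odd (orderOf ((Fintype.card F : ℕ) : ZMod r)) := Nat.not_even_iff_odd.mp hi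
    exact ⟨fun _ h => absurd h hi, fun _ => hodd hi'⟩

end Cfsg.Agent.S5974P
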