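import Mathlib
import Cfsg.Prelude.Def_GeometricClasses
import Cfsg.Prelude.Def_Classical
import Cfsg.Prelude.Def_LieClassical
import Cfsg.Agent.Helper16.S5974Defs
import Cfsg.Agent.Helper18.S5974TYPEN
import Cfsg.Agent.Helper15.S5974TYPESUMQ
import Cfsg.Agent.Helper8.S5992SPLITW
import Cfsg.Agent.Helper5.S5973CNSPLIT
import Cfsg.Agent.Helper18.S5961ARITH

/-! S5974 piece NECQ (helper18): a `y`-invariant nondegenerate `m`-space of type `θ` gives `FixC`. -/

set_option autoImplicit false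
universe u

namespace Cfsg.Agent.S5974P

open Module Cfsg.Agent.S5973P Cfsg.Agent.Helper2.SympInvol Cfsg.Agent.Helper2.SympUnits
  Cfsg.Agent.S5961P
open Cfsg.Agent.S5992P (PB Plus IsTy TS)

/-- NECQ -/
theorem fixC_of_invariant {F V : Type*} [Field F] [Fintype F] [AddCommGroup V] [Module F V]
    [FiniteDimensional F V] {p : ℕ} [Fact p.Prime] [CharP F p] (r : ℕ) [Fact r.Prime]
    (hr2 : r ≠ 2) (hrp : r ≠ p) (Q : QuadraticForm F V) (y : Module.End F V)
    (hY : IsYO Q y r) (d : ℕ) (ε : Bool) (b : ℕ)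
    (hrange : finrank F (LinearMap.range (y - 1)) = cc F r * b)
    (hker : finrank F (LinearMap.ker (y - 1)) + cc F r * b = 2 * d)
    (hC : Plus Q (LinearMap.ker (y - 1)) ↔
      typeC ε (orderOf ((Fintype.card F : ℕ) : ZMod r)) b)
    (θ : Bool) (m : ℕ) (hme : Even m) (W : Submodule F V) (hW : IsTy Q θ m W)
    (hWy : W.map y ≤ W) :
    FixC ε θ (orderOf ((Fintype.card F : ℕ) : ZMod r)) (cc F r) d m b := by
  classical
  obtain ⟨-, hccpos, hcceven, -⟩ := cc_arith (F := F) (p := p) r hr2 hrp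
  obtain ⟨hcompl, -, -, -, -⟩ := cn_split (p := p) r hrp Q y hY
  have hY6 : Cfsg.Agent.S5992P.IsYO Q y r := ⟨nondeg_top_of_nd Q hY.nondeg, hY.isom, hY.pow⟩
  obtain ⟨hfr, hnd, hty⟩ := hW
  obtain ⟨hKnd, hNnd, horth, hsup, hNinv⟩ :=
    Cfsg.Agent.S5992P.inv_split_nd (p := p) r hrp Q y hY6 W hWy hnd
  have hdisj : LinearMap.ker (y - 1) ⊓ LinearMap.range (y - 1) = ⊥ := hcompl.inf_eq_bot
  have hfix : (W ⊓ LinearMap.range (y - 1)) ⊓ LinearMap.ker (y - 1) = ⊥ := by
    rw [eq_bot_iff, ← hdisj]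
    exact le_inf inf_le_right (inf_le_left.trans inf_le_right)
  obtain ⟨hdvd, htyN⟩ :=
    type_of_fpf_sub r hr2 hrp Q y hY (W ⊓ LinearMap.range (y - 1)) hNinv hNnd hfix
  obtain ⟨b', hb'⟩ := hdvd
  have hdiv : finrank F ↥(W ⊓ LinearMap.range (y - 1)) / cc F r = b' := by
    rw [hb']
    exact Nat.mul_div_cancel_left _ hccpos
  rw [hdiv] at htyN
  have hsum : finrank F ↥(W ⊓ LinearMap.ker (y - 1)) + cc F r * b' = m := by
    have h1 := Submodule.finrank_sup_add_finrank_inf_eq (W ⊓ LinearMap.ker (y - 1))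
      (W ⊓ LinearMap.range (y - 1))
    have h2 : (W ⊓ LinearMap.ker (y - 1)) ⊓ (W ⊓ LinearMap.range (y - 1)) = ⊥ := by
      rw [eq_bot_iff, ← hdisj]
      exact le_inf (inf_le_left.trans inf_le_right) (inf_le_right.trans inf_le_right)
    rw [hsup, h2, finrank_bot, hfr, hb'] at h1
    omega
  have hb'b : b' ≤ b := by
    have h1 : finrank F ↥(W ⊓ LinearMap.range (y - 1)) ≤ finrank F (LinearMap.range (y - 1)) :=
      Submodule.finrank_mono inf_le_right
    rw [hb', hrange] at h1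
    exact Nat.le_of_mul_le_mul_left h1 hccpos
  have ha'K : finrank F ↥(W ⊓ LinearMap.ker (y - 1)) ≤ finrank F (LinearMap.ker (y - 1)) :=
    Submodule.finrank_mono inf_le_right
  refine ⟨b', finrank F ↥(W ⊓ LinearMap.ker (y - 1)), hsum, hb'b, by omega, ?_, ?_⟩
  · intro ha0
    have hWK : W ⊓ LinearMap.ker (y - 1) = ⊥ := Submodule.finrank_eq_zero.mp ha0
    have hWN : W ⊓ LinearMap.range (y - 1) = W := by
      have h1 := hsup
      rw [hWK, bot_sup_eq] at h1
      exact h1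
    rw [← htyN, hWN]
    exact hty
  · intro ha
    have hWK : W ⊓ LinearMap.ker (y - 1) = LinearMap.ker (y - 1) :=
      Submodule.eq_of_le_of_finrank_eq inf_le_right (by omega)
    have he2 : Even (finrank F ↥(W ⊓ LinearMap.range (y - 1))) := by
      rw [hb']
      exact hcceven.mul_right _
    have he1 : Even (finrank F ↥(W ⊓ LinearMap.ker (y - 1))) := by
      have h1 : Even (finrank F ↥(W ⊓ LinearMap.ker (y - 1)) + cc F r * b') := by
        rw [hsum]
        exact hme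
      rw [← hb'] at h1
      exact (Nat.even_add.mp h1).mpr he2
    have key := plus_sup_iff_q Q (W ⊓ LinearMap.ker (y - 1)) (W ⊓ LinearMap.range (y - 1))
      hKnd hNnd horth he1 he2
    rw [hsup, hWK, hC, htyN, hty] at key
    exact key.symm

end Cfsg.Agent.S5974P
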