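import Mathlib
import Cfsg.Prelude.Def_GeometricClasses
import Cfsg.Prelude.Def_Classical
import Cfsg.Prelude.Def_LieClassical
import Cfsg.Agent.Helper16.S5974Defs
import Cfsg.Agent.Helper22.S5989NEGTYPE

/-! S5974 piece NEGFIXN (helper18): the type of an invariant subspace of an isometry with `x² = -1`. -/

set_option autoImplicit false
universe u

namespace Cfsg.Agent.S5974P

open Module Cfsg.Agent.S5973P Cfsg.Agent.Helper2.SympInvol Cfsg.Agent.Helper2.SympUnits
  Cfsg.Agent.S5961P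
open Cfsg.Agent.S5992P (PB Plus IsTy TS)

/-- the type of a `x`-invariant nondegenerate subspace (`x² = -1`) of finrank `2 e` -/
theorem NEGFIXN.plus_iff {F V : Type*} [Field F] [Fintype F] [AddCommGroup V] [Module F V]
    [FiniteDimensional F V] (h2 : (2 : F) ≠ 0) (Q : QuadraticForm F V)
    (x : Module.End F V) (hxQ : ∀ v, Q (x v) = Q v) (hx2 : x * x = -1)
    (W : Submodule F V) (hWnd : Nondeg (PB Q) W) (hWx : W.map x ≤ W) (e : ℕ)
    (he : finrank F W = 2 * e) :
    Plus Q W ↔ IsSquare ((-1 : F) ^ e) := by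
  have hW' : ∀ v ∈ W, x v ∈ W := fun v hv => hWx ⟨v, hv, rfl⟩
  set x' : Module.End F W := x.restrict hW' with hx'
  have hx'v : ∀ v : W, ((x' v : W) : V) = x (v : V) := fun v => rfl
  have hnd : Nondeg (PB (resQ Q W)) ⊤ :=
    nondeg_top_of_nd (resQ Q W) ((nd_resQ_iff Q W).mpr hWnd)
  have hiso : ∀ v, resQ Q W (x' v) = resQ Q W v := by
    intro v
    rw [resQ_apply, resQ_apply, hx'v, hxQ]
  have hsq : x' * x' = -1 := by
    ext v
    rw [Module.End.mul_apply, hx'v, hx'v]
    have h1 : x (x (v : V)) = (x * x) (v : V) := rfl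
    rw [h1, hx2]
    simp
  have key := Cfsg.Agent.S5989P.plus_iff_of_neg h2 (resQ Q W) hnd x' hiso hsq e he
  rw [← key, ← isHyp_iff_plus_top, isHyp_resQ_iff]

/-- NEGFIXN -/
theorem ty_of_neg_invariant {F V : Type*} [Field F] [Fintype F] [AddCommGroup V] [Module F V]
    [FiniteDimensional F V] (h2 : (2 : F) ≠ 0) (Q : QuadraticForm F V)
    (x : Module.End F V) (hxQ : ∀ v, Q (x v) = Q v) (hx2 : x * x = -1) (θ : Bool) (m : ℕ)
    (hme : Even m) (W : Submodule F V) (hW : IsTy Q θ m W) (hWx : W.map x ≤ W) :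
    IsSquare ((-1 : F) ^ (m / 2)) ↔ θ = true := by
  obtain ⟨hfr, hnd, hty⟩ := hW
  have he : finrank F W = 2 * (m / 2) := by
    rw [hfr]
    obtain ⟨k, rfl⟩ := hme
    omega
  rw [← NEGFIXN.plus_iff h2 Q x hxQ hx2 W hnd hWx (m / 2) he]
  exact hty

end Cfsg.Agent.S5974P
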