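import Mathlib
import Cfsg.Prelude.Def_GeometricClasses
import Cfsg.Prelude.Def_Classical
import Cfsg.Prelude.Def_LieClassical
import Cfsg.Agent.Helper16.S5974Defs
import Cfsg.Agent.Helper16.S5989NEGFRAME
import Cfsg.Agent.Helper18.S5974NEGFIXN

/-! S5974 piece NEGFIXS (helper18): an isometry with `x² = -1` fixes nondegenerate `m`-spaces
of the type determined by `(-1)^(m/2)`. -/

set_option autoImplicit false
universe u

namespace Cfsg.Agent.S5974P

open Module Cfsg.Agent.S5973P Cfsg.Agent.Helper2.SympInvol Cfsg.Agent.Helper2.SympUnits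
  Cfsg.Agent.S5961P
open Cfsg.Agent.S5992P (PB Plus IsTy TS)

/-- the span of an orthogonal family of nonsingular vectors is nondegenerate (`2 ≠ 0`) -/
theorem NEGFIXS.nondeg_span {F V : Type*} [Field F] [AddCommGroup V] [Module F V]
    (h2 : (2 : F) ≠ 0) (Q : QuadraticForm F V) {κ : Type*} [Fintype κ] (g : κ → V)
    (hg : ∀ s, Q (g s) ≠ 0) (horth : ∀ s t, s ≠ t → PB Q (g s) (g t) = 0) :
    Nondeg (PB Q) (Submodule.span F (Set.range g)) := by
  classical
  intro w hw hw0
  obtain ⟨c, rfl⟩ := (Submodule.mem_span_range_iff_exists_fun F).mp hw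
  have hc : ∃ s, c s ≠ 0 := by
    by_contra hcon
    push Not at hcon
    apply hw0
    exact Finset.sum_eq_zero fun s _ => by rw [hcon s, zero_smul]
  obtain ⟨s, hs⟩ := hc
  refine ⟨g s, Submodule.subset_span ⟨s, rfl⟩, ?_⟩
  rw [map_sum, LinearMap.sum_apply]
  rw [Finset.sum_eq_single s]
  · rw [map_smul, LinearMap.smul_apply, Cfsg.Agent.S5992P.PB_self, smul_eq_mul]
    exact mul_ne_zero hs (mul_ne_zero h2 (hg s))
  · intro t _ hts
    rw [map_smul, LinearMap.smul_apply, horth t s hts, smul_zero]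
  · intro h
    exact absurd (Finset.mem_univ s) h

/-- NEGFIXS -/
theorem exists_ty_of_neg {F V : Type*} [Field F] [Fintype F] [AddCommGroup V] [Module F V]
    [FiniteDimensional F V] (h2 : (2 : F) ≠ 0) (Q : QuadraticForm F V) (hQ : ND Q)
    (x : Module.End F V) (hxQ : ∀ v, Q (x v) = Q v) (hx2 : x * x = -1) (θ : Bool) (m : ℕ)
    (hme : Even m) (hmn : m ≤ finrank F V)
    (hθ : IsSquare ((-1 : F) ^ (m / 2)) ↔ θ = true) :
    ∃ W : Submodule F V, IsTy Q θ m W ∧ W.map x ≤ W := by
  classical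
  obtain ⟨d', b, hbx, hbQ, hborth⟩ :=
    Cfsg.Agent.S5989P.exists_neg_frame h2 Q (nondeg_top_of_nd Q hQ) x hxQ hx2
  have hfr : finrank F V = d' + d' := by
    rw [Module.finrank_eq_card_basis b, Fintype.card_sum, Fintype.card_fin]
  obtain ⟨k, rfl⟩ := hme
  have hk : k ≤ d' := by omega
  have hk2 : (k + k) / 2 = k := by omega
  rw [hk2] at hθ
  set f : Fin k ⊕ Fin k → Fin d' ⊕ Fin d' := Sum.map (Fin.castLE hk) (Fin.castLE hk) with hf
  have hfinj : Function.Injective f :=
    Function.Injective.sumMap (Fin.castLE_injective hk) (Fin.castLE_injective hk)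
  set g : Fin k ⊕ Fin k → V := fun s => b (f s) with hg
  have hxx : ∀ v : V, x (x v) = -v := by
    intro v
    have h1 : x (x v) = (x * x) v := rfl
    rw [h1, hx2]
    simp
  have hQall : ∀ s, Q (b s) ≠ 0 := by
    rintro (j | j)
    · exact hbQ j
    · rw [hbx j, hxQ]
      exact hbQ j
  set W : Submodule F V := Submodule.span F (Set.range g) with hW
  have hnd : Nondeg (PB Q) W :=
    NEGFIXS.nondeg_span h2 Q g (fun s => hQall (f s))
      (fun s t hst => hborth (f s) (f t) (fun h => hst (hfinj h)))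
  have hli : LinearIndependent F g := b.linearIndependent.comp f hfinj
  have hfrW : finrank F W = k + k := by
    rw [hW, finrank_span_eq_card hli, Fintype.card_sum, Fintype.card_fin]
  have hWx : W.map x ≤ W := by
    rw [Submodule.map_le_iff_le_comap, hW, Submodule.span_le]
    rintro _ ⟨s, rfl⟩
    show x (g s) ∈ W
    rcases s with j | j
    · have h1 : x (g (Sum.inl j)) = g (Sum.inr j) := by
        simp only [hg, hf, Sum.map_inl, Sum.map_inr]
        rw [hbx]
      rw [h1]
      exact Submodule.subset_span ⟨_, rfl⟩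
    · have h1 : x (g (Sum.inr j)) = -g (Sum.inl j) := by
        simp only [hg, hf, Sum.map_inl, Sum.map_inr]
        rw [hbx, hxx]
      rw [h1]
      exact W.neg_mem (Submodule.subset_span ⟨_, rfl⟩)
  refine ⟨W, ⟨hfrW, hnd, ?_⟩, hWx⟩
  rw [NEGFIXN.plus_iff h2 Q x hxQ hx2 W hnd hWx k (by rw [hfrW]; ring)]
  exact hθ

end Cfsg.Agent.S5974P
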