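import Mathlib
import Cfsg.Prelude.Def_GeometricClasses
import Cfsg.Prelude.Def_Classical
import Cfsg.Prelude.Def_LieClassical
import Cfsg.Agent.Helper16.S5974Defs
import Cfsg.Agent.Helper13.S5973CLASSIF

/-! S5974 piece ISOTYQ (helper18): nondegenerate subspaces of the same even dimension and type are isometric. -/

set_option autoImplicit false
universe u

namespace Cfsg.Agent.S5974P

open Module Cfsg.Agent.S5973P Cfsg.Agent.Helper2.SympInvol Cfsg.Agent.Helper2.SympUnits
  Cfsg.Agent.S5961P
open Cfsg.Agent.S5992P (PB Plus IsTy TS)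

/-- ISOTYQ -/
theorem exists_isometry_of_ty_q {F V V' : Type*} [Field F] [Fintype F] [AddCommGroup V]
    [Module F V] [FiniteDimensional F V] [AddCommGroup V'] [Module F V'] [FiniteDimensional F V']
    (Q : QuadraticForm F V) (Q' : QuadraticForm F V') (W : Submodule F V)
    (W' : Submodule F V') (hW : Nondeg (PB Q) W) (hW' : Nondeg (PB Q') W')
    (hdim : finrank F W = finrank F W') (he : Even (finrank F W))
    (hty : Plus Q W ↔ Plus Q' W') :
    ∃ e : W ≃ₗ[F] W', ∀ w : W, Q' ((e w : W') : V') = Q (w : V) := by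
  obtain ⟨g, hg⟩ := exists_isometry_of_type (resQ Q W) (resQ Q' W')
    ((nd_resQ_iff Q W).mpr hW) ((nd_resQ_iff Q' W').mpr hW') hdim he
    (by rw [isHyp_resQ_iff, isHyp_resQ_iff]; exact hty)
  exact ⟨g, fun w => hg w⟩

end Cfsg.Agent.S5974P
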