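import Mathlib
import Cfsg.Prelude.Def_GeometricClasses
import Cfsg.Prelude.Def_Classical
import Cfsg.Prelude.Def_LieClassical
import Cfsg.Agent.Helper16.S5974Defs
import Cfsg.Agent.Helper18.S5974ISOTYQ
import Cfsg.Agent.Helper13.S5973HYPISO
import Cfsg.Agent.Helper29.S5989ORBIT

/-! S5974 piece ORBITQ (helper18): orbit-stabilizer for the nondegenerate `m`-spaces of type `θ`. -/

set_option autoImplicit false
universe u

namespace Cfsg.Agent.S5974P

open Module Cfsg.Agent.S5973P Cfsg.Agent.Helper2.SympInvol Cfsg.Agent.Helper2.SympUnits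
  Cfsg.Agent.S5961P
open Cfsg.Agent.S5992P (PB Plus IsTy TS)
open Cfsg.Agent.S5989P (stabW ordO epsFac R2cond)

/-- the `m`-spaces isometric to a fixed one of type `θ` are the `m`-spaces of type `θ` -/
theorem ORBITQ.omSet_iff {F V : Type*} [Field F] [Fintype F] [AddCommGroup V] [Module F V]
    [FiniteDimensional F V] (Q : QuadraticForm F V) (θ : Bool) (m : ℕ) (hme : Even m)
    (W₀ : Submodule F V) (hW₀ : IsTy Q θ m W₀) (W : Submodule F V) :
    Cfsg.Agent.S5989P.OmSet Q m W₀ W ↔ IsTy Q θ m W := by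
  obtain ⟨hfr₀, hnd₀, hty₀⟩ := hW₀
  constructor
  · rintro ⟨hfr, hnd, e, he⟩
    refine ⟨hfr, hnd, ?_⟩
    rw [← hty₀, ← isHyp_resQ_iff, ← isHyp_resQ_iff]
    exact isHyp_of_isometry (resQ Q W) (resQ Q W₀) e (fun w => he w)
  · rintro ⟨hfr, hnd, hty⟩
    refine ⟨hfr, hnd, ?_⟩
    exact exists_isometry_of_ty_q Q Q W W₀ hnd hnd₀ (by rw [hfr, hfr₀]) (by rw [hfr]; exact hme)
      (by rw [hty, hty₀])

/-- ORBITQ -/
theorem card_ty_mul_stab {F : Type*} [Field F] [Fintype F] {ι : Type} [Fintype ι]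
    [DecidableEq ι] (Q : QuadraticForm F (ι → F)) (hQ : ND Q) (θ : Bool) (m : ℕ)
    (hme : Even m) (W₀ : Submodule F (ι → F)) (hW₀ : IsTy Q θ m W₀) :
    Nat.card {W : Submodule F (ι → F) // IsTy Q θ m W} * Nat.card ↥(stabW Q W₀) =
      Nat.card ↥(Cfsg.isometryGroup F ⇑Q) := by
  rw [← Cfsg.Agent.S5989P.card_omSet_mul_stab Q hQ m W₀ ⟨hW₀.1, hW₀.2.1⟩]
  congr 1
  exact Nat.card_congr (Equiv.subtypeEquivRight fun W =>
    (ORBITQ.omSet_iff Q θ m hme W₀ hW₀ W).symm)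

end Cfsg.Agent.S5974P
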