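import Mathlib
import Cfsg.Prelude.Def_GeometricClasses
import Cfsg.Prelude.Def_Classical
import Cfsg.Prelude.Def_LieClassical
import Cfsg.Agent.Helper16.S5974Defs
import Cfsg.Agent.Helper5.S5973SHAPE

/-! S5974 piece SHAPEQ (helper18): the shape of an isometry of odd prime order `r ≠ p` is realisable. -/

set_option autoImplicit false
universe u

namespace Cfsg.Agent.S5974P

open Module Cfsg.Agent.S5973P Cfsg.Agent.Helper2.SympInvol Cfsg.Agent.Helper2.SympUnits
  Cfsg.Agent.S5961P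
open Cfsg.Agent.S5992P (PB Plus IsTy TS)

/-- SHAPEQ -/
theorem realz_of_isYO {F V : Type*} [Field F] [Fintype F] [AddCommGroup V] [Module F V]
    [FiniteDimensional F V] {p : ℕ} [Fact p.Prime] [CharP F p] (r : ℕ) [Fact r.Prime]
    (hr2 : r ≠ 2) (hrp : r ≠ p) (Q : QuadraticForm F V) (y : Module.End F V)
    (hY : IsYO Q y r) (hy1 : y ≠ 1) (d : ℕ) (hV : finrank F V = 2 * d) (ε : Bool)
    (hε : IsHyp Q ↔ ε = true) :
    ∃ b : ℕ, finrank F (LinearMap.range (y - 1)) = cc F r * b ∧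
      finrank F (LinearMap.ker (y - 1)) + cc F r * b = 2 * d ∧
      (Plus Q (LinearMap.ker (y - 1)) ↔
        typeC ε (orderOf ((Fintype.card F : ℕ) : ZMod r)) b) ∧
      Realz ε (orderOf ((Fintype.card F : ℕ) : ZMod r)) (cc F r) d b := by
  classical
  obtain ⟨b, h1, h2, h3⟩ := shape (p := p) r hr2 hrp Q y hY d hV ε hε
  rw [← cc_def] at h1 h2
  rw [isHyp_resQ_iff] at h3
  refine ⟨b, h1, h2, h3, ?_, by omega, ?_⟩
  · by_contra hb
    have hb0 : b = 0 := by omega
    rw [hb0, mul_zero] at h1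
    have h4 : LinearMap.range (y - 1) = ⊥ := Submodule.finrank_eq_zero.mp h1
    apply hy1
    have h5 : y - 1 = 0 := LinearMap.range_eq_bot.mp h4
    exact sub_eq_zero.mp h5
  · intro h4
    have h5 : finrank F (LinearMap.ker (y - 1)) = 0 := by omega
    have h6 : LinearMap.ker (y - 1) = ⊥ := Submodule.finrank_eq_zero.mp h5
    apply h3.mp
    rw [h6]
    refine ⟨⊥, le_refl _, ?_, by simp⟩
    intro u hu
    rw [(Submodule.mem_bot F).mp hu, map_zero]

end Cfsg.Agent.S5974P
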