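import Mathlib
import Cfsg.Prelude.Def_GeometricClasses
import Cfsg.Prelude.Def_Classical
import Cfsg.Prelude.Def_LieClassical
import Cfsg.Agent.Helper16.S5974Defs
import Cfsg.Agent.Helper13.S5974ORTHTY
import Cfsg.Agent.Helper29.S5989STABDVD
import Cfsg.Agent.Helper1.S5973STD
import Cfsg.Agent.Helper13.S5973CLASSIF
import Cfsg.Agent.Helper6.S5974CARDOQ

/-! S5974 piece STABDVDQ (helper18): the order of the isometry group of the orthogonal complement
divides the order of the stabilizer of a nondegenerate subspace. -/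

set_option autoImplicit false
open scoped MatrixGroups
universe u

namespace Cfsg.Agent.S5974P

open Module Cfsg.Agent.S5973P Cfsg.Agent.Helper2.SympInvol Cfsg.Agent.Helper2.SympUnits
  Cfsg.Agent.S5961P
open Cfsg.Agent.S5992P (PB Plus IsTy TS)
open Cfsg.Agent.S5989P (stabW ordO epsFac R2cond)

open Cfsg.Agent.S5989P.STABDVD in
/-- the isometry group of a model of the orthogonal complement embeds into the stabilizer -/
theorem STABDVDQ.card_model_dvd_stab {F : Type*} [Field F] [Fintype F] {ι : Type} [Fintype ι]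
    [DecidableEq ι] (Q : QuadraticForm F (ι → F)) (W₀ U : Submodule F (ι → F))
    (hcompl : IsCompl W₀ U) (hWU : Orth (PB Q) W₀ U) {ι₀ : Type} [Fintype ι₀] [DecidableEq ι₀]
    (Q₀ : QuadraticForm F (ι₀ → F)) (g : (ι₀ → F) ≃ₗ[F] U)
    (hg : ∀ v, Q ((g v : U) : ι → F) = Q₀ v) :
    Nat.card ↥(Cfsg.isometryGroup F ⇑Q₀) ∣ Nat.card ↥(stabW Q W₀) := by
  classical
  let bW : W₀ ≃ₗ[F] (Fin (finrank F W₀) → F) := (Module.finBasis F W₀).equivFun
  let Φ : (Fin (finrank F W₀) ⊕ ι₀ → F) ≃ₗ[F] (ι → F) :=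
    (LinearEquiv.sumArrowLequivProdArrow (Fin (finrank F W₀)) ι₀ F F).trans
      ((bW.symm.prodCongr g).trans (Submodule.prodEquivOfIsCompl W₀ U hcompl))
  have hΦ : ∀ (a : Fin (finrank F W₀) → F) (b : ι₀ → F),
      Φ (Sum.elim a b) = ((bW.symm a : W₀) : ι → F) + ((g b : U) : ι → F) := by
    intro a b
    rfl
  have hsurj : ∀ v : ι → F, ∃ a b, v = Φ (Sum.elim a b) := by
    intro v
    refine ⟨(Φ.symm v) ∘ Sum.inl, (Φ.symm v) ∘ Sum.inr, ?_⟩
    have : Sum.elim ((Φ.symm v) ∘ Sum.inl) ((Φ.symm v) ∘ Sum.inr) = Φ.symm v := by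
      funext s; rcases s with s | s <;> rfl
    rw [this, LinearEquiv.apply_symm_apply]
  have hQΦ : ∀ (a : Fin (finrank F W₀) → F) (b : ι₀ → F),
      Q (Φ (Sum.elim a b)) = Q ((bW.symm a : W₀) : ι → F) + Q₀ b := by
    intro a b
    rw [hΦ, ← hg]
    have horth : QuadraticMap.polar (⇑Q) ((bW.symm a : W₀) : ι → F) ((g b : U) : ι → F) = 0 :=
      hWU _ (bW.symm a).2 _ (g b).2
    have := horth
    unfold QuadraticMap.polar at this
    linear_combination this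
  obtain ⟨ρ, hρinj, hρ⟩ := Cfsg.Agent.S5975P.exists_restrict_hom (F := F) (L := F) Φ
  let ψ : GL ι₀ F →* GL ι F :=
    ρ.comp (Units.map (blockHom (F := F) (Fin (finrank F W₀)) ι₀))
  have hψinj : Function.Injective ψ :=
    hρinj.comp (Units.map_injective (blockHom_injective _ _))
  have hψ : ∀ (x : GL ι₀ F) (a : Fin (finrank F W₀) → F) (b : ι₀ → F),
      ((ψ x : GL ι F) : Matrix ι ι F).mulVec (Φ (Sum.elim a b)) =
        Φ (Sum.elim a ((x : Matrix _ _ F).mulVec b)) := by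
    intro x a b
    show ((ρ _ : GL ι F) : Matrix ι ι F).mulVec _ = _
    rw [hρ, Units.coe_map]
    show Φ ((blockMat (x : Matrix _ _ F)).mulVec (Sum.elim a b)) = _
    rw [blockMat_mulVec]
  -- isometries
  have hiso : ∀ x : GL ι₀ F, x ∈ Cfsg.isometryGroup F ⇑Q₀ → ψ x ∈ Cfsg.isometryGroup F ⇑Q := by
    intro x hx
    rw [Cfsg.Agent.Helper28.IsoTransport.mem_isometryGroup_iff] at hx ⊢
    intro v
    obtain ⟨a, b, rfl⟩ := hsurj v
    rw [hψ, hQΦ, hQΦ, hx]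
  have hfix : ∀ (x : GL ι₀ F) (w : ι → F), w ∈ W₀ →
      ((ψ x : GL ι F) : Matrix ι ι F).mulVec w = w := by
    intro x w hw
    have hw' : w = Φ (Sum.elim (bW ⟨w, hw⟩) 0) := by
      rw [hΦ, LinearEquiv.symm_apply_apply, map_zero]
      simp
    rw [hw', hψ, Matrix.mulVec_zero]
  let ψ₁ : ↥(Cfsg.isometryGroup F ⇑Q₀) →* ↥(Cfsg.isometryGroup F ⇑Q) :=
    (ψ.comp (Subgroup.subtype _)).codRestrict (Cfsg.isometryGroup F ⇑Q) (fun x => hiso x x.2)
  have hψ₁ : ∀ x, ((ψ₁ x : ↥(Cfsg.isometryGroup F ⇑Q)) : GL ι F) = ψ x := fun x => rfl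
  let ψ₂ : ↥(Cfsg.isometryGroup F ⇑Q₀) →* ↥(stabW Q W₀) :=
    ψ₁.codRestrict (stabW Q W₀) (fun x => by
      rw [Cfsg.Agent.S5989P.mem_stabW, hψ₁]
      ext v
      constructor
      · rintro ⟨w, hw, rfl⟩
        rw [Matrix.toLin'_apply, hfix x w hw]
        exact hw
      · intro hv
        exact ⟨v, hv, by rw [Matrix.toLin'_apply, hfix x v hv]⟩)
  have hinj₂ : Function.Injective ψ₂ := by
    intro x y hxy
    have h1 : (ψ₁ x : ↥(Cfsg.isometryGroup F ⇑Q)) = ψ₁ y := congrArg Subtype.val hxy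
    have h2 : ψ (x : GL _ F) = ψ (y : GL _ F) := congrArg Subtype.val h1
    exact Subtype.ext (hψinj h2)
  exact Subgroup.card_dvd_of_injective ψ₂ hinj₂

/-- STABDVDQ -/
theorem card_compl_dvd_stab {F : Type*} [Field F] [Fintype F] {q : ℕ}
    (hq : Fintype.card F = q) {ι : Type} [Fintype ι] [DecidableEq ι]
    (Q : QuadraticForm F (ι → F)) (hQ : ND Q) (d : ℕ) (hι : Fintype.card ι = 2 * d) (ε : Bool)
    (hε : IsHyp Q ↔ ε = true) (θ : Bool) (s : ℕ) (hs : s + 1 ≤ d)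
    (W₀ : Submodule F (ι → F)) (hW₀ : IsTy Q θ (2 * s) W₀) :
    ordO (ε == θ) q (d - s) ∣ Nat.card ↥(stabW Q W₀) := by
  classical
  have hV : finrank F (ι → F) = 2 * d := by rw [Module.finrank_fintype_fun_eq_card, hι]
  obtain ⟨U, ⟨hUfr, hUnd, hUty⟩, hWU, hcompl, -, -⟩ :=
    exists_orth_compl_ty Q hQ d hV ε hε θ (2 * s) (even_two_mul s) W₀ hW₀
  have hUfr' : finrank F U = 2 * (d - s) := by rw [hUfr]; omega
  obtain ⟨ι₀, _, _, Q₀, hQ₀, hc₀, hty₀⟩ := exists_space_of_type (F := F) (2 * (d - s))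
    (even_two_mul _) (ε == θ) (fun h => by omega)
  have hfr₀ : finrank F (ι₀ → F) = 2 * (d - s) := by
    rw [Module.finrank_fintype_fun_eq_card, hc₀]
  obtain ⟨g, hg⟩ := exists_isometry_of_type Q₀ (resQ Q U) hQ₀ ((nd_resQ_iff Q U).mpr hUnd)
    (by rw [hfr₀, hUfr']) (by rw [hfr₀]; exact even_two_mul _)
    (by rw [hty₀, isHyp_resQ_iff, hUty])
  have hdvd := STABDVDQ.card_model_dvd_stab Q W₀ U hcompl hWU Q₀ g (fun v => hg v)
  rw [card_isometryGroup_of_type hq Q₀ hQ₀ (d - s) (by omega) hc₀ (ε == θ) hty₀] at hdvd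
  exact hdvd

end Cfsg.Agent.S5974P
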