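import Mathlib
import Cfsg.Prelude.Def_GeometricClasses
import Cfsg.Prelude.Def_Classical
import Cfsg.Prelude.Def_LieClassical
import Cfsg.Agent.Helper16.S5974Defs
import Cfsg.Agent.Helper25.S5992BLOCKS
import Cfsg.Agent.Helper23.S5961STRUCT

/-! S5974 piece BLOCKSQ (helper18): orthogonal decomposition of `range (y - 1)` into blocks,
every characteristic. -/

set_option autoImplicit false
universe u

namespace Cfsg.Agent.S5974P

open Module Cfsg.Agent.S5973P Cfsg.Agent.Helper2.SympInvol Cfsg.Agent.Helper2.SympUnits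
  Cfsg.Agent.S5961P
open Cfsg.Agent.S5992P (PB Plus IsTy TS)

/-- BLOCKSQ -/
theorem exists_blocks_q {F V : Type*} [Field F] [Fintype F] [AddCommGroup V] [Module F V]
    [FiniteDimensional F V] {p : ℕ} [Fact p.Prime] [CharP F p] (r : ℕ) [Fact r.Prime]
    (hr2 : r ≠ 2) (hrp : r ≠ p) (Q : QuadraticForm F V) (y : Module.End F V)
    (hY : IsYO Q y r) :
    ∃ (b : ℕ) (E : Fin b → Submodule F V),
      (∀ j, (E j).map y ≤ E j) ∧ (∀ j, Nondeg (PB Q) (E j)) ∧
      (∀ j, finrank F (E j) = cc F r) ∧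
      (∀ j j', j ≠ j' → Orth (PB Q) (E j) (E j')) ∧ iSupIndep E ∧
      (⨆ j, E j) = LinearMap.range (y - 1) := by
  have hnd : Nondeg (PB Q) ⊤ := nondeg_top_of_nd Q hY.nondeg
  by_cases h2 : (2 : F) = 0
  · refine exists_blocks_sp (p := p) r hr2 hrp (PB Q) (fun v => ?_) hnd y
      (Cfsg.Agent.S5992P.PB_isom Q hY.isom) hY.pow
    rw [Cfsg.Agent.S5992P.PB_self, h2, zero_mul]
  · exact Cfsg.Agent.S5992P.exists_blocks_sym (p := p) r hr2 hrp h2 Q y ⟨hnd, hY.isom, hY.pow⟩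

end Cfsg.Agent.S5974P
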