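import Mathlib
import Cfsg.Prelude.Def_GeometricClasses
import Cfsg.Prelude.Def_Classical
import Cfsg.Prelude.Def_LieClassical
import Cfsg.Agent.Helper16.S5974Defs
import Cfsg.Agent.Helper18.S5974TYPEN
import Cfsg.Agent.Helper15.S5974TYPESUMQ
import Cfsg.Agent.Helper15.S5992SUPND
import Cfsg.Agent.Helper5.S5973CNSPLIT
import Cfsg.Agent.Helper18.S5961ARITH
import Cfsg.Agent.Helper16.S5974SUBTYQ
import Cfsg.Agent.Helper18.S5974BLOCKSQ

/-! S5974 piece SUFFQ (helper18): `FixC` gives a `y`-invariant nondegenerate `m`-space of type `θ`. -/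

set_option autoImplicit false
universe u

namespace Cfsg.Agent.S5974P

open Module Cfsg.Agent.S5973P Cfsg.Agent.Helper2.SympInvol Cfsg.Agent.Helper2.SympUnits
  Cfsg.Agent.S5961P
open Cfsg.Agent.S5992P (PB Plus IsTy TS)

theorem SUFFQ.iff_rot (A B C : Prop) (h : (A ↔ B) ↔ C) : A ↔ (C ↔ B) := by
  by_cases hA : A <;> by_cases hB : B <;> by_cases hC : C <;> simp_all

theorem SUFFQ.iff_cancel (B C : Prop) : ((C ↔ B) ↔ B) ↔ C := by
  by_cases hB : B <;> by_cases hC : C <;> simp_all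

/-- SUFFQ -/
theorem exists_invariant_of_fixC {F V : Type*} [Field F] [Fintype F] [AddCommGroup V]
    [Module F V] [FiniteDimensional F V] {p : ℕ} [Fact p.Prime] [CharP F p] (r : ℕ)
    [Fact r.Prime] (hr2 : r ≠ 2) (hrp : r ≠ p) (Q : QuadraticForm F V) (y : Module.End F V)
    (hY : IsYO Q y r) (d : ℕ) (ε : Bool) (b : ℕ)
    (hrange : finrank F (LinearMap.range (y - 1)) = cc F r * b)
    (hker : finrank F (LinearMap.ker (y - 1)) + cc F r * b = 2 * d)
    (hC : Plus Q (LinearMap.ker (y - 1)) ↔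
      typeC ε (orderOf ((Fintype.card F : ℕ) : ZMod r)) b)
    (θ : Bool) (m : ℕ) (hme : Even m)
    (hfix : FixC ε θ (orderOf ((Fintype.card F : ℕ) : ZMod r)) (cc F r) d m b) :
    ∃ W : Submodule F V, IsTy Q θ m W ∧ W.map y ≤ W := by
  classical
  obtain ⟨-, hccpos, hcceven, -⟩ := cc_arith (F := F) (p := p) r hr2 hrp
  obtain ⟨hcompl, hKN, hKnd, -, -⟩ := cn_split (p := p) r hrp Q y hY
  obtain ⟨b', a', hsum, hb'b, hle, h0, htop⟩ := hfix
  obtain ⟨b₀, E, hEinv, hEnd, hEfr, hEorth, hEind, hEsup⟩ := exists_blocks_q r hr2 hrp Q y hY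
  -- `b₀ = b`
  have hb₀ : b₀ = b := by
    have h1 : finrank F ↥(⨆ j ∈ (Finset.univ : Finset (Fin b₀)), E j) =
        ∑ j ∈ (Finset.univ : Finset (Fin b₀)), finrank F (E j) := finrank_biSup E hEind Finset.univ
    have h0' : (⨆ j ∈ (Finset.univ : Finset (Fin b₀)), E j) = ⨆ j, E j := by simp
    rw [h0', hEsup, hrange] at h1
    simp only [hEfr, Finset.sum_const, Finset.card_univ, Fintype.card_fin, smul_eq_mul] at h1
    rw [mul_comm b₀] at h1
    exact (Nat.eq_of_mul_eq_mul_left hccpos h1).symm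
  subst hb₀
  -- the first `b'` blocks
  set S : Finset (Fin b₀) := Finset.univ.map (Fin.castLEEmb hb'b) with hS
  have hScard : S.card = b' := by
    rw [hS, Finset.card_map, Finset.card_univ, Fintype.card_fin]
  set WN : Submodule F V := ⨆ j ∈ S, E j with hWN
  have hWNnd : Nondeg (PB Q) WN :=
    nondeg_biSup E S (fun j _ => hEnd j) (fun j _ k _ hjk => hEorth j k hjk)
  have hWNfr : finrank F WN = cc F r * b' := by
    rw [hWN, finrank_biSup E hEind S]
    simp only [hEfr, Finset.sum_const, hScard, smul_eq_mul]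
    exact mul_comm _ _
  have hWNle : WN ≤ LinearMap.range (y - 1) := by
    rw [← hEsup]
    exact iSup₂_le fun j _ => le_iSup E j
  have hWNinv : WN.map y ≤ WN := by
    rw [hWN]
    simp_rw [Submodule.map_iSup]
    exact iSup₂_le fun j hj => (hEinv j).trans (le_iSup₂ (f := fun j _ => E j) j hj)
  have hdisj : LinearMap.ker (y - 1) ⊓ LinearMap.range (y - 1) = ⊥ := hcompl.inf_eq_bot
  have hWNfix : WN ⊓ LinearMap.ker (y - 1) = ⊥ := by
    rw [eq_bot_iff, ← hdisj]
    exact le_inf inf_le_right (inf_le_left.trans hWNle)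
  obtain ⟨-, htyN⟩ := type_of_fpf_sub r hr2 hrp Q y hY WN hWNinv hWNnd hWNfix
  have hdiv : finrank F ↥WN / cc F r = b' := by
    rw [hWNfr]
    exact Nat.mul_div_cancel_left _ hccpos
  rw [hdiv] at htyN
  -- the fixed space
  have hKnd' : Nondeg (PB Q) (LinearMap.ker (y - 1)) := (nd_resQ_iff Q _).mp hKnd
  have hKe : Even (finrank F (LinearMap.ker (y - 1))) := by
    have h1 : Even (finrank F (LinearMap.ker (y - 1)) + cc F r * b₀) := by
      rw [hker]
      exact even_two_mul d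
    exact (Nat.even_add.mp h1).mpr (hcceven.mul_right _)
  have hae : Even a' := by
    have h1 : Even (a' + cc F r * b') := by
      rw [hsum]
      exact hme
    exact (Nat.even_add.mp h1).mpr (hcceven.mul_right _)
  have hale : a' ≤ finrank F (LinearMap.ker (y - 1)) := by omega
  set δ : Bool := decide (θ = true ↔ tNP (orderOf ((Fintype.card F : ℕ) : ZMod r)) b') with hδ
  have hδt : δ = true ↔ (θ = true ↔ tNP (orderOf ((Fintype.card F : ℕ) : ZMod r)) b') := by
    rw [hδ, decide_eq_true_iff]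
  obtain ⟨WC, hWCle, hWCfr, hWCnd, hWCty⟩ := exists_sub_ty_q Q (LinearMap.ker (y - 1)) hKnd' hKe δ a'
    hae hale (fun ha => hδt.mpr (h0 ha).symm) (fun ha => by
      rw [hC, hδt]
      exact SUFFQ.iff_rot _ _ _ (htop (by omega)))
  have horth : Orth (PB Q) WC WN := fun u hu v hv => hKN u (hWCle hu) v (hWNle hv)
  obtain ⟨hWnd, -, hWfr⟩ := Cfsg.Agent.S5992P.nondeg_sup_orth Q WC WN hWCnd hWNnd horth
  have hWCinv : WC.map y ≤ WC := by
    rintro _ ⟨v, hv, rfl⟩
    have h1 : (y - 1) v = 0 := hWCle hv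
    have h2 : y v = v := by
      rw [LinearMap.sub_apply, Module.End.one_apply, sub_eq_zero] at h1
      exact h1
    rw [h2]
    exact hv
  refine ⟨WC ⊔ WN, ⟨?_, hWnd, ?_⟩, ?_⟩
  · rw [hWfr, hWCfr, hWNfr, hsum]
  · rw [plus_sup_iff_q Q WC WN hWCnd hWNnd horth (by rw [hWCfr]; exact hae)
      (by rw [hWNfr]; exact hcceven.mul_right _), hWCty, htyN, hδt]
    exact SUFFQ.iff_cancel _ _
  · rw [Submodule.map_sup]
    exact sup_le_sup hWCinv hWNinv

end Cfsg.Agent.S5974P
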