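import Mathlib
import Cfsg.Prelude.Def_GeometricClasses
import Cfsg.Prelude.Def_Classical
import Cfsg.Prelude.Def_LieClassical
import Cfsg.Agent.Helper16.S5974Defs
import Cfsg.Agent.Helper29.S5989LEVIP
import Cfsg.Agent.Helper9.S5989UNIMAT

/-! S5988 piece UNIMODEL88 (helper18): an element of order `p` of `Ω⁺_{2d}(q)` with `(x - 1)² = 0` and
fixed space of dimension `d` or `d + 1`. -/

set_option autoImplicit false
open scoped MatrixGroups
universe u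

namespace Cfsg.Agent.S5974P

open Module

/-- from the kernel dimensions of a Levi element -/
theorem UNIMODEL88.of_levi {F : Type*} [Field F] [Fintype F] {p : ℕ} [Fact p.Prime] [CharP F p]
    (h2 : (2 : F) ≠ 0) (d : ℕ) (hd : 4 ≤ d) (A : GL (Fin d) F) (hA : A ^ p = 1) (k : ℕ)
    (hk1 : finrank F (LinearMap.ker (Matrix.toLin' (A : Matrix (Fin d) (Fin d) F) - 1)) = k)
    (hk2 : finrank F (LinearMap.ker ((Matrix.toLin' (A : Matrix (Fin d) (Fin d) F) - 1) ^ 2)) = d)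
    (hkd : 2 * k < 2 * d) :
    ∃ x : GL (Fin d ⊕ Fin d) F, x ∈ Cfsg.Geo.omegaGL (Cfsg.quadFormPlus d F) ∧ x ^ p = 1 ∧
      x ≠ 1 ∧
      (Matrix.toLin' (x : Matrix (Fin d ⊕ Fin d) (Fin d ⊕ Fin d) F) - 1) ^ 2 = 0 ∧
      finrank F (LinearMap.ker
          (Matrix.toLin' (x : Matrix (Fin d ⊕ Fin d) (Fin d ⊕ Fin d) F) - 1)) = 2 * k := by
  classical
  have hp : p.Prime := Fact.out
  have hp2 : p ≠ 2 := by
    rintro rfl
    apply h2
    have := CharP.cast_eq_zero F 2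
    exact_mod_cast this
  have hpodd : Odd p := hp.odd_of_ne_two hp2
  obtain ⟨x, hxΩ, hxp, hxj⟩ :=
    Cfsg.Agent.S5989P.levi_plus h2 d (by omega) A p hpodd hA
  have h1 := hxj 1
  have h2' := hxj 2
  rw [pow_one, pow_one, hk1] at h1
  rw [hk2] at h2'
  have hfr : finrank F (Fin d ⊕ Fin d → F) = 2 * d := by
    rw [Module.finrank_fintype_fun_eq_card, Fintype.card_sum, Fintype.card_fin]
    ring
  refine ⟨x, hxΩ, hxp, ?_, ?_, h1⟩
  · rintro rfl
    rw [Units.val_one, Matrix.toLin'_one] at h1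
    have h3 : LinearMap.ker ((LinearMap.id : (Fin d ⊕ Fin d → F) →ₗ[F] _) - 1) = ⊤ := by
      rw [LinearMap.ker_eq_top]
      exact sub_self _
    rw [h3, finrank_top, hfr] at h1
    omega
  · have h3 : LinearMap.ker ((Matrix.toLin'
        (x : Matrix (Fin d ⊕ Fin d) (Fin d ⊕ Fin d) F) - 1) ^ 2) = ⊤ := by
      apply Submodule.eq_top_of_finrank_eq
      rw [h2', hfr]
    exact LinearMap.ker_eq_top.mp h3

/-- UNIMODEL88 -/
theorem exists_unip_88 {F : Type*} [Field F] [Fintype F] {p : ℕ} [Fact p.Prime] [CharP F p]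
    (h2 : (2 : F) ≠ 0) (d : ℕ) (hd : 4 ≤ d) :
    ∃ x : GL (Fin d ⊕ Fin d) F, x ∈ Cfsg.Geo.omegaGL (Cfsg.quadFormPlus d F) ∧ x ^ p = 1 ∧
      x ≠ 1 ∧
      (Matrix.toLin' (x : Matrix (Fin d ⊕ Fin d) (Fin d ⊕ Fin d) F) - 1) ^ 2 = 0 ∧
      (finrank F (LinearMap.ker
          (Matrix.toLin' (x : Matrix (Fin d ⊕ Fin d) (Fin d ⊕ Fin d) F) - 1)) = d ∨
        finrank F (LinearMap.ker
          (Matrix.toLin' (x : Matrix (Fin d ⊕ Fin d) (Fin d ⊕ Fin d) F) - 1)) = d + 1) := by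
  classical
  have hp : p.Prime := Fact.out
  have hp2 : p ≠ 2 := by
    rintro rfl
    apply h2
    have := CharP.cast_eq_zero F 2
    exact_mod_cast this
  rcases Nat.even_or_odd d with hde | hdo
  · obtain ⟨t, ht⟩ := hde
    obtain ⟨A, hAp, hA1, hA2, -⟩ :=
      Cfsg.Agent.S5989P.exists_unip_matrix (F := F) (p := p) hp2 0 t 0 d (by omega)
    obtain ⟨x, hxΩ, hxp, hx1, hx2, hxk⟩ := UNIMODEL88.of_levi h2 d hd A hAp (0 + t + 0) hA1
      (by rw [hA2]; omega) (by omega)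
    exact ⟨x, hxΩ, hxp, hx1, hx2, Or.inl (by rw [hxk]; omega)⟩
  · obtain ⟨t, ht⟩ := hdo
    obtain ⟨A, hAp, hA1, hA2, -⟩ :=
      Cfsg.Agent.S5989P.exists_unip_matrix (F := F) (p := p) hp2 1 t 0 d (by omega)
    obtain ⟨x, hxΩ, hxp, hx1, hx2, hxk⟩ := UNIMODEL88.of_levi h2 d hd A hAp (1 + t + 0) hA1
      (by rw [hA2]; omega) (by omega)
    exact ⟨x, hxΩ, hxp, hx1, hx2, Or.inr (by rw [hxk]; omega)⟩

end Cfsg.Agent.S5974P
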