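import Mathlib
import Cfsg.Agent.Helper26.S4057Defs

/-!
# S4057 piece CARD (board `s4057pieces`): the order of a group of upper unitriangular matrices is
`p` to the number of its leading positions.  Self-contained (does not use HOM / INV).
-/

set_option autoImplicit false

namespace Cfsg.Agent.S4057P

/-- numeric code of a position: `(b - a) * n + a` -/
def CARD_aux_code {n : ℕ} (a b : Fin n) : ℕ := ((b : ℕ) - (a : ℕ)) * n + (a : ℕ)

theorem CARD_aux_lex {n x y c a : ℕ} (hc : c < n) (ha : a < n) :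
    (x < y ∨ x = y ∧ c < a) ↔ x * n + c < y * n + a := by
  rcases lt_trichotomy x y with h | h | h
  · have h1 : (x + 1) * n ≤ y * n := Nat.mul_le_mul_right n h
    have h2 : (x + 1) * n = x * n + n := by ring
    constructor
    · intro _; omega
    · intro _; exact Or.inl h
  · subst h
    constructor
    · rintro (h | ⟨-, h⟩)
      · exact absurd h (lt_irrefl _)
      · omega
    · intro h; exact Or.inr ⟨rfl, by omega⟩
  · have h1 : (y + 1) * n ≤ x * n := Nat.mul_le_mul_right n h
    have h2 : (y + 1) * n = y * n + n := by ring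
    constructor
    · rintro (h' | ⟨h', -⟩) <;> omega
    · intro _; omega

theorem CARD_aux_key_lt {n : ℕ} (c d a b : Fin n) :
    key c d < key a b ↔ CARD_aux_code c d < CARD_aux_code a b := by
  unfold key CARD_aux_code
  rw [Prod.Lex.toLex_lt_toLex]
  exact CARD_aux_lex c.2 a.2

theorem CARD_aux_code_inj {n : ℕ} {c d a b : Fin n} (hcd : c < d) (hab : a < b)
    (h : CARD_aux_code c d = CARD_aux_code a b) : c = a ∧ d = b := by
  unfold CARD_aux_code at h
  have hc := c.2
  have ha := a.2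
  have h1 : ¬ ((d : ℕ) - c < (b : ℕ) - a ∨ (d : ℕ) - c = (b : ℕ) - a ∧ (c : ℕ) < a) := by
    rw [CARD_aux_lex hc ha]; omega
  have h2 : ¬ ((b : ℕ) - a < (d : ℕ) - c ∨ (b : ℕ) - a = (d : ℕ) - c ∧ (a : ℕ) < c) := by
    rw [CARD_aux_lex ha hc]; omega
  have hcd' : (c : ℕ) < d := hcd
  have hab' : (a : ℕ) < b := hab
  constructor
  · apply Fin.ext; omega
  · apply Fin.ext; omega

theorem CARD_aux_code_lt {n : ℕ} (a b : Fin n) (hab : a < b) : CARD_aux_code a b < n * n := by
  unfold CARD_aux_code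
  have ha := a.2
  have hb := b.2
  have hab' : (a : ℕ) < b := hab
  have h1 : ((b : ℕ) - a + 1) * n ≤ n * n := by
    rw [Nat.mul_comm n n]
    exact Nat.mul_le_mul_right n (by omega)
  have h2 : ((b : ℕ) - a + 1) * n = ((b : ℕ) - a) * n + n := by ring
  omega

/-- `A` vanishes at all positions of code `< m` -/
def CARD_aux_V {n p : ℕ} (m : ℕ) (A : Matrix (Fin n) (Fin n) (ZMod p)) : Prop :=
  ∀ c d : Fin n, c < d → CARD_aux_code c d < m → A c d = 0

theorem CARD_aux_below_iff {n p : ℕ} (A : Matrix (Fin n) (Fin n) (ZMod p)) (a b : Fin n) :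
    Below A a b ↔ CARD_aux_V (CARD_aux_code a b) A := by
  unfold Below CARD_aux_V
  constructor
  · intro h c d hcd hlt
    exact h c d hcd ((CARD_aux_key_lt c d a b).2 hlt)
  · intro h c d hcd hlt
    exact h c d hcd ((CARD_aux_key_lt c d a b).1 hlt)

/-- the entry of a product at a position below which both factors vanish -/
theorem CARD_aux_mul_entry {n p : ℕ} (A B : Matrix (Fin n) (Fin n) (ZMod p)) (hA : IsUT A)
    (hB : IsUT B) (a b : Fin n) (hab : a < b) (h1 : CARD_aux_V (CARD_aux_code a b) A) :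
    (A * B) a b = A a b + B a b := by
  rw [Matrix.mul_apply]
  have hne : a ≠ b := ne_of_lt hab
  rw [Finset.sum_eq_add_of_mem a b (Finset.mem_univ _) (Finset.mem_univ _) hne]
  · rw [hA.1 a, hB.1 b]; ring
  · intro t _ ht
    rcases lt_trichotomy t a with h | h | h
    · rw [hA.2 a t h, zero_mul]
    · exact absurd h ht.1
    · rcases lt_trichotomy t b with h' | h' | h'
      · have : A a t = 0 := by
          apply h1 a t h
          unfold CARD_aux_code
          have h2 : (a : ℕ) < t := h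
          have h3 : (t : ℕ) < b := h'
          have h4 : ((t : ℕ) - a + 1) * n ≤ ((b : ℕ) - a) * n := Nat.mul_le_mul_right n (by omega)
          have h5 : ((t : ℕ) - a + 1) * n = ((t : ℕ) - a) * n + n := by ring
          have := a.2
          omega
        rw [this, zero_mul]
      · exact absurd h' ht.2
      · rw [hB.2 t b h', mul_zero]

theorem CARD_aux_V_mono {n p : ℕ} {m m' : ℕ} (h : m ≤ m') (A : Matrix (Fin n) (Fin n) (ZMod p))
    (hA : CARD_aux_V m' A) : CARD_aux_V m A :=
  fun c d hcd hlt => hA c d hcd (lt_of_lt_of_le hlt h)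

theorem CARD_aux_V_mul {n p : ℕ} (m : ℕ) (A B : Matrix (Fin n) (Fin n) (ZMod p)) (hA : IsUT A)
    (hB : IsUT B) (h1 : CARD_aux_V m A) (h2 : CARD_aux_V m B) : CARD_aux_V m (A * B) := by
  intro c d hcd hlt
  rw [CARD_aux_mul_entry A B hA hB c d hcd (CARD_aux_V_mono (le_of_lt hlt) A h1),
    h1 c d hcd hlt, h2 c d hcd hlt, add_zero]

theorem CARD_aux_V_one {n p : ℕ} (m : ℕ) : CARD_aux_V m (1 : Matrix (Fin n) (Fin n) (ZMod p)) := by
  intro c d hcd _
  exact Matrix.one_apply_ne (ne_of_lt hcd)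

/-- the subgroup of the elements of `X` whose matrices vanish at all positions of code `< m` -/
def CARD_aux_X {n p : ℕ} {Q : Type*} [Group Q] [Finite Q]
    (ρ : Q →* Matrix (Fin n) (Fin n) (ZMod p)) (hUT : ∀ g, IsUT (ρ g)) (X : Subgroup Q) (m : ℕ) :
    Subgroup Q where
  carrier := {g | g ∈ X ∧ CARD_aux_V m (ρ g)}
  one_mem' := ⟨X.one_mem, by rw [map_one]; exact CARD_aux_V_one m⟩
  mul_mem' := by
    rintro g h ⟨hg, hg'⟩ ⟨hh, hh'⟩
    refine ⟨X.mul_mem hg hh, ?_⟩
    rw [map_mul]
    exact CARD_aux_V_mul m _ _ (hUT g) (hUT h) hg' hh'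
  inv_mem' := by
    rintro g ⟨hg, hg'⟩
    refine ⟨X.inv_mem hg, ?_⟩
    have hpos : 0 < orderOf g := orderOf_pos g
    have hinv : g⁻¹ = g ^ (orderOf g - 1) := by
      apply inv_eq_of_mul_eq_one_right
      rw [← pow_succ', Nat.sub_add_cancel hpos, pow_orderOf_eq_one]
    rw [hinv]
    have key : ∀ k : ℕ, CARD_aux_V m (ρ (g ^ k)) := by
      intro k
      induction k with
      | zero => rw [pow_zero, map_one]; exact CARD_aux_V_one m
      | succ k ih =>
        rw [pow_succ, map_mul]
        exact CARD_aux_V_mul m _ _ (hUT _) (hUT g) ih hg'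
    exact key _

theorem CARD_aux_mem {n p : ℕ} {Q : Type*} [Group Q] [Finite Q]
    (ρ : Q →* Matrix (Fin n) (Fin n) (ZMod p)) (hUT : ∀ g, IsUT (ρ g)) (X : Subgroup Q) (m : ℕ)
    (g : Q) : g ∈ CARD_aux_X ρ hUT X m ↔ g ∈ X ∧ CARD_aux_V m (ρ g) := Iff.rfl

/-- the leading positions of code `< m` -/
def CARD_aux_L {n p : ℕ} {Q : Type*} [Group Q] (ρ : Q →* Matrix (Fin n) (Fin n) (ZMod p))
    (X : Subgroup Q) (m : ℕ) : Set (Fin n × Fin n) :=
  {π | π ∈ leadSet ρ X ∧ CARD_aux_code π.1 π.2 < m}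

theorem CARD_aux_step {n p : ℕ} [Fact p.Prime] {Q : Type*} [Group Q] [Finite Q]
    (ρ : Q →* Matrix (Fin n) (Fin n) (ZMod p)) (hUT : ∀ g, IsUT (ρ g)) (X : Subgroup Q) (m : ℕ) :
    Nat.card (CARD_aux_X ρ hUT X m) * p ^ (CARD_aux_L ρ X m).ncard =
      Nat.card (CARD_aux_X ρ hUT X (m + 1)) * p ^ (CARD_aux_L ρ X (m + 1)).ncard := by
  classical
  have hle : CARD_aux_X ρ hUT X (m + 1) ≤ CARD_aux_X ρ hUT X m := by
    rintro g ⟨hg, hg'⟩
    exact ⟨hg, CARD_aux_V_mono (Nat.le_succ m) _ hg'⟩
  by_cases hex : ∃ π ∈ leadSet ρ X, CARD_aux_code π.1 π.2 = m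
  · -- a leading position of code `m`
    obtain ⟨⟨a, b⟩, ⟨g₀, hg₀X, hg₀⟩, hcode⟩ := hex
    simp only at hcode hg₀
    obtain ⟨hab, hbel, hne⟩ := hg₀
    -- the entry homomorphism
    let φ : ↥(CARD_aux_X ρ hUT X m) →* Multiplicative (ZMod p) :=
      { toFun := fun g => Multiplicative.ofAdd ((ρ (g : Q)) a b)
        map_one' := by
          simp only [Subgroup.coe_one, map_one]
          rw [Matrix.one_apply_ne (ne_of_lt hab)]; rfl
        map_mul' := by
          rintro ⟨g, hg, hg'⟩ ⟨h, hh, hh'⟩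
          simp only [Subgroup.coe_mul, map_mul]
          rw [CARD_aux_mul_entry _ _ (hUT g) (hUT h) a b hab (by rw [hcode]; exact hg')]
          rfl }
    have hφ : ∀ g : ↥(CARD_aux_X ρ hUT X m), φ g = Multiplicative.ofAdd ((ρ (g : Q)) a b) :=
      fun _ => rfl
    -- the kernel is `X (m+1)`
    have hker : φ.ker = (CARD_aux_X ρ hUT X (m + 1)).subgroupOf (CARD_aux_X ρ hUT X m) := by
      ext ⟨g, hg, hg'⟩
      rw [MonoidHom.mem_ker, Subgroup.mem_subgroupOf, hφ]
      simp only
      constructor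
      · intro h0
        have h0' : (ρ g) a b = 0 := by
          have := congrArg Multiplicative.toAdd h0
          simpa using this
        refine ⟨hg, ?_⟩
        intro c d hcd hlt
        rcases Nat.lt_succ_iff_lt_or_eq.1 hlt with h | h
        · exact hg' c d hcd h
        · obtain ⟨rfl, rfl⟩ := CARD_aux_code_inj hcd hab (h.trans hcode.symm)
          exact h0'
      · rintro ⟨-, h1⟩
        have : (ρ g) a b = 0 := h1 a b hab (by rw [hcode]; exact Nat.lt_succ_self m)
        rw [this]; rfl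
    -- the range is everything
    have hcardM : Nat.card (Multiplicative (ZMod p)) = p := by
      rw [Nat.card_congr Multiplicative.toAdd, Nat.card_zmod]
    haveI : Fact (Nat.card (Multiplicative (ZMod p))).Prime := by
      rw [hcardM]; exact ‹Fact p.Prime›
    have hrange : φ.range = ⊤ := by
      rcases φ.range.eq_bot_or_eq_top_of_prime_card with h | h
      · exfalso
        have hg₀m : g₀ ∈ CARD_aux_X ρ hUT X m :=
          ⟨hg₀X, by rw [← hcode]; exact (CARD_aux_below_iff _ a b).1 hbel⟩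
        have : φ ⟨g₀, hg₀m⟩ ∈ φ.range := ⟨_, rfl⟩
        rw [h, Subgroup.mem_bot, hφ] at this
        apply hne
        have := congrArg Multiplicative.toAdd this
        simpa using this
      · exact h
    have h1 : Nat.card φ.ker * φ.ker.index = Nat.card (CARD_aux_X ρ hUT X m) :=
      Subgroup.card_mul_index _
    rw [Subgroup.index_ker, hrange, Subgroup.card_top, hcardM, hker] at h1
    have h2 : Nat.card ((CARD_aux_X ρ hUT X (m + 1)).subgroupOf (CARD_aux_X ρ hUT X m)) =
        Nat.card (CARD_aux_X ρ hUT X (m + 1)) :=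
      Nat.card_congr (Subgroup.subgroupOfEquivOfLe hle).toEquiv
    rw [h2] at h1
    -- the leading sets
    have hL : CARD_aux_L ρ X (m + 1) = insert (a, b) (CARD_aux_L ρ X m) := by
      ext ⟨c, d⟩
      simp only [CARD_aux_L, Set.mem_setOf_eq, Set.mem_insert_iff, Prod.mk.injEq]
      constructor
      · rintro ⟨hl, hlt⟩
        rcases Nat.lt_succ_iff_lt_or_eq.1 hlt with h | h
        · exact Or.inr ⟨hl, h⟩
        · left
          obtain ⟨g, -, hcd, -, -⟩ := hl
          exact CARD_aux_code_inj hcd hab (h.trans hcode.symm)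
      · rintro (⟨rfl, rfl⟩ | ⟨hl, hlt⟩)
        · exact ⟨⟨g₀, hg₀X, hab, hbel, hne⟩, by rw [hcode]; exact Nat.lt_succ_self m⟩
        · exact ⟨hl, Nat.lt_succ_of_lt hlt⟩
    have hnot : (a, b) ∉ CARD_aux_L ρ X m := by
      rintro ⟨-, hlt⟩
      simp only at hlt
      omega
    rw [hL, Set.ncard_insert_of_notMem hnot (Set.toFinite _), pow_succ, ← h1]
    ring
  · -- no leading position of code `m`
    have heq : CARD_aux_X ρ hUT X (m + 1) = CARD_aux_X ρ hUT X m := by
      apply le_antisymm hle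
      rintro g ⟨hg, hg'⟩
      refine ⟨hg, ?_⟩
      intro c d hcd hlt
      rcases Nat.lt_succ_iff_lt_or_eq.1 hlt with h | h
      · exact hg' c d hcd h
      · by_contra hne
        apply hex
        refine ⟨(c, d), ⟨g, hg, hcd, ?_, hne⟩, h⟩
        rw [CARD_aux_below_iff, h]
        exact hg'
    have hL : CARD_aux_L ρ X (m + 1) = CARD_aux_L ρ X m := by
      ext π
      simp only [CARD_aux_L, Set.mem_setOf_eq]
      constructor
      · rintro ⟨hl, hlt⟩
        rcases Nat.lt_succ_iff_lt_or_eq.1 hlt with h | h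
        · exact ⟨hl, h⟩
        · exact absurd ⟨π, hl, h⟩ hex
      · rintro ⟨hl, hlt⟩
        exact ⟨hl, Nat.lt_succ_of_lt hlt⟩
    rw [heq, hL]

/-- CARD: the order of a group of upper unitriangular matrices is `p` to the number of its leading
positions. -/
theorem CARD {n p : ℕ} [Fact p.Prime] {Q : Type*} [Group Q] [Finite Q]
    (ρ : Q →* Matrix (Fin n) (Fin n) (ZMod p)) (hinj : Function.Injective ρ)
    (hUT : ∀ g, IsUT (ρ g)) (X : Subgroup Q) : Nat.card X = p ^ (leadSet ρ X).ncard := by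
  classical
  have hall : ∀ m : ℕ, Nat.card X =
      Nat.card (CARD_aux_X ρ hUT X m) * p ^ (CARD_aux_L ρ X m).ncard := by
    intro m
    induction m with
    | zero =>
      have h0 : CARD_aux_X ρ hUT X 0 = X := by
        ext g
        rw [CARD_aux_mem]
        constructor
        · exact fun h => h.1
        · exact fun h => ⟨h, fun c d _ hlt => absurd hlt (Nat.not_lt_zero _)⟩
      have hL : CARD_aux_L ρ X 0 = ∅ := by
        ext π
        simp [CARD_aux_L]
      rw [h0, hL, Set.ncard_empty, pow_zero, mul_one]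
    | succ m ih => rw [ih, CARD_aux_step]
  have hbot : CARD_aux_X ρ hUT X (n * n) = ⊥ := by
    rw [eq_bot_iff]
    rintro g ⟨-, hg'⟩
    rw [Subgroup.mem_bot]
    apply hinj
    rw [map_one]
    ext i j
    rcases lt_trichotomy i j with h | h | h
    · rw [hg' i j h (CARD_aux_code_lt i j h), Matrix.one_apply_ne (ne_of_lt h)]
    · subst h; rw [(hUT g).1 i, Matrix.one_apply_eq]
    · rw [(hUT g).2 i j h, Matrix.one_apply_ne (ne_of_gt h)]
  have hL : CARD_aux_L ρ X (n * n) = leadSet ρ X := by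
    ext π
    simp only [CARD_aux_L, Set.mem_setOf_eq]
    constructor
    · exact fun h => h.1
    · intro h
      refine ⟨h, ?_⟩
      obtain ⟨g, -, hab, -, -⟩ := h
      exact CARD_aux_code_lt _ _ hab
  rw [hall (n * n), hbot, hL, Subgroup.card_bot, one_mul]

end Cfsg.Agent.S4057P
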