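import Mathlib
import Cfsg.Agent.Helper26.S4057Defs

/-!
# S4057 piece COMM (board `s4057pieces`): leading positions `(j, k)` and `(k, l)` give a commutator
with leading position `(j, l)`.  Self-contained.
-/

set_option autoImplicit false

namespace Cfsg.Agent.S4057P

open scoped commutatorElement

theorem COMM_aux_key_lt {n : ℕ} (a t j k : Fin n) :
    key a t < key j k ↔
      ((t : ℕ) - a < (k : ℕ) - j ∨ ((t : ℕ) - a = (k : ℕ) - j ∧ (a : ℕ) < j)) := by
  unfold key
  rw [Prod.Lex.toLex_lt_toLex]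

/-- the nonzero entries of `A - 1` for `A` unitriangular with leading position `(j, k)` -/
theorem COMM_aux_entry {n p : ℕ} (A : Matrix (Fin n) (Fin n) (ZMod p)) (hA : IsUT A) (j k : Fin n)
    (hl : HasLead A j k) (a t : Fin n) (hne : (A - 1) a t ≠ 0) :
    (a : ℕ) < t ∧ ¬ ((t : ℕ) - a < (k : ℕ) - j ∨ ((t : ℕ) - a = (k : ℕ) - j ∧ (a : ℕ) < j)) := by
  rcases lt_trichotomy a t with h | h | h
  · refine ⟨h, ?_⟩
    intro hlt
    apply hne
    rw [Matrix.sub_apply, Matrix.one_apply_ne (ne_of_lt h), sub_zero]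
    exact hl.2.1 a t h ((COMM_aux_key_lt a t j k).2 hlt)
  · exfalso; apply hne
    subst h
    rw [Matrix.sub_apply, hA.1 a, Matrix.one_apply_eq, sub_self]
  · exfalso; apply hne
    rw [Matrix.sub_apply, hA.2 a t h, Matrix.one_apply_ne (ne_of_gt h), sub_self]

theorem COMM_aux_entry_eq {n p : ℕ} (A : Matrix (Fin n) (Fin n) (ZMod p)) (a t : Fin n)
    (h : a < t) : (A - 1) a t = A a t := by
  rw [Matrix.sub_apply, Matrix.one_apply_ne (ne_of_lt h), sub_zero]

/-- COMM: leading positions `(j, k)` and `(k, l)` give a commutator with leading position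
`(j, l)`. -/
theorem COMM {n p : ℕ} [Fact p.Prime] {Q : Type*} [Group Q]
    (ρ : Q →* Matrix (Fin n) (Fin n) (ZMod p)) (hUT : ∀ g, IsUT (ρ g)) (g h : Q) (j k l : Fin n)
    (hg : HasLead (ρ g) j k) (hh : HasLead (ρ h) k l) : HasLead (ρ ⁅g, h⁆) j l := by
  classical
  have hjk : (j : ℕ) < k := hg.1
  have hkl : (k : ℕ) < l := hh.1
  have hjl : j < l := lt_trans hg.1 hh.1
  set G := ρ g with hG
  set H := ρ h with hH
  set x := G - 1 with hx
  set y := H - 1 with hy
  set U := ρ (g⁻¹ * h⁻¹) with hU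
  have hUUT : IsUT U := hUT _
  set M := x * y - y * x with hM
  -- the commutator
  have hcomm : ρ ⁅g, h⁆ = 1 + M * U := by
    have h1 : G * ρ g⁻¹ = 1 := by rw [hG, ← map_mul, mul_inv_cancel, map_one]
    have h2 : H * ρ h⁻¹ = 1 := by rw [hH, ← map_mul, mul_inv_cancel, map_one]
    have h3 : M = G * H - H * G := by rw [hM, hx, hy]; noncomm_ring
    rw [commutatorElement_def, map_mul, map_mul, map_mul, hU, map_mul, h3]
    have : G * H * ρ g⁻¹ * ρ h⁻¹ =
        (G * H - H * G) * (ρ g⁻¹ * ρ h⁻¹) + H * (G * ρ g⁻¹) * ρ h⁻¹ := by noncomm_ring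
    rw [this, h1, mul_one, h2, add_comm]
  -- entries of `x * y` and `y * x` up to the position `(j, l)`
  have hxy0 : ∀ a b : Fin n, (a : ℕ) < b →
      ((b : ℕ) - a < (l : ℕ) - j ∨ ((b : ℕ) - a = (l : ℕ) - j ∧ (a : ℕ) < j)) →
      (x * y) a b = 0 := by
    intro a b _ hlt
    rw [Matrix.mul_apply]
    apply Finset.sum_eq_zero
    intro t _
    by_contra hne
    have h1 : x a t ≠ 0 := left_ne_zero_of_mul hne
    have h2 : y t b ≠ 0 := right_ne_zero_of_mul hne
    have e1 := COMM_aux_entry G (hUT g) j k hg a t h1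
    have e2 := COMM_aux_entry H (hUT h) k l hh t b h2
    omega
  have hyx0 : ∀ a b : Fin n, (a : ℕ) < b →
      ((b : ℕ) - a < (l : ℕ) - j ∨ ((b : ℕ) - a = (l : ℕ) - j ∧ (a : ℕ) ≤ j)) →
      (y * x) a b = 0 := by
    intro a b _ hlt
    rw [Matrix.mul_apply]
    apply Finset.sum_eq_zero
    intro t _
    by_contra hne
    have h1 : y a t ≠ 0 := left_ne_zero_of_mul hne
    have h2 : x t b ≠ 0 := right_ne_zero_of_mul hne
    have e1 := COMM_aux_entry H (hUT h) k l hh a t h1
    have e2 := COMM_aux_entry G (hUT g) j k hg t b h2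
    omega
  have hxyjl : (x * y) j l = G j k * H k l := by
    rw [Matrix.mul_apply, Finset.sum_eq_single k]
    · rw [hx, hy, COMM_aux_entry_eq G j k hg.1, COMM_aux_entry_eq H k l hh.1]
    · intro t _ htk
      by_contra hne
      have h1 : x j t ≠ 0 := left_ne_zero_of_mul hne
      have h2 : y t l ≠ 0 := right_ne_zero_of_mul hne
      have e1 := COMM_aux_entry G (hUT g) j k hg j t h1
      have e2 := COMM_aux_entry H (hUT h) k l hh t l h2
      apply htk
      apply Fin.ext
      omega
    · intro hk; exact absurd (Finset.mem_univ k) hk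
  -- `M` is strictly upper triangular
  have hMlow : ∀ a b : Fin n, (b : ℕ) ≤ a → M a b = 0 := by
    intro a b hba
    rw [hM, Matrix.sub_apply, Matrix.mul_apply, Matrix.mul_apply]
    have z1 : ∑ t, x a t * y t b = 0 := by
      apply Finset.sum_eq_zero
      intro t _
      by_contra hne
      have h1 : x a t ≠ 0 := left_ne_zero_of_mul hne
      have h2 : y t b ≠ 0 := right_ne_zero_of_mul hne
      have e1 := COMM_aux_entry G (hUT g) j k hg a t h1
      have e2 := COMM_aux_entry H (hUT h) k l hh t b h2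
      omega
    have z2 : ∑ t, y a t * x t b = 0 := by
      apply Finset.sum_eq_zero
      intro t _
      by_contra hne
      have h1 : y a t ≠ 0 := left_ne_zero_of_mul hne
      have h2 : x t b ≠ 0 := right_ne_zero_of_mul hne
      have e1 := COMM_aux_entry H (hUT h) k l hh a t h1
      have e2 := COMM_aux_entry G (hUT g) j k hg t b h2
      omega
    rw [z1, z2, sub_zero]
  have hM0 : ∀ a b : Fin n, (a : ℕ) < b →
      ((b : ℕ) - a < (l : ℕ) - j ∨ ((b : ℕ) - a = (l : ℕ) - j ∧ (a : ℕ) < j)) → M a b = 0 := by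
    intro a b hab hlt
    rw [hM, Matrix.sub_apply, hxy0 a b hab hlt, hyx0 a b hab (by omega), sub_zero]
  -- right multiplication by `U` does not change the entries up to `(j, l)`
  have hMU : ∀ a b : Fin n, (a : ℕ) < b →
      ((b : ℕ) - a < (l : ℕ) - j ∨ ((b : ℕ) - a = (l : ℕ) - j ∧ (a : ℕ) ≤ j)) →
      (M * U) a b = M a b := by
    intro a b hab hle
    rw [Matrix.mul_apply, Finset.sum_eq_single b]
    · rw [hUUT.1 b, mul_one]
    · intro t _ htb
      rcases lt_trichotomy t b with h | h | h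
      · by_cases hat : (a : ℕ) < t
        · have h' : (t : ℕ) < b := h
          rw [hM0 a t hat (by omega), zero_mul]
        · rw [hMlow a t (by omega), zero_mul]
      · exact absurd h htb
      · rw [hUUT.2 t b h, mul_zero]
    · intro hb; exact absurd (Finset.mem_univ b) hb
  refine ⟨hjl, ?_, ?_⟩
  · intro c d hcd hlt
    rw [COMM_aux_key_lt] at hlt
    have hcd' : (c : ℕ) < d := hcd
    rw [hcomm, Matrix.add_apply, Matrix.one_apply_ne (ne_of_lt hcd), zero_add,
      hMU c d hcd' (by omega), hM0 c d hcd' hlt]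
  · have hjl' : (j : ℕ) < l := hjl
    rw [hcomm, Matrix.add_apply, Matrix.one_apply_ne (ne_of_lt hjl), zero_add,
      hMU j l hjl' (by omega), hM, Matrix.sub_apply, hxyjl, hyx0 j l hjl' (by omega), sub_zero]
    exact mul_ne_zero hg.2.2 hh.2.2

end Cfsg.Agent.S4057P
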