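import Mathlib
import Cfsg.Agent.Helper27.Suz2Defs

/-!
# SUZ2 board, piece F3 (blueprint F3): `Z2 P` is a `K`-invariant normal subgroup, `Om P < Z2 P`,
and the squares of `Z2 P` lie in `Om P`.
-/

set_option autoImplicit false

namespace Cfsg.Agent.SUZ2P

open Cfsg.Agent.Helper17.Suz2

universe u v

variable {K : Type v} {P : Type u} [Group K] [Group P] [MulDistribMulAction K P]

theorem Z2_inv : KInv K (Z2 P) := by
  intro k x hx g
  have h1 : cm (k • x) g = k • cm x (k⁻¹ • g) := by
    rw [cm_smul, smul_inv_smul]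
  rw [h1]
  exact smul_mem_Om k (hx _)

omit [Group K] [MulDistribMulAction K P] in
theorem Z2_normal : (Z2 P).Normal := by
  refine ⟨fun y hy g h => ?_⟩
  have hc : cm y (g⁻¹ * h * g) ∈ Subgroup.center P := (hy _).1
  have h1 : cm (g * y * g⁻¹) h = g * cm y (g⁻¹ * h * g) * g⁻¹ := by unfold cm; group
  have h2 : g * cm y (g⁻¹ * h * g) * g⁻¹ = cm y (g⁻¹ * h * g) := by
    rw [Subgroup.mem_center_iff.mp hc g, mul_inv_cancel_right]
  rw [h1, h2]
  exact hy _

omit [Group K] [MulDistribMulAction K P] in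
theorem Om_le_Z2 : Om P ≤ Z2 P := by
  intro x hx g
  rw [cm_of_mem_center_left hx.1]
  exact one_mem _

theorem Om_lt_Z2 (hS : Star K P) (hna : NonAb P) : Om P < Z2 P := by
  haveI := hS.fin
  refine lt_of_le_of_ne Om_le_Z2 ?_
  intro heq
  have hne : Om P ≠ ⊤ := by
    intro htop
    obtain ⟨x, y, hxy⟩ := hna
    apply hxy
    have hx : x ∈ Om P := by rw [htop]; exact Subgroup.mem_top x
    exact (Subgroup.mem_center_iff.mp hx.1 y).symm
  obtain ⟨y, hyN, -, hy⟩ := exists_central_mod hS.pgrp (Om P) hne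
  apply hyN
  rw [heq]
  intro g
  exact hy g

theorem Z2_sq (hS : Star K P) (hna : NonAb P) : ∀ y ∈ Z2 P, y * y ∈ Om P := by
  haveI := hS.fin
  intro y hy
  have hcen : ∀ z ∈ Subgroup.center P, z * z = 1 := by
    obtain ⟨a, b, hab⟩ := hna
    exact center_sq_aux K hS.comm (Nat.card P) P rfl hS.pgrp hS.reg ⟨a, b, hab⟩
  -- `y * y` is central
  have hyc : y * y ∈ Subgroup.center P := by
    rw [Subgroup.mem_center_iff]
    intro g
    -- `cm y g` is central of order 2
    have hc := hy g
    have hcc : cm y g ∈ Subgroup.center P := hc.1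
    have hc2 : cm y g * cm y g = 1 := hc.2
    -- `y * g = cm y g * (g * y)` and `g * y = cm y g * (y * g)`
    have e1 : y * g = cm y g * (g * y) := by unfold cm; group
    have e2 : ∀ t : P, t * cm y g = cm y g * t := fun t => Subgroup.mem_center_iff.mp hcc t
    have e3 : g * y = cm y g * (y * g) := by
      rw [e1, ← mul_assoc, hc2, one_mul]
    have e4 : y * (cm y g * (y * g)) = cm y g * (y * (y * g)) := by
      rw [← mul_assoc, e2 y, mul_assoc]
    calc g * (y * y) = g * y * y := by group
      _ = cm y g * (y * g) * y := by rw [← e3]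
      _ = cm y g * (y * (g * y)) := by group
      _ = cm y g * (y * (cm y g * (y * g))) := by rw [← e3]
      _ = cm y g * (cm y g * (y * (y * g))) := by rw [e4]
      _ = y * (y * g) := by rw [← mul_assoc, hc2, one_mul]
      _ = y * y * g := by group
  exact ⟨hyc, hcen _ hyc⟩

end Cfsg.Agent.SUZ2P
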