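import Mathlib
import Cfsg.Agent.Helper27.Suz2Defs

/-!
# SUZ2 board, piece EXM: minimal / maximal `K`-subgroups exist in a finite group.
-/

set_option autoImplicit false

namespace Cfsg.Agent.SUZ2P

open Cfsg.Agent.Helper17.Suz2

universe u v

variable {K : Type v} {P : Type u} [Group K] [Group P] [MulDistribMulAction K P]

theorem exists_kmin [Finite P] {B A : Subgroup P} (hB : KInv K B) (hA : KInv K A) (hlt : B < A) :
    ∃ M : Subgroup P, KMin K B M ∧ M ≤ A := by
  classical
  -- a `K`-subgroup `M` with `B < M ≤ A` of least cardinality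
  have hex : ∃ n : ℕ, ∃ M : Subgroup P, KInv K M ∧ B < M ∧ M ≤ A ∧ Nat.card M = n :=
    ⟨_, A, hA, hlt, le_rfl, rfl⟩
  obtain ⟨M, hM, hBM, hMA, hcard⟩ := Nat.find_spec hex
  refine ⟨M, ⟨hB, hM, hBM, ?_⟩, hMA⟩
  intro D hD hBD hDM
  by_cases hDB : D = B
  · exact Or.inl hDB
  · right
    have hBD' : B < D := lt_of_le_of_ne hBD (Ne.symm hDB)
    by_contra hne
    have hlt' : D < M := lt_of_le_of_ne hDM hne
    have hc : Nat.card D < Nat.card M := by
      have : (D : Set P) ⊂ (M : Set P) := hlt'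
      exact Set.ncard_lt_ncard this (Set.toFinite _)
    rw [hcard] at hc
    exact Nat.find_min hex hc ⟨D, hD, hBD', hDM.trans hMA, rfl⟩

theorem exists_kmax [Finite P] {B A : Subgroup P} (hB : KInv K B) (hA : KInv K A) (hlt : B < A) :
    ∃ M : Subgroup P, KMin K M A ∧ B ≤ M := by
  classical
  -- a `K`-subgroup `M` with `B ≤ M < A` of least index-like measure `|P| - |M|`
  have hex : ∃ n : ℕ, ∃ M : Subgroup P, KInv K M ∧ B ≤ M ∧ M < A ∧ Nat.card P - Nat.card M = n :=
    ⟨_, B, hB, le_rfl, hlt, rfl⟩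
  obtain ⟨M, hM, hBM, hMA, hcard⟩ := Nat.find_spec hex
  refine ⟨M, ⟨hM, hA, hMA, ?_⟩, hBM⟩
  intro D hD hMD hDA
  by_cases hDA' : D = A
  · exact Or.inr hDA'
  · left
    have hDA'' : D < A := lt_of_le_of_ne hDA hDA'
    by_contra hne
    have hlt' : M < D := lt_of_le_of_ne hMD (Ne.symm hne)
    have hc : Nat.card M < Nat.card D := by
      have : (M : Set P) ⊂ (D : Set P) := hlt'
      exact Set.ncard_lt_ncard this (Set.toFinite _)
    have hDP : Nat.card D ≤ Nat.card P := by
      exact Nat.card_le_card_of_injective D.subtype D.subtype_injective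
    have : Nat.card P - Nat.card D < Nat.card P - Nat.card M := by omega
    rw [hcard] at this
    exact Nat.find_min hex this ⟨D, hD, hBM.trans hMD, hDA'', rfl⟩

end Cfsg.Agent.SUZ2P
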