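import Mathlib
import Cfsg.Agent.Helper18.AIDefs

set_option autoImplicit false

/-! S2202 piece HCF: if `|K α| = e + 1` for all `α` then the centralizer of every involution is an
elementary abelian `2`-group. -/

namespace Cfsg.Agent.Helper18.AI

open Cfsg.Agent.Helper18.CT MulAction

variable {G : Type*} [Group G]

theorem Geo1.sq_eq_one [Finite G] {Ω : Type*} [MulAction G Ω] {K : Ω → Subgroup G}
    {e : ℕ} (h : Geo1 Ω K e) (γ : Ω) (hcard : Nat.card (K γ) = e + 1) :
    ∀ a ∈ K γ, a ^ 2 = 1 := by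
  classical
  have hne1 : ∀ x : {u : G // orderOf u = 2 ∧ u • γ = γ}, (x : G) ≠ 1 := by
    intro x hx
    have := x.2.1
    rw [hx, orderOf_one] at this
    norm_num at this
  let f : {u : G // orderOf u = 2 ∧ u • γ = γ} → {a : K γ // a ≠ 1} := fun x =>
    ⟨⟨x.1, h.K_inv γ x.1 x.2.1 x.2.2⟩, fun hh => hne1 x (congrArg Subtype.val hh)⟩
  have hinj : Function.Injective f := by
    intro x y hxy
    apply Subtype.ext
    have := congrArg (fun z : {a : K γ // a ≠ 1} => (z.1 : G)) hxy
    exact this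
  have hc2 : Nat.card {a : K γ // a ≠ 1} = e := by
    have : Nat.card {a : K γ // a ≠ 1} + 1 = Nat.card (K γ) := by
      rw [← Nat.card_unique (α := {a : K γ // a = 1}), add_comm]
      rw [← Nat.card_sum]
      exact Nat.card_congr (Equiv.sumCompl (fun a : K γ => a = 1))
    omega
  have hsurj : Function.Surjective f :=
    (Function.Injective.bijective_of_nat_card_le hinj (by rw [hc2, h.inv_card γ])).2
  intro a ha
  by_cases ha1 : a = 1
  · rw [ha1, one_pow]
  · obtain ⟨x, hx⟩ := hsurj ⟨⟨a, ha⟩, fun hh => ha1 (congrArg Subtype.val hh)⟩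
    have hxa : x.1 = a := congrArg (fun z : {a : K γ // a ≠ 1} => (z.1 : G)) hx
    have hp := pow_orderOf_eq_one x.1
    rw [x.2.1, hxa] at hp
    exact hp

theorem Geo1.hc [Finite G] {Ω : Type*} [MulAction G Ω] {K : Ω → Subgroup G}
    {e : ℕ} (hG : Hyp G) (h : Geo1 Ω K e) (hcard : ∀ α : Ω, Nat.card (K α) = e + 1) : HC G := by
  intro t ht
  refine ⟨hG t ht, ?_⟩
  intro c hc
  rw [Subgroup.mem_centralizer_singleton_iff] at hc
  obtain ⟨γ, hγ⟩ := h.inv_fix t ht
  have htK := h.K_inv γ t ht hγ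
  have hcK : c ∈ K γ := h.K_cent γ t ht htK c hc
  exact Geo1.sq_eq_one h γ (hcard γ) c hcK

end Cfsg.Agent.Helper18.AI
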