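import Mathlib
import Cfsg.Agent.Helper18.AIDefs

set_option autoImplicit false

/-! S2202: `PairOK1` together with `K α ∩ G_β = 1` gives the `PairOK` of the S5748 machinery. -/

namespace Cfsg.Agent.Helper18.AI

open Cfsg.Agent.Helper18.CT MulAction

variable {G : Type*} [Group G]

theorem inv_eq_self_of_orderOf_two {u : G} (hu : orderOf u = 2) : u⁻¹ = u := by
  have h2 : u * u = 1 := by
    have := pow_orderOf_eq_one u
    rwa [hu, pow_two] at this
  exact inv_eq_of_mul_eq_one_right h2

theorem Geo1.pairOK_of_free {Ω : Type*} [MulAction G Ω]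
    {K : Ω → Subgroup G} {e : ℕ} (h : Geo1 Ω K e) {α β : Ω} (hab : α ≠ β)
    (hp : PairOK1 Ω K e α β) (hfree : K α ⊓ stabilizer G β = ⊥) : PairOK G Ω e α β := by
  obtain ⟨p1, -, p3, -, p5⟩ := hp
  refine ⟨?_, p1, ?_⟩
  · rw [p5, hfree]
    simp
  · intro u hu huab d hd
    obtain ⟨c, hc, v, hv, hvab, hdcv⟩ := p3 u hu huab d hd.1
    have hui := inv_eq_self_of_orderOf_two hu
    have hvi := inv_eq_self_of_orderOf_two hv
    have hvβ : v • β = α := by
      have : v • (v • α) = α := by
        rw [← mul_smul]
        have h2 : v * v = 1 := by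
          have := pow_orderOf_eq_one v
          rwa [hv, pow_two] at this
        rw [h2, one_smul]
      rw [hvab] at this
      exact this
    have huvβ : (u * v) • β = β := by rw [mul_smul, hvβ, huab]
    have hcβ : c • β = β := by
      have hc' : c = d * (u * v)⁻¹ := by rw [hdcv]; group
      rw [hc', mul_smul]
      have : (u * v)⁻¹ • β = β := by
        rw [inv_smul_eq_iff, huvβ]
      rw [this]
      exact hd.2
    have hc1 : c = 1 := by
      have : c ∈ K α ⊓ stabilizer G β := ⟨hc, hcβ⟩
      rw [hfree, Subgroup.mem_bot] at this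
      exact this
    rw [hdcv, hc1, one_mul]
    calc u * (u * v) * u⁻¹ = (u * u) * v * u⁻¹ := by group
      _ = v * u := by
        have h2 : u * u = 1 := by
          have := pow_orderOf_eq_one u
          rwa [hu, pow_two] at this
        rw [h2, one_mul, hui]
      _ = (u * v)⁻¹ := by rw [mul_inv_rev, hui, hvi]

end Cfsg.Agent.Helper18.AI
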