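import Mathlib
import Cfsg.Prelude.Def_LieExceptional
import Cfsg.Agent.Helper18.AIDefs

set_option autoImplicit false

/-! S2202 piece ZASA: `K α` is regular on the remaining points (copy of
`Cfsg.Agent.Helper10.CT.Geo.regular` for the structure `Geo1`). -/

namespace Cfsg.Agent.Helper18.AI

open Cfsg Cfsg.Agent.Helper18.CT MulAction

variable {G : Type*} [Group G]

/-- `hfree` in the elementwise form -/
theorem free_elt {Ω : Type*} [MulAction G Ω] {K : Ω → Subgroup G}
    (hfree : ∀ α β : Ω, α ≠ β → K α ⊓ stabilizer G β = ⊥) (γ : Ω) (a : G) (ha : a ∈ K γ)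
    (ha1 : a ≠ 1) (δ : Ω) (hδ : a • δ = δ) : δ = γ := by
  by_contra hne
  have h1 : a ∈ K γ ⊓ stabilizer G δ := ⟨ha, hδ⟩
  rw [hfree γ δ (fun h => hne h.symm), Subgroup.mem_bot] at h1
  exact ha1 h1

theorem Geo1.regular [Finite G] {Ω : Type*} [MulAction G Ω] [Finite Ω] {K : Ω → Subgroup G}
    {e : ℕ} (h : Geo1 Ω K e)
    (hidx : ∀ α : Ω, (K α).relIndex (stabilizer G α) = e)
    (hfree : ∀ α β : Ω, α ≠ β → K α ⊓ stabilizer G β = ⊥)
    (hpair : ∀ α β : Ω, α ≠ β → PairOK G Ω e α β)
    (h3 : ∀ (g : G) (a b c : Ω), a ≠ b → b ≠ c → a ≠ c → g • a = a → g • b = b → g • c = c → g = 1)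
    (α : Ω) :
    Nat.card (K α) + 1 = Nat.card Ω ∧
      ∀ y z : Ω, y ≠ α → z ≠ α → ∃! u : K α, (u : G) • y = z := by
  classical
  have hn : 2 ≤ Nat.card Ω := h.two_le
  have : Fintype G := Fintype.ofFinite G
  have : Fintype Ω := Fintype.ofFinite Ω
  have he3 := h.e_ge
  set S := stabilizer G α with hS
  have hKS : K α ≤ S := h.K_le α
  -- `|S| = |K α| * e`
  have hcardS : Nat.card S = Nat.card (K α) * e := by
    have h1 := Subgroup.card_mul_index ((K α).subgroupOf S)
    have h2 : ((K α).subgroupOf S).index = e := hidx α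
    have h3' : Nat.card ((K α).subgroupOf S) = Nat.card (K α) :=
      Nat.card_congr (Subgroup.subgroupOfEquivOfLe hKS).toEquiv
    rw [h2, h3'] at h1
    exact h1.symm
  -- a point different from `α`
  obtain ⟨y₀, hy₀⟩ : ∃ y₀ : Ω, y₀ ≠ α := by
    by_contra hcon
    push Not at hcon
    have : Nat.card Ω ≤ 1 := by
      rw [Nat.card_eq_fintype_card]
      exact Fintype.card_le_one_iff.mpr (fun x y => by rw [hcon x, hcon y])
    omega
  have hmove : ∀ y : Ω, y ≠ α → ∀ u : K α, (u : G) • y ≠ α := by
    intro y hy u hcon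
    have hu : (u : G) • α = α := hKS u.2
    exact hy (smul_left_cancel (u : G) (hcon.trans hu.symm))
  -- the orbit maps are injective
  have hinj : ∀ (y : Ω) (hy : y ≠ α), Function.Injective
      (fun u : K α => (⟨(u : G) • y, hmove y hy u⟩ : {z : Ω // z ≠ α})) := by
    intro y hy u u' huu
    have h1 : (u : G) • y = (u' : G) • y := congrArg Subtype.val huu
    have h2 : ((u' : G)⁻¹ * (u : G)) • y = y := by
      rw [mul_smul, h1, ← mul_smul, inv_mul_cancel, one_smul]
    by_contra hne
    have h4 : (u' : G)⁻¹ * (u : G) ≠ 1 := by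
      intro h5
      apply hne
      apply Subtype.ext
      have : (u : G) = (u' : G) := by
        have := congrArg (fun z => (u' : G) * z) h5
        simpa using this
      exact this
    exact hy (free_elt hfree α _ ((K α).mul_mem ((K α).inv_mem u'.2) u.2) h4 y h2)
  have hcardcompl : Fintype.card {z : Ω // z ≠ α} = Fintype.card Ω - 1 := by
    rw [Fintype.card_subtype_compl, Fintype.card_subtype_eq]
  -- `|K α| ≤ n - 1`
  have hle1 : Nat.card (K α) ≤ Nat.card Ω - 1 := by
    rw [Nat.card_eq_fintype_card, Nat.card_eq_fintype_card, ← hcardcompl]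
    exact Fintype.card_le_of_injective _ (hinj y₀ hy₀)
  -- the count
  let Dset : Ω → Finset G := fun β =>
    (Finset.univ.filter (fun x : G => x • α = α ∧ x • β = β)).erase 1
  let Tset : Finset G := (Finset.univ.filter (fun x : G => x ∈ S)) \
    (Finset.univ.filter (fun x : G => x ∈ K α))
  have hDcard : ∀ β : Ω, β ≠ α → (Dset β).card = e - 1 := by
    intro β hβ
    have h1 : (Finset.univ.filter (fun x : G => x • α = α ∧ x • β = β)).card = e := by
      rw [← (hpair α β hβ.symm).1, Nat.card_eq_fintype_card, Fintype.card_subtype]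
      congr 1
      ext x
      simp only [Finset.mem_filter, Finset.mem_univ, true_and, Subgroup.mem_inf,
        MulAction.mem_stabilizer_iff]
    show ((Finset.univ.filter (fun x : G => x • α = α ∧ x • β = β)).erase 1).card = e - 1
    rw [Finset.card_erase_of_mem, h1]
    simp
  have hTcard : Tset.card = Nat.card (K α) * e - Nat.card (K α) := by
    show ((Finset.univ.filter (fun x : G => x ∈ S)) \
      (Finset.univ.filter (fun x : G => x ∈ K α))).card = _
    rw [Finset.card_sdiff_of_subset]
    · have e1 : (Finset.univ.filter (fun x : G => x ∈ S)).card = Nat.card S := by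
        rw [Nat.card_eq_fintype_card, Fintype.card_subtype]
      have e2 : (Finset.univ.filter (fun x : G => x ∈ K α)).card = Nat.card (K α) := by
        rw [Nat.card_eq_fintype_card, Fintype.card_subtype]
      rw [e1, e2, hcardS]
    · intro x hx
      simp only [Finset.mem_filter, Finset.mem_univ, true_and] at hx ⊢
      exact hKS hx
  have hdisj : ∀ β ∈ (Finset.univ.erase α : Finset Ω), ∀ β' ∈ (Finset.univ.erase α : Finset Ω),
      β ≠ β' → Disjoint (Dset β) (Dset β') := by
    intro β hβ β' hβ' hne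
    rw [Finset.disjoint_left]
    intro x hx hx'
    simp only [Dset, Finset.mem_erase, Finset.mem_filter, Finset.mem_univ, true_and] at hx hx'
    have hβα : β ≠ α := (Finset.mem_erase.mp hβ).1
    have hβ'α : β' ≠ α := (Finset.mem_erase.mp hβ').1
    exact hx.1 (h3 x α β β' hβα.symm hne hβ'α.symm hx.2.1 hx.2.2 hx'.2.2)
  have hsub : (Finset.univ.erase α : Finset Ω).biUnion Dset ⊆ Tset := by
    intro x hx
    rw [Finset.mem_biUnion] at hx
    obtain ⟨β, hβ, hxβ⟩ := hx
    have hβα : β ≠ α := (Finset.mem_erase.mp hβ).1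
    simp only [Dset, Finset.mem_erase, Finset.mem_filter, Finset.mem_univ, true_and] at hxβ
    simp only [Tset, Finset.mem_sdiff, Finset.mem_filter, Finset.mem_univ, true_and]
    refine ⟨hxβ.2.1, fun hxK => ?_⟩
    exact hβα (free_elt hfree α x hxK hxβ.1 β hxβ.2.2)
  have hcount : (Fintype.card Ω - 1) * (e - 1) ≤ Nat.card (K α) * e - Nat.card (K α) := by
    have h1 := Finset.card_le_card hsub
    rw [Finset.card_biUnion hdisj, hTcard] at h1
    have h2 : ∑ β ∈ (Finset.univ.erase α : Finset Ω), (Dset β).card =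
        ∑ β ∈ (Finset.univ.erase α : Finset Ω), (e - 1) := by
      apply Finset.sum_congr rfl
      intro β hβ
      exact hDcard β (Finset.mem_erase.mp hβ).1
    rw [h2, Finset.sum_const, Finset.card_erase_of_mem (Finset.mem_univ α), Finset.card_univ,
      smul_eq_mul] at h1
    exact h1
  have hle2 : Nat.card Ω - 1 ≤ Nat.card (K α) := by
    rw [Nat.card_eq_fintype_card (α := Ω)]
    have h1 : Nat.card (K α) * e - Nat.card (K α) = Nat.card (K α) * (e - 1) := by
      rw [Nat.mul_sub_one]
    rw [h1] at hcount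
    exact Nat.le_of_mul_le_mul_right hcount (by omega)
  have hcardeq : Nat.card (K α) + 1 = Nat.card Ω := by omega
  refine ⟨hcardeq, ?_⟩
  intro y z hy hz
  have hbij : Function.Bijective
      (fun u : K α => (⟨(u : G) • y, hmove y hy u⟩ : {z : Ω // z ≠ α})) := by
    rw [Fintype.bijective_iff_injective_and_card]
    refine ⟨hinj y hy, ?_⟩
    rw [hcardcompl, ← Nat.card_eq_fintype_card, ← Nat.card_eq_fintype_card]
    omega
  obtain ⟨u, hu, huniq⟩ := hbij.existsUnique ⟨z, hz⟩
  refine ⟨u, congrArg Subtype.val hu, ?_⟩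
  intro u' hu'
  exact huniq u' (Subtype.ext hu')

end Cfsg.Agent.Helper18.AI
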