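import Mathlib
import Cfsg.Prelude.Def_LieExceptional
import Cfsg.Agent.Helper18.AIDefs

set_option autoImplicit false

/-! S2202 piece ZASB: assembling `Cfsg.IsZassenhausGroup` from the permutation data `Geo1`
(copy of `Cfsg.Agent.Helper7.CT.Geo.isZassenhaus`, with a new proof that no normal subgroup is
regular, since `G` is not known to be simple here). -/

namespace Cfsg.Agent.Helper18.AI

open Cfsg Cfsg.Agent.Helper18.CT MulAction

variable {G : Type*} [Group G]

/-- An involution of `K α` exists (there are `e ≥ 3` involutions fixing `α`). -/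
theorem Geo1.exists_inv_mem {Ω : Type*} [MulAction G Ω] {K : Ω → Subgroup G} {e : ℕ}
    (h : Geo1 Ω K e) (α : Ω) : ∃ u : G, orderOf u = 2 ∧ u • α = α ∧ u ∈ K α := by
  have hc := h.inv_card α
  have hpos : 0 < Nat.card {u : G // orderOf u = 2 ∧ u • α = α} := by
    have := h.e_ge; omega
  have hne : Nonempty {u : G // orderOf u = 2 ∧ u • α = α} := by
    by_contra hcon
    rw [not_nonempty_iff] at hcon
    rw [Nat.card_of_isEmpty] at hpos
    exact absurd hpos (lt_irrefl 0)
  obtain ⟨⟨u, hu2, hua⟩⟩ := hne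
  exact ⟨u, hu2, hua, h.K_inv α u hu2 hua⟩

/-- Two distinct involutions fixing `α`. -/
theorem Geo1.exists_two_inv [Finite G] {Ω : Type*} [MulAction G Ω] {K : Ω → Subgroup G} {e : ℕ}
    (h : Geo1 Ω K e) (α : Ω) : ∃ t t' : G, orderOf t = 2 ∧ t • α = α ∧ orderOf t' = 2 ∧
      t' • α = α ∧ t ≠ t' := by
  have hc := h.inv_card α
  have hgt : 1 < Nat.card {u : G // orderOf u = 2 ∧ u • α = α} := by
    have := h.e_ge; omega
  have : Nontrivial {u : G // orderOf u = 2 ∧ u • α = α} :=
    Finite.one_lt_card_iff_nontrivial.mp hgt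
  obtain ⟨x, y, hxy⟩ := exists_pair_ne {u : G // orderOf u = 2 ∧ u • α = α}
  exact ⟨x.1, y.1, x.2.1, x.2.2, y.2.1, y.2.2, fun hh => hxy (Subtype.ext hh)⟩

/-- an involution fixing `α` inverts a normal subgroup all of whose point stabilizers are
trivial -/
theorem Geo1.inverts_of_regular [Finite G] {Ω : Type*} [MulAction G Ω] {K : Ω → Subgroup G}
    {e : ℕ} (h : Geo1 Ω K e) (N : Subgroup G) [hN : N.Normal]
    (hreg : ∀ a : Ω, MulAction.stabilizer N a = ⊥) {s : G} (hs : orderOf s = 2) {α : Ω}
    (hsα : s • α = α) (x : G) (hx : x ∈ N) : s * x * s⁻¹ = x⁻¹ := by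
  have hs2 : s * s = 1 := by
    have := pow_orderOf_eq_one s
    rwa [hs, pow_two] at this
  have hsinv : s⁻¹ = s := inv_eq_of_mul_eq_one_right hs2
  let φ : MulAut ↥N := MulAut.conjNormal s
  have hφ : ∀ y : ↥N, ((φ y : ↥N) : G) = s * (y : G) * s⁻¹ := fun y => MulAut.conjNormal_apply s y
  have hfpf : MonoidHom.FixedPointFree φ := by
    intro y hy
    have h1 : s * (y : G) * s⁻¹ = (y : G) := by rw [← hφ y, hy]
    have h2 : s • ((y : G) • α) = (y : G) • α := by
      have : s * (y : G) = (y : G) * s := by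
        calc s * (y : G) = s * (y : G) * s⁻¹ * s := by group
          _ = (y : G) * s := by rw [h1]
      rw [← mul_smul, this, mul_smul, hsα]
    have h3 : (y : G) • α = α := h.inv_fix_unique s hs _ _ h2 hsα
    have h4 : y ∈ MulAction.stabilizer N α := by
      rw [MulAction.mem_stabilizer_iff]
      exact h3
    rw [hreg α, Subgroup.mem_bot] at h4
    exact h4
  have hinvol : Function.Involutive φ := by
    intro y
    apply Subtype.ext
    rw [hφ, hφ, hsinv]
    calc s * (s * (y : G) * s) * s = (s * s) * (y : G) * (s * s) := by group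
      _ = (y : G) := by rw [hs2]; group
  have key := MonoidHom.FixedPointFree.coe_eq_inv_of_involutive hfpf hinvol
  have := congrFun key ⟨x, hx⟩
  have h5 := congrArg (Subtype.val) this
  rw [hφ] at h5
  simpa using h5

theorem Geo1.isZassenhaus [Finite G] {Ω : Type*} [MulAction G Ω] [Finite Ω]
    {K : Ω → Subgroup G} {e : ℕ} (h : Geo1 Ω K e)
    (hpair : ∀ α β : Ω, α ≠ β → PairOK G Ω e α β)
    (h3 : ∀ (g : G) (a b c : Ω), a ≠ b → b ≠ c → a ≠ c → g • a = a → g • b = b → g • c = c → g = 1)
    (hcard : ∀ α : Ω, Nat.card (K α) + 1 = Nat.card Ω)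
    (hreg : ∀ α y z : Ω, y ≠ α → z ≠ α → ∃! u : K α, (u : G) • y = z) :
    IsZassenhausGroup G Ω := by
  classical
  have hne : Nonempty Ω := by
    have := h.two_le
    by_contra hcon
    rw [not_nonempty_iff] at hcon
    rw [Nat.card_of_isEmpty] at this
    omega
  obtain ⟨α₀⟩ := hne
  have hn3 : 3 ≤ Nat.card Ω := by
    obtain ⟨u, hu2, -, huK⟩ := Geo1.exists_inv_mem h α₀
    have hu1 : u ≠ 1 := by
      intro h1; rw [h1, orderOf_one] at hu2; exact absurd hu2 (by norm_num)
    have h2 : 2 ≤ Nat.card (K α₀) := by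
      have hnt : Nontrivial (K α₀) :=
        ⟨⟨⟨u, huK⟩, 1, fun hh => hu1 (by simpa using congrArg Subtype.val hh)⟩⟩
      exact Finite.one_lt_card
    have := hcard α₀
    omega
  -- three distinct points
  obtain ⟨p, q, r, hpq, hpr, hqr⟩ : ∃ a b c : Ω, a ≠ b ∧ a ≠ c ∧ b ≠ c := by
    have : Fintype Ω := Fintype.ofFinite Ω
    rw [Nat.card_eq_fintype_card] at hn3
    exact Fintype.two_lt_card_iff.mp hn3
  have := h.trans
  refine ⟨?_, ?_, h3, ?_, ?_⟩
  · -- faithful
    refine ⟨fun {m₁ m₂} hm => ?_⟩
    have key : ∀ x : Ω, (m₁⁻¹ * m₂) • x = x := by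
      intro x
      rw [mul_smul, ← hm x, inv_smul_smul]
    have := h3 (m₁⁻¹ * m₂) p q r hpq hqr hpr (key p) (key q) (key r)
    rw [inv_mul_eq_one] at this
    exact this
  · -- doubly transitive
    rw [MulAction.is_two_pretransitive_iff]
    intro a b c d hab hcd
    obtain ⟨g₁, hg₁⟩ := MulAction.exists_smul_eq G a c
    have hne : g₁ • b ≠ c := by
      intro hh
      rw [← hg₁] at hh
      exact hab (MulAction.injective g₁ hh).symm
    obtain ⟨u, hu, -⟩ := hreg c (g₁ • b) d hne (Ne.symm hcd)
    refine ⟨(u : G) * g₁, ?_, ?_⟩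
    · rw [mul_smul, hg₁]
      exact h.K_le c u.2
    · rw [mul_smul]; exact hu
  · -- a non-identity element fixing two points
    obtain ⟨hc, -, -⟩ := hpair p q hpq
    have hgt : 1 < Nat.card ↥(stabilizer G p ⊓ stabilizer G q) := by
      rw [hc]; have := h.e_ge; omega
    have : Nontrivial ↥(stabilizer G p ⊓ stabilizer G q) := Finite.one_lt_card_iff_nontrivial.mp hgt
    obtain ⟨x, hx⟩ := exists_ne (1 : ↥(stabilizer G p ⊓ stabilizer G q))
    refine ⟨(x : G), fun hh => hx (Subtype.ext hh), p, q, hpq, ?_, ?_⟩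
    · exact (Subgroup.mem_inf.mp x.2).1
    · exact (Subgroup.mem_inf.mp x.2).2
  · -- no regular normal subgroup
    intro N hN htr
    by_contra hcon
    push Not at hcon
    obtain ⟨t, t', ht, htp, ht', ht'p, htt'⟩ := Geo1.exists_two_inv h p
    have ht2 : t * t = 1 := by
      have := pow_orderOf_eq_one t
      rwa [ht, pow_two] at this
    have ht'2 : t' * t' = 1 := by
      have := pow_orderOf_eq_one t'
      rwa [ht', pow_two] at this
    have hcomm : t * t' = t' * t :=
      h.K_comm p t (h.K_inv p t ht htp) t' (h.K_inv p t' ht' ht'p)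
    have htt'2 : orderOf (t * t') = 2 := by
      apply orderOf_eq_prime
      · rw [pow_two]
        calc t * t' * (t * t') = t * (t' * t) * t' := by group
          _ = t * (t * t') * t' := by rw [hcomm]
          _ = (t * t) * (t' * t') := by group
          _ = 1 := by rw [ht2, ht'2, one_mul]
      · intro hh
        apply htt'
        have : t' = t⁻¹ := (inv_eq_of_mul_eq_one_right hh).symm
        rw [this]
        exact (inv_eq_of_mul_eq_one_right ht2).symm
    have htt'p : (t * t') • p = p := by rw [mul_smul, ht'p, htp]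
    -- every element of `N` is its own inverse
    have hself : ∀ x ∈ N, x⁻¹ = x := by
      intro x hx
      have e1 := Geo1.inverts_of_regular h N hcon ht htp x hx
      have e2 := Geo1.inverts_of_regular h N hcon ht' ht'p x hx
      have e3 := Geo1.inverts_of_regular h N hcon htt'2 htt'p x hx
      have e4 := Geo1.inverts_of_regular h N hcon ht htp x⁻¹ (N.inv_mem hx)
      have : t * t' * x * (t * t')⁻¹ = t * (t' * x * t'⁻¹) * t⁻¹ := by group
      rw [this, e2, e4, inv_inv] at e3
      exact e3.symm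
    -- so `N` is trivial
    have hNbot : ∀ x ∈ N, x = 1 := by
      intro x hx
      by_contra hx1
      have hx2 : orderOf x = 2 := by
        apply orderOf_eq_prime
        · rw [pow_two]
          have := hself x hx
          calc x * x = x⁻¹ * x := by rw [this]
            _ = 1 := inv_mul_cancel x
        · exact hx1
      obtain ⟨γ, hγ⟩ := h.inv_fix x hx2
      have h4 : (⟨x, hx⟩ : ↥N) ∈ MulAction.stabilizer N γ := by
        rw [MulAction.mem_stabilizer_iff]
        exact hγ
      rw [hcon γ, Subgroup.mem_bot] at h4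
      exact hx1 (congrArg Subtype.val h4)
    obtain ⟨g, hg⟩ := htr.exists_smul_eq p q
    have hg' : (g : G) • p = q := hg
    rw [hNbot g g.2, one_smul] at hg'
    exact hpq hg'

end Cfsg.Agent.Helper18.AI
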