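import Mathlib
import Cfsg.Prelude.Def_LieExceptional
import Cfsg.Agent.Helper18.AIDefs
import Cfsg.Agent.Helper18.AIZASA
import Cfsg.Agent.Helper18.AIZASB
import Cfsg.Agent.Helper4.ZKMain
import Cfsg.Agent.S0885

set_option autoImplicit false

/-! S2202 piece ZASC: the Feit step `|K α| = e + 1` (copy of `Cfsg.Agent.Helper18.CT.Geo.card_K_eq`
for the structure `Geo1`). -/

namespace Cfsg.Agent.Helper18.AI

open Cfsg Cfsg.Agent.Helper18.CT MulAction

variable {G : Type*} [Group G]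

theorem Geo1.card_K_eq [Finite G] {Ω : Type*} [MulAction G Ω] [Finite Ω] {K : Ω → Subgroup G}
    {e : ℕ} (h : Geo1 Ω K e) (hZ : IsZassenhausGroup G Ω) (α : Ω)
    (hfree : ∀ α β : Ω, α ≠ β → K α ⊓ stabilizer G β = ⊥)
    (hcard : Nat.card (K α) + 1 = Nat.card Ω)
    (hpair : ∀ β, α ≠ β → Nat.card ↥(stabilizer G α ⊓ stabilizer G β) = e) :
    Nat.card (K α) = e + 1 := by
  classical
  have hcomm : ∀ x ∈ K α, ∀ y ∈ K α, x * y = y * x := h.K_comm α
  have heven : Even (Nat.card (K α)) := by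
    obtain ⟨u, hu2, -, huK⟩ := Geo1.exists_inv_mem h α
    have h1 : orderOf (⟨u, huK⟩ : K α) = 2 := by
      rw [← hu2]
      exact (Subgroup.orderOf_mk u huK)
    have := orderOf_dvd_natCard (⟨u, huK⟩ : K α)
    rw [h1] at this
    exact even_iff_two_dvd.2 this
  have : Fintype Ω := Fintype.ofFinite Ω
  rw [Nat.card_eq_fintype_card (α := Ω)] at hcard
  have hKpos : 0 < Nat.card (K α) := Nat.card_pos
  -- a second point
  have h2 : 2 ≤ Fintype.card Ω := by omega
  obtain ⟨β, hβ⟩ : ∃ β : Ω, α ≠ β := by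
    by_contra hcon
    push Not at hcon
    have : Fintype.card Ω ≤ 1 := Fintype.card_le_one_iff.2 (fun x y => by rw [← hcon x, ← hcon y])
    omega
  have he := hpair β hβ
  have hfix : ∀ u ∈ K α, u ≠ 1 → ∀ c : Ω, u • c = c → c = α := fun u hu hu1 c hc =>
    free_elt hfree α u hu hu1 c hc
  have hle := Cfsg.Agent.Helper4.ZKMain.feit_abelian
    (fun G' _ _ _ hZ' a b hab h e hh he hodd H hHa hHcard hHfix =>
      Cfsg.Agent.S0885.result hZ' hab h e hh he hodd H hHa hHcard hHfix)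
    hZ hβ (by rw [he]; exact h.e_odd) (K α) (h.K_le α) hcard hfix
    (fun u v => Subtype.ext (hcomm u u.2 v v.2))
  have hdvd := Cfsg.Agent.Helper4.ZKPrelim.card_stab_dvd hZ hβ
  rw [he] at hle hdvd
  obtain ⟨k, hk⟩ := hdvd
  have hn2 : Fintype.card Ω - 2 = Nat.card (K α) - 1 := by omega
  rw [hn2] at hk hle
  -- `|K| - 1` is odd
  have hodd : Odd (Nat.card (K α) - 1) := by
    obtain ⟨r, hr⟩ := heven
    exact ⟨r - 1, by omega⟩
  have hkodd : Odd k := by
    rw [hk] at hodd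
    exact (Nat.odd_mul.1 hodd).2
  have he3 := h.e_ge
  have hk2 : k ≤ 2 := by
    by_contra hcon
    push Not at hcon
    have : e * 3 ≤ e * k := Nat.mul_le_mul_left e hcon
    omega
  have hk1 : k = 1 := by
    obtain ⟨r, hr⟩ := hkodd
    omega
  rw [hk1, mul_one] at hk
  omega

end Cfsg.Agent.Helper18.AI
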