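import Cfsg.Agent.Helper18.StronglyEmbedded

/-!
# Strongly embedded subgroups: transitivity of two-point stabilizers on involutions
-/

namespace Cfsg.Agent.Helper18

open Subgroup
open Cfsg.Agent.Helper2

variable {G : Type*} [Group G] [Finite G] {H : Subgroup G} (hH : Cfsg.IsStronglyEmbedded H)

include hH

/-- Involutions `s`, `v` with distinct fixed cosets `x`, `y` are conjugate by an involution mapping
`x` to `y`. -/
theorem se_exists_invol_conj {s v : G} (hs2 : orderOf s = 2) (hv2 : orderOf v = 2)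
    {x y : G ⧸ H} (hsx : s • x = x) (hvy : v • y = y) (hxy : x ≠ y) :
    ∃ i : G, orderOf i = 2 ∧ i • x = y ∧ i * s * i⁻¹ = v := by
  have hss := mul_self_of_orderOf_two hs2
  have hvv := mul_self_of_orderOf_two hv2
  obtain ⟨r, hr⟩ := se_odd_orderOf_mul_of_fixed hH hs2 hv2 hsx hvy hxy
  obtain ⟨hw1, hw2, -⟩ := odd_dihedral_conj hss hvv hr
  obtain ⟨w, hw⟩ : ∃ w, w = (v * s) ^ (r + 1) := ⟨_, rfl⟩
  rw [← hw] at hw1 hw2
  have hinv : (w * s) * (w * s) = 1 := by
    calc w * s * (w * s) = w * (s * w * s⁻¹) * (s * s) := by group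
      _ = 1 := by rw [hw2, hss]; group
  have hconj : (w * s) * s * (w * s)⁻¹ = v := by
    have : (w * s) * s * (w * s)⁻¹ = w * s * w⁻¹ := by group
    rw [this, hw1]
  have hne : w * s ≠ 1 := by
    intro h1
    rw [h1] at hconj
    have h3 : s = v := by simpa using hconj
    have h4 : s • y = y := by rw [h3]; exact hvy
    exact hxy (se_fixed_unique hH hs2 hsx h4)
  refine ⟨w * s, orderOf_two_iff.2 ⟨hinv, hne⟩, ?_, hconj⟩
  have hfix : v • ((w * s) • x) = (w * s) • x := by
    rw [← hconj, smul_smul]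
    have : (w * s) * s * (w * s)⁻¹ * (w * s) = (w * s) * s := by group
    rw [this, mul_smul (w * s) s, hsx]
  exact se_fixed_unique hH hv2 hfix hvy

/-- `D = H ∩ uHu⁻¹` is transitive on the involutions of `H`. -/
theorem se_inter_transitive {u : G} (hu : orderOf u = 2) (huH : u ∉ H) {s t : G}
    (hs : orderOf s = 2) (hsH : s ∈ H) (ht : orderOf t = 2) (htH : t ∈ H) :
    ∃ d ∈ (H ⊓ H.map (MulAut.conj u).toMonoidHom), d * s * d⁻¹ = t := by
  have huu := mul_self_of_orderOf_two hu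
  have huinv : u⁻¹ = u := inv_eq_of_mul_eq_one_right huu
  -- points
  have hsx : s • (QuotientGroup.mk 1 : G ⧸ H) = QuotientGroup.mk 1 := by
    rw [smul_mk_eq_iff]; simpa using hsH
  have hvy : (u * t * u⁻¹) • (QuotientGroup.mk u : G ⧸ H) = QuotientGroup.mk u := by
    rw [smul_mk_eq_iff]
    have : u⁻¹ * (u * t * u⁻¹) * u = t := by group
    rw [this]; exact htH
  have hxy : (QuotientGroup.mk 1 : G ⧸ H) ≠ QuotientGroup.mk u := by
    intro h
    rw [QuotientGroup.eq] at h
    apply huH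
    simpa using h
  obtain ⟨i, hi2, hix, hic⟩ := se_exists_invol_conj hH hs (by rw [orderOf_conj_eq', ht]) hsx hvy hxy
  have hii := mul_self_of_orderOf_two hi2
  have hiinv : i⁻¹ = i := inv_eq_of_mul_eq_one_right hii
  rw [smul_mk_eq_mk_iff] at hix
  -- hix : u⁻¹ * i * 1 ∈ H
  have hd : u * i ∈ H := by
    have : u⁻¹ * i * 1 = u * i := by rw [huinv, mul_one]
    rwa [this] at hix
  refine ⟨u * i, Subgroup.mem_inf.2 ⟨hd, ?_⟩, ?_⟩
  · rw [mem_map_conj_iff']
    -- u⁻¹ (u i) u = i u = (u i)⁻¹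
    have : u⁻¹ * (u * i) * u = (u * i)⁻¹ := by
      rw [mul_inv_rev, huinv, hiinv, ← mul_assoc, huu, one_mul]
    rw [this]
    exact H.inv_mem hd
  · calc u * i * s * (u * i)⁻¹ = u * (i * s * i⁻¹) * u⁻¹ := by group
      _ = u * (u * t * u⁻¹) * u⁻¹ := by rw [hic]
      _ = (u * u) * t * (u * u)⁻¹ := by group
      _ = t := by rw [huu]; group

end Cfsg.Agent.Helper18
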