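import Mathlib
import Cfsg.Prelude.Def_LieExceptional
import Cfsg.Prelude.Def_Involutions
import Cfsg.Agent.Helper18.AIDefs
import Cfsg.Agent.Helper18.AIZASA
import Cfsg.Agent.Helper18.AIZASB
import Cfsg.Agent.Helper18.AIZASC
import Cfsg.Agent.Helper18.AIHCF
import Cfsg.Agent.Helper18.AIPOF
import Cfsg.Agent.Helper1.AIINV
import Cfsg.Agent.Lead.AISUBSYL
import Cfsg.Agent.Helper13.AIGEO1
import Cfsg.Agent.Helper11.AILOC1
import Cfsg.Agent.Helper11.AIQA1
import Cfsg.Agent.Helper3.AIPAIR
import Cfsg.Agent.Helper3.AIQA2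
import Cfsg.Agent.Helper14.AISE
import Cfsg.Agent.Helper21.AITHREEB
import Cfsg.Agent.Helper14.AIQB
import Cfsg.Agent.Helper1.AICNT1
import Cfsg.Agent.Helper21.AIFREE
import Cfsg.Agent.Helper7.AITHREEA
import Cfsg.Agent.S1225
import Cfsg.Agent.S1230

set_option autoImplicit false

/-! # S2202: the main induction (core-free groups with abelian involution centralizers have
elementary abelian involution centralizers) -/

namespace Cfsg.Agent.Helper18.AI

open Cfsg Cfsg.Agent.Helper18.CT MulAction Cfsg.Agent.Helper7.AI Cfsg.Agent.Helper1.AI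
  Cfsg.Agent.Lead.AI Cfsg.Agent.Helper13.AI Cfsg.Agent.Helper11.AI Cfsg.Agent.Helper3.AI
  Cfsg.Agent.Helper14.AI Cfsg.Agent.Helper21.AI

universe u

theorem ne_one_of_orderOf_two' {G : Type*} [Group G] {t : G} (ht : orderOf t = 2) : t ≠ 1 := by
  intro h
  rw [h, orderOf_one] at ht
  norm_num at ht

theorem orderOf_conj_eq {G : Type*} [Group G] (g u : G) : orderOf (g * u * g⁻¹) = orderOf u := by
  have h := MulEquiv.orderOf_eq (MulAut.conj g) u
  rw [MulAut.conj_apply] at h
  exact h

/-- the case where the `K γ` have pairwise trivial intersection -/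
theorem hc_of_ti {G : Type u} [Group G] [Finite G] (hG : Hyp G) {Ω : Type*} [MulAction G Ω]
    [Finite Ω] {K : Ω → Subgroup G} {e : ℕ} (hgeo : Geo1 Ω K e)
    (hp1 : ∀ α β : Ω, α ≠ β → PairOK1 Ω K e α β)
    (hidx : ∀ α : Ω, (K α).relIndex (stabilizer G α) = e)
    (hti : ∀ α β : Ω, α ≠ β → K α ⊓ K β = ⊥) : HC G := by
  classical
  have hfree := Geo1.free_of_ti hgeo hp1 hti
  have hpair : ∀ α β : Ω, α ≠ β → PairOK G Ω e α β :=
    fun α β hab => Geo1.pairOK_of_free hgeo hab (hp1 α β hab) (hfree α β hab)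
  have h3 : ∀ (g : G) (a b c : Ω), a ≠ b → b ≠ c → a ≠ c → g • a = a → g • b = b →
      g • c = c → g = 1 := by
    intro g a b c hab hbc hac ha hb hc
    by_contra hg
    have hinj : Function.Injective (fun i : Fin 3 =>
        (⟨![a, b, c] i, by
          fin_cases i
          · exact ha
          · exact hb
          · exact hc⟩ : ↥(fixedBy Ω g))) := by
      intro i j hij
      have h1 : ![a, b, c] i = ![a, b, c] j := congrArg Subtype.val hij
      fin_cases i <;> fin_cases j <;> simp_all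
    have h3le : 3 ≤ Nat.card ↥(fixedBy Ω g) := by
      have := Nat.card_le_card_of_injective _ hinj
      rw [Nat.card_fin] at this
      exact this
    obtain ⟨w, hw, hinv, hfpf, hcard⟩ := Geo1.centralizer_structure hgeo hpair hfree g hg (by omega)
    have := Geo1.card_fixedBy_le_two hgeo hidx hfree g hg w hw hinv hfpf hcard (by omega)
    omega
  have hreg := fun α => Geo1.regular hgeo hidx hfree hpair h3 α
  have hZ := Geo1.isZassenhaus hgeo hpair h3 (fun α => (hreg α).1) (fun α => (hreg α).2)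
  have hcard : ∀ α : Ω, Nat.card (K α) = e + 1 := fun α =>
    Geo1.card_K_eq hgeo hZ α hfree (hreg α).1 (fun β hβ => (hpair α β hβ).1)
  exact Geo1.hc hG hgeo hcard

end Cfsg.Agent.Helper18.AI

namespace Cfsg.Agent.Helper18.AI

open Cfsg Cfsg.Agent.Helper18.CT MulAction Cfsg.Agent.Helper7.AI Cfsg.Agent.Helper1.AI
  Cfsg.Agent.Lead.AI Cfsg.Agent.Helper13.AI Cfsg.Agent.Helper11.AI Cfsg.Agent.Helper3.AI
  Cfsg.Agent.Helper14.AI Cfsg.Agent.Helper21.AI

universe u

/-- the main induction -/
theorem hc_of_core_trivial : ∀ (n : ℕ) (G : Type u) [Group G] [Finite G], Nat.card G = n →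
    Hyp G → ∀ T : Sylow 2 G, ¬ IsCyclic ↥(T : Subgroup G) → ¬ (T : Subgroup G).Normal →
    (Subgroup.normalizer ((T : Subgroup G) : Set G)).normalCore = ⊥ → HC G := by
  intro n
  induction n using Nat.strong_induction_on with
  | _ n ih =>
  intro G _ _ hn hG T hnc hnn hcore
  classical
  obtain ⟨e, hloc⟩ := loc1_of_hyp hG T hnc hnn
  set H := Subgroup.normalizer ((T : Subgroup G) : Set G) with hH
  obtain ⟨K, hgeo, hK⟩ : ∃ K : G ⧸ H → Subgroup G, Geo1 (G ⧸ H) K e ∧
      ∀ g : G, K (g : G ⧸ H) =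
        (Subgroup.centralizer ((T : Subgroup G) : Set G)).map (MulAut.conj g).toMonoidHom :=
    Loc1.exists_geo1 hloc
  have hINV : ∀ α β : G ⧸ H, α ≠ β → ∀ b w : G, b ∈ K α ⊓ K β → orderOf w = 2 →
      w * b * w⁻¹ = b⁻¹ → b = 1 :=
    fun α β hab b w hb hw hinv => Geo1.eq_one_of_inverted hgeo hab hb hw hinv
  obtain ⟨hp1, hidx⟩ := Geo1.pairOK1 hgeo hINV
  by_cases hti : ∀ α β : G ⧸ H, α ≠ β → K α ⊓ K β = ⊥
  · exact hc_of_ti hG hgeo hp1 hidx hti
  · exfalso
    push Not at hti
    obtain ⟨α₀, β₀, hab₀, hne₀⟩ := hti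
    -- move `α₀` to the base point
    obtain ⟨g₀, hg₀⟩ : ∃ g₀ : G, g₀ • α₀ = ((1 : G) : G ⧸ H) := by
      have := hgeo.trans
      exact MulAction.exists_smul_eq G α₀ _
    obtain ⟨a₀, ha₀, ha₀1⟩ : ∃ a₀ ∈ K α₀ ⊓ K β₀, a₀ ≠ 1 := by
      by_contra hcon
      push Not at hcon
      apply hne₀
      rw [eq_bot_iff]
      intro x hx
      rw [Subgroup.mem_bot]
      exact hcon x hx
    set α : G ⧸ H := ((1 : G) : G ⧸ H) with hα
    set β : G ⧸ H := g₀ • β₀ with hβ
    have hab : α ≠ β := by
      intro h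
      apply hab₀
      have : g₀ • α₀ = g₀ • β₀ := by rw [hg₀]; exact h
      exact MulAction.injective g₀ this
    set a := g₀ * a₀ * g₀⁻¹ with ha
    have haK : a ∈ K α ⊓ K β := by
      refine ⟨?_, ?_⟩
      · have := hgeo.K_conj g₀ α₀ a₀ ha₀.1
        rw [hg₀] at this
        exact this
      · exact hgeo.K_conj g₀ β₀ a₀ ha₀.2
    have ha1 : a ≠ 1 := by
      intro h
      apply ha₀1
      have : a₀ = g₀⁻¹ * a * g₀ := by rw [ha]; group
      rw [this, h]; group
    set Y := Subgroup.centralizer ({a} : Set G) with hY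
    have hstabα : stabilizer G α = H := by
      rw [hα]
      ext x
      rw [MulAction.mem_stabilizer_iff, MulAction.Quotient.smul_mk, smul_eq_mul, mul_one,
        eq_comm, QuotientGroup.eq, inv_one, one_mul]
    -- `Y ≠ ⊤`
    have hYne : Y ≠ ⊤ := by
      intro htop
      apply ha1
      have hmem : a ∈ H.normalCore := by
        intro b
        have hcen : b * a = a * b := by
          have : b ∈ Y := by rw [htop]; trivial
          rw [hY, Subgroup.mem_centralizer_singleton_iff] at this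
          exact this
        have : b * a * b⁻¹ = a := by rw [hcen]; group
        rw [this, ← hstabα]
        exact hgeo.K_le α haK.1
      rw [hcore, Subgroup.mem_bot] at hmem
      exact hmem
    have hstab : stabilizer G α ≤ Y := Geo1.stabilizer_le_centralizer hgeo hp1 hab haK
    have hSE : IsStronglyEmbedded Y := Geo1.isStronglyEmbedded_centralizer hgeo hp1 hab haK hYne
    -- an involution
    have hinvne : ∃ t : G, orderOf t = 2 := by
      have h1 := hgeo.inv_card α
      have h2 := hgeo.e_ge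
      have : Nonempty {u : G // orderOf u = 2 ∧ u • α = α} := by
        by_contra hcon
        rw [not_nonempty_iff] at hcon
        rw [Nat.card_of_isEmpty] at h1
        omega
      obtain ⟨⟨t, ht, -⟩⟩ := this
      exact ⟨t, ht⟩
    -- an involution outside `Y`
    obtain ⟨u, hu, huY⟩ : ∃ u : G, orderOf u = 2 ∧ u ∉ Y := by
      by_contra hcon
      push Not at hcon
      obtain ⟨g, hg⟩ : ∃ g : G, g ∉ Y := by
        by_contra hc2
        push Not at hc2
        exact hYne (eq_top_iff.mpr (fun x _ => hc2 x))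
      have hodd := hSE.2.2 g hg
      obtain ⟨t, ht⟩ := hinvne
      have htmem : t ∈ Y ⊓ Y.map (MulAut.conj g).toMonoidHom := by
        refine ⟨hcon t ht, ?_⟩
        show t ∈ Y.map (MulAut.conj g).toMonoidHom
        rw [Subgroup.mem_map]
        refine ⟨g⁻¹ * t * g, hcon _ ?_, ?_⟩
        · have := orderOf_conj_eq g⁻¹ t
          rw [inv_inv] at this
          rw [this]; exact ht
        · simp only [MulEquiv.coe_toMonoidHom, MulAut.conj_apply]
          group
      have hdvd : 2 ∣ Nat.card ↥(Y ⊓ Y.map (MulAut.conj g).toMonoidHom) := by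
        have := orderOf_dvd_natCard (⟨t, htmem⟩ : ↥(Y ⊓ Y.map (MulAut.conj g).toMonoidHom))
        rw [Subgroup.orderOf_mk, ht] at this
        exact this
      rcases hodd with ⟨k, hk⟩
      omega
    set Dstar := Y ⊓ Y.map (MulAut.conj u).toMonoidHom with hD
    have hDodd : Odd (Nat.card ↥Dstar) := hSE.2.2 u huY
    have hDtr : ∀ s t : G, orderOf s = 2 → s ∈ Y → orderOf t = 2 → t ∈ Y →
        ∃ d ∈ Dstar, d * s * d⁻¹ = t := fun s t hs hsY ht htY =>
      (Cfsg.Agent.S1225.result Y hSE u hu huY s t hs hsY ht htY).1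
    -- `T ≤ Y`
    have hKα : K α = Subgroup.centralizer ((T : Subgroup G) : Set G) := by
      rw [hα, hK 1]
      ext x
      simp
    have hTK : (T : Subgroup G) ≤ K α := by rw [hKα]; exact hloc.T_le
    have hTY : (T : Subgroup G) ≤ Y := fun x hx => hstab (hgeo.K_le α (hTK hx))
    -- the second point
    obtain ⟨g, hgβ⟩ : ∃ g : G, ((g : G) : G ⧸ H) = β := QuotientGroup.mk_surjective β
    have hgH : g ∉ H := by
      intro hg
      apply hab
      rw [← hgβ, hα, eq_comm, QuotientGroup.eq, mul_one]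
      exact H.inv_mem hg
    have hgY : (T : Subgroup G).map (MulAut.conj g).toMonoidHom ≤ Y := by
      intro x hx
      have hxK : x ∈ K β := by
        rw [← hgβ, hK g]
        exact Subgroup.map_mono hloc.T_le hx
      rw [hY, Subgroup.mem_centralizer_singleton_iff]
      exact hgeo.K_comm β x hxK a haK.2
    obtain ⟨hncY, hnnY⟩ := sylow_subtype_facts T hnc Y hTY g hgH hgY
    set TY : Sylow 2 ↥Y := T.subtype hTY with hTYdef
    have hGY : Hyp ↥Y := hG.subgroup Y
    set NY := (Subgroup.normalizer ((TY : Subgroup ↥Y) : Set ↥Y)).normalCore with hNY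
    obtain ⟨hoddN, hcommN, hcommT, -⟩ := core_facts hGY TY hncY hnnY
    obtain ⟨hGQ, hlift⟩ := hyp_quot hGY NY hoddN hcommN
    obtain ⟨T', -, hnc', hnn', -, hcore'⟩ := exists_sylow_quot TY NY hoddN hcommT hncY hnnY
    have hcore'' := hcore' le_rfl
    -- the induction hypothesis applies to `Y ⧸ NY`
    have hlt : Nat.card (↥Y ⧸ NY) < n := by
      have h1 : Nat.card (↥Y ⧸ NY) ≤ Nat.card ↥Y :=
        Nat.card_le_card_of_surjective _ (QuotientGroup.mk_surjective (s := NY))
      have h2 : Nat.card ↥Y < Nat.card G := by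
        by_contra hcon
        push Not at hcon
        apply hYne
        apply Subgroup.eq_top_of_le_card
        exact hcon
      omega
    have hHC : HC (↥Y ⧸ NY) := ih _ hlt (↥Y ⧸ NY) rfl hGQ T' hnc' hnn' hcore''
    -- the image of `D*`
    set Dbar : Subgroup (↥Y ⧸ NY) := (Dstar.subgroupOf Y).map (QuotientGroup.mk' NY) with hDbar
    have hDbarodd : Odd (Nat.card ↥Dbar) := by
      have h1 : Nat.card ↥Dbar ∣ Nat.card ↥(Dstar.subgroupOf Y) :=
        Subgroup.card_map_dvd _ _
      have h2 : Nat.card ↥(Dstar.subgroupOf Y) = Nat.card ↥Dstar :=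
        Nat.card_congr (Subgroup.subgroupOfEquivOfLe inf_le_left).toEquiv
      rw [h2] at h1
      exact hDodd.of_dvd_nat h1
    have htr : ∀ s t : ↥Y ⧸ NY, orderOf s = 2 → orderOf t = 2 →
        ∃ d ∈ Dbar, d * s * d⁻¹ = t := by
      intro s t hs ht
      obtain ⟨s', hs', rfl⟩ := hlift s hs
      obtain ⟨t', ht', rfl⟩ := hlift t ht
      have hs'' : orderOf (s' : G) = 2 := by rw [Subgroup.orderOf_coe]; exact hs'
      have ht'' : orderOf (t' : G) = 2 := by rw [Subgroup.orderOf_coe]; exact ht'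
      obtain ⟨d, hd, hdst⟩ := hDtr (s' : G) (t' : G) hs'' s'.2 ht'' t'.2
      have hdY : d ∈ Y := hd.1
      refine ⟨((⟨d, hdY⟩ : ↥Y) : ↥Y ⧸ NY), ?_, ?_⟩
      · rw [hDbar, Subgroup.mem_map]
        refine ⟨⟨d, hdY⟩, ?_, rfl⟩
        rw [Subgroup.mem_subgroupOf]
        exact hd
      · rw [← QuotientGroup.mk_inv, ← QuotientGroup.mk_mul, ← QuotientGroup.mk_mul]
        congr 1
        apply Subtype.ext
        exact hdst
    exact no_odd_transitive T' hnc' hnn' hHC Dbar hDbarodd htr

end Cfsg.Agent.Helper18.AI
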