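import Mathlib
import Cfsg.Prelude.Def_LieExceptional
import Cfsg.Prelude.Def_Involutions
import Cfsg.Agent.Helper18.AIDefs
import Cfsg.Agent.Helper18.AIMain
import Cfsg.Agent.Lead.AICEN
import Cfsg.Agent.Lead.AISPL
import Cfsg.Agent.Lead.AISLPSL
import Cfsg.Agent.Helper11.AIQA1
import Cfsg.Agent.Helper3.AIQA2
import Cfsg.Agent.Helper3.AITRF
import Cfsg.Agent.Helper14.AIQB
import Cfsg.Agent.Helper2.SL2Cyclic
import Cfsg.Agent.S1230

set_option autoImplicit false

/-! # S2202: the top level (quotient by the core, splitting by transfer) -/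

namespace Cfsg.Agent.Helper18.AI

open Cfsg Cfsg.Agent.Helper18.CT MulAction Cfsg.Agent.Lead.AI Cfsg.Agent.Helper11.AI
  Cfsg.Agent.Helper3.AI Cfsg.Agent.Helper14.AI

universe u

/-- the top level: the structure of `G` when a Sylow `2`-subgroup is neither cyclic nor normal -/
theorem exists_iso {G : Type u} [Group G] [Finite G] (hG : Hyp G) (T : Sylow 2 G)
    (hnc : ¬ IsCyclic ↥(T : Subgroup G)) (hnn : ¬ (T : Subgroup G).Normal) :
    ∃ (F : Type) (_ : Field F) (_ : Fintype F) (A : Type) (_ : CommGroup A) (_ : Finite A),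
      CharP F 2 ∧ Odd (Nat.card A) ∧
        Nonempty (G ≃* Matrix.SpecialLinearGroup (Fin 2) F × A) := by
  classical
  set N := (Subgroup.normalizer ((T : Subgroup G) : Set G)).normalCore with hN
  obtain ⟨hoddN, hcommN, hcommT, habN⟩ := core_facts hG T hnc hnn
  obtain ⟨hGQ, hlift⟩ := hyp_quot hG N hoddN hcommN
  obtain ⟨T', -, hnc', hnn', hcardT', hcore'⟩ := exists_sylow_quot T N hoddN hcommT hnc hnn
  have hcore'' := hcore' le_rfl
  have hHC : HC (G ⧸ N) :=
    hc_of_core_trivial (Nat.card (G ⧸ N)) (G ⧸ N) rfl hGQ T' hnc' hnn' hcore''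
  obtain ⟨F, hF1, hF2, hFc, ⟨iso⟩⟩ := Cfsg.Agent.S1230.result T' hnc' hnn' hHC
  -- `|F| = |T| = 2^k`, `k ≥ 2`
  obtain ⟨k, hk⟩ := (T.isPGroup').exists_card_eq
  have hFk : Fintype.card F = 2 ^ k := by rw [hFc, hcardT', hk]
  have hk2 : 2 ≤ k := by
    by_contra hcon
    push Not at hcon
    apply hnc
    interval_cases k
    · have : Subsingleton ↥(T : Subgroup G) := by
        rw [← Finite.card_le_one_iff_subsingleton, hk]; norm_num
      infer_instance
    · have : Fact (Nat.Prime 2) := ⟨Nat.prime_two⟩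
      exact isCyclic_of_prime_card (p := 2) (by rw [hk]; norm_num)
  have hF4 : 4 ≤ Fintype.card F := by
    rw [hFk]
    calc 4 = 2 ^ 2 := by norm_num
      _ ≤ 2 ^ k := Nat.pow_le_pow_right (by norm_num) hk2
  have : CharP F 2 := charP_two_of_card (by omega) hFk
  obtain ⟨sp⟩ := nonempty_sl2_equiv_psl2 (F := F)
  let φ : G ⧸ N ≃* Matrix.SpecialLinearGroup (Fin 2) F := iso.trans sp.symm
  -- `G ⧸ N` is simple and perfect
  have hsimpSL : IsSimpleGroup (Matrix.SpecialLinearGroup (Fin 2) F) := sl2_isSimpleGroup hF4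
  have hsimp : IsSimpleGroup (G ⧸ N) := φ.isSimpleGroup
  have hperf : commutator (G ⧸ N) = ⊤ := by
    have h1 := sl2_commutator_eq_top (F := F) hF4
    have h2 : (commutator (Matrix.SpecialLinearGroup (Fin 2) F)).map φ.symm.toMonoidHom =
        commutator (G ⧸ N) := by
      rw [commutator_def, commutator_def, Subgroup.map_commutator,
        ← MonoidHom.range_eq_map, MonoidHom.range_eq_top.mpr φ.symm.surjective]
    rw [← h2, h1, ← MonoidHom.range_eq_map, MonoidHom.range_eq_top.mpr φ.symm.surjective]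
  have heven : Even (Nat.card G) := by
    have h1 : Nat.card ↥(T : Subgroup G) ∣ Nat.card G := Subgroup.card_subgroup_dvd_card _
    rw [hk] at h1
    have h2 : 2 ∣ 2 ^ k := dvd_pow_self 2 (by omega)
    exact even_iff_two_dvd.mpr (h2.trans h1)
  have hcen := le_center_of_simple_quot N hoddN hcommN habN hsimp heven
  have hsup := commutator_sup_eq_top N hperf
  have hcyc : ∀ r : ℕ, r.Prime → r ≠ 2 → ∀ Q : Subgroup (G ⧸ N), IsPGroup r ↥Q →
      IsCyclic ↥Q := by
    intro r hr hr2 Q hQ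
    have : Fact r.Prime := ⟨hr⟩
    have hQ' : IsPGroup r ↥(Q.map φ.toMonoidHom) := hQ.map _
    obtain ⟨R, hR⟩ := hQ'.exists_le_sylow
    have hRc : IsCyclic ↥(R : Subgroup (Matrix.SpecialLinearGroup (Fin 2) F)) :=
      Cfsg.Agent.Helper2.SL2C.isCyclic_sylow 2 r hr2 hr2 R
    have hc2 : IsCyclic ↥(Q.map φ.toMonoidHom) :=
      isCyclic_of_injective (Subgroup.inclusion hR) (Subgroup.inclusion_injective hR)
    let ψ : ↥Q ≃* ↥(Q.map φ.toMonoidHom) := Q.equivMapOfInjective φ.toMonoidHom φ.injective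
    exact isCyclic_of_surjective ψ.symm ψ.symm.surjective
  have hinf := commutator_inf_eq_bot N hcen hoddN hcyc
  obtain ⟨ψ⟩ := nonempty_mulEquiv_prod N hcen hsup hinf
  -- a copy of `N` in `Type`
  let instN : CommGroup ↥N :=
    { (inferInstance : Group ↥N) with
      mul_comm := fun a b => Subtype.ext (habN a a.2 b b.2) }
  have hsmall : Small.{0} ↥N := inferInstance
  let μ : Shrink.{0} ↥N ≃* ↥N := Shrink.mulEquiv
  refine ⟨F, hF1, hF2, Shrink.{0} ↥N, inferInstance, Finite.of_equiv _ μ.symm.toEquiv,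
    inferInstance, ?_, ?_⟩
  · rw [Nat.card_congr μ.toEquiv]; exact hoddN
  · exact ⟨ψ.trans (MulEquiv.prodCongr φ μ.symm)⟩

end Cfsg.Agent.Helper18.AI
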