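import Mathlib
import Cfsg.Prelude.Def_Perm

/-!
Closures of subgroups of `AGL₁(p)` (S3518): the cyclotomic-operator / polynomial method.
-/

set_option autoImplicit false

namespace Cfsg.Agent.Helper18.AffClosure

open Polynomial

variable {p : ℕ} [hp : Fact p.Prime]

/-- polynomial functions of degree `≤ n` -/
def LowDeg (n : ℕ) (φ : ZMod p → ZMod p) : Prop :=
  ∃ P : (ZMod p)[X], P.natDegree ≤ n ∧ ∀ x, P.eval x = φ x

theorem poly_ext (P Q : (ZMod p)[X]) (hP : P.natDegree < p) (hQ : Q.natDegree < p)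
    (h : ∀ x, P.eval x = Q.eval x) : P = Q := by
  rw [← sub_eq_zero]
  apply Polynomial.eq_zero_of_natDegree_lt_card_of_eval_eq_zero' (P - Q) Finset.univ
  · intro i _; rw [eval_sub, h, sub_self]
  · rw [Finset.card_univ, ZMod.card]
    exact lt_of_le_of_lt (natDegree_sub_le _ _) (max_lt hP hQ)

theorem exists_poly (φ : ZMod p → ZMod p) :
    ∃ P : (ZMod p)[X], P.natDegree < p ∧ ∀ x, P.eval x = φ x := by
  have hinj : Set.InjOn (id : ZMod p → ZMod p) (Finset.univ : Finset (ZMod p)) :=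
    fun _ _ _ _ h => h
  refine ⟨Lagrange.interpolate Finset.univ id φ, ?_, ?_⟩
  · have h1 := Lagrange.degree_interpolate_lt (s := Finset.univ) (v := id) φ hinj
    rw [Finset.card_univ, ZMod.card] at h1
    by_cases h0 : Lagrange.interpolate Finset.univ id φ = 0
    · rw [h0, natDegree_zero]; exact hp.out.pos
    · rw [← Polynomial.natDegree_lt_iff_degree_lt h0] at h1
      exact h1
  · intro x
    exact Lagrange.eval_interpolate_at_node (v := id) φ hinj (Finset.mem_univ x)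

theorem sum_eval_subgroup (A : Subgroup (ZMod p)ˣ) [Fintype A] (d : ℕ) (hd : Fintype.card A = d)
    (hd1 : 1 ≤ d) (H : (ZMod p)[X]) (hH : H.natDegree ≤ d) :
    ∑ a : A, H.eval (((a : (ZMod p)ˣ) : ZMod p)) = (d : ZMod p) * (H.coeff 0 + H.coeff d) := by
  have h1 : ∀ a : A, H.eval (((a : (ZMod p)ˣ) : ZMod p)) =
      ∑ i ∈ Finset.range (d + 1), H.coeff i * (((a : (ZMod p)ˣ) : ZMod p)) ^ i := fun a =>
    eval_eq_sum_range' (Nat.lt_succ_of_le hH) _
  simp_rw [h1]
  rw [Finset.sum_comm]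
  simp_rw [← Finset.mul_sum]
  have hp0 : ∑ a : A, (((a : (ZMod p)ˣ) : ZMod p)) ^ 0 = (d : ZMod p) := by
    simp [hd]
  have hpd : ∑ a : A, (((a : (ZMod p)ˣ) : ZMod p)) ^ d = (d : ZMod p) := by
    have : ∀ a : A, (((a : (ZMod p)ˣ) : ZMod p)) ^ d = 1 := by
      intro a
      have h2 : a ^ d = 1 := by rw [← hd]; exact pow_card_eq_one
      have h3 : ((a : (ZMod p)ˣ)) ^ d = 1 := by
        have := congrArg Subtype.val h2
        simpa using this
      have := congrArg Units.val h3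
      simpa using this
    simp_rw [this]
    simp [hd]
  obtain ⟨d', rfl⟩ : ∃ d', d = d' + 1 := ⟨d - 1, by omega⟩
  rw [Finset.sum_range_succ, Finset.sum_range_succ', hp0, hpd]
  have hmid : ∑ i ∈ Finset.range d', H.coeff (i + 1) *
      ∑ a : A, (((a : (ZMod p)ˣ) : ZMod p)) ^ (i + 1) = 0 := by
    apply Finset.sum_eq_zero
    intro i hi
    rw [Finset.mem_range] at hi
    rw [FiniteField.sum_subgroup_pow_eq_zero (by omega) (by rw [hd]; omega), mul_zero]
  rw [hmid]
  ring

theorem sum_comp_perm (A : Subgroup (ZMod p)ˣ) [Fintype A] (σ : Equiv.Perm (ZMod p))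
    (hσ : ∀ x y, ∃ a ∈ A, σ x - σ y = ((a : (ZMod p)ˣ) : ZMod p) * (x - y))
    (φ : ZMod p → ZMod p) (x : ZMod p) :
    ∑ a : A, φ (σ (x + ((a : (ZMod p)ˣ) : ZMod p))) =
      ∑ a : A, φ (σ x + ((a : (ZMod p)ˣ) : ZMod p)) := by
  classical
  have hex : ∀ a : A, ∃ b : A, σ (x + ((a : (ZMod p)ˣ) : ZMod p)) =
      σ x + ((b : (ZMod p)ˣ) : ZMod p) := by
    intro a
    obtain ⟨c, hc, hcx⟩ := hσ (x + ((a : (ZMod p)ˣ) : ZMod p)) x
    refine ⟨⟨c, hc⟩ * a, ?_⟩
    have : x + ((a : (ZMod p)ˣ) : ZMod p) - x = ((a : (ZMod p)ˣ) : ZMod p) := by ring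
    rw [this] at hcx
    simp only [Subgroup.coe_mul, Units.val_mul]
    rw [← hcx]; ring
  choose β hβ using hex
  have hinj : Function.Injective β := by
    intro a₁ a₂ h
    have h1 := hβ a₁
    rw [h, ← hβ a₂] at h1
    have h2 := σ.injective h1
    have h3 : ((a₁ : (ZMod p)ˣ) : ZMod p) = ((a₂ : (ZMod p)ˣ) : ZMod p) := add_left_cancel h2
    exact Subtype.ext (Units.ext h3)
  have hbij : Function.Bijective β := Finite.injective_iff_bijective.mp hinj
  exact Fintype.sum_bijective β hbij _ _ (fun a => by rw [hβ a])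

theorem choose_ne_zero {n j : ℕ} (hn : n < p) (hj : j ≤ n) : ((n.choose j : ℕ) : ZMod p) ≠ 0 := by
  intro h
  rw [ZMod.natCast_eq_zero_iff] at h
  have h1 := Nat.choose_mul_factorial_mul_factorial hj
  have h2 : p ∣ n.factorial := by
    rw [← h1]; exact Dvd.dvd.mul_right (Dvd.dvd.mul_right h _) _
  rw [hp.out.dvd_factorial] at h2
  omega

/-- functions in the kernel of `θ - d` are polynomial of degree `< d` -/
theorem lowDeg_of_sum_eq (A : Subgroup (ZMod p)ˣ) [Fintype A] (d : ℕ) (hd : Fintype.card A = d)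
    (hd1 : 1 ≤ d) (hdp : d < p) (φ : ZMod p → ZMod p)
    (h : ∀ x, ∑ a : A, φ (x + ((a : (ZMod p)ˣ) : ZMod p)) = (d : ZMod p) * φ x) :
    LowDeg (d - 1) φ := by
  obtain ⟨P, hPdeg, hP⟩ := exists_poly φ
  refine ⟨P, ?_, hP⟩
  by_contra hcon
  push Not at hcon
  set n := P.natDegree with hn
  have hdn : d ≤ n := by omega
  set Q : (ZMod p)[X] := ∑ a : A, taylor (((a : (ZMod p)ˣ) : ZMod p)) P - C (d : ZMod p) * P with hQ
  have hQdeg : Q.natDegree < p := by
    refine lt_of_le_of_lt ?_ hPdeg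
    refine (natDegree_sub_le _ _).trans (max_le ?_ ?_)
    · apply natDegree_sum_le_of_forall_le
      intro a _
      rw [natDegree_taylor]
    · exact natDegree_C_mul_le _ _
  have hQ0 : Q = 0 := by
    apply poly_ext Q 0 hQdeg (by rw [natDegree_zero]; exact hp.out.pos)
    intro x
    rw [hQ, eval_sub, eval_finset_sum, eval_mul, eval_C, eval_zero]
    simp_rw [taylor_eval, hP]
    rw [h x, sub_self]
  have hc : Q.coeff (n - d) = 0 := by rw [hQ0, coeff_zero]
  rw [hQ, coeff_sub, finset_sum_coeff, coeff_C_mul] at hc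
  simp_rw [taylor_coeff] at hc
  have hHdeg : (hasseDeriv (n - d) P).natDegree ≤ d := by
    refine (natDegree_hasseDeriv_le P (n - d)).trans ?_
    omega
  rw [sum_eval_subgroup A d hd hd1 _ hHdeg, hasseDeriv_coeff, hasseDeriv_coeff] at hc
  have e1 : d + (n - d) = n := by omega
  rw [zero_add, e1, Nat.choose_self, Nat.cast_one, one_mul] at hc
  have hc' : (d : ZMod p) * (((n.choose (n - d) : ℕ) : ZMod p) * P.coeff n) = 0 := by
    linear_combination hc
  have hd0 : (d : ZMod p) ≠ 0 := by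
    intro h0
    rw [ZMod.natCast_eq_zero_iff] at h0
    have := Nat.le_of_dvd (by omega) h0
    omega
  have hch : ((n.choose (n - d) : ℕ) : ZMod p) ≠ 0 := choose_ne_zero hPdeg (by omega)
  have hlead : P.coeff n ≠ 0 := by
    rw [hn]
    intro h0
    have : P = 0 := leadingCoeff_eq_zero.mp h0
    rw [this, natDegree_zero] at hn
    omega
  exact mul_ne_zero hd0 (mul_ne_zero hch hlead) hc'

/-- polynomial functions of degree `< d` are in the kernel of `θ - d` -/
theorem sum_eq_of_natDegree_lt (A : Subgroup (ZMod p)ˣ) [Fintype A] (d : ℕ)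
    (hd : Fintype.card A = d) (hd1 : 1 ≤ d) (P : (ZMod p)[X]) (hP : P.natDegree ≤ d - 1)
    (x : ZMod p) :
    ∑ a : A, P.eval (x + ((a : (ZMod p)ˣ) : ZMod p)) = (d : ZMod p) * P.eval x := by
  have h1 : ∀ a : A, P.eval (x + ((a : (ZMod p)ˣ) : ZMod p)) =
      (taylor x P).eval (((a : (ZMod p)ˣ) : ZMod p)) := by
    intro a
    rw [taylor_eval, add_comm]
  simp_rw [h1]
  have hdeg : (taylor x P).natDegree ≤ d := by rw [natDegree_taylor]; omega
  rw [sum_eval_subgroup A d hd hd1 _ hdeg]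
  have h2 : (taylor x P).coeff d = 0 := by
    apply coeff_eq_zero_of_natDegree_lt
    rw [natDegree_taylor]; omega
  rw [h2, add_zero, taylor_coeff_zero]

end Cfsg.Agent.Helper18.AffClosure
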