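import Mathlib
import Cfsg.Prelude.Def_Perm
import Cfsg.Agent.Helper18.AffClosure

/-!
Closures of subgroups of `AGL₁(p)` (S3518): main results.
-/

set_option autoImplicit false

namespace Cfsg.Agent.Helper18.AffClosure

open Polynomial

variable {p : ℕ} [hp : Fact p.Prime]

/-- an affine-on-the-nose permutation agreeing with an element of `G` at `0` and `1` is in `G` -/
theorem mem_of_affine (G : Subgroup (Equiv.Perm (ZMod p)))
    (hG : G ≤ Cfsg.affineGroup (ZMod p)) (σ : Equiv.Perm (ZMod p))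
    (hσ : ∀ t : Fin 2 → ZMod p, ∃ g ∈ G, ∀ i, σ (t i) = g (t i))
    (c₁ c₀ : ZMod p) (h : ∀ x, σ x = c₁ * x + c₀) : σ ∈ G := by
  obtain ⟨g, hgG, hg⟩ := hσ ![0, 1]
  have h0 : σ 0 = g 0 := by simpa using hg 0
  have h1 : σ 1 = g 1 := by simpa using hg 1
  obtain ⟨a, b, hab⟩ := hG hgG
  rw [h, hab] at h0 h1
  have hb : c₀ = b := by simpa using h0
  have ha : c₁ = (a : ZMod p) := by
    rw [hb] at h1
    have : c₁ * 1 = (a : ZMod p) * 1 := add_right_cancel h1
    simpa using this
  have : σ = g := by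
    ext x
    rw [h, hab, ha, hb]
  rw [this]; exact hgG

theorem two_closed (G : Subgroup (Equiv.Perm (ZMod p))) (hG : G ≤ Cfsg.affineGroup (ZMod p))
    (htrans : ∀ b : ZMod p, ∃ g ∈ G, ∀ x, g x = x + b) (hne : G ≠ Cfsg.affineGroup (ZMod p))
    (σ : Equiv.Perm (ZMod p)) (hσ : ∀ t : Fin 2 → ZMod p, ∃ g ∈ G, ∀ i, σ (t i) = g (t i)) :
    σ ∈ G := by
  classical
  set A : Subgroup (ZMod p)ˣ := G.comap (MulAction.toPermHom (ZMod p)ˣ (ZMod p)) with hA
  have hmemA : ∀ u : (ZMod p)ˣ, u ∈ A ↔ MulAction.toPerm u ∈ G := fun u => Iff.rfl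
  -- linear parts of elements of `G` lie in `A`
  have hA1 : ∀ g ∈ G, ∀ (a : (ZMod p)ˣ) (b : ZMod p), (∀ x, g x = (a : ZMod p) * x + b) → a ∈ A := by
    intro g hg a b hab
    obtain ⟨τ, hτG, hτ⟩ := htrans (-b)
    rw [hmemA]
    have : MulAction.toPerm a = τ * g := by
      ext x
      rw [Equiv.Perm.mul_apply, hτ, hab, MulAction.toPerm_apply, Units.smul_def, smul_eq_mul]
      ring
    rw [this]; exact G.mul_mem hτG hg
  -- `A` is proper
  have hAtop : A ≠ ⊤ := by
    intro htop
    apply hne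
    apply le_antisymm hG
    rintro ρ ⟨a, b, hab⟩
    obtain ⟨τ, hτG, hτ⟩ := htrans b
    have haA : a ∈ A := by rw [htop]; trivial
    rw [hmemA] at haA
    have : ρ = τ * MulAction.toPerm a := by
      ext x
      rw [Equiv.Perm.mul_apply, hτ, hab, MulAction.toPerm_apply, Units.smul_def, smul_eq_mul]
    rw [this]; exact G.mul_mem hτG haA
  -- the 2-closure condition in terms of `A`
  have hA3 : ∀ x y, ∃ a ∈ A, σ x - σ y = ((a : (ZMod p)ˣ) : ZMod p) * (x - y) := by
    intro x y
    obtain ⟨g, hgG, hg⟩ := hσ ![x, y]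
    have h0 : σ x = g x := by simpa using hg 0
    have h1 : σ y = g y := by simpa using hg 1
    obtain ⟨a, b, hab⟩ := hG hgG
    refine ⟨a, hA1 g hgG a b hab, ?_⟩
    rw [h0, h1, hab, hab]; ring
  set d := Fintype.card A with hd
  have hd1 : 1 ≤ d := Fintype.card_pos
  have hcardU : Fintype.card (ZMod p)ˣ = p - 1 := ZMod.card_units p
  have hdvd : d ∣ p - 1 := by
    rw [← hcardU, hd, ← Nat.card_eq_fintype_card, ← Nat.card_eq_fintype_card]
    exact Subgroup.card_subgroup_dvd_card A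
  have hdne : d ≠ p - 1 := by
    intro h
    apply hAtop
    apply Subgroup.eq_top_of_card_eq
    rw [Nat.card_eq_fintype_card, Nat.card_eq_fintype_card, ← hd, h, hcardU]
  have hp2 : 2 ≤ p := hp.out.two_le
  have h2d : 2 * d ≤ p - 1 := by
    obtain ⟨c, hc⟩ := hdvd
    have hc0 : c ≠ 0 := by rintro rfl; omega
    have hc1 : c ≠ 1 := by rintro rfl; omega
    have : 2 ≤ c := by omega
    calc 2 * d ≤ c * d := Nat.mul_le_mul_right d this
      _ = p - 1 := by rw [hc]; ring
  have hdp : d < p := by omega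
  -- it suffices to show `σ` is affine
  suffices haff : ∃ c₁ c₀ : ZMod p, ∀ x, σ x = c₁ * x + c₀ by
    obtain ⟨c₁, c₀, h⟩ := haff
    exact mem_of_affine G hG σ hσ c₁ c₀ h
  by_cases hd2 : d = 1
  · refine ⟨1, σ 0, fun x => ?_⟩
    obtain ⟨a, ha, hax⟩ := hA3 x 0
    have : (⟨a, ha⟩ : A) = 1 := by
      have hsub : Subsingleton A := Fintype.card_le_one_iff_subsingleton.mp (by omega)
      exact Subsingleton.elim _ _
    have ha1 : a = 1 := by
      have := congrArg Subtype.val this
      simpa using this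
    rw [ha1] at hax
    simp only [Units.val_one, one_mul, sub_zero] at hax
    linear_combination hax
  · have hd2' : 2 ≤ d := by omega
    have key : ∀ P : (ZMod p)[X], P.natDegree ≤ d - 1 → LowDeg (d - 1) (fun x => P.eval (σ x)) := by
      intro P hP
      apply lowDeg_of_sum_eq A d hd.symm hd1 hdp
      intro x
      rw [sum_comp_perm A σ hA3 (fun y => P.eval y) x]
      exact sum_eq_of_natDegree_lt A d hd.symm hd1 P hP (σ x)
    obtain ⟨f, hfdeg, hf⟩ := key X (by rw [natDegree_X]; omega)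
    simp only [eval_X] at hf
    have hf1 : f.natDegree ≤ 1 := by
      by_contra hcon
      push Not at hcon
      set δ := f.natDegree with hδ
      set j := (d - 1) / δ + 1 with hj
      have hδpos : 0 < δ := by omega
      have hjle : j ≤ d - 1 := by
        have h1 : (d - 1) / δ ≤ (d - 1) / 2 := Nat.div_le_div_left hcon (by norm_num)
        omega
      have hmod := Nat.div_add_mod (d - 1) δ
      have hmodlt := Nat.mod_lt (d - 1) hδpos
      have hjδ : d - 1 < j * δ := by
        rw [hj, add_mul, one_mul]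
        nlinarith [Nat.mul_comm δ ((d - 1) / δ)]
      have hjδ' : j * δ < p := by
        have : (d - 1) / δ * δ ≤ d - 1 := Nat.div_mul_le_self _ _
        rw [hj, add_mul, one_mul]
        omega
      obtain ⟨R, hRdeg, hR⟩ := key (X ^ j) (by rw [natDegree_X_pow]; exact hjle)
      simp only [eval_pow, eval_X] at hR
      have hfj : (f ^ j).natDegree = j * δ := natDegree_pow f j
      have heq : R = f ^ j := by
        apply poly_ext R (f ^ j) (by omega) (by rw [hfj]; exact hjδ')
        intro x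
        rw [hR, eval_pow, hf]
      rw [heq, hfj] at hRdeg
      omega
    refine ⟨f.coeff 1, f.coeff 0, fun x => ?_⟩
    have := eq_X_add_C_of_natDegree_le_one hf1
    rw [← hf x]
    conv_lhs => rw [this]
    simp

/-- every permutation agrees on each ordered pair with an affine map -/
theorem two_closure_affine (σ : Equiv.Perm (ZMod p)) (t : Fin 2 → ZMod p) :
    ∃ g ∈ Cfsg.affineGroup (ZMod p), ∀ i, σ (t i) = g (t i) := by
  have hmk : ∀ (a : (ZMod p)ˣ) (b : ZMod p), ∃ g ∈ Cfsg.affineGroup (ZMod p),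
      ∀ x, g x = (a : ZMod p) * x + b := by
    intro a b
    refine ⟨(Equiv.addRight b : Equiv.Perm (ZMod p)) * MulAction.toPerm a, ⟨a, b, fun x => ?_⟩,
      fun x => ?_⟩ <;>
    · rw [Equiv.Perm.mul_apply, MulAction.toPerm_apply, Units.smul_def, smul_eq_mul]
      rfl
  by_cases h : t 0 = t 1
  · obtain ⟨g, hg, hgx⟩ := hmk 1 (σ (t 0) - t 0)
    refine ⟨g, hg, fun i => ?_⟩
    have hi : t i = t 0 := by
      fin_cases i
      · rfl
      · exact h.symm
    rw [hi, hgx]; simp
  · have hne : t 1 - t 0 ≠ 0 := sub_ne_zero.mpr (Ne.symm h)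
    have hne2 : σ (t 1) - σ (t 0) ≠ 0 := by
      rw [sub_ne_zero]
      intro h2
      exact h (σ.injective h2).symm
    set a : ZMod p := (σ (t 1) - σ (t 0)) / (t 1 - t 0) with ha
    have ha0 : a ≠ 0 := div_ne_zero hne2 hne
    obtain ⟨g, hg, hgx⟩ := hmk (Units.mk0 a ha0) (σ (t 0) - a * t 0)
    refine ⟨g, hg, fun i => ?_⟩
    rw [hgx, Units.val_mk0]
    fin_cases i
    · simp
    · simp only [Fin.mk_one, Fin.isValue]
      have : a * (t 1 - t 0) = σ (t 1) - σ (t 0) := by
        rw [ha]; field_simp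
      linear_combination -this

/-- `AGL₁(p)` is 3-closed -/
theorem three_closed (σ : Equiv.Perm (ZMod p))
    (h : ∀ t : Fin 3 → ZMod p, ∃ g ∈ Cfsg.affineGroup (ZMod p), ∀ i, σ (t i) = g (t i)) :
    σ ∈ Cfsg.affineGroup (ZMod p) := by
  have hne : σ 1 - σ 0 ≠ 0 := by
    rw [sub_ne_zero]
    intro h2
    exact one_ne_zero (σ.injective h2)
  refine ⟨Units.mk0 _ hne, σ 0, fun x => ?_⟩
  obtain ⟨g, ⟨a, b, hab⟩, hg⟩ := h ![0, 1, x]
  have h0 : σ 0 = g 0 := by simpa using hg 0
  have h1 : σ 1 = g 1 := by simpa using hg 1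
  have h2 : σ x = g x := by simpa using hg 2
  rw [Units.val_mk0, h2, h0, h1, hab, hab, hab]
  ring

end Cfsg.Agent.Helper18.AffClosure
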