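import Mathlib
import Cfsg.Agent.Helper29.AltPronDefs
import Cfsg.Agent.Helper29.AltPronBasics

/-!
# S2222 piece L1A: `ν₂|P| + #orbits + 1 ≤ n` for nontrivial `2`-groups of even permutations
-/

set_option autoImplicit false

namespace Cfsg.Agent.Helper18.AltPron

open MulAction Equiv Cfsg.Agent.Helper29.AltPron
open scoped Pointwise Nat

variable {α : Type*} [Fintype α] [DecidableEq α]

/-- an even involution leaves at most `n - 2` orbits -/
theorem orbCount_add_two_le (P : Subgroup (Perm α)) (t : Perm α) (htP : t ∈ P) (ht1 : t ≠ 1)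
    (ht2 : t * t = 1) (hsign : Perm.sign t = 1) : orbCount P + 2 ≤ Nat.card α := by
  classical
  -- a moved point
  obtain ⟨a, ha⟩ : ∃ a, t a ≠ a := by
    by_contra hcon
    push Not at hcon
    exact ht1 (Equiv.ext hcon)
  have htt : ∀ x, t (t x) = x := fun x => by
    have := congrArg (fun f : Perm α => f x) ht2
    simpa using this
  -- `t` is not a swap
  have hsw : t ≠ swap a (t a) := by
    intro h
    have h2 : Perm.sign (swap a (t a)) = -1 := Perm.sign_swap (Ne.symm ha)
    rw [← h, hsign] at h2
    exact absurd h2 (by decide)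
  obtain ⟨c, hc⟩ : ∃ c, t c ≠ swap a (t a) c := by
    by_contra hcon
    push Not at hcon
    exact hsw (Equiv.ext hcon)
  have hca : c ≠ a := by
    intro h
    rw [h, swap_apply_left] at hc
    exact hc rfl
  have hcta : c ≠ t a := by
    intro h
    rw [h, swap_apply_right, htt] at hc
    exact hc rfl
  have htc : t c ≠ c := by
    rw [swap_apply_of_ne_of_ne hca hcta] at hc
    exact hc
  -- the points `t a`, `t c` are not needed as orbit representatives
  let S : Set α := {x | x ≠ t a ∧ x ≠ t c}
  have hsurj : Function.Surjective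
      (fun x : S => (Quotient.mk'' (x : α) : orbitRel.Quotient P α)) := by
    intro q
    induction q using Quotient.inductionOn' with
    | h x =>
      by_cases h1 : x = t a
      · refine ⟨⟨a, ?_, ?_⟩, ?_⟩
        · exact fun h => ha h.symm
        · intro h
          apply hcta
          have := congrArg t h
          rw [htt] at this
          exact this.symm
        · apply Quotient.sound'
          rw [orbitRel_apply, h1]
          exact mem_orbit_sub.mpr ⟨t, htP, by rw [htt]⟩
      · by_cases h2 : x = t c
        · refine ⟨⟨c, ?_, ?_⟩, ?_⟩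
          · exact hcta
          · exact fun h => htc h.symm
          · apply Quotient.sound'
            rw [orbitRel_apply, h2]
            exact mem_orbit_sub.mpr ⟨t, htP, by rw [htt]⟩
        · exact ⟨⟨x, h1, h2⟩, rfl⟩
  have hle : Nat.card (orbitRel.Quotient P α) ≤ Nat.card S :=
    Nat.card_le_card_of_surjective _ hsurj
  have hS : Nat.card S + 2 = Nat.card α := by
    have hS' : S = ({t a, t c} : Set α)ᶜ := by
      ext x
      simp [S, not_or]
    have h2 : ({t a, t c} : Set α).ncard = 2 := by
      apply Set.ncard_pair
      intro h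
      apply hca
      have := congrArg t h
      rw [htt, htt] at this
      exact this.symm
    have := Set.ncard_add_ncard_compl ({t a, t c} : Set α)
    rw [h2, ← hS', ← Nat.card_coe_set_eq S] at this
    omega
  unfold orbCount
  omega

/-- L1A -/
theorem boundA (h1 : Split1 α) : BoundA α := by
  classical
  intro P
  induction' hn : Nat.card P using Nat.strong_induction_on with n ih generalizing P
  intro hP hA hne
  subst hn
  obtain ⟨k, hk⟩ := IsPGroup.iff_card.mp hP
  have hval : padicValNat 2 (Nat.card P) = k := by
    rw [hk]; exact padicValNat.prime_pow k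
  -- a nontrivial element and a moved point
  obtain ⟨p, hpP, hp1⟩ : ∃ p ∈ P, p ≠ 1 := by
    by_contra hcon
    push Not at hcon
    exact hne ((Subgroup.eq_bot_iff_forall P).mpr hcon)
  obtain ⟨ω, hω⟩ : ∃ ω, p ω ≠ ω := by
    by_contra hcon
    push Not at hcon
    exact hp1 (Equiv.ext hcon)
  have hk0 : k ≠ 0 := by
    intro h0
    rw [h0, pow_zero] at hk
    have : P = ⊥ := Subgroup.card_eq_one.mp hk
    exact hne this
  by_cases hk1 : k = 1
  · -- `|P| = 2`
    have hc2 : Nat.card P = 2 := by rw [hk, hk1, pow_one]
    have hord : orderOf p ∣ 2 := by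
      rw [← hc2]; exact Subgroup.orderOf_dvd_natCard P hpP
    have hpp : p * p = 1 := by
      rw [← pow_two]; exact orderOf_dvd_iff_pow_eq_one.mp hord
    have hsign : Perm.sign p = 1 := by
      have := hA hpP
      rwa [Perm.mem_alternatingGroup] at this
    have := orbCount_add_two_le P p hpP hp1 hpp hsign
    rw [hval, hk1]
    omega
  · -- `|P| ≥ 4`
    have hst : stab P ω ≠ P := by
      intro h
      have : p ∈ stab P ω := by rw [h]; exact hpP
      exact hω (mem_stab.mp this).2
    obtain ⟨Q, hKQ, hQP, hQ2⟩ := exists_index_two hP (stab_le P ω) hst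
    have hQcard : Nat.card Q = 2 ^ (k - 1) := by
      have : 2 * Nat.card Q = 2 * 2 ^ (k - 1) := by
        rw [hQ2, hk, ← pow_succ']
        congr 1
        omega
      exact Nat.eq_of_mul_eq_mul_left (by norm_num) this
    have hQne : Q ≠ ⊥ := by
      intro h
      rw [h, Subgroup.card_bot] at hQcard
      have : k - 1 ≠ 0 := by omega
      have h2 : 2 ≤ 2 ^ (k - 1) := by
        calc 2 = 2 ^ 1 := by norm_num
          _ ≤ 2 ^ (k - 1) := Nat.pow_le_pow_right (by norm_num) (by omega)
      omega
    have hQval : padicValNat 2 (Nat.card Q) = k - 1 := by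
      rw [hQcard]; exact padicValNat.prime_pow (k - 1)
    have hlt : Nat.card Q < Nat.card P := by
      rw [hk, hQcard]
      exact Nat.pow_lt_pow_right (by norm_num) (by omega)
    have hQ := ih (Nat.card Q) hlt Q rfl (hP.to_le hQP) (le_trans hQP hA) hQne
    have hsplit := h1 Q P hQP ω (orbit_ne_of_stab_le hQP hQ2 ω hKQ)
    rw [hQval] at hQ
    rw [hval]
    omega

end Cfsg.Agent.Helper18.AltPron
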