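import Mathlib
import Cfsg.Agent.Helper29.AltPronDefs
import Cfsg.Agent.Helper29.AltPronBasics

/-!
# S2222 piece SYLA: a Sylow `2`-subgroup of `Alt(α)`, `|α| ≥ 6`, is A-tight with distinct orbits
-/

set_option autoImplicit false

namespace Cfsg.Agent.Helper18.AltPron

open MulAction Equiv Cfsg.Agent.Helper29.AltPron
open scoped Pointwise Nat

variable {α : Type*} [Fintype α] [DecidableEq α]

/-- SYLA -/
theorem sylow_alt_facts (hB : BoundA α) (hn : 6 ≤ Nat.card α) (S : Sylow 2 (alternatingGroup α))
    (P : Subgroup (Perm α))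
    (hPS : P = (S : Subgroup (alternatingGroup α)).map (alternatingGroup α).subtype)
    (hO1 : Nat.card α ≤ padicValNat 2 (Nat.card α)! + orbCount P)
    (hO2 : ∀ x y : α, orbit P x ≠ orbit P y → (orbit P x).ncard = (orbit P y).ncard →
      Nat.card α + 1 ≤ padicValNat 2 (Nat.card α)! + orbCount P)
    (hAR : Nat.card α < 2 ^ (padicValNat 2 (Nat.card α)! - 1)) :
    ATight P ∧ DistinctOrbits P ∧ ∀ ω : α, stab P ω ≠ ⊥ := by
  classical
  have : Fact (Nat.Prime 2) := ⟨Nat.prime_two⟩
  have : Nontrivial α := by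
    rw [← Finite.one_lt_card_iff_nontrivial]
    omega
  set v := padicValNat 2 (Nat.card α)! with hv
  -- `|P| = |S| = 2 ^ (v - 1)`
  have hcardPS : Nat.card P = Nat.card (S : Subgroup (alternatingGroup α)) := by
    rw [hPS]
    exact (Nat.card_congr ((S : Subgroup (alternatingGroup α)).equivMapOfInjective
      (alternatingGroup α).subtype (Subgroup.subtype_injective _)).toEquiv).symm
  have hA2 : 2 * Nat.card (alternatingGroup α) = (Nat.card α)! := by
    rw [two_mul_nat_card_alternatingGroup, Nat.card_perm]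
  have hApos : Nat.card (alternatingGroup α) ≠ 0 := Nat.card_pos.ne'
  have hfac : (Nat.card (alternatingGroup α)).factorization 2 + 1 = v := by
    rw [hv, ← hA2, padicValNat.mul (by norm_num) hApos, padicValNat.self (by norm_num),
      Nat.factorization_def _ Nat.prime_two]
    omega
  have hS : Nat.card (S : Subgroup (alternatingGroup α)) = 2 ^ (v - 1) := by
    rw [S.card_eq_multiplicity]
    congr 1
    omega
  have hPcard : Nat.card P = 2 ^ (v - 1) := by rw [hcardPS, hS]
  have hPval : padicValNat 2 (Nat.card P) = v - 1 := by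
    rw [hPcard]; exact padicValNat.prime_pow (v - 1)
  -- `v - 1 ≥ 3`
  have hv3 : 3 ≤ v - 1 := by
    by_contra hcon
    push Not at hcon
    have : 2 ^ (v - 1) ≤ 2 ^ 2 := Nat.pow_le_pow_right (by norm_num) (by omega)
    omega
  have hP2 : IsPGroup 2 P := IsPGroup.of_card hPcard
  have hPA : P ≤ alternatingGroup α := by
    rw [hPS]
    rintro x ⟨y, -, rfl⟩
    exact y.2
  have hPne : P ≠ ⊥ := by
    intro h
    rw [h, Subgroup.card_bot] at hPcard
    have : 2 ^ 3 ≤ 2 ^ (v - 1) := Nat.pow_le_pow_right (by norm_num) hv3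
    omega
  have hbound := hB P hP2 hPA hPne
  rw [hPval] at hbound
  refine ⟨⟨hP2, hPA, hPne, ?_⟩, ?_, ?_⟩
  · rw [hPval]
    omega
  · intro x y hxy
    by_contra hne
    have := hO2 x y hne hxy
    omega
  · intro ω hω
    have h := card_stab_mul P ω
    rw [hω, Subgroup.card_bot, one_mul, hPcard] at h
    have hle : (orbit P ω).ncard ≤ Nat.card α := by
      rw [← Set.ncard_univ]
      exact Set.ncard_le_ncard (Set.subset_univ _)
    omega

end Cfsg.Agent.Helper18.AltPron
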