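import Mathlib

/-!
# Two commuting automorphisms of order dividing `q` of an abelian `q'`-group

If `α`, `β` commute, `α ^ q = 1 = β ^ q` and the abelian group `V ≠ 1` has order prime to `q`, then
`β` or some `α β ^ k` (`k < q`) fixes a nonidentity element of `V`.
(Used for B&G 12.12 = S1421.)
-/

set_option autoImplicit false
set_option linter.unusedSectionVars false
set_option linter.unusedVariables false
set_option linter.style.haveILetI false

namespace Cfsg.Agent.Helper18.BG12

open Subgroup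

section abstract

variable {V : Type*} [CommGroup V]

/-- the "norm" of `v` under `γ` : the product of `γ ^ i v`, `i < q` -/
def normAut (q : ℕ) (γ : MulAut V) (v : V) : V := ∏ i ∈ Finset.range q, (γ ^ i) v

theorem normAut_fixed {q : ℕ} {γ : MulAut V} (hγ : γ ^ q = 1) (v : V) :
    γ (normAut q γ v) = normAut q γ v := by
  unfold normAut
  rw [map_prod]
  have h1 : ∀ i ∈ Finset.range q, γ ((γ ^ i) v) = (γ ^ (i + 1)) v := by
    intro i _
    rw [pow_succ', MulAut.mul_apply]
  rw [Finset.prod_congr rfl h1]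
  have h2 := Finset.prod_range_succ' (fun i => (γ ^ i) v) q
  have h3 := Finset.prod_range_succ (fun i => (γ ^ i) v) q
  rw [h3] at h2
  simp only [hγ, pow_zero, MulAut.one_apply] at h2
  exact (mul_right_cancel h2).symm

theorem normAut_eq_one_of_fpf {q : ℕ} {γ : MulAut V} (hγ : γ ^ q = 1)
    (hfpf : ∀ v : V, γ v = v → v = 1) (v : V) : normAut q γ v = 1 :=
  hfpf _ (normAut_fixed hγ v)

theorem fixed_of_commuting [Finite V] [Nontrivial V] {q : ℕ} (hq : q.Prime)
    (hcop : (Nat.card V).Coprime q) (α β : MulAut V) (hc : Commute α β)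
    (hα : α ^ q = 1) (hβ : β ^ q = 1) :
    (∃ v : V, v ≠ 1 ∧ β v = v) ∨ ∃ k < q, ∃ v : V, v ≠ 1 ∧ (α * β ^ k) v = v := by
  by_contra hcon
  push Not at hcon
  obtain ⟨hβfix, hfix⟩ := hcon
  have hβfix' : ∀ v : V, β v = v → v = 1 := fun v hv => by
    by_contra h1
    exact hβfix v h1 hv
  have hfix' : ∀ k < q, ∀ v : V, (α * β ^ k) v = v → v = 1 := fun k hk v hv => by
    by_contra h1
    exact hfix k hk v h1 hv
  -- powers of `β` are fixed-point-free too
  have hβi : ∀ i, 0 < i → i < q → ∀ v : V, (β ^ i) v = v → v = 1 := by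
    intro i hi0 hiq v hv
    have hcop' : Nat.Coprime i q := (Nat.coprime_of_lt_prime hi0.ne' hiq hq).symm
    obtain ⟨m, -, hm⟩ := Nat.exists_mul_mod_eq_one_of_coprime hcop' hq.one_lt
    have h1 : (β ^ i) ^ m = β := by
      rw [← pow_mul, pow_eq_pow_mod (i * m) hβ, hm, pow_one]
    apply hβfix' v
    have h2 : ∀ n : ℕ, ((β ^ i) ^ n) v = v := by
      intro n
      induction n with
      | zero => simp
      | succ n ih => rw [pow_succ, MulAut.mul_apply, hv, ih]
    rw [← h1]
    exact h2 m
  obtain ⟨v, hv1⟩ := exists_ne (1 : V)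
  -- all the norms are trivial
  have hN1 : ∀ k < q, normAut q (α * β ^ k) v = 1 := by
    intro k hk
    apply normAut_eq_one_of_fpf _ (hfix' k hk)
    rw [(hc.pow_right k).mul_pow, hα, ← pow_mul, mul_comm, pow_mul, hβ, one_pow, one_mul]
  have hN2 : ∀ i, 0 < i → i < q → normAut q (β ^ i) v = 1 := by
    intro i hi0 hiq
    apply normAut_eq_one_of_fpf _ (hβi i hi0 hiq)
    rw [← pow_mul, mul_comm, pow_mul, hβ, one_pow]
  -- the double product
  have hprod : ∏ k ∈ Finset.range q, normAut q (α * β ^ k) v = v ^ q := by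
    unfold normAut
    rw [Finset.prod_comm]
    have h1 : ∀ i ∈ Finset.range q, ∏ k ∈ Finset.range q, ((α * β ^ k) ^ i) v
        = (α ^ i) (normAut q (β ^ i) v) := by
      intro i _
      unfold normAut
      rw [map_prod]
      apply Finset.prod_congr rfl
      intro k _
      rw [(hc.pow_right k).mul_pow, MulAut.mul_apply, ← pow_mul, mul_comm k i, pow_mul]
    rw [Finset.prod_congr rfl h1]
    have hq0 : 0 < q := hq.pos
    obtain ⟨n, rfl⟩ := Nat.exists_eq_succ_of_ne_zero hq0.ne'
    rw [Finset.prod_range_succ']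
    have h2 : ∀ i ∈ Finset.range n, (α ^ (i + 1)) (normAut (n + 1) (β ^ (i + 1)) v) = 1 := by
      intro i hi
      rw [hN2 (i + 1) (Nat.succ_pos i) (by have := Finset.mem_range.mp hi; omega), map_one]
    rw [Finset.prod_congr rfl h2, Finset.prod_const_one, one_mul, pow_zero, pow_zero,
      MulAut.one_apply]
    unfold normAut
    simp
  rw [Finset.prod_congr rfl (fun k hk => hN1 k (Finset.mem_range.mp hk)),
    Finset.prod_const_one] at hprod
  apply hv1
  have hord : orderOf v ∣ q := orderOf_dvd_of_pow_eq_one hprod.symm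
  have hord2 : orderOf v ∣ Nat.card V := orderOf_dvd_natCard v
  have : orderOf v ∣ 1 := by
    have := Nat.dvd_gcd hord2 hord
    rwa [hcop] at this
  exact orderOf_eq_one_iff.mp (Nat.dvd_one.mp this)

end abstract

section concrete

variable {G : Type*} [Group G]

/-- **two_commuting**: `a`, `u` normalize the abelian `q'`-group `V ≠ 1`, commute modulo `C(V)`
and have `q`-th powers in `C(V)`: then `u` or some `a u ^ k` (`k < q`) centralizes a nonidentity
element of `V`. -/
theorem two_commuting {V : Subgroup G} [Finite V]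
    (hVab : ∀ v ∈ V, ∀ w ∈ V, v * w = w * v) (hV1 : V ≠ ⊥)
    {q : ℕ} (hq : q.Prime) (hcop : (Nat.card V).Coprime q) {a u : G}
    (ha : a ∈ normalizer (V : Set G)) (hu : u ∈ normalizer (V : Set G))
    (hau : a * u * a⁻¹ * u⁻¹ ∈ centralizer (V : Set G))
    (haq : a ^ q ∈ centralizer (V : Set G)) (huq : u ^ q ∈ centralizer (V : Set G)) :
    (∃ v ∈ V, v ≠ 1 ∧ u * v = v * u) ∨
      ∃ k < q, ∃ v ∈ V, v ≠ 1 ∧ (a * u ^ k) * v = v * (a * u ^ k) := by
  letI : CommGroup ↥V :=
    { (inferInstance : Group ↥V) with mul_comm := fun x y => Subtype.ext (hVab x x.2 y y.2) }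
  haveI : Nontrivial ↥V := (Subgroup.nontrivial_iff_ne_bot V).mpr hV1
  set φ := V.normalizerMonoidHom with hφ
  set α : MulAut ↥V := φ ⟨a, ha⟩ with hα
  set β : MulAut ↥V := φ ⟨u, hu⟩ with hβ
  have hker : ∀ (x : G) (hx : x ∈ normalizer (V : Set G)), x ∈ centralizer (V : Set G) →
      φ ⟨x, hx⟩ = 1 := by
    intro x hx hxc
    have : (⟨x, hx⟩ : ↥(normalizer (V : Set G))) ∈ φ.ker := by
      rw [hφ, normalizerMonoidHom_ker, mem_subgroupOf]
      exact hxc
    exact MonoidHom.mem_ker.mp this
  have happ : ∀ (x : G) (hx : x ∈ normalizer (V : Set G)) (v : ↥V),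
      ((φ ⟨x, hx⟩ v : ↥V) : G) = x * v * x⁻¹ := fun x hx v => rfl
  have hc : Commute α β := by
    have h1 : φ (⟨a, ha⟩ * ⟨u, hu⟩ * ⟨a, ha⟩⁻¹ * ⟨u, hu⟩⁻¹) = 1 :=
      hker _ _ hau
    rw [map_mul, map_mul, map_mul, map_inv, map_inv] at h1
    have h2 : α * β * α⁻¹ * β⁻¹ = 1 := h1
    have h3 : α * β = β * α := by
      calc α * β = (α * β * α⁻¹ * β⁻¹) * (β * α) := by group
        _ = β * α := by rw [h2, one_mul]
    exact h3
  have hαq : α ^ q = 1 := by
    rw [hα, ← map_pow]
    exact hker _ _ haq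
  have hβq : β ^ q = 1 := by
    rw [hβ, ← map_pow]
    exact hker _ _ huq
  have hcop' : (Nat.card ↥V).Coprime q := hcop
  rcases fixed_of_commuting hq hcop' α β hc hαq hβq with ⟨v, hv1, hv⟩ | ⟨k, hk, v, hv1, hv⟩
  · left
    refine ⟨(v : G), v.2, fun h => hv1 (Subtype.ext h), ?_⟩
    have h1 : u * (v : G) * u⁻¹ = (v : G) := by
      rw [← happ u hu v]
      exact congrArg Subtype.val hv
    calc u * (v : G) = (u * (v : G) * u⁻¹) * u := by group
      _ = (v : G) * u := by rw [h1]
  · right
    refine ⟨k, hk, (v : G), v.2, fun h => hv1 (Subtype.ext h), ?_⟩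
    have h0 : α * β ^ k = φ (⟨a, ha⟩ * ⟨u, hu⟩ ^ k) := by
      rw [map_mul, map_pow]
    have h1 : (a * u ^ k) * (v : G) * (a * u ^ k)⁻¹ = (v : G) := by
      have h2 := congrArg Subtype.val hv
      rw [h0] at h2
      exact h2
    calc (a * u ^ k) * (v : G) = ((a * u ^ k) * (v : G) * (a * u ^ k)⁻¹) * (a * u ^ k) := by group
      _ = (v : G) * (a * u ^ k) := by rw [h1]

/-- a `p'`-element normalizing the abelian `p`-group `S` and centralizing its elements of order
dividing `p` centralizes `S` -/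
theorem centralizes_of_centralizes_omega {S : Subgroup G} {p : ℕ} [hp : Fact p.Prime]
    (hS : IsPGroup p S) (hSab : ∀ a ∈ S, ∀ b ∈ S, a * b = b * a) {g : G}
    (hg : g ∈ normalizer (S : Set G)) (hgp : (orderOf g).Coprime p)
    (hΩ : ∀ s ∈ S, s ^ p = 1 → g * s = s * g) : ∀ s ∈ S, g * s = s * g := by
  have key : ∀ k : ℕ, ∀ s ∈ S, s ^ p ^ k = 1 → g * s = s * g := by
    intro k
    induction k with
    | zero =>
      intro s _ hs
      rw [pow_zero, pow_one] at hs
      rw [hs, mul_one, one_mul]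
    | succ k ih =>
      intro s hs hsk
      have hsp : g * s ^ p = s ^ p * g := by
        apply ih (s ^ p) (S.pow_mem hs p)
        rw [← pow_mul, ← pow_succ']
        exact hsk
      have hgs : g * s * g⁻¹ ∈ S := (Subgroup.mem_normalizer_iff.mp hg s).mp hs
      obtain ⟨w, hw⟩ : ∃ w, w = g * s * g⁻¹ * s⁻¹ := ⟨_, rfl⟩
      have hwS : w ∈ S := hw ▸ S.mul_mem hgs (S.inv_mem hs)
      have hwp : w ^ p = 1 := by
        have hcomm : Commute (g * s * g⁻¹) s⁻¹ := hSab _ hgs _ (S.inv_mem hs)
        rw [hw, hcomm.mul_pow, conj_pow, inv_pow]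
        have : g * s ^ p * g⁻¹ = s ^ p := by rw [hsp]; group
        rw [this, mul_inv_cancel]
      have hgw : g * w = w * g := hΩ w hwS hwp
      have hconj : ∀ n : ℕ, g ^ n * s * (g ^ n)⁻¹ = w ^ n * s := by
        intro n
        induction n with
        | zero => simp
        | succ n ih2 =>
          have h1 : g ^ (n + 1) * s * (g ^ (n + 1))⁻¹ = g * (g ^ n * s * (g ^ n)⁻¹) * g⁻¹ := by
            rw [pow_succ']; group
          rw [h1, ih2]
          have h2 : g * (w ^ n * s) * g⁻¹ = (g * w ^ n * g⁻¹) * (g * s * g⁻¹) := by group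
          have h3 : g * w ^ n * g⁻¹ = w ^ n := by
            have : Commute g (w ^ n) := (show Commute g w from hgw).pow_right n
            rw [this.eq]; group
          have h4 : g * s * g⁻¹ = w * s := by rw [hw]; group
          rw [h2, h3, h4, pow_succ, mul_assoc]
      have h5 := hconj (orderOf g)
      rw [pow_orderOf_eq_one, one_mul, inv_one, mul_one] at h5
      have h6 : w ^ orderOf g = 1 := by
        have : w ^ orderOf g * s = 1 * s := by rw [← h5, one_mul]
        exact mul_right_cancel this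
      have h7 : orderOf w ∣ 1 := by
        have h8 := Nat.dvd_gcd (orderOf_dvd_of_pow_eq_one h6) (orderOf_dvd_of_pow_eq_one hwp)
        rwa [hgp] at h8
      have hw1 : w = 1 := orderOf_eq_one_iff.mp (Nat.dvd_one.mp h7)
      have : g * s = w * (s * g) := by rw [hw]; group
      rw [this, hw1, one_mul]
  intro s hs
  obtain ⟨k, hk⟩ := hS ⟨s, hs⟩
  apply key k s hs
  have := congrArg Subtype.val hk
  simpa using this

end concrete

end Cfsg.Agent.Helper18.BG12
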