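import Mathlib
import Cfsg.Prelude.Def_OddOrderLocal
import Cfsg.Agent.Helper18.BG12g
import Cfsg.Agent.Helper18.BG12h
import Cfsg.Agent.Helper16.BG11c
import Cfsg.Agent.Helper19.RankTwoAut

/-!
# B&G Corollary 12.12 (S1421), the abelian case, part 1

`p ∈ τ₂(M)`, `A ≤ E` elementary abelian of order `p ^ 2`, and a Sylow `p`-subgroup `S ≥ A` of `G`
is abelian.  Then `S ≤ E`, `Ω₁(S) = A`, `N_G(S) ≤ N_G(A)`, `N_G(S) ≰ M`, `C_G(S) ≤ E`,
`N_G(S)/C_G(S)` is abelian, and conjugation by `g ∈ N_G(S) ∖ M` maps singular lines of `A` to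
regular lines.
-/

set_option autoImplicit false
set_option linter.unusedSectionVars false
set_option linter.unusedVariables false
set_option linter.style.haveILetI false

namespace Cfsg.Agent.Helper18.BG12

open Subgroup Cfsg
open Cfsg.Agent.Helper14 (IsSylowIn cj cj_apply mem_normalizer_iff_map_cj cj_injective
  exists_isSylowIn_ge exists_isSylowIn map_cj_centralizer mem_map_cj map_cj_le_iff
  map_cj_inv_map_cj le_normalizer_of_map_cj_le)
open Cfsg.Agent.H9.BG12 (St1350 St1416 St1417 St1418 zpowers_eq_of_card_prime' sigmaCore_le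
  le_normalizer_sigmaCore mem_of_map_cj_eq mem_sigma_of_dvd_card_sigmaCore)
open Cfsg.Agent.Helper16.BG11 (BG)
open scoped commutatorElement

universe u
variable {G : Type u} [Group G] [Finite G] {p : ℕ} [hp : Fact p.Prime]

/-- the abelian-Sylow configuration of B&G 12.8 -/
structure AbCfg (M E : Subgroup G) (p : ℕ) (A : Subgroup G) (S : Sylow p G) : Prop where
  hM : IsCoatom M
  hE : Cfsg.IsComplIn E (Cfsg.sigmaCore M) M
  hpτ : p ∈ Cfsg.tau2 M
  hAE : A ≤ E
  hAe : Cfsg.IsElementaryAbelian p A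
  hAc : Nat.card A = p ^ 2
  hAS : A ≤ (S : Subgroup G)
  hSab : ∀ a ∈ (S : Subgroup G), ∀ b ∈ (S : Subgroup G), a * b = b * a

namespace AbCfg

variable {M E A : Subgroup G} {S : Sylow p G}

theorem hAM (c : AbCfg M E p A S) : A ≤ M := c.hAE.trans c.hE.1

theorem S_le_centralizer (c : AbCfg M E p A S) : (S : Subgroup G) ≤ centralizer (A : Set G) := by
  intro s hs
  rw [Subgroup.mem_centralizer_iff]
  intro a ha
  exact c.hSab a (c.hAS ha) s hs

theorem centralizer_A_le (h1418 : St1418 G)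
    (c : AbCfg M E p A S) : centralizer (A : Set G) ≤ E := by
  obtain ⟨-, ⟨h1, h2, -⟩, -⟩ := h1418 M c.hM E c.hE p c.hpτ A ⟨c.hAE, c.hAe, c.hAc⟩
  exact h1.trans h2.le

theorem S_le_E (h1418 : St1418 G) (c : AbCfg M E p A S) :
    (S : Subgroup G) ≤ E := c.S_le_centralizer.trans (c.centralizer_A_le h1418)

theorem S_le_M (h1418 : St1418 G) (c : AbCfg M E p A S) :
    (S : Subgroup G) ≤ M := (c.S_le_E h1418).trans c.hE.1

theorem E_le_normalizer_A (h1418 : St1418 G)
    (c : AbCfg M E p A S) : E ≤ normalizer (A : Set G) :=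
  (h1418 M c.hM E c.hE p c.hpτ A ⟨c.hAE, c.hAe, c.hAc⟩).1.1

theorem isSylowIn (h1418 : St1418 G) (c : AbCfg M E p A S) :
    IsSylowIn p (S : Subgroup G) M := by
  refine ⟨c.S_le_M h1418, S.isPGroup', ?_⟩
  intro Q _ hQ hSQ
  exact (S.is_maximal' hQ hSQ)

/-- `Ω₁(S) = A` -/
theorem omega (h1417 : St1417 G) (h1418 : St1418 G)
    (c : AbCfg M E p A S) : ∀ x ∈ (S : Subgroup G), x ^ p = 1 ↔ x ∈ A := by
  have hS := c.isSylowIn h1418
  obtain ⟨-, h2, -, -, -, -⟩ := h1417 M c.hM p c.hpτ A ⟨c.hAM, c.hAe, c.hAc⟩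
  have h3 := (h2 hS.toSylow).2
  rw [hS.toSylow_map] at h3
  exact (h3 c.hAS).1

/-- `N_G(S) ≰ M` -/
theorem not_normalizer_le (h1417 : St1417 G) (h1418 : St1418 G)
    (c : AbCfg M E p A S) :
    ¬ normalizer ((S : Subgroup G) : Set G) ≤ M := by
  have hS := c.isSylowIn h1418
  obtain ⟨-, h2, -, -, -, -⟩ := h1417 M c.hM p c.hpτ A ⟨c.hAM, c.hAe, c.hAc⟩
  have h3 := (h2 hS.toSylow).2
  rw [hS.toSylow_map] at h3
  exact (h3 c.hAS).2

/-- `N_G(S) ≤ N_G(A)` -/
theorem normalizer_le (h1417 : St1417 G) (h1418 : St1418 G)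
    (c : AbCfg M E p A S) :
    normalizer ((S : Subgroup G) : Set G) ≤ normalizer (A : Set G) := by
  apply le_normalizer_of_map_cj_le
  intro g hg
  rintro _ ⟨a, ha, rfl⟩
  rw [cj_apply]
  have h1 : g * a * g⁻¹ ∈ (S : Subgroup G) := (mem_normalizer_iff.mp hg a).mp (c.hAS ha)
  rw [← c.omega h1417 h1418 _ h1, conj_pow, c.hAe.2 a ha]
  group

theorem centralizer_S_le_centralizer_A (c : AbCfg M E p A S) :
    centralizer ((S : Subgroup G) : Set G) ≤ centralizer (A : Set G) :=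
  Subgroup.centralizer_le (by exact_mod_cast c.hAS)

/-- `C_G(S) ≤ E` -/
theorem centralizer_S_le (h1418 : St1418 G)
    (c : AbCfg M E p A S) : centralizer ((S : Subgroup G) : Set G) ≤ E :=
  c.centralizer_S_le_centralizer_A.trans (c.centralizer_A_le h1418)

/-- a `p'`-element of `N_G(S)` centralizing `A` centralizes `S` -/
theorem mem_centralizer_S (h1417 : St1417 G) (h1418 : St1418 G)
    (c : AbCfg M E p A S) {g : G}
    (hg : g ∈ normalizer ((S : Subgroup G) : Set G)) (hgp : (orderOf g).Coprime p)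
    (hgA : g ∈ centralizer (A : Set G)) : g ∈ centralizer ((S : Subgroup G) : Set G) := by
  rw [Subgroup.mem_centralizer_iff]
  intro s hs
  symm
  apply centralizes_of_centralizes_omega S.isPGroup' c.hSab hg hgp _ s hs
  intro x hx hxp
  exact (Subgroup.mem_centralizer_iff.mp hgA x ((c.omega h1417 h1418 x hx).mp hxp)).symm

/-- `N_G(S)/C_G(S)` is abelian -/
theorem comm_mem (h : BG G) (h1418 : St1418 G) (c : AbCfg M E p A S) :
    ∀ x ∈ normalizer ((S : Subgroup G) : Set G), ∀ y ∈ normalizer ((S : Subgroup G) : Set G),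
      x * y * x⁻¹ * y⁻¹ ∈ centralizer ((S : Subgroup G) : Set G) := by
  intro x hx y hy
  set N : Subgroup G := normalizer ((S : Subgroup G) : Set G) with hN
  have hG := h.hG
  have hodd : Odd (Nat.card ↥N) := Odd.of_dvd_nat hG.1 (Subgroup.card_subgroup_dvd_card N)
  have hp2 : p ≠ 2 := by
    apply Cfsg.Agent.H9.BG12.prime_ne_two_of_dvd hG
    have h1 : p ∣ Nat.card A := by rw [c.hAc]; exact dvd_pow_self p (by norm_num)
    exact h1.trans (Subgroup.card_subgroup_dvd_card A)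
  have hrk : Cfsg.PRankLE p 2 ↥(S : Subgroup G) :=
    Cfsg.Agent.Helper7.PRankLE.of_injective (Subgroup.inclusion (c.S_le_M h1418))
      (Subgroup.inclusion_injective _) c.hpτ.2.2.1
  set x' : ↥N := ⟨x, hx⟩ with hx'
  set y' : ↥N := ⟨y, hy⟩ with hy'
  have hcm : ⁅x', y'⁆ ∈ _root_.commutator ↥N := by
    rw [_root_.commutator_def]
    exact Subgroup.commutator_mem_commutator (mem_top _) (mem_top _)
  obtain ⟨k, hk⟩ := Cfsg.Agent.Helper19.RankTwoAut.commutator_pow_eq_one p hp2 S.isPGroup' hrk hodd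
    (S : Subgroup G).normalizerMonoidHom ⁅x', y'⁆ hcm
  set H : Subgroup ↥N := (centralizer ((S : Subgroup G) : Set G)).subgroupOf N with hH
  have hker : (S : Subgroup G).normalizerMonoidHom.ker = H := normalizerMonoidHom_ker _
  haveI hHn : H.Normal := hker ▸ MonoidHom.normal_ker _
  have h1 : ⁅x', y'⁆ ^ p ^ k ∈ H := by
    rw [← hker, MonoidHom.mem_ker, map_pow]
    exact hk
  have h2 : ⁅x', y'⁆ ^ H.index ∈ H := Subgroup.pow_index_mem _ _
  have hcop : (p ^ k).Coprime H.index := by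
    apply Nat.Coprime.pow_left
    rw [Nat.Prime.coprime_iff_not_dvd hp.out]
    intro hd
    have hSH : (S : Subgroup G).subgroupOf N ≤ H := by
      intro z hz
      rw [hH, mem_subgroupOf, Subgroup.mem_centralizer_iff]
      intro s hs
      exact c.hSab s hs _ (mem_subgroupOf.mp hz)
    have h3 : H.index ∣ ((S : Subgroup G).subgroupOf N).index := Subgroup.index_dvd_of_le hSH
    have h4 : ((S : Subgroup G).subgroupOf N).index ∣ (S : Subgroup G).index :=
      Dvd.intro _ (Subgroup.relIndex_mul_index (le_normalizer (H := (S : Subgroup G))))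
    exact S.not_dvd_index (hd.trans (h3.trans h4))
  have h5 : ⁅x', y'⁆ ∈ H := by
    rw [← QuotientGroup.eq_one_iff]
    have h6 : ((⁅x', y'⁆ : ↥N) : ↥N ⧸ H) ^ p ^ k = 1 := by
      rw [← QuotientGroup.mk_pow]
      exact (QuotientGroup.eq_one_iff _).mpr h1
    have h7 : ((⁅x', y'⁆ : ↥N) : ↥N ⧸ H) ^ H.index = 1 := by
      rw [← QuotientGroup.mk_pow]
      exact (QuotientGroup.eq_one_iff _).mpr h2
    have h8 : orderOf ((⁅x', y'⁆ : ↥N) : ↥N ⧸ H) ∣ 1 := by
      have := Nat.dvd_gcd (orderOf_dvd_of_pow_eq_one h6) (orderOf_dvd_of_pow_eq_one h7)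
      rwa [hcop] at this
    exact orderOf_eq_one_iff.mp (Nat.dvd_one.mp h8)
  have h9 := mem_subgroupOf.mp h5
  simpa [commutatorElement_def] using h9

/-- conjugation by `g ∈ N_G(S) ∖ M` maps singular lines of `A` to regular lines -/
theorem flip (h1417 : St1417 G) (h1418 : St1418 G) (hG : Cfsg.IsMinSimpleOddOrder G)
    (c : AbCfg M E p A S) {g : G} (hg : g ∈ normalizer ((S : Subgroup G) : Set G)) (hgM : g ∉ M)
    {X : Subgroup G} (hXA : X ≤ A) (hX : Nat.card X = p)
    (hsing : Cfsg.sigmaCore M ⊓ centralizer (X : Set G) ≠ ⊥) :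
    Cfsg.sigmaCore M ⊓ centralizer ((X.map (cj g) : Subgroup G) : Set G) = ⊥ := by
  by_contra hne
  have hAg : A.map (cj g) = A := mem_normalizer_iff_map_cj.mp (c.normalizer_le h1417 h1418 hg)
  have hXg : X.map (cj g) ≤ A := hAg ▸ Subgroup.map_mono hXA
  have hXgc : Nat.card (X.map (cj g)) = p := by rw [card_map_cj', hX]
  obtain ⟨-, -, h3⟩ := h1418 M c.hM E c.hE p c.hpτ A ⟨c.hAE, c.hAe, c.hAc⟩
  have own1 : COwns M X := h3 X hXA hX hsing
  have own2 : COwns M (X.map (cj g)) := h3 _ hXg hXgc hne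
  have own3 : COwns (M.map (cj g)) (X.map (cj g)) := own1.map_cj g
  have h4 : M.map (cj g) = M := own2.2 _ (Cfsg.Agent.Lead.BG9.isCoatom_map_cj c.hM g) own3.1
  exact hgM (mem_of_map_cj_eq hG c.hM h4)

/-- there is an element of `N_G(S)` outside `M` -/
theorem exists_normalizer_not_mem (h1417 : St1417 G) (h1418 : St1418 G) (c : AbCfg M E p A S) :
    ∃ g ∈ normalizer ((S : Subgroup G) : Set G), g ∉ M := by
  by_contra hcon
  push Not at hcon
  exact c.not_normalizer_le h1417 h1418 hcon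

end AbCfg

end Cfsg.Agent.Helper18.BG12
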