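import Mathlib
import Cfsg.Prelude.Def_OddOrderLocal
import Cfsg.Agent.Helper18.BG12i
import Cfsg.Agent.Helper28.BG11SIG
import Cfsg.Agent.Helper7.Fitting
import Cfsg.Agent.Helper7.FStar
import Cfsg.Agent.Helper27.BG15D
import Cfsg.Agent.Lead.CoprimeFrattini

/-!
# B&G Corollary 12.12 (S1421), the abelian case, part 2: `S ⊴ E`
-/

set_option autoImplicit false
set_option linter.unusedSectionVars false
set_option linter.unusedVariables false
set_option linter.style.haveILetI false

namespace Cfsg.Agent.Helper18.BG12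

open Subgroup Cfsg
open Cfsg.Agent.Helper14 (IsSylowIn cj cj_apply mem_normalizer_iff_map_cj cj_injective
  exists_isSylowIn_ge exists_isSylowIn map_cj_centralizer mem_map_cj map_cj_le_iff
  map_cj_inv_map_cj le_normalizer_of_map_cj_le pCore_isPGroup le_pCore pCore_characteristic
  pCore_le_sylow)
open Cfsg.Agent.H9.BG12 (St1350 St1416 St1417 St1418 zpowers_eq_of_card_prime' sigmaCore_le
  le_normalizer_sigmaCore mem_of_map_cj_eq mem_sigma_of_dvd_card_sigmaCore)
open Cfsg.Agent.Helper16.BG11 (BG)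

universe u
variable {G : Type u} [Group G] [Finite G] {p : ℕ} [hp : Fact p.Prime]

namespace AbCfg

variable {M E A : Subgroup G} {S : Sylow p G}

/-- `S ≤ N_G(S)'` -/
theorem S_le_commutator (h : BG G) (c : AbCfg M E p A S) :
    (S : Subgroup G) ≤ ⁅normalizer ((S : Subgroup G) : Set G),
      normalizer ((S : Subgroup G) : Set G)⁆ := by
  have hcop : (Nat.card (S : Subgroup G)).Coprime
      ((S : Subgroup G).relIndex (normalizer ((S : Subgroup G) : Set G))) :=
    Nat.Coprime.coprime_dvd_right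
      (Dvd.intro _ (Subgroup.relIndex_mul_index (le_normalizer (H := (S : Subgroup G)))))
      S.card_coprime_index
  obtain ⟨V, hV⟩ := Cfsg.Agent.Helper28.BG11.exists_complIn_of_coprime
    (le_normalizer (H := (S : Subgroup G))) le_rfl hcop
  exact (h.s1411 p S V hV).2

/-- for a prime `s ≠ p`, `S` centralizes `O_s(C_G(A))` -/
theorem S_le_centralizer_pCore (h : BG G) (h1417 : St1417 G) (h1418 : St1418 G)
    (c : AbCfg M E p A S) {s : ℕ} [hs : Fact s.Prime] (hsp : s ≠ p) :
    (S : Subgroup G) ≤ centralizer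
      (((Cfsg.pCore s ↥(centralizer (A : Set G))).map (centralizer (A : Set G)).subtype :
        Subgroup G) : Set G) := by
  have hG := h.hG
  set C : Subgroup G := centralizer (A : Set G) with hC
  set R : Subgroup G := (Cfsg.pCore s ↥C).map C.subtype with hR
  have hRs : IsPGroup s R := (pCore_isPGroup (G := ↥C) s).map _
  have hRC : R ≤ C := Cfsg.Agent.Helper14.map_subtype_le _
  have hCE : C ≤ E := c.centralizer_A_le h1418
  -- `N_G(S) ≤ N_G(A) ≤ N_G(C) ≤ N_G(R)`
  have hNC : normalizer (A : Set G) ≤ normalizer (C : Set G) := by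
    apply le_normalizer_of_map_cj_le
    intro g hg
    rw [hC, map_cj_centralizer, mem_normalizer_iff_map_cj.mp hg]
  have hCR : normalizer (C : Set G) ≤ normalizer (R : Set G) :=
    Cfsg.Agent.Lead.normalizer_le_normalizer_map_of_characteristic C (Cfsg.pCore s ↥C)
  have hNR : normalizer ((S : Subgroup G) : Set G) ≤ normalizer (R : Set G) :=
    (c.normalizer_le h1417 h1418).trans (hNC.trans hCR)
  by_cases hR1 : R = ⊥
  · rw [hR1]
    intro x _
    rw [Subgroup.mem_centralizer_iff]
    intro y hy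
    rw [Subgroup.mem_bot.mp hy, one_mul, mul_one]
  · have hsR : s ∣ Nat.card R := by
      obtain ⟨k, hk⟩ := IsPGroup.iff_card.mp hRs
      rcases Nat.eq_zero_or_pos k with hk0 | hk0
      · rw [hk0, pow_zero] at hk
        exact absurd (Subgroup.card_eq_one.mp hk) hR1
      · rw [hk]; exact dvd_pow_self s hk0.ne'
    have hs2 : s ≠ 2 :=
      Cfsg.Agent.H9.BG12.prime_ne_two_of_dvd hG (hsR.trans (Subgroup.card_subgroup_dvd_card R))
    have hsσ : s ∉ Cfsg.sigma M := by
      have hEH := Cfsg.Agent.H9.BG12.isPiHallOf_compl h.st1350 c.hM c.hE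
      exact hEH.2.1 s hs.out (hsR.trans (Subgroup.card_dvd_of_le (hRC.trans hCE)))
    have hrk : Cfsg.PRankLE s 2 ↥R :=
      Cfsg.Agent.Helper7.PRankLE.of_injective (Subgroup.inclusion ((hRC.trans hCE).trans c.hE.1))
        (Subgroup.inclusion_injective _)
        (Cfsg.Agent.Helper16.BG11.pRankLE_two_of_not_mem_sigma h c.hM hsσ)
    exact Cfsg.Agent.Helper28.BG11.le_centralizer_of_isNarrow hG.1 hsp hs2 hRs (Or.inl hrk)
      S.isPGroup' ((c.S_le_commutator h).trans (Subgroup.commutator_mono hNR hNR))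

/-- **`S` is normal in `E`** -/
theorem E_le_normalizer_S (h : BG G) (h1417 : St1417 G) (h1418 : St1418 G)
    (c : AbCfg M E p A S) : E ≤ normalizer ((S : Subgroup G) : Set G) := by
  have hG := h.hG
  have hSE : (S : Subgroup G) ≤ E := c.S_le_E h1418
  have hEA : E ≤ normalizer (A : Set G) := c.E_le_normalizer_A h1418
  set C : Subgroup G := centralizer (A : Set G) with hC
  have hCE : C ≤ E := c.centralizer_A_le h1418
  haveI hsolvE : Group.IsSolvable ↥E :=
    Cfsg.Agent.Helper16.BG11.solv_of_le h c.hM c.hE.1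
  set S' : Subgroup ↥E := (S : Subgroup G).subgroupOf E with hS'
  have hS'p : IsPGroup p ↥S' := S.isPGroup'.comap_subtype
  have hS'ab : ∀ x ∈ S', ∀ y ∈ S', x * y = y * x := by
    intro x hx y hy
    exact Subtype.ext (c.hSab _ (mem_subgroupOf.mp hx) _ (mem_subgroupOf.mp hy))
  -- `S'` is a Sylow subgroup of `E`
  have hSylE : IsSylowIn p (S : Subgroup G) E :=
    ⟨hSE, S.isPGroup', fun Q _ hQ hSQ => S.is_maximal' hQ hSQ⟩
  -- every `O_s(E)` centralizes `S'`
  have key : ∀ s : ℕ, s.Prime → Cfsg.pCore s ↥E ≤ centralizer (S' : Set ↥E) := by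
    intro s hsprime
    haveI : Fact s.Prime := ⟨hsprime⟩
    by_cases hsp : s = p
    · subst hsp
      have h1 : Cfsg.pCore s ↥E ≤ ((hSylE.toSylow : Sylow s ↥E) : Subgroup ↥E) :=
        pCore_le_sylow s _
      intro x hx
      rw [Subgroup.mem_centralizer_iff]
      intro y hy
      exact hS'ab y hy x (h1 hx)
    · -- `Q = O_s(E)` centralizes `A`, so lies in `O_s(C_G(A))`
      set Q : Subgroup G := (Cfsg.pCore s ↥E).map E.subtype with hQ
      have hQs : IsPGroup s Q := (pCore_isPGroup (G := ↥E) s).map _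
      have hQE : Q ≤ E := Cfsg.Agent.Helper14.map_subtype_le _
      have hEQ : E ≤ normalizer (Q : Set G) :=
        le_normalizer.trans
          (Cfsg.Agent.Lead.normalizer_le_normalizer_map_of_characteristic E (Cfsg.pCore s ↥E))
      have hAQ : A ⊓ Q = ⊥ := by
        apply (Subgroup.disjoint_of_coprime_natCard ?_).eq_bot
        rw [c.hAc]
        obtain ⟨k, hk⟩ := IsPGroup.iff_card.mp hQs
        rw [hk]
        exact Nat.Coprime.pow _ _ ((Nat.coprime_primes hp.out hsprime).mpr (Ne.symm hsp))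
      have hQC : Q ≤ C := by
        have h1 := commute_of_normalize_of_inf_eq_bot (c.hAE.trans hEQ) (hQE.trans hEA) hAQ
        intro x hx
        rw [hC, Subgroup.mem_centralizer_iff]
        intro a ha
        exact (Subgroup.mem_centralizer_iff.mp (h1 ha) x hx).symm
      have hQn : (Q.subgroupOf C).Normal :=
        (Subgroup.normal_subgroupOf_iff_le_normalizer hQC).mpr (hCE.trans hEQ)
      have hQs' : IsPGroup s ↥(Q.subgroupOf C) := hQs.comap_subtype
      have hQR : Q ≤ (Cfsg.pCore s ↥C).map C.subtype := by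
        intro x hx
        exact ⟨⟨x, hQC hx⟩, le_pCore s hQn hQs' (mem_subgroupOf.mpr hx), rfl⟩
      have h2 := c.S_le_centralizer_pCore h h1417 h1418 hsp
      intro x hx
      rw [Subgroup.mem_centralizer_iff]
      intro y hy
      apply Subtype.ext
      have hxQ : (x : G) ∈ Q := ⟨x, hx, rfl⟩
      have := Subgroup.mem_centralizer_iff.mp (h2 (mem_subgroupOf.mp hy)) (x : G) (hQR hxQ)
      exact this.symm
  -- `S' ≤ C_E(F(E)) ≤ F(E)`
  have hF : Cfsg.fittingSubgroup ↥E ≤ centralizer (S' : Set ↥E) := by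
    rw [Cfsg.Agent.Helper7.fittingSubgroup_eq_pCoreSup, Cfsg.Agent.Helper7.pCoreSup_le_iff]
    exact key
  have hCF : centralizer (Cfsg.fittingSubgroup ↥E : Set ↥E) ≤ Cfsg.fittingSubgroup ↥E := by
    apply Cfsg.Agent.Helper7.solvable_subnormal_le_fitting_of_le_centralizer
      (Subgroup.Normal.isSubnormal inferInstance) inferInstance le_rfl
  have hS'F : S' ≤ Cfsg.fittingSubgroup ↥E := by
    refine le_trans ?_ hCF
    exact Subgroup.le_centralizer_iff.mp hF
  -- Hall subgroup of the nilpotent normal subgroup `F(E)`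
  have hcop : (Nat.card ↥S').Coprime (S'.relIndex (Cfsg.fittingSubgroup ↥E)) := by
    have h1 : Nat.card ↥S' = Nat.card (S : Subgroup G) :=
      Nat.card_congr (Subgroup.subgroupOfEquivOfLe hSE).toEquiv
    have h2 : S'.relIndex (Cfsg.fittingSubgroup ↥E) ∣ S'.index :=
      Dvd.intro _ (Subgroup.relIndex_mul_index hS'F)
    have h3 : S'.index ∣ (S : Subgroup G).index :=
      Dvd.intro _ (Subgroup.relIndex_mul_index hSE)
    rw [h1]
    exact Nat.Coprime.coprime_dvd_right (h2.trans h3) S.card_coprime_index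
  have hn : S'.Normal :=
    Cfsg.Agent.Helper27.BG15.normal_of_hall_of_isNilpotent_normal
      Cfsg.Agent.Helper7.fittingSubgroup_isNilpotent hS'F hcop
  exact (Subgroup.normal_subgroupOf_iff_le_normalizer hSE).mp hn

end AbCfg

end Cfsg.Agent.Helper18.BG12
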