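import Mathlib
import Cfsg.Agent.Helper21.IndecAb

/-!
# Invariant cyclic subgroups of maximal order (for B&G 12.12 = S1421)

A `p'`-group `K` acts on the abelian `p`-group `S` of exponent `p ^ (n + 1)`, and `X ≤ ℧ⁿ(S)` is a
`K`-invariant subgroup of order `p`.  Then `X` lies in a `K`-invariant cyclic subgroup of order
`p ^ (n + 1)`.
-/

set_option autoImplicit false
set_option linter.unusedSectionVars false
set_option linter.unusedVariables false
set_option linter.style.haveILetI false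

namespace Cfsg.Agent.Helper18.BG12

open Subgroup
open Cfsg.Agent.Helper21.IndecAb (Inv inv_top stepC)

section abstract

variable {A : Type*} [CommGroup A] [Finite A] {X : Type*} [Group X] [Finite X]

theorem exists_inv_cyclic (σ : X → A →* A) (hσ1 : ∀ v, σ 1 v = v)
    (hσmul : ∀ a b v, σ (a * b) v = σ a (σ b v)) (p : ℕ) [hp : Fact p.Prime]
    (hpX : ¬ p ∣ Nat.card X) (n : ℕ) (hexp : ∀ a : A, a ^ p ^ (n + 1) = 1)
    (E : Subgroup A) (hE : Inv σ E) (hEc : Nat.card E = p)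
    (hEφ : ∀ e ∈ E, ∃ a : A, a ^ p ^ n = e) :
    ∃ H : Subgroup A, Inv σ H ∧ E ≤ H ∧
      ∃ h₀ : A, H = zpowers h₀ ∧ orderOf h₀ = p ^ (n + 1) := by
  obtain ⟨H, -, hHmin⟩ := Finite.exists_le_minimal
    (p := fun U : Subgroup A => Inv σ U ∧ ∀ e ∈ E, ∃ h ∈ U, h ^ p ^ n = e) (a := ⊤)
    ⟨inv_top σ, fun e he => by obtain ⟨a, ha⟩ := hEφ e he; exact ⟨a, mem_top a, ha⟩⟩
  obtain ⟨hHinv, hHE⟩ := hHmin.prop
  have hmin : ∀ H' : Subgroup A, Inv σ H' → H' ≤ H → (∀ e ∈ E, ∃ h ∈ H', h ^ p ^ n = e) →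
      H ≤ H' := fun H' h1 h2 h3 => hHmin.le_of_le ⟨h1, h3⟩ h2
  -- the image of `H` is exactly `E`
  have hφH : ∀ h ∈ H, h ^ p ^ n ∈ E := by
    have h1 : H ≤ H ⊓ E.comap (powMonoidHom (p ^ n)) := by
      apply hmin _ (hHinv.inf (hE.comapPow _)) inf_le_left
      intro e he
      obtain ⟨h, hh, rfl⟩ := hHE e he
      exact ⟨h, mem_inf.mpr ⟨hh, by rw [mem_comap, powMonoidHom_apply]; exact he⟩, rfl⟩
    intro h hh
    have := (mem_inf.mp (h1 hh)).2
    rwa [mem_comap, powMonoidHom_apply] at this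
  have hhom := stepC σ hσ1 hσmul p hpX n hexp H E hHinv hHE hmin
  have hEH : E ≤ H := by
    intro e he
    obtain ⟨h, hh, rfl⟩ := hHE e he
    exact pow_mem hh _
  -- a generator of `E`
  have hE1 : E ≠ ⊥ := by
    intro h0
    rw [h0, Subgroup.card_bot] at hEc
    exact hp.out.one_lt.ne hEc
  obtain ⟨⟨e₀, he₀⟩, he₀1'⟩ := (Subgroup.ne_bot_iff_exists_ne_one (H := E)).mp hE1
  have he₀1 : e₀ ≠ 1 := fun h' => he₀1' (Subtype.ext h')
  have hgen : zpowers e₀ = E := by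
    apply Subgroup.eq_of_le_of_card_ge (zpowers_le.mpr he₀)
    rw [Nat.card_zpowers, hEc]
    have h1 : orderOf e₀ ∣ p := by
      have := orderOf_dvd_natCard (⟨e₀, he₀⟩ : ↥E)
      rw [hEc] at this
      rwa [← Subgroup.orderOf_coe] at this
    rcases (Nat.dvd_prime hp.out).mp h1 with h | h
    · exact absurd (orderOf_eq_one_iff.mp h) he₀1
    · exact h.ge
  obtain ⟨h₀, hh₀, hh₀e⟩ := hHE e₀ he₀
  -- `H = ⟨h₀⟩ · H^{p^m}` for all `m`
  have key : ∀ m : ℕ, ∀ h ∈ H, ∃ i : ℤ, ∃ y ∈ H, h = h₀ ^ i * y ^ p ^ m := by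
    intro m
    induction m with
    | zero =>
      intro h hh
      exact ⟨0, h, hh, by simp⟩
    | succ m ih =>
      intro h hh
      obtain ⟨i, y, hy, rfl⟩ := ih h hh
      have hyE : y ^ p ^ n ∈ zpowers e₀ := hgen ▸ hφH y hy
      obtain ⟨j, hj⟩ := mem_zpowers_iff.mp hyE
      have h1 : (y * (h₀ ^ j)⁻¹) ^ p ^ n = 1 := by
        rw [mul_pow, inv_pow, ← zpow_natCast (h₀ ^ j), ← zpow_mul, mul_comm j, zpow_mul,
          zpow_natCast, hh₀e, hj, mul_inv_cancel]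
      obtain ⟨w, hw, hwp⟩ := hhom _ (mul_mem hy (inv_mem (zpow_mem hh₀ j))) h1
      refine ⟨i + j * (p ^ m : ℕ), w, hw, ?_⟩
      have h2 : y = h₀ ^ j * w ^ p := by rw [hwp]; simp
      rw [zpow_add, mul_assoc]
      congr 1
      rw [h2, mul_pow, ← pow_mul, ← pow_succ', zpow_mul, zpow_natCast]
  have hHz : H = zpowers h₀ := by
    apply le_antisymm _ (zpowers_le.mpr hh₀)
    intro h hh
    obtain ⟨i, y, -, rfl⟩ := key (n + 1) h hh
    rw [hexp y, mul_one]
    exact zpow_mem (mem_zpowers h₀) i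
  refine ⟨H, hHinv, hEH, h₀, hHz, ?_⟩
  apply orderOf_eq_prime_pow
  · rw [hh₀e]; exact he₀1
  · exact hexp h₀

end abstract

section concrete

variable {G : Type*} [Group G] [Finite G] {p : ℕ} [hp : Fact p.Prime]

/-- a `K`-invariant subgroup `X` of order `p` of `℧ⁿ(S)` lies in a `K`-invariant cyclic subgroup
of `S` of order `p ^ (n + 1)` -/
theorem exists_invariant_cyclic {S K X : Subgroup G}
    (hSab : ∀ a ∈ S, ∀ b ∈ S, a * b = b * a) (hKS : K ≤ normalizer (S : Set G))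
    (hKp : ¬ p ∣ Nat.card K) (n : ℕ) (hexp : ∀ s ∈ S, s ^ p ^ (n + 1) = 1) (hXS : X ≤ S)
    (hXc : Nat.card X = p) (hKX : K ≤ normalizer (X : Set G))
    (hXφ : ∀ x ∈ X, ∃ s ∈ S, s ^ p ^ n = x) :
    ∃ H : Subgroup G, H ≤ S ∧ K ≤ normalizer (H : Set G) ∧ X ≤ H ∧ IsCyclic H ∧
      Nat.card H = p ^ (n + 1) := by
  letI : CommGroup ↥S :=
    { (inferInstance : Group ↥S) with mul_comm := fun x y => Subtype.ext (hSab x x.2 y y.2) }
  set φ : ↥K →* MulAut ↥S := S.normalizerMonoidHom.comp (Subgroup.inclusion hKS) with hφ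
  set σ : ↥K → ↥S →* ↥S := fun k => (φ k).toMonoidHom with hσ
  have happ : ∀ (k : ↥K) (s : ↥S), ((σ k s : ↥S) : G) = (k : G) * s * (k : G)⁻¹ := fun k s => rfl
  have hσ1 : ∀ v, σ 1 v = v := by
    intro v
    apply Subtype.ext
    rw [happ]
    simp
  have hσmul : ∀ a b v, σ (a * b) v = σ a (σ b v) := by
    intro a b v
    apply Subtype.ext
    rw [happ, happ, happ]
    simp [mul_assoc]
  have hexp' : ∀ a : ↥S, a ^ p ^ (n + 1) = 1 := by
    intro a
    apply Subtype.ext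
    have := hexp a a.2
    simpa using this
  set E : Subgroup ↥S := X.subgroupOf S with hE
  have hEinv : Inv σ E := by
    intro k b hb
    rw [hE, mem_subgroupOf, happ]
    exact (Subgroup.mem_normalizer_iff.mp (hKX k.2) _).mp (mem_subgroupOf.mp hb)
  have hEc : Nat.card E = p := by
    rw [hE, Nat.card_congr (Subgroup.subgroupOfEquivOfLe hXS).toEquiv, hXc]
  have hEφ : ∀ e ∈ E, ∃ a : ↥S, a ^ p ^ n = e := by
    intro e he
    obtain ⟨s, hs, hse⟩ := hXφ (e : G) (mem_subgroupOf.mp he)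
    exact ⟨⟨s, hs⟩, Subtype.ext (by simpa using hse)⟩
  obtain ⟨H, hHinv, hEH, h₀, hHz, hord⟩ :=
    exists_inv_cyclic σ hσ1 hσmul p hKp n hexp' E hEinv hEc hEφ
  refine ⟨H.map S.subtype, ?_, ?_, ?_, ?_, ?_⟩
  · rintro _ ⟨x, _, rfl⟩
    exact x.2
  · intro k hk
    rw [Subgroup.mem_normalizer_iff]
    have hconj : ∀ (k : G) (hk : k ∈ K), ∀ x ∈ H.map S.subtype, k * x * k⁻¹ ∈ H.map S.subtype := by
      rintro k hk _ ⟨x, hx, rfl⟩
      exact ⟨σ ⟨k, hk⟩ x, hHinv ⟨k, hk⟩ x hx, rfl⟩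
    intro x
    constructor
    · exact hconj k hk x
    · intro hx
      have := hconj k⁻¹ (K.inv_mem hk) _ hx
      simpa [mul_assoc] using this
  · intro x hx
    exact ⟨⟨x, hXS hx⟩, hEH (mem_subgroupOf.mpr hx), rfl⟩
  · have e : ↥H ≃* ↥(H.map S.subtype) := H.equivMapOfInjective _ S.subtype_injective
    haveI : IsCyclic ↥H := by
      rw [hHz]
      infer_instance
    exact isCyclic_of_surjective e e.surjective
  · rw [Nat.card_congr (H.equivMapOfInjective _ S.subtype_injective).symm.toEquiv, hHz,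
      Nat.card_zpowers, hord]

end concrete

end Cfsg.Agent.Helper18.BG12
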