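import Mathlib
import Cfsg.Prelude.Def_OddOrderLocal
import Cfsg.Agent.Helper18.BG12j
import Cfsg.Agent.Helper18.BG12k

/-!
# B&G Corollary 12.12 (S1421): general preliminaries
-/

set_option autoImplicit false
set_option linter.unusedSectionVars false
set_option linter.unusedVariables false
set_option linter.style.haveILetI false

namespace Cfsg.Agent.Helper18.BG12

open Subgroup Cfsg
open Cfsg.Agent.Helper14 (IsSylowIn cj cj_apply mem_normalizer_iff_map_cj cj_injective
  exists_isSylowIn_ge exists_isSylowIn map_cj_centralizer mem_map_cj map_cj_le_iff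
  map_cj_inv_map_cj le_normalizer_of_map_cj_le)
open Cfsg.Agent.H9.BG12 (St1350 St1416 St1417 St1418 zpowers_eq_of_card_prime' sigmaCore_le
  le_normalizer_sigmaCore mem_of_map_cj_eq mem_sigma_of_dvd_card_sigmaCore)
open Cfsg.Agent.Helper16.BG11 (BG)

universe u
variable {G : Type u} [Group G] [Finite G]

/-- the hypothesis of B&G 12.12: `τ₁ ∪ τ₃`-elements of `E` are regular on `M_σ` -/
def HypH (M E : Subgroup G) : Prop :=
  ∀ e ∈ E, e ≠ 1 → (∀ p : ℕ, p.Prime → p ∣ orderOf e → p ∈ Cfsg.tau1 M ∪ Cfsg.tau3 M) →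
    Cfsg.sigmaCore M ⊓ Subgroup.centralizer ({e} : Set G) = ⊥

theorem exponent_eq_of {E₀ E : Subgroup G} (hle : E₀ ≤ E)
    (h : ∀ e ∈ E, ∀ (r k : ℕ), r.Prime → 0 < k → orderOf e = r ^ k →
      r ^ k ∣ Monoid.exponent E₀) :
    Monoid.exponent E₀ = Monoid.exponent E := by
  apply Nat.dvd_antisymm
  · apply Monoid.exponent_dvd_of_forall_pow_eq_one
    intro v
    have h1 := Monoid.pow_exponent_eq_one (⟨v.1, hle v.2⟩ : E)
    apply Subtype.ext
    have h2 := congrArg Subtype.val h1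
    simpa using h2
  · apply Monoid.exponent_dvd_of_forall_pow_eq_one
    intro v
    apply orderOf_dvd_iff_pow_eq_one.mp
    rw [← Subgroup.orderOf_coe]
    rw [Nat.dvd_iff_prime_pow_dvd_dvd]
    intro p k hpp hpk
    rcases Nat.eq_zero_or_pos k with rfl | hk0
    · simp
    · set v' : G := (v : G) ^ (orderOf (v : G) / p ^ k) with hv'
      have hov' : orderOf v' = p ^ k :=
        orderOf_pow_orderOf_div (orderOf_pos _).ne' hpk
      exact h v' (E.pow_mem v.2 _) p k hpp hk0 hov'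

theorem regular_of_prime_order {Y E₀ : Subgroup G}
    (h : ∀ e ∈ E₀, (orderOf e).Prime → Y ⊓ centralizer ({e} : Set G) = ⊥) :
    ∀ e ∈ E₀, e ≠ 1 → Y ⊓ centralizer ({e} : Set G) = ⊥ := by
  intro e he he1
  have ho : orderOf e ≠ 1 := fun h1 => he1 (orderOf_eq_one_iff.mp h1)
  obtain ⟨r, hr, hre⟩ := Nat.exists_prime_and_dvd ho
  set e' : G := e ^ (orderOf e / r) with he'
  have hoe' : orderOf e' = r := orderOf_pow_orderOf_div (orderOf_pos _).ne' hre
  have h1 := h e' (E₀.pow_mem he _) (hoe' ▸ hr)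
  rw [eq_bot_iff, ← h1]
  apply inf_le_inf_left
  intro y hy
  rw [mem_centralizer_singleton_iff] at hy ⊢
  exact ((Commute.pow_left (show Commute e y from hy.symm) _).eq).symm

theorem mem_of_pow_mem_of_coprime {H : Subgroup G} {g : G} {n : ℕ} (h : g ^ n ∈ H)
    (hc : n.Coprime (orderOf g)) : g ∈ H := by
  obtain ⟨m, hm⟩ := exists_pow_eq_self_of_coprime hc
  rw [← hm]
  exact H.pow_mem h m

/-- a prime dividing `#E` lies in `τ₂(M)` or in `τ₁(M) ∪ τ₃(M)` -/
theorem mem_tau_of_dvd_card_compl (h : BG G) {M E : Subgroup G} (hM : IsCoatom M)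
    (hE : Cfsg.IsComplIn E (Cfsg.sigmaCore M) M) {r : ℕ} (hr : r.Prime)
    (hrE : r ∣ Nat.card E) : r ∈ Cfsg.tau2 M ∨ r ∈ Cfsg.tau1 M ∪ Cfsg.tau3 M := by
  haveI : Fact r.Prime := ⟨hr⟩
  have hHall := Cfsg.Agent.H9.BG12.isPiHallOf_compl h.st1350 hM hE
  have hrσ : r ∉ Cfsg.sigma M := hHall.2.1 r hr hrE
  have hrM : r ∣ Nat.card M := hrE.trans (Subgroup.card_dvd_of_le hE.1)
  have h2 := Cfsg.Agent.Helper16.BG11.pRankLE_two_of_not_mem_sigma h hM hrσ
  by_cases h1 : Cfsg.PRankLE r 1 M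
  · right
    by_cases h3 : r ∣ Nat.card ↥⁅M, M⁆
    · exact Or.inr ⟨hr, hrσ, h3, h1⟩
    · exact Or.inl ⟨hr, hrσ, hrM, h3, h1⟩
  · exact Or.inl ⟨hr, hrσ, h2, h1⟩

/-- under (H), an element of `E` centralizing a nonidentity element of `M_σ` is a
`τ₂(M)`-element -/
theorem prime_mem_tau2_of_commute (h : BG G) {M E : Subgroup G} (hM : IsCoatom M)
    (hE : Cfsg.IsComplIn E (Cfsg.sigmaCore M) M) (hH : HypH M E) {y x : G} (hy : y ∈ E)
    (hx : x ∈ Cfsg.sigmaCore M) (hx1 : x ≠ 1) (hxy : y * x = x * y) {r : ℕ} (hr : r.Prime)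
    (hry : r ∣ orderOf y) : r ∈ Cfsg.tau2 M := by
  set e : G := y ^ (orderOf y / r) with he
  have hoe : orderOf e = r := orderOf_pow_orderOf_div (orderOf_pos _).ne' hry
  have heE : e ∈ E := E.pow_mem hy _
  have he1 : e ≠ 1 := by
    intro h1
    rw [h1, orderOf_one] at hoe
    exact hr.one_lt.ne' hoe.symm
  have hrE : r ∣ Nat.card E := by
    have h1 : orderOf y ∣ Nat.card E := by
      have := orderOf_dvd_natCard (⟨y, hy⟩ : E)
      rwa [Subgroup.orderOf_mk] at this
    exact hry.trans h1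
  rcases mem_tau_of_dvd_card_compl h hM hE hr hrE with h2 | h13
  · exact h2
  · exfalso
    have h3 := hH e heE he1 (by
      intro q hq hqe
      rw [hoe] at hqe
      rw [(Nat.prime_dvd_prime_iff_eq hq hr).mp hqe]
      exact h13)
    have h4 : x ∈ Cfsg.sigmaCore M ⊓ Subgroup.centralizer ({e} : Set G) := by
      refine Subgroup.mem_inf.mpr ⟨hx, ?_⟩
      rw [mem_centralizer_singleton_iff]
      exact ((Commute.pow_left (show Commute y x from hxy) _).eq).symm
    rw [h3, Subgroup.mem_bot] at h4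
    exact hx1 h4

/-- a `p`-element of `E` lies in a normal Sylow `p`-subgroup of `E` -/
theorem mem_of_normal_sylow {p : ℕ} [Fact p.Prime] {E : Subgroup G} {S : Sylow p G}
    (hES : E ≤ normalizer ((S : Subgroup G) : Set G)) {y : G} (hy : y ∈ E) {k : ℕ}
    (hyk : y ^ p ^ k = 1) : y ∈ (S : Subgroup G) := by
  have h1 : IsPGroup p (zpowers y) := by
    apply IsPGroup.of_card (n := (Nat.factorization (orderOf y)) p)
    rw [Nat.card_zpowers]
    obtain ⟨j, hj, hjo⟩ := (Nat.dvd_prime_pow (Fact.out : p.Prime)).mp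
      (orderOf_dvd_of_pow_eq_one hyk)
    rw [hjo, Nat.Prime.factorization_pow (Fact.out : p.Prime)]
    simp
  have h2 : zpowers y ≤ normalizer ((S : Subgroup G) : Set G) :=
    zpowers_le.mpr (hES hy)
  have h3 : IsPGroup p ↥(zpowers y ⊔ (S : Subgroup G)) :=
    IsPGroup.to_sup_of_normal_right' h1 S.isPGroup' h2
  have h4 := S.is_maximal' h3 le_sup_right
  have h5 : y ∈ zpowers y ⊔ (S : Subgroup G) := le_sup_left (a := zpowers y) (mem_zpowers y)
  rwa [h4] at h5

end Cfsg.Agent.Helper18.BG12
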