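import Mathlib
import Cfsg.Prelude.Def_OddOrderLocal
import Cfsg.Agent.Helper18.BG12l
import Cfsg.Agent.Helper23.Cyclic

/-!
# B&G Corollary 12.12 (S1421), the abelian case: the cyclic subgroups `C_p`
-/

set_option autoImplicit false
set_option linter.unusedSectionVars false
set_option linter.unusedVariables false
set_option linter.style.haveILetI false

namespace Cfsg.Agent.Helper18.BG12

open Subgroup Cfsg
open Cfsg.Agent.Helper14 (IsSylowIn cj cj_apply mem_normalizer_iff_map_cj cj_injective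
  exists_isSylowIn_ge exists_isSylowIn map_cj_centralizer mem_map_cj map_cj_le_iff
  map_cj_inv_map_cj le_normalizer_of_map_cj_le map_cj_mul)
open Cfsg.Agent.H9.BG12 (St1350 St1416 St1417 St1418 zpowers_eq_of_card_prime' sigmaCore_le
  le_normalizer_sigmaCore mem_of_map_cj_eq mem_sigma_of_dvd_card_sigmaCore)
open Cfsg.Agent.Helper16.BG11 (BG)

universe u
variable {G : Type u} [Group G] [Finite G] {p : ℕ} [hp : Fact p.Prime]

theorem map_cj_eq_of_mem_centralizer {H : Subgroup G} {c : G}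
    (hc : c ∈ centralizer (H : Set G)) : H.map (cj c) = H := by
  have key : ∀ h ∈ H, cj c h = h := by
    intro h hh
    rw [cj_apply, (Subgroup.mem_centralizer_iff.mp hc h hh).symm]
    group
  apply le_antisymm
  · rintro _ ⟨h, hh, rfl⟩
    rw [key h hh]; exact hh
  · intro h hh
    exact ⟨h, hh, key h hh⟩

/-- the exponent of a nontrivial `p`-group -/
theorem exists_exponent_pow {S : Subgroup G} (hS : IsPGroup p S) (hS1 : S ≠ ⊥) :
    ∃ n : ℕ, (∀ s ∈ S, s ^ p ^ (n + 1) = 1) ∧ ∃ s ∈ S, s ^ p ^ n ≠ 1 := by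
  classical
  have hex : ∃ m : ℕ, ∀ s ∈ S, s ^ p ^ m = 1 := by
    obtain ⟨m, hm⟩ := IsPGroup.iff_card.mp hS
    refine ⟨m, fun s hs => ?_⟩
    rw [← hm]
    have h1 : (⟨s, hs⟩ : S) ^ Nat.card S = 1 := pow_card_eq_one'
    have h2 := congrArg Subtype.val h1
    rwa [Subgroup.coe_pow, Subgroup.coe_one] at h2
  have hN0 : Nat.find hex ≠ 0 := by
    intro h0
    have h1 := Nat.find_spec hex
    rw [h0] at h1
    apply hS1
    rw [eq_bot_iff]
    intro s hs
    have := h1 s hs
    rw [pow_zero, pow_one] at this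
    exact Subgroup.mem_bot.mpr this
  obtain ⟨n, hn⟩ := Nat.exists_eq_succ_of_ne_zero hN0
  refine ⟨n, ?_, ?_⟩
  · have := Nat.find_spec hex
    rwa [hn] at this
  · have h1 : n < Nat.find hex := by rw [hn]; exact Nat.lt_succ_self n
    have h2 := Nat.find_min hex h1
    push Not at h2
    exact h2

namespace AbCfg

variable {M E A : Subgroup G} {S : Sylow p G}

/-- the `K`-invariant cyclic subgroup `C_p` of maximal order of `S` whose subgroup of order `p`
is regular -/
theorem exists_good_cyclic (h : BG G) (h1417 : St1417 G) (h1418 : St1418 G)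
    (c : AbCfg M E p A S) {K : Subgroup G} (hKE : K ≤ E) (hKp : ¬ p ∣ Nat.card K)
    (hHK : ∃ X : Subgroup G, X ≤ A ∧ Nat.card X = p ∧ K ≤ normalizer (X : Set G)) :
    ∃ C : Subgroup G, C ≤ (S : Subgroup G) ∧ IsCyclic C ∧ K ≤ normalizer (C : Set G) ∧
      (∀ s ∈ (S : Subgroup G), s ^ Nat.card C = 1) ∧ p ∣ Nat.card C ∧
      ∀ X : Subgroup G, X ≤ C → Nat.card X = p →
        Cfsg.sigmaCore M ⊓ centralizer (X : Set G) = ⊥ := by
  have hG := h.hG
  have hpp : p.Prime := hp.out
  have hES : E ≤ normalizer ((S : Subgroup G) : Set G) := c.E_le_normalizer_S h h1417 h1418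
  have hKS : K ≤ normalizer ((S : Subgroup G) : Set G) := hKE.trans hES
  have hS1 : (S : Subgroup G) ≠ ⊥ := by
    intro h0
    have h1 : A = ⊥ := eq_bot_iff.mpr (h0 ▸ c.hAS)
    have h2 := c.hAc
    rw [h1, Subgroup.card_bot] at h2
    have : 1 < p ^ 2 := Nat.one_lt_pow (by norm_num) hpp.one_lt
    omega
  obtain ⟨n, hexp, s₀, hs₀, hs₀1⟩ := exists_exponent_pow S.isPGroup' hS1
  -- the subgroup of `p ^ n`-th powers
  set W : Subgroup G := powSub (S : Subgroup G) c.hSab (p ^ n) with hW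
  have hWS : W ≤ (S : Subgroup G) := by
    rintro _ ⟨v, hv, rfl⟩
    exact (S : Subgroup G).pow_mem hv _
  have hWA : W ≤ A := by
    rintro _ ⟨v, hv, rfl⟩
    rw [← c.omega h1417 h1418 _ ((S : Subgroup G).pow_mem hv _), ← pow_mul, ← pow_succ]
    exact hexp v hv
  have hW1 : W ≠ ⊥ := by
    intro h0
    apply hs₀1
    have : s₀ ^ p ^ n ∈ W := ⟨s₀, hs₀, rfl⟩
    rw [h0] at this
    exact Subgroup.mem_bot.mp this
  have hKW : K ≤ normalizer (W : Set G) := by
    apply le_normalizer_of_map_cj_le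
    intro k hk
    rintro _ ⟨_, ⟨v, hv, rfl⟩, rfl⟩
    refine ⟨k * v * k⁻¹, (mem_normalizer_iff.mp (hKS hk) v).mp hv, ?_⟩
    rw [cj_apply, conj_pow]
  -- a `K`-invariant line of `p ^ n`-th powers
  obtain ⟨X, hXA, hXc, hKX, hXφ⟩ : ∃ X : Subgroup G, X ≤ A ∧ Nat.card X = p ∧
      K ≤ normalizer (X : Set G) ∧ ∀ x ∈ X, ∃ s ∈ (S : Subgroup G), s ^ p ^ n = x := by
    have hWd : Nat.card W ∣ p ^ 2 := c.hAc ▸ Subgroup.card_dvd_of_le hWA
    obtain ⟨j, hj, hjW⟩ := (Nat.dvd_prime_pow hpp).mp hWd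
    have hj0 : j ≠ 0 := by
      rintro rfl
      rw [pow_zero] at hjW
      exact hW1 (Subgroup.card_eq_one.mp hjW)
    have hj12 : j = 1 ∨ j = 2 := by omega
    rcases hj12 with rfl | rfl
    · rw [pow_one] at hjW
      exact ⟨W, hWA, hjW, hKW, fun x hx => hx⟩
    · have hWeq : W = A := by
        apply Subgroup.eq_of_le_of_card_ge hWA
        rw [hjW, c.hAc]
      obtain ⟨X, hXA, hXc, hKX⟩ := hHK
      refine ⟨X, hXA, hXc, hKX, fun x hx => ?_⟩
      have : x ∈ W := hWeq ▸ hXA hx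
      exact this
  have hXS : X ≤ (S : Subgroup G) := hXA.trans c.hAS
  obtain ⟨H, hHS, hKH, hXH, hHcyc, hHc⟩ :=
    exists_invariant_cyclic c.hSab hKS hKp n hexp hXS hXc hKX hXφ
  have hpH : p ∣ Nat.card H := by rw [hHc]; exact dvd_pow_self p (Nat.succ_ne_zero n)
  by_cases hsing : Cfsg.sigmaCore M ⊓ centralizer (X : Set G) = ⊥
  · refine ⟨H, hHS, hHcyc, hKH, ?_, hpH, ?_⟩
    · intro s hs
      rw [hHc]; exact hexp s hs
    · intro X' hX'H hX'c
      have : X' = X := Cfsg.Agent.Helper23.eq_of_card_eq_of_isCyclic H hHcyc X' X hX'H hXH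
        (by rw [hX'c, hXc])
      rw [this]; exact hsing
  · obtain ⟨g, hgN, hgM⟩ := c.exists_normalizer_not_mem h1417 h1418
    have hgS : (S : Subgroup G).map (cj g) = (S : Subgroup G) := mem_normalizer_iff_map_cj.mp hgN
    set C : Subgroup G := H.map (cj g) with hC
    have hCc : Nat.card C = p ^ (n + 1) := by rw [hC, card_map_cj', hHc]
    have hCS : C ≤ (S : Subgroup G) := by
      rw [← hgS]; exact Subgroup.map_mono hHS
    have hCcyc : IsCyclic C := by
      have e : ↥H ≃* ↥C := H.equivMapOfInjective (cj g) (cj_injective g)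
      haveI := hHcyc
      exact isCyclic_of_surjective e.toMonoidHom e.surjective
    have hKC : K ≤ normalizer (C : Set G) := by
      intro k hk
      rw [mem_normalizer_iff_map_cj, hC, map_cj_mul]
      -- `k * g = g * (k * c')` with `c'` centralizing `S`
      have hc' : k⁻¹ * g⁻¹ * k⁻¹⁻¹ * g⁻¹⁻¹ ∈ centralizer (((S : Subgroup G)) : Set G) :=
        c.comm_mem h h1418 k⁻¹ (Subgroup.inv_mem _ (hKS hk)) g⁻¹ (Subgroup.inv_mem _ hgN)
      rw [inv_inv, inv_inv] at hc'
      set c' : G := k⁻¹ * g⁻¹ * k * g with hc'def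
      have hc'H : c' ∈ centralizer (H : Set G) :=
        Subgroup.centralizer_le (by exact_mod_cast hHS) hc'
      have e1 : k * g = g * (k * c') := by rw [hc'def]; group
      rw [e1, ← map_cj_mul, ← map_cj_mul, map_cj_eq_of_mem_centralizer hc'H,
        mem_normalizer_iff_map_cj.mp (hKH hk)]
    refine ⟨C, hCS, hCcyc, hKC, ?_, ?_, ?_⟩
    · intro s hs
      rw [hCc]; exact hexp s hs
    · rw [hCc]; exact dvd_pow_self p (Nat.succ_ne_zero n)
    · intro X' hX'C hX'c
      have hXgC : X.map (cj g) ≤ C := Subgroup.map_mono hXH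
      have : X' = X.map (cj g) :=
        Cfsg.Agent.Helper23.eq_of_card_eq_of_isCyclic C hCcyc X' _ hX'C hXgC
          (by rw [hX'c, card_map_cj', hXc])
      rw [this]
      exact c.flip h1417 h1418 hG hgN hgM hXA hXc hsing

end AbCfg

end Cfsg.Agent.Helper18.BG12
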