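import Mathlib
import Cfsg.Prelude.Def_OddOrderLocal
import Cfsg.Agent.Helper18.BG12m
import Cfsg.Agent.Helper9.BG12g

/-!
# B&G Corollary 12.12 (S1421), the abelian case: abstract assembly of `E₀`
-/

set_option autoImplicit false
set_option linter.unusedSectionVars false
set_option linter.unusedVariables false
set_option linter.style.haveILetI false

namespace Cfsg.Agent.Helper18.BG12

open Subgroup Cfsg
open Cfsg.Agent.Helper14 (IsSylowIn cj cj_apply mem_normalizer_iff_map_cj cj_injective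
  exists_isSylowIn_ge exists_isSylowIn map_cj_centralizer mem_map_cj map_cj_le_iff
  map_cj_inv_map_cj le_normalizer_of_map_cj_le map_cj_mul)

universe u
variable {G : Type u} [Group G] [Finite G]

theorem card_mul_relIndex' {S E : Subgroup G} (h : S ≤ E) :
    Nat.card S * S.relIndex E = Nat.card E := by
  rw [← Nat.card_congr (Subgroup.subgroupOfEquivOfLe h).toEquiv]
  exact Subgroup.card_mul_index (S.subgroupOf E)

theorem exponent_dvd_of_le {E₀ E : Subgroup G} (hle : E₀ ≤ E) :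
    Monoid.exponent E₀ ∣ Monoid.exponent E := by
  apply Monoid.exponent_dvd_of_forall_pow_eq_one
  intro v
  have h1 := Monoid.pow_exponent_eq_one (⟨v.1, hle v.2⟩ : E)
  apply Subtype.ext
  have h2 := congrArg Subtype.val h1
  simpa using h2

theorem orderOf_dvd_exponent_of_mem {E₀ : Subgroup G} {e : G} (he : e ∈ E₀) :
    orderOf e ∣ Monoid.exponent E₀ := by
  have := Monoid.order_dvd_exponent (⟨e, he⟩ : E₀)
  rwa [Subgroup.orderOf_mk] at this

/-- a `p`-element of `E` lies in a normal `p`-subgroup of `E` of `p'`-index -/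
theorem mem_of_normal_pgroup {p : ℕ} (hp : p.Prime) {E S : Subgroup G} (hSE : S ≤ E)
    (hES : E ≤ normalizer (S : Set G)) (hSp : IsPGroup p S) (hSi : ¬ p ∣ S.relIndex E)
    {y : G} (hy : y ∈ E) {k : ℕ} (hyk : y ^ p ^ k = 1) : y ∈ S := by
  haveI : Fact p.Prime := ⟨hp⟩
  have h1 : IsPGroup p (zpowers y) := by
    apply IsPGroup.of_card (n := (Nat.factorization (orderOf y)) p)
    rw [Nat.card_zpowers]
    obtain ⟨j, hj, hjo⟩ := (Nat.dvd_prime_pow hp).mp (orderOf_dvd_of_pow_eq_one hyk)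
    rw [hjo, Nat.Prime.factorization_pow hp]
    simp
  have h2 : zpowers y ≤ normalizer (S : Set G) := zpowers_le.mpr (hES hy)
  set T : Subgroup G := zpowers y ⊔ S with hT
  have h3 : IsPGroup p ↥T := IsPGroup.to_sup_of_normal_right' h1 hSp h2
  have hTE : T ≤ E := sup_le (zpowers_le.mpr hy) hSE
  have hST : S ≤ T := le_sup_right
  have h4 : S.relIndex T * T.relIndex E = S.relIndex E := relIndex_mul_relIndex S T E hST hTE
  obtain ⟨j, hj⟩ := IsPGroup.iff_card.mp h3
  have h5 : S.relIndex T ∣ p ^ j := hj ▸ Subgroup.relIndex_dvd_card S T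
  obtain ⟨i, hi, hiS⟩ := (Nat.dvd_prime_pow hp).mp h5
  have hi0 : i = 0 := by
    by_contra hne
    apply hSi
    rw [← h4, hiS]
    exact Dvd.dvd.mul_right (dvd_pow_self p hne) _
  rw [hi0, pow_zero] at hiS
  have h6 : T ≤ S := Subgroup.relIndex_eq_one.mp hiS
  exact h6 (le_sup_left (a := zpowers y) (mem_zpowers y))

/-- the abstract assembly of `E₀` -/
theorem assemble {E Y F K : Subgroup G} {τ : Set ℕ} (hτ : ∀ p ∈ τ, p.Prime)
    (hFab : ∀ a ∈ F, ∀ b ∈ F, a * b = b * a) (hsolv : Group.IsSolvable E)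
    (hK : Cfsg.IsPiHallOf τᶜ K E) (S C : ℕ → Subgroup G)
    (hSF : ∀ p ∈ τ, S p ≤ F) (hSE : ∀ p ∈ τ, S p ≤ E)
    (hES : ∀ p ∈ τ, E ≤ normalizer ((S p : Subgroup G) : Set G))
    (hSp : ∀ p ∈ τ, IsPGroup p (S p)) (hSi : ∀ p ∈ τ, ¬ p ∣ (S p).relIndex E)
    (hCS : ∀ p ∈ τ, C p ≤ S p) (hCcyc : ∀ p ∈ τ, IsCyclic (C p))
    (hKC : ∀ p ∈ τ, K ≤ normalizer ((C p : Subgroup G) : Set G))
    (hCexp : ∀ p ∈ τ, ∀ s ∈ S p, s ^ Nat.card (C p) = 1)
    (hCreg : ∀ p ∈ τ, ∀ X : Subgroup G, X ≤ C p → Nat.card X = p →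
      Y ⊓ centralizer (X : Set G) = ⊥)
    (hreg : ∀ e ∈ E, (orderOf e).Prime → orderOf e ∉ τ → Y ⊓ centralizer ({e} : Set G) = ⊥) :
    ∃ E₀ : Subgroup G, E₀ ≤ E ∧ Monoid.exponent E₀ = Monoid.exponent E ∧
      ∀ e ∈ E₀, e ≠ 1 → Y ⊓ centralizer ({e} : Set G) = ⊥ := by
  set D : Subgroup G := ⨆ p : τ, C p with hD
  have hCD : ∀ p ∈ τ, C p ≤ D := fun p hp => le_iSup (fun q : τ => C q) ⟨p, hp⟩
  have hDF : D ≤ F := iSup_le fun p => (hCS p p.2).trans (hSF p p.2)
  have hDE : D ≤ E := iSup_le fun p => (hCS p p.2).trans (hSE p p.2)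
  have hKE : K ≤ E := hK.1
  have hKD : K ≤ normalizer (D : Set G) := by
    intro k hk
    rw [mem_normalizer_iff_map_cj, hD, Subgroup.map_iSup]
    apply iSup_congr
    intro p
    exact mem_normalizer_iff_map_cj.mp (hKC p p.2 hk)
  set E₀ : Subgroup G := D ⊔ K with hE₀
  have hE₀E : E₀ ≤ E := sup_le hDE hKE
  have hcopK : (Nat.card K).Coprime (K.relIndex E) := by
    by_contra hnc
    obtain ⟨q, hq, hq1, hq2⟩ := Nat.Prime.not_coprime_iff_dvd.mp hnc
    exact hK.2.2 q hq (hK.2.1 q hq hq1) hq2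
  -- order facts
  have hSK : ∀ p ∈ τ, Nat.card (S p) ∣ K.relIndex E := by
    intro p hp
    have h1 : Nat.card (S p) ∣ Nat.card K * K.relIndex E := by
      rw [card_mul_relIndex' hKE]; exact Subgroup.card_dvd_of_le (hSE p hp)
    apply Nat.Coprime.dvd_of_dvd_mul_left _ h1
    haveI : Fact p.Prime := ⟨hτ p hp⟩
    obtain ⟨j, hj⟩ := IsPGroup.iff_card.mp (hSp p hp)
    rw [hj]
    apply Nat.Coprime.pow_left
    rw [Nat.Prime.coprime_iff_not_dvd (hτ p hp)]
    intro hd
    exact hK.2.1 p (hτ p hp) hd hp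
  have hSS : ∀ p ∈ τ, ∀ r ∈ τ, p ≠ r → Nat.card (S p) ∣ (S r).relIndex E := by
    intro p hp r hr hpr
    have h1 : Nat.card (S p) ∣ Nat.card (S r) * (S r).relIndex E := by
      rw [card_mul_relIndex' (hSE r hr)]; exact Subgroup.card_dvd_of_le (hSE p hp)
    apply Nat.Coprime.dvd_of_dvd_mul_left _ h1
    haveI : Fact p.Prime := ⟨hτ p hp⟩
    haveI : Fact r.Prime := ⟨hτ r hr⟩
    obtain ⟨j, hj⟩ := IsPGroup.iff_card.mp (hSp p hp)
    obtain ⟨i, hi⟩ := IsPGroup.iff_card.mp (hSp r hr)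
    rw [hj, hi]
    apply Nat.Coprime.pow
    exact (Nat.coprime_primes (hτ p hp) (hτ r hr)).mpr hpr
  have hpow_card : ∀ (H : Subgroup G) (x : G), x ∈ H → ∀ m : ℕ, Nat.card H ∣ m → x ^ m = 1 := by
    intro H x hx m hm
    obtain ⟨t, rfl⟩ := hm
    rw [pow_mul]
    have h1 : (⟨x, hx⟩ : H) ^ Nat.card H = 1 := pow_card_eq_one'
    have h2 := congrArg Subtype.val h1
    rw [Subgroup.coe_pow, Subgroup.coe_one] at h2
    rw [h2, one_pow]
  refine ⟨E₀, hE₀E, ?_, ?_⟩
  · -- exponent
    apply exponent_eq_of hE₀E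
    intro e he r k hr hk hek
    by_cases hrτ : r ∈ τ
    · have heS : e ∈ S r := by
        apply mem_of_normal_pgroup hr (hSE r hrτ) (hES r hrτ) (hSp r hrτ) (hSi r hrτ) he (k := k)
        rw [← hek]; exact pow_orderOf_eq_one e
      have h1 : r ^ k ∣ Nat.card (C r) := by
        rw [← hek]; exact orderOf_dvd_of_pow_eq_one (hCexp r hrτ e heS)
      haveI := hCcyc r hrτ
      rw [← IsCyclic.exponent_eq_card] at h1
      exact h1.trans (exponent_dvd_of_le ((hCD r hrτ).trans le_sup_left))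
    · have hnum : Cfsg.Agent.Lead.IsPiNum τᶜ (Nat.card (zpowers e)) := by
        intro q hq hqd
        rw [Nat.card_zpowers, hek] at hqd
        have := (Nat.prime_dvd_prime_iff_eq hq hr).mp (hq.dvd_of_dvd_pow hqd)
        rw [this]; exact hrτ
      obtain ⟨m, hmE, hmK⟩ := Cfsg.Agent.H9.BG12.exists_conj_le_of_hall hsolv hK
        (zpowers_le.mpr he) hnum
      have h1 : m * e * m⁻¹ ∈ K := hmK ⟨e, mem_zpowers e, rfl⟩
      have h2 : orderOf (m * e * m⁻¹) = orderOf e := by
        have := (MulAut.conj m).orderOf_eq e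
        rwa [MulAut.conj_apply] at this
      rw [← hek, ← h2]
      exact orderOf_dvd_exponent_of_mem (le_sup_right (a := D) h1)
  · -- regularity
    apply regular_of_prime_order
    intro e he hre
    set r := orderOf e with hr
    by_cases hrτ : r ∈ τ
    · have heE : e ∈ E := hE₀E he
      have heS : e ∈ S r := by
        apply mem_of_normal_pgroup hre (hSE r hrτ) (hES r hrτ) (hSp r hrτ) (hSi r hrτ) heE (k := 1)
        rw [pow_one, hr]; exact pow_orderOf_eq_one e
      -- decompose `e = d * k`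
      have hmem : e ∈ ((D ⊔ K : Subgroup G) : Set G) := he
      rw [Subgroup.coe_mul_of_right_le_normalizer_left D K hKD] at hmem
      obtain ⟨d, hd, k, hk, hdk'⟩ := hmem
      have hdk : d * k = e := hdk'
      have hdD : d ∈ D := hd
      have hkK : k ∈ K := hk
      -- every element of `⨆ S p` is killed by `K.relIndex E`
      have hT : ∀ x ∈ (⨆ p : τ, S p), x ∈ F ∧ x ^ (K.relIndex E) = 1 := by
        intro x hx
        refine Subgroup.iSup_induction (C := fun x => x ∈ F ∧ x ^ (K.relIndex E) = 1)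
          (fun p : τ => S p) hx ?_ ?_ ?_
        · intro p x hx
          exact ⟨hSF p p.2 hx, hpow_card _ x hx _ (hSK p p.2)⟩
        · exact ⟨F.one_mem, one_pow _⟩
        · intro x y hx hy
          refine ⟨F.mul_mem hx.1 hy.1, ?_⟩
          rw [(show Commute x y from hFab x hx.1 y hy.1).mul_pow, hx.2, hy.2, one_mul]
      have hDT : D ≤ ⨆ p : τ, S p := iSup_mono fun p => hCS p p.2
      have heT : e ∈ ⨆ p : τ, S p := le_iSup (fun q : τ => S q) ⟨r, hrτ⟩ heS
      have hkT : k ∈ ⨆ p : τ, S p := by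
        have : k = d⁻¹ * e := by rw [← hdk]; group
        rw [this]
        exact Subgroup.mul_mem _ (Subgroup.inv_mem _ (hDT hdD)) heT
      have hk1 : k = 1 := by
        have h1 : orderOf k ∣ K.relIndex E := orderOf_dvd_of_pow_eq_one (hT k hkT).2
        have h2 : orderOf k ∣ Nat.card K := by
          have := orderOf_dvd_natCard (⟨k, hkK⟩ : K)
          rwa [Subgroup.orderOf_mk] at this
        have h3 : orderOf k ∣ 1 := by
          have := Nat.dvd_gcd h2 h1
          rwa [hcopK] at this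
        exact orderOf_eq_one_iff.mp (Nat.dvd_one.mp h3)
      have heD : e ∈ D := by
        rw [← hdk, hk1, mul_one]; exact hdD
      -- the power trick
      have hP : ∀ x ∈ D, x ∈ F ∧ x ^ ((S r).relIndex E) ∈ C r := by
        intro x hx
        refine Subgroup.iSup_induction (C := fun x => x ∈ F ∧ x ^ ((S r).relIndex E) ∈ C r)
          (fun p : τ => C p) hx ?_ ?_ ?_
        · intro p x hx
          refine ⟨hSF p p.2 (hCS p p.2 hx), ?_⟩
          by_cases hpr : (p : ℕ) = r
          · rw [← hpr]; exact (C p).pow_mem hx _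
          · rw [hpow_card _ x (hCS p p.2 hx) _ (hSS p p.2 r hrτ hpr)]
            exact (C r).one_mem
        · exact ⟨F.one_mem, by rw [one_pow]; exact (C r).one_mem⟩
        · intro x y hx hy
          refine ⟨F.mul_mem hx.1 hy.1, ?_⟩
          rw [(show Commute x y from hFab x hx.1 y hy.1).mul_pow]
          exact (C r).mul_mem hx.2 hy.2
      have heC : e ∈ C r := by
        apply mem_of_pow_mem_of_coprime (hP e heD).2
        rw [← hr]
        exact ((Nat.Prime.coprime_iff_not_dvd hre).mpr (hSi r hrτ)).symm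
      have h1 := hCreg r hrτ (zpowers e) (zpowers_le.mpr heC) (by rw [Nat.card_zpowers])
      rwa [zpowers_eq_closure, centralizer_closure] at h1
    · exact hreg e (hE₀E he) hre hrτ

end Cfsg.Agent.Helper18.BG12
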