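import Mathlib
import Cfsg.Prelude.Def_OddOrderLocal
import Cfsg.Agent.Helper18.BG12n
import Cfsg.Agent.Lead.BG143b

/-!
# B&G Corollary 12.12 (S1421): the abelian case
-/

set_option autoImplicit false
set_option linter.unusedSectionVars false
set_option linter.unusedVariables false
set_option linter.style.haveILetI false

namespace Cfsg.Agent.Helper18.BG12

open Subgroup Cfsg
open Cfsg.Agent.Helper14 (IsSylowIn cj cj_apply mem_normalizer_iff_map_cj cj_injective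
  exists_isSylowIn_ge exists_isSylowIn map_cj_centralizer mem_map_cj map_cj_le_iff
  map_cj_inv_map_cj le_normalizer_of_map_cj_le map_cj_mul)
open Cfsg.Agent.H9.BG12 (St1350 St1416 St1417 St1418 St1420 zpowers_eq_of_card_prime' sigmaCore_le
  le_normalizer_sigmaCore mem_of_map_cj_eq mem_sigma_of_dvd_card_sigmaCore)
open Cfsg.Agent.Helper16.BG11 (BG)

universe u
variable {G : Type u} [Group G] [Finite G]

/-- the statement of `hard_kill` (B&G 12.12, the `K`-invariant line) -/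
def HardKill (M E : Subgroup G) : Prop :=
  ∀ (p : ℕ) [Fact p.Prime], p ∈ Cfsg.tau2 M → ∀ A : Subgroup G,
    (A ≤ E ∧ Cfsg.IsElementaryAbelian p A ∧ Nat.card A = p ^ 2) →
    ∀ S : Sylow p G, (∀ a ∈ (S : Subgroup G), ∀ b ∈ (S : Subgroup G), a * b = b * a) →
      A ≤ (S : Subgroup G) → (S : Subgroup G) ≤ E → E ≤ normalizer ((S : Subgroup G) : Set G) →
      (∀ x ∈ normalizer ((S : Subgroup G) : Set G), ∀ y ∈ normalizer ((S : Subgroup G) : Set G),
        x * y * x⁻¹ * y⁻¹ ∈ centralizer ((S : Subgroup G) : Set G)) →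
      ∀ K : Subgroup G, K ≤ E →
        (∀ q : ℕ, q.Prime → q ∣ Nat.card K → q ∈ Cfsg.tau1 M ∪ Cfsg.tau3 M) →
        ∃ X : Subgroup G, X ≤ A ∧ Nat.card X = p ∧ K ≤ normalizer (X : Set G)

/-- the conclusion of S1421 -/
def Concl1421 (M E : Subgroup G) : Prop :=
  (∃ A₀ : Subgroup G, A₀ ≤ E ∧ E ≤ Subgroup.normalizer (A₀ : Set G) ∧ IsMulCommutative A₀ ∧
      ∀ x ∈ Cfsg.sigmaCore M, x ≠ 1 → E ⊓ Subgroup.centralizer ({x} : Set G) ≤ A₀) ∧
    ∃ E₀ : Subgroup G, E₀ ≤ E ∧ Monoid.exponent E₀ = Monoid.exponent E ∧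
      ∀ e ∈ E₀, e ≠ 1 → Cfsg.sigmaCore M ⊓ Subgroup.centralizer ({e} : Set G) = ⊥

theorem exists_abCfg (h : BG G) {M E : Subgroup G} (hM : IsCoatom M)
    (hE : Cfsg.IsComplIn E (Cfsg.sigmaCore M) M) {p : ℕ} [hp : Fact p.Prime]
    (hpτ : p ∈ Cfsg.tau2 M) (hB : ∃ S : Sylow p G, IsMulCommutative (S : Subgroup G)) :
    ∃ (A : Subgroup G) (S : Sylow p G), AbCfg M E p A S := by
  obtain ⟨A, hAE, hAe, hAc⟩ :=
    Cfsg.Agent.Lead.BG143.exists_elementary_sq_le_compl h.hG h.st1350 hM hE hpτ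
  have hAp : IsPGroup p A := IsPGroup.of_card hAc
  obtain ⟨S, hAS⟩ := hAp.exists_le_sylow
  obtain ⟨S₀, hS₀⟩ := hB
  obtain ⟨g, hg⟩ := MulAction.exists_smul_eq G S₀ S
  refine ⟨A, S, ⟨hM, hE, hpτ, hAE, hAe, hAc, hAS, ?_⟩⟩
  intro a ha b hb
  rw [← hg, Sylow.coe_subgroup_smul, Subgroup.mem_pointwise_smul_iff_inv_smul_mem] at ha hb
  have h1 := hS₀.is_comm.comm ⟨_, ha⟩ ⟨_, hb⟩
  have h2 := congrArg Subtype.val h1
  simp only [Subgroup.coe_mul, MulAut.smul_def, MulAut.inv_apply, MulAut.conj_symm_apply] at h2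
  have h3 : g * (g⁻¹ * a * g * (g⁻¹ * b * g)) * g⁻¹ = g * (g⁻¹ * b * g * (g⁻¹ * a * g)) * g⁻¹ := by
    rw [h2]
  have e1 : g * (g⁻¹ * a * g * (g⁻¹ * b * g)) * g⁻¹ = a * b := by group
  have e2 : g * (g⁻¹ * b * g * (g⁻¹ * a * g)) * g⁻¹ = b * a := by group
  rw [e1, e2] at h3
  exact h3

theorem le_normalizer_map_subtype {E : Subgroup G} (N : Subgroup ↥E) [hN : N.Normal] :
    E ≤ normalizer ((N.map E.subtype : Subgroup G) : Set G) := by
  apply le_normalizer_of_map_cj_le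
  intro e he
  rintro _ ⟨_, ⟨n, hn, rfl⟩, rfl⟩
  refine ⟨⟨e, he⟩ * n * ⟨e, he⟩⁻¹, hN.conj_mem n hn ⟨e, he⟩, ?_⟩
  simp

theorem isNilpotent_fittingOf (E : Subgroup G) : Group.IsNilpotent ↥(Cfsg.fittingOf E) := by
  haveI : Group.IsNilpotent ↥(Cfsg.fittingSubgroup ↥E) :=
    Cfsg.Agent.Helper7.fittingSubgroup_isNilpotent
  have e : ↥(Cfsg.fittingSubgroup ↥E) ≃* ↥(Cfsg.fittingOf E) :=
    (Cfsg.fittingSubgroup ↥E).equivMapOfInjective E.subtype E.subtype_injective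
  exact Group.nilpotent_of_surjective e.toMonoidHom e.surjective

theorem fittingOf_le (E : Subgroup G) : Cfsg.fittingOf E ≤ E := by
  rintro _ ⟨x, -, rfl⟩
  exact x.2

/-- a normal `p`-subgroup of `E` lies in `F(E)` -/
theorem le_fittingOf {p : ℕ} [Fact p.Prime] {E S : Subgroup G} (hSE : S ≤ E)
    (hES : E ≤ normalizer (S : Set G)) (hSp : IsPGroup p S) : S ≤ Cfsg.fittingOf E := by
  have hn : (S.subgroupOf E).Normal := (normal_subgroupOf_iff_le_normalizer hSE).mpr hES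
  have hp' : IsPGroup p ↥(S.subgroupOf E) :=
    hSp.of_equiv (Subgroup.subgroupOfEquivOfLe hSE).symm
  have hnil : Group.IsNilpotent ↥(S.subgroupOf E) := hp'.isNilpotent
  have h1 := Cfsg.Agent.Helper7.le_fittingSubgroup hn hnil
  have h2 := Subgroup.map_mono (f := E.subtype) h1
  rwa [Subgroup.map_subgroupOf_eq_of_le hSE] at h2

/-- **B&G 12.12**, the case where all Sylow `p`-subgroups of `G`, `p ∈ τ₂(M)`, are abelian -/
theorem caseB (h : BG G) (h1417 : St1417 G) (h1418 : St1418 G) (h1420 : St1420 G)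
    {M E : Subgroup G} (hM : IsCoatom M) (hE : Cfsg.IsComplIn E (Cfsg.sigmaCore M) M)
    (hH : HypH M E) (hHK : HardKill M E)
    (hB : ∀ p ∈ Cfsg.tau2 M, ∃ S : Sylow p G, IsMulCommutative (S : Subgroup G)) :
    Concl1421 M E := by
  have hG := h.hG
  have hsolv : Group.IsSolvable E := Cfsg.Agent.Helper16.BG11.solv_of_le h hM hE.1
  obtain ⟨K, hK⟩ := Cfsg.Agent.Lead.exists_isPiHallOf (Cfsg.tau2 M)ᶜ hsolv
  have hKE : K ≤ E := hK.1
  have hKt : ∀ q : ℕ, q.Prime → q ∣ Nat.card K → q ∈ Cfsg.tau1 M ∪ Cfsg.tau3 M := by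
    intro q hq hqK
    rcases mem_tau_of_dvd_card_compl h hM hE hq (hqK.trans (Subgroup.card_dvd_of_le hKE))
      with h2 | h13
    · exact absurd h2 (hK.2.1 q hq hqK)
    · exact h13
  -- per-prime data
  have key : ∀ p ∈ Cfsg.tau2 M, ∃ S C : Subgroup G, S ≤ E ∧
      E ≤ normalizer (S : Set G) ∧ IsPGroup p S ∧ ¬ p ∣ S.relIndex E ∧
      C ≤ S ∧ IsCyclic C ∧ K ≤ normalizer (C : Set G) ∧ (∀ s ∈ S, s ^ Nat.card C = 1) ∧
      ∀ X : Subgroup G, X ≤ C → Nat.card X = p →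
        Cfsg.sigmaCore M ⊓ centralizer (X : Set G) = ⊥ := by
    intro p hpτ
    haveI : Fact p.Prime := ⟨hpτ.1⟩
    obtain ⟨A, S, c⟩ := exists_abCfg h hM hE hpτ (hB p hpτ)
    have hSE := c.S_le_E h1418
    have hES := c.E_le_normalizer_S h h1417 h1418
    have hKp : ¬ p ∣ Nat.card K := fun hd => hK.2.1 p hpτ.1 hd hpτ
    have hline := hHK p hpτ A ⟨c.hAE, c.hAe, c.hAc⟩ S c.hSab c.hAS hSE hES
      (c.comm_mem h h1418) K hKE hKt
    obtain ⟨C, hCS, hCcyc, hKC, hCexp, -, hCreg⟩ :=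
      c.exists_good_cyclic h h1417 h1418 hKE hKp hline
    refine ⟨(S : Subgroup G), C, hSE, hES, S.isPGroup', ?_, hCS, hCcyc, hKC, hCexp, hCreg⟩
    intro hd
    exact S.not_dvd_index (hd.trans (Dvd.intro _ (Subgroup.relIndex_mul_index hSE)))
  choose! S C hSC using key
  -- `F(E)` is abelian
  set F : Subgroup G := Cfsg.fittingOf E with hF
  have hFE : F ≤ E := fittingOf_le E
  have hFc : IsMulCommutative ↥F := by
    apply (h1420 M hM E hE).1 F (hFE.trans hE.1) (isNilpotent_fittingOf E)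
    intro q hq hqF
    have hHall := Cfsg.Agent.H9.BG12.isPiHallOf_compl h.st1350 hM hE
    exact hHall.2.1 q hq (hqF.trans (Subgroup.card_dvd_of_le hFE))
  have hFab : ∀ a ∈ F, ∀ b ∈ F, a * b = b * a := by
    intro a ha b hb
    have := hFc.is_comm.comm ⟨a, ha⟩ ⟨b, hb⟩
    simpa using congrArg Subtype.val this
  have hSF : ∀ p ∈ Cfsg.tau2 M, S p ≤ F := by
    intro p hpτ
    haveI : Fact p.Prime := ⟨hpτ.1⟩
    exact le_fittingOf (hSC p hpτ).1 (hSC p hpτ).2.1 (hSC p hpτ).2.2.1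
  have hEF : E ≤ normalizer (F : Set G) := le_normalizer_map_subtype (Cfsg.fittingSubgroup ↥E)
  refine ⟨⟨F, hFE, hEF, hFc, ?_⟩, ?_⟩
  · -- (a)
    intro x hx hx1 y hy
    obtain ⟨hyE, hyx⟩ := Subgroup.mem_inf.mp hy
    rw [mem_centralizer_singleton_iff] at hyx
    have hprimes : ∀ r : ℕ, r.Prime → r ∣ orderOf y → r ∈ Cfsg.tau2 M := fun r hr hry =>
      prime_mem_tau2_of_commute h hM hE hH hyE hx hx1 hyx hr hry
    set Fs : Subgroup ↥E := Cfsg.fittingSubgroup ↥E with hFs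
    set y' : ↥E := ⟨y, hyE⟩ with hy'
    have h1 : y' ^ Fs.index ∈ Fs := Subgroup.pow_index_mem Fs y'
    have hcop : Fs.index.Coprime (orderOf y') := by
      by_contra hnc
      obtain ⟨r, hr, hr1, hr2⟩ := Nat.Prime.not_coprime_iff_dvd.mp hnc
      rw [hy', Subgroup.orderOf_mk] at hr2
      have hrτ := hprimes r hr hr2
      have h2 : (S r).subgroupOf E ≤ Fs := by
        intro z hz
        have : (z : G) ∈ F := hSF r hrτ (mem_subgroupOf.mp hz)
        obtain ⟨w, hw, hwz⟩ := this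
        have : w = z := Subtype.ext hwz
        rw [← this]; exact hw
      have h3 : Fs.index ∣ ((S r).subgroupOf E).index := Subgroup.index_dvd_of_le h2
      exact (hSC r hrτ).2.2.2.1 (hr1.trans h3)
    have h2 : y' ∈ Fs := mem_of_pow_mem_of_coprime h1 hcop
    exact ⟨y', h2, rfl⟩
  · -- (b)
    apply assemble (τ := Cfsg.tau2 M) (fun p hp => hp.1) hFab hsolv hK S C hSF
      (fun p hp => (hSC p hp).1) (fun p hp => (hSC p hp).2.1) (fun p hp => (hSC p hp).2.2.1)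
      (fun p hp => (hSC p hp).2.2.2.1) (fun p hp => (hSC p hp).2.2.2.2.1)
      (fun p hp => (hSC p hp).2.2.2.2.2.1) (fun p hp => (hSC p hp).2.2.2.2.2.2.1)
      (fun p hp => (hSC p hp).2.2.2.2.2.2.2.1) (fun p hp => (hSC p hp).2.2.2.2.2.2.2.2)
    intro e he hre hrτ
    have he1 : e ≠ 1 := by
      intro h1
      rw [h1, orderOf_one] at hre
      exact Nat.not_prime_one hre
    apply hH e he he1
    intro q hq hqe
    have hqeq : q = orderOf e := (Nat.prime_dvd_prime_iff_eq hq hre).mp hqe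
    have hqE : q ∣ Nat.card E := by
      have := orderOf_dvd_natCard (⟨e, he⟩ : E)
      rw [Subgroup.orderOf_mk] at this
      exact hqe.trans this
    rcases mem_tau_of_dvd_card_compl h hM hE hq hqE with h2 | h13
    · exact absurd (hqeq ▸ h2) hrτ
    · exact h13

end Cfsg.Agent.Helper18.BG12
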