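import Mathlib
import Cfsg.Prelude.Def_OddOrderLocal
import Cfsg.Agent.Helper18.BG12o
import Cfsg.Agent.Lead.Gaschutz
import Cfsg.Agent.Helper21.IndecAb

/-!
# B&G Corollary 12.12 (S1421): complements (Gaschütz wrapper)
-/

set_option autoImplicit false
set_option linter.unusedSectionVars false
set_option linter.unusedVariables false
set_option linter.style.haveILetI false

namespace Cfsg.Agent.Helper18.BG12

open Subgroup Cfsg

universe u
variable {G : Type u} [Group G] [Finite G]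

/-- in an abelian group `P`, a subgroup `Z` meeting the `p`-th powers trivially has a
complement -/
theorem exists_compl_of_inf_pow_eq_bot {p : ℕ} [Fact p.Prime] {P Z : Subgroup G}
    (hc : ∀ a ∈ P, ∀ b ∈ P, a * b = b * a) (hZP : Z ≤ P)
    (hZ : ∀ v ∈ P, v ^ p ∈ Z → v ^ p = 1) :
    ∃ W : Subgroup G, W ≤ P ∧ W ⊓ Z = ⊥ ∧ Z ⊔ W = P := by
  letI : CommGroup ↥P :=
    { (inferInstance : Group ↥P) with mul_comm := fun x y => Subtype.ext (hc x x.2 y y.2) }
  set Kv : Subgroup ↥P := (powSub P hc p).subgroupOf P with hKv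
  set Mv : Subgroup ↥P := (Z ⊔ powSub P hc p).subgroupOf P with hMv
  set σ : PUnit.{1} → ↥P →* ↥P := fun _ => MonoidHom.id _ with hσ
  have hexp : ∀ v : ↥P, v ^ p ∈ Kv := by
    intro v
    rw [hKv, mem_subgroupOf]
    exact ⟨v, v.2, by simp⟩
  have hpX : ¬ p ∣ Nat.card PUnit.{1} := by
    rw [Nat.card_unique]
    exact (Fact.out : p.Prime).one_lt.ne' ∘ Nat.dvd_one.mp
  obtain ⟨K₁, -, hK1, hinf, hsup⟩ :=
    Cfsg.Agent.Helper21.IndecAb.section_maschke₀ σ (fun v => rfl) (fun a b v => rfl) p hpX Kv Mv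
      (fun _ v hv => hv) (fun _ v hv => hv) hexp
  have hWP : K₁.map P.subtype ≤ P := by
    rintro _ ⟨x, -, rfl⟩
    exact x.2
  have hpowW : powSub P hc p ≤ K₁.map P.subtype := by
    intro x hx
    have hxP : x ∈ P := by
      obtain ⟨v, hv, rfl⟩ := hx
      exact P.pow_mem hv _
    exact ⟨⟨x, hxP⟩, hK1 (mem_subgroupOf.mpr hx), rfl⟩
  refine ⟨K₁.map P.subtype, hWP, ?_, ?_⟩
  · rw [eq_bot_iff]
    rintro w ⟨⟨k, hk, rfl⟩, hwZ⟩
    have hkM : k ∈ Mv := by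
      rw [hMv, mem_subgroupOf]
      exact le_sup_left (a := Z) hwZ
    have hkK : k ∈ Kv := hinf ⟨hk, hkM⟩
    rw [hKv, mem_subgroupOf] at hkK
    obtain ⟨v, hv, hvk⟩ := hkK
    rw [Subgroup.mem_bot]
    have : v ^ p ∈ Z := by rw [hvk]; exact hwZ
    have h1 := hZ v hv this
    rw [hvk] at h1
    exact h1
  · apply le_antisymm (sup_le hZP hWP)
    intro t ht
    have h1 : (⟨t, ht⟩ : ↥P) ∈ K₁ ⊔ Mv := by rw [hsup]; exact mem_top _
    obtain ⟨k, hk, m, hm, hkm⟩ := Subgroup.mem_sup.mp h1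
    have h2 : t = (k : G) * (m : G) := by
      have := congrArg Subtype.val hkm
      simpa using this.symm
    rw [h2]
    apply Subgroup.mul_mem
    · exact le_sup_right (a := Z) ⟨k, hk, rfl⟩
    · rw [hMv, mem_subgroupOf] at hm
      exact (sup_le le_sup_left (hpowW.trans le_sup_right)) hm

/-- Gaschütz: a complement of an abelian normal subgroup `Z` of `E`, given a complement in a
subgroup `P ≥ Z` of index coprime to `#Z` -/
theorem exists_compl_gaschutz {E Z P W : Subgroup G} (hZP : Z ≤ P) (hPE : P ≤ E)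
    (hEZ : E ≤ normalizer (Z : Set G)) (hZab : ∀ a ∈ Z, ∀ b ∈ Z, a * b = b * a)
    (hcop : (Nat.card Z).Coprime (P.relIndex E)) (hWP : W ≤ P) (hWZ : W ⊓ Z = ⊥)
    (hZW : Z ⊔ W = P) :
    ∃ E₀ : Subgroup G, E₀ ≤ E ∧ E₀ ⊓ Z = ⊥ ∧ (∀ e ∈ E, ∃ z ∈ Z, ∃ h ∈ E₀, e = z * h) ∧
      Nat.card Z * Nat.card E₀ = Nat.card E := by
  have hZE : Z ≤ E := hZP.trans hPE
  have hWE : W ≤ E := hWP.trans hPE
  haveI hn : (Z.subgroupOf E).Normal := (normal_subgroupOf_iff_le_normalizer hZE).mpr hEZ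
  haveI hcm : IsMulCommutative ↥(Z.subgroupOf E) :=
    ⟨⟨fun a b => Subtype.ext (Subtype.ext
      (hZab _ (mem_subgroupOf.mp a.2) _ (mem_subgroupOf.mp b.2)))⟩⟩
  have hKU : Z.subgroupOf E ≤ P.subgroupOf E := fun x hx => hZP (mem_subgroupOf.mp hx)
  have hcardZ : Nat.card ↥(Z.subgroupOf E) = Nat.card Z :=
    Nat.card_congr (Subgroup.subgroupOfEquivOfLe hZE).toEquiv
  have hcop' : (Nat.card ↥(Z.subgroupOf E)).Coprime (P.subgroupOf E).index := by
    rw [hcardZ]; exact hcop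
  have hAK : W.subgroupOf E ⊓ Z.subgroupOf E = ⊥ := by
    rw [eq_bot_iff]
    rintro x ⟨hx1, hx2⟩
    have : (x : G) ∈ W ⊓ Z := ⟨mem_subgroupOf.mp hx1, mem_subgroupOf.mp hx2⟩
    rw [hWZ, Subgroup.mem_bot] at this
    rw [Subgroup.mem_bot]
    exact Subtype.ext this
  have hKA : Z.subgroupOf E ⊔ W.subgroupOf E = P.subgroupOf E := by
    rw [← Subgroup.subgroupOf_sup hZE hWE, hZW]
  obtain ⟨H, hH⟩ := Cfsg.Agent.Lead.gaschutz_exists (Z.subgroupOf E) (P.subgroupOf E) hKU hcop'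
    (W.subgroupOf E) hAK hKA
  refine ⟨H.map E.subtype, ?_, ?_, ?_, ?_⟩
  · rintro _ ⟨x, -, rfl⟩
    exact x.2
  · rw [eq_bot_iff]
    rintro _ ⟨⟨x, hx, rfl⟩, hxZ⟩
    have h1 : x ∈ Z.subgroupOf E := mem_subgroupOf.mpr hxZ
    have h2 := Subgroup.disjoint_def.mp hH.disjoint h1 hx
    rw [Subgroup.mem_bot, h2]; rfl
  · intro e he
    obtain ⟨⟨k, h⟩, hkh, -⟩ := (Subgroup.isComplement'_def.mp hH).existsUnique ⟨e, he⟩
    refine ⟨(k : ↥E), mem_subgroupOf.mp k.2, (h : ↥E), ⟨h, h.2, rfl⟩, ?_⟩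
    have := congrArg Subtype.val hkh
    simpa using this.symm
  · have h1 := hH.card_mul_card
    rw [hcardZ] at h1
    rw [← h1]
    congr 1
    exact Nat.card_congr (H.equivMapOfInjective E.subtype E.subtype_injective).symm.toEquiv

end Cfsg.Agent.Helper18.BG12
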