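import Mathlib
import Cfsg.Prelude.Def_OddOrderLocal
import Cfsg.Agent.Helper18.BG12p

/-!
# B&G Corollary 12.12 (S1421): the nonabelian case
-/

set_option autoImplicit false
set_option linter.unusedSectionVars false
set_option linter.unusedVariables false
set_option linter.style.haveILetI false

namespace Cfsg.Agent.Helper18.BG12

open Subgroup Cfsg
open Cfsg.Agent.Helper14 (IsSylowIn cj cj_apply mem_normalizer_iff_map_cj cj_injective
  exists_isSylowIn_ge exists_isSylowIn map_cj_centralizer mem_map_cj map_cj_le_iff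
  map_cj_inv_map_cj le_normalizer_of_map_cj_le map_cj_mul map_cj_inf)
open Cfsg.Agent.H9.BG12 (St1350 St1416 St1417 St1418 St1420 zpowers_eq_of_card_prime' sigmaCore_le
  le_normalizer_sigmaCore mem_of_map_cj_eq mem_sigma_of_dvd_card_sigmaCore)
open Cfsg.Agent.Helper16.BG11 (BG)

universe u
variable {G : Type u} [Group G] [Finite G] {p : ℕ} [hp : Fact p.Prime]

theorem orderOf_pow_prime_pow {y : G} {j : ℕ} (h : orderOf y = p ^ (j + 1)) :
    orderOf (y ^ p ^ j) = p := by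
  apply orderOf_eq_prime
  · rw [← pow_mul, ← pow_succ, ← h]; exact pow_orderOf_eq_one y
  · intro h1
    have h2 := orderOf_dvd_of_pow_eq_one h1
    rw [h] at h2
    have h3 := Nat.le_of_dvd (pow_pos hp.out.pos _) h2
    have h4 : p ^ j < p ^ (j + 1) := Nat.pow_lt_pow_right hp.out.one_lt (Nat.lt_succ_self j)
    omega

section

variable {M E A P : Subgroup G} {S : Sylow p G} {u : G}

/-- `E` normalizes `Z = C_A(M_σ)` -/
theorem E_le_normalizer_Z (hE : Cfsg.IsComplIn E (Cfsg.sigmaCore M) M)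
    (hEA : E ≤ normalizer (A : Set G)) :
    E ≤ normalizer ((A ⊓ centralizer (Cfsg.sigmaCore M : Set G) : Subgroup G) : Set G) := by
  intro e he
  rw [mem_normalizer_iff_map_cj, map_cj_inf, map_cj_centralizer,
    mem_normalizer_iff_map_cj.mp (hEA he),
    mem_normalizer_iff_map_cj.mp (le_normalizer_sigmaCore M (hE.1 he))]

/-- `M` normalizes `Z = C_A(M_σ)` -/
theorem M_le_normalizer_Z (hE : Cfsg.IsComplIn E (Cfsg.sigmaCore M) M)
    (hEA : E ≤ normalizer (A : Set G)) :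
    M ≤ normalizer ((A ⊓ centralizer (Cfsg.sigmaCore M : Set G) : Subgroup G) : Set G) := by
  intro m hm
  obtain ⟨a, ha, b, hb, rfl⟩ := hE.2.2.2 m hm
  have hbZ : b ∈ centralizer
      ((A ⊓ centralizer (Cfsg.sigmaCore M : Set G) : Subgroup G) : Set G) := by
    rw [Subgroup.mem_centralizer_iff]
    intro z hz
    exact (Subgroup.mem_centralizer_iff.mp hz.2 b hb).symm
  rw [mem_normalizer_iff_map_cj, ← map_cj_mul, map_cj_eq_of_mem_centralizer hbZ]
  exact mem_normalizer_iff_map_cj.mp (E_le_normalizer_Z hE hEA ha)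

/-- no `p`-element `v` of `M` has `1 ≠ v ^ p ∈ Z` -/
theorem key_pow_M (hG : Cfsg.IsMinSimpleOddOrder G) (h1417 : St1417 G) (h1418 : St1418 G)
    (hM : IsCoatom M) (hE : Cfsg.IsComplIn E (Cfsg.sigmaCore M) M) (hpτ : p ∈ Cfsg.tau2 M)
    (hS : ∀ S : Sylow p G, ¬ IsMulCommutative (S : Subgroup G))
    (hAE : A ≤ E) (hAe : Cfsg.IsElementaryAbelian p A)
    (hAc : Nat.card A = p ^ 2) (c : Cfg M A P S u)
    {v : G} (hvM : v ∈ M) {k : ℕ} (hvk : v ^ p ^ k = 1)
    (hvZ : v ^ p ∈ A ⊓ centralizer (Cfsg.sigmaCore M : Set G)) : v ^ p = 1 := by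
  have hEA : E ≤ normalizer (A : Set G) := (h1418 M hM E hE p hpτ A ⟨hAE, hAe, hAc⟩).1.1
  have hMZ := M_le_normalizer_Z hE hEA
  set v₀ : M := ⟨v, hvM⟩ with hv₀
  have hZp : IsPGroup p (zpowers v₀) := by
    have h1 : v₀ ^ p ^ k = 1 := Subtype.ext (by simpa using hvk)
    obtain ⟨j, hj, hjo⟩ := (Nat.dvd_prime_pow hp.out).mp (orderOf_dvd_of_pow_eq_one h1)
    apply IsPGroup.of_card (n := j)
    rw [Nat.card_zpowers, hjo]
  obtain ⟨P', hP'⟩ := hZp.exists_le_sylow
  have hv₀P' : v₀ ∈ (P' : Subgroup M) := hP' (Subgroup.mem_zpowers v₀)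
  obtain ⟨m, hm⟩ := MulAction.exists_smul_eq M P' c.sylM.toSylow
  have hx₁ : m * v₀ * m⁻¹ ∈ (c.sylM.toSylow : Subgroup M) := by
    rw [← hm, Sylow.coe_subgroup_smul, Subgroup.mem_pointwise_smul_iff_inv_smul_mem]
    have h3 : (MulAut.conj m)⁻¹ • (m * v₀ * m⁻¹) = v₀ := by
      rw [MulAut.smul_def, MulAut.inv_apply, MulAut.conj_symm_apply]; group
    rw [h3]; exact hv₀P'
  have hw : (m : G) * v * (m : G)⁻¹ ∈ P := by
    have h1 := Subgroup.mem_map_of_mem M.subtype hx₁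
    rw [c.sylM.toSylow_map] at h1
    simpa [hv₀] using h1
  have hwp : ((m : G) * v * (m : G)⁻¹) ^ p = (m : G) * v ^ p * (m : G)⁻¹ := conj_pow
  have hwZ : ((m : G) * v * (m : G)⁻¹) ^ p ∈ A ⊓ centralizer (Cfsg.sigmaCore M : Set G) := by
    rw [hwp]
    exact (mem_normalizer_iff.mp (hMZ m.2) _).mp hvZ
  have h1 := key_pow hG h1417 h1418 hM hE hpτ hS hAE hAe hAc c hw hwZ
  rw [hwp] at h1
  exact conj_eq_one_iff.mp h1

end

/-- lifting prime-power orders through a complement `E₀` of a normal subgroup `Z` -/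
theorem pow_dvd_exponent_of_compl {E Z E₀ : Subgroup G} (hEZ : E ≤ normalizer (Z : Set G))
    (hE₀E : E₀ ≤ E) (hE₀Z : E₀ ⊓ Z = ⊥) (hdec : ∀ e ∈ E, ∃ z ∈ Z, ∃ h ∈ E₀, e = z * h)
    {e : G} (he : e ∈ E) {r k : ℕ} (hr : r.Prime) (hek : orderOf e = r ^ (k + 1))
    (hnot : e ^ r ^ k ∉ Z) : r ^ (k + 1) ∣ Monoid.exponent E₀ := by
  obtain ⟨z, hz, g, hg, hezg⟩ := hdec e he
  have hpow : ∀ n : ℕ, ∃ z' ∈ Z, e ^ n = z' * g ^ n := by
    intro n
    induction n with
    | zero => exact ⟨1, Z.one_mem, by simp⟩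
    | succ n ih =>
      obtain ⟨z', hz', hn⟩ := ih
      have hgn : g ^ n ∈ normalizer (Z : Set G) := hEZ (E.pow_mem (hE₀E hg) n)
      refine ⟨z' * (g ^ n * z * (g ^ n)⁻¹),
        Z.mul_mem hz' ((mem_normalizer_iff.mp hgn z).mp hz), ?_⟩
      rw [pow_succ, hn, pow_succ]
      conv_lhs => rw [hezg]
      group
  have hg1 : g ^ r ^ (k + 1) = 1 := by
    obtain ⟨z', hz', hn⟩ := hpow (r ^ (k + 1))
    rw [← hek, pow_orderOf_eq_one] at hn
    have h1 : g ^ orderOf e = z'⁻¹ := by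
      rw [eq_inv_iff_mul_eq_one]
      have h0 : z'⁻¹ * (z' * g ^ orderOf e) * z' = g ^ orderOf e * z' := by group
      rw [← h0, ← hn]; group
    have h2 : g ^ orderOf e ∈ E₀ ⊓ Z := ⟨E₀.pow_mem hg _, h1 ▸ Z.inv_mem hz'⟩
    rw [hE₀Z, Subgroup.mem_bot] at h2
    rw [← hek]; exact h2
  obtain ⟨j, hj, hjo⟩ := (Nat.dvd_prime_pow hr).mp (orderOf_dvd_of_pow_eq_one hg1)
  have hjk : j = k + 1 := by
    by_contra hne
    have hjk' : j ≤ k := by omega
    apply hnot
    obtain ⟨z', hz', hn⟩ := hpow (r ^ k)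
    have h3 : g ^ r ^ k = 1 := by
      apply orderOf_dvd_iff_pow_eq_one.mp
      rw [hjo]; exact pow_dvd_pow r hjk'
    rw [h3, mul_one] at hn
    rw [hn]; exact hz'
  rw [← hjk, ← hjo]
  exact orderOf_dvd_exponent_of_mem hg

/-- **B&G 12.12**, the case where some `p ∈ τ₂(M)` has nonabelian Sylow `p`-subgroups in `G` -/
theorem caseA (h : BG G) (h1416 : St1416 G) (h1417 : St1417 G) (h1418 : St1418 G)
    {M E : Subgroup G} (hM : IsCoatom M) (hE : Cfsg.IsComplIn E (Cfsg.sigmaCore M) M)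
    (hH : HypH M E) (hpτ : p ∈ Cfsg.tau2 M)
    (hS : ∀ S : Sylow p G, ¬ IsMulCommutative (S : Subgroup G)) :
    Concl1421 M E := by
  have hG := h.hG
  have hpp : p.Prime := hp.out
  obtain ⟨A, hAE, hAe, hAc⟩ :=
    Cfsg.Agent.Lead.BG143.exists_elementary_sq_le_compl hG h.st1350 hM hE hpτ
  have hAM : A ≤ M := hAE.trans hE.1
  obtain ⟨P, S, u, c⟩ := exists_cfg h1416 h1417 hM hpτ hS hAM hAe hAc
  obtain ⟨hτ2, ⟨hZc, -⟩, hlines⟩ :=
    s1419_of hG h1416 h1417 h1418 M hM E hE p hpτ hS A ⟨hAE, hAe, hAc⟩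
  set Z : Subgroup G := A ⊓ centralizer (Cfsg.sigmaCore M : Set G) with hZ
  have hZA : Z ≤ A := inf_le_left
  have hZE : Z ≤ E := hZA.trans hAE
  obtain ⟨⟨hEA, -⟩, ⟨hCA, hMNA, -⟩, -⟩ := h1418 M hM E hE p hpτ A ⟨hAE, hAe, hAc⟩
  have hEZ : E ≤ normalizer (Z : Set G) := E_le_normalizer_Z hE hEA
  have hAi := Cfsg.Agent.Helper26.isElementaryAbelian_iff.mp hAe
  have hZab : ∀ a ∈ Z, ∀ b ∈ Z, a * b = b * a := fun a ha b hb => hAi.1 a (hZA ha) b (hZA hb)
  have hPE : P ≤ E := by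
    intro x hx
    have h1 : x ∈ centralizer (A : Set G) := by
      rw [Subgroup.mem_centralizer_iff]
      intro a ha
      exact c.comm a (c.AP ha) x hx
    exact hMNA ▸ hCA h1
  have hkeyM : ∀ v ∈ M, ∀ k : ℕ, v ^ p ^ k = 1 → v ^ p ∈ Z → v ^ p = 1 :=
    fun v hv k hvk hvZ => key_pow_M hG h1417 h1418 hM hE hpτ hS hAE hAe hAc c hv hvk hvZ
  -- singular lines of `E` equal `Z`
  have hsing : ∀ e ∈ E, orderOf e = p →
      Cfsg.sigmaCore M ⊓ centralizer ({e} : Set G) ≠ ⊥ → e ∈ Z := by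
    intro e he heo hne
    have hXE : zpowers e ≤ E := zpowers_le.mpr he
    have hXc : Nat.card (zpowers e) = p := by rw [Nat.card_zpowers, heo]
    by_contra heZ
    have hXne : zpowers e ≠ Z := by
      intro h1
      exact heZ (h1 ▸ mem_zpowers e)
    have h2 := (hlines (zpowers e) hXE hXc hXne).1
    rw [zpowers_eq_closure, centralizer_closure] at h2
    exact hne h2
  have hτ2p : ∀ r ∈ Cfsg.tau2 M, r = p := by
    intro r hr
    rw [hτ2] at hr
    exact hr
  refine ⟨⟨Z, hZE, hEZ, ⟨⟨fun a b => Subtype.ext (hZab a a.2 b b.2)⟩⟩, ?_⟩, ?_⟩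
  · -- (a)
    intro x hx hx1 y hy
    obtain ⟨hyE, hyx⟩ := Subgroup.mem_inf.mp hy
    rw [mem_centralizer_singleton_iff] at hyx
    have hprimes : ∀ r : ℕ, r.Prime → r ∣ orderOf y → r = p := fun r hr hry =>
      hτ2p r (prime_mem_tau2_of_commute h hM hE hH hyE hx hx1 hyx hr hry)
    have hyo : orderOf y = p ^ (orderOf y).primeFactorsList.length :=
      Nat.eq_prime_pow_of_unique_prime_dvd (orderOf_pos y).ne' (fun hd hdy => hprimes _ hd hdy)
    obtain ⟨k, hk⟩ : ∃ k, orderOf y = p ^ k := ⟨_, hyo⟩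
    by_contra hyZ
    rcases Nat.eq_zero_or_pos k with rfl | hk0
    · rw [pow_zero, orderOf_eq_one_iff] at hk
      exact hyZ (hk ▸ Z.one_mem)
    obtain ⟨j, rfl⟩ := Nat.exists_eq_succ_of_ne_zero hk0.ne'
    have hy'o : orderOf (y ^ p ^ j) = p := orderOf_pow_prime_pow hk
    have hy'Z : y ^ p ^ j ∈ Z := by
      apply hsing _ (E.pow_mem hyE _) hy'o
      intro hbot
      have h4 : x ∈ Cfsg.sigmaCore M ⊓ Subgroup.centralizer ({y ^ p ^ j} : Set G) := by
        refine Subgroup.mem_inf.mpr ⟨hx, ?_⟩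
        rw [mem_centralizer_singleton_iff]
        exact ((Commute.pow_left (show Commute y x from hyx) _).eq).symm
      rw [hbot, Subgroup.mem_bot] at h4
      exact hx1 h4
    rcases Nat.eq_zero_or_pos j with rfl | hj0
    · rw [pow_zero, pow_one] at hy'Z
      exact hyZ hy'Z
    obtain ⟨i, rfl⟩ := Nat.exists_eq_succ_of_ne_zero hj0.ne'
    have e1 : (y ^ p ^ i) ^ p = y ^ p ^ (i + 1) := by rw [← pow_mul, ← pow_succ]
    have h5 := hkeyM (y ^ p ^ i) (hE.1 (E.pow_mem hyE _)) (i + 1 + 1) (by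
      rw [← pow_mul, mul_comm, pow_mul, ← hk, pow_orderOf_eq_one, one_pow]) (e1 ▸ hy'Z)
    rw [e1] at h5
    rw [h5, orderOf_one] at hy'o
    exact hpp.one_lt.ne' hy'o.symm
  · -- (b)
    obtain ⟨W, hWP, hWZ, hZW⟩ := exists_compl_of_inf_pow_eq_bot (p := p) c.comm (hZA.trans c.AP)
      (fun v hv hvZ => key_pow hG h1417 h1418 hM hE hpτ hS hAE hAe hAc c hv hvZ)
    have hnd : ¬ p ∣ P.relIndex E := by
      intro hd
      have h1 : P.relIndex E * E.relIndex M = P.relIndex M := relIndex_mul_relIndex P E M hPE hE.1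
      have h2 : ¬ p ∣ P.relIndex M := c.sylM.toSylow.not_dvd_index
      exact h2 (h1 ▸ Dvd.dvd.mul_right hd _)
    have hcop : (Nat.card Z).Coprime (P.relIndex E) := by
      rw [hZc]; exact (Nat.Prime.coprime_iff_not_dvd hpp).mpr hnd
    obtain ⟨E₀, hE₀E, hE₀Z, hdec, hcard⟩ :=
      exists_compl_gaschutz (hZA.trans c.AP) hPE hEZ hZab hcop hWP hWZ hZW
    have hmemZ_E₀ : ∀ g, g ∈ Z → g ∈ E₀ → g = 1 := by
      intro g h1 h2
      have : g ∈ E₀ ⊓ Z := ⟨h2, h1⟩
      rwa [hE₀Z, Subgroup.mem_bot] at this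
    refine ⟨E₀, hE₀E, ?_, ?_⟩
    · -- exponent
      apply exponent_eq_of hE₀E
      intro e he r k hr hk hek
      obtain ⟨j, rfl⟩ := Nat.exists_eq_succ_of_ne_zero hk.ne'
      by_cases hZmem : e ^ r ^ j ∈ Z
      · haveI : Fact r.Prime := ⟨hr⟩
        have ho : orderOf (e ^ r ^ j) = r := orderOf_pow_prime_pow hek
        have hrp : r = p := by
          have h1 : orderOf (e ^ r ^ j) ∣ Nat.card Z := by
            have := orderOf_dvd_natCard (⟨_, hZmem⟩ : Z)
            rwa [Subgroup.orderOf_mk] at this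
          rw [ho, hZc] at h1
          exact (Nat.prime_dvd_prime_iff_eq hr hpp).mp h1
        subst hrp
        rcases Nat.eq_zero_or_pos j with rfl | hj0
        · -- Cauchy
          have hpE₀ : r ∣ Nat.card E₀ := by
            have h1 : r ^ 2 ∣ Nat.card E := hAc ▸ Subgroup.card_dvd_of_le hAE
            rw [← hcard, hZc, pow_two] at h1
            exact (Nat.mul_dvd_mul_iff_left hpp.pos).mp h1
          obtain ⟨x, hx⟩ := exists_prime_orderOf_dvd_card' (G := E₀) r hpE₀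
          rw [show r ^ Nat.succ 0 = r from pow_one r, ← hx]
          exact Monoid.order_dvd_exponent x
        · obtain ⟨i, rfl⟩ := Nat.exists_eq_succ_of_ne_zero hj0.ne'
          exfalso
          have e1 : (e ^ r ^ i) ^ r = e ^ r ^ (i + 1) := by rw [← pow_mul, ← pow_succ]
          have h5 := hkeyM (e ^ r ^ i) (hE.1 (E.pow_mem he _)) (i + 1 + 1) (by
            rw [← pow_mul, mul_comm, pow_mul, ← hek, pow_orderOf_eq_one, one_pow]) (e1 ▸ hZmem)
          rw [e1] at h5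
          rw [h5, orderOf_one] at ho
          exact hpp.one_lt.ne' ho.symm
      · exact pow_dvd_exponent_of_compl hEZ hE₀E hE₀Z hdec he hr hek hZmem
    · -- regularity
      apply regular_of_prime_order
      intro e he hre
      by_contra hne
      obtain ⟨⟨x, hx⟩, hx1⟩ := (Subgroup.ne_bot_iff_exists_ne_one).mp hne
      have hx1' : x ≠ 1 := fun h0 => hx1 (Subtype.ext h0)
      obtain ⟨hxσ, hxe⟩ := Subgroup.mem_inf.mp hx
      rw [mem_centralizer_singleton_iff] at hxe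
      have heE : e ∈ E := hE₀E he
      have hrp : orderOf e = p :=
        hτ2p _ (prime_mem_tau2_of_commute h hM hE hH heE hxσ hx1' hxe.symm hre dvd_rfl)
      have heZ : e ∈ Z := hsing e heE hrp hne
      have he1 := hmemZ_E₀ e heZ he
      rw [he1, orderOf_one] at hrp
      exact hpp.one_lt.ne' hrp.symm

end Cfsg.Agent.Helper18.BG12
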