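import Mathlib
import Cfsg.Prelude.Def_OddOrderLocal
import Cfsg.Agent.Helper18.BG12q

/-!
# B&G Corollary 12.12 (S1421) relative to `hard_kill`
-/

set_option autoImplicit false
set_option linter.unusedSectionVars false
set_option linter.unusedVariables false
set_option linter.style.haveILetI false

namespace Cfsg.Agent.Helper18.BG12

open Subgroup Cfsg
open Cfsg.Agent.H9.BG12 (St1350 St1416 St1417 St1418 St1420)
open Cfsg.Agent.Helper16.BG11 (BG)

universe u
variable {G : Type u} [Group G] [Finite G]

/-- **B&G Corollary 12.12** (= S1421) relative to S1416, S1417, S1418, S1420 and `hard_kill` -/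
theorem s1421_of (h : BG G) (h1416 : St1416 G) (h1417 : St1417 G) (h1418 : St1418 G)
    (h1420 : St1420 G) {M E : Subgroup G} (hM : IsCoatom M)
    (hE : Cfsg.IsComplIn E (Cfsg.sigmaCore M) M) (hH : HypH M E) (hHK : HardKill M E) :
    Concl1421 M E := by
  by_cases hA : ∃ p ∈ Cfsg.tau2 M, ∀ S : Sylow p G, ¬ IsMulCommutative (S : Subgroup G)
  · obtain ⟨p, hpτ, hS⟩ := hA
    haveI : Fact p.Prime := ⟨hpτ.1⟩
    exact caseA h h1416 h1417 h1418 hM hE hH hpτ hS
  · push Not at hA
    exact caseB h h1417 h1418 h1420 hM hE hH hHK hA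

end Cfsg.Agent.Helper18.BG12
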