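import Mathlib
import Cfsg.Prelude.Def_OddOrderLocal
import Cfsg.Agent.Helper18.BG12m
import Cfsg.Agent.Helper28.BG13T1b
import Cfsg.Agent.Helper21.BG12f
import Cfsg.Agent.Helper10.BG10C
import Cfsg.Agent.Helper9.BG12n
import Cfsg.Agent.Helper4.BG10e
import Cfsg.Agent.Helper27.BG15D
import Cfsg.Agent.Lead.BG142a

/-!
# B&G Corollary 12.12 (S1421): `hard_kill`, step 4 (the analysis of `M* ≥ N_G(S)`)
-/

set_option autoImplicit false
set_option linter.unusedSectionVars false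
set_option linter.unusedVariables false
set_option linter.style.haveILetI false

namespace Cfsg.Agent.Helper18.BG12

open Subgroup Cfsg
open Cfsg.Agent.Helper14 (IsSylowIn cj cj_apply mem_normalizer_iff_map_cj cj_injective
  exists_isSylowIn_ge exists_isSylowIn map_cj_centralizer mem_map_cj map_cj_le_iff
  map_cj_inv_map_cj le_normalizer_of_map_cj_le map_cj_mul)
open Cfsg.Agent.H9.BG12 (St1350 St1416 St1417 St1418 zpowers_eq_of_card_prime' sigmaCore_le
  le_normalizer_sigmaCore mem_of_map_cj_eq mem_sigma_of_dvd_card_sigmaCore)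
open Cfsg.Agent.Helper16.BG11 (BG)
open Cfsg.Agent.Lead.BG142 (St1427)

universe u
variable {G : Type u} [Group G] [Finite G] {p : ℕ} [hp : Fact p.Prime]

theorem inf_eq_bot_of_coprime {H K : Subgroup G} (h : (Nat.card H).Coprime (Nat.card K)) :
    H ⊓ K = ⊥ := by
  rw [← Subgroup.card_eq_one]
  have h1 : Nat.card ↥(H ⊓ K) ∣ Nat.card H := Subgroup.card_dvd_of_le inf_le_left
  have h2 : Nat.card ↥(H ⊓ K) ∣ Nat.card K := Subgroup.card_dvd_of_le inf_le_right
  exact Nat.eq_one_of_dvd_coprimes h h1 h2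

theorem isPGroup_zpowers_of_pow {q : ℕ} [hq : Fact q.Prime] {u : G} {n : ℕ}
    (hun : u ^ q ^ n = 1) : IsPGroup q (zpowers u) := by
  obtain ⟨j, hj, hjo⟩ := (Nat.dvd_prime_pow hq.out).mp (orderOf_dvd_of_pow_eq_one hun)
  apply IsPGroup.of_card (n := j)
  rw [Nat.card_zpowers, hjo]

namespace AbCfg

variable {M E A : Subgroup G} {S : Sylow p G}

theorem S_ne_bot (c : AbCfg M E p A S) : (S : Subgroup G) ≠ ⊥ := by
  intro h0
  have h1 : A = ⊥ := eq_bot_iff.mpr (h0 ▸ c.hAS)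
  have h2 := c.hAc
  rw [h1, Subgroup.card_bot] at h2
  have : 1 < p ^ 2 := Nat.one_lt_pow (by norm_num) hp.out.one_lt
  omega

theorem A_ne_bot (c : AbCfg M E p A S) : A ≠ ⊥ := by
  intro h1
  have h2 := c.hAc
  rw [h1, Subgroup.card_bot] at h2
  have : 1 < p ^ 2 := Nat.one_lt_pow (by norm_num) hp.out.one_lt
  omega

/-- a maximal subgroup `M* ≥ N_G(S)`; `p ∈ σ(M*)`, `S ≤ M*_σ` -/
theorem exists_Mstar (h : BG G) (h1417 : St1417 G) (h1418 : St1418 G) (c : AbCfg M E p A S) :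
    ∃ Ms : Subgroup G, IsCoatom Ms ∧ normalizer ((S : Subgroup G) : Set G) ≤ Ms ∧
      p ∈ Cfsg.sigma Ms ∧ (S : Subgroup G) ≤ Cfsg.sigmaCore Ms ∧ E ≤ Ms := by
  have hSt : (S : Subgroup G) ≠ ⊤ := by
    intro ht
    have h1 : M = ⊤ := top_le_iff.mp (ht ▸ c.S_le_M h1418)
    exact c.hM.1 h1
  obtain ⟨Ms, hMs, hN⟩ :=
    Cfsg.Agent.Helper21.BG10.exists_coatom_normalizer_le h.hS c.S_ne_bot hSt
  have hpσ : p ∈ Cfsg.sigma Ms :=
    Cfsg.Agent.Helper10.BG10.mem_sigma_of_normalizer_le S c.S_ne_bot hN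
  have hSσ : (S : Subgroup G) ≤ Cfsg.sigmaCore Ms :=
    Cfsg.Agent.H9.BG12.le_sigmaCore_of_isPGroup h.st1350 hMs hpσ (le_normalizer.trans hN)
      S.isPGroup'
  exact ⟨Ms, hMs, hN, hpσ, hSσ, (c.E_le_normalizer_S h h1417 h1418).trans hN⟩

/-- step 4(i): `q ∈ σ(M*)` -/
theorem kill4_sigma (h : BG G) (h1417 : St1417 G) (h1418 : St1418 G) (c : AbCfg M E p A S)
    {Ms : Subgroup G} (hMs : IsCoatom Ms) (hN : normalizer ((S : Subgroup G) : Set G) ≤ Ms)
    {q : ℕ} [hq : Fact q.Prime] (hqσ : q ∈ Cfsg.sigma Ms) {u : G} (huE : u ∈ E)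
    {n : ℕ} (hun : u ^ q ^ n = 1) (hfix : A ⊓ centralizer ({u} : Set G) = ⊥) : False := by
  have hG := h.hG
  have hES := c.E_le_normalizer_S h h1417 h1418
  have hpσ : p ∈ Cfsg.sigma Ms :=
    Cfsg.Agent.Helper10.BG10.mem_sigma_of_normalizer_le S c.S_ne_bot hN
  have hSσ : (S : Subgroup G) ≤ Cfsg.sigmaCore Ms :=
    Cfsg.Agent.H9.BG12.le_sigmaCore_of_isPGroup h.st1350 hMs hpσ (le_normalizer.trans hN)
      S.isPGroup'
  have huMs : u ∈ Ms := hN (hES huE)
  have huσ : zpowers u ≤ Cfsg.sigmaCore Ms :=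
    Cfsg.Agent.H9.BG12.le_sigmaCore_of_isPGroup h.st1350 hMs hqσ (zpowers_le.mpr huMs)
      (isPGroup_zpowers_of_pow hun)
  have hpβ : p ∉ Cfsg.beta Ms := by
    intro hβ
    obtain ⟨B, hBS, hBe, hAB⟩ := hβ.2.2.2 S A c.hAS c.hAe c.hAc
    have hBA : B ≤ A := fun b hb => (c.omega h1417 h1418 b (hBS hb)).mp (hBe.2 b hb)
    exact absurd hAB (not_lt_of_ge hBA)
  have hnpc : Cfsg.HasNormalPComplement p ↥(Cfsg.sigmaCore Ms) :=
    ((h.s1414 Ms hMs).2.2.2.2 p hp.out hpσ.2.1 hpβ).2.1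
  have hSyl : IsSylowIn p (S : Subgroup G) (Cfsg.sigmaCore Ms) :=
    ⟨hSσ, S.isPGroup', fun Q _ hQ hSQ => S.is_maximal' hQ hSQ⟩
  obtain ⟨K', hK'L, hLK', hdec, hcop⟩ := Cfsg.Agent.Helper28.BG13T1.npc_ambient hSyl hnpc
  obtain ⟨k, hk, s, hs, hu_eq⟩ := hdec u (huσ (mem_zpowers u))
  have huA : u ∈ normalizer (A : Set G) := c.E_le_normalizer_A h1418 huE
  have hAcent : A ≤ centralizer ({u} : Set G) := by
    intro a ha
    rw [mem_centralizer_singleton_iff]
    have haS : a ∈ (S : Subgroup G) := c.hAS ha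
    have hwA : a * u * a⁻¹ * u⁻¹ ∈ A := by
      have h1 : u * a⁻¹ * u⁻¹ ∈ A := (mem_normalizer_iff.mp huA a⁻¹).mp (A.inv_mem ha)
      have e : a * u * a⁻¹ * u⁻¹ = a * (u * a⁻¹ * u⁻¹) := by group
      rw [e]; exact A.mul_mem ha h1
    have hwK : a * u * a⁻¹ * u⁻¹ ∈ K' := by
      have e : a * u * a⁻¹ * u⁻¹ = (a * k * a⁻¹) * k⁻¹ := by
        rw [hu_eq]
        have h1 : s * a⁻¹ = a⁻¹ * s :=
          c.hSab s hs a⁻¹ ((S : Subgroup G).inv_mem haS)
        calc a * (k * s) * a⁻¹ * (k * s)⁻¹ = a * k * (s * a⁻¹) * s⁻¹ * k⁻¹ := by group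
          _ = a * k * (a⁻¹ * s) * s⁻¹ * k⁻¹ := by rw [h1]
          _ = (a * k * a⁻¹) * k⁻¹ := by group
      rw [e]
      exact K'.mul_mem ((mem_normalizer_iff.mp (hLK' (hSσ haS)) k).mp hk) (K'.inv_mem hk)
    have hw1 : a * u * a⁻¹ * u⁻¹ = 1 := by
      have hcop' : (Nat.card A).Coprime (Nat.card K') :=
        Nat.Coprime.coprime_dvd_left (Subgroup.card_dvd_of_le c.hAS) hcop
      have : a * u * a⁻¹ * u⁻¹ ∈ A ⊓ K' := ⟨hwA, hwK⟩
      rwa [inf_eq_bot_of_coprime hcop', Subgroup.mem_bot] at this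
    have e : u * a = (a * u * a⁻¹ * u⁻¹)⁻¹ * (a * u) := by group
    rw [e, hw1]; group
  have hA0 : A = ⊥ := by
    rw [eq_bot_iff, ← hfix]
    exact le_inf le_rfl hAcent
  exact c.A_ne_bot hA0

/-- step 4(ii): `q ∉ σ(M*)` and `M*` has `q`-rank `1` -/
theorem kill4_cyclic (h : BG G) (h1417 : St1417 G) (h1418 : St1418 G) (h1427 : St1427 G)
    (c : AbCfg M E p A S)
    {Ms : Subgroup G} (hMs : IsCoatom Ms) (hN : normalizer ((S : Subgroup G) : Set G) ≤ Ms)
    {q : ℕ} [hq : Fact q.Prime] (hqσ : q ∉ Cfsg.sigma Ms) (hrk : Cfsg.PRankLE q 1 Ms)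
    {u : G} (huE : u ∈ E) {n : ℕ} (hun : u ^ q ^ n = 1)
    (huC : u ∉ centralizer ((S : Subgroup G) : Set G))
    (huq : u ^ q ∈ centralizer ((S : Subgroup G) : Set G)) (huq1 : u ^ q ≠ 1) : False := by
  have hG := h.hG
  have hES := c.E_le_normalizer_S h h1417 h1418
  have hpσ : p ∈ Cfsg.sigma Ms :=
    Cfsg.Agent.Helper10.BG10.mem_sigma_of_normalizer_le S c.S_ne_bot hN
  have hSσ : (S : Subgroup G) ≤ Cfsg.sigmaCore Ms :=
    Cfsg.Agent.H9.BG12.le_sigmaCore_of_isPGroup h.st1350 hMs hpσ (le_normalizer.trans hN)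
      S.isPGroup'
  have huMs : u ∈ Ms := hN (hES huE)
  have huq' : IsPGroup q (zpowers u) := isPGroup_zpowers_of_pow hun
  have hinf : zpowers u ⊓ Cfsg.sigmaCore Ms = ⊥ := by
    apply inf_eq_bot_of_coprime
    obtain ⟨j, hj⟩ := IsPGroup.iff_card.mp huq'
    rw [hj]
    apply Nat.Coprime.pow_left
    rw [Nat.Prime.coprime_iff_not_dvd hq.out]
    intro hd
    exact hqσ (mem_sigma_of_dvd_card_sigmaCore hq.out hd)
  obtain ⟨Es, hEs, huEs⟩ :=
    Cfsg.Agent.Helper21.BG12.exists_complIn_sigmaCore_ge hG hMs (zpowers_le.mpr huMs) hinf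
  have huEs' : u ∈ Es := huEs (mem_zpowers u)
  have hZq : IsPGroup q ↥((zpowers u).subgroupOf Es) := huq'.comap_subtype
  obtain ⟨Q, hQ⟩ := hZq.exists_le_sylow
  have huQ : (⟨u, huEs'⟩ : ↥Es) ∈ (Q : Subgroup ↥Es) := hQ (mem_subgroupOf.mpr (mem_zpowers u))
  set Qm : Subgroup G := (Q : Subgroup ↥Es).map Es.subtype with hQm
  have huQm : u ∈ Qm := ⟨⟨u, huEs'⟩, huQ, rfl⟩
  have hQmMs : Qm ≤ Ms := (Cfsg.Agent.Helper14.map_subtype_le _).trans hEs.1
  have hQmq : IsPGroup q ↥Qm := Q.isPGroup'.map _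
  have hrk' : Cfsg.PRankLE q 1 ↥Qm :=
    Cfsg.Agent.Helper7.PRankLE.of_injective (Subgroup.inclusion hQmMs)
      (Subgroup.inclusion_injective _) hrk
  have hQmcyc : IsCyclic ↥Qm := Cfsg.Agent.H9.BG12.isCyclic_of_pRankLE_one hG hQmq hrk'
  have hQcyc : IsCyclic ↥(Q : Subgroup ↥Es) := by
    have e : ↥(Q : Subgroup ↥Es) ≃* ↥Qm :=
      (Q : Subgroup ↥Es).equivMapOfInjective Es.subtype Es.subtype_injective
    haveI := hQmcyc
    exact isCyclic_of_surjective e.symm.toMonoidHom e.symm.surjective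
  have hu1 : u ≠ 1 := by
    rintro rfl
    exact huq1 (one_pow q)
  have hQ1 : (Q : Subgroup ↥Es) ≠ ⊥ := by
    intro h0
    rw [h0, Subgroup.mem_bot] at huQ
    exact hu1 (congrArg Subtype.val huQ)
  have h27 := h1427 Ms hMs Es hEs q Q hQ1 hQcyc (u ^ q) (Qm.pow_mem huQm q) huq1
  apply huC
  rw [Subgroup.mem_centralizer_iff]
  intro s hs
  have hs1 : s ∈ Cfsg.sigmaCore Ms ⊓ centralizer ({u ^ q} : Set G) := by
    refine Subgroup.mem_inf.mpr ⟨hSσ hs, ?_⟩
    rw [mem_centralizer_singleton_iff]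
    exact Subgroup.mem_centralizer_iff.mp huq s hs
  rw [h27] at hs1
  exact (Subgroup.mem_centralizer_iff.mp hs1.2 u huQm).symm

/-- step 4(iii): `q ∉ σ(M*)` and `M*` has `q`-rank `≥ 2` -/
theorem kill4_rank2 (h : BG G) (h1417 : St1417 G) (h1418 : St1418 G) (c : AbCfg M E p A S)
    {K : Subgroup G} (hKE : K ≤ E)
    (hnoline : ∀ X : Subgroup G, X ≤ A → Nat.card X = p → ¬ K ≤ normalizer (X : Set G))
    {Ms : Subgroup G} (hMs : IsCoatom Ms) (hN : normalizer ((S : Subgroup G) : Set G) ≤ Ms)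
    {q : ℕ} [hq : Fact q.Prime] (hqM : Cfsg.PRankLE q 1 M) (hqp : q ≠ p)
    (hqσ : q ∉ Cfsg.sigma Ms)
    (hrk : ¬ Cfsg.PRankLE q 1 Ms) {u : G} (huE : u ∈ E)
    (huq : u ^ q ∈ centralizer ((S : Subgroup G) : Set G))
    (hfix : A ⊓ centralizer ({u} : Set G) = ⊥) : False := by
  have hG := h.hG
  have hES := c.E_le_normalizer_S h h1417 h1418
  have hpσ : p ∈ Cfsg.sigma Ms :=
    Cfsg.Agent.Helper10.BG10.mem_sigma_of_normalizer_le S c.S_ne_bot hN
  have hSσ : (S : Subgroup G) ≤ Cfsg.sigmaCore Ms :=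
    Cfsg.Agent.H9.BG12.le_sigmaCore_of_isPGroup h.st1350 hMs hpσ (le_normalizer.trans hN)
      S.isPGroup'
  have hq2 : q ∈ Cfsg.tau2 Ms :=
    ⟨hq.out, hqσ, Cfsg.Agent.Helper16.BG11.pRankLE_two_of_not_mem_sigma h hMs hqσ, hrk⟩
  obtain ⟨As, hAsM, hAse, hAsc⟩ := Cfsg.Agent.Helper4.BG10.exists_elementary_sq hq2.2.2.1 hrk
  have hnil : Group.IsNilpotent ↥(Cfsg.sigmaCore Ms) :=
    (h1417 Ms hMs q hq2 As ⟨hAsM, hAse, hAsc⟩).1
  -- `S ⊴ M*`
  have hMsN : Ms ≤ normalizer ((S : Subgroup G) : Set G) := by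
    intro m hm
    rw [mem_normalizer_iff_map_cj]
    have h1 : (S : Subgroup G).map (cj m) ≤ Cfsg.sigmaCore Ms := by
      have := Subgroup.map_mono (f := cj m) hSσ
      rwa [mem_normalizer_iff_map_cj.mp (le_normalizer_sigmaCore Ms hm)] at this
    have hcop : (Nat.card (S : Subgroup G)).Coprime
        ((S : Subgroup G).relIndex (Cfsg.sigmaCore Ms)) :=
      Nat.Coprime.coprime_dvd_right (Dvd.intro _ (Subgroup.relIndex_mul_index hSσ))
        S.card_coprime_index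
    exact (Cfsg.Agent.Helper27.BG15.hall_unique_of_isNilpotent hnil hSσ h1
      (card_map_cj' _ _).symm hcop).symm
  have huS : u ∈ normalizer ((S : Subgroup G) : Set G) := hES huE
  have huA : u ∈ normalizer (A : Set G) := c.E_le_normalizer_A h1418 huE
  have hCSA := c.centralizer_S_le_centralizer_A
  have hcopA : (Nat.card A).Coprime q := by
    rw [c.hAc]
    apply Nat.Coprime.pow_left
    exact (Nat.coprime_primes hp.out hq.out).mpr (Ne.symm hqp)
  have hAi := Cfsg.Agent.Helper26.isElementaryAbelian_iff.mp c.hAe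
  -- every element of `A*` lies in `E`
  have hAsE : As ≤ E := by
    intro a ha
    have haS : a ∈ normalizer ((S : Subgroup G) : Set G) := hMsN (hAsM ha)
    have haA : a ∈ normalizer (A : Set G) := c.normalizer_le h1417 h1418 haS
    have hau : a * u * a⁻¹ * u⁻¹ ∈ centralizer (A : Set G) :=
      hCSA (c.comm_mem h h1418 a haS u huS)
    have haq : a ^ q ∈ centralizer (A : Set G) := by
      rw [hAse.2 a ha]; exact Subgroup.one_mem _
    rcases two_commuting hAi.1 c.A_ne_bot hq.out hcopA haA huA hau haq (hCSA huq) with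
      ⟨v, hv, hv1, hvu⟩ | ⟨k, -, v, hv, hv1, hvg⟩
    · exfalso
      have : v ∈ A ⊓ centralizer ({u} : Set G) := by
        refine Subgroup.mem_inf.mpr ⟨hv, ?_⟩
        rw [mem_centralizer_singleton_iff]; exact hvu.symm
      rw [hfix, Subgroup.mem_bot] at this
      exact hv1 this
    · obtain ⟨g, hg⟩ : ∃ g, g = a * u ^ k := ⟨_, rfl⟩
      rw [← hg] at hvg
      have hgS : g ∈ normalizer ((S : Subgroup G) : Set G) :=
        hg ▸ Subgroup.mul_mem _ haS (Subgroup.pow_mem _ huS k)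
      set F' : Subgroup G := A ⊓ centralizer ({g} : Set G) with hF'
      have hF'1 : F' ≠ ⊥ := by
        intro h0
        have : v ∈ F' := by
          refine Subgroup.mem_inf.mpr ⟨hv, ?_⟩
          rw [mem_centralizer_singleton_iff]; exact hvg.symm
        rw [h0, Subgroup.mem_bot] at this
        exact hv1 this
      have hKF' : K ≤ normalizer (F' : Set G) := by
        apply le_normalizer_of_map_cj_le
        intro k' hk'
        rintro _ ⟨x, hx, rfl⟩
        obtain ⟨hxA, hxg⟩ := Subgroup.mem_inf.mp hx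
        rw [mem_centralizer_singleton_iff] at hxg
        have hk'E : k' ∈ E := hKE hk'
        have hk'S : k' ∈ normalizer ((S : Subgroup G) : Set G) := hES hk'E
        have hk'A : k' ∈ normalizer (A : Set G) := c.E_le_normalizer_A h1418 hk'E
        rw [cj_apply]
        have hyA : k' * x * k'⁻¹ ∈ A := (mem_normalizer_iff.mp hk'A x).mp hxA
        refine Subgroup.mem_inf.mpr ⟨hyA, ?_⟩
        rw [mem_centralizer_singleton_iff]
        -- `k' g k'⁻¹ = c' g` with `c'` centralizing `A`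
        have hc' : k' * g * k'⁻¹ * g⁻¹ ∈ centralizer (A : Set G) :=
          hCSA (c.comm_mem h h1418 k' hk'S g hgS)
        have h1 : (k' * g * k'⁻¹ * g⁻¹) * (k' * x * k'⁻¹) =
            (k' * x * k'⁻¹) * (k' * g * k'⁻¹ * g⁻¹) :=
          (Subgroup.mem_centralizer_iff.mp hc' _ hyA).symm
        have h2 : (k' * g * k'⁻¹) * (k' * x * k'⁻¹) = (k' * x * k'⁻¹) * (k' * g * k'⁻¹) := by
          have : k' * g * k'⁻¹ * (k' * x * k'⁻¹) = k' * (g * x) * k'⁻¹ := by group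
          rw [this, ← hxg]; group
        -- combine
        have e1 : g = (k' * g * k'⁻¹ * g⁻¹)⁻¹ * (k' * g * k'⁻¹) := by group
        have hc1 : Commute (k' * g * k'⁻¹ * g⁻¹) (k' * x * k'⁻¹) := h1
        have hc2 : Commute (k' * g * k'⁻¹) (k' * x * k'⁻¹) := h2
        have hc3 : Commute ((k' * g * k'⁻¹ * g⁻¹)⁻¹ * (k' * g * k'⁻¹)) (k' * x * k'⁻¹) :=
          hc1.inv_left.mul_left hc2
        rw [← e1] at hc3
        exact hc3.symm.eq
      have hF'A : F' = A := by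
        have hd : Nat.card F' ∣ p ^ 2 := c.hAc ▸ Subgroup.card_dvd_of_le inf_le_left
        obtain ⟨j, hj, hjF⟩ := (Nat.dvd_prime_pow hp.out).mp hd
        have hj0 : j ≠ 0 := by
          rintro rfl
          rw [pow_zero] at hjF
          exact hF'1 (Subgroup.card_eq_one.mp hjF)
        have hj1 : j ≠ 1 := by
          rintro rfl
          rw [pow_one] at hjF
          exact hnoline F' inf_le_left hjF hKF'
        have hj2 : j = 2 := by omega
        apply Subgroup.eq_of_le_of_card_ge inf_le_left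
        rw [hjF, hj2, c.hAc]
      have hgC : g ∈ centralizer (A : Set G) := by
        rw [Subgroup.mem_centralizer_iff]
        intro x hx
        have : x ∈ F' := hF'A ▸ hx
        have := (Subgroup.mem_inf.mp this).2
        rw [mem_centralizer_singleton_iff] at this
        exact this
      have hgE : g ∈ E := c.centralizer_A_le h1418 hgC
      have e : a = g * (u ^ k)⁻¹ := by rw [hg]; group
      rw [e]
      exact E.mul_mem hgE (E.inv_mem (E.pow_mem huE k))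
  have h12 : q ^ 1 < Nat.card As := by
    rw [hAsc]; exact Nat.pow_lt_pow_right hq.out.one_lt (by norm_num)
  exact Cfsg.Agent.Lead.BG9.not_pRankLE_of_elementary (hAsE.trans c.hE.1) hAse h12 hqM

/-- **step 4 of `hard_kill`** -/
theorem kill4 (h : BG G) (h1417 : St1417 G) (h1418 : St1418 G) (h1427 : St1427 G)
    (c : AbCfg M E p A S) {K : Subgroup G} (hKE : K ≤ E)
    (hnoline : ∀ X : Subgroup G, X ≤ A → Nat.card X = p → ¬ K ≤ normalizer (X : Set G))
    {q : ℕ} [hq : Fact q.Prime] (hqτ : q ∈ Cfsg.tau1 M ∪ Cfsg.tau3 M) {u : G} (huK : u ∈ K)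
    {n : ℕ} (hun : u ^ q ^ n = 1) (huC : u ∉ centralizer ((S : Subgroup G) : Set G))
    (huq : u ^ q ∈ centralizer ((S : Subgroup G) : Set G)) (huq1 : u ^ q ≠ 1)
    (hfix : A ⊓ centralizer ({u} : Set G) = ⊥) : False := by
  have huE : u ∈ E := hKE huK
  have hqM : Cfsg.PRankLE q 1 M := by
    rcases hqτ with h1 | h3
    · exact h1.2.2.2.2
    · exact h3.2.2.2
  have hqp : q ≠ p := by
    rintro rfl
    exact c.hpτ.2.2.2 hqM
  obtain ⟨Ms, hMs, hN, -, -, -⟩ := c.exists_Mstar h h1417 h1418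
  by_cases hqσ : q ∈ Cfsg.sigma Ms
  · exact c.kill4_sigma h h1417 h1418 hMs hN hqσ huE hun hfix
  · by_cases hrk : Cfsg.PRankLE q 1 Ms
    · exact c.kill4_cyclic h h1417 h1418 h1427 hMs hN hqσ hrk huE hun huC huq huq1
    · exact c.kill4_rank2 h h1417 h1418 hKE hnoline hMs hN hqM hqp hqσ hrk huE huq hfix

end AbCfg

end Cfsg.Agent.Helper18.BG12
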