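import Mathlib
import Cfsg.Agent.Helper18.BG16Bb
import Cfsg.Agent.Lead.BG9d

/-!
# B&G Theorem B, parts (1) and (5): S1358 and S1362 relative to S1350, S1352, S1420.
-/

set_option autoImplicit false
set_option linter.unusedSectionVars false
set_option linter.unusedVariables false

namespace Cfsg.Agent.Helper18.BG16B

open Subgroup Cfsg
open Cfsg.Agent.H9.BG12 (St1350 St1420 sigmaCore_le le_normalizer_sigmaCore
  mem_sigma_of_dvd_card_sigmaCore mem_of_map_cj_eq)
open Cfsg.Agent.Helper21.BG10 (Uniq96 alpha_subset_sigma conj_mem_sigmaCore)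
open Cfsg.Agent.Helper14 (cj mem_map_cj)

universe u
variable {G : Type u} [Group G] [Finite G]

/-- **S1358** relative to S1350 and S1420. -/
theorem s1358_of (hG : Cfsg.IsMinSimpleOddOrder G) (h1350 : St1350 G) (h1420 : St1420 G)
    (M : Subgroup G) (hM : IsCoatom M) (K U : Subgroup G)
    (hKU : Cfsg.IsSigmaDecomposition M K U) :
    ∀ (p : ℕ), p.Prime → ∀ P : Sylow p U,
      IsMulCommutative (P : Subgroup U) ∧ Cfsg.PRankLE p 2 (P : Subgroup U) := by
  intro p hp P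
  haveI : Fact p.Prime := ⟨hp⟩
  have hUM : U ≤ M := hKU.compl.1
  set P' : Subgroup G := (P : Subgroup U).map U.subtype with hP'
  have hP'U : P' ≤ U := Subgroup.map_subtype_le _
  have hcard : Nat.card P' = Nat.card (P : Subgroup U) :=
    Subgroup.card_map_of_injective U.subtype_injective
  have hdvd : Nat.card (P : Subgroup U) ∣ Nat.card U := Subgroup.card_subgroup_dvd_card _
  constructor
  · have hnil : Group.IsNilpotent P' := by
      have hpg : IsPGroup p P' := P.isPGroup'.map _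
      exact hpg.isNilpotent
    have hσ : ∀ q : ℕ, q.Prime → q ∣ Nat.card P' → q ∉ Cfsg.sigma M := by
      intro q hq hqd
      exact not_mem_sigma_of_dvd_card_U hKU h1350 hM hq (hcard ▸ hqd |>.trans hdvd)
    have hc := (h1420 M hM _ (complIn_sup hKU)).1 P' (hP'U.trans hUM) hnil hσ
    refine ⟨⟨fun a b => ?_⟩⟩
    have ha : ((a : U) : G) ∈ P' := ⟨a, a.2, rfl⟩
    have hb : ((b : U) : G) ∈ P' := ⟨b, b.2, rfl⟩
    have := hc.is_comm.comm ⟨_, ha⟩ ⟨_, hb⟩
    have h2 := congrArg Subtype.val this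
    apply Subtype.ext
    apply Subtype.ext
    simpa using h2
  · by_cases hr : Cfsg.PRankLE p 2 ↥M
    · let f : ↥(P : Subgroup U) →* ↥M := (Subgroup.inclusion hUM).comp (P : Subgroup U).subtype
      have hf : Function.Injective f := by
        intro a b hab
        have h1 : ((a : U) : G) = ((b : U) : G) := congrArg (fun x : ↥M => (x : G)) hab
        exact Subtype.ext (Subtype.ext h1)
      exact Cfsg.Agent.Helper7.PRankLE.of_injective f hf hr
    · have hσ : p ∈ Cfsg.sigma M := alpha_subset_sigma hG (uniq96 hG) hM ⟨hp, hr⟩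
      have hnd : ¬ p ∣ Nat.card U := fun h => not_mem_sigma_of_dvd_card_U hKU h1350 hM hp h hσ
      obtain ⟨n, hn⟩ := IsPGroup.iff_card.mp P.isPGroup'
      have hn0 : n = 0 := by
        by_contra h0
        exact hnd ((hn ▸ dvd_pow_self p h0 : p ∣ Nat.card (P : Subgroup U)).trans hdvd)
      rw [hn0, pow_zero] at hn
      intro A _ _
      have h1 : Nat.card A ∣ Nat.card (P : Subgroup U) := Subgroup.card_subgroup_dvd_card A
      rw [hn] at h1
      have h2 : Nat.card A = 1 := Nat.dvd_one.mp h1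
      rw [h2]
      exact Nat.one_le_pow _ _ hp.pos

theorem pow_card_eq_one_of_mem {H : Subgroup G} {x : G} (hx : x ∈ H) : x ^ Nat.card H = 1 := by
  have h := pow_card_eq_one' (G := ↥H) (x := ⟨x, hx⟩)
  have h2 := congrArg Subtype.val h
  rw [Subgroup.coe_pow] at h2
  exact h2

/-- powers of a product modulo a normalized subgroup -/
theorem mul_pow_mem {N : Subgroup G} {s u : G} (hs : s ∈ N)
    (hu : u ∈ normalizer (N : Set G)) (k : ℕ) : ∃ s' ∈ N, (s * u) ^ k = s' * u ^ k := by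
  induction k with
  | zero => exact ⟨1, N.one_mem, by simp⟩
  | succ k ih =>
    obtain ⟨s', hs', h⟩ := ih
    refine ⟨s' * (u ^ k * s * (u ^ k)⁻¹), ?_, ?_⟩
    · apply N.mul_mem hs'
      have huk : u ^ k ∈ normalizer (N : Set G) := Subgroup.pow_mem _ hu k
      exact (Subgroup.mem_normalizer_iff.mp huk s).mp hs
    · rw [pow_succ, h, pow_succ]; group

/-- the `σ(M)'`-part of an element of `A(M) ∖ M_σ` satisfies the hypotheses of B&G 12.10 -/
theorem sigma'_part (hG : Cfsg.IsMinSimpleOddOrder G) (h1350 : St1350 G)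
    {M : Subgroup G} (hM : IsCoatom M) {K U : Subgroup G}
    (hKU : Cfsg.IsSigmaDecomposition M K U) {x : G}
    (hx : x ∈ Cfsg.sigmaA M U \ (Cfsg.sigmaCore M : Set G)) :
    x ^ Nat.card (Cfsg.sigmaCore M) ∈ M ∧ x ^ Nat.card (Cfsg.sigmaCore M) ≠ 1 ∧
      (∀ q : ℕ, q.Prime → q ∣ orderOf (x ^ Nat.card (Cfsg.sigmaCore M)) → q ∈ Cfsg.tau2 M) ∧
      x ^ Nat.card (Cfsg.sigmaCore M) ∈ Cfsg.sigmaHat M := by
  obtain ⟨⟨⟨hxM, y, hy, hy1, hxy⟩, hxU⟩, hxσ⟩ := hx
  set n := Nat.card (Cfsg.sigmaCore M) with hn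
  set e := Nat.card U with he
  have hUM : U ≤ M := hKU.compl.1
  have hUσ : U ≤ normalizer (Cfsg.sigmaCore M : Set G) := hUM.trans (le_normalizer_sigmaCore M)
  -- x = s * u
  have hxU' : x ∈ Cfsg.sigmaCore M ⊔ U := by rw [sup_comm]; exact hxU
  rw [Cfsg.Agent.Helper7.mem_sup_of_le_normalizer hUσ] at hxU'
  obtain ⟨s, hs, u, hu, rfl⟩ := hxU'
  -- (s u)^e ∈ M_σ
  have hxe : (s * u) ^ e ∈ Cfsg.sigmaCore M := by
    obtain ⟨s', hs', h⟩ := mul_pow_mem hs (hUσ hu) e
    rw [h]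
    have hue : u ^ e = 1 := pow_card_eq_one_of_mem hu
    rw [hue, mul_one]; exact hs'
  have hcop : Nat.Coprime e n := by
    apply Nat.coprime_of_dvd
    intro k hk hk1 hk2
    exact not_mem_sigma_of_dvd_card_U hKU h1350 hM hk hk1
      (mem_sigma_of_dvd_card_sigmaCore hk hk2)
  have hxen : ((s * u) ^ n) ^ e = 1 := by
    rw [← pow_mul, mul_comm, pow_mul]
    exact pow_card_eq_one_of_mem hxe
  have hyx' : (s * u) ^ n * y = y * (s * u) ^ n := ((Commute.pow_left hxy n).eq)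
  refine ⟨M.pow_mem hxM n, ?_, ?_, ⟨M.pow_mem hxM n, y, hy, hy1, hyx'⟩⟩
  · intro h1
    apply hxσ
    -- x = (x^e)^a * (x^n)^b
    have hb := Nat.gcd_eq_gcd_ab e n
    rw [hcop.gcd_eq_one] at hb
    have hx1 : (s * u) = ((s * u) ^ e) ^ (Nat.gcdA e n) * ((s * u) ^ n) ^ (Nat.gcdB e n) := by
      rw [← zpow_natCast, ← zpow_natCast, ← zpow_mul, ← zpow_mul, ← zpow_add, ← hb]
      simp
    rw [SetLike.mem_coe, hx1, h1, one_zpow, mul_one]
    exact Subgroup.zpow_mem _ hxe _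
  · intro q hq hqd
    have hqe : q ∣ e := hqd.trans (orderOf_dvd_of_pow_eq_one hxen)
    have hqσ : q ∉ Cfsg.sigma M := not_mem_sigma_of_dvd_card_U hKU h1350 hM hq hqe
    have hqκ : q ∉ Cfsg.kappa M := not_mem_kappa_of_dvd_card_U hKU hq hqe
    set w := ((s * u) ^ n) ^ (orderOf ((s * u) ^ n) / q) with hw
    have hwo : orderOf w = q := by
      rw [hw]
      exact orderOf_pow_orderOf_div (orderOf_pos _).ne' hqd
    have hw1 : w ≠ 1 := by
      intro h; rw [h, orderOf_one] at hwo; exact hq.one_lt.ne hwo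
    have hwq : w ^ q = 1 := by rw [← hwo]; exact pow_orderOf_eq_one w
    have hwM : w ∈ M := M.pow_mem (M.pow_mem hxM n) _
    have hwy : w * y = y * w := (Commute.pow_left hyx' _).eq
    exact mem_tau2_of_fixed hG hM hq hqσ hqκ hwM hw1 hwq hy hy1 hwy

/-- **S1362** relative to S1350, S1352, S1420. -/
theorem s1362_of (hG : Cfsg.IsMinSimpleOddOrder G) (h1350 : St1350 G) (h1352 : St1352 G)
    (h1420 : St1420 G) (M : Subgroup G) (hM : IsCoatom M) (K U : Subgroup G)
    (hKU : Cfsg.IsSigmaDecomposition M K U) :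
    Cfsg.IsTISubset (Cfsg.sigmaA M U \ (Cfsg.sigmaCore M : Set G)) := by
  intro g hg x hx hgx
  exfalso
  apply hg
  -- M normalizes the set
  have hnorm : M ≤ Subgroup.normalizer ((U ⊔ Cfsg.sigmaCore M : Subgroup G) : Set G) :=
    (h1352 M hM K hKU.cyclic hKU.hall).2 U hKU
  have hfwd : ∀ m ∈ M, ∀ n ∈ Cfsg.sigmaA M U \ (Cfsg.sigmaCore M : Set G),
      m * n * m⁻¹ ∈ Cfsg.sigmaA M U \ (Cfsg.sigmaCore M : Set G) := by
    rintro m hm n ⟨⟨⟨hnM, y, hy, hy1, hny⟩, hnU⟩, hnσ⟩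
    refine ⟨⟨⟨M.mul_mem (M.mul_mem hm hnM) (M.inv_mem hm), m * y * m⁻¹,
      conj_mem_sigmaCore hm hy, ?_, ?_⟩, ?_⟩, ?_⟩
    · intro h
      apply hy1
      have : y = m⁻¹ * (m * y * m⁻¹) * m := by group
      rw [this, h]; group
    · calc m * n * m⁻¹ * (m * y * m⁻¹) = m * (n * y) * m⁻¹ := by group
        _ = m * (y * n) * m⁻¹ := by rw [hny]
        _ = m * y * m⁻¹ * (m * n * m⁻¹) := by group
    · exact (Subgroup.mem_normalizer_iff.mp (hnorm hm) n).mp hnU
    · intro h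
      apply hnσ
      have hm' : m⁻¹ ∈ M := M.inv_mem hm
      have := conj_mem_sigmaCore hm' h
      simpa [mul_assoc] using this
  have hMle : M ≤ Subgroup.normalizer (Cfsg.sigmaA M U \ (Cfsg.sigmaCore M : Set G)) := by
    intro m hm n
    constructor
    · exact hfwd m hm n
    · intro h
      have := hfwd m⁻¹ (M.inv_mem hm) _ h
      simpa [mul_assoc] using this
  apply hMle
  -- g ∈ M
  obtain ⟨hxM', hx1, hxτ, hxhat⟩ := sigma'_part hG h1350 hM hKU hx
  obtain ⟨hzM', hz1, hzτ, hzhat⟩ := sigma'_part hG h1350 hM hKU hgx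
  set n := Nat.card (Cfsg.sigmaCore M) with hn
  obtain ⟨hCx, -⟩ := (h1420 M hM _ (complIn_sup hKU)).2.2.2 _ hxM' hx1 hxτ hxhat
  obtain ⟨-, hCz⟩ := (h1420 M hM _ (complIn_sup hKU)).2.2.2 _ hzM' hz1 hzτ hzhat
  have hconj : (g * x * g⁻¹) ^ n = g * x ^ n * g⁻¹ := by
    rw [conj_pow]
  have hL : Subgroup.centralizer ({(g * x * g⁻¹) ^ n} : Set G) ≤ M.map (cj g) := by
    intro c hc
    rw [mem_map_cj]
    apply hCx
    rw [Subgroup.mem_centralizer_singleton_iff] at hc ⊢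
    rw [hconj] at hc
    calc g⁻¹ * c * g * x ^ n = g⁻¹ * (c * (g * x ^ n * g⁻¹)) * g := by group
      _ = g⁻¹ * ((g * x ^ n * g⁻¹) * c) * g := by rw [hc]
      _ = x ^ n * (g⁻¹ * c * g) := by group
  have hLM := hCz (M.map (cj g)) (Cfsg.Agent.Lead.BG9.isCoatom_map_cj hM g) hL
  exact mem_of_map_cj_eq hG hM hLM

end Cfsg.Agent.Helper18.BG16B
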