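import Mathlib
import Cfsg.Agent.Helper18.BG16Bc
import Cfsg.Agent.Helper4.BG10g
import Cfsg.Agent.Lead.TT8

/-!
# B&G Theorem B, parts (2) and (4): S1359 and S1361 relative to S1350, S1363, S1416, S1417, S1420,
S1421.
-/

set_option autoImplicit false
set_option linter.unusedSectionVars false
set_option linter.unusedVariables false
set_option linter.style.haveILetI false

namespace Cfsg.Agent.Helper18.BG16B

open Subgroup Cfsg
open Cfsg.Agent.H9.BG12 (St1350 St1420 sigmaCore_le le_normalizer_sigmaCore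
  mem_sigma_of_dvd_card_sigmaCore mem_of_map_cj_eq)
open Cfsg.Agent.Helper21.BG10 (Uniq96 alpha_subset_sigma conj_mem_sigmaCore)

universe u
variable {G : Type u} [Group G] [Finite G]

theorem isNilpotent_of_comm {X : Type*} [Group X] (h : ∀ a b : X, a * b = b * a) :
    Group.IsNilpotent X := by
  letI : CommGroup X := { (inferInstance : Group X) with mul_comm := h }
  exact CommGroup.isNilpotent

theorem not_isZGroup_of_comm {X : Type*} [Group X] [Finite X] (hc : ∀ a b : X, a * b = b * a)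
    (h : ¬ IsCyclic X) : ¬ IsZGroup X := by
  intro hz
  haveI := isNilpotent_of_comm hc
  exact h inferInstance

/-- the hypothesis of B&G 12.11 holds for `U` -/
theorem fpf_tau13_U (hG : Cfsg.IsMinSimpleOddOrder G) (h1350 : St1350 G)
    {M : Subgroup G} (hM : IsCoatom M) {K U : Subgroup G}
    (hKU : Cfsg.IsSigmaDecomposition M K U) :
    ∀ e ∈ U, e ≠ 1 → (∀ p : ℕ, p.Prime → p ∣ orderOf e → p ∈ Cfsg.tau1 M ∪ Cfsg.tau3 M) →
      Cfsg.sigmaCore M ⊓ Subgroup.centralizer ({e} : Set G) = ⊥ := by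
  intro e heU he1 hτ
  rw [eq_bot_iff]
  intro y hy
  rw [Subgroup.mem_bot]
  by_contra hy1
  obtain ⟨hyσ, hye⟩ := Subgroup.mem_inf.mp hy
  rw [Subgroup.mem_centralizer_singleton_iff] at hye
  have ho : orderOf e ≠ 1 := by rwa [Ne, orderOf_eq_one_iff]
  obtain ⟨p, hp, hpd⟩ := Nat.exists_prime_and_dvd ho
  haveI : Fact p.Prime := ⟨hp⟩
  have hUM : U ≤ M := hKU.compl.1
  set w := e ^ (orderOf e / p) with hw
  have hwo : orderOf w = p := orderOf_pow_orderOf_div (orderOf_pos _).ne' hpd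
  have hw1 : w ≠ 1 := by
    intro h; rw [h, orderOf_one] at hwo; exact hp.one_lt.ne hwo
  have hwp : w ^ p = 1 := by rw [← hwo]; exact pow_orderOf_eq_one w
  have hwU : w ∈ U := U.pow_mem heU _
  have hpU : p ∣ Nat.card U := by
    have h1 : orderOf (⟨w, hwU⟩ : U) = orderOf w := Subgroup.orderOf_mk w hwU
    rw [← hwo, ← h1]
    exact orderOf_dvd_natCard _
  have hpσ := not_mem_sigma_of_dvd_card_U hKU h1350 hM hp hpU
  have hpκ := not_mem_kappa_of_dvd_card_U hKU hp hpU
  have hpM : p ∣ Nat.card M := hpU.trans (Subgroup.card_dvd_of_le hUM)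
  have hr1 : Cfsg.PRankLE p 1 ↥M := by
    rcases hτ p hp hpd with h | h
    · exact h.2.2.2.2
    · exact h.2.2.2
  have h2 := fpf_of_rank_one_not_kappa (prime_ne_two hG hpM) hpM hpσ hpκ hr1 (hUM hwU) hw1 hwp
  have h3 : y ∈ Cfsg.sigmaCore M ⊓ Subgroup.centralizer ({w} : Set G) := by
    refine Subgroup.mem_inf.mpr ⟨hyσ, ?_⟩
    rw [Subgroup.mem_centralizer_singleton_iff]
    exact (Commute.pow_right hye _).eq
  rw [h2, Subgroup.mem_bot] at h3
  exact hy1 h3

/-- **S1359** relative to S1350, S1363, S1421. -/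
theorem s1359_of (hG : Cfsg.IsMinSimpleOddOrder G) (h1350 : St1350 G) (h1363 : St1363 G)
    (h1421 : St1421 G) (M : Subgroup G) (hM : IsCoatom M) (K U : Subgroup G)
    (hKU : Cfsg.IsSigmaDecomposition M K U) :
    IsMulCommutative (Subgroup.closure ((U : Set G) ∩ Cfsg.sigmaHat M)) := by
  have key : ∃ A₀ : Subgroup G, IsMulCommutative A₀ ∧
      Subgroup.closure ((U : Set G) ∩ Cfsg.sigmaHat M) ≤ A₀ := by
    by_cases hK : K = ⊥
    · have hE : Cfsg.IsComplIn U (Cfsg.sigmaCore M) M := by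
        have := complIn_sup hKU
        rwa [hK, sup_bot_eq] at this
      obtain ⟨⟨A₀, -, -, hA₀c, hA₀⟩, -⟩ := h1421 M hM U hE (fpf_tau13_U hG h1350 hM hKU)
      refine ⟨A₀, hA₀c, ?_⟩
      rw [Subgroup.closure_le]
      rintro a ⟨haU, -, y, hy, hy1, hay⟩
      apply hA₀ y hy hy1
      refine Subgroup.mem_inf.mpr ⟨haU, ?_⟩
      rw [Subgroup.mem_centralizer_singleton_iff]
      exact hay
    · refine ⟨U, (h1363 M hM K U hKU hK).1, ?_⟩
      rw [Subgroup.closure_le]
      exact Set.inter_subset_left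
  obtain ⟨A₀, hA₀c, hle⟩ := key
  refine ⟨⟨fun a b => ?_⟩⟩
  have := hA₀c.is_comm.comm ⟨a, hle a.2⟩ ⟨b, hle b.2⟩
  apply Subtype.ext
  simpa using congrArg Subtype.val this

/-- **S1361** relative to S1350, S1363, S1416, S1417, S1420, S1421. -/
theorem s1361_of (hG : Cfsg.IsMinSimpleOddOrder G) (h1350 : St1350 G) (h1363 : St1363 G)
    (h1416 : St1416 G) (h1417 : St1417 G) (h1420 : St1420 G) (h1421 : St1421 G)
    (M : Subgroup G) (hM : IsCoatom M) (K U : Subgroup G)
    (hKU : Cfsg.IsSigmaDecomposition M K U) (X : Subgroup G) (hXU : X ≤ U) (hX : X ≠ ⊥)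
    (hXc : Cfsg.sigmaCore M ⊓ Subgroup.centralizer (X : Set G) ≠ ⊥) :
    Subgroup.centralizer (X : Set G) ≤ M ∧
      ∀ L : Subgroup G, IsCoatom L → Subgroup.centralizer (X : Set G) ≤ L → L = M := by
  have hUM : U ≤ M := hKU.compl.1
  obtain ⟨y, hy1⟩ := (Subgroup.ne_bot_iff_exists_ne_one).mp hXc
  obtain ⟨y, hyσ, hyX⟩ : ∃ y' : G, y' ∈ Cfsg.sigmaCore M ∧ y' ∈ Subgroup.centralizer (X : Set G) ∧
      y' ≠ 1 := by
    refine ⟨(y : G), (Subgroup.mem_inf.mp y.2).1, (Subgroup.mem_inf.mp y.2).2, ?_⟩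
    intro h; exact hy1 (Subtype.ext h)
  obtain ⟨hyX, hy1⟩ := hyX
  have hcommy : ∀ x ∈ X, x * y = y * x := fun x hx =>
    (Subgroup.mem_centralizer_iff.mp hyX x hx)
  -- X is abelian
  have hXle : X ≤ Subgroup.closure ((U : Set G) ∩ Cfsg.sigmaHat M) := by
    intro x hx
    apply Subgroup.subset_closure
    exact ⟨hXU hx, hUM (hXU hx), y, hyσ, hy1, hcommy x hx⟩
  have hab := s1359_of hG h1350 h1363 h1421 M hM K U hKU
  have hcomm : ∀ a ∈ X, ∀ b ∈ X, a * b = b * a := by
    intro a ha b hb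
    have := hab.is_comm.comm ⟨a, hXle ha⟩ ⟨b, hXle hb⟩
    simpa using congrArg Subtype.val this
  have hXCX : X ≤ Subgroup.centralizer (X : Set G) := by
    intro a ha
    rw [Subgroup.mem_centralizer_iff]
    intro b hb
    exact hcomm b hb a ha
  -- primes of X are in τ₂
  have hτ : ∀ p : ℕ, p.Prime → p ∣ Nat.card X → p ∈ Cfsg.tau2 M := by
    intro p hp hpd
    haveI : Fact p.Prime := ⟨hp⟩
    obtain ⟨x, hx⟩ := exists_prime_orderOf_dvd_card' (G := ↥X) p hpd
    have hxo : orderOf (x : G) = p := by rw [Subgroup.orderOf_coe]; exact hx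
    have hx1 : (x : G) ≠ 1 := by
      intro h; rw [h, orderOf_one] at hxo; exact hp.one_lt.ne hxo
    have hxp : (x : G) ^ p = 1 := by rw [← hxo]; exact pow_orderOf_eq_one _
    have hpU : p ∣ Nat.card U := hpd.trans (Subgroup.card_dvd_of_le hXU)
    exact mem_tau2_of_fixed hG hM hp (not_mem_sigma_of_dvd_card_U hKU h1350 hM hp hpU)
      (not_mem_kappa_of_dvd_card_U hKU hp hpU) (hUM (hXU x.2)) hx1 hxp hyσ hy1 (hcommy x x.2)
  have h1420' := (h1420 M hM _ (complIn_sup hKU)).2.2.2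
  by_cases hcyc : IsCyclic ↥X
  · obtain ⟨x₀, hx₀⟩ := hcyc.exists_generator
    have hXz : ∀ x ∈ X, x ∈ Subgroup.zpowers (x₀ : G) := by
      intro x hx
      obtain ⟨i, hi⟩ := Subgroup.mem_zpowers_iff.mp (hx₀ ⟨x, hx⟩)
      refine ⟨i, ?_⟩
      simpa using congrArg Subtype.val hi
    have hx₀1 : (x₀ : G) ≠ 1 := by
      intro h
      apply hX
      rw [eq_bot_iff]
      intro x hx
      obtain ⟨i, hi⟩ := hXz x hx
      rw [Subgroup.mem_bot, ← hi]
      simp only
      rw [h, one_zpow]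
    have hord : orderOf (x₀ : G) ∣ Nat.card X := by
      rw [Subgroup.orderOf_coe]; exact orderOf_dvd_natCard _
    have hCeq : Subgroup.centralizer (X : Set G) = Subgroup.centralizer ({(x₀ : G)} : Set G) := by
      apply le_antisymm
      · apply Subgroup.centralizer_le
        intro a ha
        rw [Set.mem_singleton_iff] at ha
        rw [ha]; exact x₀.2
      · intro c hc
        rw [Subgroup.mem_centralizer_singleton_iff] at hc
        rw [Subgroup.mem_centralizer_iff]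
        intro x hx
        obtain ⟨i, rfl⟩ := hXz x hx
        show (x₀ : G) ^ i * c = c * (x₀ : G) ^ i
        exact (Commute.zpow_right hc i).eq.symm
    rw [hCeq]
    exact h1420' (x₀ : G) (hUM (hXU x₀.2)) hx₀1 (fun p hp hpd => hτ p hp (hpd.trans hord))
      ⟨hUM (hXU x₀.2), y, hyσ, hy1, hcommy _ x₀.2⟩
  · -- noncyclic: an elementary abelian subgroup of order p²
    have hXodd : Odd (Nat.card ↥X) :=
      Odd.of_dvd_nat hG.1 (Subgroup.card_subgroup_dvd_card X)
    have hnz : ¬ IsZGroup ↥X :=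
      not_isZGroup_of_comm (fun a b => Subtype.ext (hcomm a a.2 b b.2)) hcyc
    have hnr := Cfsg.Agent.Helper4.BG10.not_rankLE_one_of_not_isZGroup hXodd hnz
    unfold Cfsg.RankLE at hnr
    push Not at hnr
    obtain ⟨p, hp, hpr⟩ := hnr
    haveI : Fact p.Prime := ⟨hp⟩
    obtain ⟨A, hAX, hAe, hAc⟩ := Cfsg.Agent.Lead.TT.exists_elementary_of_not_pRankLE' 1 X hpr
    have hAM : A ≤ M := hAX.trans (hXU.trans hUM)
    have hpX : p ∣ Nat.card X := by
      have h1 : p ∣ Nat.card A := by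
        have h2 : p ∣ p ^ (1 + 1) := dvd_pow_self p (by norm_num)
        obtain ⟨k, hk⟩ := IsPGroup.iff_card.mp
          (show IsPGroup p A from fun a => ⟨1, by
            rw [pow_one]; apply Subtype.ext; rw [Subgroup.coe_pow]; exact hAe.2 a a.2⟩)
        rw [hk] at hAc ⊢
        have hk0 : k ≠ 0 := by
          rintro rfl
          rw [pow_zero] at hAc
          have := Nat.one_lt_pow (n := 1 + 1) (by norm_num) hp.one_lt
          omega
        exact dvd_pow_self p hk0
      exact h1.trans (Subgroup.card_dvd_of_le hAX)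
    have hpτ : p ∈ Cfsg.tau2 M := hτ p hp hpX
    have hAcard : Nat.card A = p ^ 2 := by
      apply le_antisymm
      · by_contra hlt
        push Not at hlt
        exact Cfsg.Agent.Lead.BG9.not_pRankLE_of_elementary hAM hAe hlt hpτ.2.2.1
      · simpa using hAc
    have hCA : Subgroup.centralizer (X : Set G) ≤ Subgroup.centralizer (A : Set G) :=
      Subgroup.centralizer_le hAX
    refine ⟨hCA.trans (h1416 M hM p A ⟨hAM, hAe, hAcard⟩).1, ?_⟩
    intro L hL hXL
    by_contra hne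
    obtain ⟨-, -, -, -, he, -⟩ := h1417 M hM p hpτ A ⟨hAM, hAe, hAcard⟩
    have h1 := he L hL hne ((hAX.trans hXCX).trans hXL)
    have h2 : y ∈ Cfsg.sigmaCore M ⊓ L := Subgroup.mem_inf.mpr ⟨hyσ, hXL hyX⟩
    rw [h1, Subgroup.mem_bot] at h2
    exact hy1 h2

end Cfsg.Agent.Helper18.BG16B
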