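import Mathlib
import Cfsg.Agent.Helper18.BG16Bd

/-!
# B&G Theorem B, part (3): S1360 relative to S1350, S1363, S1417, S1420, S1421.
-/

set_option autoImplicit false
set_option linter.unusedSectionVars false
set_option linter.unusedVariables false
set_option linter.style.haveILetI false

namespace Cfsg.Agent.Helper18.BG16B

open Subgroup Cfsg
open Cfsg.Agent.H9.BG12 (St1350 St1420 sigmaCore_le le_normalizer_sigmaCore
  mem_sigma_of_dvd_card_sigmaCore mem_of_map_cj_eq isComplement'_subgroupOf)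
open Cfsg.Agent.Helper21.BG10 (Uniq96 alpha_subset_sigma conj_mem_sigmaCore rank_one_sylow
  relIndex_map_subtype not_pRankLE_of_relIndex exists_coatom_normalizer_le)

universe u
variable {G : Type u} [Group G] [Finite G]

/-- elements of `⟨g⟩` killed by `q ∣ o(g)` are powers of `g ^ (o(g)/q)` -/
theorem mem_zpowers_pow_div {g w : G} {q : ℕ} (hq : q ∣ orderOf g) (hq0 : 0 < q)
    (hw : w ∈ Subgroup.zpowers g) (hwq : w ^ q = 1) :
    w ∈ Subgroup.zpowers (g ^ (orderOf g / q)) := by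
  obtain ⟨i, rfl⟩ := Subgroup.mem_zpowers_iff.mp hw
  have h1 : g ^ (i * (q : ℤ)) = 1 := by
    rw [zpow_mul, zpow_natCast]; exact hwq
  have h2 : (orderOf g : ℤ) ∣ i * (q : ℤ) := orderOf_dvd_iff_zpow_eq_one.mpr h1
  have h3 : orderOf g = orderOf g / q * q := (Nat.div_mul_cancel hq).symm
  have h4 : ((orderOf g / q : ℕ) : ℤ) * (q : ℤ) ∣ i * (q : ℤ) := by
    have : ((orderOf g / q : ℕ) : ℤ) * (q : ℤ) = (orderOf g : ℤ) := by
      rw [← Nat.cast_mul, ← h3]
    rw [this]; exact h2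
  have hq0' : (q : ℤ) ≠ 0 := by exact_mod_cast hq0.ne'
  obtain ⟨j, hj⟩ := Int.dvd_of_mul_dvd_mul_right hq0' h4
  refine Subgroup.mem_zpowers_iff.mpr ⟨j, ?_⟩
  rw [hj, zpow_mul, zpow_natCast]

/-- a cyclic `p`-group meets a subgroup trivially if its subgroup of order `p` does -/
theorem zpowers_inf_eq_bot_of_pow {p : ℕ} (hp : p.Prime) {x : G} {k : ℕ} (hx : orderOf x = p ^ k)
    (C : Subgroup G) (hC : x ^ (orderOf x / p) ∉ C) : Subgroup.zpowers x ⊓ C = ⊥ := by
  rw [eq_bot_iff]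
  rintro v ⟨hv1, hv2⟩
  have hv1' : v ∈ Subgroup.zpowers x := hv1
  have hv2' : v ∈ C := hv2
  rw [Subgroup.mem_bot]
  by_contra hv
  have hov : orderOf v ∣ p ^ k := by
    rw [← hx]; exact orderOf_dvd_of_mem_zpowers hv1'
  obtain ⟨m, hm, hvm⟩ := (Nat.dvd_prime_pow hp).mp hov
  have hm0 : m ≠ 0 := by
    rintro rfl
    rw [pow_zero, orderOf_eq_one_iff] at hvm
    exact hv hvm
  have hpv : p ∣ orderOf v := by rw [hvm]; exact dvd_pow_self p hm0
  have hpx : p ∣ orderOf x := hpv.trans (orderOf_dvd_of_mem_zpowers hv1')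
  set v' := v ^ (orderOf v / p) with hv'
  have hov' : orderOf v' = p := orderOf_pow_orderOf_div (orderOf_pos v).ne' hpv
  have hv'p : v' ^ p = 1 := by rw [← hov']; exact pow_orderOf_eq_one v'
  have hv'x : v' ∈ Subgroup.zpowers x := Subgroup.pow_mem _ hv1' _
  have hv'C : v' ∈ C := Subgroup.pow_mem _ hv2' _
  have h1 := mem_zpowers_pow_div hpx hp.pos hv'x hv'p
  set h := x ^ (orderOf x / p) with hh
  have hoh : orderOf h = p := orderOf_pow_orderOf_div (orderOf_pos x).ne' hpx
  have hle : Subgroup.zpowers v' ≤ Subgroup.zpowers h := Subgroup.zpowers_le.mpr h1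
  have heq : Subgroup.zpowers v' = Subgroup.zpowers h := by
    apply Subgroup.eq_of_le_of_card_ge hle
    rw [Nat.card_zpowers, Nat.card_zpowers, hoh, hov']
  have : h ∈ Subgroup.zpowers v' := by rw [heq]; exact Subgroup.mem_zpowers h
  exact hC ((Subgroup.zpowers_le.mpr hv'C) this)

/-- coprime join of cyclic groups meeting a subgroup trivially -/
theorem zpowers_mul_inf_eq_bot {a b : G} (hab : Commute a b)
    (hco : (orderOf a).Coprime (orderOf b)) (C : Subgroup G)
    (ha : Subgroup.zpowers a ⊓ C = ⊥) (hb : Subgroup.zpowers b ⊓ C = ⊥) :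
    Subgroup.zpowers (a * b) ⊓ C = ⊥ := by
  rw [eq_bot_iff]
  rintro u ⟨hu1, hu2⟩
  have hu1' : u ∈ Subgroup.zpowers (a * b) := hu1
  have hu2' : u ∈ C := hu2
  rw [Subgroup.mem_bot]
  obtain ⟨i, rfl⟩ := Subgroup.mem_zpowers_iff.mp hu1'
  have hcomm : Commute (a ^ i) (b ^ i) := (hab.zpow_left i).zpow_right i
  have e0 : (a * b) ^ i = a ^ i * b ^ i := hab.mul_zpow i
  -- power by o(b)
  have e1 : ((a * b) ^ i) ^ orderOf b = (a ^ i) ^ orderOf b := by
    rw [e0, hcomm.mul_pow]
    have : (b ^ i) ^ orderOf b = 1 := by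
      rw [← zpow_natCast, ← zpow_mul, mul_comm, zpow_mul, zpow_natCast, pow_orderOf_eq_one, one_zpow]
    rw [this, mul_one]
  have e2 : ((a * b) ^ i) ^ orderOf a = (b ^ i) ^ orderOf a := by
    rw [e0, hcomm.mul_pow]
    have : (a ^ i) ^ orderOf a = 1 := by
      rw [← zpow_natCast, ← zpow_mul, mul_comm, zpow_mul, zpow_natCast, pow_orderOf_eq_one, one_zpow]
    rw [this, one_mul]
  have h1 : ((a * b) ^ i) ^ orderOf b = 1 := by
    have hm : ((a * b) ^ i) ^ orderOf b ∈ Subgroup.zpowers a ⊓ C := by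
      refine Subgroup.mem_inf.mpr ⟨?_, Subgroup.pow_mem _ hu2' _⟩
      rw [e1]
      exact Subgroup.pow_mem _ (Subgroup.zpow_mem _ (Subgroup.mem_zpowers a) i) _
    rwa [ha, Subgroup.mem_bot] at hm
  have h2 : ((a * b) ^ i) ^ orderOf a = 1 := by
    have hm : ((a * b) ^ i) ^ orderOf a ∈ Subgroup.zpowers b ⊓ C := by
      refine Subgroup.mem_inf.mpr ⟨?_, Subgroup.pow_mem _ hu2' _⟩
      rw [e2]
      exact Subgroup.pow_mem _ (Subgroup.zpow_mem _ (Subgroup.mem_zpowers b) i) _
    rwa [hb, Subgroup.mem_bot] at hm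
  have d1 := orderOf_dvd_of_pow_eq_one h1
  have d2 := orderOf_dvd_of_pow_eq_one h2
  have d3 : orderOf ((a * b) ^ i) ∣ 1 := by
    have := Nat.dvd_gcd d2 d1
    rwa [hco.gcd_eq_one] at this
  exact orderOf_eq_one_iff.mp (Nat.dvd_one.mp d3)


/-- **per-prime lemma**: for `p ∉ σ(M) ∪ κ(M)`, a Sylow `p`-subgroup of `M` has an element `x` of
maximal order such that the element of order `p` of `⟨x⟩` acts freely on `M_σ`. -/
theorem exists_max_free (hG : Cfsg.IsMinSimpleOddOrder G) (h1417 : St1417 G)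
    {M : Subgroup G} (hM : IsCoatom M)
    (h1420' : ∀ x ∈ M, x ≠ 1 → (∀ p : ℕ, p.Prime → p ∣ orderOf x → p ∈ Cfsg.tau2 M) →
      x ∈ Cfsg.sigmaHat M → Subgroup.centralizer ({x} : Set G) ≤ M ∧
        ∀ L : Subgroup G, IsCoatom L → Subgroup.centralizer ({x} : Set G) ≤ L → L = M)
    {p : ℕ} [hp : Fact p.Prime] (hpM : p ∣ Nat.card M)
    (hpσ : p ∉ Cfsg.sigma M) (hpκ : p ∉ Cfsg.kappa M) (P : Sylow p M) :
    ∃ x ∈ (P : Subgroup M).map M.subtype, x ≠ 1 ∧
      (∀ v ∈ (P : Subgroup M).map M.subtype, orderOf v ∣ orderOf x) ∧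
      Cfsg.sigmaCore M ⊓ Subgroup.centralizer ({x ^ (orderOf x / p)} : Set G) = ⊥ := by
  have hpp : p.Prime := hp.out
  have hp2 : p ≠ 2 := prime_ne_two hG hpM
  set Q : Subgroup G := (P : Subgroup M).map M.subtype with hQ
  have hQM : Q ≤ M := Subgroup.map_subtype_le _
  have hQp : IsPGroup p Q := P.isPGroup'.map _
  have hP1 : (P : Subgroup M) ≠ ⊥ := Sylow.ne_bot_of_dvd_card P hpM
  have hpow : ∀ v ∈ Q, ∃ i : ℕ, orderOf v = p ^ i := by
    intro v hv
    obtain ⟨i, hi⟩ := (IsPGroup.iff_orderOf.mp hQp) ⟨v, hv⟩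
    rw [Subgroup.orderOf_mk] at hi
    exact ⟨i, hi⟩
  -- an element of maximal order
  obtain ⟨g₀, hg₀⟩ := Finite.exists_max (fun v : Q => orderOf (v : G))
  set g : G := (g₀ : G) with hg
  have hgQ : g ∈ Q := g₀.2
  have hmax : ∀ v ∈ Q, orderOf v ∣ orderOf g := by
    intro v hv
    obtain ⟨i, hi⟩ := hpow v hv
    obtain ⟨j, hj⟩ := hpow g hgQ
    have hle : orderOf v ≤ orderOf g := hg₀ ⟨v, hv⟩
    rw [hi, hj] at hle ⊢
    exact pow_dvd_pow p ((Nat.pow_le_pow_iff_right hpp.one_lt).mp hle)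
  have hg1 : g ≠ 1 := by
    intro h
    obtain ⟨v₀, hv₀⟩ := (Subgroup.ne_bot_iff_exists_ne_one).mp hP1
    have hvQ : ((v₀ : M) : G) ∈ Q := ⟨(v₀ : M), v₀.2, rfl⟩
    have h1 := hmax _ hvQ
    rw [h, orderOf_one, Nat.dvd_one, orderOf_eq_one_iff] at h1
    apply hv₀
    apply Subtype.ext
    apply Subtype.ext
    simpa using h1
  obtain ⟨j, hj⟩ := hpow g hgQ
  have hj0 : j ≠ 0 := by
    rintro rfl
    rw [pow_zero, orderOf_eq_one_iff] at hj
    exact hg1 hj
  obtain ⟨j', rfl⟩ := Nat.exists_eq_succ_of_ne_zero hj0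
  have hpn : p ∣ orderOf g := by rw [hj]; exact dvd_pow_self p hj0
  have hk : orderOf g / p = p ^ j' := by
    rw [hj, Nat.succ_eq_add_one, pow_succ, Nat.mul_div_cancel _ hpp.pos]
  set z : G := g ^ (orderOf g / p) with hz
  have hzo : orderOf z = p := orderOf_pow_orderOf_div (orderOf_pos g).ne' hpn
  have hz1 : z ≠ 1 := by
    intro h; rw [h, orderOf_one] at hzo; exact hpp.one_lt.ne hzo
  have hzp : z ^ p = 1 := by rw [← hzo]; exact pow_orderOf_eq_one z
  have hzQ : z ∈ Q := Subgroup.pow_mem _ hgQ _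
  have hzM : z ∈ M := hQM hzQ
  by_cases h1 : Cfsg.PRankLE p 1 ↥M
  · exact ⟨g, hgQ, hg1, hmax, fpf_of_rank_one_not_kappa hp2 hpM hpσ hpκ h1 hzM hz1 hzp⟩
  · by_contra hcon
    push Not at hcon
    have hr2 : Cfsg.PRankLE p 2 ↥M := by
      by_contra h
      exact hpσ (alpha_subset_sigma hG (uniq96 hG) hM ⟨hpp, h⟩)
    have hτ : p ∈ Cfsg.tau2 M := ⟨hpp, hpσ, hr2, h1⟩
    have hidx : ¬ p ∣ Q.relIndex M := by
      rw [hQ, relIndex_map_subtype]; exact P.not_dvd_index
    have hrS : ¬ Cfsg.PRankLE p 1 ↥Q := not_pRankLE_of_relIndex hQM hQp hidx h1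
    obtain ⟨A, hAS, hAe, hAc⟩ := Cfsg.Agent.Lead.TT.exists_elementary_of_not_pRankLE' 1 _ hrS
    have hAM : A ≤ M := hAS.trans hQM
    have hAcard : Nat.card A = p ^ 2 := by
      apply le_antisymm
      · by_contra hlt
        push Not at hlt
        exact Cfsg.Agent.Lead.BG9.not_pRankLE_of_elementary hAM hAe hlt hr2
      · simpa using hAc
    obtain ⟨-, hPstruct, -, -, -, A₁, hA₁A, hA₁c, hA₁f⟩ := h1417 M hM p hτ A ⟨hAM, hAe, hAcard⟩
    obtain ⟨hPc, hP2⟩ := hPstruct P
    obtain ⟨hΩ, hNQ⟩ := hP2 hAS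
    -- commutativity of Q
    have hcomm : ∀ a ∈ Q, ∀ b ∈ Q, a * b = b * a := by
      rintro _ ⟨a₀, ha₀, rfl⟩ _ ⟨b₀, hb₀, rfl⟩
      have := hPc.is_comm.comm ⟨a₀, ha₀⟩ ⟨b₀, hb₀⟩
      have h2 := congrArg (fun t : (P : Subgroup M) => ((t : M) : G)) this
      simpa using h2
    -- every x ∈ Q with x ^ k ≠ 1 has a fixed point
    have claim1 : ∀ x ∈ Q, x ^ (orderOf g / p) ≠ 1 →
        ∃ y ∈ Cfsg.sigmaCore M, y ≠ 1 ∧ x ^ (orderOf g / p) * y = y * x ^ (orderOf g / p) := by
      intro x hx hxk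
      have hx1 : x ≠ 1 := by
        rintro rfl; exact hxk (one_pow _)
      have hox : orderOf x = orderOf g := by
        obtain ⟨i, hi⟩ := hpow x hx
        have hdvd := hmax x hx
        rw [hi, hj] at hdvd
        have hile : i ≤ j' + 1 := (Nat.pow_dvd_pow_iff_le_right hpp.one_lt).mp hdvd
        rcases Nat.lt_or_ge i (j' + 1) with hlt | hge
        · exfalso
          apply hxk
          rw [hk]
          apply orderOf_dvd_iff_pow_eq_one.mp
          rw [hi]
          exact pow_dvd_pow p (Nat.lt_succ_iff.mp hlt)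
        · rw [hi, hj, le_antisymm hile hge]
      have h3 := hcon x hx hx1 (fun v hv => by rw [hox]; exact hmax v hv)
      rw [hox] at h3
      obtain ⟨y, hy1⟩ := (Subgroup.ne_bot_iff_exists_ne_one).mp h3
      refine ⟨(y : G), (Subgroup.mem_inf.mp y.2).1, fun h => hy1 (Subtype.ext h), ?_⟩
      have := (Subgroup.mem_inf.mp y.2).2
      rw [Subgroup.mem_centralizer_singleton_iff] at this
      exact this.symm
    -- the free subgroup A₁
    haveI : IsCyclic ↥A₁ := isCyclic_of_prime_card hA₁c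
    obtain ⟨a₁', ha₁'⟩ := IsCyclic.exists_generator (α := ↥A₁)
    set a₁ : G := (a₁' : G) with ha₁
    have ha₁A : a₁ ∈ A := hA₁A a₁'.2
    have ha₁Q : a₁ ∈ Q := hAS ha₁A
    have hfree : ∀ y ∈ Cfsg.sigmaCore M, y ≠ 1 → a₁ * y ≠ y * a₁ := by
      intro y hy hy1 hcom
      apply hy1
      have : y ∈ Cfsg.sigmaCore M ⊓ Subgroup.centralizer (A₁ : Set G) := by
        refine Subgroup.mem_inf.mpr ⟨hy, ?_⟩
        rw [Subgroup.mem_centralizer_iff]
        intro b hb
        obtain ⟨i, hi⟩ := Subgroup.mem_zpowers_iff.mp (ha₁' ⟨b, hb⟩)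
        have hb' : b = a₁ ^ i := by
          have := congrArg Subtype.val hi
          simpa using this.symm
        rw [hb']
        have hc : Commute a₁ y := hcom
        exact (hc.zpow_left i).eq
      rwa [hA₁f, Subgroup.mem_bot] at this
    have ha₁1 : a₁ ≠ 1 := by
      intro h
      have hA₁bot : A₁ = ⊥ := by
        rw [eq_bot_iff]
        intro b hb
        obtain ⟨i, hi⟩ := Subgroup.mem_zpowers_iff.mp (ha₁' ⟨b, hb⟩)
        have hb' : b = a₁ ^ i := by
          have := congrArg Subtype.val hi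
          simpa using this.symm
        rw [Subgroup.mem_bot, hb', h, one_zpow]
      rw [hA₁bot, Subgroup.card_bot] at hA₁c
      exact hpp.one_lt.ne hA₁c
    have claim2 : ∀ x ∈ Q, x ^ (orderOf g / p) ≠ a₁ := by
      intro x hx hxa
      obtain ⟨y, hy, hy1, hxy⟩ := claim1 x hx (by rw [hxa]; exact ha₁1)
      rw [hxa] at hxy
      exact hfree y hy hy1 hxy
    -- Z = ⟨z⟩
    have hzA : z ∈ A := (hΩ z hzQ).mp hzp
    set Z : Subgroup G := Subgroup.zpowers z with hZ
    have hZcard : Nat.card Z = p := by rw [hZ, Nat.card_zpowers, hzo]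
    have claim3 : ∀ x ∈ Q, x ^ (orderOf g / p) ∈ Z := by
      intro x hx
      by_contra hw
      set w : G := x ^ (orderOf g / p) with hw'
      have hwQ : w ∈ Q := Subgroup.pow_mem _ hx _
      have hwp : w ^ p = 1 := by
        rw [hw', ← pow_mul, Nat.div_mul_cancel hpn]
        exact orderOf_dvd_iff_pow_eq_one.mp (hmax x hx)
      have hwA : w ∈ A := (hΩ w hwQ).mp hwp
      set B : Subgroup G := Z ⊔ Subgroup.zpowers w with hB
      have hBA : B ≤ A := sup_le (Subgroup.zpowers_le.mpr hzA) (Subgroup.zpowers_le.mpr hwA)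
      have hZB : Z ≤ B := le_sup_left
      have hwB : w ∈ B := (le_sup_right : Subgroup.zpowers w ≤ B) (Subgroup.mem_zpowers w)
      have hBd : Nat.card B ∣ p ^ 2 := by rw [← hAcard]; exact Subgroup.card_dvd_of_le hBA
      obtain ⟨i, hi, hBi⟩ := (Nat.dvd_prime_pow hpp).mp hBd
      have hpB : p ∣ Nat.card B := by rw [← hZcard]; exact Subgroup.card_dvd_of_le hZB
      have hi2 : i = 2 := by
        interval_cases i
        · rw [hBi, pow_zero, Nat.dvd_one] at hpB
          exact absurd hpB hpp.one_lt.ne'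
        · exfalso
          have : Z = B := Subgroup.eq_of_le_of_card_ge hZB (by rw [hBi, hZcard, pow_one])
          apply hw
          rw [this]; exact hwB
        · rfl
      have hBeq : B = A := Subgroup.eq_of_le_of_card_ge hBA (by rw [hBi, hAcard, hi2])
      have ha₁B : a₁ ∈ Z ⊔ Subgroup.zpowers w := by rw [← hB, hBeq]; exact ha₁A
      have hnorm : Subgroup.zpowers w ≤ Subgroup.normalizer (Z : Set G) := by
        refine le_trans ?_ (Subgroup.centralizer_le_normalizer (Z : Set G))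
        rw [Subgroup.zpowers_le, Subgroup.mem_centralizer_iff]
        intro s hs
        obtain ⟨i, rfl⟩ := Subgroup.mem_zpowers_iff.mp hs
        have hc : Commute z w := hcomm z hzQ w hwQ
        exact (hc.zpow_left i).eq
      rw [Cfsg.Agent.Helper7.mem_sup_of_le_normalizer hnorm] at ha₁B
      obtain ⟨s, hs, t, ht, hst⟩ := ha₁B
      obtain ⟨i, rfl⟩ := Subgroup.mem_zpowers_iff.mp hs
      obtain ⟨l, rfl⟩ := Subgroup.mem_zpowers_iff.mp ht
      apply claim2 (g ^ i * x ^ l) (Subgroup.mul_mem _ (Subgroup.zpow_mem _ hgQ i)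
        (Subgroup.zpow_mem _ hx l))
      have hc : Commute (g ^ i) (x ^ l) :=
        hcomm _ (Subgroup.zpow_mem _ hgQ i) _ (Subgroup.zpow_mem _ hx l)
      rw [hc.mul_pow, ← hst, hz, hw']
      congr 1
      · rw [← zpow_natCast, ← zpow_mul, mul_comm, zpow_mul, zpow_natCast]
      · rw [← zpow_natCast, ← zpow_mul, mul_comm, zpow_mul, zpow_natCast]
    -- N(Q) ≤ N(Z)
    have claim4 : Subgroup.normalizer (Q : Set G) ≤ Subgroup.normalizer (Z : Set G) := by
      apply Cfsg.Agent.Helper14.le_normalizer_of_map_cj_le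
      rintro t ht _ ⟨s, hs, rfl⟩
      obtain ⟨i, rfl⟩ := Subgroup.mem_zpowers_iff.mp hs
      rw [map_zpow]
      apply Subgroup.zpow_mem
      rw [Cfsg.Agent.Helper14.cj_apply, hz, ← conj_pow]
      apply claim3
      exact (Subgroup.mem_normalizer_iff.mp ht g).mp hgQ
    -- z ∈ σ̂(M)
    obtain ⟨y, hy, hy1, hzy⟩ := claim1 g hgQ hz1
    have hzσ : z ∈ Cfsg.sigmaHat M := ⟨hzM, y, hy, hy1, hzy⟩
    obtain ⟨hCM, huniq⟩ := h1420' z hzM hz1 (fun q hq hqd => by
      rw [hzo] at hqd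
      rw [(Nat.prime_dvd_prime_iff_eq hq hpp).mp hqd]; exact hτ) hzσ
    have hZ1 : Z ≠ ⊥ := by
      intro h
      have : z ∈ Z := Subgroup.mem_zpowers z
      rw [h, Subgroup.mem_bot] at this
      exact hz1 this
    have hZt : Z ≠ ⊤ := by
      intro h
      apply hM.1
      rw [eq_top_iff, ← h]
      exact Subgroup.zpowers_le.mpr hzM
    obtain ⟨L, hL, hNL⟩ := exists_coatom_normalizer_le hG.2.1 hZ1 hZt
    have hCN : Subgroup.centralizer ({z} : Set G) ≤ Subgroup.normalizer (Z : Set G) := by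
      apply Cfsg.Agent.Helper14.le_normalizer_of_map_cj_le
      rintro c hc _ ⟨s, hs, rfl⟩
      obtain ⟨i, rfl⟩ := Subgroup.mem_zpowers_iff.mp hs
      rw [map_zpow]
      apply Subgroup.zpow_mem
      rw [Cfsg.Agent.Helper14.cj_apply]
      rw [Subgroup.mem_centralizer_singleton_iff] at hc
      rw [hc, mul_inv_cancel_right]
      exact Subgroup.mem_zpowers z
    have hLM : L = M := huniq L hL (hCN.trans hNL)
    have hfin := claim4.trans hNL
    rw [hLM] at hfin
    exact hNQ hfin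


/-- `|M_σ K| = |M_σ| |K|` -/
theorem card_sigmaCore_sup {M K U : Subgroup G} (hKU : Cfsg.IsSigmaDecomposition M K U) :
    Nat.card ↥(Cfsg.sigmaCore M ⊔ K) = Nat.card (Cfsg.sigmaCore M) * Nat.card K := by
  have hKM : K ≤ M := hKU.hall.1
  have hKσ : K ≤ normalizer (Cfsg.sigmaCore M : Set G) := hKM.trans (le_normalizer_sigmaCore M)
  have hc : Cfsg.IsComplIn (Cfsg.sigmaCore M) K (Cfsg.sigmaCore M ⊔ K) := by
    refine ⟨le_sup_left, le_sup_right, ?_, ?_⟩
    · rw [inf_comm]; exact K_inf_sigmaCore hKU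
    · intro m hm
      rw [Cfsg.Agent.Helper7.mem_sup_of_le_normalizer hKσ] at hm
      obtain ⟨a, ha, b, hb, hab⟩ := hm
      exact ⟨a, ha, b, hb, hab.symm⟩
  have h1 := (isComplement'_subgroupOf hc).card_mul_card
  have h2 : Nat.card ((Cfsg.sigmaCore M).subgroupOf (Cfsg.sigmaCore M ⊔ K)) =
      Nat.card (Cfsg.sigmaCore M) :=
    Nat.card_congr (Subgroup.subgroupOfEquivOfLe le_sup_left).toEquiv
  have h3 : Nat.card (K.subgroupOf (Cfsg.sigmaCore M ⊔ K)) = Nat.card K :=
    Nat.card_congr (Subgroup.subgroupOfEquivOfLe le_sup_right).toEquiv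
  rw [h2, h3] at h1
  exact h1.symm

/-- for `p ∉ σ(M) ∪ κ(M)`, `U` contains a Sylow `p`-subgroup of `M` -/
theorem exists_sylow_le_U {M K U : Subgroup G} (hKU : Cfsg.IsSigmaDecomposition M K U)
    {p : ℕ} [hp : Fact p.Prime] (hpσ : p ∉ Cfsg.sigma M) (hpκ : p ∉ Cfsg.kappa M) :
    ∃ P : Sylow p M, (P : Subgroup M).map M.subtype ≤ U := by
  have hpp : p.Prime := hp.out
  have hUM : U ≤ M := hKU.compl.1
  obtain ⟨PU⟩ : Nonempty (Sylow p ↥U) := inferInstance
  set QU : Subgroup G := (PU : Subgroup U).map U.subtype with hQU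
  have hQUU : QU ≤ U := Subgroup.map_subtype_le _
  have hQUp : IsPGroup p QU := PU.isPGroup'.map _
  have hQp : IsPGroup p (QU.subgroupOf M) := hQUp.comap_subtype
  have h1 : QU.relIndex U * U.relIndex M = QU.relIndex M :=
    Subgroup.relIndex_mul_relIndex QU U M hQUU hUM
  have h2 : ¬ p ∣ QU.relIndex U := by
    rw [hQU, relIndex_map_subtype]; exact PU.not_dvd_index
  have h3 : U.relIndex M = Nat.card ↥(Cfsg.sigmaCore M ⊔ K) := by
    have hc := (isComplement'_subgroupOf hKU.compl).symm.index_eq_card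
    unfold Subgroup.relIndex
    rw [hc, sup_comm]
    exact Nat.card_congr (Subgroup.subgroupOfEquivOfLe (sup_le (sigmaCore_le M) hKU.hall.1)).toEquiv
  have h4 : ¬ p ∣ U.relIndex M := by
    rw [h3, card_sigmaCore_sup hKU]
    intro h
    rcases (Nat.Prime.dvd_mul hpp).mp h with h | h
    · exact hpσ (mem_sigma_of_dvd_card_sigmaCore hpp h)
    · exact hpκ (hKU.hall.2.1 p hpp h)
  have hidx : ¬ p ∣ (QU.subgroupOf M).index := by
    show ¬ p ∣ QU.relIndex M
    rw [← h1]
    intro h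
    rcases (Nat.Prime.dvd_mul hpp).mp h with h | h
    · exact h2 h
    · exact h4 h
  refine ⟨hQp.toSylow hidx, ?_⟩
  rw [IsPGroup.toSylow_coe, Subgroup.map_subgroupOf_eq_of_le (hQUU.trans hUM)]
  exact hQUU

/-- **S1360** relative to S1350, S1363, S1417, S1420, S1421. -/
theorem s1360_of (hG : Cfsg.IsMinSimpleOddOrder G) (h1350 : St1350 G) (h1363 : St1363 G)
    (h1417 : St1417 G) (h1420 : St1420 G) (h1421 : St1421 G)
    (M : Subgroup G) (hM : IsCoatom M) (K U : Subgroup G)
    (hKU : Cfsg.IsSigmaDecomposition M K U) :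
    ∃ U₀ : Subgroup G, U₀ ≤ U ∧ Monoid.exponent U₀ = Monoid.exponent U ∧
      ∀ u ∈ U₀, u ∈ Cfsg.sigmaHat M → u = 1 := by
  have hUM : U ≤ M := hKU.compl.1
  by_cases hK : K = ⊥
  · have hE : Cfsg.IsComplIn U (Cfsg.sigmaCore M) M := by
      have := complIn_sup hKU
      rwa [hK, sup_bot_eq] at this
    obtain ⟨-, E₀, hE₀U, hexp, hfree⟩ := h1421 M hM U hE (fpf_tau13_U hG h1350 hM hKU)
    refine ⟨E₀, hE₀U, hexp, ?_⟩
    rintro u hu ⟨-, y, hy, hy1, huy⟩
    by_contra hu1
    have h1 := hfree u hu hu1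
    have hy' : y ∈ Cfsg.sigmaCore M ⊓ Subgroup.centralizer ({u} : Set G) := by
      refine Subgroup.mem_inf.mpr ⟨hy, ?_⟩
      rw [Subgroup.mem_centralizer_singleton_iff]
      exact huy.symm
    rw [h1, Subgroup.mem_bot] at hy'
    exact hy1 hy'
  · obtain ⟨hUc, -⟩ := h1363 M hM K U hKU hK
    have hcommU : ∀ a ∈ U, ∀ b ∈ U, a * b = b * a := by
      intro a ha b hb
      have := hUc.is_comm.comm ⟨a, ha⟩ ⟨b, hb⟩
      simpa using congrArg Subtype.val this
    have h1420' := (h1420 M hM _ (complIn_sup hKU)).2.2.2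
    set S : Finset ℕ := (Nat.card U).primeFactors with hS
    have hx : ∀ p ∈ S, ∃ x : G, x ∈ U ∧ (∃ k : ℕ, orderOf x = p ^ k) ∧
        (∀ v ∈ U, (∃ k : ℕ, orderOf v = p ^ k) → orderOf v ∣ orderOf x) ∧
        ∀ y ∈ Cfsg.sigmaCore M, y ≠ 1 →
          Subgroup.zpowers x ⊓ Subgroup.centralizer ({y} : Set G) = ⊥ := by
      intro p hpS
      have hpp : p.Prime := Nat.prime_of_mem_primeFactors hpS
      have hpU : p ∣ Nat.card U := Nat.dvd_of_mem_primeFactors hpS
      haveI : Fact p.Prime := ⟨hpp⟩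
      have hpσ := not_mem_sigma_of_dvd_card_U hKU h1350 hM hpp hpU
      have hpκ := not_mem_kappa_of_dvd_card_U hKU hpp hpU
      have hpM : p ∣ Nat.card M := hpU.trans (Subgroup.card_dvd_of_le hUM)
      obtain ⟨P, hPU⟩ := exists_sylow_le_U hKU hpσ hpκ
      obtain ⟨x, hxQ, hx1, hmax, hfree⟩ := exists_max_free hG h1417 hM h1420' hpM hpσ hpκ P
      have hQp : IsPGroup p ((P : Subgroup M).map M.subtype) := P.isPGroup'.map _
      have hxk : ∃ k : ℕ, orderOf x = p ^ k := by
        obtain ⟨i, hi⟩ := (IsPGroup.iff_orderOf.mp hQp) ⟨x, hxQ⟩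
        rw [Subgroup.orderOf_mk] at hi
        exact ⟨i, hi⟩
      refine ⟨x, hPU hxQ, hxk, ?_, ?_⟩
      · rintro v hvU ⟨k, hvk⟩
        set v₀ : M := ⟨v, hUM hvU⟩ with hv₀
        have hv₀o : orderOf v₀ = p ^ k := by rw [hv₀, Subgroup.orderOf_mk]; exact hvk
        have hZp : IsPGroup p (Subgroup.zpowers v₀) := by
          apply IsPGroup.of_card (n := k)
          rw [Nat.card_zpowers, hv₀o]
        obtain ⟨P', hP'⟩ := hZp.exists_le_sylow
        have hv₀P' : v₀ ∈ (P' : Subgroup M) := hP' (Subgroup.mem_zpowers v₀)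
        obtain ⟨m, hm⟩ := MulAction.exists_smul_eq M P' P
        have hx₁ : m * v₀ * m⁻¹ ∈ (P : Subgroup M) := by
          rw [← hm, Sylow.coe_subgroup_smul, Subgroup.mem_pointwise_smul_iff_inv_smul_mem]
          have h3 : (MulAut.conj m)⁻¹ • (m * v₀ * m⁻¹) = v₀ := by
            rw [MulAut.smul_def, MulAut.inv_apply, MulAut.conj_symm_apply]; group
          rw [h3]; exact hv₀P'
        have hmem : (m : G) * v * (m : G)⁻¹ ∈ (P : Subgroup M).map M.subtype :=
          ⟨m * v₀ * m⁻¹, hx₁, by simp [hv₀]⟩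
        have h4 := hmax _ hmem
        have h5 : orderOf ((m : G) * v * (m : G)⁻¹) = orderOf v := by
          have := (MulAut.conj (m : G)).orderOf_eq v
          rwa [MulAut.conj_apply] at this
        rwa [h5] at h4
      · intro y hy hy1
        obtain ⟨k, hk⟩ := hxk
        apply zpowers_inf_eq_bot_of_pow hpp hk
        intro hmem
        rw [Subgroup.mem_centralizer_singleton_iff] at hmem
        have hy' : y ∈ Cfsg.sigmaCore M ⊓
            Subgroup.centralizer ({x ^ (orderOf x / p)} : Set G) := by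
          refine Subgroup.mem_inf.mpr ⟨hy, ?_⟩
          rw [Subgroup.mem_centralizer_singleton_iff]
          exact hmem.symm
        rw [hfree, Subgroup.mem_bot] at hy'
        exact hy1 hy'
    choose! x hx using hx
    have key : ∀ T : Finset ℕ, T ⊆ S → ∃ g : G, g ∈ U ∧
        orderOf g = ∏ p ∈ T, orderOf (x p) ∧
        ∀ y ∈ Cfsg.sigmaCore M, y ≠ 1 →
          Subgroup.zpowers g ⊓ Subgroup.centralizer ({y} : Set G) = ⊥ := by
      intro T
      induction T using Finset.induction_on with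
      | empty =>
        intro _
        refine ⟨1, U.one_mem, by simp, fun y _ _ => ?_⟩
        rw [Subgroup.zpowers_one_eq_bot, bot_inf_eq]
      | insert p T hpT ih =>
        intro hsub
        obtain ⟨g, hgU, hgo, hgf⟩ := ih ((Finset.subset_insert p T).trans hsub)
        have hpS : p ∈ S := hsub (Finset.mem_insert_self p T)
        have hpp : p.Prime := Nat.prime_of_mem_primeFactors hpS
        obtain ⟨hxU, ⟨k, hxk⟩, hxmax, hxf⟩ := hx p hpS
        have hcom : Commute (x p) g := hcommU _ hxU _ hgU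
        have hco : (orderOf (x p)).Coprime (orderOf g) := by
          rw [hgo]
          apply Nat.Coprime.prod_right
          intro q hq
          have hqS : q ∈ S := hsub (Finset.mem_insert_of_mem hq)
          have hqp : q.Prime := Nat.prime_of_mem_primeFactors hqS
          obtain ⟨-, ⟨kq, hxq⟩, -, -⟩ := hx q hqS
          rw [hxk, hxq]
          apply Nat.Coprime.pow
          apply (Nat.coprime_primes hpp hqp).mpr
          rintro rfl
          exact hpT hq
        refine ⟨x p * g, U.mul_mem hxU hgU, ?_, ?_⟩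
        · rw [hcom.orderOf_mul_eq_mul_orderOf_of_coprime hco, Finset.prod_insert hpT, hgo]
        · intro y hy hy1
          exact zpowers_mul_inf_eq_bot hcom hco _ (hxf y hy hy1) (hgf y hy hy1)
    obtain ⟨g, hgU, hgo, hgf⟩ := key S (Finset.Subset.refl S)
    refine ⟨Subgroup.zpowers g, Subgroup.zpowers_le.mpr hgU, ?_, ?_⟩
    · have e1 : Monoid.exponent ↥(Subgroup.zpowers g) = orderOf g := by
        rw [IsCyclic.exponent_eq_card, Nat.card_zpowers]
      have e2 : Monoid.exponent ↥U = orderOf g := by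
        apply Nat.dvd_antisymm
        · apply Monoid.exponent_dvd_of_forall_pow_eq_one
          intro v
          apply orderOf_dvd_iff_pow_eq_one.mp
          rw [← Subgroup.orderOf_coe]
          rw [Nat.dvd_iff_prime_pow_dvd_dvd]
          intro p k hpp hpk
          rcases Nat.eq_zero_or_pos k with rfl | hk0
          · simp
          · set v' : G := (v : G) ^ (orderOf (v : G) / p ^ k) with hv'
            have hov' : orderOf v' = p ^ k :=
              orderOf_pow_orderOf_div (orderOf_pos _).ne' hpk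
            have hpU : p ∣ Nat.card U := by
              have h1 : p ∣ p ^ k := dvd_pow_self p hk0.ne'
              have h2 : orderOf (v : G) ∣ Nat.card U := by
                rw [Subgroup.orderOf_coe]; exact orderOf_dvd_natCard v
              exact h1.trans (hpk.trans h2)
            have hpS : p ∈ S := by
              rw [hS, Nat.mem_primeFactors]
              exact ⟨hpp, hpU, Nat.card_pos.ne'⟩
            obtain ⟨hxU, -, hxmax, -⟩ := hx p hpS
            have h3 := hxmax v' (U.pow_mem v.2 _) ⟨k, hov'⟩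
            rw [hov'] at h3
            rw [hgo]
            exact h3.trans (Finset.dvd_prod_of_mem _ hpS)
        · have := Monoid.order_dvd_exponent (⟨g, hgU⟩ : U)
          rwa [Subgroup.orderOf_mk] at this
      rw [e1, e2]
    · rintro u hu ⟨-, y, hy, hy1, huy⟩
      have hmem : u ∈ Subgroup.zpowers g ⊓ Subgroup.centralizer ({y} : Set G) := by
        refine Subgroup.mem_inf.mpr ⟨hu, ?_⟩
        rw [Subgroup.mem_centralizer_singleton_iff]
        exact huy
      rwa [hgf y hy hy1, Subgroup.mem_bot] at hmem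

end Cfsg.Agent.Helper18.BG16B
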