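import Mathlib
import Cfsg.Agent.Helper28.BTGen
import Cfsg.Agent.Helper28.BTDefs
import Cfsg.Agent.Helper2.Levi.E

set_option autoImplicit false
set_option linter.unusedSectionVars false
set_option linter.unusedSimpArgs false
set_option linter.unusedVariables false

/-!
# S2154 piece LEV: root elements and diagonal elements in the real gradings
-/

namespace Cfsg.Agent.Helper18.BT

open Cfsg.Lie Cfsg.Agent.Helper6 Cfsg.Agent.Helper28.BT

variable {D : ChevalleyDatum} {F : Type*} [Field F]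

theorem lev_neg (Δ : BNData D F) (μ : Fin D.rank → ℝ) {r : ℕ} (hr : r < D.nroots) :
    lev D μ (D.neg r) = - lev D μ r := by
  have h := lev_lin (D := D) μ (q := D.neg r) (r := r) (s := r) (a := -1) (b := 0)
    (fun i hi => by rw [(Δ.hB.negTab r hr).1 i hi]; ring)
  rw [h]; push_cast; ring

/-- `x_r(t) - 1` shifts the degree by positive multiples of the level of `r` -/
theorem x_sub_one_shift (Δ : BNData D F) (μ : Fin D.rank → ℝ) {r : ℕ}
    (hrn : r < D.nroots) (t : F) :
    ∀ a b, (D.x F r t - 1) a b ≠ 0 →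
      ∃ k : ℕ, 0 < k ∧ degI D μ a = degI D μ b + k * lev D μ r := by
  have hB := Δ.hB
  have hnr := hB.neg r hrn
  apply Cfsg.Agent.Helper2.Levi.entry_of_cols
  · intro i hi a ha
    rw [Matrix.sub_mulVec, Matrix.one_mulVec, x_mulVec_hv hB hrn t hi, sub_sub_cancel_left,
      Pi.neg_apply, Pi.smul_apply, neg_ne_zero] at ha
    have h1 : ev D F r a ≠ 0 := fun h0 => ha (by rw [h0, smul_zero])
    obtain ⟨hu, rfl⟩ := Cfsg.Agent.Helper2.Levi.ev_ne_zero h1
    exact ⟨1, Nat.one_pos, by simp [degI]⟩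
  · intro s hs a ha
    rw [Matrix.sub_mulVec, Matrix.one_mulVec] at ha
    by_cases e1 : s = r
    · subst e1
      rw [x_mulVec_ev_self hB hs, sub_self] at ha
      exact absurd rfl ha
    · by_cases e2 : s = D.neg r
      · subst e2
        rw [x_mulVec_ev_neg hB hrn] at ha
        have ha' : (t • hr D F r - t ^ 2 • ev D F r) a ≠ 0 := by
          intro h0; apply ha
          rw [← h0]
          simp only [Pi.sub_apply, Pi.add_apply]
          ring
        by_cases h1 : ev D F r a = 0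
        · have h2 : hr D F r a ≠ 0 := by
            intro h0; apply ha'
            simp only [Pi.sub_apply, Pi.smul_apply, h0, h1, smul_zero, sub_zero]
          obtain ⟨i, rfl⟩ := Cfsg.Agent.Helper2.Levi.hr_ne_zero h2
          refine ⟨1, Nat.one_pos, ?_⟩
          simp only [degI, Nat.cast_one, one_mul]
          rw [lev_neg Δ μ hrn]; ring
        · obtain ⟨hu, rfl⟩ := Cfsg.Agent.Helper2.Levi.ev_ne_zero h1
          refine ⟨2, by norm_num, ?_⟩
          simp only [degI, Nat.cast_ofNat]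
          rw [lev_neg Δ μ hrn]; ring
      · have hm : MemOK D r s := ⟨hs, e1, e2⟩
        rw [x_of_lt hrn, x_mulVec_ev' hB.keys ⟨r, hrn⟩ t hm, add_sub_cancel_left] at ha
        obtain ⟨m, q, hmq, hq, rfl⟩ := Cfsg.Agent.Helper2.Levi.chainVec_ne_zero t 0 _ a ha
        refine ⟨m + 1, Nat.succ_pos m, ?_⟩
        simp only [degI]
        have h := lev_lin (D := D) μ (q := q.1) (r := s) (s := r) (a := 1)
          (b := (m : ℤ) + 1) (fun k hk => by
            rw [Δ.hAdd k hk r hrn s m q hmq]; ring)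
        rw [h]; push_cast; ring

theorem xU_mem_GrFil (Δ : BNData D F) (μ : Fin D.rank → ℝ) {r : ℕ} (hr : r < D.nroots)
    (h0 : 0 ≤ lev D μ r) (t : F) : xU Δ.hB r t ∈ GrFil (degI D μ) (lev D μ r) := by
  have key : ∀ u : F, FilP (degI D μ) (lev D μ r) (D.x F r u) := by
    intro u a b hab
    obtain ⟨k, hk0, hk⟩ := x_sub_one_shift Δ μ hr u a b hab
    rw [hk]
    have h1 : (1 : ℝ) ≤ (k : ℝ) := by exact_mod_cast hk0
    nlinarith
  rw [mem_GrFil h0]
  refine ⟨?_, ?_⟩
  · rw [xU_val]; exact key t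
  · rw [xU_inv, xU_val]
    exact key (-t)

theorem xU_mem_Gr0 (Δ : BNData D F) (μ : Fin D.rank → ℝ) {r : ℕ} (hr : r < D.nroots)
    (h0 : lev D μ r = 0) (t : F) : xU Δ.hB r t ∈ Gr0 (degI D μ) := by
  have key : ∀ u : F, ZerP (degI D μ) (D.x F r u) := by
    intro u a b hab
    by_cases e : a = b
    · rw [e]
    · have h1 : (D.x F r u - 1) a b ≠ 0 := by
        rw [Matrix.sub_apply, Matrix.one_apply, if_neg e, sub_zero]; exact hab
      obtain ⟨k, _, hk⟩ := x_sub_one_shift Δ μ hr u a b h1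
      rw [hk, h0, mul_zero, add_zero]
  rw [mem_Gr0]
  refine ⟨?_, ?_⟩
  · rw [xU_val]; exact key t
  · rw [xU_inv, xU_val]
    exact key (-t)

theorem diagonal_le_Gr0 (Δ : BNData D F) (μ : Fin D.rank → ℝ) :
    D.diagonalSubgroup F ≤ Gr0 (degI D μ) := by
  have key : ∀ h ∈ D.diagonalSubgroup F, ZerP (degI D μ) (h : Matrix D.Idx D.Idx F) := by
    intro h hh a b hab
    obtain ⟨c, _, hv⟩ := exists_torMat_of_mem_diagonal Δ.hB Δ.hH hh
    rw [hv] at hab
    unfold torMat dMat at hab
    by_cases e : a = b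
    · rw [e]
    · rw [Matrix.diagonal_apply_ne _ e] at hab
      exact absurd rfl hab
  intro h hh
  exact ⟨key h hh, key h⁻¹ (Subgroup.inv_mem _ hh)⟩

end Cfsg.Agent.Helper18.BT
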