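import Mathlib
import Cfsg.Prelude.Def_TwoFusion
import Cfsg.Agent.Helper6.Isolated
import Cfsg.Agent.S1185

set_option autoImplicit false

/-! Bender's counting formula for an isolated involution `z` and an involution `s ∈ C(z)`:
`|G| = |C(z)| · |K ∩ C(sz)| · |K ∩ C(s)|`, where `K` is the set of elements of odd order
inverted by `z`.  The proof is an explicit bijection `(a, b) ↦ a b a`. -/

namespace Cfsg.Agent.Helper18.Bender

open Cfsg.Agent.Helper6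

variable {G : Type*} [Group G]

/-- the square root of an element of odd order -/
noncomputable def rt (x : G) : G := x ^ ((orderOf x + 1) / 2)

theorem rt_sq {x : G} (hx : Odd (orderOf x)) : rt x ^ 2 = x := by
  obtain ⟨j, hj⟩ := hx
  unfold rt
  rw [← pow_mul, hj]
  have : (2 * j + 1 + 1) / 2 * 2 = (2 * j + 1) + 1 := by omega
  rw [this, pow_succ, ← hj, pow_orderOf_eq_one, one_mul]

theorem rt_mul_self {x : G} (hx : Odd (orderOf x)) : rt x * rt x = x := by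
  rw [← pow_two, rt_sq hx]

theorem rt_odd {x : G} (hx : Odd (orderOf x)) : Odd (orderOf (rt x)) :=
  Odd.of_dvd_nat hx (orderOf_pow_dvd _)

theorem rt_conj_inv {x y : G} (h : y * x * y⁻¹ = x⁻¹) : y * rt x * y⁻¹ = (rt x)⁻¹ := by
  unfold rt; rw [← conj_pow, h, inv_pow]

theorem rt_commute {x y : G} (h : Commute y x) : Commute y (rt x) := h.pow_right _

theorem odd_orderOf_conj {x : G} (c : G) (hx : Odd (orderOf x)) : Odd (orderOf (c * x * c⁻¹)) := by
  rw [orderOf_conj_eq]; exact hx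

/-- the product of two conjugates of an isolated involution has odd order -/
theorem odd_mul_conj [Finite G] {z : G} (hz : Cfsg.IsIsolatedInvolution z) (g h : G) :
    Odd (orderOf ((g * z * g⁻¹) * (h * (g * z * g⁻¹) * h⁻¹))) :=
  isolated_mul_conj_odd (isolated_conj hz g) h

/-- if `y` inverts `x` and `y⁻¹ = y`, then `y x = x⁻¹ y` -/
theorem inv_comm {x y : G} (h : y * x * y⁻¹ = x⁻¹) : y * x = x⁻¹ * y := by
  have := congrArg (· * y) h
  simpa [mul_assoc] using this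

theorem inv_comm' {x y : G} (h : y * x * y⁻¹ = x⁻¹) : y * x⁻¹ = x * y := by
  have h1 : y * x⁻¹ * y⁻¹ = x := by
    have := congrArg (·⁻¹) h
    simpa [mul_assoc] using this
  have := congrArg (· * y) h1
  simpa [mul_assoc] using this


section main
variable [Finite G] {z s : G}

theorem exists_decomp (hz : Cfsg.IsIsolatedInvolution z) (hss : s * s = 1) (hsz : Commute s z)
    (k : G) (hk1 : Odd (orderOf k)) (hk2 : z * k * z⁻¹ = k⁻¹) :
    ∃ a b : G, (Odd (orderOf a) ∧ z * a * z⁻¹ = a⁻¹ ∧ Commute a s) ∧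
      (Odd (orderOf b) ∧ z * b * z⁻¹ = b⁻¹ ∧ Commute b (s * z)) ∧ a * b * a = k := by
  have hzz := isolated_mul_self hz
  have hzi := inv_eq_self_of_mul_self hzz
  have hsi := inv_eq_self_of_mul_self hss
  -- t = k z is a conjugate of z
  obtain ⟨g, hg⟩ : ∃ g, g = rt k := ⟨_, rfl⟩
  have hgk : g * g = k := hg ▸ rt_mul_self hk1
  have hgz : z * g * z⁻¹ = g⁻¹ := hg ▸ rt_conj_inv hk2
  obtain ⟨t, ht⟩ : ∃ t, t = g * z * g⁻¹ := ⟨_, rfl⟩
  have htk : t = k * z := by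
    rw [ht, Cfsg.Agent.S1185.conj_eq_sq_mul hgz, pow_two, hgk]
  have htt : t * t = 1 := ht ▸ conj_mul_self hzz g
  have hti := inv_eq_self_of_mul_self htt
  obtain ⟨u, hu⟩ : ∃ u, u = s * t * s⁻¹ := ⟨_, rfl⟩
  have huu : u * u = 1 := hu ▸ conj_mul_self htt s
  have hui := inv_eq_self_of_mul_self huu
  obtain ⟨w, hw⟩ : ∃ w, w = t * u := ⟨_, rfl⟩
  have hwodd : Odd (orderOf w) := by
    rw [hw, hu, ht]; exact odd_mul_conj hz g s
  have hwt : t * w * t⁻¹ = w⁻¹ := by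
    rw [hw, mul_inv_rev, hui, hti, ← mul_assoc, htt, one_mul]
  have hws : s * w * s⁻¹ = w⁻¹ := by
    have h1 : s * (t * u) * s⁻¹ = (s * t * s⁻¹) * (s * u * s⁻¹) := by group
    have h2 : s * u * s⁻¹ = t := by
      rw [hu, hsi]
      calc s * (s * t * s) * s = (s * s) * t * (s * s) := by group
        _ = t := by rw [hss, one_mul, mul_one]
    rw [hw, h1, h2, ← hu, mul_inv_rev, hui, hti]
  -- v = √w, r = √v
  obtain ⟨v, hv⟩ : ∃ v, v = rt w := ⟨_, rfl⟩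
  have hvv : v * v = w := hv ▸ rt_mul_self hwodd
  have hvodd : Odd (orderOf v) := hv ▸ rt_odd hwodd
  have hvt : t * v * t⁻¹ = v⁻¹ := hv ▸ rt_conj_inv hwt
  have hvs : s * v * s⁻¹ = v⁻¹ := hv ▸ rt_conj_inv hws
  obtain ⟨r, hr⟩ : ∃ r, r = rt v := ⟨_, rfl⟩
  have hrr : r * r = v := hr ▸ rt_mul_self hvodd
  have hrt : t * r * t⁻¹ = r⁻¹ := hr ▸ rt_conj_inv hvt
  -- u₀ = r⁻¹ t r = t v, a conjugate of z
  have hu0 : (r⁻¹ * g) * z * (r⁻¹ * g)⁻¹ = t * v := by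
    have h1 : (r⁻¹ * g) * z * (r⁻¹ * g)⁻¹ = r⁻¹ * (g * z * g⁻¹) * r := by group
    have h2 : r⁻¹ * t = t * r := by
      have h3 : r⁻¹ = t * r * t⁻¹ := hrt.symm
      rw [h3, hti]
      calc t * r * t * t = t * r * (t * t) := by group
        _ = t * r := by rw [htt, mul_one]
    rw [h1, ← ht, h2, mul_assoc, hrr]
  have hu0sq : (t * v) * (t * v) = 1 := hu0 ▸ conj_mul_self hzz (r⁻¹ * g)
  have hu0i := inv_eq_self_of_mul_self hu0sq
  -- z v z⁻¹ = k⁻¹ v⁻¹ k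
  have hzv : z * v * z⁻¹ = k⁻¹ * v⁻¹ * k := by
    have h1 : z * v * z⁻¹ = k⁻¹ * ((k * z) * v * (k * z)⁻¹) * k := by group
    rw [h1, ← htk, hvt]
  -- e = v⁻¹ k = u₀ z
  obtain ⟨e, he⟩ : ∃ e, e = v⁻¹ * k := ⟨_, rfl⟩
  have heu : e = (t * v) * z := by
    have h1 : (k * z) * v * z = k * (z * v * z⁻¹) * (z * z) := by group
    rw [htk, h1, hzv, hzz, mul_one, he]; group
  have heodd : Odd (orderOf e) := by
    rw [heu, ← hu0]; exact isolated_conj_mul_odd hz (r⁻¹ * g)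
  have hez : z * e * z⁻¹ = e⁻¹ := by
    rw [heu, mul_inv_rev, hu0i, hzi]
    calc z * (t * v * z) * z = z * (t * v) * (z * z) := by group
      _ = z * (t * v) := by rw [hzz, mul_one]
  have hes : s * e * s⁻¹ = e := by
    have h1 : s * (t * v * z) * s⁻¹ = (s * t * s⁻¹) * (s * v * s⁻¹) * (s * z * s⁻¹) := by group
    have h2 : s * z * s⁻¹ = z := by rw [hsz.eq]; group
    have h3 : u * v⁻¹ = t * v := by
      have : u = t * w := by rw [hw, ← mul_assoc, htt, one_mul]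
      rw [this, ← hvv]; group
    rw [heu, h1, ← hu, hvs, h2, h3]
  -- a = √e
  obtain ⟨a, ha⟩ : ∃ a, a = rt e := ⟨_, rfl⟩
  have haa : a * a = e := ha ▸ rt_mul_self heodd
  have haodd : Odd (orderOf a) := ha ▸ rt_odd heodd
  have haz : z * a * z⁻¹ = a⁻¹ := ha ▸ rt_conj_inv hez
  have hse : Commute s e := by
    show s * e = e * s
    have := congrArg (· * s) hes
    simpa [mul_assoc] using this
  have has : Commute s a := ha ▸ rt_commute hse
  have hsa : s * a * s⁻¹ = a := by rw [has.eq]; group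
  have hk_eq : k = v * (a * a) := by rw [haa, he]; group
  refine ⟨a, a⁻¹ * v * a, ⟨haodd, haz, has.symm⟩, ⟨?_, ?_, ?_⟩, ?_⟩
  · have := odd_orderOf_conj a⁻¹ hvodd
    rwa [inv_inv] at this
  · have h1 : z * (a⁻¹ * v * a) * z⁻¹ = (z * a * z⁻¹)⁻¹ * (z * v * z⁻¹) * (z * a * z⁻¹) := by group
    rw [h1, haz, hzv, hk_eq]; group
  · have hbz : z * (a⁻¹ * v * a) * z⁻¹ = (a⁻¹ * v * a)⁻¹ := by
      have h1 : z * (a⁻¹ * v * a) * z⁻¹ = (z * a * z⁻¹)⁻¹ * (z * v * z⁻¹) * (z * a * z⁻¹) := by group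
      rw [h1, haz, hzv, hk_eq]; group
    have h2 : (s * z) * (a⁻¹ * v * a) * (s * z)⁻¹ = a⁻¹ * v * a := by
      have h3 : (s * z) * (a⁻¹ * v * a) * (s * z)⁻¹ = s * (z * (a⁻¹ * v * a) * z⁻¹) * s⁻¹ := by group
      have h4 : s * (a⁻¹ * v * a)⁻¹ * s⁻¹ = (s * a * s⁻¹)⁻¹ * (s * v * s⁻¹)⁻¹ * (s * a * s⁻¹) := by group
      rw [h3, hbz, h4, hsa, hvs, inv_inv]
    show (a⁻¹ * v * a) * (s * z) = (s * z) * (a⁻¹ * v * a)
    have := congrArg (· * (s * z)) h2
    simp only [inv_mul_cancel_right] at this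
    exact this.symm
  · rw [hk_eq]; group

theorem decomp_unique (hzz : z * z = 1) (hss : s * s = 1)
    {a b a' b' : G} (ha : Odd (orderOf a)) (has : Commute a s)
    (hb : Odd (orderOf b)) (hbz : z * b * z⁻¹ = b⁻¹) (hbs : Commute b (s * z))
    (ha' : Odd (orderOf a')) (has' : Commute a' s)
    (hb' : Odd (orderOf b')) (hbz' : z * b' * z⁻¹ = b'⁻¹) (hbs' : Commute b' (s * z))
    (h : a * b * a = a' * b' * a') : a = a' ∧ b = b' := by
  have key : ∀ {a b : G}, Commute a s → z * b * z⁻¹ = b⁻¹ → Commute b (s * z) →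
      (a * b * a) * s * (a * b * a)⁻¹ * s⁻¹ = (a * b * a⁻¹) * (a * b * a⁻¹) := by
    intro a b has hbz hbs
    have hsa : s * a * s⁻¹ = a := by rw [← has.eq]; group
    have hsb : s * b * s⁻¹ = b⁻¹ := by
      have h1 : (s * z) * b * (s * z)⁻¹ = b := by rw [← hbs.eq]; group
      have h2 : (s * z) * b * (s * z)⁻¹ = s * (z * b * z⁻¹) * s⁻¹ := by group
      rw [h2, hbz] at h1
      have h3 : s * b * s⁻¹ = (s * b⁻¹ * s⁻¹)⁻¹ := by group
      rw [h3, h1]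
    have h1 : (a * b * a) * s * (a * b * a)⁻¹ * s⁻¹ =
        (a * b * a) * (s * a * s⁻¹)⁻¹ * (s * b * s⁻¹)⁻¹ * (s * a * s⁻¹)⁻¹ := by group
    rw [h1, hsa, hsb, inv_inv]; group
  have h1 := key has hbz hbs
  have h2 := key has' hbz' hbs'
  rw [h, h2, ← pow_two, ← pow_two] at h1
  have hc : a * b * a⁻¹ = a' * b' * a'⁻¹ :=
    (Cfsg.Agent.S1185.eq_of_sq_eq_of_odd (odd_orderOf_conj a' hb') (odd_orderOf_conj a hb) h1).symm
  have h3 : a ^ 2 = a' ^ 2 := by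
    have e1 : a ^ 2 = (a * b * a⁻¹)⁻¹ * (a * b * a) := by rw [pow_two]; group
    have e2 : a' ^ 2 = (a' * b' * a'⁻¹)⁻¹ * (a' * b' * a') := by rw [pow_two]; group
    rw [e1, e2, hc, h]
  have h4 : a = a' := Cfsg.Agent.S1185.eq_of_sq_eq_of_odd ha ha' h3
  refine ⟨h4, ?_⟩
  subst h4
  have e1 : b = a⁻¹ * (a * b * a⁻¹) * a := by group
  rw [e1, hc]; group


theorem mul_mul_mem_K (hz : Cfsg.IsIsolatedInvolution z)
    {a b : G} (haz : z * a * z⁻¹ = a⁻¹)
    (hb : Odd (orderOf b)) (hbz : z * b * z⁻¹ = b⁻¹) :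
    Odd (orderOf (a * b * a)) ∧ z * (a * b * a) * z⁻¹ = (a * b * a)⁻¹ := by
  have hzz := isolated_mul_self hz
  constructor
  · obtain ⟨c, hc⟩ : ∃ c, c = rt b := ⟨_, rfl⟩
    have hcc : c * c = b := hc ▸ rt_mul_self hb
    have hcz : z * c * z⁻¹ = c⁻¹ := hc ▸ rt_conj_inv hbz
    have h1 : c * z * c⁻¹ = b * z := by
      rw [Cfsg.Agent.S1185.conj_eq_sq_mul hcz, pow_two, hcc]
    have h2 : a⁻¹ * z = z * a := (inv_comm haz).symm
    have h3 : (a * c) * z * (a * c)⁻¹ * z = a * b * a := by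
      calc (a * c) * z * (a * c)⁻¹ * z = a * (c * z * c⁻¹) * (a⁻¹ * z) := by group
        _ = a * (b * z) * (z * a) := by rw [h1, h2]
        _ = a * b * (z * z) * a := by group
        _ = a * b * a := by rw [hzz, mul_one]
    rw [← h3]
    exact isolated_conj_mul_odd hz (a * c)
  · have h1 : z * (a * b * a) * z⁻¹ = (z * a * z⁻¹) * (z * b * z⁻¹) * (z * a * z⁻¹) := by group
    rw [h1, haz, hbz]; group

theorem card_formula (hz : Cfsg.IsIsolatedInvolution z) (hs : orderOf s = 2) (hsz : Commute s z) :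
    Nat.card G = Nat.card (Subgroup.centralizer ({z} : Set G)) *
      Nat.card {k : G // Odd (orderOf k) ∧ z * k * z⁻¹ = k⁻¹ ∧ Commute k (s * z)} *
      Nat.card {k : G // Odd (orderOf k) ∧ z * k * z⁻¹ = k⁻¹ ∧ Commute k s} := by
  have hzz := isolated_mul_self hz
  have hss : s * s = 1 := by rw [← pow_two, ← hs, pow_orderOf_eq_one]
  -- Step A : G ≃ K × C
  have hA : Nat.card G = Nat.card {k : G // Odd (orderOf k) ∧ z * k * z⁻¹ = k⁻¹} *
      Nat.card (Subgroup.centralizer ({z} : Set G)) := by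
    rw [← Nat.card_prod]
    symm
    apply Nat.card_congr
    refine Equiv.ofBijective
      (fun p : {k : G // Odd (orderOf k) ∧ z * k * z⁻¹ = k⁻¹} × (Subgroup.centralizer ({z} : Set G)) =>
        (p.1 : G) * ((p.2 : G))⁻¹) ?_
    rw [Function.bijective_iff_existsUnique]
    intro g
    obtain ⟨k, ⟨hk1, hk2⟩, hk3⟩ := Cfsg.Agent.S1185.result z hz g
    refine ⟨(⟨k, hk1⟩, ⟨g⁻¹ * k, hk2⟩), ?_, ?_⟩
    · show k * (g⁻¹ * k)⁻¹ = g
      group
    · rintro ⟨⟨k', hk'⟩, ⟨c', hc'⟩⟩ h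
      have h' : k' * c'⁻¹ = g := h
      have hc'' : g⁻¹ * k' = c' := by rw [← h']; group
      have hkk : k' = k := hk3 k' ⟨hk', by rw [hc'']; exact hc'⟩
      subst hkk
      subst hc''
      rfl
  -- Step B : K_s × K_sz ≃ K
  have hB : Nat.card {k : G // Odd (orderOf k) ∧ z * k * z⁻¹ = k⁻¹} =
      Nat.card {k : G // Odd (orderOf k) ∧ z * k * z⁻¹ = k⁻¹ ∧ Commute k s} *
      Nat.card {k : G // Odd (orderOf k) ∧ z * k * z⁻¹ = k⁻¹ ∧ Commute k (s * z)} := by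
    rw [← Nat.card_prod]
    symm
    apply Nat.card_congr
    refine Equiv.ofBijective
      (fun p : {k : G // Odd (orderOf k) ∧ z * k * z⁻¹ = k⁻¹ ∧ Commute k s} ×
          {k : G // Odd (orderOf k) ∧ z * k * z⁻¹ = k⁻¹ ∧ Commute k (s * z)} =>
        (⟨(p.1 : G) * (p.2 : G) * (p.1 : G),
          mul_mul_mem_K hz p.1.2.2.1 p.2.2.1 p.2.2.2.1⟩ :
          {k : G // Odd (orderOf k) ∧ z * k * z⁻¹ = k⁻¹})) ⟨?_, ?_⟩
    · rintro ⟨⟨a, ha1, ha2, ha3⟩, ⟨b, hb1, hb2, hb3⟩⟩ ⟨⟨a', ha1', ha2', ha3'⟩, ⟨b', hb1', hb2', hb3'⟩⟩ h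
      have h' : a * b * a = a' * b' * a' := congrArg Subtype.val h
      obtain ⟨e1, e2⟩ := decomp_unique hzz hss ha1 ha3 hb1 hb2 hb3 ha1' ha3' hb1' hb2' hb3' h'
      subst e1; subst e2; rfl
    · rintro ⟨k, hk1, hk2⟩
      obtain ⟨a, b, ha, hb, hab⟩ := exists_decomp hz hss hsz k hk1 hk2
      exact ⟨(⟨a, ha⟩, ⟨b, hb⟩), Subtype.ext hab⟩
  rw [hA, hB]; ring

end main

end Cfsg.Agent.Helper18.Bender
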