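import Cfsg.Agent.Helper18.CIT
import Cfsg.Agent.Helper18.StronglyEmbedded2
import Mathlib.GroupTheory.Complement

/-!
# CIT-type groups: structure of the normalizer of a Sylow 2-subgroup
-/

namespace Cfsg.Agent.Helper18

open Subgroup
open Cfsg.Agent.Helper2

variable {G : Type*} [Group G] [Finite G] (T : Sylow 2 G)

/-- In a CIT-type group with non-normal Sylow `2`-subgroup `T`, `N_G(T)` is strongly embedded. -/
theorem cit_isStronglyEmbedded (hnn : ¬ (T : Subgroup G).Normal) (hC : CITHyp G) :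
    Cfsg.IsStronglyEmbedded (Subgroup.normalizer ((T : Subgroup G) : Set G)) := by
  have hT : (T : Subgroup G) ≠ ⊥ := by
    intro h
    apply hnn
    rw [h]
    infer_instance
  refine ⟨?_, ?_, ?_⟩
  · intro h
    exact hnn (Subgroup.normalizer_eq_top_iff.1 h)
  · obtain ⟨s, hs, hs2⟩ := exists_invol_mem_sylow T hT
    exact even_card_of_invol_mem _ (Subgroup.le_normalizer hs) hs2
  · intro g hg
    apply odd_card_of_no_invol
    intro s hs hs2
    obtain ⟨hs1, hsg⟩ := Subgroup.mem_inf.1 hs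
    have hsT := invol_mem_sylow_of_mem_normalizer T hs2 hs1
    have h3 : g⁻¹ * s * g ∈ Subgroup.normalizer ((T : Subgroup G) : Set G) :=
      (mem_map_conj_iff' _ g s).1 hsg
    have hs2' : orderOf (g⁻¹ * s * g) = 2 := by rw [orderOf_conj_eq'', hs2]
    have hgT := invol_mem_sylow_of_mem_normalizer T hs2' h3
    exact hg (cit_mem_normalizer_of_conj_mem T hC hT hsT hs2 hgT)

/-- The involutions of `N_G(T)` are the nonidentity elements of `T`. -/
theorem cit_invol_set_eq (hC : CITHyp G) :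
    {t : G | orderOf t = 2 ∧ t ∈ Subgroup.normalizer ((T : Subgroup G) : Set G)} =
      ((T : Subgroup G) : Set G) \ {1} := by
  ext t
  constructor
  · rintro ⟨h2, hN⟩
    refine ⟨invol_mem_sylow_of_mem_normalizer T h2 hN, ?_⟩
    intro h1
    rw [Set.mem_singleton_iff] at h1
    rw [h1, orderOf_one] at h2
    omega
  · rintro ⟨hT, h1⟩
    refine ⟨?_, Subgroup.le_normalizer hT⟩
    rw [orderOf_two_iff]
    refine ⟨?_, fun h => h1 (by rw [h]; rfl)⟩
    rw [← pow_two]
    exact cit_sq T hC hT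

/-- Elements of `D = N ∩ uNu⁻¹` lying in `T` are trivial. -/
theorem cit_inter_T_trivial (hnn : ¬ (T : Subgroup G).Normal) (hC : CITHyp G) {u : G}
    (huH : u ∉ Subgroup.normalizer ((T : Subgroup G) : Set G)) {c : G}
    (hcD : c ∈ Subgroup.normalizer ((T : Subgroup G) : Set G) ⊓
      (Subgroup.normalizer ((T : Subgroup G) : Set G)).map (MulAut.conj u).toMonoidHom)
    (hcT : c ∈ (T : Subgroup G)) : c = 1 := by
  have hSE := cit_isStronglyEmbedded T hnn hC
  have hodd := hSE.2.2 u huH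
  have h1 : orderOf c ∣ 2 := orderOf_dvd_of_pow_eq_one (cit_sq T hC hcT)
  have h2 : orderOf c ∣ Nat.card ↥(Subgroup.normalizer ((T : Subgroup G) : Set G) ⊓
      (Subgroup.normalizer ((T : Subgroup G) : Set G)).map (MulAut.conj u).toMonoidHom) := by
    rw [← Subgroup.orderOf_mk c hcD]
    exact orderOf_dvd_natCard _
  have h3 : Odd (orderOf c) := Odd.of_dvd_nat hodd h2
  rcases (Nat.dvd_prime Nat.prime_two).1 h1 with h | h
  · exact orderOf_eq_one_iff.1 h
  · exfalso
    rw [h] at h3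
    exact (by decide : ¬ Odd 2) h3

/-- Structure of `N = N_G(T)` in a CIT-type group: for an involution `u ∉ N` and `D = N ∩ uNu⁻¹`,
`u` inverts `D`, `|D| = |T| - 1` and `D` is a complement to `T` in `N`. -/
theorem cit_structure (hnn : ¬ (T : Subgroup G).Normal) (hC : CITHyp G) {u : G}
    (hu : orderOf u = 2) (huH : u ∉ Subgroup.normalizer ((T : Subgroup G) : Set G)) :
    (∀ d ∈ Subgroup.normalizer ((T : Subgroup G) : Set G) ⊓
      (Subgroup.normalizer ((T : Subgroup G) : Set G)).map (MulAut.conj u).toMonoidHom,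
        u * d * u⁻¹ = d⁻¹) ∧
    Nat.card ↥(Subgroup.normalizer ((T : Subgroup G) : Set G) ⊓
      (Subgroup.normalizer ((T : Subgroup G) : Set G)).map (MulAut.conj u).toMonoidHom) =
        Nat.card T - 1 ∧
    Subgroup.IsComplement'
      ((Subgroup.normalizer ((T : Subgroup G) : Set G) ⊓
        (Subgroup.normalizer ((T : Subgroup G) : Set G)).map (MulAut.conj u).toMonoidHom).subgroupOf
        (Subgroup.normalizer ((T : Subgroup G) : Set G)))
      ((T : Subgroup G).subgroupOf (Subgroup.normalizer ((T : Subgroup G) : Set G))) := by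
  classical
  have hSE := cit_isStronglyEmbedded T hnn hC
  obtain ⟨N, hN⟩ : ∃ N : Subgroup G, N = Subgroup.normalizer ((T : Subgroup G) : Set G) := ⟨_, rfl⟩
  rw [← hN] at hSE huH ⊢
  obtain ⟨D, hD⟩ : ∃ D : Subgroup G, D = N ⊓ N.map (MulAut.conj u).toMonoidHom := ⟨_, rfl⟩
  rw [← hD]
  have hTN : (T : Subgroup G) ≤ N := by rw [hN]; exact Subgroup.le_normalizer
  have hDN : D ≤ N := by rw [hD]; exact inf_le_left
  have hT : (T : Subgroup G) ≠ ⊥ := by
    intro h
    apply hnn
    rw [h]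
    infer_instance
  have huu := mul_self_of_orderOf_two hu
  have huinv : u⁻¹ = u := inv_eq_of_mul_eq_one_right huu
  obtain ⟨s, hsT, hs2⟩ := exists_invol_mem_sylow T hT
  have hs1 : s ≠ 1 := ne_one_of_orderOf_two hs2
  have hCs : Subgroup.centralizer ({s} : Set G) = T := cit_centralizer_eq T hC hT hsT hs2
  have hDT : ∀ c ∈ D, c ∈ (T : Subgroup G) → c = 1 := by
    intro c hcD hcT
    rw [hD, hN] at hcD
    rw [hN] at huH
    exact cit_inter_T_trivial T hnn hC huH hcD hcT
  -- the three sets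
  have hA : {i : G | orderOf i = 2 ∧ i • (QuotientGroup.mk 1 : G ⧸ N) = QuotientGroup.mk u}.ncard =
      Nat.card T - 1 := by
    have h1 := se_card_mapping hSE (QuotientGroup.mk 1 : G ⧸ N) (QuotientGroup.mk u)
    have h2 : Nat.card {i : G // orderOf i = 2 ∧ i • (QuotientGroup.mk 1 : G ⧸ N) = QuotientGroup.mk u}
        = {i : G | orderOf i = 2 ∧ i • (QuotientGroup.mk 1 : G ⧸ N) = QuotientGroup.mk u}.ncard :=
      Nat.card_coe_set_eq _
    have h3 : Nat.card {t : G // orderOf t = 2 ∧ t ∈ N} = {t : G | orderOf t = 2 ∧ t ∈ N}.ncard :=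
      Nat.card_coe_set_eq _
    rw [← h2, h1, h3, hN, cit_invol_set_eq T hC, Set.ncard_sdiff_singleton_of_mem (T : Subgroup G).one_mem]
    congr 1
  have hAJ : {i : G | orderOf i = 2 ∧ i • (QuotientGroup.mk 1 : G ⧸ N) = QuotientGroup.mk u}.ncard ≤
      {d : G | d ∈ D ∧ u * d * u⁻¹ = d⁻¹}.ncard := by
    apply Set.ncard_le_ncard_of_injOn (fun i => u * i)
    · rintro i ⟨hi2, hi⟩
      have hii := mul_self_of_orderOf_two hi2
      have hiinv : i⁻¹ = i := inv_eq_of_mul_eq_one_right hii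
      rw [smul_mk_eq_mk_iff] at hi
      have hd : u * i ∈ N := by
        have : u⁻¹ * i * 1 = u * i := by rw [huinv, mul_one]
        rwa [this] at hi
      have hinv : u * (u * i) * u⁻¹ = (u * i)⁻¹ := by
        rw [mul_inv_rev, huinv, hiinv, ← mul_assoc, huu, one_mul]
      refine ⟨?_, hinv⟩
      rw [hD]
      refine Subgroup.mem_inf.2 ⟨hd, ?_⟩
      rw [mem_map_conj_iff']
      have : u⁻¹ * (u * i) * u = (u * i)⁻¹ := by
        rw [mul_inv_rev, huinv, hiinv, ← mul_assoc, huu, one_mul]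
      rw [this]
      exact N.inv_mem hd
    · intro i _ i' _ h
      exact mul_left_cancel h
  have hJD : {d : G | d ∈ D ∧ u * d * u⁻¹ = d⁻¹}.ncard ≤ (D : Set G).ncard :=
    Set.ncard_le_ncard (fun d hd => hd.1)
  have hDT' : (D : Set G).ncard ≤ (((T : Subgroup G) : Set G) \ {1}).ncard := by
    apply Set.ncard_le_ncard_of_injOn (fun d => d * s * d⁻¹)
    · intro d hd
      have hdN : d ∈ Subgroup.normalizer ((T : Subgroup G) : Set G) := by rw [← hN]; exact hDN hd
      refine ⟨(Subgroup.mem_normalizer_iff.1 hdN s).1 hsT, ?_⟩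
      intro h
      rw [Set.mem_singleton_iff] at h
      apply hs1
      have : s = d⁻¹ * (d * s * d⁻¹) * d := by group
      rw [this, h]; group
    · intro d1 hd1 d2 hd2 h
      have h' : d1 * s * d1⁻¹ = d2 * s * d2⁻¹ := h
      have hc : d2⁻¹ * d1 ∈ Subgroup.centralizer ({s} : Set G) := by
        rw [Subgroup.mem_centralizer_singleton_iff]
        calc d2⁻¹ * d1 * s = d2⁻¹ * (d1 * s * d1⁻¹) * d1 := by group
          _ = d2⁻¹ * (d2 * s * d2⁻¹) * d1 := by rw [h']
          _ = s * (d2⁻¹ * d1) := by group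
      rw [hCs] at hc
      have := hDT _ (D.mul_mem (D.inv_mem hd2) hd1) hc
      calc d1 = d2 * (d2⁻¹ * d1) := by group
        _ = d2 := by rw [this, mul_one]
  have hTcard : (((T : Subgroup G) : Set G) \ {1}).ncard = Nat.card T - 1 := by
    rw [Set.ncard_sdiff_singleton_of_mem (T : Subgroup G).one_mem]
    congr 1
  have hDcard : (D : Set G).ncard = Nat.card T - 1 := by omega
  have hJeq : {d : G | d ∈ D ∧ u * d * u⁻¹ = d⁻¹} = (D : Set G) :=
    Set.eq_of_subset_of_ncard_le (fun d hd => hd.1) (by omega)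
  refine ⟨?_, ?_, ?_⟩
  · intro d hd
    have : d ∈ {d : G | d ∈ D ∧ u * d * u⁻¹ = d⁻¹} := by rw [hJeq]; exact hd
    exact this.2
  · rw [← hDcard]
    exact Nat.card_coe_set_eq _
  · apply Subgroup.isComplement'_of_disjoint_and_mul_eq_univ
    · rw [Subgroup.disjoint_def]
      intro x hx1 hx2
      rw [Subgroup.mem_subgroupOf] at hx1 hx2
      exact Subtype.ext (hDT _ hx1 hx2)
    · rw [Set.eq_univ_iff_forall]
      intro h
      -- h s h⁻¹ is an involution of N
      have hhN : (h : G) ∈ Subgroup.normalizer ((T : Subgroup G) : Set G) := by rw [← hN]; exact h.2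
      have hs' : (h : G) * s * (h : G)⁻¹ ∈ (T : Subgroup G) :=
        (Subgroup.mem_normalizer_iff.1 hhN s).1 hsT
      obtain ⟨d, hdD, hd⟩ := se_inter_transitive hSE hu huH hs2 (hTN hsT)
        (by rw [orderOf_conj_eq', hs2]) (hTN hs')
      rw [← hD] at hdD
      have hc : d⁻¹ * (h : G) ∈ Subgroup.centralizer ({s} : Set G) := by
        rw [Subgroup.mem_centralizer_singleton_iff]
        calc d⁻¹ * (h : G) * s = d⁻¹ * ((h : G) * s * (h : G)⁻¹) * (h : G) := by group
          _ = d⁻¹ * (d * s * d⁻¹) * (h : G) := by rw [hd]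
          _ = s * (d⁻¹ * (h : G)) := by group
      rw [hCs] at hc
      refine Set.mem_mul.2 ⟨⟨d, hDN hdD⟩, ?_, ⟨d⁻¹ * (h : G), hTN hc⟩, ?_, ?_⟩
      · rw [SetLike.mem_coe, Subgroup.mem_subgroupOf]; exact hdD
      · rw [SetLike.mem_coe, Subgroup.mem_subgroupOf]; exact hc
      · apply Subtype.ext
        show d * (d⁻¹ * (h : G)) = h
        group

end Cfsg.Agent.Helper18
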