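import Cfsg.Agent.Helper18.CIT2
import Mathlib.GroupTheory.SpecificGroups.Cyclic

/-!
# CIT-type groups: the normalizer of a two-point stabilizer
-/

namespace Cfsg.Agent.Helper18

open Subgroup
open Cfsg.Agent.Helper2

variable {G : Type*} [Group G] [Finite G] (T : Sylow 2 G)

/-- A noncyclic Sylow `2`-subgroup has order at least `4`. -/
theorem four_le_card_of_not_isCyclic (hnc : ¬ IsCyclic (T : Subgroup G)) : 4 ≤ Nat.card T := by
  have hp2 : Fact (Nat.Prime 2) := ⟨Nat.prime_two⟩
  obtain ⟨k, hk⟩ := IsPGroup.iff_card.1 T.2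
  rcases Nat.lt_or_ge k 2 with h | h
  · exfalso
    apply hnc
    interval_cases k
    · have : Subsingleton (T : Subgroup G) := by
        rw [← Finite.card_le_one_iff_subsingleton]; omega
      exact isCyclic_of_subsingleton
    · exact isCyclic_of_prime_card (p := 2) (by rw [hk]; norm_num)
  · rw [hk]
    calc 4 = 2 ^ 2 := by norm_num
      _ ≤ 2 ^ k := Nat.pow_le_pow_right (by norm_num) h

section

variable (hnc : ¬ IsCyclic (T : Subgroup G)) (hnn : ¬ (T : Subgroup G).Normal) (hC : CITHyp G)
  {u : G} (hu : orderOf u = 2) (huH : u ∉ Subgroup.normalizer ((T : Subgroup G) : Set G))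

include hnc hnn hC hu huH

/-- `D = N ∩ uNu⁻¹` is nontrivial. -/
theorem cit_D_ne_bot :
    Subgroup.normalizer ((T : Subgroup G) : Set G) ⊓
      (Subgroup.normalizer ((T : Subgroup G) : Set G)).map (MulAut.conj u).toMonoidHom ≠ ⊥ := by
  intro h
  have h2 := (cit_structure T hnn hC hu huH).2.1
  rw [h, Subgroup.card_bot] at h2
  have := four_le_card_of_not_isCyclic T hnc
  omega

omit hnc hu in
/-- An element of `D` equal to its inverse is trivial. -/
theorem cit_D_eq_one_of_inv_eq {x : G}
    (hx : x ∈ Subgroup.normalizer ((T : Subgroup G) : Set G) ⊓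
      (Subgroup.normalizer ((T : Subgroup G) : Set G)).map (MulAut.conj u).toMonoidHom)
    (hxx : x⁻¹ = x) : x = 1 := by
  have hSE := cit_isStronglyEmbedded T hnn hC
  have hodd := hSE.2.2 u huH
  have h1 : orderOf x ∣ 2 := by
    apply orderOf_dvd_of_pow_eq_one
    rw [pow_two]
    nth_rewrite 1 [← hxx]
    exact inv_mul_cancel x
  have h2 : orderOf x ∣ Nat.card ↥(Subgroup.normalizer ((T : Subgroup G) : Set G) ⊓
      (Subgroup.normalizer ((T : Subgroup G) : Set G)).map (MulAut.conj u).toMonoidHom) := by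
    rw [← Subgroup.orderOf_mk x hx]
    exact orderOf_dvd_natCard _
  have h3 : Odd (orderOf x) := Odd.of_dvd_nat hodd h2
  rcases (Nat.dvd_prime Nat.prime_two).1 h1 with h | h
  · exact orderOf_eq_one_iff.1 h
  · exfalso
    rw [h] at h3
    exact (by decide : ¬ Odd 2) h3

/-- `N_N(D) = D`. -/
theorem cit_normalizer_inf_eq {x : G} (hxN : x ∈ Subgroup.normalizer ((T : Subgroup G) : Set G))
    (hxW : x ∈ Subgroup.normalizer ((Subgroup.normalizer ((T : Subgroup G) : Set G) ⊓
      (Subgroup.normalizer ((T : Subgroup G) : Set G)).map (MulAut.conj u).toMonoidHom :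
        Subgroup G) : Set G)) :
    x ∈ Subgroup.normalizer ((T : Subgroup G) : Set G) ⊓
      (Subgroup.normalizer ((T : Subgroup G) : Set G)).map (MulAut.conj u).toMonoidHom := by
  obtain ⟨hinv, hcard, hcompl⟩ := cit_structure T hnn hC hu huH
  have hDne := cit_D_ne_bot T hnc hnn hC hu huH
  obtain ⟨N, hN⟩ : ∃ N : Subgroup G, N = Subgroup.normalizer ((T : Subgroup G) : Set G) := ⟨_, rfl⟩
  rw [← hN] at hxN hxW hinv hcompl hDne ⊢
  obtain ⟨D, hD⟩ : ∃ D : Subgroup G, D = N ⊓ N.map (MulAut.conj u).toMonoidHom := ⟨_, rfl⟩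
  rw [← hD] at hxW hinv hcompl hDne ⊢
  have hDN : D ≤ N := by rw [hD]; exact inf_le_left
  have hT : (T : Subgroup G) ≠ ⊥ := by
    intro h
    apply hnn
    rw [h]
    infer_instance
  have hDT : ∀ c ∈ D, c ∈ (T : Subgroup G) → c = 1 := by
    intro c hcD hcT
    rw [hD, hN] at hcD
    exact cit_inter_T_trivial T hnn hC huH hcD hcT
  -- decompose x = d * t
  obtain ⟨d0, t0, hdD, htT, hx⟩ : ∃ d0 t0 : G, d0 ∈ D ∧ t0 ∈ (T : Subgroup G) ∧ d0 * t0 = x := by
    obtain ⟨⟨d, t⟩, hdt, -⟩ := (Subgroup.isComplement_iff_existsUnique.1 hcompl) ⟨x, hxN⟩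
    exact ⟨(d : N).1, (t : N).1, Subgroup.mem_subgroupOf.1 d.2, Subgroup.mem_subgroupOf.1 t.2,
      congrArg Subtype.val hdt⟩
  -- t normalizes D
  have htW : t0 ∈ Subgroup.normalizer (D : Set G) := by
    have : t0 = d0⁻¹ * x := by rw [← hx]; group
    rw [this]
    exact Subgroup.mul_mem _ (Subgroup.inv_mem _ (Subgroup.le_normalizer hdD)) hxW
  -- t centralizes D
  have htc : ∀ d' ∈ D, t0 * d' = d' * t0 := by
    intro d' hd'
    have h1 : t0 * d' * t0⁻¹ ∈ D := (Subgroup.mem_normalizer_iff.1 htW d').1 hd'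
    have hd'N : d' ∈ Subgroup.normalizer ((T : Subgroup G) : Set G) := by rw [← hN]; exact hDN hd'
    have h2 : d' * t0⁻¹ * d'⁻¹ ∈ (T : Subgroup G) :=
      (Subgroup.mem_normalizer_iff.1 hd'N _).1 ((T : Subgroup G).inv_mem htT)
    have hcD : t0 * d' * t0⁻¹ * d'⁻¹ ∈ D := D.mul_mem h1 (D.inv_mem hd')
    have hcT : t0 * d' * t0⁻¹ * d'⁻¹ ∈ (T : Subgroup G) := by
      have : t0 * d' * t0⁻¹ * d'⁻¹ = t0 * (d' * t0⁻¹ * d'⁻¹) := by group
      rw [this]
      exact (T : Subgroup G).mul_mem htT h2
    have hc1 : t0 * d' * t0⁻¹ * d'⁻¹ = 1 := hDT _ hcD hcT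
    calc t0 * d' = (t0 * d' * t0⁻¹ * d'⁻¹) * (d' * t0) := by group
      _ = d' * t0 := by rw [hc1, one_mul]
  -- so t = 1
  have ht1 : t0 = 1 := by
    by_contra hne
    have ht2 : orderOf t0 = 2 := by
      rw [orderOf_two_iff]
      refine ⟨?_, hne⟩
      rw [← pow_two]; exact cit_sq T hC htT
    have hCt := cit_centralizer_eq T hC hT htT ht2
    apply hDne
    rw [eq_bot_iff]
    intro d' hd'
    have : d' ∈ Subgroup.centralizer ({t0} : Set G) := by
      rw [Subgroup.mem_centralizer_singleton_iff]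
      exact (htc d' hd').symm
    rw [hCt] at this
    rw [Subgroup.mem_bot]
    exact hDT d' hd' this
  rw [← hx, ht1, mul_one]
  exact hdD

omit hnc in
/-- `D` is commutative. -/
theorem cit_D_comm {x y : G}
    (hx : x ∈ Subgroup.normalizer ((T : Subgroup G) : Set G) ⊓
      (Subgroup.normalizer ((T : Subgroup G) : Set G)).map (MulAut.conj u).toMonoidHom)
    (hy : y ∈ Subgroup.normalizer ((T : Subgroup G) : Set G) ⊓
      (Subgroup.normalizer ((T : Subgroup G) : Set G)).map (MulAut.conj u).toMonoidHom) :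
    x * y = y * x := by
  obtain ⟨hinv, -, -⟩ := cit_structure T hnn hC hu huH
  have h1 := hinv x hx
  have h2 := hinv y hy
  have h3 := hinv (x * y) (Subgroup.mul_mem _ hx hy)
  have h4 : u * (x * y) * u⁻¹ = (u * x * u⁻¹) * (u * y * u⁻¹) := by group
  rw [h4, h1, h2, mul_inv_rev] at h3
  -- h3 : x⁻¹ * y⁻¹ = y⁻¹ * x⁻¹
  have h5 : (x⁻¹ * y⁻¹)⁻¹ = (y⁻¹ * x⁻¹)⁻¹ := by rw [h3]
  simpa using h5.symm

omit hnc in
/-- If `D ≤ N ∩ vNv⁻¹` for another involution `v ∉ N`, then equality holds. -/
theorem cit_inter_eq_of_le {v : G} (hv : orderOf v = 2)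
    (hvH : v ∉ Subgroup.normalizer ((T : Subgroup G) : Set G))
    (hle : Subgroup.normalizer ((T : Subgroup G) : Set G) ⊓
      (Subgroup.normalizer ((T : Subgroup G) : Set G)).map (MulAut.conj u).toMonoidHom ≤
      Subgroup.normalizer ((T : Subgroup G) : Set G) ⊓
      (Subgroup.normalizer ((T : Subgroup G) : Set G)).map (MulAut.conj v).toMonoidHom) :
    Subgroup.normalizer ((T : Subgroup G) : Set G) ⊓
      (Subgroup.normalizer ((T : Subgroup G) : Set G)).map (MulAut.conj u).toMonoidHom =
      Subgroup.normalizer ((T : Subgroup G) : Set G) ⊓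
      (Subgroup.normalizer ((T : Subgroup G) : Set G)).map (MulAut.conj v).toMonoidHom := by
  apply Subgroup.eq_of_le_of_card_ge hle
  rw [(cit_structure T hnn hC hu huH).2.1, (cit_structure T hnn hC hv hvH).2.1]

/-- An element of `N_G(D)` outside `N` inverts `D`. -/
theorem cit_normalizer_not_mem {w : G}
    (hwW : w ∈ Subgroup.normalizer ((Subgroup.normalizer ((T : Subgroup G) : Set G) ⊓
      (Subgroup.normalizer ((T : Subgroup G) : Set G)).map (MulAut.conj u).toMonoidHom :
        Subgroup G) : Set G))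
    (hwN : w ∉ Subgroup.normalizer ((T : Subgroup G) : Set G)) :
    ∀ x ∈ Subgroup.normalizer ((T : Subgroup G) : Set G) ⊓
      (Subgroup.normalizer ((T : Subgroup G) : Set G)).map (MulAut.conj u).toMonoidHom,
      w * x * w⁻¹ = x⁻¹ := by
  have hSE := cit_isStronglyEmbedded T hnn hC
  have hT : (T : Subgroup G) ≠ ⊥ := by
    intro h
    apply hnn
    rw [h]
    infer_instance
  obtain ⟨s, hsT, hs2⟩ := exists_invol_mem_sylow T hT
  have hsx : s • (QuotientGroup.mk 1 : G ⧸ Subgroup.normalizer ((T : Subgroup G) : Set G)) =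
      QuotientGroup.mk 1 := by
    rw [smul_mk_eq_iff]; simpa using Subgroup.le_normalizer hsT
  have hvy : (w * s * w⁻¹) • (QuotientGroup.mk w : G ⧸ Subgroup.normalizer ((T : Subgroup G) : Set G)) =
      QuotientGroup.mk w := by
    rw [smul_mk_eq_iff]
    have : w⁻¹ * (w * s * w⁻¹) * w = s := by group
    rw [this]; exact Subgroup.le_normalizer hsT
  have hxy : (QuotientGroup.mk 1 : G ⧸ Subgroup.normalizer ((T : Subgroup G) : Set G)) ≠
      QuotientGroup.mk w := by
    intro h
    rw [QuotientGroup.eq] at h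
    apply hwN
    simpa using h
  obtain ⟨i, hi2, hix, -⟩ := se_exists_invol_conj hSE hs2 (by rw [orderOf_conj_eq', hs2]) hsx hvy hxy
  have hiN : i ∉ Subgroup.normalizer ((T : Subgroup G) : Set G) := by
    intro h
    apply hxy
    rw [← hix]
    symm
    rw [smul_mk_eq_iff]
    simpa using h
  rw [smul_mk_eq_mk_iff, mul_one] at hix
  -- hix : w⁻¹ * i ∈ N
  have hle : Subgroup.normalizer ((T : Subgroup G) : Set G) ⊓
      (Subgroup.normalizer ((T : Subgroup G) : Set G)).map (MulAut.conj u).toMonoidHom ≤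
      Subgroup.normalizer ((T : Subgroup G) : Set G) ⊓
      (Subgroup.normalizer ((T : Subgroup G) : Set G)).map (MulAut.conj i).toMonoidHom := by
    intro d hd
    refine Subgroup.mem_inf.2 ⟨(Subgroup.mem_inf.1 hd).1, ?_⟩
    rw [mem_map_conj_iff']
    have h1 : w⁻¹ * d * w ∈ Subgroup.normalizer ((T : Subgroup G) : Set G) ⊓
        (Subgroup.normalizer ((T : Subgroup G) : Set G)).map (MulAut.conj u).toMonoidHom := by
      have := (Subgroup.mem_normalizer_iff.1 (Subgroup.inv_mem _ hwW) d).1 hd
      rwa [inv_inv] at this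
    have h2 : i⁻¹ * d * i = (w⁻¹ * i)⁻¹ * (w⁻¹ * d * w) * (w⁻¹ * i) := by group
    rw [h2]
    exact Subgroup.mul_mem _ (Subgroup.mul_mem _ (Subgroup.inv_mem _ hix) (Subgroup.mem_inf.1 h1).1) hix
  have heq := cit_inter_eq_of_le T hnn hC hu huH hi2 hiN hle
  have hinvi := (cit_structure T hnn hC hi2 hiN).1
  rw [← heq] at hinvi
  -- i normalizes D
  have hiW : i ∈ Subgroup.normalizer ((Subgroup.normalizer ((T : Subgroup G) : Set G) ⊓
      (Subgroup.normalizer ((T : Subgroup G) : Set G)).map (MulAut.conj u).toMonoidHom :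
        Subgroup G) : Set G) := by
    rw [Subgroup.mem_normalizer_iff]
    intro d
    constructor
    · intro hd
      rw [hinvi d hd]; exact Subgroup.inv_mem _ hd
    · intro hd
      have h1 := hinvi _ hd
      have hii := mul_self_of_orderOf_two hi2
      have hiinv : i⁻¹ = i := inv_eq_of_mul_eq_one_right hii
      have h2 : i * (i * d * i⁻¹) * i⁻¹ = d := by
        rw [hiinv]
        calc i * (i * d * i) * i = (i * i) * d * (i * i) := by group
          _ = d := by rw [hii]; group
      rw [h2] at h1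
      have : d = ((i * d * i⁻¹)⁻¹) := h1
      rw [this]; exact Subgroup.inv_mem _ hd
  have hnD := cit_normalizer_inf_eq T hnc hnn hC hu huH hix
    (Subgroup.mul_mem _ (Subgroup.inv_mem _ hwW) hiW)
  intro x hx
  have hcomm := cit_D_comm T hnn hC hu huH (Subgroup.inv_mem _ hnD) hx
  have h1 : w * x * w⁻¹ = i * ((w⁻¹ * i)⁻¹ * x * (w⁻¹ * i)) * i⁻¹ := by group
  have h2 : (w⁻¹ * i)⁻¹ * x * (w⁻¹ * i) = x := by
    rw [hcomm]; group
  rw [h1, h2, hinvi x hx]

/-- `N_G(D) = D ∪ uD`. -/
theorem cit_normalizer_cases {w : G}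
    (hwW : w ∈ Subgroup.normalizer ((Subgroup.normalizer ((T : Subgroup G) : Set G) ⊓
      (Subgroup.normalizer ((T : Subgroup G) : Set G)).map (MulAut.conj u).toMonoidHom :
        Subgroup G) : Set G)) :
    w ∈ Subgroup.normalizer ((T : Subgroup G) : Set G) ⊓
      (Subgroup.normalizer ((T : Subgroup G) : Set G)).map (MulAut.conj u).toMonoidHom ∨
    u * w ∈ Subgroup.normalizer ((T : Subgroup G) : Set G) ⊓
      (Subgroup.normalizer ((T : Subgroup G) : Set G)).map (MulAut.conj u).toMonoidHom := by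
  obtain ⟨hinv, -, -⟩ := cit_structure T hnn hC hu huH
  have huu := mul_self_of_orderOf_two hu
  have huinv : u⁻¹ = u := inv_eq_of_mul_eq_one_right huu
  have huW : u ∈ Subgroup.normalizer ((Subgroup.normalizer ((T : Subgroup G) : Set G) ⊓
      (Subgroup.normalizer ((T : Subgroup G) : Set G)).map (MulAut.conj u).toMonoidHom :
        Subgroup G) : Set G) := by
    rw [Subgroup.mem_normalizer_iff]
    intro d
    constructor
    · intro hd
      rw [hinv d hd]; exact Subgroup.inv_mem _ hd
    · intro hd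
      have h1 := hinv _ hd
      have h2 : u * (u * d * u⁻¹) * u⁻¹ = d := by
        rw [huinv]
        calc u * (u * d * u) * u = (u * u) * d * (u * u) := by group
          _ = d := by rw [huu]; group
      rw [h2] at h1
      have : d = ((u * d * u⁻¹)⁻¹) := h1
      rw [this]; exact Subgroup.inv_mem _ hd
  by_cases hwN : w ∈ Subgroup.normalizer ((T : Subgroup G) : Set G)
  · exact Or.inl (cit_normalizer_inf_eq T hnc hnn hC hu huH hwN hwW)
  · have hzW := Subgroup.mul_mem _ huW hwW
    by_cases hzN : u * w ∈ Subgroup.normalizer ((T : Subgroup G) : Set G)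
    · exact Or.inr (cit_normalizer_inf_eq T hnc hnn hC hu huH hzN hzW)
    · exfalso
      have hw := cit_normalizer_not_mem T hnc hnn hC hu huH hwW hwN
      have hz := cit_normalizer_not_mem T hnc hnn hC hu huH hzW hzN
      apply cit_D_ne_bot T hnc hnn hC hu huH
      rw [eq_bot_iff]
      intro x hx
      rw [Subgroup.mem_bot]
      apply cit_D_eq_one_of_inv_eq T hnn hC huH hx
      have h1 := hz x hx
      have h2 : u * w * x * (u * w)⁻¹ = u * (w * x * w⁻¹) * u⁻¹ := by group
      rw [h2, hw x hx] at h1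
      have h3 := hinv x⁻¹ (Subgroup.inv_mem _ hx)
      rw [h3, inv_inv] at h1
      exact h1.symm

omit hnc in
/-- `u` normalizes `D`. -/
theorem cit_u_mem_normalizer :
    u ∈ Subgroup.normalizer ((Subgroup.normalizer ((T : Subgroup G) : Set G) ⊓
      (Subgroup.normalizer ((T : Subgroup G) : Set G)).map (MulAut.conj u).toMonoidHom :
        Subgroup G) : Set G) := by
  obtain ⟨hinv, -, -⟩ := cit_structure T hnn hC hu huH
  have huu := mul_self_of_orderOf_two hu
  have huinv : u⁻¹ = u := inv_eq_of_mul_eq_one_right huu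
  rw [Subgroup.mem_normalizer_iff]
  intro d
  constructor
  · intro hd
    rw [hinv d hd]; exact Subgroup.inv_mem _ hd
  · intro hd
    have h1 := hinv _ hd
    have h2 : u * (u * d * u⁻¹) * u⁻¹ = d := by
      rw [huinv]
      calc u * (u * d * u) * u = (u * u) * d * (u * u) := by group
        _ = d := by rw [huu]; group
    rw [h2] at h1
    have : d = ((u * d * u⁻¹)⁻¹) := h1
    rw [this]; exact Subgroup.inv_mem _ hd

/-- `N_G(D) = D ⊔ ⟨u⟩`. -/
theorem cit_normalizer_D_eq :
    Subgroup.normalizer ((Subgroup.normalizer ((T : Subgroup G) : Set G) ⊓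
      (Subgroup.normalizer ((T : Subgroup G) : Set G)).map (MulAut.conj u).toMonoidHom :
        Subgroup G) : Set G) =
    (Subgroup.normalizer ((T : Subgroup G) : Set G) ⊓
      (Subgroup.normalizer ((T : Subgroup G) : Set G)).map (MulAut.conj u).toMonoidHom) ⊔
      Subgroup.zpowers u := by
  apply le_antisymm
  · intro w hw
    rcases cit_normalizer_cases T hnc hnn hC hu huH hw with h | h
    · exact Subgroup.mem_sup_left h
    · have huu := mul_self_of_orderOf_two hu
      have : w = u * (u * w) := by rw [← mul_assoc, huu, one_mul]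
      rw [this]
      exact Subgroup.mul_mem _ (Subgroup.mem_sup_right (Subgroup.mem_zpowers u))
        (Subgroup.mem_sup_left h)
  · apply sup_le Subgroup.le_normalizer
    rw [Subgroup.zpowers_le]
    exact cit_u_mem_normalizer T hnn hC hu huH

/-- The cosets fixed by `D` are exactly `N` and `uN`. -/
theorem cit_fixed_iff (g : G) :
    (∀ d ∈ Subgroup.normalizer ((T : Subgroup G) : Set G) ⊓
      (Subgroup.normalizer ((T : Subgroup G) : Set G)).map (MulAut.conj u).toMonoidHom,
      d • (QuotientGroup.mk g : G ⧸ Subgroup.normalizer ((T : Subgroup G) : Set G)) =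
        QuotientGroup.mk g) ↔
    (QuotientGroup.mk g : G ⧸ Subgroup.normalizer ((T : Subgroup G) : Set G)) = QuotientGroup.mk 1 ∨
    (QuotientGroup.mk g : G ⧸ Subgroup.normalizer ((T : Subgroup G) : Set G)) = QuotientGroup.mk u := by
  have hSE := cit_isStronglyEmbedded T hnn hC
  constructor
  · intro hfix
    by_cases hg1 : (QuotientGroup.mk g : G ⧸ Subgroup.normalizer ((T : Subgroup G) : Set G)) =
        QuotientGroup.mk 1
    · exact Or.inl hg1
    · right
      have hT : (T : Subgroup G) ≠ ⊥ := by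
        intro h
        apply hnn
        rw [h]
        infer_instance
      obtain ⟨s, hsT, hs2⟩ := exists_invol_mem_sylow T hT
      have hsx : s • (QuotientGroup.mk 1 : G ⧸ Subgroup.normalizer ((T : Subgroup G) : Set G)) =
          QuotientGroup.mk 1 := by
        rw [smul_mk_eq_iff]; simpa using Subgroup.le_normalizer hsT
      have hvy : (g * s * g⁻¹) •
          (QuotientGroup.mk g : G ⧸ Subgroup.normalizer ((T : Subgroup G) : Set G)) =
          QuotientGroup.mk g := by
        rw [smul_mk_eq_iff]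
        have : g⁻¹ * (g * s * g⁻¹) * g = s := by group
        rw [this]; exact Subgroup.le_normalizer hsT
      obtain ⟨i, hi2, hix, -⟩ := se_exists_invol_conj hSE hs2 (by rw [orderOf_conj_eq', hs2]) hsx hvy
        (fun h => hg1 h.symm)
      have hiN : i ∉ Subgroup.normalizer ((T : Subgroup G) : Set G) := by
        intro h
        apply hg1
        rw [← hix]
        rw [smul_mk_eq_iff]
        simpa using h
      have hmki : (QuotientGroup.mk i : G ⧸ Subgroup.normalizer ((T : Subgroup G) : Set G)) =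
          QuotientGroup.mk g := by
        rw [← hix, MulAction.Quotient.smul_mk, smul_eq_mul, mul_one]
      have hle : Subgroup.normalizer ((T : Subgroup G) : Set G) ⊓
          (Subgroup.normalizer ((T : Subgroup G) : Set G)).map (MulAut.conj u).toMonoidHom ≤
          Subgroup.normalizer ((T : Subgroup G) : Set G) ⊓
          (Subgroup.normalizer ((T : Subgroup G) : Set G)).map (MulAut.conj i).toMonoidHom := by
        intro d hd
        refine Subgroup.mem_inf.2 ⟨(Subgroup.mem_inf.1 hd).1, ?_⟩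
        rw [mem_map_conj_iff', ← smul_mk_eq_iff, hmki]
        exact hfix d hd
      have heq := cit_inter_eq_of_le T hnn hC hu huH hi2 hiN hle
      have hiW := cit_u_mem_normalizer T hnn hC hi2 hiN
      rw [← heq] at hiW
      rcases cit_normalizer_cases T hnc hnn hC hu huH hiW with h | h
      · exact absurd (Subgroup.mem_inf.1 h).1 hiN
      · rw [← hmki, QuotientGroup.eq]
        have huu := mul_self_of_orderOf_two hu
        have huinv : u⁻¹ = u := inv_eq_of_mul_eq_one_right huu
        have hii := mul_self_of_orderOf_two hi2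
        have hiinv : i⁻¹ = i := inv_eq_of_mul_eq_one_right hii
        have h1 : i⁻¹ * u = (u * i)⁻¹ := by rw [mul_inv_rev, huinv]
        rw [h1]
        exact Subgroup.inv_mem _ (Subgroup.mem_inf.1 h).1
  · rintro (h | h) d hd
    · rw [h, smul_mk_eq_iff]
      simpa using (Subgroup.mem_inf.1 hd).1
    · rw [h, smul_mk_eq_iff, ← mem_map_conj_iff']
      exact (Subgroup.mem_inf.1 hd).2

end

end Cfsg.Agent.Helper18
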