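import Cfsg.Agent.Helper18.CIT3
import Cfsg.Agent.Lead.SZ

/-!
# CIT-type groups: the action on the cosets of `N_G(T)` is sharply triply transitive
-/

namespace Cfsg.Agent.Helper18

open Subgroup
open Cfsg.Agent.Helper2
open scoped Pointwise

variable {G : Type*} [Group G] [Finite G] (T : Sylow 2 G)

section

variable (hnc : ¬ IsCyclic (T : Subgroup G)) (hnn : ¬ (T : Subgroup G).Normal) (hC : CITHyp G)

include hnn hC

/-- For `g ∉ N` there is an involution `i ∉ N` with `iN = gN`. -/
theorem cit_exists_invol_mapping {g : G}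
    (hg : g ∉ Subgroup.normalizer ((T : Subgroup G) : Set G)) :
    ∃ i : G, orderOf i = 2 ∧ i ∉ Subgroup.normalizer ((T : Subgroup G) : Set G) ∧
      (QuotientGroup.mk i : G ⧸ Subgroup.normalizer ((T : Subgroup G) : Set G)) =
        QuotientGroup.mk g := by
  have hSE := cit_isStronglyEmbedded T hnn hC
  have hT : (T : Subgroup G) ≠ ⊥ := by
    intro h
    apply hnn
    rw [h]
    infer_instance
  obtain ⟨s, hsT, hs2⟩ := exists_invol_mem_sylow T hT
  have hsx : s • (QuotientGroup.mk 1 : G ⧸ Subgroup.normalizer ((T : Subgroup G) : Set G)) =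
      QuotientGroup.mk 1 := by
    rw [smul_mk_eq_iff]; simpa using Subgroup.le_normalizer hsT
  have hvy : (g * s * g⁻¹) •
      (QuotientGroup.mk g : G ⧸ Subgroup.normalizer ((T : Subgroup G) : Set G)) =
      QuotientGroup.mk g := by
    rw [smul_mk_eq_iff]
    have : g⁻¹ * (g * s * g⁻¹) * g = s := by group
    rw [this]; exact Subgroup.le_normalizer hsT
  have hxy : (QuotientGroup.mk 1 : G ⧸ Subgroup.normalizer ((T : Subgroup G) : Set G)) ≠
      QuotientGroup.mk g := by
    intro h
    rw [QuotientGroup.eq] at h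
    apply hg
    simpa using h
  obtain ⟨i, hi2, hix, -⟩ := se_exists_invol_conj hSE hs2 (by rw [orderOf_conj_eq', hs2]) hsx hvy hxy
  have hmki : (QuotientGroup.mk i : G ⧸ Subgroup.normalizer ((T : Subgroup G) : Set G)) =
      QuotientGroup.mk g := by
    rw [← hix, MulAction.Quotient.smul_mk, smul_eq_mul, mul_one]
  refine ⟨i, hi2, ?_, hmki⟩
  intro h
  apply hxy
  rw [← hmki]
  symm
  rw [QuotientGroup.eq]
  simpa using h

/-- A nonidentity element of `T` fixes no coset other than `N`. -/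
theorem cit_T_semiregular {t : G} (ht : t ∈ (T : Subgroup G))
    {x : G ⧸ Subgroup.normalizer ((T : Subgroup G) : Set G)} (hx : x ≠ QuotientGroup.mk 1)
    (hfix : t • x = x) : t = 1 := by
  have hSE := cit_isStronglyEmbedded T hnn hC
  by_contra hne
  have ht2 : orderOf t = 2 := by
    rw [orderOf_two_iff]
    refine ⟨?_, hne⟩
    rw [← pow_two]; exact cit_sq T hC ht
  have h1 : t • (QuotientGroup.mk 1 : G ⧸ Subgroup.normalizer ((T : Subgroup G) : Set G)) =
      QuotientGroup.mk 1 := by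
    rw [smul_mk_eq_iff]; simpa using Subgroup.le_normalizer ht
  exact hx (se_fixed_unique hSE ht2 hfix h1)

end

section

variable (hnc : ¬ IsCyclic (T : Subgroup G)) (hnn : ¬ (T : Subgroup G).Normal) (hC : CITHyp G)
  {u : G} (hu : orderOf u = 2) (huH : u ∉ Subgroup.normalizer ((T : Subgroup G) : Set G))

include hnc hnn hC hu huH

/-- Two two-point stabilizers `D_u`, `D_v` are conjugate under `T`. -/
theorem cit_conj_D {v : G} (hv : orderOf v = 2)
    (hvH : v ∉ Subgroup.normalizer ((T : Subgroup G) : Set G)) :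
    ∃ t ∈ (T : Subgroup G), ∀ d ∈ Subgroup.normalizer ((T : Subgroup G) : Set G) ⊓
      (Subgroup.normalizer ((T : Subgroup G) : Set G)).map (MulAut.conj u).toMonoidHom,
      t * d * t⁻¹ ∈ Subgroup.normalizer ((T : Subgroup G) : Set G) ⊓
      (Subgroup.normalizer ((T : Subgroup G) : Set G)).map (MulAut.conj v).toMonoidHom := by
  have hp2 : Fact (Nat.Prime 2) := ⟨Nat.prime_two⟩
  obtain ⟨-, hcu, hcompu⟩ := cit_structure T hnn hC hu huH
  obtain ⟨-, hcv, hcompv⟩ := cit_structure T hnn hC hv hvH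
  have hAcomm : IsMulCommutative ((T : Subgroup G).subgroupOf
      (Subgroup.normalizer ((T : Subgroup G) : Set G))) :=
    ⟨⟨fun a b => Subtype.ext (Subtype.ext (cit_comm T hC (Subgroup.mem_subgroupOf.1 a.2)
      (Subgroup.mem_subgroupOf.1 b.2)))⟩⟩
  have hcardA : Nat.card ((T : Subgroup G).subgroupOf
      (Subgroup.normalizer ((T : Subgroup G) : Set G))) = Nat.card T :=
    Nat.card_congr (Subgroup.subgroupOfEquivOfLe Subgroup.le_normalizer).toEquiv
  have hcardD : Nat.card ((Subgroup.normalizer ((T : Subgroup G) : Set G) ⊓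
      (Subgroup.normalizer ((T : Subgroup G) : Set G)).map (MulAut.conj u).toMonoidHom).subgroupOf
        (Subgroup.normalizer ((T : Subgroup G) : Set G))) = Nat.card T - 1 := by
    rw [Nat.card_congr (Subgroup.subgroupOfEquivOfLe inf_le_left).toEquiv, hcu]
  have hq := four_le_card_of_not_isCyclic T hnc
  have hcop : (Nat.card ((T : Subgroup G).subgroupOf
      (Subgroup.normalizer ((T : Subgroup G) : Set G)))).Coprime
      ((T : Subgroup G).subgroupOf (Subgroup.normalizer ((T : Subgroup G) : Set G))).index := by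
    have h1 := hcompu.card_mul_card
    have h2 := ((T : Subgroup G).subgroupOf
      (Subgroup.normalizer ((T : Subgroup G) : Set G))).card_mul_index
    rw [hcardD, hcardA] at h1
    rw [hcardA] at h2
    have hidx : ((T : Subgroup G).subgroupOf
        (Subgroup.normalizer ((T : Subgroup G) : Set G))).index = Nat.card T - 1 := by
      have h3 : Nat.card T * ((T : Subgroup G).subgroupOf
          (Subgroup.normalizer ((T : Subgroup G) : Set G))).index =
          Nat.card T * (Nat.card T - 1) := by rw [h2, ← h1, mul_comm]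
      exact Nat.eq_of_mul_eq_mul_left (by omega) h3
    rw [hcardA, hidx]
    obtain ⟨k, hk⟩ := IsPGroup.iff_card.1 T.2
    rw [hk]
    apply Nat.Coprime.pow_left
    rw [Nat.coprime_two_left]
    have hk0 : k ≠ 0 := by
      intro h0; rw [h0, pow_zero] at hk; omega
    have : Even (2 ^ k) := (Nat.even_pow' hk0).2 even_two
    exact Nat.Even.sub_odd (Nat.one_le_two_pow) this odd_one
  obtain ⟨a, ha, hconj⟩ := Cfsg.Agent.Lead.sz_conj_abelian
    ((T : Subgroup G).subgroupOf (Subgroup.normalizer ((T : Subgroup G) : Set G))) hcop _ _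
    hcompu.symm hcompv.symm
  refine ⟨(a : G), Subgroup.mem_subgroupOf.1 ha, ?_⟩
  intro d hd
  have hdN : d ∈ Subgroup.normalizer ((T : Subgroup G) : Set G) := (Subgroup.mem_inf.1 hd).1
  have h1 : (⟨d, hdN⟩ : Subgroup.normalizer ((T : Subgroup G) : Set G)) ∈
      (Subgroup.normalizer ((T : Subgroup G) : Set G) ⊓
      (Subgroup.normalizer ((T : Subgroup G) : Set G)).map (MulAut.conj u).toMonoidHom).subgroupOf
        (Subgroup.normalizer ((T : Subgroup G) : Set G)) := Subgroup.mem_subgroupOf.2 hd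
  have h2 := Subgroup.smul_mem_pointwise_smul _ (MulAut.conj a) _ h1
  rw [hconj, Subgroup.mem_subgroupOf] at h2
  simpa [MulAut.smul_def, MulAut.conj_apply] using h2

/-- `T` is transitive on the cosets other than `N`. -/
theorem cit_T_transitive {x : G ⧸ Subgroup.normalizer ((T : Subgroup G) : Set G)}
    (hx : x ≠ QuotientGroup.mk 1) :
    ∃ t ∈ (T : Subgroup G),
      t • (QuotientGroup.mk u : G ⧸ Subgroup.normalizer ((T : Subgroup G) : Set G)) = x := by
  obtain ⟨g, rfl⟩ := QuotientGroup.mk_surjective x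
  have hg : g ∉ Subgroup.normalizer ((T : Subgroup G) : Set G) := by
    intro h
    apply hx
    rw [QuotientGroup.eq]
    simpa using h
  obtain ⟨v, hv2, hvN, hmk⟩ := cit_exists_invol_mapping T hnn hC hg
  obtain ⟨t, ht, hconj⟩ := cit_conj_D T hnc hnn hC hu huH hv2 hvN
  refine ⟨t, ht, ?_⟩
  -- `D_v` fixes `t • uN`, so `t • uN ∈ {N, vN}`
  have hfix : ∀ d' ∈ Subgroup.normalizer ((T : Subgroup G) : Set G) ⊓
      (Subgroup.normalizer ((T : Subgroup G) : Set G)).map (MulAut.conj v).toMonoidHom,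
      d' • (QuotientGroup.mk (t * u) : G ⧸ Subgroup.normalizer ((T : Subgroup G) : Set G)) =
        QuotientGroup.mk (t * u) := by
    -- `t D_u t⁻¹ ≤ D_v` and equal cardinalities give `D_v = t D_u t⁻¹`
    intro d' hd'
    have hcu := (cit_structure T hnn hC hu huH).2.1
    have hcv := (cit_structure T hnn hC hv2 hvN).2.1
    -- the map d ↦ t d t⁻¹ from D_u to D_v is a bijection
    have hsurj : ∃ d ∈ Subgroup.normalizer ((T : Subgroup G) : Set G) ⊓
        (Subgroup.normalizer ((T : Subgroup G) : Set G)).map (MulAut.conj u).toMonoidHom,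
        t * d * t⁻¹ = d' := by
      have hinj : Function.Injective (fun d : ↥(Subgroup.normalizer ((T : Subgroup G) : Set G) ⊓
          (Subgroup.normalizer ((T : Subgroup G) : Set G)).map (MulAut.conj u).toMonoidHom) =>
          (⟨t * d.1 * t⁻¹, hconj d.1 d.2⟩ : ↥(Subgroup.normalizer ((T : Subgroup G) : Set G) ⊓
          (Subgroup.normalizer ((T : Subgroup G) : Set G)).map (MulAut.conj v).toMonoidHom))) := by
        intro d1 d2 h
        have h' : t * d1.1 * t⁻¹ = t * d2.1 * t⁻¹ := congrArg Subtype.val h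
        apply Subtype.ext
        exact mul_left_cancel (mul_right_cancel h')
      have hbij := (Nat.bijective_iff_injective_and_card _).2 ⟨hinj, by rw [hcu, hcv]⟩
      obtain ⟨d, hd⟩ := hbij.2 ⟨d', hd'⟩
      exact ⟨d.1, d.2, congrArg Subtype.val hd⟩
    obtain ⟨d, hd, rfl⟩ := hsurj
    rw [smul_mk_eq_iff]
    have h1 : (t * u)⁻¹ * (t * d * t⁻¹) * (t * u) = u⁻¹ * d * u := by group
    rw [h1, ← mem_map_conj_iff']
    exact (Subgroup.mem_inf.1 hd).2
  rcases (cit_fixed_iff T hnc hnn hC hv2 hvN (t * u)).1 hfix with h | h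
  · exfalso
    rw [QuotientGroup.eq] at h
    apply huH
    have h2 : (t * u)⁻¹ * 1 ∈ Subgroup.normalizer ((T : Subgroup G) : Set G) := h
    have h3 : u = t⁻¹ * ((t * u)⁻¹ * 1)⁻¹ := by group
    rw [h3]
    exact Subgroup.mul_mem _ (Subgroup.inv_mem _ (Subgroup.le_normalizer ht)) (Subgroup.inv_mem _ h2)
  · rw [MulAction.Quotient.smul_mk, smul_eq_mul, h, hmk]

/-- A nonidentity element of `D` fixes no coset other than `N` and `uN`. -/
theorem cit_D_semiregular {d : G}
    (hd : d ∈ Subgroup.normalizer ((T : Subgroup G) : Set G) ⊓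
      (Subgroup.normalizer ((T : Subgroup G) : Set G)).map (MulAut.conj u).toMonoidHom)
    {x : G ⧸ Subgroup.normalizer ((T : Subgroup G) : Set G)} (hx1 : x ≠ QuotientGroup.mk 1)
    (hxu : x ≠ QuotientGroup.mk u) (hfix : d • x = x) : d = 1 := by
  have hT : (T : Subgroup G) ≠ ⊥ := by
    intro h
    apply hnn
    rw [h]
    infer_instance
  obtain ⟨t, ht, rfl⟩ := cit_T_transitive T hnc hnn hC hu huH hx1
  have ht1 : t ≠ 1 := by
    intro h
    apply hxu
    rw [h, one_smul]
  have ht2 : orderOf t = 2 := by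
    rw [orderOf_two_iff]
    refine ⟨?_, ht1⟩
    rw [← pow_two]; exact cit_sq T hC ht
  have htN : t ∈ Subgroup.normalizer ((T : Subgroup G) : Set G) := Subgroup.le_normalizer ht
  have hdN : d ∈ Subgroup.normalizer ((T : Subgroup G) : Set G) := (Subgroup.mem_inf.1 hd).1
  -- t⁻¹ d t ∈ D
  have h1 : t⁻¹ * d * t ∈ Subgroup.normalizer ((T : Subgroup G) : Set G) ⊓
      (Subgroup.normalizer ((T : Subgroup G) : Set G)).map (MulAut.conj u).toMonoidHom := by
    refine Subgroup.mem_inf.2 ⟨Subgroup.mul_mem _ (Subgroup.mul_mem _ (Subgroup.inv_mem _ htN) hdN) htN, ?_⟩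
    rw [mem_map_conj_iff', ← smul_mk_eq_iff]
    rw [mul_smul, mul_smul, hfix, ← mul_smul, inv_mul_cancel, one_smul]
  have hcD : d⁻¹ * (t⁻¹ * d * t) ∈ Subgroup.normalizer ((T : Subgroup G) : Set G) ⊓
      (Subgroup.normalizer ((T : Subgroup G) : Set G)).map (MulAut.conj u).toMonoidHom :=
    Subgroup.mul_mem _ (Subgroup.inv_mem _ hd) h1
  have hcT : d⁻¹ * (t⁻¹ * d * t) ∈ (T : Subgroup G) := by
    have h2 : d⁻¹ * t⁻¹ * d⁻¹⁻¹ ∈ (T : Subgroup G) :=
      (Subgroup.mem_normalizer_iff.1 (Subgroup.inv_mem _ hdN) _).1 ((T : Subgroup G).inv_mem ht)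
    have : d⁻¹ * (t⁻¹ * d * t) = (d⁻¹ * t⁻¹ * d⁻¹⁻¹) * t := by group
    rw [this]
    exact (T : Subgroup G).mul_mem h2 ht
  have hc1 := cit_inter_T_trivial T hnn hC huH hcD hcT
  have hcomm : d * t = t * d := by
    calc d * t = t * (d * (d⁻¹ * (t⁻¹ * d * t))) := by group
      _ = t * d := by rw [hc1, mul_one]
  have hdT : d ∈ (T : Subgroup G) := by
    rw [← cit_centralizer_eq T hC hT ht ht2, Subgroup.mem_centralizer_singleton_iff]
    exact hcomm
  exact cit_inter_T_trivial T hnn hC huH hd hdT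

/-- `D` is transitive on the cosets other than `N` and `uN`. -/
theorem cit_D_transitive {x y : G ⧸ Subgroup.normalizer ((T : Subgroup G) : Set G)}
    (hx1 : x ≠ QuotientGroup.mk 1) (hxu : x ≠ QuotientGroup.mk u)
    (hy1 : y ≠ QuotientGroup.mk 1) (hyu : y ≠ QuotientGroup.mk u) :
    ∃ d ∈ Subgroup.normalizer ((T : Subgroup G) : Set G) ⊓
      (Subgroup.normalizer ((T : Subgroup G) : Set G)).map (MulAut.conj u).toMonoidHom,
      d • x = y := by
  have hSE := cit_isStronglyEmbedded T hnn hC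
  obtain ⟨t, ht, rfl⟩ := cit_T_transitive T hnc hnn hC hu huH hx1
  obtain ⟨t', ht', rfl⟩ := cit_T_transitive T hnc hnn hC hu huH hy1
  have ht1 : t ≠ 1 := by
    intro h
    apply hxu
    rw [h, one_smul]
  have ht1' : t' ≠ 1 := by
    intro h
    apply hyu
    rw [h, one_smul]
  have ht2 : orderOf t = 2 := by
    rw [orderOf_two_iff]
    refine ⟨?_, ht1⟩
    rw [← pow_two]; exact cit_sq T hC ht
  have ht2' : orderOf t' = 2 := by
    rw [orderOf_two_iff]
    refine ⟨?_, ht1'⟩
    rw [← pow_two]; exact cit_sq T hC ht'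
  obtain ⟨d, hd, hdt⟩ := se_inter_transitive hSE hu huH ht2 (Subgroup.le_normalizer ht) ht2'
    (Subgroup.le_normalizer ht')
  refine ⟨d, hd, ?_⟩
  have hdu : d • (QuotientGroup.mk u : G ⧸ Subgroup.normalizer ((T : Subgroup G) : Set G)) =
      QuotientGroup.mk u := by
    rw [smul_mk_eq_iff, ← mem_map_conj_iff']
    exact (Subgroup.mem_inf.1 hd).2
  calc d • t • (QuotientGroup.mk u : G ⧸ Subgroup.normalizer ((T : Subgroup G) : Set G))
      = (d * t * d⁻¹) • (d • (QuotientGroup.mk u : G ⧸ Subgroup.normalizer ((T : Subgroup G) : Set G))) := by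
        rw [← mul_smul, ← mul_smul]
        congr 1
        group
    _ = t' • (QuotientGroup.mk u : G ⧸ Subgroup.normalizer ((T : Subgroup G) : Set G)) := by
        rw [hdu, hdt]

omit hnc hu hnn hC [Finite G] in
/-- `u` moves the coset `N` to `uN ≠ N`. -/
theorem cit_mk_u_ne :
    (QuotientGroup.mk u : G ⧸ Subgroup.normalizer ((T : Subgroup G) : Set G)) ≠
      QuotientGroup.mk 1 := by
  intro h
  rw [QuotientGroup.eq] at h
  apply huH
  have h2 : u⁻¹ * 1 ∈ Subgroup.normalizer ((T : Subgroup G) : Set G) := h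
  have : u = (u⁻¹ * 1)⁻¹ := by group
  rw [this]
  exact Subgroup.inv_mem _ h2

/-- Any two distinct cosets can be moved to `N` and `uN`. -/
theorem cit_normalize_pair {x₁ x₂ : G ⧸ Subgroup.normalizer ((T : Subgroup G) : Set G)}
    (h12 : x₁ ≠ x₂) :
    ∃ g : G, g • x₁ = QuotientGroup.mk 1 ∧ g • x₂ = QuotientGroup.mk u := by
  obtain ⟨g1, rfl⟩ := QuotientGroup.mk_surjective x₁
  have h1 : g1⁻¹ • (QuotientGroup.mk g1 : G ⧸ Subgroup.normalizer ((T : Subgroup G) : Set G)) =
      QuotientGroup.mk 1 := by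
    rw [MulAction.Quotient.smul_mk, smul_eq_mul, inv_mul_cancel]
  have h2 : g1⁻¹ • x₂ ≠ QuotientGroup.mk 1 := by
    intro h
    apply h12
    rw [← h1] at h
    exact (smul_left_cancel _ h).symm
  obtain ⟨t, ht, htx⟩ := cit_T_transitive T hnc hnn hC hu huH h2
  refine ⟨t⁻¹ * g1⁻¹, ?_, ?_⟩
  · rw [mul_smul, h1, smul_mk_eq_iff]
    simpa using Subgroup.le_normalizer ht
  · rw [mul_smul, ← htx, ← mul_smul, inv_mul_cancel, one_smul]

end

end Cfsg.Agent.Helper18
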