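import Mathlib
import Cfsg.Agent.Helper23.CMDefs
import Cfsg.Agent.Helper24.Abelian

/-!
# S4756 piece COSET: `|C(y)| = |G : G'|` forces the class of `y` to be the coset `y G'`
-/

set_option autoImplicit false

namespace Cfsg.Agent.Helper23.CM

open Cfsg Cfsg.Agent.Helper24
open scoped commutatorElement

universe u

variable {G : Type u} [Group G] [Finite G]

/-- FW6 -/
theorem isConj_mul_of_card (y : G)
    (hcard : Nat.card ↥(Subgroup.centralizer ({y} : Set G)) = (commutator G).index) :
    ∀ n ∈ commutator G, IsConj y (y * n) := by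
  classical
  -- cardinalities
  have h1 := card_conj_mul_card_centralizer y
  have h2 := Subgroup.card_mul_index (commutator G)
  rw [hcard] at h1
  have hidx : 0 < (commutator G).index := Nat.pos_of_ne_zero Subgroup.index_ne_zero_of_finite
  have hcc : Nat.card {x : G // IsConj y x} = Nat.card ↥(commutator G) := by
    have : Nat.card {x : G // IsConj y x} * (commutator G).index
        = Nat.card ↥(commutator G) * (commutator G).index := by rw [h1, h2]
    exact Nat.eq_of_mul_eq_mul_right hidx this
  -- the injective map
  have hmem : ∀ x : {x : G // IsConj y x}, y⁻¹ * (x : G) ∈ commutator G := by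
    rintro ⟨x, hx⟩
    obtain ⟨g, hg⟩ := isConj_iff.mp hx
    have : y⁻¹ * x = ⁅y⁻¹, g⁆ := by
      rw [commutatorElement_def, ← hg]
      group
    rw [this]
    exact Subgroup.commutator_mem_commutator (Subgroup.mem_top _) (Subgroup.mem_top _)
  let f : {x : G // IsConj y x} → ↥(commutator G) := fun x => ⟨y⁻¹ * (x : G), hmem x⟩
  have hinj : Function.Injective f := by
    intro a b hab
    have : y⁻¹ * (a : G) = y⁻¹ * (b : G) := congrArg Subtype.val hab
    exact Subtype.ext (mul_left_cancel this)
  have hbij : Function.Bijective f := by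
    rw [Nat.bijective_iff_injective_and_card]
    exact ⟨hinj, hcc⟩
  intro n hn
  obtain ⟨⟨x, hx⟩, hfx⟩ := hbij.2 ⟨n, hn⟩
  have : y⁻¹ * x = n := congrArg Subtype.val hfx
  have hx' : x = y * n := by rw [← this]; group
  rw [← hx']
  exact hx

end Cfsg.Agent.Helper23.CM
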