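import Mathlib
import Cfsg.Agent.Helper3.CPDefs
import Cfsg.Agent.Helper3.CPBasic

/-!
# S4016 pieces R1A / R1B: auxiliary lemmas (helper18)
-/

set_option autoImplicit false

namespace Cfsg.Agent.Helper18.CPAux

open Subgroup

universe u

variable {G : Type u} [Group G] [Finite G] {p : ℕ} [Fact p.Prime]

omit [Finite G] in
/-- an element whose order is coprime to the index of a normal subgroup lies in it -/
theorem mem_of_coprime_index (N : Subgroup G) [N.Normal] (x : G)
    (h : (orderOf x).Coprime N.index) : x ∈ N := by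
  have h1 : (QuotientGroup.mk' N x) ^ orderOf x = 1 := by
    rw [← map_pow, pow_orderOf_eq_one, map_one]
  have h2 : (QuotientGroup.mk' N x) ^ N.index = 1 := by
    rw [Subgroup.index_eq_card]
    exact pow_card_eq_one'
  have h3 : orderOf (QuotientGroup.mk' N x) ∣ 1 := by
    rw [← Nat.Coprime.gcd_eq_one h]
    exact Nat.dvd_gcd (orderOf_dvd_of_pow_eq_one h1) (orderOf_dvd_of_pow_eq_one h2)
  have h4 : QuotientGroup.mk' N x = 1 := orderOf_eq_one_iff.1 (Nat.dvd_one.1 h3)
  exact (QuotientGroup.eq_one_iff x).1 h4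

/-- a Sylow subgroup `P` with `P ≤ T ≤ N(P)`, `T` normal, is normal -/
theorem normal_of_le_normal_le_normalizer (P : Sylow p G) (T : Subgroup G) [T.Normal]
    (hPT : (P : Subgroup G) ≤ T) (hTN : T ≤ normalizer ((P : Subgroup G) : Set G)) :
    (P : Subgroup G).Normal := by
  constructor
  intro y hy g
  have h1 : g * y * g⁻¹ ∈ T := ‹T.Normal›.conj_mem y (hPT hy) g
  have h2 : g * y * g⁻¹ ∈ normalizer ((P : Subgroup G) : Set G) := hTN h1
  apply Cfsg.Agent.Helper3.CP.mem_sylow_of_mem_normalizer P _ h2
  obtain ⟨k, hk⟩ := (P.2.to_le (zpowers_le.2 hy) : IsPGroup p ↥(zpowers y)).exists_card_eq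
  refine ⟨k, ?_⟩
  have : orderOf (g * y * g⁻¹) = orderOf y := by
    have := orderOf_injective (MulAut.conj g).toMonoidHom (MulAut.conj g).injective y
    simpa [MulAut.conj_apply] using this
  rw [this, ← Nat.card_zpowers, hk]

/-- one normal Sylow subgroup: all are normal -/
theorem all_normal_of_normal (P : Sylow p G) (hP : (P : Subgroup G).Normal) :
    ∀ Q : Sylow p G, (Q : Subgroup G).Normal := by
  intro Q
  have := Sylow.unique_of_normal P hP
  have : Q = P := Subsingleton.elim _ _
  rw [this]; exact hP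

/-- the `p`-part of `|G ⧸ M|` is that of `|G|` when `p ∤ |M|` -/
theorem factorization_quot (M : Subgroup G) [M.Normal] (hM : ¬ p ∣ Nat.card ↥M) :
    (Nat.card (G ⧸ M)).factorization p = (Nat.card G).factorization p := by
  have hp : p.Prime := Fact.out
  have h1 : Nat.card G = Nat.card (G ⧸ M) * Nat.card ↥M :=
    Subgroup.card_eq_card_quotient_mul_card_subgroup M
  rw [h1, Nat.factorization_mul Nat.card_pos.ne' Nat.card_pos.ne', Finsupp.add_apply,
    Nat.factorization_eq_zero_of_not_dvd hM, add_zero]

/-- a normal subgroup whose index is the order of a Sylow `p`-subgroup is a complement of it -/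
theorem isComplement'_of_index_eq (N : Subgroup G) (P : Sylow p G)
    (h : N.index = Nat.card ↥(P : Subgroup G)) : N.IsComplement' (P : Subgroup G) := by
  have hp : p.Prime := Fact.out
  have h1 : Nat.card ↥N * Nat.card ↥(P : Subgroup G) = Nat.card G := by
    rw [← h]; exact N.card_mul_index
  apply isComplement'_of_coprime h1
  have h2 := P.card_eq_multiplicity
  set v := (Nat.card G).factorization p with hv
  rw [h2]
  apply Nat.Coprime.pow_right
  rw [Nat.coprime_comm, Nat.Prime.coprime_iff_not_dvd hp]
  intro hd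
  have h3 : p ^ (v + 1) ∣ Nat.card G := by
    rw [← h1, h2, pow_succ, mul_comm]
    exact Nat.mul_dvd_mul hd dvd_rfl
  exact Nat.pow_succ_factorization_not_dvd Nat.card_pos.ne' hp h3

end Cfsg.Agent.Helper18.CPAux
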