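import Mathlib
import Cfsg.Agent.Helper3.CPDefs
import Cfsg.Agent.Helper3.CPBasic
import Cfsg.Agent.Helper16.BswLoc
import Cfsg.Agent.S3282

/-!
# S4016 piece BSWXa: the local structure `Loc p P L 2` verifies the hypotheses of S3282
-/

set_option autoImplicit false

namespace Cfsg.Agent.Helper18.CPBSWXa

variable {G : Type*} [Group G]

/-- Elements of `L ⊔ P` are products `l * y` when `L, P` commute elementwise. -/
theorem mem_sup_of_commute {L P : Subgroup G}
    (hc : ∀ x ∈ L, ∀ y ∈ P, x * y = y * x) {g : G} (hg : g ∈ L ⊔ P) :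
    ∃ x ∈ L, ∃ y ∈ P, g = x * y := by
  let M' : Subgroup G :=
    { carrier := {g | ∃ x ∈ L, ∃ y ∈ P, g = x * y}
      one_mem' := ⟨1, L.one_mem, 1, P.one_mem, by simp⟩
      mul_mem' := by
        rintro u v ⟨x, hx, y, hy, rfl⟩ ⟨x', hx', y', hy', rfl⟩
        refine ⟨x * x', L.mul_mem hx hx', y * y', P.mul_mem hy hy', ?_⟩
        have := hc x' hx' y hy
        calc x * y * (x' * y') = x * (y * x') * y' := by group
          _ = x * (x' * y) * y' := by rw [this]
          _ = x * x' * (y * y') := by group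
      inv_mem' := by
        rintro u ⟨x, hx, y, hy, rfl⟩
        refine ⟨x⁻¹, L.inv_mem hx, y⁻¹, P.inv_mem hy, ?_⟩
        have := hc x⁻¹ (L.inv_mem hx) y⁻¹ (P.inv_mem hy)
        rw [mul_inv_rev, this] }
  have hle : L ⊔ P ≤ M' := by
    apply sup_le
    · intro x hx; exact ⟨x, hx, 1, P.one_mem, by simp⟩
    · intro y hy; exact ⟨1, L.one_mem, y, hy, by simp⟩
  exact hle hg

/-- elements of `zpowers t`, `t` an involution -/
theorem mem_zpowers_invol {t : G} (ht : t * t = 1) {l : G} (hl : l ∈ Subgroup.zpowers t) :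
    l = 1 ∨ l = t := by
  obtain ⟨k, rfl⟩ := Subgroup.mem_zpowers_iff.1 hl
  rcases Int.even_or_odd' k with ⟨m, hk | hk⟩
  · left
    rw [hk, zpow_mul, zpow_two, ht, one_zpow]
  · right
    rw [hk, zpow_add, zpow_mul, zpow_two, ht, one_zpow, one_mul, zpow_one]

end Cfsg.Agent.Helper18.CPBSWXa

namespace Cfsg.Agent.Helper3.CP

open Subgroup Cfsg.Agent.Helper18.CPBSWXa

universe u

variable {G : Type u} [Group G] [Finite G] {p : ℕ} [Fact p.Prime]

/-- BSWXa -/
theorem exists_QD (P : Sylow p G) (L : Subgroup G) (d : ℕ) (hL : Loc p P L d) (hd2 : d = 2)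
    (t s : G) (ht : orderOf t = 2) (hLt : L = zpowers t) (hs : orderOf s = 2)
    (hsN : s ∈ normalizer ((P : Subgroup G) : Set G)) (hsK : s ∉ L ⊔ (P : Subgroup G))
    (hconj : ∀ x y : G, orderOf x = 2 → orderOf y = 2 → IsConj x y) :
    ∃ Q D : Subgroup G, 2 * Nat.card G = Nat.card ↥Q * (Nat.card ↥Q + 1) * (Nat.card ↥Q - 1) ∧
      (∀ x ∈ Q, x ≠ 1 → Subgroup.centralizer ({x} : Set G) = Q) ∧
      IsMulCommutative ↥D ∧ 2 * Nat.card ↥D + 1 = Nat.card ↥Q ∧ Q ⊓ D = ⊥ ∧
      Subgroup.normalizer (Q : Set G) = Q ⊔ D ∧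
      ∀ X : Subgroup G, X ≤ D → X ≠ ⊥ →
        Subgroup.normalizer (X : Set G) = Subgroup.normalizer (D : Set G) ∧
        ∃ u : G, orderOf u = 2 ∧ u ∉ D ∧ (∀ d ∈ D, u * d * u⁻¹ = d⁻¹) ∧
          Subgroup.normalizer (D : Set G) = D ⊔ Subgroup.zpowers u := by
  have hp : p.Prime := Fact.out
  -- basic facts on `t`, `s`
  have ht1 : t ≠ 1 := by intro h; rw [h, orderOf_one] at ht; omega
  have htt : t * t = 1 := by rw [← pow_two, ← ht, pow_orderOf_eq_one]
  have htinv : t⁻¹ = t := inv_eq_of_mul_eq_one_right htt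
  have hss : s * s = 1 := by rw [← pow_two, ← hs, pow_orderOf_eq_one]
  have htL : t ∈ L := by rw [hLt]; exact mem_zpowers t
  have hLmem : ∀ l ∈ L, l = 1 ∨ l = t := fun l hl => mem_zpowers_invol htt (hLt ▸ hl)
  -- `p` is odd
  have hpodd : p ≠ 2 := by
    intro h2
    have := hL.d_dvd
    rw [hd2, h2] at this
    omega
  have hPsq : ∀ y ∈ (P : Subgroup G), y * y = 1 → y = 1 := by
    intro y hy hyy
    obtain ⟨k, hk⟩ := P.2 ⟨y, hy⟩
    have h1 : y ^ p ^ k = 1 := congrArg Subtype.val hk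
    have h2 : orderOf y ∣ p ^ k := orderOf_dvd_of_pow_eq_one h1
    have h3 : orderOf y ∣ 2 := orderOf_dvd_of_pow_eq_one (by rw [pow_two]; exact hyy)
    have hcop : Nat.Coprime (p ^ k) 2 := by
      apply Nat.Coprime.pow_left
      rw [Nat.coprime_primes hp Nat.prime_two]
      exact hpodd
    exact orderOf_eq_one_iff.1 (Nat.eq_one_of_dvd_coprimes hcop h2 h3)
  -- `P` is abelian
  have hPab : ∀ a ∈ (P : Subgroup G), ∀ b ∈ (P : Subgroup G), a * b = b * a := by
    intro a ha b hb
    by_cases ha1 : a = 1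
    · rw [ha1, one_mul, mul_one]
    have := hL.cent_P a ha ha1
    have hb' : b ∈ centralizer ({a} : Set G) := by rw [this]; exact mem_sup_right hb
    exact (mem_centralizer_singleton_iff.1 hb').symm
  set K : Subgroup G := L ⊔ (P : Subgroup G) with hK
  have hKmem : ∀ x ∈ K, ∃ l ∈ L, ∃ y ∈ (P : Subgroup G), x = l * y :=
    fun x hx => mem_sup_of_commute hL.LP_comm hx
  have hLab : ∀ a ∈ L, ∀ b ∈ L, a * b = b * a := by
    intro a ha b hb
    rcases hLmem a ha with rfl | rfl <;> rcases hLmem b hb with rfl | rfl <;> simp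
  have hKcomm : ∀ a ∈ K, ∀ b ∈ K, a * b = b * a := by
    intro a ha b hb
    obtain ⟨l, hl, y, hy, rfl⟩ := hKmem a ha
    obtain ⟨l', hl', y', hy', rfl⟩ := hKmem b hb
    have h1 := hL.LP_comm l hl y' hy'
    have h2 := hL.LP_comm l' hl' y hy
    have h3 := hLab l hl l' hl'
    have h4 := hPab y hy y' hy'
    calc l * y * (l' * y') = l * (y * l') * y' := by group
      _ = l * (l' * y) * y' := by rw [h2]
      _ = (l * l') * (y * y') := by group
      _ = (l' * l) * (y' * y) := by rw [h3, h4]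
      _ = l' * (l * y') * y := by group
      _ = l' * (y' * l) * y := by rw [h1]
      _ = l' * y' * (l * y) := by group
  have hKab : IsMulCommutative ↥K :=
    ⟨⟨fun a b => Subtype.ext (hKcomm a a.2 b b.2)⟩⟩
  -- `C(t) = N(P)`
  have hCt : centralizer ({t} : Set G) = normalizer ((P : Subgroup G) : Set G) :=
    hL.cent_L t htL ht1
  have hKN : K ≤ normalizer ((P : Subgroup G) : Set G) := by
    apply sup_le _ le_normalizer
    intro l hl
    apply mem_normalizer_of_conj_mem
    intro y hy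
    rw [hL.LP_comm l hl y hy, mul_inv_cancel_right]
    exact hy
  have hKH : K ≤ centralizer ({t} : Set G) := by rw [hCt]; exact hKN
  have htK : t ∈ K := mem_sup_left htL
  have hsH : s ∈ centralizer ({t} : Set G) := by rw [hCt]; exact hsN
  have hst : s * t = t * s := mem_centralizer_singleton_iff.1 hsH
  -- `s` inverts `P`
  have hsPnorm : ∀ c ∈ (P : Subgroup G), s * c * s⁻¹ ∈ (P : Subgroup G) :=
    fun c hc => (mem_normalizer_iff.1 hsN c).1 hc
  have hsPfpf : ∀ c ∈ (P : Subgroup G), s * c * s⁻¹ = c → c = 1 := by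
    intro c hc h
    exact hL.fpf s hsN hsK c hc (mul_inv_eq_iff_eq_mul.1 h)
  have hsinvP := (Cfsg.Agent.Helper21.Bsw.Loc.inverts_of_fpf (P : Subgroup G) s hss hsPnorm
    hsPfpf).1
  have hsL : ∀ l ∈ L, s * l * s⁻¹ = l⁻¹ := by
    intro l hl
    rcases hLmem l hl with rfl | rfl
    · simp
    · rw [hst, mul_inv_cancel_right, htinv]
  have hinv : ∀ x ∈ K, s * x * s⁻¹ = x⁻¹ := by
    intro x hx
    obtain ⟨l, hl, y, hy, rfl⟩ := hKmem x hx
    have h1 : s * (l * y) * s⁻¹ = (s * l * s⁻¹) * (s * y * s⁻¹) := by group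
    rw [h1, hsL l hl, hsinvP y hy, mul_inv_rev]
    exact hL.LP_comm l⁻¹ (L.inv_mem hl) y⁻¹ (inv_mem hy)
  -- `K ∩ C(s) = ⟨t⟩`
  have hCK : K ⊓ centralizer ({s} : Set G) = zpowers t := by
    apply le_antisymm
    · rintro x ⟨hxK, hxs⟩
      obtain ⟨l, hl, y, hy, rfl⟩ := hKmem x hxK
      have hxs' : l * y * s = s * (l * y) := mem_centralizer_singleton_iff.1 hxs
      have hls : l * s = s * l := by
        rcases hLmem l hl with rfl | rfl
        · simp
        · exact hst.symm
      have hys : s * y = y * s := by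
        have h1 : l * (y * s) = l * (s * y) := by
          calc l * (y * s) = l * y * s := by group
            _ = s * (l * y) := hxs'
            _ = (s * l) * y := by group
            _ = (l * s) * y := by rw [hls]
            _ = l * (s * y) := by group
        exact (mul_left_cancel h1).symm
      have hy1 : y = 1 := hL.fpf s hsN hsK y hy hys
      rw [hy1, mul_one, ← hLt]; exact hl
    · rw [zpowers_le]
      exact ⟨htK, mem_centralizer_singleton_iff.2 hst.symm⟩
  -- cardinalities: `K ⊔ ⟨s⟩ = C(t)`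
  have hH : K ⊔ zpowers s = centralizer ({t} : Set G) := by
    rw [hCt]
    apply Subgroup.eq_of_le_of_card_ge
    · apply sup_le hKN
      rw [zpowers_le]; exact hsN
    · rw [hL.card_N, hd2]
      have hLc : Nat.card ↥L = 2 := by rw [hLt, Nat.card_zpowers, ht]
      have hLK : Nat.card ↥L ∣ Nat.card ↥K := Subgroup.card_dvd_of_le le_sup_left
      have hPK : Nat.card ↥(P : Subgroup G) ∣ Nat.card ↥K := Subgroup.card_dvd_of_le le_sup_right
      have hcop : Nat.Coprime (Nat.card ↥(P : Subgroup G)) (Nat.card ↥L) := by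
        rw [P.card_eq_multiplicity, hLc]
        apply Nat.Coprime.pow_left
        rw [Nat.coprime_primes hp Nat.prime_two]
        exact hpodd
      have h1 : Nat.card ↥(P : Subgroup G) * Nat.card ↥L ∣ Nat.card ↥K :=
        Nat.Coprime.mul_dvd_of_dvd_of_dvd hcop hPK hLK
      have h2 : Nat.card ↥K ∣ Nat.card ↥(K ⊔ zpowers s) := Subgroup.card_dvd_of_le le_sup_left
      obtain ⟨m, hm⟩ := h2
      have hm1 : m ≠ 1 := by
        intro h
        rw [h, mul_one] at hm
        have h3 : K = K ⊔ zpowers s := Subgroup.eq_of_le_of_card_ge le_sup_left hm.le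
        apply hsK
        rw [h3]
        exact mem_sup_right (mem_zpowers s)
      have hm0 : m ≠ 0 := by
        intro h
        rw [h, mul_zero] at hm
        exact Nat.card_pos.ne' hm
      have hm2 : 2 ≤ m := by omega
      have hKpos : 0 < Nat.card ↥K := Nat.card_pos
      have h4 : Nat.card ↥(P : Subgroup G) * Nat.card ↥L ≤ Nat.card ↥K := Nat.le_of_dvd hKpos h1
      rw [hm]
      calc Nat.card ↥(P : Subgroup G) * Nat.card ↥L * 2 ≤ Nat.card ↥K * 2 :=
            Nat.mul_le_mul_right 2 h4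
        _ ≤ Nat.card ↥K * m := Nat.mul_le_mul_left _ hm2
  -- the TI property
  have hTI : ∀ g : G, g ∉ centralizer ({t} : Set G) →
      K ⊓ K.map (MulAut.conj g).toMonoidHom = ⊥ := by
    intro g hg
    rw [eq_bot_iff]
    rintro x ⟨hxK, hxKg⟩
    rw [mem_bot]
    by_contra hx1
    obtain ⟨k, hkK, hkx⟩ := hxKg
    have hkx' : g * k * g⁻¹ = x := by simpa [MulAut.conj_apply] using hkx
    obtain ⟨l, hl, y, hy, hxly⟩ := hKmem x hxK
    obtain ⟨l₀, hl₀, y₀, hy₀, hkly⟩ := hKmem k hkK
    have hll : ∀ l ∈ L, l * l = 1 := by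
      intro l hl
      rcases hLmem l hl with rfl | rfl
      · simp
      · exact htt
    have hxx : x * x = y * y := by
      rw [hxly]
      calc l * y * (l * y) = l * (y * l) * y := by group
        _ = l * (l * y) * y := by rw [hL.LP_comm l hl y hy]
        _ = (l * l) * (y * y) := by group
        _ = y * y := by rw [hll l hl, one_mul]
    have hkk : k * k = y₀ * y₀ := by
      rw [hkly]
      calc l₀ * y₀ * (l₀ * y₀) = l₀ * (y₀ * l₀) * y₀ := by group
        _ = l₀ * (l₀ * y₀) * y₀ := by rw [hL.LP_comm l₀ hl₀ y₀ hy₀]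
        _ = (l₀ * l₀) * (y₀ * y₀) := by group
        _ = y₀ * y₀ := by rw [hll l₀ hl₀, one_mul]
    have hxxk : x * x = g * (k * k) * g⁻¹ := by rw [← hkx']; group
    by_cases hy1 : y = 1
    · -- `x = l = t`
      have hxl : x = l := by rw [hxly, hy1, mul_one]
      have hxt : x = t := by
        rcases hLmem l hl with h | h
        · exact absurd (hxl.trans h) hx1
        · exact hxl.trans h
      have hyy0 : y₀ * y₀ = 1 := by
        have h1 : g * (k * k) * g⁻¹ = 1 := by rw [← hxxk, hxt, htt]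
        have h2 : k * k = 1 := by
          have h3 : k * k = g⁻¹ * (g * (k * k) * g⁻¹) * g := by group
          rw [h3, h1]; group
        rw [← hkk, h2]
      have hy01 : y₀ = 1 := hPsq y₀ hy₀ hyy0
      have hkl : k = l₀ := by rw [hkly, hy01, mul_one]
      have hkt : k = t := by
        rcases hLmem l₀ hl₀ with h | h
        · exfalso
          apply hx1
          rw [← hkx', hkl, h]; group
        · exact hkl.trans h
      apply hg
      rw [mem_centralizer_singleton_iff]
      have h1 : g * t * g⁻¹ = t := by rw [← hkt, hkx', hxt, hkt]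
      exact mul_inv_eq_iff_eq_mul.1 h1
    · -- `y ≠ 1`: then `g ∈ N(P) = C(t)`
      have hyy1 : y * y ≠ 1 := fun h => hy1 (hPsq y hy h)
      have hyyP : y * y ∈ (P : Subgroup G) := mul_mem hy hy
      have hy0y0P : y₀ * y₀ ∈ (P : Subgroup G) := mul_mem hy₀ hy₀
      have hconj1 : y * y = g * (y₀ * y₀) * g⁻¹ := by rw [← hxx, hxxk, hkk]
      have hC := hL.cent_P (y * y) hyyP hyy1
      apply hg
      rw [hCt]
      apply mem_normalizer_of_conj_mem
      intro u hu
      have h1 : g * u * g⁻¹ ∈ centralizer ({y * y} : Set G) := by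
        rw [mem_centralizer_singleton_iff, hconj1]
        have := hPab u hu (y₀ * y₀) hy0y0P
        calc g * u * g⁻¹ * (g * (y₀ * y₀) * g⁻¹) = g * (u * (y₀ * y₀)) * g⁻¹ := by group
          _ = g * ((y₀ * y₀) * u) * g⁻¹ := by rw [this]
          _ = g * (y₀ * y₀) * g⁻¹ * (g * u * g⁻¹) := by group
      rw [hC] at h1
      have h2 : g * u * g⁻¹ ∈ normalizer ((P : Subgroup G) : Set G) := hKN h1
      apply mem_sylow_of_mem_normalizer P _ h2
      obtain ⟨j, hj⟩ := P.2 ⟨u, hu⟩
      have h3 : u ^ p ^ j = 1 := congrArg Subtype.val hj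
      have h4 : (g * u * g⁻¹) ^ p ^ j = 1 := by rw [conj_pow, h3]; group
      have h5 : orderOf (g * u * g⁻¹) ∣ p ^ j := orderOf_dvd_of_pow_eq_one h4
      obtain ⟨i, -, hi⟩ := (Nat.dvd_prime_pow hp).1 h5
      exact ⟨i, hi⟩
  exact Cfsg.Agent.S3282.result t ht K hKab hKH htK s hs hsH hsK hH hCK hinv hTI hconj

end Cfsg.Agent.Helper3.CP
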