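import Mathlib
import Cfsg.Agent.Helper3.CPDefs
import Cfsg.Agent.Helper3.CPBasic
import Cfsg.Agent.Helper18.CPAux

/-!
# S4016 piece R1A: lift `Concl` from `G ⧸ M`, `M` a normal `p'`-subgroup
-/

set_option autoImplicit false

namespace Cfsg.Agent.Helper3.CP

open Subgroup

universe u

variable {G : Type u} [Group G] [Finite G] {p : ℕ} [Fact p.Prime]

/-- R1A -/
theorem concl_of_quot_pprime (h : Hyp p G) (M : Subgroup G) [M.Normal] (hM : ¬ p ∣ Nat.card ↥M)
    (hq : Concl p (G ⧸ M)) : Concl p G := by
  have hp : p.Prime := Fact.out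
  have hsurj : Function.Surjective (QuotientGroup.mk' M) := QuotientGroup.mk'_surjective M
  obtain ⟨P⟩ : Nonempty (Sylow p G) := inferInstance
  rcases hq with ⟨Pb, Nb, hNb, hcompl⟩ | hq
  · -- a normal `p`-complement of the quotient
    left
    refine ⟨P, Nb.comap (QuotientGroup.mk' M), hNb.comap _, ?_⟩
    apply Cfsg.Agent.Helper18.CPAux.isComplement'_of_index_eq
    rw [Subgroup.index_comap_of_surjective _ hsurj, (isComplement'_comm.1 hcompl).index_eq_card,
      Pb.card_eq_multiplicity, P.card_eq_multiplicity,
      Cfsg.Agent.Helper18.CPAux.factorization_quot M hM]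
  · -- the Sylow `p`-subgroups of the quotient are normal
    by_cases hNC : normalizer ((P : Subgroup G) : Set G) ≤ centralizer ((P : Subgroup G) : Set G)
    · left
      exact ⟨P, _, inferInstance, MonoidHom.ker_transferSylow_isComplement' P hNC⟩
    · right
      apply Cfsg.Agent.Helper18.CPAux.all_normal_of_normal P
      have hcyc := h.1 P
      have hcomm : ∀ a ∈ (P : Subgroup G), ∀ b ∈ (P : Subgroup G), a * b = b * a := by
        intro a ha b hb
        have h1 := IsCyclic.commGroup.mul_comm (⟨a, ha⟩ : (P : Subgroup G)) ⟨b, hb⟩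
        exact congrArg Subtype.val h1
      obtain ⟨x, hxN, hxo, hxC⟩ := exists_pprime_not_mem_centralizer P hcomm hNC
      have hxM : ∀ m ∈ M, x * m = m * x :=
        h.commute_of_pprime M hM x hxo (fun m hm => ‹M.Normal›.conj_mem m hm x)
      have hPM : ∀ u ∈ (P : Subgroup G), ∀ m ∈ M, u * m = m * u :=
        centralizes_of_pprime P hcyc M (fun u _ m hm => ‹M.Normal›.conj_mem m hm u) x hxN hxC hxM
      -- `T = P ⊔ M` is normal
      have hTn : ((P : Subgroup G) ⊔ M).Normal := by
        have h1 : ((P : Subgroup G).map (QuotientGroup.mk' M)).Normal := by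
          have := hq (P.mapSurjective hsurj)
          rwa [Sylow.coe_mapSurjective] at this
        have h2 := h1.comap (QuotientGroup.mk' M)
        rwa [Subgroup.comap_map_eq, QuotientGroup.ker_mk'] at h2
      refine @Cfsg.Agent.Helper18.CPAux.normal_of_le_normal_le_normalizer _ _ _ _ _ P
        ((P : Subgroup G) ⊔ M) hTn le_sup_left ?_
      apply sup_le le_normalizer
      intro m hm
      rw [mem_normalizer_iff]
      intro u
      have key : ∀ v ∈ (P : Subgroup G), m * v * m⁻¹ = v := by
        intro v hv
        rw [← hPM v hv m hm, mul_inv_cancel_right]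
      constructor
      · intro hu
        rw [key u hu]; exact hu
      · intro hu
        have h1 := key _ hu
        have h2 : m * u * m⁻¹ = m * (m * u * m⁻¹) * m⁻¹ → u = m * u * m⁻¹ := by
          intro h3
          have := mul_left_cancel (mul_right_cancel h3)
          exact this
        rw [h2 h1.symm]; exact hu

end Cfsg.Agent.Helper3.CP
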