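import Mathlib
import Cfsg.Agent.Helper3.CPDefs
import Cfsg.Agent.Helper3.CPBasic
import Cfsg.Agent.Helper16.BswLoc
import Cfsg.Agent.Helper18.CPAux

/-!
# S4016 piece R1B: lift `Concl` from `G ⧸ Q`, `Q` a normal `p`-subgroup, `O_{p'}(G) = 1`
-/

set_option autoImplicit false

namespace Cfsg.Agent.Helper3.CP

open Subgroup

universe u

variable {G : Type u} [Group G] [Finite G] {p : ℕ} [Fact p.Prime]

/-- R1B -/
theorem concl_of_quot_p (h : Hyp p G) (Q : Subgroup G) [Q.Normal] (hQ : IsPGroup p ↥Q)
    (hcore : ∀ M : Subgroup G, M.Normal → ¬ p ∣ Nat.card ↥M → M = ⊥)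
    (hq : Concl p (G ⧸ Q)) : Concl p G := by
  have hp : p.Prime := Fact.out
  have hsurj : Function.Surjective (QuotientGroup.mk' Q) := QuotientGroup.mk'_surjective Q
  obtain ⟨P⟩ : Nonempty (Sylow p G) := inferInstance
  right
  apply Cfsg.Agent.Helper18.CPAux.all_normal_of_normal P
  -- `Q ≤ P`
  have hQP : Q ≤ (P : Subgroup G) := by
    have h1 : IsPGroup p ↥((P : Subgroup G) ⊔ Q) := IsPGroup.to_sup_of_normal_right P.2 hQ
    have h2 := P.3 h1 le_sup_left
    rw [← h2]; exact le_sup_right
  have hcyc := h.1 P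
  have hcomm : ∀ a ∈ (P : Subgroup G), ∀ b ∈ (P : Subgroup G), a * b = b * a := by
    intro a ha b hb
    have h1 := IsCyclic.commGroup.mul_comm (⟨a, ha⟩ : (P : Subgroup G)) ⟨b, hb⟩
    exact congrArg Subtype.val h1
  rcases hq with ⟨Pb, Kb, hKb, hcompl⟩ | hq
  · -- `G ⧸ Q` has a normal `p`-complement `Kb`
    set K : Subgroup G := Kb.comap (QuotientGroup.mk' Q) with hK
    have hKn : K.Normal := hKb.comap _
    set C : Subgroup G := centralizer (Q : Set G) with hC
    have hCn : C.Normal := by
      constructor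
      intro c hc g
      rw [hC, mem_centralizer_iff] at hc ⊢
      intro q hq
      have hq' : g⁻¹ * q * g ∈ Q := by
        have := ‹Q.Normal›.conj_mem q hq g⁻¹
        simpa using this
      have h1 := hc _ hq'
      calc q * (g * c * g⁻¹) = g * ((g⁻¹ * q * g) * c) * g⁻¹ := by group
        _ = g * (c * (g⁻¹ * q * g)) * g⁻¹ := by rw [h1]
        _ = g * c * g⁻¹ * q := by group
    set D : Subgroup G := C ⊓ K with hD
    have hDn : D.Normal := by
      have := hCn; have := hKn
      exact inferInstance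
    -- the index of `Kb` is a power of `p`
    have hKbidx : ∃ j : ℕ, Kb.index = p ^ j := by
      rw [(isComplement'_comm.1 hcompl).index_eq_card]
      exact ⟨_, Pb.card_eq_multiplicity⟩
    -- `p ∤ |Kb|`
    have hKbcard : ¬ p ∣ Nat.card ↥Kb := by
      have h1 := hcompl.card_mul_card
      have h2 := Pb.card_eq_multiplicity
      set v := (Nat.card (G ⧸ Q)).factorization p with hv
      intro hd
      have h3 : p ^ (v + 1) ∣ Nat.card (G ⧸ Q) := by
        rw [← h1, h2, pow_succ, mul_comm]
        exact Nat.mul_dvd_mul hd dvd_rfl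
      exact Nat.pow_succ_factorization_not_dvd Nat.card_pos.ne' hp h3
    -- `p`-elements of `K` lie in `Q`
    have hpK : ∀ x ∈ K, (∃ k : ℕ, orderOf x = p ^ k) → x ∈ Q := by
      intro x hx ⟨k, hk⟩
      have hxb : QuotientGroup.mk' Q x ∈ Kb := hx
      have h1 : orderOf (QuotientGroup.mk' Q x) ∣ p ^ k := by
        rw [← hk]; exact orderOf_map_dvd _ x
      have h2 : orderOf (QuotientGroup.mk' Q x) ∣ Nat.card ↥Kb := by
        have := orderOf_dvd_natCard (⟨_, hxb⟩ : Kb)
        rwa [Subgroup.orderOf_mk] at this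
      have h3 : orderOf (QuotientGroup.mk' Q x) = 1 := by
        have hcop : Nat.Coprime (p ^ k) (Nat.card ↥Kb) :=
          Nat.Coprime.pow_left k ((Nat.Prime.coprime_iff_not_dvd hp).2 hKbcard)
        exact Nat.eq_one_of_dvd_coprimes hcop h1 h2
      exact (QuotientGroup.eq_one_iff x).1 (orderOf_eq_one_iff.1 h3)
    -- `p'`-elements of `G` lie in `K`
    have hp'K : ∀ x : G, ¬ p ∣ orderOf x → x ∈ K := by
      intro x hx
      change QuotientGroup.mk' Q x ∈ Kb
      apply Cfsg.Agent.Helper18.CPAux.mem_of_coprime_index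
      obtain ⟨j, hj⟩ := hKbidx
      rw [hj]
      apply Nat.Coprime.pow_right
      rw [Nat.coprime_comm, Nat.Prime.coprime_iff_not_dvd hp]
      intro hd
      exact hx (hd.trans (orderOf_map_dvd _ x))
    -- Burnside inside `D`
    obtain ⟨M, a, hMD, hMn, hMcard, hMp, hMall⟩ :=
      Cfsg.Agent.Helper21.Bsw.Loc.burnside_in p D (by
        intro R hRD hR _ n hn _
        rw [mem_centralizer_iff]
        intro r hr
        have hrQ : r ∈ Q := by
          apply hpK r (hRD hr).2
          obtain ⟨k, hk⟩ := (hR.to_le (zpowers_le.2 hr) : IsPGroup p ↥(zpowers r)).exists_card_eq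
          exact ⟨k, by rw [← Nat.card_zpowers, hk]⟩
        have hnC : n ∈ C := hn.1
        rw [hC, mem_centralizer_iff] at hnC
        exact hnC r hrQ)
    -- `M` is normal in `G`, hence trivial
    have hMnorm : M.Normal := by
      constructor
      intro x hx g
      have hxD : g * x * g⁻¹ ∈ D := hDn.conj_mem x (hMD hx) g
      apply hMall _ hxD (Nat.card ↥M) ((Nat.Prime.coprime_iff_not_dvd hp).2 hMp).symm
      have h1 : x ^ Nat.card ↥M = 1 := by
        have := pow_card_eq_one' (G := ↥M) (x := ⟨x, hx⟩)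
        exact congrArg Subtype.val this
      have h2 : (g * x * g⁻¹) ^ Nat.card ↥M = g * x ^ Nat.card ↥M * g⁻¹ := by
        rw [conj_pow]
      rw [h2, h1]; group
    have hMbot : M = ⊥ := hcore M hMnorm hMp
    have hDp : IsPGroup p ↥D := by
      apply IsPGroup.of_card (n := a)
      rw [← hMcard, hMbot, Subgroup.card_bot, one_mul]
    -- `C` is a `p`-group
    have hCp : IsPGroup p ↥C := by
      intro y
      obtain ⟨a', b', hab, ⟨k, hk⟩, hbo⟩ := exists_pow_decomp hp (y : G)
      have hbC : (y : G) ^ b' ∈ C := pow_mem y.2 b'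
      have hbD : (y : G) ^ b' ∈ D := ⟨hbC, hp'K _ hbo⟩
      have hb1 : (y : G) ^ b' = 1 := by
        obtain ⟨k', hk'⟩ := hDp ⟨_, hbD⟩
        have h1 : ((y : G) ^ b') ^ p ^ k' = 1 := congrArg Subtype.val hk'
        have h2 : orderOf ((y : G) ^ b') ∣ p ^ k' := orderOf_dvd_of_pow_eq_one h1
        obtain ⟨j, -, hj⟩ := (Nat.dvd_prime_pow hp).1 h2
        rcases Nat.eq_zero_or_pos j with hj0 | hj0
        · rw [hj0, pow_zero] at hj
          exact orderOf_eq_one_iff.1 hj
        · exfalso
          apply hbo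
          rw [hj]
          exact dvd_pow_self p hj0.ne'
      refine ⟨k, ?_⟩
      apply Subtype.ext
      rw [Subgroup.coe_pow, Subgroup.coe_one, hab, hb1, mul_one, ← hk, pow_orderOf_eq_one]
    -- `P ≤ C`
    have hPC : (P : Subgroup G) ≤ C := by
      intro u hu
      rw [hC, mem_centralizer_iff]
      intro q hq
      exact hcomm q (hQP hq) u hu
    have hCP : C = (P : Subgroup G) := P.3 hCp hPC
    rw [← hCP]; exact hCn
  · -- the Sylow `p`-subgroups of the quotient are normal
    have h1 : ((P : Subgroup G).map (QuotientGroup.mk' Q)).Normal := by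
      have := hq (P.mapSurjective hsurj)
      rwa [Sylow.coe_mapSurjective] at this
    have h2 := h1.comap (QuotientGroup.mk' Q)
    rwa [Subgroup.comap_map_eq, QuotientGroup.ker_mk', sup_of_le_left hQP] at h2

end Cfsg.Agent.Helper3.CP
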