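import Mathlib
import Cfsg.Agent.Helper18.CTDefs

set_option autoImplicit false

/-! Piece CONV of S5748: `PSL₂(F)`, `|F| = 2^f`, is a CT-group. -/

namespace Cfsg.Agent.Helper18.CT

open Matrix

variable {F : Type*} [Field F]

/-- a matrix commuting with a non-scalar `2 × 2` matrix `B` is a polynomial in `B` -/
theorem exists_poly_of_commute (A B : Matrix (Fin 2) (Fin 2) F)
    (hB : ¬ ∃ r : F, B = r • (1 : Matrix (Fin 2) (Fin 2) F)) (hAB : A * B = B * A) :
    ∃ x y : F, A = x • (1 : Matrix (Fin 2) (Fin 2) F) + y • B := by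
  have h00 := congrFun (congrFun hAB 0) 0
  have h01 := congrFun (congrFun hAB 0) 1
  have h10 := congrFun (congrFun hAB 1) 0
  have h11 := congrFun (congrFun hAB 1) 1
  simp only [Matrix.mul_apply, Fin.sum_univ_two] at h00 h01 h10 h11
  by_cases hb : B 0 1 ≠ 0
  · refine ⟨A 0 0 - A 0 1 / B 0 1 * B 0 0, A 0 1 / B 0 1, ?_⟩
    ext i j
    fin_cases i <;> fin_cases j <;>
      simp only [Matrix.add_apply, Matrix.smul_apply, Matrix.one_apply_eq, Matrix.one_apply_ne,
        ne_eq, Fin.reduceEq, not_false_eq_true, smul_eq_mul, Fin.zero_eta, Fin.mk_one, mul_one,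
        mul_zero, zero_add] <;> field_simp <;>
      first | ring1 | linear_combination h00 | linear_combination -h00 | linear_combination h01 |
        linear_combination -h01 | linear_combination h10 | linear_combination -h10
  push Not at hb
  by_cases hc : B 1 0 ≠ 0
  · refine ⟨A 0 0 - A 1 0 / B 1 0 * B 0 0, A 1 0 / B 1 0, ?_⟩
    ext i j
    fin_cases i <;> fin_cases j <;>
      simp only [Matrix.add_apply, Matrix.smul_apply, Matrix.one_apply_eq, Matrix.one_apply_ne,
        ne_eq, Fin.reduceEq, not_false_eq_true, smul_eq_mul, Fin.zero_eta, Fin.mk_one, mul_one,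
        mul_zero, zero_add] <;> field_simp <;>
      first | ring1 | linear_combination h00 | linear_combination -h00 | linear_combination h01 |
        linear_combination -h01 | linear_combination h10 | linear_combination -h10
  push Not at hc
  have hd : B 0 0 - B 1 1 ≠ 0 := by
    intro hd
    apply hB
    refine ⟨B 0 0, ?_⟩
    ext i j
    fin_cases i <;> fin_cases j <;> simp [hb, hc]
    linear_combination -hd
  rw [hb] at h01
  rw [hc] at h10
  have ha01 : A 0 1 = 0 := by
    have : A 0 1 * (B 0 0 - B 1 1) = 0 := by linear_combination -h01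
    rcases mul_eq_zero.1 this with h | h
    · exact h
    · exact absurd h hd
  have ha10 : A 1 0 = 0 := by
    have : A 1 0 * (B 0 0 - B 1 1) = 0 := by linear_combination h10
    rcases mul_eq_zero.1 this with h | h
    · exact h
    · exact absurd h hd
  refine ⟨A 0 0 - (A 0 0 - A 1 1) / (B 0 0 - B 1 1) * B 0 0, (A 0 0 - A 1 1) / (B 0 0 - B 1 1), ?_⟩
  ext i j
  fin_cases i <;> fin_cases j <;>
    simp only [Matrix.add_apply, Matrix.smul_apply, Matrix.one_apply_eq, Matrix.one_apply_ne,
      ne_eq, Fin.reduceEq, not_false_eq_true, smul_eq_mul, Fin.zero_eta, Fin.mk_one, mul_one,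
      mul_zero, zero_add, ha01, ha10, hb, hc] <;> field_simp <;> ring

/-- two matrices commuting with a non-scalar `2 × 2` matrix commute -/
theorem commute_of_commute_nonscalar (A B C : Matrix (Fin 2) (Fin 2) F)
    (hB : ¬ ∃ r : F, B = r • (1 : Matrix (Fin 2) (Fin 2) F)) (hAB : A * B = B * A)
    (hCB : C * B = B * C) : A * C = C * A := by
  obtain ⟨x, y, rfl⟩ := exists_poly_of_commute A B hB hAB
  obtain ⟨x', y', rfl⟩ := exists_poly_of_commute C B hB hCB
  simp only [add_mul, mul_add, smul_mul_assoc, mul_smul_comm, one_mul, mul_one, smul_add,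
    smul_smul]
  rw [mul_comm x x', mul_comm y y', mul_comm x y', mul_comm y x']
  abel

/-- **Piece CONV.** -/
theorem ct_of_psl {F : Type} [Field F] [Fintype F] (f : ℕ) (hF : Fintype.card F = 2 ^ f) :
    IsCT (Matrix.ProjectiveSpecialLinearGroup (Fin 2) F) := by
  classical
  -- characteristic two
  have hf0 : f ≠ 0 := by
    intro h
    rw [h, pow_zero] at hF
    have := Fintype.one_lt_card (α := F)
    omega
  have hchar : ringChar F = 2 := by
    rw [FiniteField.even_card_iff_char_two, hF]
    obtain ⟨k, rfl⟩ := Nat.exists_eq_succ_of_ne_zero hf0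
    rw [pow_succ]
    omega
  have : CharP F 2 := ringChar.of_eq hchar
  have h2 : (2 : F) = 0 := CharTwo.two_eq_zero
  have hsq : ∀ r : F, r ^ 2 = 1 → r = 1 := by
    intro r hr
    have : (r - 1) ^ 2 = 0 := by linear_combination hr - (r - 1) * h2
    have h0 := pow_eq_zero_iff (two_ne_zero) |>.1 this
    linear_combination h0
  -- the centre is trivial
  have hcen : Subgroup.center (SpecialLinearGroup (Fin 2) F) = ⊥ := by
    rw [eq_bot_iff]
    intro A hA
    rw [Matrix.SpecialLinearGroup.mem_center_iff] at hA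
    obtain ⟨r, hr, hrA⟩ := hA
    rw [Fintype.card_fin] at hr
    rw [hsq r hr] at hrA
    rw [Subgroup.mem_bot]
    apply Subtype.ext
    rw [← hrA]
    simp
  -- non-identity elements of `SL₂` are non-scalar
  have hns : ∀ B : SpecialLinearGroup (Fin 2) F, B ≠ 1 →
      ¬ ∃ r : F, (B : Matrix (Fin 2) (Fin 2) F) = r • (1 : Matrix (Fin 2) (Fin 2) F) := by
    rintro B hB1 ⟨r, hr⟩
    apply hB1
    have hdet := B.2
    rw [hr, Matrix.det_smul, Matrix.det_one, Fintype.card_fin, mul_one] at hdet
    apply Subtype.ext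
    rw [hr, hsq r hdet, one_smul]
    rfl
  -- lifting commutation
  have hlift : ∀ A B : SpecialLinearGroup (Fin 2) F,
      Commute (QuotientGroup.mk A : ProjectiveSpecialLinearGroup (Fin 2) F) (QuotientGroup.mk B) →
        (A : Matrix (Fin 2) (Fin 2) F) * B = B * A := by
    intro A B h
    have h1 : (QuotientGroup.mk (A * B) : ProjectiveSpecialLinearGroup (Fin 2) F) =
        QuotientGroup.mk (B * A) := by
      rw [QuotientGroup.mk_mul, QuotientGroup.mk_mul]; exact h
    rw [QuotientGroup.eq, hcen, Subgroup.mem_bot, inv_mul_eq_one] at h1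
    have := congrArg Subtype.val h1
    simpa using this
  intro a b c ha hb hc hab hbc
  obtain ⟨A, rfl⟩ := QuotientGroup.mk_surjective a
  obtain ⟨B, rfl⟩ := QuotientGroup.mk_surjective b
  obtain ⟨C, rfl⟩ := QuotientGroup.mk_surjective c
  have hB1 : B ≠ 1 := by
    intro h
    apply hb
    rw [h]
    rfl
  have h1 := hlift A B hab
  have h2 := (hlift B C hbc).symm
  have h3 := commute_of_commute_nonscalar (A : Matrix (Fin 2) (Fin 2) F) B C (hns B hB1) h1 h2
  show (QuotientGroup.mk A : ProjectiveSpecialLinearGroup (Fin 2) F) * QuotientGroup.mk C =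
    QuotientGroup.mk C * QuotientGroup.mk A
  rw [← QuotientGroup.mk_mul, ← QuotientGroup.mk_mul]
  congr 1
  apply Subtype.ext
  simpa using h3

end Cfsg.Agent.Helper18.CT
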