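import Mathlib
import Cfsg.Prelude.Def_LieExceptional
import Cfsg.Agent.Helper18.CTDefs
import Cfsg.Agent.Helper24.CTLOCA
import Cfsg.Agent.Helper20.CTCNT
import Cfsg.Agent.Helper8.CTFIX
import Cfsg.Agent.Helper10.CTZASA
import Cfsg.Agent.Helper7.CTZASB
import Cfsg.Agent.Helper29.CTGEO
import Cfsg.Agent.Helper3.CTLOCC
import Cfsg.Agent.Helper3.CTLOCB
import Cfsg.Agent.Helper4.ZKMain
import Cfsg.Agent.S0885
import Cfsg.Agent.S1230

set_option autoImplicit false

/-! # Simple CT-groups: assembly (driver part) -/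

namespace Cfsg.Agent.Helper18.CT

open Cfsg MulAction

variable {G : Type*} [Group G]

/-! ### CT basics -/

theorem IsCT.comm_of_comm (hct : IsCT G) {x a b : G} (hx : x ≠ 1) (ha : a * x = x * a)
    (hb : b * x = x * b) : a * b = b * a := by
  by_cases ha1 : a = 1
  · rw [ha1, one_mul, mul_one]
  by_cases hb1 : b = 1
  · rw [hb1, one_mul, mul_one]
  exact hct a x b ha1 hx hb1 ha hb.symm

theorem mem_centralizer_singleton' {t x : G} :
    x ∈ Subgroup.centralizer ({t} : Set G) ↔ x * t = t * x := by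
  rw [Subgroup.mem_centralizer_singleton_iff]

theorem IsCT.centralizer_comm (hct : IsCT G) {t : G} (ht : t ≠ 1) :
    ∀ x ∈ Subgroup.centralizer ({t} : Set G), ∀ y ∈ Subgroup.centralizer ({t} : Set G),
      x * y = y * x := by
  intro x hx y hy
  rw [mem_centralizer_singleton'] at hx hy
  exact hct.comm_of_comm ht hx hy

theorem IsCT.centralizer_cent (hct : IsCT G) {t : G} (_ht : t ≠ 1) :
    ∀ a ∈ Subgroup.centralizer ({t} : Set G), a ≠ 1 → ∀ x : G, x * a = a * x →
      x ∈ Subgroup.centralizer ({t} : Set G) := by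
  intro a ha ha1 x hx
  rw [mem_centralizer_singleton'] at ha ⊢
  -- `x ~ a ~ t`
  have h1 : t * a = a * t := ha.symm
  exact hct.comm_of_comm ha1 hx h1

theorem ne_one_of_orderOf_two {t : G} (ht : orderOf t = 2) : t ≠ 1 := by
  intro h
  rw [h, orderOf_one] at ht
  norm_num at ht

/-- the local data around the centralizer of an involution -/
theorem loc_of_ct [Finite G] [IsSimpleGroup G] (hct : IsCT G) (hna : ¬ ∀ a b : G, a * b = b * a)
    {t : G} (ht : orderOf t = 2) :
    ∃ e, Loc (Subgroup.centralizer ({t} : Set G)) e := by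
  have ht1 := ne_one_of_orderOf_two ht
  set A := Subgroup.centralizer ({t} : Set G) with hA
  obtain ⟨hodd, hge⟩ := Cfsg.Agent.Helper3.CT.inv_card_centralizer hct hna ht
  set e := Nat.card {a : G // a ∈ A ∧ orderOf a = 2} with he
  have hcomm := hct.centralizer_comm ht1
  have hcent := hct.centralizer_cent ht1
  have hconj := Cfsg.Agent.Helper24.CT.inv_conj hct hna
  have hidx := Cfsg.Agent.Helper3.CT.normalizer_index A hcomm hcent hconj e rfl (by omega)
  refine ⟨e, ⟨hct, hcomm, hcent, hconj, rfl, hge, hodd, hidx, ?_, ?_⟩⟩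
  · rw [← hidx]
    exact Cfsg.Agent.Helper3.CT.normalizer_dvd A hcomm hcent
  · exact Cfsg.Agent.Helper3.CT.normalizer_inv A hcomm hcent hodd

/-! ### the Feit step -/

theorem Geo.card_K_eq [Finite G] {Ω : Type*} [MulAction G Ω] [Finite Ω] {K : Ω → Subgroup G}
    {e : ℕ} (h : Geo Ω K e) (hZ : IsZassenhausGroup G Ω) (α : Ω)
    (hcomm : ∀ x ∈ K α, ∀ y ∈ K α, x * y = y * x)
    (hcard : Nat.card (K α) + 1 = Nat.card Ω)
    (hpair : ∀ β, α ≠ β → Nat.card ↥(stabilizer G α ⊓ stabilizer G β) = e)
    (heven : Even (Nat.card (K α))) : Nat.card (K α) = e + 1 := by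
  classical
  have : Fintype Ω := Fintype.ofFinite Ω
  rw [Nat.card_eq_fintype_card (α := Ω)] at hcard
  have hKpos : 0 < Nat.card (K α) := Nat.card_pos
  -- a second point
  have h2 : 2 ≤ Fintype.card Ω := by omega
  obtain ⟨β, hβ⟩ : ∃ β : Ω, α ≠ β := by
    by_contra hcon
    push Not at hcon
    have : Fintype.card Ω ≤ 1 := Fintype.card_le_one_iff.2 (fun x y => by rw [← hcon x, ← hcon y])
    omega
  have he := hpair β hβ
  have hfix : ∀ u ∈ K α, u ≠ 1 → ∀ c : Ω, u • c = c → c = α := fun u hu hu1 c hc =>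
    h.K_free α u hu hu1 c hc
  have hle := Cfsg.Agent.Helper4.ZKMain.feit_abelian
    (fun G' _ _ _ hZ' a b hab h e hh he hodd H hHa hHcard hHfix =>
      Cfsg.Agent.S0885.result hZ' hab h e hh he hodd H hHa hHcard hHfix)
    hZ hβ (by rw [he]; exact h.e_odd) (K α) (h.K_le α) hcard hfix
    (fun u v => Subtype.ext (hcomm u u.2 v v.2))
  have hdvd := Cfsg.Agent.Helper4.ZKPrelim.card_stab_dvd hZ hβ
  rw [he] at hle hdvd
  obtain ⟨k, hk⟩ := hdvd
  have hn2 : Fintype.card Ω - 2 = Nat.card (K α) - 1 := by omega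
  rw [hn2] at hk hle
  -- `|K| - 1` is odd
  have hodd : Odd (Nat.card (K α) - 1) := by
    obtain ⟨r, hr⟩ := heven
    exact ⟨r - 1, by omega⟩
  have hkodd : Odd k := by
    rw [hk] at hodd
    exact (Nat.odd_mul.1 hodd).2
  have he3 := h.e_ge
  have hk2 : k ≤ 2 := by
    by_contra hcon
    push Not at hcon
    have : e * 3 ≤ e * k := Nat.mul_le_mul_left e hcon
    omega
  have hk1 : k = 1 := by
    obtain ⟨r, hr⟩ := hkodd
    omega
  rw [hk1, mul_one] at hk
  omega

/-! ### the final step: `S1230` -/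

theorem psl_of_loc [Finite G] [IsSimpleGroup G] (hna : ¬ ∀ a b : G, a * b = b * a)
    (hct : IsCT G) (hconj : ∀ u v : G, orderOf u = 2 → orderOf v = 2 → ∃ g : G, g * u * g⁻¹ = v)
    {t : G} (ht : orderOf t = 2) {e : ℕ}
    (hloc : Loc (Subgroup.centralizer ({t} : Set G)) e)
    (hcard : Nat.card (Subgroup.centralizer ({t} : Set G)) = e + 1) :
    ∃ (F : Type) (_ : Field F) (_ : Fintype F) (f : ℕ), 2 ≤ f ∧ Fintype.card F = 2 ^ f ∧
      Nonempty (G ≃* Matrix.ProjectiveSpecialLinearGroup (Fin 2) F) := by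
  classical
  have ht1 := ne_one_of_orderOf_two ht
  set A := Subgroup.centralizer ({t} : Set G) with hA
  have htA : t ∈ A := by rw [hA, mem_centralizer_singleton']
  -- every non-identity element of `A` is an involution
  have hexp : ∀ a ∈ A, a ^ 2 = 1 := by
    have hinj : Function.Injective (fun x : {a : G // a ∈ A ∧ orderOf a = 2} =>
        (⟨⟨x.1, x.2.1⟩, fun h => ne_one_of_orderOf_two x.2.2 (congrArg Subtype.val h)⟩ :
          {a : A // a ≠ 1})) := by
      intro x y hxy
      apply Subtype.ext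
      have := congrArg (fun z : {a : A // a ≠ 1} => (z.1 : G)) hxy
      exact this
    have hc2 : Nat.card {a : A // a ≠ 1} = e := by
      have h1 : Nat.card {a : A // a ≠ 1} = Nat.card A - 1 := by
        have : Nat.card {a : A // a ≠ 1} + 1 = Nat.card A := by
          rw [← Nat.card_unique (α := {a : A // a = 1}), add_comm]
          rw [← Nat.card_sum]
          exact Nat.card_congr (Equiv.sumCompl (fun a : A => a = 1))
        omega
      rw [h1, hcard]
      omega
    have hsurj : Function.Surjective (fun x : {a : G // a ∈ A ∧ orderOf a = 2} =>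
        (⟨⟨x.1, x.2.1⟩, fun h => ne_one_of_orderOf_two x.2.2 (congrArg Subtype.val h)⟩ :
          {a : A // a ≠ 1})) := by
      exact (Function.Injective.bijective_of_nat_card_le hinj (by rw [hc2, hloc.inv_card])).2
    intro a ha
    by_cases ha1 : a = 1
    · rw [ha1, one_pow]
    · obtain ⟨x, hx⟩ := hsurj ⟨⟨a, ha⟩, fun h => ha1 (congrArg Subtype.val h)⟩
      have hxa : x.1 = a := congrArg (fun z : {a : A // a ≠ 1} => (z.1 : G)) hx
      have hp := pow_orderOf_eq_one x.1
      rw [x.2.2, hxa] at hp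
      exact hp
  -- `A` is a Sylow 2-subgroup
  have hAp : IsPGroup 2 A := by
    intro a
    refine ⟨1, ?_⟩
    apply Subtype.ext
    rw [pow_one]
    exact hexp a a.2
  obtain ⟨P, hAP⟩ := hAp.exists_le_sylow
  have hPA : (P : Subgroup G) ≤ A := by
    have hne : Nontrivial (P : Subgroup G) := by
      refine ⟨⟨⟨t, hAP htA⟩, 1, fun h => ht1 (congrArg Subtype.val h)⟩⟩
    have hcn := IsPGroup.center_nontrivial (P.isPGroup')
    obtain ⟨z, hz⟩ := exists_ne (1 : Subgroup.center (P : Subgroup G))
    have hz1 : ((z : (P : Subgroup G)) : G) ≠ 1 := by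
      intro h
      apply hz
      apply Subtype.ext
      apply Subtype.ext
      exact h
    have hzt : ((z : (P : Subgroup G)) : G) * t = t * ((z : (P : Subgroup G)) : G) := by
      have := Subgroup.mem_center_iff.mp z.2 ⟨t, hAP htA⟩
      have h2 := congrArg Subtype.val this
      simpa using h2.symm
    have hzA : ((z : (P : Subgroup G)) : G) ∈ A := by
      rw [hA, mem_centralizer_singleton']; exact hzt
    intro x hx
    apply hloc.cent _ hzA hz1
    have := Subgroup.mem_center_iff.mp z.2 ⟨x, hx⟩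
    have h2 := congrArg Subtype.val this
    simpa using h2
  have hPeq : (P : Subgroup G) = A := le_antisymm hPA hAP
  have hPcard : Nat.card (P : Subgroup G) = e + 1 := by rw [hPeq, hcard]
  have he3 := hloc.e_ge
  -- not cyclic
  have hnc : ¬ IsCyclic (P : Subgroup G) := by
    intro hcyc
    obtain ⟨g, hg⟩ := hcyc.exists_generator
    have h1 : orderOf g = Nat.card (P : Subgroup G) := orderOf_eq_card_of_forall_mem_zpowers hg
    have h2 : g ^ 2 = 1 := by
      apply Subtype.ext
      have : (g : G) ∈ A := hPA g.2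
      simpa using hexp _ this
    have h3 : orderOf g ≤ 2 := orderOf_le_of_pow_eq_one (by norm_num) h2
    omega
  -- not normal
  have hnn : ¬ (P : Subgroup G).Normal := by
    intro hn
    rcases IsSimpleGroup.eq_bot_or_eq_top_of_normal (P : Subgroup G) hn with hb | htop
    · have : t ∈ (⊥ : Subgroup G) := by rw [← hb]; exact hAP htA
      rw [Subgroup.mem_bot] at this
      exact ht1 this
    · apply hna
      intro a b
      have ha : a ∈ A := by rw [← hPeq, htop]; trivial
      have hb : b ∈ A := by rw [← hPeq, htop]; trivial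
      exact hloc.comm a ha b hb
  -- centralizers of involutions
  have hC : ∀ t' : G, orderOf t' = 2 →
      IsMulCommutative (Subgroup.centralizer ({t'} : Set G)) ∧
        ∀ c ∈ Subgroup.centralizer ({t'} : Set G), c ^ 2 = 1 := by
    intro t' ht'
    have ht'1 := ne_one_of_orderOf_two ht'
    refine ⟨⟨⟨fun a b => Subtype.ext (hct.centralizer_comm ht'1 a a.2 b b.2)⟩⟩, ?_⟩
    intro c hc
    obtain ⟨g, hg⟩ := hconj t t' ht ht'
    rw [mem_centralizer_singleton'] at hc
    have h1 : g⁻¹ * c * g ∈ A := by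
      rw [hA, mem_centralizer_singleton']
      have : t = g⁻¹ * t' * g := by rw [← hg]; group
      rw [this]
      calc g⁻¹ * c * g * (g⁻¹ * t' * g) = g⁻¹ * (c * t') * g := by group
        _ = g⁻¹ * (t' * c) * g := by rw [hc]
        _ = g⁻¹ * t' * g * (g⁻¹ * c * g) := by group
    have h2 := hexp _ h1
    have h3 : (g⁻¹ * c * g) ^ 2 = g⁻¹ * c ^ 2 * g := by
      rw [pow_two, pow_two]; group
    rw [h3] at h2
    have : c ^ 2 = g * (g⁻¹ * c ^ 2 * g) * g⁻¹ := by group
    rw [this, h2]
    group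
  obtain ⟨F, hF1, hF2, hFc, hiso⟩ := Cfsg.Agent.S1230.result P hnc hnn hC
  obtain ⟨f, hf⟩ := (P.isPGroup').exists_card_eq
  refine ⟨F, hF1, hF2, f, ?_, ?_, hiso⟩
  · by_contra hcon
    push Not at hcon
    have hpow : 2 ^ f ≤ 2 ^ 1 := Nat.pow_le_pow_right (by norm_num) (by omega)
    have : Nat.card (P : Subgroup G) ≤ 2 := by rw [hf]; simpa using hpow
    omega
  · rw [hFc]
    exact hf

/-- the direction `CT ⇒ PSL₂(2^f)` -/
theorem psl_of_ct [Finite G] [IsSimpleGroup G] (hna : ¬ ∀ a b : G, a * b = b * a)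
    (hct : IsCT G) :
    ∃ (F : Type) (_ : Field F) (_ : Fintype F) (f : ℕ), 2 ≤ f ∧ Fintype.card F = 2 ^ f ∧
      Nonempty (G ≃* Matrix.ProjectiveSpecialLinearGroup (Fin 2) F) := by
  classical
  obtain ⟨t, ht⟩ := Cfsg.Agent.Helper24.CT.exists_involution hct hna
  have ht1 := ne_one_of_orderOf_two ht
  obtain ⟨e, hloc⟩ := loc_of_ct hct hna ht
  set A := Subgroup.centralizer ({t} : Set G) with hA
  have htA : t ∈ A := by rw [hA, mem_centralizer_singleton']
  obtain ⟨K, hgeo, hK1⟩ := Cfsg.Agent.Helper29.CT.Loc.exists_geo hloc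
  have hpair : ∀ α β : G ⧸ Subgroup.normalizer (A : Set G), α ≠ β →
      PairOK G (G ⧸ Subgroup.normalizer (A : Set G)) e α β := fun α β hab => Cfsg.Agent.Helper20.CT.Geo.pairOK hgeo α β hab
  have hfix := fun α β γ hab hγ => Cfsg.Agent.Helper8.CT.Geo.fix_two hgeo hpair α β γ hab hγ
  have h3 := Cfsg.Agent.Helper10.CT.Geo.three_fixed hgeo hpair hfix
  -- at least two points
  have hn : 2 ≤ Nat.card (G ⧸ Subgroup.normalizer (A : Set G)) := by
    have h1 : Nat.card (G ⧸ Subgroup.normalizer (A : Set G)) =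
        (Subgroup.normalizer (A : Set G)).index := rfl
    rw [h1]
    have h0 : (Subgroup.normalizer (A : Set G)).index ≠ 0 := Subgroup.index_ne_zero_of_finite
    have h1' : (Subgroup.normalizer (A : Set G)).index ≠ 1 := by
      intro h
      rw [Subgroup.index_eq_one, Subgroup.normalizer_eq_top_iff] at h
      rcases IsSimpleGroup.eq_bot_or_eq_top_of_normal A h with hb | htop
      · have : t ∈ (⊥ : Subgroup G) := by rw [← hb]; exact htA
        rw [Subgroup.mem_bot] at this
        exact ht1 this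
      · apply hna
        intro a b
        exact hloc.comm a (by rw [htop]; trivial) b (by rw [htop]; trivial)
    omega
  have hregular := fun α => Cfsg.Agent.Helper10.CT.Geo.regular hgeo hpair h3 hn α
  have hZ := Cfsg.Agent.Helper7.CT.Geo.isZassenhaus hgeo hpair h3 (fun α => (hregular α).1) (fun α => (hregular α).2)
  have heven : Even (Nat.card (K ((1 : G) : G ⧸ Subgroup.normalizer (A : Set G)))) := by
    rw [hK1]
    have h1 : orderOf (⟨t, htA⟩ : A) = 2 := by
      rw [← ht]
      exact (Subgroup.orderOf_mk t htA)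
    have := orderOf_dvd_natCard (⟨t, htA⟩ : A)
    rw [h1] at this
    exact even_iff_two_dvd.2 this
  have hcard := hgeo.card_K_eq hZ ((1 : G) : G ⧸ Subgroup.normalizer (A : Set G))
    (by rw [hK1]; exact hloc.comm) (hregular _).1 (fun β hβ => (hpair _ β hβ).1) heven
  rw [hK1] at hcard
  exact psl_of_loc hna hct hloc.inv_conj ht hloc hcard

end Cfsg.Agent.Helper18.CT
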