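import Mathlib
import Cfsg.Agent.Helper18.CensusC

/-!
# Census engine, part D: the certificate table for orders 3641..6232
-/

set_option autoImplicit false

namespace Cfsg.Agent.Helper18.Census

universe u

/-- certificates -/
inductive Cert
  | two (p a q b : ℕ)
  | klein
  | br (p : ℕ)
  | s4501 (c p a q b : ℕ)
  | syl (p a m : ℕ)
  | sc3 (p a q b r : ℕ)
  | hard

/-- the orders in the range that need an individual argument (or are orders of simple groups) -/
def hardList : List ℕ := [3696, 3744, 3780, 3960, 4032, 4080, 4200, 4320, 4620, 4680, 4725, 5040, 5148, 5400, 5460, 5600, 5616, 5760, 5880, 5940, 6000, 6048, 6072, 6160]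

/-- check a certificate -/
def check (n : ℕ) : Cert → Bool
  | .two p a q b => checkTwo n p a q b
  | .klein => checkKlein n
  | .br p => checkBr n p
  | .s4501 c p a q b => checkS4501 n c p a q b
  | .syl p a m => checkSyl n p a m
  | .sc3 p a q b r => checkSc3 n p a q b r
  | .hard => hardList.contains n

theorem check_sound {n : ℕ} {c : Cert} (h : check n c = true) : NoSimple.{u} n ∨ n ∈ hardList := by
  cases c with
  | two p a q b => exact Or.inl (checkTwo_sound h)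
  | klein => exact Or.inl (checkKlein_sound h)
  | br p => exact Or.inl (checkBr_sound h)
  | s4501 c p a q b => exact Or.inl (checkS4501_sound h)
  | syl p a m => exact Or.inl (checkSyl_sound h)
  | sc3 p a q b r => exact Or.inl (checkSc3_sound h)
  | hard =>
    right
    simpa [check] using h

/-- check a list of certificates for consecutive orders starting at `n` -/
def checkAll : ℕ → List Cert → Bool
  | _, [] => true
  | n, c :: cs => check n c && checkAll (n + 1) cs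

theorem checkAll_sound : ∀ (l : List Cert) (n : ℕ), checkAll n l = true →
    ∀ i, i < l.length → NoSimple.{u} (n + i) ∨ (n + i) ∈ hardList
  | [], _, _, i, hi => by simp at hi
  | c :: cs, n, h, i, hi => by
    simp only [checkAll, Bool.and_eq_true] at h
    cases i with
    | zero => simpa using check_sound h.1
    | succ j =>
      have := checkAll_sound cs (n + 1) h.2 j (by simpa using hi)
      have e : n + (j + 1) = n + 1 + j := by omega
      rw [e]; exact this

/-- certificates for the orders 3641..3840 -/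
def table0 : List Cert := [
  .two 11 1 331 1, .br 607, .two 3643 1 2 0, .two 2 2 911 1, .two 3 6 5 1, .two 2 1 1823 1,
  .two 7 1 521 1, .br 19, .two 41 1 89 1, .klein, .two 3 1 1217 1, .klein,
  .two 13 1 281 1, .br 29, .br 43, .two 2 3 457 1, .br 53, .klein,
  .two 3659 1 2 0, .br 61, .two 7 1 523 1, .two 2 1 1831 1, .br 37, .two 2 4 229 1,
  .two 5 1 733 1, .br 47, .two 19 1 193 1, .klein, .two 3 1 1223 1, .klein,
  .two 3671 1 2 0, .br 17, .two 3673 1 2 0, .klein, .s4501 3 5 2 7 2, .two 2 2 919 1,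
  .two 3677 1 2 0, .br 613, .two 13 1 283 1, .br 23, .two 3 2 409 1, .klein,
  .two 29 1 127 1, .br 307, .br 67, .klein, .two 3 1 1229 1, .two 2 3 461 1,
  .br 31, .br 41, .two 3691 1 2 0, .klein, .two 3 1 1231 1, .two 2 1 1847 1,
  .two 5 1 739 1, .hard, .two 3697 1 2 0, .two 2 1 43 2, .two 3 3 137 1, .klein,
  .two 3701 1 2 0, .br 617, .two 7 1 23 2, .two 2 3 463 1, .br 19, .klein,
  .two 11 1 337 1, .br 103, .two 3709 1 2 0, .klein, .two 3 1 1237 1, .two 2 7 29 1,
  .two 47 1 79 1, .br 619, .two 5 1 743 1, .two 2 2 929 1, .br 59, .klein,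
  .two 3719 1 2 0, .br 31, .two 61 2 2 0, .two 2 1 1861 1, .br 73, .klein,
  .two 5 2 149 1, .br 23, .two 3727 1 2 0, .two 2 4 233 1, .br 113, .klein,
  .br 41, .br 311, .two 3733 1 2 0, .two 2 1 1867 1, .br 83, .two 2 3 467 1,
  .two 37 1 101 1, .br 89, .two 3739 1 2 0, .klein, .br 43, .two 2 1 1871 1,
  .two 19 1 197 1, .hard, .br 107, .two 2 1 1873 1, .two 3 1 1249 1, .two 2 2 937 1,
  .two 23 1 163 1, .s4501 3 2 1 5 4, .two 11 2 31 1, .br 67, .two 3 3 139 1, .two 2 1 1877 1,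
  .two 5 1 751 1, .br 313, .two 13 1 17 2, .two 2 1 1879 1, .br 179, .br 47,
  .two 3761 1 2 0, .br 19, .two 53 1 71 1, .two 2 2 941 1, .br 251, .klein,
  .two 3767 1 2 0, .br 157, .two 3769 1 2 0, .klein, .two 3 2 419 1, .klein,
  .two 7 3 11 1, .br 37, .two 5 2 151 1, .two 2 6 59 1, .two 3 1 1259 1, .two 2 1 1889 1,
  .two 3779 1 2 0, .hard, .two 19 1 199 1, .klein, .br 97, .br 43,
  .two 5 1 757 1, .br 631, .two 7 1 541 1, .two 2 2 947 1, .two 3 2 421 1, .klein,
  .two 17 1 223 1, .br 79, .two 3793 1 2 0, .klein, .br 23, .klein,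
  .two 3797 1 2 0, .br 211, .two 29 1 131 1, .br 19, .br 181, .two 2 1 1901 1,
  .two 3803 1 2 0, .br 317, .two 5 1 761 1, .klein, .two 3 4 47 1, .br 17,
  .two 13 1 293 1, .br 127, .two 37 1 103 1, .two 2 2 953 1, .br 41, .two 2 1 1907 1,
  .br 109, .br 53, .two 11 1 347 1, .klein, .br 67, .klein,
  .two 3821 1 2 0, .syl 13 1 294, .two 3823 1 2 0, .two 2 4 239 1, .br 17, .two 2 1 1913 1,
  .two 43 1 89 1, .br 29, .two 7 1 547 1, .klein, .two 3 1 1277 1, .two 2 3 479 1,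
  .two 3833 1 2 0, .br 71, .br 59, .klein, .two 3 1 1279 1, .klein,
  .two 11 1 349 1, .s4501 3 5 1 2 8
]

theorem table0_length : table0.length = 200 := by decide +kernel

set_option maxRecDepth 100000 in
theorem table0_ok : checkAll 3641 table0 = true := by decide +kernel

/-- certificates for the orders 3841..4040 -/
def table1 : List Cert := [
  .two 23 1 167 1, .klein, .br 61, .two 2 2 31 2, .two 5 1 769 1, .br 641,
  .two 3847 1 2 0, .br 37, .two 3 1 1283 1, .klein, .two 3851 1 2 0, .br 107,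
  .two 3853 1 2 0, .klein, .br 257, .two 2 4 241 1, .br 29, .br 643,
  .two 17 1 227 1, .klein, .syl 13 1 297, .two 2 1 1931 1, .two 3863 1 2 0, .br 23,
  .two 5 1 773 1, .two 2 1 1933 1, .two 3 1 1289 1, .two 2 2 967 1, .two 53 1 73 1, .br 43,
  .two 7 2 79 1, .two 2 5 11 2, .two 3 1 1291 1, .klein, .two 5 3 31 1, .br 19,
  .two 3877 1 2 0, .klein, .two 3 2 431 1, .br 97, .two 3881 1 2 0, .br 647,
  .two 11 1 353 1, .two 2 2 971 1, .br 37, .klein, .two 13 2 23 1, .two 2 4 3 5,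
  .two 3889 1 2 0, .klein, .two 3 1 1297 1, .klein, .two 17 1 229 1, .br 59,
  .br 41, .two 2 3 487 1, .two 3 2 433 1, .two 2 1 1949 1, .two 7 1 557 1, .syl 13 1 300,
  .two 47 1 83 1, .two 2 1 1951 1, .two 3 1 1301 1, .two 2 6 61 1, .br 71, .br 31,
  .two 3907 1 2 0, .two 2 2 977 1, .two 3 1 1303 1, .klein, .two 3911 1 2 0, .br 163,
  .br 43, .klein, .br 29, .klein, .two 3917 1 2 0, .br 653,
  .two 3919 1 2 0, .syl 7 2 80, .two 3 1 1307 1, .klein, .two 3923 1 2 0, .br 109,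
  .two 5 2 157 1, .klein, .br 17, .two 2 3 491 1, .two 3929 1 2 0, .br 131,
  .two 3931 1 2 0, .two 2 2 983 1, .br 23, .klein, .two 5 1 787 1, .br 41,
  .two 31 1 127 1, .klein, .br 101, .klein, .two 7 1 563 1, .br 73,
  .two 3943 1 2 0, .br 29, .br 263, .two 2 1 1973 1, .two 3947 1 2 0, .br 47,
  .two 11 1 359 1, .klein, .two 3 2 439 1, .br 19, .two 59 1 67 1, .br 659,
  .br 113, .klein, .two 3 1 1319 1, .two 2 1 1979 1, .two 37 1 107 1, .hard,
  .two 17 1 233 1, .klein, .two 3 1 1321 1, .two 2 2 991 1, .br 61, .br 661,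
  .two 3967 1 2 0, .two 2 7 31 1, .two 3 4 7 2, .klein, .two 11 1 19 2, .br 331,
  .two 29 1 137 1, .two 2 1 1987 1, .br 53, .br 71, .two 41 1 97 1, .br 17,
  .two 23 1 173 1, .klein, .two 3 1 1327 1, .klein, .two 7 1 569 1, .br 83,
  .two 5 1 797 1, .two 2 1 1993 1, .two 3 2 443 1, .two 2 2 997 1, .two 3989 1 2 0, .br 19,
  .two 13 1 307 1, .two 2 3 499 1, .two 3 1 11 3, .two 2 1 1997 1, .br 47, .br 37,
  .two 7 1 571 1, .two 2 1 1999 1, .br 43, .two 2 5 5 3, .two 4001 1 2 0, .br 29,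
  .two 4003 1 2 0, .klein, .br 89, .two 2 1 2003 1, .two 4007 1 2 0, .br 167,
  .two 19 1 211 1, .klein, .br 191, .klein, .two 4013 1 2 0, .br 223,
  .br 73, .two 2 4 251 1, .br 103, .klein, .two 4019 1 2 0, .br 67,
  .two 4021 1 2 0, .two 2 1 2011 1, .two 3 3 149 1, .two 2 3 503 1, .br 23, .br 61,
  .two 4027 1 2 0, .klein, .br 79, .klein, .two 29 1 139 1, .hard,
  .two 37 1 109 1, .two 2 1 2017 1, .br 269, .two 2 2 1009 1, .two 11 1 367 1, .br 673,
  .two 7 1 577 1, .br 101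
]

theorem table1_length : table1.length = 200 := by decide +kernel

set_option maxRecDepth 100000 in
theorem table1_ok : checkAll 3841 table1 = true := by decide +kernel

/-- certificates for the orders 4041..4240 -/
def table2 : List Cert := [
  .two 3 2 449 1, .klein, .two 13 1 311 1, .br 337, .two 5 1 809 1, .klein,
  .br 71, .br 23, .two 4049 1 2 0, .syl 2 1 2025, .two 4051 1 2 0, .two 2 2 1013 1,
  .br 193, .two 2 1 2027 1, .two 5 1 811 1, .s4501 3 13 2 2 3, .two 4057 1 2 0, .two 2 1 2029 1,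
  .br 41, .klein, .two 31 1 131 1, .br 677, .two 17 1 239 1, .two 2 5 127 1,
  .br 271, .klein, .two 7 2 83 1, .br 113, .two 13 1 313 1, .klein,
  .br 59, .two 2 3 509 1, .two 4073 1 2 0, .br 97, .two 5 2 163 1, .two 2 2 1019 1,
  .two 3 3 151 1, .two 2 1 2039 1, .two 4079 1 2 0, .hard, .br 53, .klein,
  .two 3 1 1361 1, .two 2 2 1021 1, .br 43, .br 227, .two 61 1 67 1, .br 73,
  .br 47, .klein, .two 4091 1 2 0, .br 31, .two 4093 1 2 0, .klein,
  .syl 5 1 819, .two 2 12 2 0, .two 17 1 241 1, .br 683, .two 4099 1 2 0, .klein,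
  .two 3 1 1367 1, .klein, .two 11 1 373 1, .br 19, .two 5 1 821 1, .two 2 1 2053 1,
  .two 3 1 37 2, .klein, .two 7 1 587 1, .br 137, .two 4111 1 2 0, .two 2 4 257 1,
  .two 3 2 457 1, .klein, .two 5 1 823 1, .s4501 3 2 2 7 3, .two 23 1 179 1, .klein,
  .two 3 1 1373 1, .br 103, .two 13 1 317 1, .br 229, .br 31, .two 2 2 1031 1,
  .s4501 3 11 1 5 3, .two 2 1 2063 1, .two 4127 1 2 0, .br 43, .two 4129 1 2 0, .klein,
  .two 3 5 17 1, .two 2 2 1033 1, .two 4133 1 2 0, .br 53, .two 5 1 827 1, .br 47,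
  .br 197, .two 2 1 2069 1, .two 4139 1 2 0, .br 23, .two 41 1 101 1, .klein,
  .two 3 1 1381 1, .br 37, .two 5 1 829 1, .br 691, .br 29, .klein,
  .two 3 2 461 1, .klein, .two 7 1 593 1, .br 173, .two 4153 1 2 0, .klein,
  .br 277, .two 2 2 1039 1, .two 4157 1 2 0, .syl 11 1 378, .two 4159 1 2 0, .sc3 2 6 5 1 13,
  .br 73, .two 2 1 2081 1, .two 23 1 181 1, .br 347, .br 17, .two 2 1 2083 1,
  .two 3 2 463 1, .two 2 3 521 1, .two 11 1 379 1, .br 139, .two 43 1 97 1, .klein,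
  .br 107, .two 2 1 2087 1, .two 5 2 167 1, .br 29, .two 4177 1 2 0, .two 2 1 2089 1,
  .br 199, .klein, .two 37 1 113 1, .br 41, .two 47 1 89 1, .two 2 3 523 1,
  .br 31, .klein, .two 53 1 79 1, .br 349, .two 59 1 71 1, .klein,
  .br 127, .two 2 5 131 1, .two 7 1 599 1, .br 233, .two 5 1 839 1, .two 2 2 1049 1,
  .two 3 1 1399 1, .two 2 1 2099 1, .br 19, .hard, .two 4201 1 2 0, .klein,
  .two 3 2 467 1, .two 2 2 1051 1, .two 5 1 29 2, .br 701, .two 7 1 601 1, .two 2 4 263 1,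
  .br 61, .klein, .two 4211 1 2 0, .s4501 4 13 1 3 4, .two 11 1 383 1, .klein,
  .br 281, .br 31, .two 4217 1 2 0, .br 37, .two 4219 1 2 0, .klein,
  .br 67, .two 2 1 2111 1, .two 41 1 103 1, .s4501 3 11 1 2 7, .two 5 2 13 2, .two 2 1 2113 1,
  .two 3 1 1409 1, .klein, .two 4229 1 2 0, .br 47, .two 4231 1 2 0, .two 2 3 23 2,
  .br 83, .klein, .syl 11 2 35, .br 353, .two 19 1 223 1, .klein,
  .two 3 3 157 1, .br 53
]

theorem table2_length : table2.length = 200 := by decide +kernel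

set_option maxRecDepth 100000 in
theorem table2_ok : checkAll 4041 table2 = true := by decide +kernel

/-- certificates for the orders 4241..4440 -/
def table3 : List Cert := [
  .two 4241 1 2 0, .br 101, .two 4243 1 2 0, .two 2 2 1061 1, .br 283, .klein,
  .two 31 1 137 1, .br 59, .two 7 1 607 1, .klein, .br 109, .two 2 2 1063 1,
  .two 4253 1 2 0, .br 709, .br 37, .br 19, .br 43, .two 2 1 2129 1,
  .two 4259 1 2 0, .br 71, .two 4261 1 2 0, .two 2 1 2131 1, .br 29, .br 41,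
  .two 5 1 853 1, .br 79, .two 17 1 251 1, .klein, .two 3 1 1423 1, .klein,
  .two 4271 1 2 0, .br 89, .two 4273 1 2 0, .two 2 1 2137 1, .br 19, .two 2 2 1069 1,
  .br 47, .br 31, .two 11 1 389 1, .br 107, .two 3 1 1427 1, .two 2 1 2141 1,
  .two 4283 1 2 0, .br 17, .two 5 1 857 1, .two 2 1 2143 1, .two 3 1 1429 1, .two 2 6 67 1,
  .two 4289 1 2 0, .syl 13 1 330, .two 7 1 613 1, .klein, .two 3 4 53 1, .klein,
  .two 5 1 859 1, .br 179, .two 4297 1 2 0, .klein, .two 3 1 1433 1, .klein,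
  .br 23, .br 239, .two 13 1 331 1, .two 2 4 269 1, .br 41, .two 2 1 2153 1,
  .two 59 1 73 1, .br 359, .two 31 1 139 1, .klein, .two 3 2 479 1, .syl 11 1 392,
  .two 19 1 227 1, .br 719, .two 5 1 863 1, .klein, .two 3 1 1439 1, .klein,
  .two 7 1 617 1, .hard, .two 29 1 149 1, .two 2 1 2161 1, .br 131, .klein,
  .two 5 2 173 1, .br 103, .two 4327 1 2 0, .two 2 3 541 1, .br 37, .klein,
  .two 61 1 71 1, .br 19, .two 7 1 619 1, .klein, .br 17, .two 2 4 271 1,
  .two 4337 1 2 0, .br 241, .two 4339 1 2 0, .klein, .two 3 1 1447 1, .klein,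
  .two 43 1 101 1, .br 181, .br 79, .klein, .br 23, .two 2 2 1087 1,
  .two 4349 1 2 0, .br 29, .two 19 1 229 1, .two 2 8 17 1, .two 3 1 1451 1, .klein,
  .br 67, .s4501 4 3 2 11 2, .two 4357 1 2 0, .two 2 1 2179 1, .two 3 1 1453 1, .br 109,
  .two 7 2 89 1, .br 727, .two 4363 1 2 0, .two 2 2 1091 1, .br 97, .klein,
  .two 11 1 397 1, .syl 13 1 336, .two 17 1 257 1, .klein, .br 47, .two 2 2 1093 1,
  .two 4373 1 2 0, .two 2 1 3 7, .two 5 4 7 1, .two 2 3 547 1, .two 3 1 1459 1, .klein,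
  .two 29 1 151 1, .br 73, .two 13 1 337 1, .klein, .two 3 2 487 1, .two 2 5 137 1,
  .two 5 1 877 1, .br 43, .two 41 1 107 1, .two 2 2 1097 1, .br 19, .klein,
  .two 4391 1 2 0, .br 61, .two 23 1 191 1, .two 2 1 13 3, .br 293, .klein,
  .two 4397 1 2 0, .br 733, .two 53 1 83 1, .sc3 2 4 5 2 11, .two 3 3 163 1, .klein,
  .br 37, .br 367, .two 5 1 881 1, .two 2 1 2203 1, .br 113, .br 29,
  .two 4409 1 2 0, .syl 2 1 2205, .two 11 1 401 1, .two 2 2 1103 1, .two 3 1 1471 1, .two 2 1 2207 1,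
  .two 5 1 883 1, .br 23, .two 7 1 631 1, .two 2 1 47 2, .two 3 2 491 1, .klein,
  .two 4421 1 2 0, .br 67, .two 4423 1 2 0, .br 79, .br 59, .two 2 1 2213 1,
  .two 19 1 233 1, .br 41, .two 43 1 103 1, .klein, .br 211, .two 2 4 277 1,
  .br 31, .br 739, .two 5 1 887 1, .two 2 2 1109 1, .br 29, .klein,
  .two 23 1 193 1, .br 37
]

theorem table3_length : table3.length = 200 := by decide +kernel

set_option maxRecDepth 100000 in
theorem table3_ok : checkAll 4241 table3 = true := by decide +kernel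

/-- certificates for the orders 4441..4640 -/
def table4 : List Cert := [
  .two 4441 1 2 0, .two 2 1 2221 1, .two 3 1 1481 1, .klein, .br 127, .br 19,
  .two 4447 1 2 0, .two 2 5 139 1, .two 3 1 1483 1, .klein, .two 4451 1 2 0, .br 53,
  .two 61 1 73 1, .klein, .syl 11 1 405, .two 2 3 557 1, .two 4457 1 2 0, .br 743,
  .two 7 3 13 1, .klein, .two 3 1 1487 1, .klein, .two 4463 1 2 0, .br 31,
  .br 47, .klein, .two 3 1 1489 1, .two 2 2 1117 1, .two 41 1 109 1, .br 149,
  .two 17 1 263 1, .br 43, .br 71, .two 2 1 2237 1, .two 5 2 179 1, .br 373,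
  .two 11 2 37 1, .two 2 1 2239 1, .two 3 1 1493 1, .sc3 2 7 5 1 7, .two 4481 1 2 0, .br 83,
  .two 4483 1 2 0, .klein, .br 23, .two 2 1 2243 1, .two 7 1 641 1, .br 17,
  .two 67 2 2 0, .klein, .two 3 2 499 1, .two 2 2 1123 1, .two 4493 1 2 0, .br 107,
  .br 31, .two 2 4 281 1, .two 3 1 1499 1, .klein, .two 11 1 409 1, .s4501 4 3 2 5 3,
  .two 7 1 643 1, .two 2 1 2251 1, .br 79, .two 2 3 563 1, .br 53, .br 751,
  .two 4507 1 2 0, .klein, .two 3 3 167 1, .klein, .two 13 1 347 1, .br 47,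
  .two 4513 1 2 0, .klein, .br 43, .two 2 2 1129 1, .two 4517 1 2 0, .br 251,
  .two 4519 1 2 0, .br 113, .br 137, .klein, .two 4523 1 2 0, .br 29,
  .two 5 2 181 1, .klein, .two 3 2 503 1, .two 2 4 283 1, .two 7 1 647 1, .br 151,
  .two 23 1 197 1, .klein, .two 3 1 1511 1, .two 2 1 2267 1, .two 5 1 907 1, .sc3 2 3 3 4 7,
  .two 13 1 349 1, .two 2 1 2269 1, .br 89, .klein, .two 19 1 239 1, .br 757,
  .br 59, .two 2 6 71 1, .br 101, .two 2 1 2273 1, .two 4547 1 2 0, .br 379,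
  .two 4549 1 2 0, .klein, .br 41, .two 2 3 569 1, .two 29 1 157 1, .br 23,
  .two 5 1 911 1, .klein, .br 31, .klein, .two 47 1 97 1, .br 19,
  .two 4561 1 2 0, .two 2 1 2281 1, .two 3 3 13 2, .klein, .br 83, .br 761,
  .two 4567 1 2 0, .two 2 3 571 1, .two 3 1 1523 1, .klein, .two 7 1 653 1, .br 127,
  .two 17 1 269 1, .two 2 1 2287 1, .br 61, .syl 13 1 352, .two 23 1 199 1, .br 109,
  .two 19 1 241 1, .klein, .two 3 2 509 1, .klein, .two 4583 1 2 0, .br 191,
  .br 131, .two 2 1 2293 1, .br 139, .klein, .two 13 1 353 1, .br 17,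
  .two 4591 1 2 0, .br 41, .two 3 1 1531 1, .two 2 1 2297 1, .two 5 1 919 1, .br 383,
  .two 4597 1 2 0, .klein, .br 73, .br 23, .two 43 1 107 1, .br 59,
  .two 4603 1 2 0, .two 2 2 1151 1, .br 307, .klein, .two 17 1 271 1, .two 2 9 3 2,
  .two 11 1 419 1, .klein, .br 53, .two 2 2 1153 1, .two 7 1 659 1, .br 769,
  .br 71, .two 2 3 577 1, .two 3 5 19 1, .two 2 1 2309 1, .two 31 1 149 1, .hard,
  .two 4621 1 2 0, .two 2 1 2311 1, .br 67, .two 2 4 17 2, .two 5 3 37 1, .br 257,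
  .two 7 1 661 1, .klein, .two 3 1 1543 1, .klein, .two 11 1 421 1, .br 193,
  .two 41 1 113 1, .klein, .br 103, .klein, .two 4637 1 2 0, .br 773,
  .two 4639 1 2 0, .br 29
]

theorem table4_length : table4.length = 200 := by decide +kernel

set_option maxRecDepth 100000 in
theorem table4_ok : checkAll 4441 table4 = true := by decide +kernel

/-- certificates for the orders 4641..4840 -/
def table5 : List Cert := [
  .br 17, .klein, .two 4643 1 2 0, .br 43, .two 5 1 929 1, .klein,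
  .two 3 1 1549 1, .br 83, .two 4649 1 2 0, .br 31, .two 4651 1 2 0, .two 2 2 1163 1,
  .br 47, .klein, .br 19, .br 97, .two 4657 1 2 0, .klein,
  .two 3 1 1553 1, .klein, .two 59 1 79 1, .br 37, .two 4663 1 2 0, .br 53,
  .br 311, .two 2 1 2333 1, .two 13 1 359 1, .br 389, .br 29, .klein,
  .two 3 3 173 1, .two 2 6 73 1, .two 4673 1 2 0, .br 41, .br 17, .klein,
  .two 3 1 1559 1, .two 2 1 2339 1, .two 4679 1 2 0, .hard, .two 31 1 151 1, .two 2 1 2341 1,
  .br 223, .two 2 2 1171 1, .two 5 1 937 1, .br 71, .two 43 1 109 1, .two 2 4 293 1,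
  .two 3 2 521 1, .klein, .two 4691 1 2 0, .br 23, .two 13 1 19 2, .two 2 1 2347 1,
  .br 313, .two 2 3 587 1, .br 61, .br 29, .two 37 1 127 1, .klein,
  .two 3 1 1567 1, .two 2 1 2351 1, .two 4703 1 2 0, .s4501 3 7 2 2 5, .two 5 1 941 1, .klein,
  .two 3 2 523 1, .klein, .two 17 1 277 1, .br 157, .two 7 1 673 1, .br 31,
  .two 3 1 1571 1, .two 2 1 2357 1, .br 41, .br 131, .two 53 1 89 1, .klein,
  .s4501 3 11 2 13 1, .br 59, .two 4721 1 2 0, .br 787, .two 4723 1 2 0, .two 2 2 1181 1,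
  .hard, .klein, .two 29 1 163 1, .br 197, .two 4729 1 2 0, .klein,
  .br 83, .klein, .two 4733 1 2 0, .br 263, .two 5 1 947 1, .two 2 7 37 1,
  .two 3 1 1579 1, .klein, .two 7 1 677 1, .br 79, .two 11 1 431 1, .two 2 1 2371 1,
  .br 31, .two 2 3 593 1, .br 73, .br 113, .two 47 1 101 1, .two 2 2 1187 1,
  .two 3 1 1583 1, .klein, .two 4751 1 2 0, .syl 11 1 432, .two 7 2 97 1, .two 2 1 2377 1,
  .br 317, .klein, .two 67 1 71 1, .br 61, .two 4759 1 2 0, .br 17,
  .two 3 2 23 2, .two 2 1 2381 1, .two 11 1 433 1, .br 397, .two 5 1 953 1, .two 2 1 2383 1,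
  .br 227, .two 2 5 149 1, .two 19 1 251 1, .br 53, .two 13 1 367 1, .two 2 2 1193 1,
  .br 43, .klein, .two 5 2 191 1, .br 199, .two 17 1 281 1, .two 2 1 2389 1,
  .two 3 4 59 1, .klein, .two 7 1 683 1, .br 797, .two 4783 1 2 0, .br 23,
  .br 29, .two 2 1 2393 1, .two 4787 1 2 0, .br 19, .two 4789 1 2 0, .klein,
  .two 3 1 1597 1, .two 2 3 599 1, .two 4793 1 2 0, .br 47, .br 137, .klein,
  .br 41, .two 2 1 2399 1, .two 4799 1 2 0, .s4501 3 5 2 2 6, .two 4801 1 2 0, .two 2 1 7 4,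
  .two 3 1 1601 1, .two 2 2 1201 1, .two 5 1 31 2, .br 89, .br 23, .two 2 3 601 1,
  .br 229, .klein, .two 17 1 283 1, .br 401, .two 4813 1 2 0, .klein,
  .br 107, .br 43, .two 4817 1 2 0, .br 73, .two 61 1 79 1, .klein,
  .two 3 1 1607 1, .two 2 1 2411 1, .br 53, .br 67, .two 5 2 193 1, .klein,
  .two 3 1 1609 1, .klein, .two 11 1 439 1, .br 23, .two 4831 1 2 0, .two 2 5 151 1,
  .two 3 3 179 1, .two 2 1 2417 1, .two 5 1 967 1, .br 31, .two 7 1 691 1, .klein,
  .two 3 1 1613 1, .syl 11 2 40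
]

theorem table5_length : table5.length = 200 := by decide +kernel

set_option maxRecDepth 100000 in
theorem table5_ok : checkAll 4641 table5 = true := by decide +kernel

/-- certificates for the orders 4841..5040 -/
def table6 : List Cert := [
  .two 47 1 103 1, .br 269, .two 29 1 167 1, .klein, .br 19, .two 2 1 2423 1,
  .two 37 1 131 1, .br 101, .two 13 1 373 1, .klein, .syl 11 1 441, .two 2 2 1213 1,
  .two 23 1 211 1, .br 809, .two 5 1 971 1, .two 2 3 607 1, .two 3 1 1619 1, .klein,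
  .two 43 1 113 1, .s4501 4 5 1 3 5, .two 4861 1 2 0, .klein, .two 3 1 1621 1, .two 2 8 19 1,
  .br 139, .br 811, .two 31 1 157 1, .two 2 2 1217 1, .two 3 2 541 1, .klein,
  .two 4871 1 2 0, .br 29, .two 11 1 443 1, .two 2 1 2437 1, .s4501 3 13 1 5 3, .klein,
  .two 4877 1 2 0, .br 271, .br 41, .br 61, .two 3 1 1627 1, .two 2 1 2441 1,
  .two 19 1 257 1, .br 37, .two 5 1 977 1, .klein, .two 3 3 181 1, .br 47,
  .two 4889 1 2 0, .br 163, .two 67 1 73 1, .two 2 2 1223 1, .br 233, .two 2 1 2447 1,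
  .br 89, .br 17, .two 59 1 83 1, .klein, .br 71, .klein,
  .two 13 2 29 1, .br 43, .two 4903 1 2 0, .two 2 3 613 1, .br 109, .klein,
  .two 7 1 701 1, .br 409, .two 4909 1 2 0, .klein, .two 3 1 1637 1, .two 2 4 307 1,
  .two 17 3 2 0, .syl 2 1 2457, .two 5 1 983 1, .two 2 2 1229 1, .br 149, .two 2 1 2459 1,
  .two 4919 1 2 0, .br 41, .br 37, .klein, .two 3 2 547 1, .two 2 2 1231 1,
  .two 5 2 197 1, .br 821, .two 13 1 379 1, .sc3 2 6 11 1 7, .br 53, .klein,
  .two 4931 1 2 0, .br 137, .two 4933 1 2 0, .two 2 1 2467 1, .br 47, .two 2 3 617 1,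
  .two 4937 1 2 0, .br 823, .two 11 1 449 1, .klein, .two 3 4 61 1, .klein,
  .two 4943 1 2 0, .br 103, .br 43, .two 2 1 2473 1, .br 97, .two 2 2 1237 1,
  .two 7 2 101 1, .syl 2 1 2475, .two 4951 1 2 0, .two 2 3 619 1, .br 127, .two 2 1 2477 1,
  .two 5 1 991 1, .br 59, .two 4957 1 2 0, .klein, .br 29, .br 31,
  .two 11 2 41 1, .br 827, .two 7 1 709 1, .klein, .br 331, .klein,
  .two 4967 1 2 0, .br 23, .two 4969 1 2 0, .klein, .two 3 1 1657 1, .klein,
  .two 4973 1 2 0, .br 829, .two 5 2 199 1, .two 2 4 311 1, .br 79, .klein,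
  .two 13 1 383 1, .br 83, .two 17 1 293 1, .klein, .br 151, .br 89,
  .two 5 1 997 1, .br 277, .two 4987 1 2 0, .klein, .two 3 1 1663 1, .klein,
  .br 31, .s4501 3 13 1 2 7, .two 4993 1 2 0, .klein, .br 37, .two 2 2 1249 1,
  .two 19 1 263 1, .syl 7 2 102, .two 4999 1 2 0, .two 2 3 5 4, .two 3 1 1667 1, .klein,
  .two 5003 1 2 0, .br 139, .syl 13 1 385, .two 2 1 2503 1, .two 3 1 1669 1, .two 2 4 313 1,
  .two 5009 1 2 0, .br 167, .two 5011 1 2 0, .klein, .two 3 2 557 1, .klein,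
  .br 59, .br 19, .two 29 1 173 1, .klein, .br 239, .klein,
  .two 5021 1 2 0, .br 31, .two 5023 1 2 0, .two 2 5 157 1, .br 67, .klein,
  .two 11 1 457 1, .br 419, .two 47 1 107 1, .klein, .br 43, .br 37,
  .two 7 1 719 1, .br 839, .br 53, .two 2 2 1259 1, .br 73, .klein,
  .two 5039 1 2 0, .hard
]

theorem table6_length : table6.length = 200 := by decide +kernel

set_option maxRecDepth 100000 in
theorem table6_ok : checkAll 4841 table6 = true := by decide +kernel

/-- certificates for the orders 5041..5240 -/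
def table7 : List Cert := [
  .two 71 2 2 0, .two 2 1 2521 1, .two 3 1 41 2, .klein, .two 5 1 1009 1, .br 29,
  .two 7 2 103 1, .two 2 3 631 1, .syl 17 1 297, .klein, .two 5051 1 2 0, .br 421,
  .two 31 1 163 1, .klein, .br 337, .two 2 6 79 1, .two 13 1 389 1, .br 281,
  .two 5059 1 2 0, .klein, .br 241, .two 2 1 2531 1, .two 61 1 83 1, .br 211,
  .two 5 1 1013 1, .klein, .two 3 2 563 1, .klein, .two 37 1 137 1, .syl 13 2 30,
  .two 11 1 461 1, .two 2 4 317 1, .br 89, .klein, .br 29, .br 47,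
  .two 5077 1 2 0, .two 2 1 2539 1, .two 3 1 1693 1, .br 127, .two 5081 1 2 0, .syl 11 2 42,
  .br 23, .klein, .br 113, .two 2 1 2543 1, .two 5087 1 2 0, .br 53,
  .two 7 1 727 1, .klein, .two 3 1 1697 1, .klein, .two 11 1 463 1, .br 283,
  .two 5 1 1019 1, .syl 7 2 104, .two 3 1 1699 1, .two 2 1 2549 1, .two 5099 1 2 0, .syl 17 1 300,
  .two 5101 1 2 0, .two 2 1 2551 1, .two 3 6 7 1, .br 29, .two 5 1 1021 1, .br 37,
  .two 5107 1 2 0, .two 2 2 1277 1, .br 131, .klein, .two 19 1 269 1, .br 71,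
  .two 5113 1 2 0, .two 2 1 2557 1, .br 31, .two 2 2 1279 1, .br 43, .br 853,
  .two 5119 1 2 0, .two 2 10 5 1, .two 3 2 569 1, .klein, .two 47 1 109 1, .br 61,
  .two 5 3 41 1, .klein, .two 3 1 1709 1, .two 2 3 641 1, .two 23 1 223 1, .br 19,
  .two 7 1 733 1, .two 2 2 1283 1, .br 59, .klein, .br 79, .br 107,
  .two 11 1 467 1, .klein, .two 3 2 571 1, .klein, .two 53 1 97 1, .br 857,
  .two 37 1 139 1, .two 2 3 643 1, .s4501 3 5 1 7 3, .klein, .two 5147 1 2 0, .hard,
  .two 19 1 271 1, .klein, .br 101, .br 23, .two 5153 1 2 0, .br 859,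
  .two 5 1 1031 1, .two 2 2 1289 1, .two 3 3 191 1, .two 2 1 2579 1, .br 67, .br 43,
  .two 13 1 397 1, .klein, .two 3 1 1721 1, .two 2 2 1291 1, .two 5 1 1033 1, .br 41,
  .two 5167 1 2 0, .br 19, .two 3 1 1723 1, .klein, .two 5171 1 2 0, .br 431,
  .two 7 1 739 1, .klein, .br 23, .two 2 3 647 1, .two 31 1 167 1, .br 863,
  .two 5179 1 2 0, .klein, .br 157, .two 2 1 2591 1, .two 71 1 73 1, .two 2 6 3 4,
  .br 61, .two 2 1 2593 1, .br 19, .two 2 2 1297 1, .two 5189 1 2 0, .br 173,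
  .two 29 1 179 1, .br 59, .two 3 2 577 1, .klein, .two 5 1 1039 1, .br 433,
  .two 5197 1 2 0, .klein, .two 3 1 1733 1, .sc3 2 4 5 2 13, .two 7 1 743 1, .syl 17 2 18,
  .two 11 2 43 1, .two 2 2 1301 1, .br 347, .klein, .two 41 1 127 1, .br 31,
  .two 5209 1 2 0, .klein, .two 3 3 193 1, .two 2 2 1303 1, .two 13 1 401 1, .br 79,
  .br 149, .two 2 5 163 1, .br 47, .two 2 1 2609 1, .two 17 1 307 1, .br 29,
  .two 23 1 227 1, .klein, .two 3 1 1741 1, .two 2 3 653 1, .br 19, .br 67,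
  .two 5227 1 2 0, .two 2 2 1307 1, .br 83, .klein, .two 5231 1 2 0, .br 109,
  .two 5233 1 2 0, .two 2 1 2617 1, .br 349, .klein, .two 5237 1 2 0, .br 97,
  .two 13 2 31 1, .br 131
]

theorem table7_length : table7.length = 200 := by decide +kernel

set_option maxRecDepth 100000 in
theorem table7_ok : checkAll 5041 table7 = true := by decide +kernel

/-- certificates for the orders 5241..5440 -/
def table8 : List Cert := [
  .two 3 1 1747 1, .two 2 1 2621 1, .two 7 2 107 1, .br 23, .two 5 1 1049 1, .klein,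
  .br 53, .two 2 7 41 1, .two 29 1 181 1, .syl 2 1 2625, .two 59 1 89 1, .klein,
  .br 103, .klein, .two 5 1 1051 1, .br 73, .two 7 1 751 1, .klein,
  .two 3 1 1753 1, .klein, .two 5261 1 2 0, .br 877, .two 19 1 277 1, .br 47,
  .syl 5 1 1053, .two 2 1 2633 1, .two 23 1 229 1, .br 439, .two 11 1 479 1, .klein,
  .br 251, .two 2 3 659 1, .two 5273 1 2 0, .br 293, .two 5 2 211 1, .two 2 2 1319 1,
  .two 3 1 1759 1, .klein, .two 5279 1 2 0, .syl 11 1 480, .two 5281 1 2 0, .klein,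
  .two 3 2 587 1, .two 2 2 1321 1, .br 151, .br 881, .two 17 1 311 1, .two 2 3 661 1,
  .br 43, .klein, .br 37, .s4501 4 7 2 3 3, .two 67 1 79 1, .two 2 1 2647 1,
  .br 353, .two 2 4 331 1, .two 5297 1 2 0, .br 883, .two 7 1 757 1, .klein,
  .br 31, .klein, .two 5303 1 2 0, .syl 13 1 408, .two 5 1 1061 1, .klein,
  .br 61, .two 2 2 1327 1, .two 5309 1 2 0, .br 59, .two 47 1 113 1, .two 2 6 83 1,
  .br 23, .two 2 1 2657 1, .two 5 1 1063 1, .br 443, .two 13 1 409 1, .two 2 1 2659 1,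
  .two 3 3 197 1, .br 19, .two 17 1 313 1, .br 887, .two 5323 1 2 0, .two 2 2 11 3,
  .br 71, .two 2 1 2663 1, .two 7 1 761 1, .br 37, .two 73 2 2 0, .klein,
  .two 3 1 1777 1, .klein, .two 5333 1 2 0, .br 127, .br 97, .br 29,
  .two 3 2 593 1, .klein, .two 19 1 281 1, .br 89, .two 7 2 109 1, .two 2 1 2671 1,
  .br 137, .two 2 5 167 1, .two 5 1 1069 1, .syl 2 1 2673, .two 5347 1 2 0, .klein,
  .two 3 1 1783 1, .klein, .two 5351 1 2 0, .br 223, .two 53 1 101 1, .two 2 1 2677 1,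
  .syl 17 1 315, .klein, .two 11 1 487 1, .br 47, .two 23 1 233 1, .br 67,
  .two 3 1 1787 1, .klein, .two 31 1 173 1, .br 149, .br 37, .two 2 1 2683 1,
  .two 3 1 1789 1, .br 61, .br 59, .br 179, .two 41 1 131 1, .klein,
  .two 3 3 199 1, .two 2 1 2687 1, .two 5 3 43 1, .s4501 3 7 1 2 8, .two 19 1 283 1, .two 2 1 2689 1,
  .br 163, .klein, .two 5381 1 2 0, .br 23, .two 7 1 769 1, .two 2 3 673 1,
  .br 359, .two 2 1 2693 1, .two 5387 1 2 0, .br 449, .two 17 1 317 1, .klein,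
  .two 3 2 599 1, .two 2 4 337 1, .two 5393 1 2 0, .br 31, .br 83, .klein,
  .br 257, .two 2 1 2699 1, .two 5399 1 2 0, .hard, .two 11 1 491 1, .klein,
  .two 3 1 1801 1, .klein, .br 47, .br 53, .two 5407 1 2 0, .two 2 5 13 2,
  .two 3 2 601 1, .klein, .two 7 1 773 1, .br 41, .two 5413 1 2 0, .two 2 1 2707 1,
  .br 19, .two 2 3 677 1, .two 5417 1 2 0, .br 43, .two 5419 1 2 0, .klein,
  .br 139, .two 2 1 2711 1, .br 29, .br 113, .br 31, .two 2 1 2713 1,
  .two 3 4 67 1, .klein, .two 61 1 89 1, .br 181, .two 5431 1 2 0, .br 97,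
  .two 3 1 1811 1, .klein, .two 5 1 1087 1, .br 151, .two 5437 1 2 0, .two 2 1 2719 1,
  .br 37, .syl 17 1 320
]

theorem table8_length : table8.length = 200 := by decide +kernel

set_option maxRecDepth 100000 in
theorem table8_ok : checkAll 5241 table8 = true := by decide +kernel

/-- certificates for the orders 5441..5640 -/
def table9 : List Cert := [
  .two 5441 1 2 0, .br 907, .two 5443 1 2 0, .two 2 2 1361 1, .syl 5 1 1089, .klein,
  .two 13 1 419 1, .br 227, .two 5449 1 2 0, .klein, .br 79, .klein,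
  .br 41, .br 101, .two 5 1 1091 1, .br 31, .br 107, .two 2 1 2729 1,
  .two 53 1 103 1, .hard, .two 43 1 127 1, .two 2 1 2731 1, .two 3 2 607 1, .two 2 3 683 1,
  .two 5 1 1093 1, .br 911, .br 71, .two 2 2 1367 1, .two 3 1 1823 1, .klein,
  .two 5471 1 2 0, .br 19, .two 13 1 421 1, .klein, .br 73, .two 2 2 37 2,
  .two 5477 1 2 0, .br 83, .two 5479 1 2 0, .br 137, .br 29, .two 2 1 2741 1,
  .two 5483 1 2 0, .br 457, .two 5 1 1097 1, .klein, .br 59, .two 2 4 7 3,
  .two 11 1 499 1, .br 61, .two 17 2 19 1, .two 2 2 1373 1, .two 3 1 1831 1, .klein,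
  .br 157, .br 229, .two 23 1 239 1, .two 2 1 2749 1, .br 47, .klein,
  .two 5501 1 2 0, .br 131, .two 5503 1 2 0, .two 2 7 43 1, .br 367, .two 2 1 2753 1,
  .two 5507 1 2 0, .s4501 4 17 1 3 4, .two 7 1 787 1, .klein, .br 167, .br 53,
  .two 37 1 149 1, .br 919, .two 5 1 1103 1, .klein, .two 3 2 613 1, .klein,
  .two 5519 1 2 0, .br 23, .two 5521 1 2 0, .klein, .br 263, .two 2 2 1381 1,
  .syl 17 1 325, .br 307, .two 5527 1 2 0, .two 2 3 691 1, .br 97, .klein,
  .two 5531 1 2 0, .br 461, .two 11 1 503 1, .two 2 1 2767 1, .br 41, .two 2 5 173 1,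
  .two 7 2 113 1, .br 71, .two 29 1 191 1, .klein, .two 3 1 1847 1, .klein,
  .two 23 1 241 1, .syl 11 1 504, .two 5 1 1109 1, .klein, .two 3 1 43 2, .klein,
  .two 31 1 179 1, .br 37, .br 61, .two 2 4 347 1, .two 3 2 617 1, .two 2 1 2777 1,
  .br 101, .br 463, .two 5557 1 2 0, .klein, .br 109, .br 139,
  .two 67 1 83 1, .br 103, .two 5563 1 2 0, .klein, .br 53, .klein,
  .two 19 1 293 1, .br 29, .two 5569 1 2 0, .klein, .two 3 2 619 1, .klein,
  .two 5573 1 2 0, .br 929, .two 5 2 223 1, .br 41, .s4501 3 11 1 13 2, .two 2 1 2789 1,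
  .two 7 1 797 1, .br 31, .two 5581 1 2 0, .two 2 1 2791 1, .two 3 1 1861 1, .two 2 4 349 1,
  .two 5 1 1117 1, .br 19, .two 37 1 151 1, .klein, .two 3 5 23 1, .klein,
  .two 5591 1 2 0, .br 233, .br 47, .two 2 1 2797 1, .br 373, .two 2 2 1399 1,
  .two 29 1 193 1, .br 311, .two 11 1 509 1, .hard, .two 3 1 1867 1, .two 2 1 2801 1,
  .two 13 1 431 1, .br 467, .br 59, .two 2 1 2803 1, .br 89, .two 2 3 701 1,
  .two 71 1 79 1, .syl 17 1 330, .two 31 1 181 1, .klein, .two 3 1 1871 1, .klein,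
  .two 5 1 1123 1, .hard, .two 41 1 137 1, .two 2 1 53 2, .two 3 1 1873 1, .klein,
  .br 73, .br 937, .two 5623 1 2 0, .br 37, .two 3 2 5 4, .klein,
  .two 17 1 331 1, .br 67, .two 13 1 433 1, .klein, .two 3 1 1877 1, .two 2 9 11 1,
  .two 43 1 131 1, .br 313, .br 23, .two 2 2 1409 1, .two 3 1 1879 1, .two 2 1 2819 1,
  .two 5639 1 2 0, .br 47
]

theorem table9_length : table9.length = 200 := by decide +kernel

set_option maxRecDepth 100000 in
theorem table9_ok : checkAll 5441 table9 = true := by decide +kernel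

/-- certificates for the orders 5641..5840 -/
def table10 : List Cert := [
  .two 5641 1 2 0, .klein, .br 19, .klein, .two 5 1 1129 1, .br 941,
  .two 5647 1 2 0, .two 2 4 353 1, .br 269, .klein, .two 5651 1 2 0, .br 157,
  .two 5653 1 2 0, .klein, .br 29, .br 101, .two 5657 1 2 0, .br 41,
  .two 5659 1 2 0, .klein, .br 37, .klein, .two 7 1 809 1, .br 59,
  .br 103, .two 2 1 2833 1, .two 3 1 1889 1, .klein, .two 5669 1 2 0, .syl 2 1 2835,
  .two 53 1 107 1, .two 2 3 709 1, .br 61, .two 2 1 2837 1, .two 5 2 227 1, .br 43,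
  .two 7 1 811 1, .klein, .two 3 2 631 1, .br 71, .br 23, .br 947,
  .two 5683 1 2 0, .klein, .br 379, .two 2 1 2843 1, .two 11 2 47 1, .br 79,
  .two 5689 1 2 0, .klein, .br 271, .two 2 2 1423 1, .two 5693 1 2 0, .br 73,
  .br 67, .two 2 6 89 1, .two 3 3 211 1, .klein, .two 41 1 139 1, .br 19,
  .two 5701 1 2 0, .two 2 1 2851 1, .two 3 1 1901 1, .br 31, .br 163, .br 317,
  .two 13 1 439 1, .two 2 2 1427 1, .br 173, .klein, .two 5711 1 2 0, .syl 17 1 336,
  .two 29 1 197 1, .two 2 1 2857 1, .br 127, .two 2 2 1429 1, .two 5717 1 2 0, .br 953,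
  .br 43, .syl 13 1 440, .two 3 1 1907 1, .two 2 1 2861 1, .two 59 1 97 1, .br 53,
  .two 5 2 229 1, .klein, .br 83, .two 2 5 179 1, .two 17 1 337 1, .br 191,
  .two 11 1 521 1, .two 2 2 1433 1, .syl 7 2 117, .klein, .br 37, .br 239,
  .two 5737 1 2 0, .klein, .two 3 1 1913 1, .klein, .two 5741 1 2 0, .br 29,
  .two 5743 1 2 0, .two 2 4 359 1, .br 383, .klein, .two 7 1 821 1, .br 479,
  .two 5749 1 2 0, .klein, .two 3 4 71 1, .two 2 3 719 1, .two 11 1 523 1, .br 137,
  .two 5 1 1151 1, .two 2 2 1439 1, .br 101, .two 2 1 2879 1, .two 13 1 443 1, .hard,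
  .two 7 1 823 1, .klein, .br 113, .klein, .two 5 1 1153 1, .br 31,
  .two 73 1 79 1, .br 103, .two 3 2 641 1, .klein, .two 29 1 199 1, .br 37,
  .two 23 1 251 1, .two 2 1 2887 1, .syl 11 1 525, .two 2 4 19 2, .two 53 1 109 1, .br 107,
  .two 5779 1 2 0, .klein, .br 47, .klein, .two 5783 1 2 0, .br 241,
  .br 89, .klein, .two 3 2 643 1, .two 2 2 1447 1, .two 7 1 827 1, .br 193,
  .two 5791 1 2 0, .two 2 5 181 1, .two 3 1 1931 1, .two 2 1 2897 1, .br 61, .br 23,
  .br 31, .klein, .two 3 1 1933 1, .br 29, .two 5801 1 2 0, .br 967,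
  .two 7 1 829 1, .two 2 2 1451 1, .br 43, .two 2 1 2903 1, .two 5807 1 2 0, .s4501 3 11 2 2 4,
  .two 37 1 157 1, .klein, .br 149, .two 2 2 1453 1, .two 5813 1 2 0, .syl 2 1 2907,
  .two 5 1 1163 1, .two 2 3 727 1, .br 277, .two 2 1 2909 1, .two 11 1 23 2, .br 97,
  .two 5821 1 2 0, .klein, .two 3 2 647 1, .syl 13 1 448, .two 5 2 233 1, .br 971,
  .two 5827 1 2 0, .klein, .br 67, .klein, .two 7 3 17 1, .two 2 3 3 6,
  .two 19 1 307 1, .two 2 1 2917 1, .br 389, .two 2 2 1459 1, .two 13 1 449 1, .br 139,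
  .two 5839 1 2 0, .br 73
]

theorem table10_length : table10.length = 200 := by decide +kernel

set_option maxRecDepth 100000 in
theorem table10_ok : checkAll 5641 table10 = true := by decide +kernel

/-- certificates for the orders 5841..6040 -/
def table11 : List Cert := [
  .br 59, .klein, .two 5843 1 2 0, .br 487, .br 167, .klein,
  .two 3 1 1949 1, .br 43, .two 5849 1 2 0, .syl 13 1 450, .two 5851 1 2 0, .klein,
  .two 3 1 1951 1, .two 2 1 2927 1, .two 5 1 1171 1, .br 61, .two 5857 1 2 0, .klein,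
  .br 31, .klein, .two 5861 1 2 0, .br 977, .br 41, .two 2 3 733 1,
  .br 23, .klein, .two 5867 1 2 0, .br 163, .two 5869 1 2 0, .klein,
  .br 103, .two 2 4 367 1, .two 7 1 839 1, .br 89, .two 5 3 47 1, .klein,
  .two 3 2 653 1, .two 2 1 2939 1, .two 5879 1 2 0, .hard, .two 5881 1 2 0, .klein,
  .br 53, .two 2 2 1471 1, .br 107, .br 109, .two 7 1 29 2, .two 2 8 23 1,
  .br 151, .klein, .two 43 1 137 1, .br 491, .two 71 1 83 1, .klein,
  .br 131, .br 67, .two 5897 1 2 0, .br 983, .two 17 1 347 1, .klein,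
  .br 281, .klein, .two 5903 1 2 0, .br 41, .two 5 1 1181 1, .two 2 1 2953 1,
  .br 179, .klein, .two 19 1 311 1, .br 197, .two 23 1 257 1, .two 2 3 739 1,
  .two 3 4 73 1, .two 2 1 2957 1, .syl 13 2 35, .br 29, .two 61 1 97 1, .klein,
  .two 3 1 1973 1, .br 37, .two 31 1 191 1, .br 47, .two 5923 1 2 0, .two 2 2 1481 1,
  .br 79, .two 2 1 2963 1, .two 5927 1 2 0, .br 19, .two 7 2 11 2, .klein,
  .two 3 2 659 1, .two 2 2 1483 1, .two 17 1 349 1, .br 43, .two 5 1 1187 1, .br 53,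
  .two 3 1 1979 1, .two 2 1 2969 1, .two 5939 1 2 0, .hard, .two 13 1 457 1, .two 2 1 2971 1,
  .br 283, .two 2 3 743 1, .br 41, .br 991, .two 19 1 313 1, .two 2 2 1487 1,
  .two 3 2 661 1, .klein, .two 11 1 541 1, .br 31, .two 5953 1 2 0, .klein,
  .br 397, .two 2 2 1489 1, .br 37, .br 331, .two 59 1 101 1, .br 149,
  .two 3 1 1987 1, .klein, .two 67 1 89 1, .br 71, .two 5 1 1193 1, .klein,
  .syl 17 1 351, .two 2 4 373 1, .two 47 1 127 1, .br 199, .two 7 1 853 1, .two 2 2 1493 1,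
  .br 181, .klein, .two 5 2 239 1, .br 83, .two 43 1 139 1, .klein,
  .two 3 1 1993 1, .klein, .two 5981 1 2 0, .br 997, .two 31 1 193 1, .syl 17 1 352,
  .br 19, .klein, .two 5987 1 2 0, .br 499, .two 53 1 113 1, .klein,
  .two 3 1 1997 1, .br 107, .two 13 1 461 1, .br 37, .br 109, .two 2 2 1499 1,
  .two 3 1 1999 1, .two 2 1 2999 1, .two 7 1 857 1, .hard, .two 17 1 353 1, .two 2 1 3001 1,
  .br 29, .klein, .two 5 1 1201 1, .syl 13 1 462, .two 6007 1 2 0, .two 2 3 751 1,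
  .two 3 1 2003 1, .klein, .two 6011 1 2 0, .br 167, .two 7 1 859 1, .klein,
  .br 401, .two 2 7 47 1, .two 11 1 547 1, .br 59, .two 13 1 463 1, .klein,
  .two 3 3 223 1, .two 2 1 3011 1, .two 19 1 317 1, .br 251, .two 5 2 241 1, .klein,
  .br 41, .klein, .two 6029 1 2 0, .br 67, .two 37 1 163 1, .br 29,
  .two 3 1 2011 1, .klein, .br 71, .br 503, .two 6037 1 2 0, .two 2 1 3019 1,
  .br 61, .br 151
]

theorem table11_length : table11.length = 200 := by decide +kernel

set_option maxRecDepth 100000 in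
theorem table11_ok : checkAll 5841 table11 = true := by decide +kernel

/-- certificates for the orders 6041..6232 -/
def table12 : List Cert := [
  .two 7 1 863 1, .br 53, .two 6043 1 2 0, .two 2 2 1511 1, .br 31, .two 2 1 3023 1,
  .two 6047 1 2 0, .hard, .two 23 1 263 1, .klein, .two 3 1 2017 1, .klein,
  .two 6053 1 2 0, .br 1009, .br 173, .two 2 3 757 1, .two 3 2 673 1, .klein,
  .two 73 1 83 1, .br 101, .br 29, .klein, .br 47, .two 2 4 379 1,
  .two 5 1 1213 1, .br 337, .two 6067 1 2 0, .klein, .s4501 3 7 1 17 2, .klein,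
  .two 13 1 467 1, .hard, .two 6073 1 2 0, .two 2 1 3037 1, .two 3 5 5 2, .klein,
  .two 59 1 103 1, .br 1013, .two 6079 1 2 0, .br 19, .two 3 1 2027 1, .two 2 1 3041 1,
  .br 79, .s4501 4 3 2 13 2, .two 5 1 1217 1, .klein, .two 3 1 2029 1, .two 2 3 761 1,
  .two 6089 1 2 0, .br 29, .two 6091 1 2 0, .two 2 2 1523 1, .two 3 2 677 1, .klein,
  .br 53, .br 127, .br 67, .two 2 1 3049 1, .br 107, .klein,
  .two 6101 1 2 0, .br 113, .two 17 1 359 1, .br 109, .br 37, .klein,
  .two 31 1 197 1, .br 509, .two 41 1 149 1, .klein, .br 97, .two 2 5 191 1,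
  .two 6113 1 2 0, .br 1019, .two 5 1 1223 1, .klein, .two 3 1 2039 1, .klein,
  .two 29 1 211 1, .syl 17 1 360, .two 6121 1 2 0, .two 2 1 3061 1, .br 157, .two 2 2 1531 1,
  .two 5 3 7 2, .br 1021, .two 11 1 557 1, .two 2 4 383 1, .two 3 3 227 1, .klein,
  .two 6131 1 2 0, .br 73, .two 6133 1 2 0, .two 2 1 3067 1, .br 409, .br 59,
  .two 17 1 19 2, .br 31, .two 7 1 877 1, .klein, .br 89, .klein,
  .two 6143 1 2 0, .two 2 11 3 1, .two 5 1 1229 1, .klein, .two 3 2 683 1, .klein,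
  .br 43, .br 41, .two 6151 1 2 0, .two 2 3 769 1, .br 293, .klein,
  .two 5 1 1231 1, .br 19, .two 47 1 131 1, .two 2 1 3079 1, .two 3 1 2053 1, .hard,
  .two 61 1 101 1, .br 79, .two 6163 1 2 0, .klein, .br 137, .two 2 1 3083 1,
  .two 7 1 881 1, .br 257, .two 31 1 199 1, .klein, .s4501 3 11 2 17 1, .two 2 2 1543 1,
  .two 6173 1 2 0, .syl 7 3 18, .br 19, .two 2 5 193 1, .br 71, .two 2 1 3089 1,
  .two 37 1 167 1, .br 103, .two 7 1 883 1, .klein, .two 3 3 229 1, .two 2 3 773 1,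
  .two 5 1 1237 1, .br 1031, .two 23 1 269 1, .klein, .two 3 1 2063 1, .klein,
  .two 41 1 151 1, .br 43, .two 11 1 563 1, .klein, .br 59, .two 2 2 1549 1,
  .two 6197 1 2 0, .br 1033, .two 6199 1 2 0, .br 31, .br 53, .klein,
  .two 6203 1 2 0, .br 47, .br 73, .klein, .two 3 1 2069 1, .two 2 6 97 1,
  .two 7 1 887 1, .br 23, .two 6211 1 2 0, .two 2 2 1553 1, .br 109, .klein,
  .br 113, .br 37, .two 6217 1 2 0, .two 2 1 3109 1, .two 3 2 691 1, .klein,
  .two 6221 1 2 0, .br 61, .two 7 2 127 1, .two 2 4 389 1, .br 83, .klein,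
  .two 13 1 479 1, .br 173, .two 6229 1 2 0, .klein, .br 67, .br 41
]

theorem table12_length : table12.length = 192 := by decide +kernel

set_option maxRecDepth 100000 in
theorem table12_ok : checkAll 6041 table12 = true := by decide +kernel

/-- every order in the range is excluded or in the hard list -/
theorem range_cases (n : ℕ) (h1 : 3640 < n) (h2 : n ≤ 6232) :
    NoSimple.{u} n ∨ n ∈ hardList := by
  by_cases hk0 : n < 3841
  · have := checkAll_sound.{u} table0 3641 table0_ok (n - 3641) (by rw [table0_length]; omega)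
    have e : 3641 + (n - 3641) = n := by omega
    rwa [e] at this
  by_cases hk1 : n < 4041
  · have := checkAll_sound.{u} table1 3841 table1_ok (n - 3841) (by rw [table1_length]; omega)
    have e : 3841 + (n - 3841) = n := by omega
    rwa [e] at this
  by_cases hk2 : n < 4241
  · have := checkAll_sound.{u} table2 4041 table2_ok (n - 4041) (by rw [table2_length]; omega)
    have e : 4041 + (n - 4041) = n := by omega
    rwa [e] at this
  by_cases hk3 : n < 4441
  · have := checkAll_sound.{u} table3 4241 table3_ok (n - 4241) (by rw [table3_length]; omega)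
    have e : 4241 + (n - 4241) = n := by omega
    rwa [e] at this
  by_cases hk4 : n < 4641
  · have := checkAll_sound.{u} table4 4441 table4_ok (n - 4441) (by rw [table4_length]; omega)
    have e : 4441 + (n - 4441) = n := by omega
    rwa [e] at this
  by_cases hk5 : n < 4841
  · have := checkAll_sound.{u} table5 4641 table5_ok (n - 4641) (by rw [table5_length]; omega)
    have e : 4641 + (n - 4641) = n := by omega
    rwa [e] at this
  by_cases hk6 : n < 5041
  · have := checkAll_sound.{u} table6 4841 table6_ok (n - 4841) (by rw [table6_length]; omega)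
    have e : 4841 + (n - 4841) = n := by omega
    rwa [e] at this
  by_cases hk7 : n < 5241
  · have := checkAll_sound.{u} table7 5041 table7_ok (n - 5041) (by rw [table7_length]; omega)
    have e : 5041 + (n - 5041) = n := by omega
    rwa [e] at this
  by_cases hk8 : n < 5441
  · have := checkAll_sound.{u} table8 5241 table8_ok (n - 5241) (by rw [table8_length]; omega)
    have e : 5241 + (n - 5241) = n := by omega
    rwa [e] at this
  by_cases hk9 : n < 5641
  · have := checkAll_sound.{u} table9 5441 table9_ok (n - 5441) (by rw [table9_length]; omega)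
    have e : 5441 + (n - 5441) = n := by omega
    rwa [e] at this
  by_cases hk10 : n < 5841
  · have := checkAll_sound.{u} table10 5641 table10_ok (n - 5641) (by rw [table10_length]; omega)
    have e : 5641 + (n - 5641) = n := by omega
    rwa [e] at this
  by_cases hk11 : n < 6041
  · have := checkAll_sound.{u} table11 5841 table11_ok (n - 5841) (by rw [table11_length]; omega)
    have e : 5841 + (n - 5841) = n := by omega
    rwa [e] at this
  by_cases hk12 : n < 6233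
  · have := checkAll_sound.{u} table12 6041 table12_ok (n - 6041) (by rw [table12_length]; omega)
    have e : 6041 + (n - 6041) = n := by omega
    rwa [e] at this
  omega

end Cfsg.Agent.Helper18.Census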