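import Mathlib
import Cfsg.Agent.Helper18.CensusC
import Cfsg.Agent.Helper11.O504A
import Cfsg.Agent.S4700

/-!
# Census engine, part E: the Brauer-Reynolds certificate (S4700)
-/

set_option autoImplicit false

namespace Cfsg.Agent.Helper18.Census

universe u

/-- `k` is not of the form `F(p,u,h) = (h u p + u^2 + u + h)/(u + 1)` -/
def notF (p k : ℕ) : Bool :=
  (List.range k).all (fun u => decide (u = 0) ||
    !(decide (u * u + u < k * (u + 1)) && decide ((k * (u + 1) - (u * u + u)) % (u * p + 1) = 0)))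

theorem notF_sound {p k : ℕ} (h : notF p k = true) :
    ¬ ∃ h u : ℕ, 0 < h ∧ 0 < u ∧ k * (u + 1) = h * u * p + u ^ 2 + u + h := by
  rintro ⟨c, u, hc, hu, heq⟩
  unfold notF at h
  simp only [List.all_eq_true, List.mem_range, Bool.or_eq_true, decide_eq_true_eq,
    Bool.not_eq_true', Bool.and_eq_false_imp] at h
  have heq' : k * (u + 1) = c * (u * p + 1) + (u * u + u) := by rw [heq]; ring
  have hlt : u * u + u < k * (u + 1) := by
    have : 0 < c * (u * p + 1) := by positivity
    omega
  have huk : u < k := by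
    by_contra hge
    have hle : k ≤ u := not_lt.mp hge
    have : k * (u + 1) ≤ u * (u + 1) := Nat.mul_le_mul_right _ hle
    have : u * (u + 1) = u * u + u := by ring
    omega
  rcases h u huk with h' | h'
  · omega
  · have := h' hlt
    rw [decide_eq_false_iff_not] at this
    apply this
    rw [heq', Nat.add_sub_cancel]
    exact Nat.mul_mod_left _ _

/-- a bad candidate for the number of Sylow subgroups is impossible -/
theorem badCand_false {G : Type u} [Group G] [Finite G] [IsSimpleGroup G]
    (hG : ¬ IsMulCommutative G) {n p a m : ℕ} [Fact p.Prime] (hcard : Nat.card G = n)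
    (hn : n = m * p ^ a) (hm : ¬ p ∣ m) (ha : 1 ≤ a) :
    badCand n p a (Nat.card (Sylow p G)) = false := by
  have hp' : p.Prime := Fact.out
  have hG' : Nat.card G = m * p ^ a := hcard.trans hn
  have hpn : p ∣ Nat.card G := by
    rw [hG']; exact Dvd.dvd.mul_left (dvd_pow_self p (by omega)) m
  by_contra hb
  rw [Bool.not_eq_false] at hb
  set d := Nat.card (Sylow p G) with hd
  unfold badCand at hb
  simp only [Bool.or_eq_true, Bool.and_eq_true, decide_eq_true_eq, Bool.not_eq_true',
    decide_eq_false_iff_not] at hb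
  obtain ⟨P⟩ : Nonempty (Sylow p G) := inferInstance
  have hNd : d * Nat.card ↥(Subgroup.normalizer ((P : Subgroup G) : Set G)) = n := by
    rw [← hcard]; exact Cfsg.Agent.Helper11.card_sylow_mul_card_normalizer P
  have hd0 : 0 < d := by
    rw [hd]; exact Nat.pos_of_ne_zero (by
      intro h0
      have : Nat.card (Sylow p G) ≡ 1 [MOD p] := card_sylow_modEq_one p G
      rw [h0] at this
      have h1 := this.symm
      rw [Nat.modEq_zero_iff_dvd] at h1
      exact hp'.one_lt.ne' (Nat.dvd_one.mp h1))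
  have hN : Nat.card ↥(Subgroup.normalizer ((P : Subgroup G) : Set G)) = n / d := by
    rw [← hNd, Nat.mul_div_cancel_left _ hd0]
  rcases hb with (⟨-, h1⟩ | ⟨ha1, h1⟩) | ⟨⟨⟨ha1, hp2⟩, hdp⟩, h1⟩
  · apply h1
    have := Cfsg.Agent.Helper11.simple_two_mul_card_dvd_factorial_card_sylow hG p hpn
    rwa [hcard] at this
  · subst ha1
    have hP : Nat.card ↥(P : Subgroup G) = p := by
      have := (Cfsg.Agent.Helper11.sylow_card_of_card_eq_pow m 1 hG' hm P).1
      rwa [pow_one] at this
    obtain ⟨r, hr1, hrp, hrN⟩ := Cfsg.Agent.Helper11.simple_automizer_prime hG p P hP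
    rw [hN] at hrN
    have hr : r ∣ n / (d * p) := by
      rw [← Nat.div_div_eq_div_mul]
      obtain ⟨c, hc⟩ := hrN
      rw [hc, mul_comm r p, mul_assoc, Nat.mul_div_cancel_left _ hp'.pos]
      exact Dvd.intro _ rfl
    have := Nat.dvd_gcd hr hrp
    rw [h1] at this
    exact hr1 (Nat.dvd_one.mp this)
  · subst ha1
    have hP : Nat.card ↥(P : Subgroup G) = p := by
      have := (Cfsg.Agent.Helper11.sylow_card_of_card_eq_pow m 1 hG' hm P).1
      rwa [pow_one] at this
    apply h1
    have hidx : (Subgroup.normalizer ((P : Subgroup G) : Set G)).index = p ∨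
        (Subgroup.normalizer ((P : Subgroup G) : Set G)).index = p + 1 := by
      right
      rw [← hdp, hd]
      exact (P.card_eq_index_normalizer).symm
    have := Cfsg.Agent.Helper11.simple_normalizer_dvd_of_index hG p hp2 _ hidx P hP
    rwa [hN] at this

/-- `|SL(2,q)| = q (q+1) (q-1)` -/
theorem card_sl2 {F : Type} [Field F] [Fintype F] (q : ℕ) (hF : Fintype.card F = q) (hq : 2 ≤ q) :
    Nat.card (Matrix.SpecialLinearGroup (Fin 2) F) = q * (q + 1) * (q - 1) := by
  have h1 := Cfsg.Agent.Helper2.card_SL_mul_card_units (ι := Fin 2) (F := F)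
  have h2 := Matrix.card_GL_field (𝔽 := F) 2
  have h3 := Cfsg.Agent.Helper2.card_units_field (F := F)
  rw [hF] at h2 h3
  rw [h3, h2, Fin.prod_univ_two] at h1
  obtain ⟨k, rfl⟩ : ∃ k, q = k + 2 := ⟨q - 2, by omega⟩
  have e1 : k + 2 - 1 = k + 1 := by omega
  have e2 : (k + 2) ^ 2 - (k + 2) ^ ((0 : Fin 2) : ℕ) = (k + 1) * (k + 3) := by
    have : (k + 2) ^ 2 = (k + 1) * (k + 3) + 1 := by ring
    simp only [Fin.val_zero, pow_zero]
    omega
  have e3 : (k + 2) ^ 2 - (k + 2) ^ ((1 : Fin 2) : ℕ) = (k + 2) * (k + 1) := by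
    have : (k + 2) ^ 2 = (k + 2) * (k + 1) + (k + 2) := by ring
    simp only [Fin.val_one, pow_one]
    omega
  rw [e1, e2, e3] at h1
  rw [e1]
  have hpos : 0 < k + 1 := by omega
  apply Nat.eq_of_mul_eq_mul_right hpos
  rw [h1]; ring

/-- the `p'`-core of a non-abelian simple group of order divisible by `p` is trivial -/
theorem card_quot_pPrimeCore {G : Type u} [Group G] [Finite G] [IsSimpleGroup G] (p : ℕ)
    (hp : p.Prime) (hpn : p ∣ Nat.card G) :
    Nat.card (G ⧸ Cfsg.pPrimeCore p G) = Nat.card G := by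
  have hbot : Cfsg.pPrimeCore p G = ⊥ := by
    unfold Cfsg.pPrimeCore
    rw [eq_bot_iff]
    apply sSup_le
    rintro N ⟨hN, hcop⟩
    rcases hN.eq_bot_or_eq_top with h | h
    · rw [h]
    · exfalso
      rw [h, Subgroup.card_top] at hcop
      have := Nat.Coprime.eq_one_of_dvd hcop.symm hpn
      exact hp.one_lt.ne' this
  have := Subgroup.card_eq_card_quotient_mul_card_subgroup (Cfsg.pPrimeCore p G)
  rw [hbot, Subgroup.card_bot, mul_one] at this
  rw [hbot]
  exact this.symm

/-- Brauer-Reynolds certificate: `p ∥ n` and every candidate `1 + k p` for the number of Sylow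
`p`-subgroups is bad or has `k` not of the form `F(p,u,h)`. -/
def checkBrf (n p m : ℕ) : Bool :=
  isPrimeB p && decide (n = m * p) && decide (m % p ≠ 0) && decide (2 * n ≠ p * (p * p - 1)) &&
    decide (n ≠ (p - 1) * p * (p - 2)) &&
  (List.range (m / p + 1)).all
    (fun k => decide (k = 0) || decide (m % (k * p + 1) ≠ 0) || badCand n p 1 (k * p + 1) ||
      notF p k)

theorem checkBrf_sound {n p m : ℕ} (h : checkBrf n p m = true) : NoSimple.{u} n := by
  unfold checkBrf at h
  simp only [Bool.and_eq_true, decide_eq_true_eq, List.all_eq_true, List.mem_range,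
    Bool.or_eq_true] at h
  obtain ⟨⟨⟨⟨⟨hp, hn⟩, hmp⟩, h1⟩, h2⟩, hall⟩ := h
  have hp' : p.Prime := isPrimeB_sound hp
  intro G _ _ _ hG hcard
  have : Fact p.Prime := ⟨hp'⟩
  have hn' : n = m * p ^ 1 := by rw [pow_one]; exact hn
  have hG' : Nat.card G = m * p ^ 1 := hcard.trans hn'
  have hm : ¬ p ∣ m := fun hd => hmp (Nat.mod_eq_zero_of_dvd hd)
  have hpn : p ∣ Nat.card G := by
    rw [hG', pow_one]; exact Dvd.intro_left _ rfl
  have hmem := Cfsg.Agent.Helper11.card_sylow_mem_filter m 1 hG' hm
  rw [Finset.mem_filter, Nat.mem_divisors] at hmem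
  obtain ⟨⟨hdm, hm0⟩, hd1⟩ := hmem
  have hne1 := Cfsg.Agent.Helper11.simple_card_sylow_ne_one hG p hpn
  have hbad := badCand_false hG hcard hn' hm le_rfl
  set d := Nat.card (Sylow p G) with hd
  have hdle : d ≤ m := Nat.le_of_dvd (Nat.pos_of_ne_zero hm0) hdm
  have hdk : d = d / p * p + 1 := by
    have := Nat.div_add_mod d p
    rw [hd1] at this
    rw [mul_comm]; exact this.symm
  have hk0 : d / p ≠ 0 := by
    intro h0
    rw [h0] at hdk
    omega
  have hklt : d / p < m / p + 1 := by
    have : d / p ≤ m / p := Nat.div_le_div_right hdle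
    omega
  rcases hall (d / p) hklt with ((h3 | h3) | h3) | h3
  · exact hk0 h3
  · rw [← hdk] at h3
    exact h3 (Nat.mod_eq_zero_of_dvd hdm)
  · rw [← hdk, hbad] at h3
    exact Bool.false_ne_true h3
  · -- Brauer-Reynolds
    have hperf : commutator G = ⊤ := Cfsg.Agent.Helper11.O504.commutator_eq_top hG
    obtain ⟨P⟩ : Nonempty (Sylow p G) := inferInstance
    have hP : Nat.card ↥(P : Subgroup G) = p := by
      have := (Cfsg.Agent.Helper11.sylow_card_of_card_eq_pow m 1 hG' hm P).1
      rwa [pow_one] at this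
    have hnk : Nat.card (Sylow p G) = 1 + d / p * p := by rw [← hd]; omega
    have hq := card_quot_pPrimeCore (G := G) p hp' hpn
    rcases Cfsg.Agent.S4700.result hperf p P hP (d / p) hnk with
      ⟨F, _, _, hF, hp3, ⟨e⟩⟩ | ⟨k, F, _, _, hF, hpm, hp3, ⟨e⟩⟩ | hform
    · have hodd : p % 2 = 1 := by
        rcases hp'.eq_two_or_odd with h | h
        · omega
        · exact h
      have := card_psl2_odd p hF hp3 hodd
      rw [← Nat.card_congr e.toEquiv, hq, hcard] at this
      exact h1 this
    · have hQ : Fintype.card F = p - 1 := by rw [hF, hpm]; simp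
      have := card_sl2 (p - 1) hQ (by omega)
      rw [← Nat.card_congr e.toEquiv, hq, hcard] at this
      apply h2
      rw [this]
      have e1 : p - 1 + 1 = p := by omega
      have e2 : p - 1 - 1 = p - 2 := by omega
      rw [e1, e2]
    · exact notF_sound h3 hform

theorem no3696 : NoSimple.{u} 3696 := checkBrf_sound (p := 11) (m := 336) (by decide +kernel)
theorem no3960 : NoSimple.{u} 3960 := checkBrf_sound (p := 11) (m := 360) (by decide +kernel)
theorem no4680 : NoSimple.{u} 4680 := checkBrf_sound (p := 13) (m := 360) (by decide +kernel)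
theorem no5148 : NoSimple.{u} 5148 := checkBrf_sound (p := 13) (m := 396) (by decide +kernel)
theorem no5940 : NoSimple.{u} 5940 := checkBrf_sound (p := 11) (m := 540) (by decide +kernel)
theorem no6160 : NoSimple.{u} 6160 := checkBrf_sound (p := 11) (m := 560) (by decide +kernel)

end Cfsg.Agent.Helper18.Census
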