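import Mathlib
import Cfsg.Agent.Helper18.CensusE
import Cfsg.Agent.Helper28.S4700B0
import Cfsg.Agent.Helper28.S4700KER
import Cfsg.Agent.Helper24.SelfCentD
import Cfsg.Agent.Helper15.BrP6
import Cfsg.Agent.S1010

/-!
# Census engine, part F: the principal-block degree equation for a Sylow subgroup of order `p`
-/

set_option autoImplicit false

namespace Cfsg.Agent.Helper18.Census

universe u

/-- search for `k` signed degrees from the list `L` with prescribed signed sum and bounded sum of
squares -/
def searchDeg (p : ℕ) (L : List ℕ) : ℕ → ℤ → ℕ → Bool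
  | 0, target, _ => decide (target = 0)
  | k + 1, target, budget =>
    L.any (fun a => decide (a * a ≤ budget) &&
      ((decide (a % p = 1 % p) && searchDeg p L k (target - (a : ℤ)) (budget - a * a)) ||
       (decide ((a + 1) % p = 0) && searchDeg p L k (target + (a : ℤ)) (budget - a * a))))

theorem searchDeg_of_finset {ι : Type*} [DecidableEq ι] (p : ℕ) (L : List ℕ) (deg : ι → ℕ)
    (δ : ι → ℤ) : ∀ (S : Finset ι) (target : ℤ) (budget : ℕ),
    (∀ i ∈ S, deg i ∈ L ∧ ((δ i = 1 ∧ deg i % p = 1 % p) ∨ (δ i = -1 ∧ (deg i + 1) % p = 0))) →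
    ∑ i ∈ S, δ i * (deg i : ℤ) = target → ∑ i ∈ S, deg i * deg i ≤ budget →
    searchDeg p L S.card target budget = true := by
  intro S
  induction S using Finset.induction_on with
  | empty =>
    intro target budget _ hsum _
    simp only [Finset.card_empty, searchDeg, decide_eq_true_eq]
    rw [← hsum]; simp
  | insert i S hi ih =>
    intro target budget hmem hsum hsq
    rw [Finset.card_insert_of_notMem hi]
    rw [Finset.sum_insert hi] at hsum hsq
    obtain ⟨hL, hδ⟩ := hmem i (Finset.mem_insert_self i S)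
    have hmem' : ∀ j ∈ S, deg j ∈ L ∧
        ((δ j = 1 ∧ deg j % p = 1 % p) ∨ (δ j = -1 ∧ (deg j + 1) % p = 0)) :=
      fun j hj => hmem j (Finset.mem_insert_of_mem hj)
    have hle : deg i * deg i ≤ budget := by omega
    have hsq' : ∑ j ∈ S, deg j * deg j ≤ budget - deg i * deg i := by omega
    unfold searchDeg
    rw [List.any_eq_true]
    refine ⟨deg i, hL, ?_⟩
    rw [Bool.and_eq_true, decide_eq_true_eq, Bool.or_eq_true, Bool.and_eq_true, Bool.and_eq_true,
      decide_eq_true_eq, decide_eq_true_eq]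
    refine ⟨hle, ?_⟩
    rcases hδ with ⟨h1, h2⟩ | ⟨h1, h2⟩
    · left
      refine ⟨h2, ih _ _ hmem' ?_ hsq'⟩
      rw [← hsum, h1]; ring
    · right
      refine ⟨h2, ih _ _ hmem' ?_ hsq'⟩
      rw [← hsum, h1]; ring

/-- the candidate degrees -/
def candList (idx lo : ℕ) : List ℕ :=
  (List.range (idx + 1)).filter (fun a => decide (a ∣ idx) && decide (lo ≤ a))

theorem mem_candList {idx lo a : ℕ} (hidx : 0 < idx) (h1 : a ∣ idx) (h2 : lo ≤ a) :
    a ∈ candList idx lo := by
  unfold candList
  rw [List.mem_filter, List.mem_range, Bool.and_eq_true, decide_eq_true_eq, decide_eq_true_eq]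
  exact ⟨Nat.lt_succ_of_le (Nat.le_of_dvd hidx h1), h1, h2⟩

/-- the degree equation of the principal `p`-block has no solution for `n_p = d`, `|N : C| = f` -/
def checkDF (n p d f : ℕ) : Bool :=
  (candList (d * f) (if n / (d * f) = p then 2 else p)).all (fun b =>
      decide (n < b * b * ((p - 1) / f) + 1) ||
      ((decide (b % p ≠ f % p) ||
          !searchDeg p (candList (d * f) (if n / (d * f) = p then 2 else p)) (f - 1)
            ((b : ℤ) - 1) (n - 1 - b * b * ((p - 1) / f))) &&
       (decide ((b + f) % p ≠ 0) ||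
          !searchDeg p (candList (d * f) (if n / (d * f) = p then 2 else p)) (f - 1)
            (-(b : ℤ) - 1) (n - 1 - b * b * ((p - 1) / f)))))
  && (decide (f ≠ p - 1) ||
      !searchDeg p (candList (d * f) (if n / (d * f) = p then 2 else p)) f (-1) (n - 1))

open Cfsg Cfsg.Agent.Helper24 Cfsg.Agent.S4503P Cfsg.Agent.Helper28.S4700B0

/-- the `p'`-core of a simple group of order divisible by `p` is trivial -/
theorem pPrimeCore_eq_bot {G : Type u} [Group G] [Finite G] [IsSimpleGroup G] (p : ℕ)
    (hp : p.Prime) (hpn : p ∣ Nat.card G) : Cfsg.pPrimeCore p G = ⊥ := by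
  unfold Cfsg.pPrimeCore
  rw [eq_bot_iff]
  apply sSup_le
  rintro N ⟨hN, hcop⟩
  rcases hN.eq_bot_or_eq_top with h | h
  · rw [h]
  · exfalso
    rw [h, Subgroup.card_top] at hcop
    have := Nat.Coprime.eq_one_of_dvd hcop.symm hpn
    exact hp.one_lt.ne' this

theorem irrDeg_trivIrr {G : Type u} [Group G] [Finite G] : irrDeg (trivIrr G) = 1 := by
  rw [irrDeg_eq_one_iff]; rfl

set_option maxHeartbeats 1000000 in
/-- the degree equation check fails at the true values of `n_p` and `|N : C|` -/
theorem checkDF_false {G : Type u} [Group G] [Finite G] [IsSimpleGroup G]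
    (hG : ¬ IsMulCommutative G) {n p m : ℕ} [Fact p.Prime] (hcard : Nat.card G = n)
    (hn : n = m * p) (hm : ¬ p ∣ m) (P : Sylow p G) :
    fN (P : Subgroup G) ≠ 0 ∧ (p - 1) % fN (P : Subgroup G) = 0 ∧
    (n / (Nat.card (Sylow p G) * p)) % fN (P : Subgroup G) = 0 ∧ fN (P : Subgroup G) < p ∧
    checkDF n p (Nat.card (Sylow p G)) (fN (P : Subgroup G)) = false := by
  classical
  have hp : p.Prime := Fact.out
  have hG' : Nat.card G = m * p ^ 1 := by rw [pow_one, hcard, hn]
  have hP : Nat.card ↥(P : Subgroup G) = p := by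
    have := (Cfsg.Agent.Helper11.sylow_card_of_card_eq_pow m 1 hG' hm P).1
    rwa [pow_one] at this
  have hpn : p ∣ Nat.card G := by rw [hcard, hn]; exact Dvd.intro_left _ rfl
  have hperf : commutator G = ⊤ := Cfsg.Agent.Helper11.O504.commutator_eq_top hG
  have hO := pPrimeCore_eq_bot (G := G) p hp hpn
  obtain ⟨B⟩ := exists_b0Master p P hP
  have hCN : Subgroup.centralizer ((P : Subgroup G) : Set G) ≤
      Subgroup.normalizer ((P : Subgroup G) : Set G) := Subgroup.centralizer_le_normalizer _
  have hPC : (P : Subgroup G) ≤ Subgroup.centralizer ((P : Subgroup G) : Set G) :=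
    Cfsg.Agent.Helper1.D1PA.le_centralizer P hP
  have h1 : Nat.card (Sylow p G) * Nat.card ↥(Subgroup.normalizer ((P : Subgroup G) : Set G)) = n := by
    rw [← hcard]; exact Cfsg.Agent.Helper11.card_sylow_mul_card_normalizer P
  have h2 : fN (P : Subgroup G) * Nat.card ↥(Subgroup.centralizer ((P : Subgroup G) : Set G)) =
      Nat.card ↥(Subgroup.normalizer ((P : Subgroup G) : Set G)) :=
    Cfsg.Agent.Helper11.relIndex_mul_card hCN
  have h3 : p ∣ Nat.card ↥(Subgroup.centralizer ((P : Subgroup G) : Set G)) := by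
    have := Subgroup.card_dvd_of_le hPC
    rwa [hP] at this
  have hidx : (Subgroup.centralizer ((P : Subgroup G) : Set G)).index *
      Nat.card ↥(Subgroup.centralizer ((P : Subgroup G) : Set G)) = n := by
    rw [← hcard]; exact Subgroup.index_mul_card _
  have hXdvd := B.dvd_X
  have hYdvd := B.dvd_Y
  have hbig := B.big
  have hcardX := B.card_X
  have hcardY := B.card_Y
  have hdegX := B.deg_X
  have hdegY := B.deg_Y
  have hrel := B.rel_one
  have hCP : Nat.card ↥(Subgroup.centralizer ((P : Subgroup G) : Set G)) ≠ p →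
      Subgroup.centralizer ((P : Subgroup G) : Set G) ≠ (P : Subgroup G) := by
    intro h heq
    apply h
    rw [heq]
    exact hP
  have hnk := fun χ hχ => Cfsg.Agent.Helper28.S4700KER.exists_not_ker hperf p hO P hP (χ := χ) (hχ := hχ)
  generalize Nat.card (Sylow p G) = d at *
  generalize fN (P : Subgroup G) = f at *
  generalize Nat.card ↥(Subgroup.centralizer ((P : Subgroup G) : Set G)) = c at *
  generalize Nat.card ↥(Subgroup.normalizer ((P : Subgroup G) : Set G)) = nn at *
  generalize (Subgroup.centralizer ((P : Subgroup G) : Set G)).index = ci at *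
  have hp1 : 0 < p - 1 := by have := hp.two_le; omega
  have hfpos : 0 < f := by
    rcases Nat.eq_zero_or_pos f with h | h
    · rw [h, mul_zero] at hcardY; omega
    · exact h
  have hfdvd : f ∣ p - 1 := Dvd.intro_left _ hcardY
  have hnpos : 0 < n := by rw [← hcard]; exact Nat.card_pos
  have hdpos : 0 < d := by
    rcases Nat.eq_zero_or_pos d with h | h
    · rw [h, zero_mul] at h1; omega
    · exact h
  have hcpos : 0 < c := by
    rcases Nat.eq_zero_or_pos c with h | h
    · rw [h, mul_zero] at h2; rw [← h2, mul_zero] at h1; omega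
    · exact h
  have hndf : n = d * f * c := by rw [← h1, ← h2, mul_assoc]
  have hci : ci = d * f := by
    have : ci * c = d * f * c := by rw [hidx, hndf]
    exact Nat.eq_of_mul_eq_mul_right hcpos this
  have hnc : n / (d * f) = c := by
    rw [hndf]; exact Nat.mul_div_cancel_left _ (Nat.mul_pos hdpos hfpos)
  have hdfpos : 0 < d * f := Nat.mul_pos hdpos hfpos
  refine ⟨hfpos.ne', Nat.mod_eq_zero_of_dvd hfdvd, ?_, ?_, ?_⟩
  · obtain ⟨c', rfl⟩ := h3
    have : n / (d * p) = f * c' := by
      rw [hndf]
      have : d * f * (p * c') = d * p * (f * c') := by ring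
      rw [this]
      exact Nat.mul_div_cancel_left _ (Nat.mul_pos hdpos hp.pos)
    rw [this]
    exact Nat.mul_mod_right _ _
  · have := Nat.le_of_dvd hp1 hfdvd
    omega
  · -- the main check
    by_contra hcheck
    rw [Bool.not_eq_false] at hcheck
    unfold checkDF at hcheck
    rw [hnc] at hcheck
    set lo := (if c = p then 2 else p) with hlo
    set L := candList (d * f) lo with hL
    rw [Bool.and_eq_true, List.all_eq_true] at hcheck
    obtain ⟨hA, hB⟩ := hcheck
    -- lower bound for the nontrivial degrees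
    have hlow : ∀ χ : IrrCharacter G, χ ∈ B.X ∨ χ ∈ B.Y → χ ≠ trivIrr G → lo ≤ irrDeg χ := by
      intro χ hχ hne
      by_cases hcp : c = p
      · rw [hlo, if_pos hcp]
        have h1' := Cfsg.Agent.Helper24.SelfCent.irrDeg_ne_one_of_perfect hperf χ hne
        have h2' := irrDeg_pos χ
        omega
      · rw [hlo, if_neg hcp]
        rcases hbig χ hχ with h | h
        · exfalso
          exact hnk χ hne (hCP hcp) h
        · exact h
    -- membership of the degrees in `L`
    have hLX : ∀ χ ∈ B.X, χ ≠ trivIrr G → irrDeg χ ∈ L := by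
      intro χ hχ hne
      apply mem_candList hdfpos
      · rw [← hci]; exact hXdvd χ hχ
      · exact hlow χ (Or.inl hχ) hne
    have hLY : ∀ ψ ∈ B.Y, ψ ≠ trivIrr G → irrDeg ψ ∈ L := by
      intro ψ hψ hne
      exact mem_candList hdfpos (hYdvd ψ hψ) (hlow ψ (Or.inr hψ) hne)
    -- sign conditions
    have hsign : ∀ χ ∈ B.X, (B.δ χ = 1 ∧ irrDeg χ % p = 1 % p) ∨
        (B.δ χ = -1 ∧ (irrDeg χ + 1) % p = 0) := by
      intro χ hχ
      have h := hdegX χ hχ
      rcases B.δ_pm χ hχ with h1 | h1
      · left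
        refine ⟨h1, ?_⟩
        rw [h1] at h
        have : ((irrDeg χ : ℕ) : ℤ) ≡ ((1 : ℕ) : ℤ) [ZMOD (p : ℤ)] := by simpa using h
        exact (Int.natCast_modEq_iff.mp this)
      · right
        refine ⟨h1, ?_⟩
        rw [h1] at h
        have h' := h.add_right 1
        have : ((irrDeg χ + 1 : ℕ) : ℤ) ≡ ((0 : ℕ) : ℤ) [ZMOD (p : ℤ)] := by
          push_cast; simpa using h'
        have := Int.natCast_modEq_iff.mp this
        rw [Nat.ModEq, Nat.zero_mod] at this
        exact this
    have : Fintype (IrrCharacter G) := Fintype.ofFinite _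
    have hsq : ∑ χ ∈ B.X, irrDeg χ ^ 2 + ∑ χ ∈ B.Y, irrDeg χ ^ 2 ≤ n := by
      rw [← Finset.sum_union B.disj, ← hcard]
      exact Cfsg.Agent.Helper15.BrP.sum_irrDeg_sq_le_card _
    rcases B.triv_mem with ⟨htX, htδ⟩ | ⟨hYt, hε⟩
    · -- the trivial character is non-exceptional
      have hYne : B.Y.Nonempty := by
        rw [Finset.nonempty_iff_ne_empty]
        intro h
        rw [h, Finset.card_empty, zero_mul] at hcardY
        omega
      obtain ⟨ψ, hψ⟩ := hYne
      have hψne : ψ ≠ trivIrr G := by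
        intro h
        rw [h] at hψ
        exact (Finset.disjoint_left.mp B.disj htX) hψ
      have hbL : irrDeg ψ ∈ L := hLY ψ hψ hψne
      have hYdeg : ∀ ψ' ∈ B.Y, irrDeg ψ' = irrDeg ψ := by
        intro ψ' hψ'
        have e1 := hrel ψ hψ
        have e2 := hrel ψ' hψ'
        rw [e1] at e2
        rcases B.hε with h | h <;> rw [h] at e2 <;> omega
      have hYsq : ∑ χ ∈ B.Y, irrDeg χ ^ 2 = irrDeg ψ * irrDeg ψ * ((p - 1) / f) := by
        rw [Finset.sum_congr rfl (fun χ hχ => by rw [hYdeg χ hχ]), Finset.sum_const, smul_eq_mul]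
        have : B.Y.card = (p - 1) / f := by rw [← hcardY, Nat.mul_div_cancel _ hfpos]
        rw [this]; ring
      have hXsq : ∑ χ ∈ B.X, irrDeg χ ^ 2 =
          1 + ∑ χ ∈ B.X.erase (trivIrr G), irrDeg χ * irrDeg χ := by
        rw [← Finset.add_sum_erase _ _ htX, irrDeg_trivIrr]
        simp [sq]
      have hXsum : ∑ χ ∈ B.X.erase (trivIrr G), B.δ χ * (irrDeg χ : ℤ) =
          B.ε * (irrDeg ψ : ℤ) - 1 := by
        have := hrel ψ hψ
        rw [← Finset.add_sum_erase _ _ htX, htδ, irrDeg_trivIrr] at this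
        push_cast at this
        linarith
      have hcardX' : (B.X.erase (trivIrr G)).card = f - 1 := by
        rw [Finset.card_erase_of_mem htX, hcardX]
      have hmemX' : ∀ χ ∈ B.X.erase (trivIrr G), irrDeg χ ∈ L ∧
          ((B.δ χ = 1 ∧ irrDeg χ % p = 1 % p) ∨ (B.δ χ = -1 ∧ (irrDeg χ + 1) % p = 0)) := by
        intro χ hχ
        rw [Finset.mem_erase] at hχ
        exact ⟨hLX χ hχ.2 hχ.1, hsign χ hχ.2⟩
      have hAb := hA (irrDeg ψ) hbL
      have hbud : irrDeg ψ * irrDeg ψ * ((p - 1) / f) + 1 ≤ n := by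
        rw [hXsq, hYsq] at hsq; omega
      have hsqX' : ∑ χ ∈ B.X.erase (trivIrr G), irrDeg χ * irrDeg χ ≤
          n - 1 - irrDeg ψ * irrDeg ψ * ((p - 1) / f) := by
        rw [hXsq, hYsq] at hsq; omega
      have hsearch := searchDeg_of_finset p L irrDeg B.δ (B.X.erase (trivIrr G))
        (B.ε * (irrDeg ψ : ℤ) - 1) _ hmemX' hXsum hsqX'
      rw [hcardX'] at hsearch
      rw [Bool.or_eq_true, decide_eq_true_eq, Bool.and_eq_true, Bool.or_eq_true, Bool.or_eq_true,
        decide_eq_true_eq, decide_eq_true_eq] at hAb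
      rcases hAb with h | ⟨h1', h2'⟩
      · omega
      · have hdY := hdegY ψ hψ
        rcases B.hε with he | he
        · rw [he, one_mul] at hsearch hdY
          rcases h1' with h | h
          · exact h (Int.natCast_modEq_iff.mp hdY)
          · rw [hsearch] at h
            exact Bool.false_ne_true h
        · rw [he] at hsearch hdY
          have hs2 : (-1 : ℤ) * (irrDeg ψ : ℤ) - 1 = -(irrDeg ψ : ℤ) - 1 := by ring
          rw [hs2] at hsearch
          rcases h2' with h | h
          · apply h
            have h' := hdY.add_right (f : ℤ)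
            have : ((irrDeg ψ + f : ℕ) : ℤ) ≡ ((0 : ℕ) : ℤ) [ZMOD (p : ℤ)] := by
              push_cast
              have e : (-1 : ℤ) * (f : ℤ) + (f : ℤ) = 0 := by ring
              rw [e] at h'
              exact h'
            have := Int.natCast_modEq_iff.mp this
            rw [Nat.ModEq, Nat.zero_mod] at this
            exact this
          · rw [hsearch] at h
            exact Bool.false_ne_true h
    · -- the trivial character is the exceptional one
      have hf1 : f = p - 1 := by
        rw [hYt, Finset.card_singleton, one_mul] at hcardY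
        exact hcardY
      have htY : trivIrr G ∈ B.Y := by rw [hYt]; exact Finset.mem_singleton_self _
      have hXne : ∀ χ ∈ B.X, χ ≠ trivIrr G := by
        intro χ hχ h
        rw [h] at hχ
        exact (Finset.disjoint_left.mp B.disj hχ) htY
      have hXsum : ∑ χ ∈ B.X, B.δ χ * (irrDeg χ : ℤ) = -1 := by
        have := hrel _ htY
        rw [hε, irrDeg_trivIrr] at this
        rw [this]; norm_num
      have hmemX' : ∀ χ ∈ B.X, irrDeg χ ∈ L ∧
          ((B.δ χ = 1 ∧ irrDeg χ % p = 1 % p) ∨ (B.δ χ = -1 ∧ (irrDeg χ + 1) % p = 0)) :=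
        fun χ hχ => ⟨hLX χ hχ (hXne χ hχ), hsign χ hχ⟩
      have hsqX' : ∑ χ ∈ B.X, irrDeg χ * irrDeg χ ≤ n - 1 := by
        rw [hYt, Finset.sum_singleton, irrDeg_trivIrr] at hsq
        have : ∑ χ ∈ B.X, irrDeg χ ^ 2 = ∑ χ ∈ B.X, irrDeg χ * irrDeg χ :=
          Finset.sum_congr rfl (fun χ _ => sq _)
        omega
      have hsearch := searchDeg_of_finset p L irrDeg B.δ B.X (-1) _ hmemX' hXsum hsqX'
      rw [hcardX] at hsearch
      rw [Bool.or_eq_true, decide_eq_true_eq] at hB
      rcases hB with h | h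
      · exact h hf1
      · rw [hsearch] at h
        exact Bool.false_ne_true h

/-- Brauer-Reynolds (S4700) for a simple group: `(n_p - 1)/p` has the form `F(p,u,h)` -/
theorem notF_false {G : Type u} [Group G] [Finite G] [IsSimpleGroup G]
    (hG : ¬ IsMulCommutative G) {n p m : ℕ} [Fact p.Prime] (hcard : Nat.card G = n)
    (hn : n = m * p) (hm : ¬ p ∣ m) (h1 : 2 * n ≠ p * (p * p - 1))
    (h2 : n ≠ (p - 1) * p * (p - 2)) : notF p (Nat.card (Sylow p G) / p) = false := by
  have hp' : p.Prime := Fact.out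
  have hG' : Nat.card G = m * p ^ 1 := by rw [pow_one, hcard, hn]
  have hpn : p ∣ Nat.card G := by rw [hcard, hn]; exact Dvd.intro_left _ rfl
  by_contra h3
  rw [Bool.not_eq_false] at h3
  have hperf : commutator G = ⊤ := Cfsg.Agent.Helper11.O504.commutator_eq_top hG
  obtain ⟨P⟩ : Nonempty (Sylow p G) := inferInstance
  have hP : Nat.card ↥(P : Subgroup G) = p := by
    have := (Cfsg.Agent.Helper11.sylow_card_of_card_eq_pow m 1 hG' hm P).1
    rwa [pow_one] at this
  have hmem := Cfsg.Agent.Helper11.card_sylow_mem_filter m 1 hG' hm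
  rw [Finset.mem_filter, Nat.mem_divisors] at hmem
  obtain ⟨⟨hdm, hm0⟩, hd1⟩ := hmem
  have hnk : Nat.card (Sylow p G) = 1 + Nat.card (Sylow p G) / p * p := by
    have := Nat.div_add_mod (Nat.card (Sylow p G)) p
    rw [hd1, mul_comm] at this
    omega
  have hq := card_quot_pPrimeCore (G := G) p hp' hpn
  rcases Cfsg.Agent.S4700.result hperf p P hP (Nat.card (Sylow p G) / p) hnk with
    ⟨F, _, _, hF, hp3, ⟨e⟩⟩ | ⟨k, F, _, _, hF, hpm, hp3, ⟨e⟩⟩ | hform
  · have hodd : p % 2 = 1 := by
      rcases hp'.eq_two_or_odd with h | h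
      · omega
      · exact h
    have := card_psl2_odd p hF hp3 hodd
    rw [← Nat.card_congr e.toEquiv, hq, hcard] at this
    exact h1 this
  · have hQ : Fintype.card F = p - 1 := by rw [hF, hpm]; simp
    have := card_sl2 (p - 1) hQ (by omega)
    rw [← Nat.card_congr e.toEquiv, hq, hcard] at this
    apply h2
    rw [this]
    have e1 : p - 1 + 1 = p := by omega
    have e2 : p - 1 - 1 = p - 2 := by omega
    rw [e1, e2]
  · exact notF_sound h3 hform

/-- the degree equation has no solution for `n_p = d` and any admissible `|N : C|` -/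
def checkD (n p d : ℕ) : Bool :=
  (List.range p).all (fun f => decide (f = 0) || decide ((p - 1) % f ≠ 0) ||
    decide ((n / (d * p)) % f ≠ 0) || checkDF n p d f)

/-- Block certificate: `p ∥ n` and every candidate `1 + k p` for the number of Sylow
`p`-subgroups is bad, or has `k` not of the form `F(p,u,h)`, or is `21` for `p = 5`, or the degree
equation of the principal block has no solution. -/
def checkBlk (n p m : ℕ) : Bool :=
  isPrimeB p && decide (n = m * p) && decide (m % p ≠ 0) &&
  (List.range (m / p + 1)).all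
    (fun k => decide (k = 0) || decide (m % (k * p + 1) ≠ 0) || badCand n p 1 (k * p + 1) ||
      (decide (2 * n ≠ p * (p * p - 1)) && decide (n ≠ (p - 1) * p * (p - 2)) && notF p k) ||
      (decide (p = 5) && decide (k = 4)) || checkD n p (k * p + 1))

theorem checkBlk_sound {n p m : ℕ} (h : checkBlk n p m = true) : NoSimple.{u} n := by
  unfold checkBlk at h
  simp only [Bool.and_eq_true, decide_eq_true_eq, List.all_eq_true, List.mem_range,
    Bool.or_eq_true] at h
  obtain ⟨⟨⟨hp, hn⟩, hmp⟩, hall⟩ := h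
  have hp' : p.Prime := isPrimeB_sound hp
  intro G _ _ _ hG hcard
  have : Fact p.Prime := ⟨hp'⟩
  have hn' : n = m * p ^ 1 := by rw [pow_one]; exact hn
  have hG' : Nat.card G = m * p ^ 1 := hcard.trans hn'
  have hm : ¬ p ∣ m := fun hd => hmp (Nat.mod_eq_zero_of_dvd hd)
  have hpn : p ∣ Nat.card G := by
    rw [hG', pow_one]; exact Dvd.intro_left _ rfl
  have hmem := Cfsg.Agent.Helper11.card_sylow_mem_filter m 1 hG' hm
  rw [Finset.mem_filter, Nat.mem_divisors] at hmem
  obtain ⟨⟨hdm, hm0⟩, hd1⟩ := hmem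
  have hne1 := Cfsg.Agent.Helper11.simple_card_sylow_ne_one hG p hpn
  have hbad := badCand_false hG hcard hn' hm le_rfl
  obtain ⟨P⟩ : Nonempty (Sylow p G) := inferInstance
  obtain ⟨hf0, hf1, hf2, hf3, hDF⟩ := checkDF_false hG hcard hn hm P
  have hnotF := fun h1 h2 => notF_false hG hcard hn hm h1 h2
  have h1010 : Nat.card (Sylow p G) = 21 → p ≠ 5 := by
    intro h21 h5
    subst h5
    exact Cfsg.Agent.S1010.result h21
  generalize fN (P : Subgroup G) = f at *
  set d := Nat.card (Sylow p G) with hd
  have hdle : d ≤ m := Nat.le_of_dvd (Nat.pos_of_ne_zero hm0) hdm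
  have hdk : d = d / p * p + 1 := by
    have := Nat.div_add_mod d p
    rw [hd1] at this
    rw [mul_comm]; exact this.symm
  have hk0 : d / p ≠ 0 := by
    intro h0
    rw [h0] at hdk
    omega
  have hklt : d / p < m / p + 1 := by
    have : d / p ≤ m / p := Nat.div_le_div_right hdle
    omega
  rcases hall (d / p) hklt with ((((h3 | h3) | h3) | h3) | h3) | h3
  · exact hk0 h3
  · rw [← hdk] at h3
    exact h3 (Nat.mod_eq_zero_of_dvd hdm)
  · rw [← hdk, hbad] at h3
    exact Bool.false_ne_true h3
  · obtain ⟨⟨h4, h5⟩, h6⟩ := h3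
    rw [hnotF h4 h5] at h6
    exact Bool.false_ne_true h6
  · obtain ⟨h4, h5⟩ := h3
    apply h1010 _ h4
    rw [hdk, h5, h4]
  · rw [← hdk] at h3
    unfold checkD at h3
    rw [List.all_eq_true] at h3
    have := h3 f (List.mem_range.mpr hf3)
    simp only [Bool.or_eq_true, decide_eq_true_eq] at this
    rcases this with ((h4 | h4) | h4) | h4
    · exact hf0 h4
    · exact h4 hf1
    · exact h4 hf2
    · rw [hDF] at h4
      exact Bool.false_ne_true h4

theorem no3780 : NoSimple.{u} 3780 := checkBlk_sound (p := 7) (m := 540) (by decide +kernel)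
theorem no4200 : NoSimple.{u} 4200 := checkBlk_sound (p := 7) (m := 600) (by decide +kernel)
theorem no5600 : NoSimple.{u} 5600 := checkBlk_sound (p := 7) (m := 800) (by decide +kernel)
theorem no5880 : NoSimple.{u} 5880 := checkBlk_sound (p := 5) (m := 1176) (by decide +kernel)

end Cfsg.Agent.Helper18.Census
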