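import Mathlib
import Cfsg.Agent.Helper18.CensusE
import Cfsg.Agent.Helper11.SylowInter2
import Cfsg.Agent.S1010

/-!
# Census engine, part G: Sylow intersections (`n_p ≢ 1 mod p²`) and `n_5 ≠ 21`
-/

set_option autoImplicit false

namespace Cfsg.Agent.Helper18.Census

universe u

/-- `n_p = d` is impossible because `d ≢ 1 mod p²` and the normalizer of a Sylow intersection of
index `p` would have too small an index -/
def interKill (n p m d : ℕ) : Bool :=
  decide (d % (p * p) ≠ 1) &&
  (List.range (m / (p + 1) + 1)).all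
    (fun k => decide (k < 2) || decide (m % k ≠ 0) || !(decide (2 * n ∣ k.factorial)))

theorem interKill_false {G : Type u} [Group G] [Finite G] [IsSimpleGroup G]
    (hG : ¬ IsMulCommutative G) {n p a m : ℕ} [Fact p.Prime] (hcard : Nat.card G = n)
    (hn : n = m * p ^ a) (hm : ¬ p ∣ m) (ha : 2 ≤ a) :
    interKill n p m (Nat.card (Sylow p G)) = false := by
  have hp : p.Prime := Fact.out
  have hG' : Nat.card G = m * p ^ a := hcard.trans hn
  by_contra hb
  rw [Bool.not_eq_false] at hb
  unfold interKill at hb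
  simp only [Bool.and_eq_true, decide_eq_true_eq, List.all_eq_true, List.mem_range,
    Bool.or_eq_true, Bool.not_eq_true', decide_eq_false_iff_not] at hb
  obtain ⟨hmod, hall⟩ := hb
  have hmod' : ¬ Nat.card (Sylow p G) ≡ 1 [MOD p ^ 2] := by
    intro h
    apply hmod
    rw [Nat.ModEq, sq] at h
    rw [h]
    apply Nat.mod_eq_of_lt
    have := hp.two_le
    nlinarith
  obtain ⟨P, R, hPR, hD⟩ := Cfsg.Agent.Helper11.exists_sylow_inter_index_p p hmod'
  obtain ⟨hPM, -, hbig⟩ := Cfsg.Agent.Helper11.normalizer_sylow_inter p P R hPR hD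
  have hPcard : Nat.card ↥(P : Subgroup G) = p ^ a :=
    (Cfsg.Agent.Helper11.sylow_card_of_card_eq_pow m a hG' hm P).1
  set D := (P : Subgroup G) ⊓ (R : Subgroup G) with hDdef
  set M := Subgroup.normalizer (D : Set G) with hM
  -- `M ≠ ⊤`
  have hpa : 0 < p ^ a := pow_pos hp.pos a
  have hDcard : Nat.card ↥D = p ^ (a - 1) := by
    have : Nat.card ↥D * p = p ^ (a - 1) * p := by
      rw [hD, hPcard, ← pow_succ]
      congr 1
      omega
    exact Nat.eq_of_mul_eq_mul_right hp.pos this
  have hMtop : M ≠ ⊤ := by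
    intro htop
    have hnorm : D.Normal := Subgroup.normalizer_eq_top_iff.mp htop
    rcases hnorm.eq_bot_or_eq_top with h | h
    · rw [h, Subgroup.card_bot] at hDcard
      have : 1 < p ^ (a - 1) := Nat.one_lt_pow (by omega) hp.one_lt
      omega
    · rw [h, Subgroup.card_top, hG'] at hDcard
      have h1 : p ^ (a - 1) < p ^ a := Nat.pow_lt_pow_right hp.one_lt (by omega)
      have hm0 : 0 < m := Nat.pos_of_ne_zero (by rintro rfl; exact hm (dvd_zero p))
      have h2 : p ^ a ≤ m * p ^ a := Nat.le_mul_of_pos_left _ hm0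
      omega
  have hfact := Cfsg.Agent.Helper11.simple_two_mul_card_dvd_factorial hG M hMtop
  rw [hcard] at hfact
  -- the index
  have hidx : M.index * Nat.card ↥M = m * p ^ a := by
    rw [← hG']; exact Subgroup.index_mul_card M
  have hPdvd : p ^ a ∣ Nat.card ↥M := by
    rw [← hPcard]; exact Subgroup.card_dvd_of_le hPM
  obtain ⟨c, hc⟩ := hPdvd
  have hkm : M.index * c = m := by
    have : M.index * c * p ^ a = m * p ^ a := by rw [← hidx, hc]; ring
    exact Nat.eq_of_mul_eq_mul_right hpa this
  have hcge : p + 1 ≤ c := by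
    rw [hPcard, hc] at hbig
    have : (p + 1) * p ^ a ≤ c * p ^ a := by rw [mul_comm c]; exact hbig
    exact Nat.le_of_mul_le_mul_right this hpa
  have hkle : M.index ≤ m / (p + 1) := by
    rw [Nat.le_div_iff_mul_le (by omega)]
    calc M.index * (p + 1) ≤ M.index * c := Nat.mul_le_mul_left _ hcge
      _ = m := hkm
  have hk2 : ¬ M.index < 2 := by
    have h0 : M.index ≠ 0 := Subgroup.index_ne_zero_of_finite
    have h1 : M.index ≠ 1 := fun h => hMtop (Subgroup.index_eq_one.mp h)
    omega
  rcases hall M.index (by omega) with (h | h) | h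
  · exact hk2 h
  · exact h (Nat.mod_eq_zero_of_dvd (Dvd.intro _ hkm))
  · exact h hfact

/-- Sylow certificate with intersections: `n = m p^a`, `a ≥ 2`, every candidate for `n_p` is bad,
or is `21` for `p = 5`, or is killed by the intersection argument. -/
def checkInter (n p a m : ℕ) : Bool :=
  isPrimeB p && decide (n = m * p ^ a) && decide (m % p ≠ 0) && decide (2 ≤ a) &&
  (List.range (m / p + 1)).all
    (fun k => decide (k = 0) || decide (m % (k * p + 1) ≠ 0) || badCand n p a (k * p + 1) ||
      (decide (p = 5) && decide (k = 4)) || interKill n p m (k * p + 1))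

theorem checkInter_sound {n p a m : ℕ} (h : checkInter n p a m = true) : NoSimple.{u} n := by
  unfold checkInter at h
  simp only [Bool.and_eq_true, decide_eq_true_eq, List.all_eq_true, List.mem_range,
    Bool.or_eq_true] at h
  obtain ⟨⟨⟨⟨hp, hn⟩, hmp⟩, ha⟩, hall⟩ := h
  have hp' : p.Prime := isPrimeB_sound hp
  intro G _ _ _ hG hcard
  have : Fact p.Prime := ⟨hp'⟩
  have hG' : Nat.card G = m * p ^ a := hcard.trans hn
  have hm : ¬ p ∣ m := fun hd => hmp (Nat.mod_eq_zero_of_dvd hd)
  have hpn : p ∣ Nat.card G := by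
    rw [hG']; exact Dvd.dvd.mul_left (dvd_pow_self p (by omega)) m
  have hmem := Cfsg.Agent.Helper11.card_sylow_mem_filter m a hG' hm
  rw [Finset.mem_filter, Nat.mem_divisors] at hmem
  obtain ⟨⟨hdm, hm0⟩, hd1⟩ := hmem
  have hbad := badCand_false hG hcard hn hm (by omega : 1 ≤ a)
  have hint := interKill_false hG hcard hn hm ha
  have h1010 : Nat.card (Sylow p G) = 21 → p ≠ 5 := by
    intro h21 h5
    subst h5
    exact Cfsg.Agent.S1010.result h21
  set d := Nat.card (Sylow p G) with hd
  have hdle : d ≤ m := Nat.le_of_dvd (Nat.pos_of_ne_zero hm0) hdm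
  have hdk : d = d / p * p + 1 := by
    have := Nat.div_add_mod d p
    rw [hd1] at this
    rw [mul_comm]; exact this.symm
  have hne1 := Cfsg.Agent.Helper11.simple_card_sylow_ne_one hG p hpn
  have hk0 : d / p ≠ 0 := by
    intro h0
    rw [h0] at hdk
    omega
  have hklt : d / p < m / p + 1 := by
    have : d / p ≤ m / p := Nat.div_le_div_right hdle
    omega
  rcases hall (d / p) hklt with (((h3 | h3) | h3) | h3) | h3
  · exact hk0 h3
  · rw [← hdk] at h3
    exact h3 (Nat.mod_eq_zero_of_dvd hdm)
  · rw [← hdk, hbad] at h3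
    exact Bool.false_ne_true h3
  · obtain ⟨h4, h5⟩ := h3
    apply h1010 _ h4
    rw [hdk, h5, h4]
  · rw [← hdk, hint] at h3
    exact Bool.false_ne_true h3

theorem no4725 : NoSimple.{u} 4725 := checkInter_sound (p := 5) (a := 2) (m := 189) (by decide +kernel)
theorem no6000 : NoSimple.{u} 6000 := checkInter_sound (p := 5) (a := 3) (m := 48) (by decide +kernel)

end Cfsg.Agent.Helper18.Census
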