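import Mathlib

set_option autoImplicit false

namespace Cfsg.Agent.Helper18

open MulAction

/-- Burnside's lemma with `Nat.card`. -/
theorem sum_card_fixedBy (G Ω : Type*) [Group G] [Fintype G] [MulAction G Ω] [Finite Ω] :
    ∑ g : G, Nat.card (fixedBy Ω g) = Nat.card (orbitRel.Quotient G Ω) * Nat.card G := by
  classical
  have := Fintype.ofFinite Ω
  have : Fintype (orbitRel.Quotient G Ω) := Fintype.ofFinite _
  have := MulAction.sum_card_fixedBy_eq_card_orbits_mul_card_group G Ω
  simp only [Nat.card_eq_fintype_card]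
  convert this

/-- Burnside's lemma for a subgroup, summing over the subgroup as a subtype. -/
theorem sum_card_fixedBy_subgroup {G Ω : Type*} [Group G] [Fintype G] [MulAction G Ω] [Finite Ω]
    (H : Subgroup G) [Fintype H] :
    ∑ h : H, Nat.card (fixedBy Ω (h : G)) = Nat.card (orbitRel.Quotient H Ω) * Nat.card H := by
  have := sum_card_fixedBy H Ω
  exact this

/-- The set of derangements. -/
def derangements (G Ω : Type*) [Group G] [MulAction G Ω] : Set G := {g : G | ∀ ω : Ω, g • ω ≠ ω}

theorem not_mem_closure_fix_pos {G Ω : Type*} [Group G] [MulAction G Ω] [Finite Ω]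
    {g : G} (hg : g ∉ Subgroup.closure (derangements G Ω)) : 1 ≤ Nat.card (fixedBy Ω g) := by
  by_contra h
  apply hg
  apply Subgroup.subset_closure
  intro ω hω
  apply h
  rw [Nat.one_le_iff_ne_zero, Nat.card_ne_zero]
  exact ⟨⟨⟨ω, hω⟩⟩, inferInstance⟩

theorem card_orbitRel_quotient_eq_one {G Ω : Type*} [Group G] [MulAction G Ω] [Nonempty Ω]
    [IsPretransitive G Ω] : Nat.card (orbitRel.Quotient G Ω) = 1 := by
  have h1 : Subsingleton (orbitRel.Quotient G Ω) :=
    (MulAction.pretransitive_iff_subsingleton_quotient G Ω).mp inferInstance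
  have h2 : Nonempty (orbitRel.Quotient G Ω) := by
    obtain ⟨ω⟩ := (inferInstance : Nonempty Ω)
    exact ⟨Quotient.mk'' ω⟩
  exact Nat.card_eq_one_iff_unique.mpr ⟨h1, h2⟩

/-- Main lemma on the subgroup generated by derangements. -/
theorem derangement_main {G Ω : Type*} [Group G] [Finite G] [MulAction G Ω] [Finite Ω] [Nonempty Ω]
    (htrans : IsPretransitive G Ω) :
    Nat.card (orbitRel.Quotient (Subgroup.closure (derangements G Ω)) Ω) = 1 ∧
      ∀ g : G, g ∉ Subgroup.closure (derangements G Ω) → Nat.card (fixedBy Ω g) = 1 := by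
  classical
  have := Fintype.ofFinite G
  set D := Subgroup.closure (derangements G Ω) with hD
  have hG : ∑ g : G, Nat.card (fixedBy Ω g) = Nat.card G := by
    rw [sum_card_fixedBy, card_orbitRel_quotient_eq_one, one_mul]
  have hDsum := sum_card_fixedBy_subgroup (Ω := Ω) D
  set k := Nat.card (orbitRel.Quotient D Ω) with hk
  have hkpos : 1 ≤ k := by
    rw [Nat.one_le_iff_ne_zero, hk, Nat.card_ne_zero]
    obtain ⟨ω⟩ := (inferInstance : Nonempty Ω)
    exact ⟨⟨Quotient.mk'' ω⟩, inferInstance⟩
  have hsplit : ∑ g : G, Nat.card (fixedBy Ω g) =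
      ∑ g ∈ Finset.univ.filter (fun g : G => g ∈ D), Nat.card (fixedBy Ω g) +
      ∑ g ∈ Finset.univ.filter (fun g : G => ¬ g ∈ D), Nat.card (fixedBy Ω g) :=
    (Finset.sum_filter_add_sum_filter_not _ _ _).symm
  have hsub : ∑ g ∈ Finset.univ.filter (fun g : G => g ∈ D), Nat.card (fixedBy Ω g) =
      ∑ h : D, Nat.card (fixedBy Ω (h : G)) :=
    Finset.sum_subtype _ (by simp) _
  have hle : ∑ g ∈ Finset.univ.filter (fun g : G => ¬ g ∈ D), 1 ≤
      ∑ g ∈ Finset.univ.filter (fun g : G => ¬ g ∈ D), Nat.card (fixedBy Ω g) := by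
    apply Finset.sum_le_sum
    intro g hg
    rw [Finset.mem_filter] at hg
    exact not_mem_closure_fix_pos hg.2
  have hcardnot : ∑ g ∈ Finset.univ.filter (fun g : G => ¬ g ∈ D), 1 = Nat.card G - Nat.card D := by
    rw [Finset.sum_const, smul_eq_mul, mul_one]
    have h1 : (Finset.univ.filter (fun g : G => g ∈ D)).card = Nat.card D := by
      rw [Nat.card_eq_fintype_card, Fintype.card_subtype]
    have h2 := Finset.card_filter_add_card_filter_not (s := (Finset.univ : Finset G)) (fun g : G => g ∈ D)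
    rw [h1, Finset.card_univ, ← Nat.card_eq_fintype_card] at h2
    omega
  have hDle : Nat.card D ≤ Nat.card G := Subgroup.card_le_card_group D
  have hDpos : 0 < Nat.card D := Nat.card_pos
  rw [hsplit, hsub, hDsum] at hG
  have hk1 : k = 1 := by
    have h3 : k * Nat.card D + (Nat.card G - Nat.card D) ≤ Nat.card G := by
      calc k * Nat.card D + (Nat.card G - Nat.card D)
          ≤ k * Nat.card D + ∑ g ∈ Finset.univ.filter (fun g : G => ¬ g ∈ D), Nat.card (fixedBy Ω g) := by
            rw [← hcardnot]; exact Nat.add_le_add_left hle _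
        _ = Nat.card G := hG
    have h4 : k * Nat.card D ≤ Nat.card D := by omega
    have h5 : k ≤ 1 := by
      by_contra hcon
      have : 2 * Nat.card D ≤ k * Nat.card D := Nat.mul_le_mul_right _ (by omega)
      omega
    omega
  refine ⟨hk1, ?_⟩
  intro g hg
  rw [hk1, one_mul] at hG
  have heq : ∑ g ∈ Finset.univ.filter (fun g : G => ¬ g ∈ D), 1 =
      ∑ g ∈ Finset.univ.filter (fun g : G => ¬ g ∈ D), Nat.card (fixedBy Ω g) := by
    rw [hcardnot]; omega
  have := (Finset.sum_eq_sum_iff_of_le (fun g hg => by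
    rw [Finset.mem_filter] at hg
    exact not_mem_closure_fix_pos hg.2)).mp heq g (by simp [hg])
  exact this.symm

end Cfsg.Agent.Helper18
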