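import Mathlib
import Cfsg.Agent.Helper18.Derangement
import Cfsg.Prelude.Def_Solvable

set_option autoImplicit false

namespace Cfsg.Agent.Helper18

open MulAction

section
variable {G Ω : Type*} [Group G] [Fintype G] [MulAction G Ω] [Fintype Ω] [DecidableEq Ω]

/-- number of fixed points -/
def fx (g : G) : ℕ := (Finset.univ.filter (fun ω : Ω => g • ω = ω)).card

omit [Fintype G] in
theorem fx_eq_card_fixedBy (g : G) : fx (Ω := Ω) g = Nat.card (fixedBy Ω g) := by
  unfold fx
  rw [Nat.card_eq_fintype_card, Fintype.card_subtype]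
  rfl

theorem sum_fx [Nonempty Ω] (htrans : IsPretransitive G Ω) :
    ∑ g : G, fx (Ω := Ω) g = Fintype.card G := by
  have := sum_card_fixedBy G Ω
  rw [card_orbitRel_quotient_eq_one, one_mul, Nat.card_eq_fintype_card] at this
  rw [← this]
  exact Finset.sum_congr rfl (fun g _ => fx_eq_card_fixedBy g)

/-- Key inequality: if all derangements square to one, then `n * #D ≤ ∑ (fx² - fx)`. -/
theorem card_mul_derangements_le [DecidableEq G]
    (hinv : ∀ g : G, (∀ ω : Ω, g • ω ≠ ω) → g * g = 1) :
    Fintype.card Ω * (Finset.univ.filter (fun g : G => ∀ ω : Ω, g • ω ≠ ω)).card ≤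
      ∑ g : G, (fx (Ω := Ω) g * fx (Ω := Ω) g - fx (Ω := Ω) g) := by
  classical
  set D := Finset.univ.filter (fun g : G => ∀ ω : Ω, g • ω ≠ ω) with hD
  set P := (Finset.univ : Finset Ω).offDiag with hP
  have h1 : ∑ g : G, (fx (Ω := Ω) g * fx (Ω := Ω) g - fx (Ω := Ω) g) =
      ∑ p ∈ P, ((Finset.univ : Finset G).bipartiteBelow
        (fun g p => g • p.1 = p.1 ∧ g • p.2 = p.2) p).card := by
    rw [← Finset.sum_card_bipartiteAbove_eq_sum_card_bipartiteBelow]
    refine Finset.sum_congr rfl (fun g _ => ?_)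
    unfold fx
    rw [← Finset.offDiag_card]
    congr 1
    ext p
    simp only [Finset.bipartiteAbove, Finset.mem_filter, Finset.mem_offDiag, Finset.mem_univ,
      true_and, hP]
    tauto
  have h2 : Fintype.card Ω * D.card =
      ∑ p ∈ P, (D.bipartiteBelow (fun d p => d • p.1 = p.2) p).card := by
    rw [← Finset.sum_card_bipartiteAbove_eq_sum_card_bipartiteBelow, mul_comm,
      ← smul_eq_mul, ← Finset.sum_const]
    refine Finset.sum_congr rfl (fun d hd => ?_)
    have hd' : ∀ ω : Ω, d • ω ≠ ω := (Finset.mem_filter.mp hd).2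
    have : P.bipartiteAbove (fun d p => d • p.1 = p.2) d =
        Finset.univ.image (fun ω : Ω => (ω, d • ω)) := by
      ext p
      simp only [Finset.bipartiteAbove, Finset.mem_filter, Finset.mem_offDiag, Finset.mem_univ,
        true_and, hP, Finset.mem_image]
      constructor
      · rintro ⟨_, h⟩
        exact ⟨p.1, by rw [h]⟩
      · rintro ⟨ω, rfl⟩
        exact ⟨fun e => hd' ω e.symm, rfl⟩
    rw [this, Finset.card_image_of_injective, Finset.card_univ]
    intro a b hab
    exact (Prod.ext_iff.mp hab).1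
  rw [h1, h2]
  apply Finset.sum_le_sum
  intro p hp
  by_cases hne : (D.bipartiteBelow (fun d p => d • p.1 = p.2) p).Nonempty
  · obtain ⟨d₀, hd₀⟩ := hne
    simp only [Finset.bipartiteBelow, Finset.mem_filter] at hd₀
    have hd₀D : ∀ ω : Ω, d₀ • ω ≠ ω := (Finset.mem_filter.mp hd₀.1).2
    have hd₀2 : d₀ * d₀ = 1 := hinv d₀ hd₀D
    have hd₀p : d₀ • p.2 = p.1 := by
      rw [← hd₀.2, smul_smul, hd₀2, one_smul]
    apply Finset.card_le_card_of_injOn (fun d => d₀ * d)
    · intro d hd
      simp only [Finset.coe_filter, Finset.bipartiteBelow, Set.mem_ofPred_eq, Finset.mem_univ,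
        true_and] at hd ⊢
      have hdD : ∀ ω : Ω, d • ω ≠ ω := (Finset.mem_filter.mp hd.1).2
      have hd2 : d * d = 1 := hinv d hdD
      have hdp : d • p.2 = p.1 := by
        rw [← hd.2, smul_smul, hd2, one_smul]
      constructor
      · rw [mul_smul, hd.2, hd₀p]
      · rw [mul_smul, hdp, hd₀.2]
    · intro a _ b _ hab
      exact mul_left_cancel hab
  · rw [Finset.not_nonempty_iff_eq_empty] at hne
    rw [hne, Finset.card_empty]
    exact Nat.zero_le _

/-- If all derangements are involutions (transitive action), every non-derangement fixes exactly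
one point or all points. -/
theorem fx_eq_one_or_card [Nonempty Ω] (htrans : IsPretransitive G Ω)
    (hinv : ∀ g : G, (∀ ω : Ω, g • ω ≠ ω) → g * g = 1) (g : G) (hg : ∃ ω : Ω, g • ω = ω) :
    fx (Ω := Ω) g = 1 ∨ fx (Ω := Ω) g = Fintype.card Ω := by
  classical
  set D := Finset.univ.filter (fun g : G => ∀ ω : Ω, g • ω ≠ ω) with hD
  set n : ℤ := (Fintype.card Ω : ℤ) with hn
  let a : G → ℤ := fun g => (fx (Ω := Ω) g : ℤ)
  have ha1 : ∑ g : G, a g = (Fintype.card G : ℤ) := by
    have := sum_fx (Ω := Ω) htrans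
    simp only [a]
    rw [← this]; push_cast; rfl
  have ha2 : n * (D.card : ℤ) ≤ ∑ g : G, (a g * a g - a g) := by
    have := card_mul_derangements_le (Ω := Ω) hinv
    have h' : ((Fintype.card Ω * D.card : ℕ) : ℤ) ≤
        ((∑ g : G, (fx (Ω := Ω) g * fx (Ω := Ω) g - fx (Ω := Ω) g) : ℕ) : ℤ) := by
      exact_mod_cast this
    rw [Nat.cast_mul, Nat.cast_sum] at h'
    refine h'.trans (le_of_eq ?_)
    refine Finset.sum_congr rfl (fun g _ => ?_)
    rw [Nat.cast_sub (Nat.le_mul_self _), Nat.cast_mul]
  have ha3 : ∀ g ∈ D, a g = 0 := by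
    intro g hg
    have hg' : ∀ ω : Ω, g • ω ≠ ω := (Finset.mem_filter.mp hg).2
    simp only [a, fx]
    rw [Nat.cast_eq_zero, Finset.card_eq_zero, Finset.filter_eq_empty_iff]
    intro ω _; exact hg' ω
  have ha4 : ∀ g, g ∉ D → 1 ≤ a g ∧ a g ≤ n := by
    intro g hg
    have : ∃ ω : Ω, g • ω = ω := by
      by_contra hcon
      push Not at hcon
      exact hg (Finset.mem_filter.mpr ⟨Finset.mem_univ _, hcon⟩)
    obtain ⟨ω, hω⟩ := this
    constructor
    · simp only [a, fx]
      have : 0 < (Finset.univ.filter (fun ω : Ω => g • ω = ω)).card :=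
        Finset.card_pos.mpr ⟨ω, Finset.mem_filter.mpr ⟨Finset.mem_univ _, hω⟩⟩
      exact_mod_cast this
    · simp only [a, fx, hn]
      have : (Finset.univ.filter (fun ω : Ω => g • ω = ω)).card ≤ Fintype.card Ω :=
        Finset.card_le_univ _
      exact_mod_cast this
  -- the sum identity
  have hsum : ∑ g : G, (a g - 1) * (n - a g) = - ∑ g : G, (a g * a g - a g) := by
    have : ∀ g : G, (a g - 1) * (n - a g) = -(a g * a g - a g) + n * a g - n := by
      intro g; ring
    simp only [this, Finset.sum_sub_distrib, Finset.sum_add_distrib, Finset.sum_neg_distrib,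
      ← Finset.mul_sum, ha1, Finset.sum_const, Finset.card_univ, nsmul_eq_mul]
    ring
  have hsplit : ∑ g : G, (a g - 1) * (n - a g) =
      ∑ g ∈ D, (a g - 1) * (n - a g) +
        ∑ g ∈ Finset.univ.filter (fun g : G => g ∉ D), (a g - 1) * (n - a g) := by
    have := Finset.sum_filter_add_sum_filter_not (Finset.univ : Finset G) (fun g => g ∈ D)
      (fun g => (a g - 1) * (n - a g))
    rw [← this]
    congr 1
    apply Finset.sum_congr _ (fun _ _ => rfl)
    ext g; simp
  have hD1 : ∑ g ∈ D, (a g - 1) * (n - a g) = - (n * (D.card : ℤ)) := by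
    rw [Finset.sum_congr rfl (fun g hg => by rw [ha3 g hg])]
    rw [Finset.sum_const, nsmul_eq_mul]; ring
  have hrest : ∑ g ∈ Finset.univ.filter (fun g : G => g ∉ D), (a g - 1) * (n - a g) ≤ 0 := by
    have := hsum
    rw [hsplit, hD1] at this
    linarith
  have hnonneg : ∀ g ∈ Finset.univ.filter (fun g : G => g ∉ D), 0 ≤ (a g - 1) * (n - a g) := by
    intro g hg
    have := ha4 g (Finset.mem_filter.mp hg).2
    exact mul_nonneg (by linarith) (by linarith)
  have hzero := (Finset.sum_eq_zero_iff_of_nonneg hnonneg).mp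
    (le_antisymm hrest (Finset.sum_nonneg hnonneg))
  have hgD : g ∉ D := by
    intro h
    obtain ⟨ω, hω⟩ := hg
    exact (Finset.mem_filter.mp h).2 ω hω
  have := hzero g (Finset.mem_filter.mpr ⟨Finset.mem_univ _, hgD⟩)
  rcases mul_eq_zero.mp this with h | h
  · left
    have : a g = 1 := by linarith
    simp only [a] at this
    exact_mod_cast this
  · right
    have : a g = n := by linarith
    simp only [a, hn] at this
    exact_mod_cast this

end

theorem derangements_invol_main {G Ω : Type*} [Group G] [Finite G] [MulAction G Ω]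
    [FaithfulSMul G Ω] [Finite Ω]
    (htrans : MulAction.IsPretransitive G Ω)
    (hinv : ∀ g : G, (∀ ω : Ω, g • ω ≠ ω) → orderOf g = 2) :
    (IsMulCommutative G ∧ ∀ g : G, g ^ 2 = 1) ∨
    (∃ H : Subgroup G, Cfsg.IsFrobeniusComplement H ∧
      (∀ x ∈ Cfsg.frobeniusKernel H, x ^ 2 = 1) ∧
      ∀ x ∈ Cfsg.frobeniusKernel H, ∀ y ∈ Cfsg.frobeniusKernel H, x * y = y * x) := by
  classical
  have := Fintype.ofFinite G
  have := Fintype.ofFinite Ω
  have hcomm_of_sq : (∀ g : G, g ^ 2 = 1) → IsMulCommutative G := by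
    intro h
    refine ⟨⟨fun a b => ?_⟩⟩
    have h1 := h (a * b)
    have ha := h a
    have hb := h b
    rw [pow_two] at h1 ha hb
    have ha' : a⁻¹ = a := inv_eq_of_mul_eq_one_right ha
    have hb' : b⁻¹ = b := inv_eq_of_mul_eq_one_right hb
    have : a * b = (a * b)⁻¹ := (inv_eq_of_mul_eq_one_right h1).symm
    rw [this, mul_inv_rev, ha', hb']
  have hinv' : ∀ g : G, (∀ ω : Ω, g • ω ≠ ω) → g * g = 1 := by
    intro g hg
    rw [← pow_two, ← hinv g hg]; exact pow_orderOf_eq_one g
  rcases isEmpty_or_nonempty Ω with hΩ | hΩ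
  · left
    have h1 : ∀ g : G, g = 1 := by
      intro g
      apply FaithfulSMul.eq_of_smul_eq_smul (α := Ω)
      intro ω; exact isEmptyElim ω
    have h2 : ∀ g : G, g ^ 2 = 1 := fun g => by rw [h1 g, one_pow]
    exact ⟨hcomm_of_sq h2, h2⟩
  obtain ⟨α⟩ := hΩ
  have hΩ : Nonempty Ω := ⟨α⟩
  -- two fixed points => identity
  have htwo : ∀ g : G, ∀ ω ω' : Ω, ω ≠ ω' → g • ω = ω → g • ω' = ω' → g = 1 := by
    intro g ω ω' hne h1 h2
    have hcases := fx_eq_one_or_card htrans hinv' g ⟨ω, h1⟩
    have hge : 2 ≤ fx (Ω := Ω) g := by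
      unfold fx
      have : ({ω, ω'} : Finset Ω) ⊆ Finset.univ.filter (fun ω : Ω => g • ω = ω) := by
        intro x hx
        rw [Finset.mem_insert, Finset.mem_singleton] at hx
        rcases hx with rfl | rfl
        · exact Finset.mem_filter.mpr ⟨Finset.mem_univ _, h1⟩
        · exact Finset.mem_filter.mpr ⟨Finset.mem_univ _, h2⟩
      have h3 := Finset.card_le_card this
      rwa [Finset.card_pair hne] at h3
    have hall : fx (Ω := Ω) g = Fintype.card Ω := by
      rcases hcases with h | h
      · omega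
      · exact h
    apply FaithfulSMul.eq_of_smul_eq_smul (α := Ω)
    intro x
    rw [one_smul]
    unfold fx at hall
    have := (Finset.card_eq_iff_eq_univ _).mp hall
    have hx : x ∈ Finset.univ.filter (fun ω : Ω => g • ω = ω) := by rw [this]; exact Finset.mem_univ _
    exact (Finset.mem_filter.mp hx).2
  set H := MulAction.stabilizer G α with hH
  by_cases hHbot : H = ⊥
  · left
    have h2 : ∀ g : G, g ^ 2 = 1 := by
      intro g
      by_cases hg : ∀ ω : Ω, g • ω ≠ ω
      · rw [pow_two]; exact hinv' g hg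
      · push Not at hg
        obtain ⟨ω, hω⟩ := hg
        obtain ⟨k, rfl⟩ := MulAction.exists_smul_eq G α ω
        have : k⁻¹ * g * k ∈ H := by
          rw [hH, MulAction.mem_stabilizer_iff, mul_smul, mul_smul, hω, inv_smul_smul]
        rw [hHbot, Subgroup.mem_bot] at this
        have hg1 : g = 1 := by
          have h3 : g = k * (k⁻¹ * g * k) * k⁻¹ := by group
          rw [h3, this]; group
        rw [hg1, one_pow]
    exact ⟨hcomm_of_sq h2, h2⟩
  · right
    have hker : ∀ x : G, x ∈ Cfsg.frobeniusKernel H ↔ x = 1 ∨ ∀ ω : Ω, x • ω ≠ ω := by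
      intro x
      unfold Cfsg.frobeniusKernel
      rw [Set.mem_ofPred_eq]
      apply or_congr_right
      constructor
      · intro h ω hω
        obtain ⟨k, rfl⟩ := MulAction.exists_smul_eq G α ω
        apply h k
        rw [Subgroup.mem_smul_pointwise_iff_exists]
        refine ⟨k⁻¹ * x * k, ?_, ?_⟩
        · rw [hH, MulAction.mem_stabilizer_iff, mul_smul, mul_smul, hω, inv_smul_smul]
        · rw [MulAut.smul_def, MulAut.conj_apply]; group
      · intro h k hk
        rw [Subgroup.mem_smul_pointwise_iff_exists] at hk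
        obtain ⟨y, hy, rfl⟩ := hk
        apply h (k • α)
        rw [MulAut.smul_def, MulAut.conj_apply, mul_smul, mul_smul, inv_smul_smul]
        rw [hH, MulAction.mem_stabilizer_iff] at hy
        rw [hy]
    refine ⟨H, ⟨hHbot, ?_, ?_⟩, ?_, ?_⟩
    · intro htop
      apply hHbot
      rw [eq_bot_iff]
      intro g _
      rw [Subgroup.mem_bot]
      apply FaithfulSMul.eq_of_smul_eq_smul (α := Ω)
      intro ω
      rw [one_smul]
      obtain ⟨k, rfl⟩ := MulAction.exists_smul_eq G α ω
      have h1 : g * k ∈ H := by rw [htop]; exact Subgroup.mem_top _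
      have h2 : k ∈ H := by rw [htop]; exact Subgroup.mem_top _
      rw [hH, MulAction.mem_stabilizer_iff] at h1 h2
      rw [← mul_smul, h1, h2]
    · intro g hg
      rw [eq_bot_iff]
      intro x hx
      rw [Subgroup.mem_bot]
      obtain ⟨hx1, hx2⟩ := Subgroup.mem_inf.mp hx
      rw [Subgroup.mem_smul_pointwise_iff_exists] at hx2
      obtain ⟨y, hy, rfl⟩ := hx2
      rw [hH, MulAction.mem_stabilizer_iff] at hx1 hy
      have hgα : g • α ≠ α := fun e => hg (by rw [hH, MulAction.mem_stabilizer_iff]; exact e)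
      apply htwo _ α (g • α) (Ne.symm hgα) hx1
      rw [MulAut.smul_def, MulAut.conj_apply, mul_smul, mul_smul, inv_smul_smul, hy]
    · intro x hx
      rcases (hker x).mp hx with rfl | h
      · exact one_pow 2
      · rw [pow_two]; exact hinv' x h
    · intro x hx y hy
      rcases (hker x).mp hx with rfl | hxD
      · rw [one_mul, mul_one]
      rcases (hker y).mp hy with rfl | hyD
      · rw [one_mul, mul_one]
      by_cases hxy : x = y
      · rw [hxy]
      have hx2 := hinv' x hxD
      have hy2 := hinv' y hyD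
      have hxinv : x⁻¹ = x := inv_eq_of_mul_eq_one_right hx2
      have hyinv : y⁻¹ = y := inv_eq_of_mul_eq_one_right hy2
      have hD : ∀ ω : Ω, (x * y) • ω ≠ ω := by
        intro ω hω
        have h1 : (x * y) • (y • ω) = y • ω := by
          rw [mul_smul, smul_smul y y, hy2, one_smul]
          have : x • (x * y) • ω = x • ω := by rw [hω]
          rw [smul_smul, ← mul_assoc, hx2, one_mul] at this
          exact this.symm
        have h2 := htwo (x * y) ω (y • ω) (fun e => hyD ω e.symm) hω h1
        apply hxy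
        have : x = y⁻¹ := eq_inv_of_mul_eq_one_left h2
        rw [this, hyinv]
      have h3 := hinv' (x * y) hD
      have : x * y = (x * y)⁻¹ := (inv_eq_of_mul_eq_one_right h3).symm
      rw [this, mul_inv_rev, hxinv, hyinv]

end Cfsg.Agent.Helper18
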