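import Mathlib
import Cfsg.Agent.Helper18.Derangement

set_option autoImplicit false

namespace Cfsg.Agent.Helper18

open MulAction

theorem closure_derangements_normal (G Ω : Type*) [Group G] [MulAction G Ω] :
    (Subgroup.closure (derangements G Ω)).Normal := by
  suffices h : derangements G Ω = Group.conjugatesOfSet (derangements G Ω) by
    rw [h]; exact Subgroup.normalClosure_normal
  refine Set.Subset.antisymm Group.subset_conjugatesOfSet fun a h => ?_
  simp_rw [Group.mem_conjugatesOfSet_iff, isConj_iff] at h
  obtain ⟨b, hb, c, rfl⟩ := h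
  intro ω hω
  apply hb (c⁻¹ • ω)
  have := congrArg (fun t => c⁻¹ • t) hω
  simpa [mul_smul] using this

/-- If a finite set has orbits all of size divisible by `i`, its size is divisible by `i`. -/
theorem dvd_ncard_of_dvd_orbits {H Ω : Type*} [Group H] [MulAction H Ω] [Finite Ω] (i : ℕ)
    (S : Set Ω) (hS : ∀ h : H, ∀ s ∈ S, h • s ∈ S) (hi : ∀ s ∈ S, i ∣ (orbit H s).ncard) :
    i ∣ S.ncard := by
  induction hn : S.ncard using Nat.strong_induction_on generalizing S with
  | _ n ih =>
    rcases S.eq_empty_or_nonempty with rfl | ⟨s, hs⟩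
    · simp at hn; subst hn; simp
    · have hO : orbit H s ⊆ S := by rintro _ ⟨h, rfl⟩; exact hS h s hs
      have hS' : ∀ h : H, ∀ t ∈ S \ orbit H s, h • t ∈ S \ orbit H s := by
        intro h t ht
        refine ⟨hS h t ht.1, fun hcon => ht.2 ?_⟩
        obtain ⟨k, hk⟩ := hcon
        refine ⟨h⁻¹ * k, ?_⟩
        change (h⁻¹ * k) • s = t
        rw [mul_smul]
        have hk' : k • s = h • t := hk
        rw [hk', inv_smul_smul]
      have hcard : (S \ orbit H s).ncard + (orbit H s).ncard = S.ncard :=
        Set.ncard_sdiff_add_ncard_of_subset hO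
      have hpos : 0 < (orbit H s).ncard := by
        rw [Set.ncard_pos]; exact ⟨s, MulAction.mem_orbit_self s⟩
      have hlt : (S \ orbit H s).ncard < n := by omega
      have := ih _ hlt (S \ orbit H s) hS' (fun t ht => hi t ht.1) rfl
      rw [← hn, ← hcard]; exact dvd_add this (hi s hs)

section

variable {G Ω : Type*} [Group G] [Finite G] [MulAction G Ω] [Finite Ω]

theorem closure_derangements_sup_stabilizer (htrans : IsPretransitive G Ω) (α : Ω) :
    Subgroup.closure (derangements G Ω) ⊔ stabilizer G α = ⊤ := by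
  have : Nonempty Ω := ⟨α⟩
  obtain ⟨hk1, -⟩ := derangement_main htrans
  have hDt : IsPretransitive (Subgroup.closure (derangements G Ω)) Ω := by
    rw [MulAction.pretransitive_iff_subsingleton_quotient]
    exact (Nat.card_eq_one_iff_unique.mp hk1).1
  rw [eq_top_iff]
  intro g _
  obtain ⟨d, hd⟩ := hDt.exists_smul_eq α (g • α)
  have h1 : (d : G)⁻¹ * g ∈ stabilizer G α := by
    rw [mem_stabilizer_iff, mul_smul, ← hd]
    exact inv_smul_smul _ _
  have : g = (d : G) * ((d : G)⁻¹ * g) := by group
  rw [this]
  exact Subgroup.mul_mem _ (Subgroup.mem_sup_left d.2) (Subgroup.mem_sup_right h1)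

theorem relIndex_closure_derangements_stabilizer (htrans : IsPretransitive G Ω) (α : Ω) :
    (Subgroup.closure (derangements G Ω)).relIndex (stabilizer G α) =
      (Subgroup.closure (derangements G Ω)).index := by
  have := closure_derangements_normal G Ω
  rw [← Subgroup.relIndex_sup_left, closure_derangements_sup_stabilizer htrans α,
    Subgroup.relIndex_top_right]

theorem two_point_stabilizer_le (htrans : IsPretransitive G Ω) {α β : Ω} (hne : α ≠ β) :
    stabilizer G α ⊓ stabilizer G β ≤ Subgroup.closure (derangements G Ω) := by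
  have : Nonempty Ω := ⟨α⟩
  obtain ⟨-, hfix⟩ := derangement_main htrans
  intro g hg
  by_contra hcon
  have h1 := hfix g hcon
  rw [Nat.card_coe_set_eq] at h1
  have h2 : 1 < (fixedBy Ω g).ncard := by
    rw [Set.one_lt_ncard_iff]
    exact ⟨α, β, hg.1, hg.2, hne⟩
  omega

theorem index_dvd_orbit (htrans : IsPretransitive G Ω) {α β : Ω} (hne : α ≠ β) :
    (Subgroup.closure (derangements G Ω)).index ∣ (orbit (stabilizer G α) β).ncard := by
  set D := Subgroup.closure (derangements G Ω) with hD
  set H := stabilizer G α with hH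
  have h1 : (stabilizer H β).index = (orbit H β).ncard := MulAction.index_stabilizer H β
  have h2 : stabilizer H β = (stabilizer G β).subgroupOf H := by
    ext x
    simp [Subgroup.mem_subgroupOf, mem_stabilizer_iff, Subgroup.smul_def]
  rw [← h1, h2]
  change D.index ∣ (stabilizer G β).relIndex H
  rw [← Subgroup.inf_relIndex_right (stabilizer G β) H]
  have hK : stabilizer G β ⊓ H ≤ D ⊓ H := by
    refine le_inf ?_ inf_le_right
    rw [inf_comm]
    exact two_point_stabilizer_le htrans hne
  rw [← Subgroup.relIndex_mul_relIndex _ _ _ hK inf_le_right, Subgroup.inf_relIndex_right,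
    relIndex_closure_derangements_stabilizer htrans α]
  exact dvd_mul_left _ _

theorem index_dvd_ncard (htrans : IsPretransitive G Ω) (α : Ω) (S : Set Ω)
    (hS : ∀ h : stabilizer G α, ∀ s ∈ S, h • s ∈ S) (hα : α ∉ S) :
    (Subgroup.closure (derangements G Ω)).index ∣ S.ncard := by
  apply dvd_ncard_of_dvd_orbits (H := stabilizer G α) _ S hS
  intro s hs
  apply index_dvd_orbit htrans
  rintro rfl; exact hα hs

theorem index_dvd_card_sub_one (htrans : IsPretransitive G Ω) [Nonempty Ω] :
    (Subgroup.closure (derangements G Ω)).index ∣ Nat.card Ω - 1 := by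
  obtain ⟨α⟩ := (inferInstance : Nonempty Ω)
  have h := index_dvd_ncard htrans α ({α}ᶜ) ?_ (by simp)
  · rwa [Set.ncard_compl, Set.ncard_singleton] at h
  · intro h s hs
    simp only [Set.mem_compl_iff, Set.mem_singleton_iff] at hs ⊢
    intro hcon
    apply hs
    have h3 : h⁻¹ • (h • s) = h⁻¹ • α := by rw [hcon]
    rw [inv_smul_smul] at h3
    rw [h3]
    have := (h⁻¹).2
    rw [mem_stabilizer_iff] at this
    exact this

end

end Cfsg.Agent.Helper18
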