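import Mathlib
import Cfsg.Agent.Helper18.DerangementIndex

set_option autoImplicit false

namespace Cfsg.Agent.Helper18

open MulAction
open scoped Pointwise

variable {G Ω : Type*} [Group G] [Finite G] [MulAction G Ω] [Finite Ω]

theorem index_sq_le_of_imprimitive (htrans : IsPretransitive G Ω) (himp : ¬ IsPreprimitive G Ω) :
    ((Subgroup.closure (derangements G Ω)).index + 1) ^ 2 ≤ Nat.card Ω := by
  classical
  -- get nontrivial block
  obtain ⟨B, hB, hBnt⟩ : ∃ B : Set Ω, IsBlock G B ∧ ¬ IsTrivialBlock B := by
    by_contra hcon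
    push Not at hcon
    exact himp { toIsPretransitive := htrans, isTrivialBlock_of_isBlock := fun {B} hB => hcon B hB }
  rw [IsTrivialBlock, not_or] at hBnt
  obtain ⟨hB1, hB2⟩ := hBnt
  rw [Set.not_subsingleton_iff] at hB1
  obtain ⟨α, hα⟩ := hB1.nonempty
  set i := (Subgroup.closure (derangements G Ω)).index with hi
  set b := B.ncard with hb
  set n := Nat.card Ω with hn
  have hb2 : 2 ≤ b := by
    have := (Set.one_lt_ncard_iff (Set.toFinite B)).mpr (by
      obtain ⟨x, hx, y, hy, hxy⟩ := hB1
      exact ⟨x, y, hx, hy, hxy⟩)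
    omega
  obtain ⟨m, hm0⟩ := hB.ncard_dvd_card ⟨α, hα⟩
  have hm : n = b * m := hm0
  have hbn : b < n := by
    have h1 : b ≤ n := by
      rw [hb, hn, ← Set.ncard_univ]; exact Set.ncard_le_ncard (Set.subset_univ _) (Set.toFinite _)
    rcases lt_or_eq_of_le h1 with h | h
    · exact h
    · exfalso; apply hB2
      apply Set.eq_of_subset_of_ncard_le (Set.subset_univ _) _ (Set.toFinite _)
      rw [Set.ncard_univ]; omega
  have hm2 : 2 ≤ m := by
    by_contra hcon
    have : m = 0 ∨ m = 1 := by omega
    rcases this with h | h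
    · rw [h, mul_zero] at hm; omega
    · rw [h, mul_one] at hm; omega
  -- invariance under stabilizer
  have hinv : ∀ h : stabilizer G α, (h : G) • B = B := by
    intro h
    apply hB.smul_eq_of_mem hα
    have := h.2
    rw [mem_stabilizer_iff] at this
    rw [this]; exact hα
  have hinv' : ∀ h : stabilizer G α, ∀ s, s ∈ B ↔ h • s ∈ B := by
    intro h s
    constructor
    · intro hs
      have : (h : G) • s ∈ (h : G) • B := Set.smul_mem_smul_set hs
      rw [hinv h] at this
      exact this
    · intro hs
      have : (h : G) • s ∈ (h : G) • B := by rw [hinv h]; exact hs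
      exact (Set.smul_mem_smul_set_iff).mp this
  have h1 : i ∣ b - 1 := by
    have := index_dvd_ncard htrans α (B \ {α}) ?_ (by simp)
    · rwa [Set.ncard_sdiff_singleton_of_mem hα] at this
    · intro h s hs
      refine ⟨(hinv' h s).mp hs.1, ?_⟩
      simp only [Set.mem_singleton_iff]
      intro hcon
      apply hs.2
      simp only [Set.mem_singleton_iff]
      have h3 : h⁻¹ • (h • s) = h⁻¹ • α := by rw [hcon]
      rw [inv_smul_smul] at h3
      rw [h3]
      have := (h⁻¹).2
      rw [mem_stabilizer_iff] at this
      exact this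
  have h2 : i ∣ n - b := by
    have := index_dvd_ncard htrans α Bᶜ ?_ (by simpa using hα)
    · rwa [Set.ncard_compl] at this
    · intro h s hs hcon
      exact hs ((hinv' h s).mpr hcon)
  -- coprimality
  have hcop : Nat.Coprime i b := by
    have : Nat.Coprime (b - 1) b := by
      have : b = (b - 1) + 1 := by omega
      rw [this]
      simp
    exact Nat.Coprime.coprime_dvd_left h1 this
  have h3 : i ∣ m - 1 := by
    have : n - b = b * (m - 1) := by
      rw [hm, Nat.mul_sub, mul_one]
    rw [this] at h2
    exact hcop.dvd_of_dvd_mul_left h2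
  have hi1 : i ≤ b - 1 := Nat.le_of_dvd (by omega) h1
  have hi2 : i ≤ m - 1 := Nat.le_of_dvd (by omega) h3
  calc (i + 1) ^ 2 = (i + 1) * (i + 1) := by ring
    _ ≤ b * m := Nat.mul_le_mul (by omega) (by omega)
    _ = n := hm.symm

end Cfsg.Agent.Helper18
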