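import Mathlib
import Cfsg.Agent.Helper18.DerangementIndex

set_option autoImplicit false

namespace Cfsg.Agent.Helper18

open MulAction

variable {G Ω : Type*} [Group G] [Finite G] [MulAction G Ω] [Finite Ω]

theorem isPrimePow_of_index_eq [FaithfulSMul G Ω] (htrans : IsPretransitive G Ω)
    (hΩ : 2 ≤ Nat.card Ω)
    (hidx : (Subgroup.closure (derangements G Ω)).index = Nat.card Ω - 1) :
    IsPrimePow (Nat.card Ω) := by
  classical
  have hne : Nonempty Ω := by
    rw [← Finite.card_pos_iff]; omega
  obtain ⟨α⟩ := hne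
  set D := Subgroup.closure (derangements G Ω) with hD
  set H := stabilizer G α with hH
  set n := Nat.card Ω with hn
  have hDn := closure_derangements_normal G Ω
  -- every orbit of H off α is everything
  have horb : ∀ β : Ω, β ≠ α → (orbit H β).ncard = n - 1 ∧ D ⊓ H ≤ stabilizer G β := by
    intro β hβ
    have hdvd : D.index ∣ (orbit H β).ncard := index_dvd_orbit htrans (Ne.symm hβ)
    have hsub : orbit H β ⊆ {α}ᶜ := by
      rintro _ ⟨h, rfl⟩
      simp only [Set.mem_compl_iff, Set.mem_singleton_iff]
      intro hcon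
      apply hβ
      have h3 : h⁻¹ • (h • β) = h⁻¹ • α := by
        change h⁻¹ • ((fun m : H => m • β) h) = h⁻¹ • α
        simp only []
        rw [hcon]
      rw [inv_smul_smul] at h3
      rw [h3]
      have := (h⁻¹).2
      rw [mem_stabilizer_iff] at this
      exact this
    have hle : (orbit H β).ncard ≤ n - 1 := by
      have := Set.ncard_le_ncard hsub (Set.toFinite _)
      rwa [Set.ncard_compl, Set.ncard_singleton] at this
    have hpos : 0 < (orbit H β).ncard := by
      rw [Set.ncard_pos]; exact ⟨β, MulAction.mem_orbit_self β⟩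
    have heq : (orbit H β).ncard = n - 1 := by
      rw [hidx] at hdvd
      exact le_antisymm hle (Nat.le_of_dvd hpos hdvd)
    refine ⟨heq, ?_⟩
    -- index chain
    have h1 : (stabilizer H β).index = (orbit H β).ncard := MulAction.index_stabilizer H β
    have h2 : stabilizer H β = (stabilizer G β).subgroupOf H := by
      ext x
      simp [Subgroup.mem_subgroupOf, mem_stabilizer_iff, Subgroup.smul_def]
    rw [h2] at h1
    change (stabilizer G β).relIndex H = _ at h1
    rw [← Subgroup.inf_relIndex_right (stabilizer G β) H] at h1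
    have hK : stabilizer G β ⊓ H ≤ D ⊓ H := by
      refine le_inf ?_ inf_le_right
      rw [inf_comm]
      exact two_point_stabilizer_le htrans (Ne.symm hβ)
    rw [← Subgroup.relIndex_mul_relIndex _ _ _ hK inf_le_right, Subgroup.inf_relIndex_right D H,
      relIndex_closure_derangements_stabilizer htrans α, heq, hidx] at h1
    have h3 : (stabilizer G β ⊓ H).relIndex (D ⊓ H) = 1 := by
      have : 0 < n - 1 := by omega
      exact Nat.eq_of_mul_eq_mul_right this (by rw [h1, one_mul])
    rw [Subgroup.relIndex_eq_one] at h3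
    exact h3.trans inf_le_left
  have hDH : D ⊓ H = ⊥ := by
    rw [Subgroup.eq_bot_iff_forall]
    intro x hx
    apply FaithfulSMul.eq_of_smul_eq_smul (α := Ω)
    intro β
    rw [one_smul]
    by_cases hβ : β = α
    · rw [hβ]; exact hx.2
    · exact (horb β hβ).2 hx
  -- card D = n
  have hcardD : Nat.card D = n := by
    have h1 : D.relIndex H = D.index := relIndex_closure_derangements_stabilizer htrans α
    rw [← Subgroup.inf_relIndex_right, hDH, Subgroup.relIndex_bot_left, hidx] at h1
    have h2 : H.index = n := MulAction.index_stabilizer_of_transitive G α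
    have h3 := Subgroup.index_mul_card H
    have h4 := Subgroup.index_mul_card D
    rw [h2, h1] at h3
    rw [hidx, ← h3, mul_comm] at h4
    have : 0 < n - 1 := by omega
    exact Nat.eq_of_mul_eq_mul_right this h4
  -- conjugacy of nonidentity elements
  have hconj : ∀ d1 ∈ D, ∀ d2 ∈ D, d1 ≠ 1 → d2 ≠ 1 → orderOf d1 = orderOf d2 := by
    intro d1 hd1 d2 hd2 h1 h2
    have hm1 : d1 • α ≠ α := by
      intro hcon
      apply h1
      have : d1 ∈ D ⊓ H := ⟨hd1, hcon⟩
      rw [hDH] at this
      exact this
    have hm2 : d2 • α ≠ α := by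
      intro hcon
      apply h2
      have : d2 ∈ D ⊓ H := ⟨hd2, hcon⟩
      rw [hDH] at this
      exact this
    -- orbit of d1 α under H is everything but α
    have horb1 : orbit H (d1 • α) = {α}ᶜ := by
      apply Set.eq_of_subset_of_ncard_le
      · rintro _ ⟨h, rfl⟩
        simp only [Set.mem_compl_iff, Set.mem_singleton_iff]
        intro hcon
        apply hm1
        have h3 : h⁻¹ • (h • (d1 • α)) = h⁻¹ • α := by
          change h⁻¹ • ((fun m : H => m • (d1 • α)) h) = h⁻¹ • α
          simp only []
          rw [hcon]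
        rw [inv_smul_smul] at h3
        rw [h3]
        have := (h⁻¹).2
        rw [mem_stabilizer_iff] at this
        exact this
      · rw [(horb _ hm1).1, Set.ncard_compl, Set.ncard_singleton]
      · exact Set.toFinite _
    have : d2 • α ∈ orbit H (d1 • α) := by
      rw [horb1]; simpa using hm2
    obtain ⟨h, hh⟩ := this
    have hh' : (h : G) • d1 • α = d2 • α := hh
    have hfix : (h : G)⁻¹ • α = α := by
      have := (h⁻¹).2
      rw [mem_stabilizer_iff] at this
      exact this
    have hmem : d2⁻¹ * ((h : G) * d1 * (h : G)⁻¹) ∈ D ⊓ H := by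
      refine ⟨D.mul_mem (D.inv_mem hd2) (hDn.conj_mem d1 hd1 h), ?_⟩
      change (d2⁻¹ * ((h : G) * d1 * (h : G)⁻¹)) • α = α
      rw [mul_smul, mul_smul, mul_smul, hfix, hh', inv_smul_smul]
    rw [hDH, Subgroup.mem_bot] at hmem
    have : d2 = (h : G) * d1 * (h : G)⁻¹ := by
      have := congrArg (fun t => d2 * t) hmem
      simpa using this.symm
    rw [this, ← MulAut.conj_apply, MulEquiv.orderOf_eq]
  -- get element of prime order
  have hcard1 : Nat.card D ≠ 1 := by rw [hcardD]; omega
  obtain ⟨p, hp, hpd⟩ := Nat.exists_prime_and_dvd hcard1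
  have : Fact p.Prime := ⟨hp⟩
  obtain ⟨x, hx⟩ := exists_prime_orderOf_dvd_card' p hpd
  have hx1 : (x : G) ≠ 1 := by
    intro hcon
    have : x = 1 := Subtype.ext hcon
    rw [this, orderOf_one] at hx
    exact hp.one_lt.ne hx
  have hPG : IsPGroup p D := by
    intro y
    by_cases hy : (y : G) = 1
    · refine ⟨0, ?_⟩
      have : y = 1 := Subtype.ext hy
      rw [this]; simp
    · refine ⟨1, ?_⟩
      have h1 := hconj x x.2 y y.2 hx1 hy
      rw [Subgroup.orderOf_coe, Subgroup.orderOf_coe, hx] at h1
      rw [pow_one, h1]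
      exact pow_orderOf_eq_one y
  obtain ⟨m, hm⟩ := IsPGroup.iff_card.mp hPG
  rw [hcardD] at hm
  rw [isPrimePow_nat_iff]
  refine ⟨p, m, hp, ?_, hm.symm⟩
  rcases Nat.eq_zero_or_pos m with h | h
  · rw [h, pow_zero] at hm; omega
  · exact h

end Cfsg.Agent.Helper18
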