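import Mathlib
import Cfsg.Agent.Helper18.Derangement

set_option autoImplicit false

namespace Cfsg.Agent.Helper18

open MulAction

theorem card_fixedBy_prod {G Ω : Type*} [Group G] [MulAction G Ω] (g : G) :
    Nat.card (fixedBy (Ω × Ω) g) = Nat.card (fixedBy Ω g) * Nat.card (fixedBy Ω g) := by
  rw [← Nat.card_prod]
  apply Nat.card_congr
  refine ⟨fun x => (⟨x.1.1, ?_⟩, ⟨x.1.2, ?_⟩), fun y => ⟨(y.1.1, y.2.1), ?_⟩, ?_, ?_⟩
  · have := x.2
    rw [mem_fixedBy] at this ⊢
    exact congrArg Prod.fst this
  · have := x.2
    rw [mem_fixedBy] at this ⊢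
    exact congrArg Prod.snd this
  · rw [mem_fixedBy]
    have h1 := y.1.2
    have h2 := y.2.2
    rw [mem_fixedBy] at h1 h2
    exact Prod.ext h1 h2
  · intro x; rfl
  · intro y; rfl

theorem sum_split_subgroup {G : Type*} [Group G] [Fintype G] (D : Subgroup G) [Fintype D]
    [DecidablePred (· ∈ D)] (f : G → ℕ) :
    ∑ g : G, f g = ∑ h : D, f (h : G) + ∑ g ∈ Finset.univ.filter (fun g : G => ¬ g ∈ D), f g := by
  rw [← Finset.sum_filter_add_sum_filter_not Finset.univ (fun g : G => g ∈ D) f]
  congr 1
  exact Finset.sum_subtype _ (by simp) _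

theorem card_filter_not_mem {G : Type*} [Group G] [Fintype G] (D : Subgroup G)
    [DecidablePred (· ∈ D)] :
    (Finset.univ.filter (fun g : G => ¬ g ∈ D)).card = Nat.card G - Nat.card D := by
  classical
  have h1 : (Finset.univ.filter (fun g : G => g ∈ D)).card = Nat.card D := by
    rw [Nat.card_eq_fintype_card, Fintype.card_subtype]
  have h2 := Finset.card_filter_add_card_filter_not (s := (Finset.univ : Finset G)) (fun g : G => g ∈ D)
  rw [h1, Finset.card_univ, ← Nat.card_eq_fintype_card] at h2
  omega

/-- The rank formula. -/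
theorem rank_formula {G Ω : Type*} [Group G] [Finite G] [MulAction G Ω] [Finite Ω]
    (htrans : IsPretransitive G Ω) :
    Nat.card (orbitRel.Quotient (Subgroup.closure (derangements G Ω)) (Ω × Ω)) - 1 =
      (Nat.card (orbitRel.Quotient G (Ω × Ω)) - 1) * (Subgroup.closure (derangements G Ω)).index := by
  classical
  rcases isEmpty_or_nonempty Ω with hΩ | hΩ
  · have h1 : IsEmpty (orbitRel.Quotient G (Ω × Ω)) := by
      constructor
      intro q
      induction q using Quotient.inductionOn' with
      | h x => exact isEmptyElim x.1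
    have h2 : IsEmpty (orbitRel.Quotient (Subgroup.closure (derangements G Ω)) (Ω × Ω)) := by
      constructor
      intro q
      induction q using Quotient.inductionOn' with
      | h x => exact isEmptyElim x.1
    simp [Nat.card_of_isEmpty]
  · have := Fintype.ofFinite G
    obtain ⟨hk1, hfix⟩ := derangement_main htrans
    set D := Subgroup.closure (derangements G Ω) with hD
    have hGsum := sum_card_fixedBy G (Ω × Ω)
    have hDsum := sum_card_fixedBy_subgroup (Ω := Ω × Ω) D
    rw [sum_split_subgroup D, hDsum] at hGsum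
    have hrest : ∑ g ∈ Finset.univ.filter (fun g : G => ¬ g ∈ D), Nat.card (fixedBy (Ω × Ω) g) =
        Nat.card G - Nat.card D := by
      rw [← card_filter_not_mem D, Finset.card_eq_sum_ones]
      apply Finset.sum_congr rfl
      intro g hg
      rw [Finset.mem_filter] at hg
      rw [card_fixedBy_prod, hfix g hg.2]
    rw [hrest] at hGsum
    set rD := Nat.card (orbitRel.Quotient D (Ω × Ω)) with hrD
    set rG := Nat.card (orbitRel.Quotient G (Ω × Ω)) with hrG
    have hidx : D.index * Nat.card D = Nat.card G := by
      rw [mul_comm]; exact Subgroup.card_mul_index D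
    have hDpos : 0 < Nat.card D := Nat.card_pos
    have hDle : Nat.card D ≤ Nat.card G := Subgroup.card_le_card_group D
    have hrGpos : 1 ≤ rG := by
      rw [Nat.one_le_iff_ne_zero, hrG, Nat.card_ne_zero]
      obtain ⟨ω⟩ := hΩ
      exact ⟨⟨Quotient.mk'' (ω, ω)⟩, inferInstance⟩
    set i := D.index with hi
    set d := Nat.card D with hd
    -- rD * d + (i*d - d) = rG * (i * d)
    rw [← hidx] at hGsum
    have hipos : 1 ≤ i := by
      rcases Nat.eq_zero_or_pos i with h | h
      · rw [h, zero_mul] at hidx; omega
      · exact h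
    have key : (rD + i) * d = (rG * i + 1) * d := by
      have : d ≤ i * d := Nat.le_mul_of_pos_left d hipos
      have e1 : rD * d + (i * d - d) + d = rG * (i * d) + d := by rw [hGsum]
      have e2 : rD * d + (i * d - d) + d = (rD + i) * d := by
        rw [add_mul]; omega
      have e3 : rG * (i * d) + d = (rG * i + 1) * d := by ring
      rw [← e2, e1, e3]
    have key2 : rD + i = rG * i + 1 := Nat.eq_of_mul_eq_mul_right hDpos key
    obtain ⟨r, hr⟩ : ∃ r, rG = r + 1 := ⟨rG - 1, by omega⟩
    rw [hr] at key2 ⊢
    have : rD = r * i + 1 := by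
      have : (r + 1) * i + 1 = r * i + i + 1 := by ring
      omega
    rw [this]
    simp

end Cfsg.Agent.Helper18
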