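import Mathlib

/-! Dickson-type counting, part 1: the projective line `P¹(E)` with coordinates, and the fixed
points of elements of `SL₂(E)`. -/

set_option autoImplicit false

open scoped LinearAlgebra.Projectivization

namespace Cfsg.Agent.Helper18.Dickson

variable {E : Type*} [Field E]

local notation "S2" => Matrix.SpecialLinearGroup (Fin 2) E
local notation "M2" => Matrix (Fin 2) (Fin 2) E
local notation "PL" => ℙ E (Fin 2 → E)

/-- the point at infinity `[1:0]` -/
noncomputable def pinf : PL := Projectivization.mk E (![1, 0] : Fin 2 → E) (by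
  intro h; have := congrFun h 0; simp at this)

/-- the affine point `[x:1]` -/
noncomputable def pt (x : E) : PL := Projectivization.mk E (![x, 1] : Fin 2 → E) (by
  intro h; have := congrFun h 1; simp at this)

theorem pt_ne_pinf (x : E) : pt x ≠ (pinf : PL) := by
  intro h
  rw [pt, pinf, Projectivization.mk_eq_mk_iff] at h
  obtain ⟨a, ha⟩ := h
  have := congrFun ha 1
  simp at this

theorem pinf_ne_pt (x : E) : (pinf : PL) ≠ pt x := fun h => pt_ne_pinf x h.symm

theorem pt_injective : Function.Injective (pt : E → PL) := by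
  intro x y h
  rw [pt, pt, Projectivization.mk_eq_mk_iff] at h
  obtain ⟨a, ha⟩ := h
  have h1 := congrFun ha 1
  have h0 := congrFun ha 0
  simp [Units.smul_def] at h1 h0
  rw [h1] at h0
  simpa using h0.symm

theorem pt_eq_pt_iff {x y : E} : (pt x : PL) = pt y ↔ x = y := pt_injective.eq_iff

theorem mk_eq_pinf (v : Fin 2 → E) (hv : v ≠ 0) (h1 : v 1 = 0) :
    Projectivization.mk E v hv = pinf := by
  have h0 : v 0 ≠ 0 := by
    intro h0
    apply hv
    ext i; fin_cases i <;> simp [h0, h1]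
  rw [pinf, Projectivization.mk_eq_mk_iff]
  refine ⟨Units.mk0 (v 0) h0, ?_⟩
  ext i; fin_cases i <;> simp [Units.smul_def, h1]

theorem mk_eq_pt (v : Fin 2 → E) (hv : v ≠ 0) (h1 : v 1 ≠ 0) :
    Projectivization.mk E v hv = pt (v 0 / v 1) := by
  rw [pt, Projectivization.mk_eq_mk_iff]
  refine ⟨Units.mk0 (v 1) h1, ?_⟩
  ext i; fin_cases i <;> simp [Units.smul_def]
  field_simp

theorem eq_pinf_or_pt (P : PL) : P = pinf ∨ ∃ x, P = pt x := by
  induction P using Projectivization.ind with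
  | h v hv =>
    by_cases h1 : v 1 = 0
    · exact Or.inl (mk_eq_pinf v hv h1)
    · exact Or.inr ⟨_, mk_eq_pt v hv h1⟩

theorem mulVec_ne_zero (g : S2) (v : Fin 2 → E) (hv : v ≠ 0) :
    (g : M2).mulVec v ≠ 0 := by
  intro h
  apply hv
  have := congrArg ((g⁻¹ : S2) : M2).mulVec h
  rw [Matrix.mulVec_mulVec, ← Matrix.SpecialLinearGroup.coe_mul] at this
  simpa using this

theorem smul_mk' (g : S2) (v : Fin 2 → E) (hv : v ≠ 0) :
    g • Projectivization.mk E v hv =
      Projectivization.mk E ((g : M2).mulVec v) (mulVec_ne_zero g v hv) := rfl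

theorem smul_pinf_of_eq (g : S2) (h : (g : M2) 1 0 = 0) : g • (pinf : PL) = pinf := by
  rw [pinf, smul_mk']
  apply mk_eq_pinf
  simp [Matrix.mulVec, dotProduct, Fin.sum_univ_two, h]

theorem smul_pinf_of_ne (g : S2) (h : (g : M2) 1 0 ≠ 0) :
    g • (pinf : PL) = pt ((g : M2) 0 0 / (g : M2) 1 0) := by
  rw [pinf, smul_mk', mk_eq_pt]
  · simp [Matrix.mulVec, dotProduct, Fin.sum_univ_two]
  · simpa [Matrix.mulVec, dotProduct, Fin.sum_univ_two] using h

theorem smul_pinf_eq_iff (g : S2) : g • (pinf : PL) = pinf ↔ (g : M2) 1 0 = 0 := by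
  constructor
  · intro h
    by_contra h0
    rw [smul_pinf_of_ne g h0] at h
    exact pt_ne_pinf _ h
  · exact smul_pinf_of_eq g

theorem smul_pt_of_eq (g : S2) (x : E) (h : (g : M2) 1 0 * x + (g : M2) 1 1 = 0) :
    g • (pt x : PL) = pinf := by
  rw [pt, smul_mk']
  apply mk_eq_pinf
  simpa [Matrix.mulVec, dotProduct, Fin.sum_univ_two] using h

theorem smul_pt_of_ne (g : S2) (x : E) (h : (g : M2) 1 0 * x + (g : M2) 1 1 ≠ 0) :
    g • (pt x : PL) =
      pt (((g : M2) 0 0 * x + (g : M2) 0 1) / ((g : M2) 1 0 * x + (g : M2) 1 1)) := by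
  rw [pt, smul_mk', mk_eq_pt]
  · simp [Matrix.mulVec, dotProduct, Fin.sum_univ_two]
  · simpa [Matrix.mulVec, dotProduct, Fin.sum_univ_two] using h

/-- `±1` -/
def IsPM (g : S2) : Prop := (g : M2) = 1 ∨ (g : M2) = -1

theorem det_eq (g : S2) : (g : M2) 0 0 * (g : M2) 1 1 - (g : M2) 0 1 * (g : M2) 1 0 = 1 := by
  have := g.2
  rwa [Matrix.det_fin_two] at this

/-- the trace -/
def tr (g : S2) : E := (g : M2) 0 0 + (g : M2) 1 1

theorem IsPM.smul_eq {g : S2} (hg : IsPM g) (x : PL) : g • x = x := by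
  induction x using Projectivization.ind with
  | h v hv =>
    rw [smul_mk', Projectivization.mk_eq_mk_iff]
    rcases hg with h | h
    · exact ⟨1, by rw [h]; simp⟩
    · refine ⟨-1, ?_⟩
      rw [h]
      ext i
      fin_cases i <;> simp [Units.smul_def]

theorem mul_inv_entries (h g : S2) :
    ((h * g * h⁻¹ : S2) : M2) = (h : M2) * (g : M2) * !![(h : M2) 1 1, -(h : M2) 0 1; -(h : M2) 1 0, (h : M2) 0 0] := by
  rw [Matrix.SpecialLinearGroup.coe_mul, Matrix.SpecialLinearGroup.coe_mul,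
    Matrix.SpecialLinearGroup.coe_inv, Matrix.adjugate_fin_two]

theorem tr_conj (h g : S2) : tr (h * g * h⁻¹) = tr g := by
  unfold tr
  rw [mul_inv_entries]
  have hd := det_eq h
  rw [Matrix.eta_fin_two (h : M2), Matrix.eta_fin_two (g : M2)]
  simp only [Matrix.mul_fin_two, Matrix.of_apply, Matrix.cons_val', Matrix.cons_val_zero,
    Matrix.cons_val_one, Matrix.empty_val', Matrix.cons_val_fin_one]
  linear_combination ((g : M2) 0 0 + (g : M2) 1 1) * hd

theorem IsPM.conj {g : S2} (hg : IsPM g) (h : S2) : IsPM (h * g * h⁻¹) := by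
  rcases hg with hg | hg
  · left
    have : g = 1 := Subtype.ext hg
    rw [this]; simp
  · right
    have : g = -1 := Subtype.ext (by rw [hg]; simp)
    rw [this]
    simp

theorem isPM_conj_iff (g h : S2) : IsPM (h * g * h⁻¹) ↔ IsPM g := by
  constructor
  · intro hh
    have := hh.conj h⁻¹
    have e : h⁻¹ * (h * g * h⁻¹) * h⁻¹⁻¹ = g := by group
    rwa [e] at this
  · intro hh; exact hh.conj h


/-- the set of fixed points -/
def Fix (g : S2) : Set PL := {x | g • x = x}

theorem mem_Fix (g : S2) (x : PL) : x ∈ Fix g ↔ g • x = x := Iff.rfl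

theorem Fix_conj (g h : S2) : Fix (h * g * h⁻¹) = (fun x => h • x) '' Fix g := by
  ext x
  simp only [mem_Fix, Set.mem_image]
  constructor
  · intro hx
    refine ⟨h⁻¹ • x, ?_, by simp⟩
    calc g • h⁻¹ • x = h⁻¹ • ((h * g * h⁻¹) • x) := by simp [mul_smul]
      _ = h⁻¹ • x := by rw [hx]
  · rintro ⟨y, hy, rfl⟩
    simp [mul_smul, hy]

theorem ncard_Fix_conj (g h : S2) : (Fix (h * g * h⁻¹)).ncard = (Fix g).ncard := by
  rw [Fix_conj]
  exact Set.ncard_image_of_injective _ (MulAction.injective h)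

/-- for an upper triangular element, the lower right entry is the inverse of the upper left -/
theorem borel_entries (g : S2) (h : (g : M2) 1 0 = 0) :
    (g : M2) 0 0 * (g : M2) 1 1 = 1 := by
  have := det_eq g
  rw [h] at this
  linear_combination this

theorem borel_smul_pt (g : S2) (h : (g : M2) 1 0 = 0) (x : E) :
    g • (pt x : PL) = pt ((g : M2) 0 0 ^ 2 * x + (g : M2) 0 0 * (g : M2) 0 1) := by
  have h1 := borel_entries g h
  have hd : (g : M2) 1 1 ≠ 0 := by
    intro h0; rw [h0] at h1; simp at h1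
  rw [smul_pt_of_ne g x (by rw [h]; simpa using hd), h, pt_eq_pt_iff, zero_mul, zero_add,
    div_eq_iff hd]
  linear_combination (-((g : M2) 0 0 * x + (g : M2) 0 1)) * h1

theorem tr_sq_borel (g : S2) (h : (g : M2) 1 0 = 0) :
    tr g ^ 2 = 4 ↔ (g : M2) 0 0 ^ 2 = 1 := by
  have h1 := borel_entries g h
  have ha : (g : M2) 0 0 ≠ 0 := by
    intro h0; rw [h0] at h1; simp at h1
  unfold tr
  constructor
  · intro h2
    have : ((g : M2) 0 0 - (g : M2) 1 1) ^ 2 = 0 := by linear_combination h2 - 4 * h1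
    have h3 : (g : M2) 0 0 = (g : M2) 1 1 := sub_eq_zero.1 (pow_eq_zero_iff (two_ne_zero) |>.1 this)
    rw [← h3] at h1
    linear_combination h1
  · intro h2
    have h3 : (g : M2) 1 1 = (g : M2) 0 0 := by
      apply mul_left_cancel₀ ha
      rw [h1]; linear_combination -h2
    rw [h3]
    linear_combination 4 * h2

/-- a parabolic element of the Borel subgroup fixes only the point at infinity -/
theorem Fix_borel_par (g : S2) (h : (g : M2) 1 0 = 0) (ha : (g : M2) 0 0 ^ 2 = 1)
    (hb : (g : M2) 0 1 ≠ 0) : Fix g = {pinf} := by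
  have h1 := borel_entries g h
  have ha0 : (g : M2) 0 0 ≠ 0 := by
    intro h0; rw [h0] at h1; simp at h1
  ext x
  simp only [mem_Fix, Set.mem_singleton_iff]
  constructor
  · intro hx
    rcases eq_pinf_or_pt x with rfl | ⟨y, rfl⟩
    · rfl
    · exfalso
      rw [borel_smul_pt g h, pt_eq_pt_iff, ha] at hx
      have : (g : M2) 0 0 * (g : M2) 0 1 = 0 := by linear_combination hx
      rcases mul_eq_zero.1 this with h0 | h0
      · exact ha0 h0
      · exact hb h0
  · rintro rfl
    exact smul_pinf_of_eq g h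

/-- a semisimple element of the Borel subgroup fixes exactly two points -/
theorem Fix_borel_ss (g : S2) (h : (g : M2) 1 0 = 0) (ha : (g : M2) 0 0 ^ 2 ≠ 1) :
    Fix g = {pinf, pt ((g : M2) 0 0 * (g : M2) 0 1 / (1 - (g : M2) 0 0 ^ 2))} := by
  have hne : 1 - (g : M2) 0 0 ^ 2 ≠ 0 := by
    intro h0; apply ha; linear_combination -h0
  ext x
  simp only [mem_Fix, Set.mem_insert_iff, Set.mem_singleton_iff]
  constructor
  · intro hx
    rcases eq_pinf_or_pt x with rfl | ⟨y, rfl⟩
    · exact Or.inl rfl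
    · right
      rw [borel_smul_pt g h, pt_eq_pt_iff] at hx
      rw [pt_eq_pt_iff, eq_div_iff hne]
      linear_combination -hx
  · rintro (rfl | rfl)
    · exact smul_pinf_of_eq g h
    · rw [borel_smul_pt g h, pt_eq_pt_iff]
      field_simp
      ring

theorem isPM_of_borel (g : S2) (h : (g : M2) 1 0 = 0) (ha : (g : M2) 0 0 ^ 2 = 1)
    (hb : (g : M2) 0 1 = 0) : IsPM g := by
  have h1 := borel_entries g h
  have h3 : (g : M2) 1 1 = (g : M2) 0 0 := by
    have ha0 : (g : M2) 0 0 ≠ 0 := by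
      intro h0; rw [h0] at h1; simp at h1
    apply mul_left_cancel₀ ha0
    rw [h1]; linear_combination -ha
  have h4 : ((g : M2) 0 0 - 1) * ((g : M2) 0 0 + 1) = 0 := by linear_combination ha
  rcases mul_eq_zero.1 h4 with h5 | h5
  · left
    have h6 : (g : M2) 0 0 = 1 := by linear_combination h5
    rw [Matrix.eta_fin_two (g : M2), h, hb, h3, h6]
    exact Matrix.one_fin_two.symm
  · right
    have h6 : (g : M2) 0 0 = -1 := by linear_combination h5
    rw [Matrix.eta_fin_two (g : M2), h, hb, h3, h6]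
    ext i j; fin_cases i <;> fin_cases j <;> simp

theorem not_isPM_of_tr (g : S2) (ht : tr g ^ 2 ≠ 4) : ¬ IsPM g := by
  rintro (h | h)
  · apply ht; unfold tr; rw [h]; simp; ring
  · apply ht; unfold tr; rw [h]; simp; ring

/-- conjugating an element with an eigenvalue into the Borel subgroup -/
theorem exists_conj_borel (g : S2) (μ : E) (hμ : μ ^ 2 - tr g * μ + 1 = 0) :
    ∃ h : S2, ((h * g * h⁻¹ : S2) : M2) 1 0 = 0 := by
  by_cases hc : (g : M2) 1 0 = 0
  · exact ⟨1, by simpa using hc⟩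
  · have hdet : (!![0, 1 / (g : M2) 1 0; -(g : M2) 1 0, μ - (g : M2) 1 1] : M2).det = 1 := by
      rw [Matrix.det_fin_two_of]; field_simp; ring
    obtain ⟨h, hh⟩ : ∃ h : S2, (h : M2) =
        !![0, 1 / (g : M2) 1 0; -(g : M2) 1 0, μ - (g : M2) 1 1] := ⟨⟨_, hdet⟩, rfl⟩
    refine ⟨h, ?_⟩
    rw [mul_inv_entries, hh]
    have hd := det_eq g
    unfold tr at hμ
    rw [Matrix.eta_fin_two (g : M2)]
    simp only [Matrix.mul_fin_two, Matrix.of_apply, Matrix.cons_val', Matrix.cons_val_zero,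
      Matrix.cons_val_one, Matrix.empty_val', Matrix.cons_val_fin_one]
    field_simp
    linear_combination (g : M2) 1 0 * hμ + (g : M2) 1 0 * hd

/-- a non-central element with `tr² = 4` has exactly one fixed point -/
theorem ncard_Fix_par (h2 : (2 : E) ≠ 0) (g : S2) (hg : ¬ IsPM g) (ht : tr g ^ 2 = 4) :
    (Fix g).ncard = 1 := by
  have hμ : (tr g / 2) ^ 2 - tr g * (tr g / 2) + 1 = 0 := by
    field_simp; linear_combination -ht
  obtain ⟨h, hh⟩ := exists_conj_borel g _ hμ
  rw [← ncard_Fix_conj g h]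
  have ht' : tr (h * g * h⁻¹) ^ 2 = 4 := by rw [tr_conj]; exact ht
  have ha := (tr_sq_borel _ hh).1 ht'
  have hb : ((h * g * h⁻¹ : S2) : M2) 0 1 ≠ 0 := by
    intro hb
    exact hg ((isPM_conj_iff g h).1 (isPM_of_borel _ hh ha hb))
  rw [Fix_borel_par _ hh ha hb, Set.ncard_singleton]

/-- an element with `tr² ≠ 4` and an eigenvalue in `E` has exactly two fixed points -/
theorem ncard_Fix_ss (g : S2) (ht : tr g ^ 2 ≠ 4) (μ : E) (hμ : μ ^ 2 - tr g * μ + 1 = 0) :
    (Fix g).ncard = 2 := by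
  obtain ⟨h, hh⟩ := exists_conj_borel g _ hμ
  rw [← ncard_Fix_conj g h]
  have ht' : tr (h * g * h⁻¹) ^ 2 ≠ 4 := by rw [tr_conj]; exact ht
  have ha : ((h * g * h⁻¹ : S2) : M2) 0 0 ^ 2 ≠ 1 := fun h0 => ht' ((tr_sq_borel _ hh).2 h0)
  rw [Fix_borel_ss _ hh ha, Set.ncard_pair (pinf_ne_pt _)]

end Cfsg.Agent.Helper18.Dickson
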