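import Cfsg.Agent.Helper18.Dickson9
import Cfsg.Agent.Helper12.BorelUnip

/-! Dickson-type counting, part 10: from an injective hom of a finite group with two Sylow
`p`-subgroups into `SL₂(E)`. -/

set_option autoImplicit false

open scoped LinearAlgebra.Projectivization

namespace Cfsg.Agent.Helper18.Dickson

variable {E : Type*} [Field E]

local notation "S2" => Matrix.SpecialLinearGroup (Fin 2) E
local notation "M2" => Matrix (Fin 2) (Fin 2) E
local notation "PL" => ℙ E (Fin 2 → E)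

theorem borel_of_commute_uM (a : E) (ha : a ≠ 0) (t : S2) (h : t * uM a = uM a * t) :
    (t : M2) 1 0 = 0 := by
  have h' := congrArg (fun g : S2 => (g : M2) 0 0) h
  simp only [Matrix.SpecialLinearGroup.coe_mul, uM_coe, Matrix.mul_apply, Fin.sum_univ_two] at h'
  simp at h'
  rcases h' with h0 | h0
  · exact absurd h0 ha
  · exact h0

theorem borel_pow_00 (g : S2) (h : (g : M2) 1 0 = 0) (n : ℕ) :
    ((g ^ n : S2) : M2) 0 0 = (g : M2) 0 0 ^ n := by
  induction n with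
  | zero => simp
  | succ k ih => rw [pow_succ, borel_mul_00 _ _ h, ih, pow_succ]

theorem borel_diag_eq_one_of_pow (p : ℕ) [Fact p.Prime] [CharP E p] (g : S2)
    (h : (g : M2) 1 0 = 0) (k : ℕ) (hk : g ^ (p ^ k) = 1) : (g : M2) 0 0 = 1 := by
  have h1 := borel_pow_00 g h (p ^ k)
  rw [hk] at h1
  simp only [Matrix.SpecialLinearGroup.coe_one, Matrix.one_apply_eq] at h1
  have h2 : ((g : M2) 0 0 - 1) ^ (p ^ k) = 0 := by
    rw [sub_pow_char_pow, ← h1, one_pow, sub_self]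
  have := pow_eq_zero_iff (pow_ne_zero k (Fact.out : p.Prime).ne_zero) |>.1 h2
  linear_combination this

theorem sq_ne_one_of_isPar (h2 : (2 : E) ≠ 0) (g : S2) (hg : IsPar g) : g ^ 2 ≠ 1 := by
  intro h
  rw [pow_two] at h
  apply hg.1
  rw [isPM_iff]
  by_cases h1 : g = 1
  · exact Or.inl h1
  · exact Or.inr (eq_neg_one_of_sq h2 g h1 h)

theorem sq_pow_eq_one_of_isPar (p : ℕ) [Fact p.Prime] [CharP E p] (h2 : (2 : E) ≠ 0) (g : S2)
    (hg : IsPar g) : (g ^ 2) ^ p = 1 := by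
  have hμ : (tr g / 2) ^ 2 - tr g * (tr g / 2) + 1 = 0 := by
    field_simp; linear_combination -hg.2
  obtain ⟨k, hk⟩ := exists_conj_borel g _ hμ
  set b := k * g * k⁻¹ with hb
  have ht : tr b ^ 2 = 4 := by rw [hb, tr_conj]; exact hg.2
  have ha := (tr_sq_borel b hk).1 ht
  have hb2 : (b ^ 2 : S2) = uM (((b ^ 2 : S2) : M2) 0 1) := by
    apply eq_uM
    · exact (mem_Bsub _).1 (Subgroup.pow_mem _ ((mem_Bsub b).2 hk) 2)
    · rw [borel_pow_00 b hk, ha]
  have h3 : (b ^ 2) ^ p = 1 := by rw [hb2]; exact uM_pow_char p _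
  have e : g ^ 2 = k⁻¹ * b ^ 2 * k⁻¹⁻¹ := by
    rw [hb, conj_pow]; group
  rw [e, conj_pow, h3]; group


theorem main_of_hom [Finite E] (p : ℕ) [Fact p.Prime] [CharP E p] (hp : p ≠ 2)
    {G : Type*} [Group G] [Finite G] (ψ : G →* S2) (hinj : Function.Injective ψ)
    (hsplit : ∀ x : G, ∃ μ : E, μ ^ 2 - tr (ψ x) * μ + 1 = 0)
    (P Q : Sylow p G) (hPQ : P ≠ Q) :
    ∃ K : Subgroup G, Nonempty (K ≃* Matrix.SpecialLinearGroup (Fin 2) (ZMod p)) := by
  classical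
  have : Fintype E := Fintype.ofFinite _
  have hpp : p.Prime := Fact.out
  have h2 := two_ne_zero_of_char (E := E) p hp
  -- step 1: conjugate `P` into the upper unitriangular group
  have hPp : IsPGroup p ((P : Subgroup G).map ψ) := P.isPGroup'.map ψ
  obtain ⟨S, hS⟩ := hPp.exists_le_sylow
  obtain ⟨g0, hg0⟩ := Cfsg.Agent.Helper12.exists_conj_sylow_eq_unipSL p S
  let ψ1 : G →* S2 := (MulAut.conj g0).toMonoidHom.comp ψ
  have hψ1 : ∀ x, ψ1 x = g0 * ψ x * g0⁻¹ := fun x => rfl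
  have hinj1 : Function.Injective ψ1 := (MulAut.conj g0).injective.comp hinj
  have hU : ∀ x ∈ P, ((ψ1 x : S2) : M2) 1 0 = 0 ∧ ((ψ1 x : S2) : M2) 0 0 = 1 := by
    intro x hx
    have : ψ1 x ∈ Cfsg.Agent.Helper12.unipSL E := by
      rw [← hg0]
      exact ⟨ψ x, hS ⟨x, hx, rfl⟩, rfl⟩
    exact (Cfsg.Agent.Helper12.mem_unipSL_iff _).1 this
  -- `p`-elements are conjugate into `P`
  have hconj : ∀ y : G, y ^ p = 1 → ∃ k : G, k * y * k⁻¹ ∈ P := by
    intro y hy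
    have hyp : IsPGroup p (Subgroup.zpowers y) := by
      intro x
      obtain ⟨x, hx⟩ := x
      obtain ⟨j, rfl⟩ := Subgroup.mem_zpowers_iff.1 hx
      refine ⟨1, ?_⟩
      apply Subtype.ext
      simp only [pow_one, Subgroup.coe_pow, Subgroup.coe_one]
      rw [← zpow_natCast, ← zpow_mul, mul_comm, zpow_mul, zpow_natCast, hy, one_zpow]
    obtain ⟨R, hR⟩ := hyp.exists_le_sylow
    obtain ⟨k, hk⟩ := MulAction.exists_smul_eq G R P
    refine ⟨k, ?_⟩
    have h1 : y ∈ (R : Subgroup G) := hR (Subgroup.mem_zpowers y)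
    have h3 : k * y * k⁻¹ ∈ ((k • R : Sylow p G) : Subgroup G) := by
      rw [Sylow.coe_subgroup_smul, Subgroup.mem_pointwise_smul_iff_inv_smul_mem]
      simpa [MulAut.smul_def, mul_assoc] using h1
    rw [hk] at h3
    exact h3
  -- an element of `Q` outside `P`
  obtain ⟨y0, hy0Q, hy0P⟩ : ∃ y0 ∈ Q, y0 ∉ P := by
    by_contra hcon
    push Not at hcon
    apply hPQ
    have : (P : Subgroup G) = (Q : Subgroup G) := Q.is_maximal' P.isPGroup' hcon
    exact Sylow.ext this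
  obtain ⟨j, hj⟩ := Q.isPGroup' ⟨y0, hy0Q⟩
  have hy0j : y0 ^ (p ^ j) = 1 := by
    have := congrArg Subtype.val hj
    simpa using this
  -- the preimage of `U` is `P`
  have hP' : ∀ x : G, ((ψ1 x : S2) : M2) 1 0 = 0 → ((ψ1 x : S2) : M2) 0 0 = 1 → x ∈ P := by
    intro x hx1 hx2
    let P' : Subgroup G := (Cfsg.Agent.Helper12.unipSL E).comap ψ1
    have hPP' : (P : Subgroup G) ≤ P' := fun z hz =>
      (Cfsg.Agent.Helper12.mem_unipSL_iff _).2 (hU z hz)
    have hP'p : IsPGroup p P' := by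
      rintro ⟨z, hz⟩
      refine ⟨1, ?_⟩
      apply Subtype.ext
      simp only [pow_one, Subgroup.coe_pow, Subgroup.coe_one]
      apply hinj1
      rw [map_pow, map_one]
      have hz' := (Cfsg.Agent.Helper12.mem_unipSL_iff _).1 hz
      rw [eq_uM (ψ1 z) hz'.1 hz'.2]
      exact uM_pow_char p _
    have := P.is_maximal' hP'p hPP'
    have hx : x ∈ P' := (Cfsg.Agent.Helper12.mem_unipSL_iff _).2 ⟨hx1, hx2⟩
    rw [this] at hx
    exact hx
  -- `P` is nontrivial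
  obtain ⟨x0, hx0P, hx01⟩ : ∃ x0 ∈ P, x0 ≠ 1 := by
    by_contra hcon
    push Not at hcon
    have hPbot : (P : Subgroup G) = ⊥ := by
      rw [Subgroup.eq_bot_iff_forall]; exact hcon
    have hcard : Nat.card (P : Subgroup G) = Nat.card (Q : Subgroup G) :=
      Nat.card_congr (Sylow.equiv P Q).toEquiv
    rw [hPbot, Subgroup.card_bot] at hcard
    have hQbot : (Q : Subgroup G) = ⊥ := Subgroup.card_eq_one.1 hcard.symm
    exact hPQ (Sylow.ext (hPbot.trans hQbot.symm))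
  set H1 : Subgroup S2 := ψ1.range with hH1
  have hsplit1 : ∀ g ∈ H1, ∃ μ : E, μ ^ 2 - tr g * μ + 1 = 0 := by
    rintro g ⟨x, rfl⟩
    rw [hψ1, tr_conj]
    exact hsplit x
  have hpar1 : ∀ g ∈ H1, IsPar g → ∃ h ∈ H1, ((h * g * h⁻¹ : S2) : M2) 1 0 = 0 := by
    rintro g ⟨x, rfl⟩ hg
    have hy : (x ^ 2) ^ p = 1 := by
      apply hinj1
      rw [map_pow, map_pow, map_one]
      exact sq_pow_eq_one_of_isPar p h2 _ hg
    obtain ⟨k, hk⟩ := hconj (x ^ 2) hy
    refine ⟨ψ1 k, ⟨k, rfl⟩, ?_⟩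
    have hk' := hU _ hk
    have e1 : ψ1 (k * x ^ 2 * k⁻¹) = (ψ1 k * ψ1 x * (ψ1 k)⁻¹) ^ 2 := by
      rw [conj_pow, map_mul, map_mul, map_pow, map_inv]
    set t := ψ1 k * ψ1 x * (ψ1 k)⁻¹ with ht
    have e2 : t ^ 2 = uM (((t ^ 2 : S2) : M2) 0 1) := by
      rw [← e1]
      exact eq_uM _ hk'.1 hk'.2
    have hne : ((t ^ 2 : S2) : M2) 0 1 ≠ 0 := by
      intro h0
      rw [h0, uM_zero] at e2
      have : (ψ1 x) ^ 2 = 1 := by
        have e3 : (ψ1 x) ^ 2 = (ψ1 k)⁻¹ * t ^ 2 * (ψ1 k)⁻¹⁻¹ := by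
          rw [ht, conj_pow]; group
        rw [e3, e2]; group
      exact sq_ne_one_of_isPar h2 _ hg this
    apply borel_of_commute_uM _ hne t
    rw [← e2, ← pow_succ', ← pow_succ]
  have hQ1 : 1 < Nat.card (Aset H1) := by
    have hx0 := hU x0 hx0P
    have e := eq_uM (ψ1 x0) hx0.1 hx0.2
    have hne : ((ψ1 x0 : S2) : M2) 0 1 ≠ 0 := by
      intro h0
      rw [h0, uM_zero] at e
      exact hx01 (hinj1 (e.trans (map_one ψ1).symm))
    have hmem : ((ψ1 x0 : S2) : M2) 0 1 ∈ Aset H1 := by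
      rw [mem_Aset, ← e]
      exact ⟨x0, rfl⟩
    rw [AddSubgroup.one_lt_card_iff_ne_bot]
    intro hbot
    rw [hbot, AddSubgroup.mem_bot] at hmem
    exact hne hmem
  have hn1 : 1 < (orb H1 (pinf : PL)).ncard := by
    rw [Set.one_lt_ncard_iff (Set.toFinite _)]
    have hmem : ψ1 y0 ∈ H1 := ⟨y0, rfl⟩
    refine ⟨pinf, ψ1 y0 • pinf, mem_orb_self _ _, ⟨ψ1 y0, hmem, rfl⟩, ?_⟩
    intro heq
    have h10 := (smul_pinf_eq_iff (ψ1 y0)).1 heq.symm
    have h00 := borel_diag_eq_one_of_pow p (ψ1 y0) h10 j (by rw [← map_pow, hy0j, map_one])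
    exact hy0P (hP' y0 h10 h00)
  obtain ⟨K1, hK1, ⟨e⟩⟩ := core p hp H1 hsplit1 hpar1 hQ1 hn1
  refine ⟨K1.comap ψ1, ⟨?_⟩⟩
  have h3 : (K1.comap ψ1).map ψ1 = K1 := Subgroup.map_comap_eq_self hK1
  exact ((K1.comap ψ1).equivMapOfInjective ψ1 hinj1).trans ((MulEquiv.subgroupCongr h3).trans e)

end Cfsg.Agent.Helper18.Dickson
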