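import Cfsg.Agent.Helper18.Dickson11
import Cfsg.Agent.Helper2.SL2Quaternion
import Cfsg.Agent.Helper20.QuatQuotB

/-! Sylow 2-subgroups of subgroups of `SL₂(q)` (q odd) with more than one Sylow `p`-subgroup are
generalized quaternion. -/

set_option autoImplicit false

namespace Cfsg.Agent.Helper18.Dickson

theorem sylow_two_quaternion {F : Type*} [Field F] [Fintype F] (p : ℕ) [Fact p.Prime] [CharP F p]
    (hp : p ≠ 2) (H : Subgroup (Matrix.SpecialLinearGroup (Fin 2) F))
    (hH : 1 < Nat.card (Sylow p H)) (S : Sylow 2 H) :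
    ∃ k : ℕ, 1 ≤ k ∧ Nonempty ((S : Subgroup H) ≃* QuaternionGroup (2 ^ k)) := by
  classical
  have hpp : p.Prime := Fact.out
  have h2 : (2 : F) ≠ 0 := two_ne_zero_of_char p hp
  have : Fact (Nat.Prime 2) := ⟨Nat.prime_two⟩
  obtain ⟨K, hKH, ⟨e⟩⟩ := exists_sl2p_subgroup p hp H hH
  -- a nonabelian 2-subgroup of `SL₂(p)`
  have hodd : Odd (Fintype.card (ZMod p)) := by
    rw [ZMod.card]
    exact hpp.odd_of_ne_two hp
  obtain ⟨T0⟩ : Nonempty (Sylow 2 (Matrix.SpecialLinearGroup (Fin 2) (ZMod p))) := inferInstance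
  obtain ⟨k0, hk0, ⟨e0⟩⟩ := Cfsg.Agent.Helper2.SL2Q.sylow_quaternion hodd T0
  have hm : 2 ≤ 2 ^ k0 := by
    calc 2 = 2 ^ 1 := by norm_num
      _ ≤ 2 ^ k0 := Nat.pow_le_pow_right (by norm_num) hk0
  set x0 := e0.symm (QuaternionGroup.xa 0) with hx0
  set y0 := e0.symm (QuaternionGroup.a 1) with hy0
  have hxy : x0 * y0 ≠ y0 * x0 := by
    intro h
    have := congrArg e0 h
    rw [map_mul, map_mul, hx0, hy0, MulEquiv.apply_symm_apply, MulEquiv.apply_symm_apply] at this
    exact Cfsg.Agent.Helper20.quat_xa_not_comm hm 0 this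
  -- transport into `H`
  let f : Matrix.SpecialLinearGroup (Fin 2) (ZMod p) →* H :=
    (Subgroup.inclusion hKH).comp e.symm.toMonoidHom
  have hf : Function.Injective f :=
    (Subgroup.inclusion_injective hKH).comp e.symm.injective
  have hT1 : IsPGroup 2 ((T0 : Subgroup _).map f) := T0.isPGroup'.map f
  obtain ⟨S', hS'⟩ := hT1.exists_le_sylow
  have hnc' : ¬ IsMulCommutative (S' : Subgroup H) := by
    intro hc
    apply hxy
    have h1 : f x0 ∈ (S' : Subgroup H) := hS' ⟨x0, x0.2, rfl⟩
    have h2 : f y0 ∈ (S' : Subgroup H) := hS' ⟨y0, y0.2, rfl⟩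
    have h3 := hc.is_comm.comm (⟨f x0, h1⟩ : (S' : Subgroup H)) ⟨f y0, h2⟩
    have h4 : f (x0 * y0) = f (y0 * x0) := by
      rw [map_mul, map_mul]
      exact congrArg Subtype.val h3
    have := hf h4
    exact_mod_cast this
  have hnc : ¬ IsMulCommutative (S : Subgroup H) := by
    intro hc
    apply hnc'
    let ee := Sylow.equiv S' S
    refine ⟨⟨fun a b => ?_⟩⟩
    apply ee.injective
    rw [map_mul, map_mul]
    exact hc.is_comm.comm _ _
  -- unique involution
  have hinv : ∀ x : (S : Subgroup H), orderOf x = 2 →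
      ((x : H) : Matrix.SpecialLinearGroup (Fin 2) F) = -1 := by
    intro x hx
    apply eq_neg_one_of_sq h2
    · intro h1
      have : x = 1 := by
        apply Subtype.ext
        apply Subtype.ext
        exact h1
      rw [this, orderOf_one] at hx
      norm_num at hx
    · have := pow_orderOf_eq_one x
      rw [hx, pow_two] at this
      have := congrArg (fun z : (S : Subgroup H) => ((z : H) : Matrix.SpecialLinearGroup (Fin 2) F)) this
      simpa using this
  have hnt : Nontrivial (S : Subgroup H) := by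
    by_contra hnt
    rw [not_nontrivial_iff_subsingleton] at hnt
    apply hnc
    exact ⟨⟨fun a b => Subsingleton.elim _ _⟩⟩
  have hu : ∃! x : (S : Subgroup H), orderOf x = 2 := by
    have hcard : 2 ∣ Nat.card (S : Subgroup H) := by
      obtain ⟨n, hn⟩ := S.isPGroup'.exists_card_eq
      rw [hn]
      have : n ≠ 0 := by
        intro h0
        rw [h0, pow_zero] at hn
        have := Finite.one_lt_card_iff_nontrivial.2 hnt
        omega
      exact dvd_pow_self 2 this
    obtain ⟨x, hx⟩ := exists_prime_orderOf_dvd_card' (G := (S : Subgroup H)) 2 hcard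
    refine ⟨x, hx, ?_⟩
    intro y hy
    apply Subtype.ext
    apply Subtype.ext
    rw [hinv y hy, hinv x hx]
  exact Cfsg.Agent.Helper20.exists_quat_iso S.isPGroup' hnc hu

end Cfsg.Agent.Helper18.Dickson
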