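import Cfsg.Agent.Helper18.Dickson12

/-! Dickson-type counting, part 14: structure in the doubly transitive case: the set of
`a` with `uM a ∈ H` is a subfield (when `lM 1 ∈ H`). -/

set_option autoImplicit false

open scoped LinearAlgebra.Projectivization

namespace Cfsg.Agent.Helper18.Dickson

variable {E : Type*} [Field E]

local notation "S2" => Matrix.SpecialLinearGroup (Fin 2) E
local notation "M2" => Matrix (Fin 2) (Fin 2) E
local notation "PL" => ℙ E (Fin 2 → E)

theorem tr_lM (a : E) : tr (lM a) = 2 := by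
  unfold tr; simp [lM_coe]; norm_num

theorem lM_smul_pt_zero (b : E) : lM b • (pt 0 : PL) = pt 0 := by
  rw [smul_pt_of_ne _ _ (by simp [lM_coe])]
  simp [lM_coe]

theorem not_isPM_lM (h2 : (2 : E) ≠ 0) (a : E) (ha : a ≠ 0) : ¬ IsPM (lM a) := by
  rintro (h | h)
  · have := congrFun (congrFun h 1) 0
    simp [lM_coe] at this
    exact ha this
  · have := congrFun (congrFun h 0) 0
    simp [lM_coe] at this
    apply h2
    linear_combination this

theorem isPar_lM (h2 : (2 : E) ≠ 0) (a : E) (ha : a ≠ 0) : IsPar (lM a) :=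
  ⟨not_isPM_lM h2 a ha, by rw [tr_lM]; norm_num⟩

/-- the only fixed point of a nontrivial lower unitriangular element is `[0:1]` -/
theorem lM_fix (b : E) (hb : b ≠ 0) (x : PL) (hx : lM b • x = x) : x = pt 0 := by
  rcases eq_pinf_or_pt x with rfl | ⟨y, rfl⟩
  · rw [lM_smul_pinf b hb] at hx
    exact absurd hx (pt_ne_pinf _)
  · by_cases h : b * y + 1 = 0
    · rw [smul_pt_of_eq _ _ (by simpa [lM_coe] using h)] at hx
      exact absurd hx (pinf_ne_pt _)
    · rw [smul_pt_of_ne _ _ (by simpa [lM_coe] using h), pt_eq_pt_iff] at hx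
      simp only [lM_coe, Matrix.of_apply, Matrix.cons_val', Matrix.cons_val_zero,
        Matrix.cons_val_one, Matrix.cons_val_fin_one, one_mul, add_zero] at hx
      rw [div_eq_iff h] at hx
      have h3 : b * y ^ 2 = 0 := by linear_combination -hx
      rcases mul_eq_zero.1 h3 with h4 | h4
      · exact absurd h4 hb
      · rw [pow_eq_zero_iff (two_ne_zero)] at h4
        rw [h4]

/-- `[[0,a],[-1/a,0]]` -/
theorem wM_eq (a : E) (ha : a ≠ 0) :
    ((uM a * lM (-(1 / a)) * uM a : S2) : M2) = !![0, a; -(1 / a), 0] := by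
  rw [Matrix.SpecialLinearGroup.coe_mul, Matrix.SpecialLinearGroup.coe_mul, uM_coe, lM_coe]
  ext i j
  fin_cases i <;> fin_cases j <;> simp [Matrix.mul_apply, Fin.sum_univ_two]
  · rw [mul_inv_cancel₀ ha]; ring
  · left; rw [mul_inv_cancel₀ ha]; ring
  · rw [inv_mul_cancel₀ ha]; ring

theorem wM_smul_pt (a x : E) (ha : a ≠ 0) (hx : x ≠ 0) :
    (uM a * lM (-(1 / a)) * uM a : S2) • (pt x : PL) = pt (-(a ^ 2) / x) := by
  have h1 : ((uM a * lM (-(1 / a)) * uM a : S2) : M2) 1 0 * x +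
      ((uM a * lM (-(1 / a)) * uM a : S2) : M2) 1 1 ≠ 0 := by
    rw [wM_eq a ha]
    simp only [Matrix.of_apply, Matrix.cons_val', Matrix.cons_val_zero,
      Matrix.cons_val_one, Matrix.cons_val_fin_one, add_zero]
    intro h
    field_simp at h
    exact hx (by linear_combination -h)
  rw [smul_pt_of_ne _ _ h1, pt_eq_pt_iff, wM_eq a ha]
  simp only [Matrix.of_apply, Matrix.cons_val', Matrix.cons_val_zero,
    Matrix.cons_val_one, Matrix.cons_val_fin_one, add_zero, zero_mul, zero_add]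
  field_simp

/-- non-exceptional case: the orbit of `∞` has `Q + 1` points -/
theorem orb_card_of_nonexc [Finite E] (p : ℕ) [Fact p.Prime] [CharP E p] (hp : p ≠ 2)
    (H : Subgroup S2)
    (hsplit : ∀ g ∈ H, ∃ μ : E, μ ^ 2 - tr g * μ + 1 = 0)
    (hpar : ∀ g ∈ H, IsPar g → ∃ h ∈ H, ((h * g * h⁻¹ : S2) : M2) 1 0 = 0)
    (hQ : 1 < Nat.card (Aset H)) (hn : 1 < (orb H pinf).ncard)
    (hex : p = 3 → Nat.card H ≠ 120) :
    (orb H pinf).ncard = Nat.card (Aset H) + 1 := by
  have hpp : p.Prime := Fact.out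
  have h2 : (2 : E) ≠ 0 := two_ne_zero_of_char p hp
  obtain ⟨k, d, m, e, hnk, hk1, hd1, hd2, hst, hm, hme⟩ := counting p hp H hsplit hpar hQ hn
  obtain ⟨a0, ha0, ha00⟩ := exists_ne_zero_of_card (Aset H) hQ
  have hpQ : p ∣ Nat.card (Aset H) := p_dvd_card_of_ne_zero p (Aset H) a0 ha0 ha00
  have hp3 : 3 ≤ p := by
    have := hpp.two_le
    omega
  have hQ3 : 3 ≤ Nat.card (Aset H) := le_trans hp3 (Nat.le_of_dvd (by omega) hpQ)
  rcases dickson_arith _ k d e m _ hQ3 hk1 hnk hd1 hd2 hm hme with h1 | ⟨hQe, hke, hde, _⟩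
  · rw [h1, one_mul, add_comm] at hnk
    exact hnk
  · exfalso
    have hp3' : p = 3 := by
      rw [hQe] at hpQ
      exact (Nat.prime_dvd_prime_iff_eq hpp Nat.prime_three).1 hpQ
    have hex' := hex hp3'
    subst hp3'
    have hHcard : Nat.card H = 60 * tot H IsPM := by
      rw [← orb_mul_stN H pinf, hnk, hst, hQe, hke, hde]; ring
    have hz2 : tot H IsPM = 2 := by
      rcases tot_pm_pos 3 hp H with h1 | h1
      · exfalso
        rw [h1] at hHcard
        have : Fact (Nat.Prime 2) := ⟨Nat.prime_two⟩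
        obtain ⟨g, hg⟩ := exists_prime_orderOf_dvd_card' (G := H) 2 (by rw [hHcard]; norm_num)
        have hg1 : (g : S2) ≠ 1 := by
          intro h0
          have : g = 1 := Subtype.ext h0
          rw [this, orderOf_one] at hg
          norm_num at hg
        have hgg : (g : S2) * (g : S2) = 1 := by
          have := pow_orderOf_eq_one g
          rw [hg, pow_two] at this
          have := congrArg Subtype.val this
          simpa using this
        have hm1 := eq_neg_one_of_sq h2 (g : S2) hg1 hgg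
        have : (-1 : S2) ∈ H := hm1 ▸ g.2
        rw [tot_pm_of_mem h2 H this] at h1
        norm_num at h1
      · exact h1
    rw [hz2] at hHcard
    exact hex' hHcard

/-- if the orbit of `∞` has `Q + 1` points and contains `[c:1]`, it is `{∞} ∪ (c + A)` -/
theorem orb_eq_of_card [Finite E] (H : Subgroup S2)
    (hn : (orb H pinf).ncard = Nat.card (Aset H) + 1) (h : S2) (hh : h ∈ H) (c : E)
    (hc : h • (pinf : PL) = pt c) :
    orb H (pinf : PL) =
      insert (pinf : PL) (Set.range (fun a : Aset H => (pt (c + a.1) : PL))) := by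
  classical
  have hsub : insert (pinf : PL) (Set.range (fun a : Aset H => (pt (c + a.1) : PL))) ⊆
      orb H pinf := by
    intro y hy
    rcases hy with rfl | ⟨a, rfl⟩
    · exact mem_orb_self H _
    · refine ⟨uM a.1 * h, H.mul_mem a.2 hh, ?_⟩
      rw [mul_smul, hc, uM_smul_pt]
  have hcard : (insert (pinf : PL) (Set.range (fun a : Aset H => (pt (c + a.1) : PL)))).ncard =
      Nat.card (Aset H) + 1 := by
    rw [Set.ncard_insert_of_notMem]
    · congr 1
      rw [← Nat.card_coe_set_eq]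
      apply Nat.card_congr
      symm
      apply Equiv.ofInjective
      intro a b hab
      simp only [pt_eq_pt_iff, add_right_inj] at hab
      exact Subtype.ext hab
    · rintro ⟨a, ha⟩
      exact pt_ne_pinf _ ha
  symm
  apply Set.eq_of_subset_of_ncard_le hsub _ (Set.toFinite _)
  rw [hcard, hn]

/-- **Structure in the doubly transitive case.** -/
theorem struct_one [Finite E] (h2 : (2 : E) ≠ 0) (H : Subgroup S2)
    (hpar : ∀ g ∈ H, IsPar g → ∃ h ∈ H, ((h * g * h⁻¹ : S2) : M2) 1 0 = 0)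
    (hn : (orb H pinf).ncard = Nat.card (Aset H) + 1) (hl : lM 1 ∈ H) :
    (∀ x : E, pt x ∈ orb H (pinf : PL) ↔ uM x ∈ H) ∧
    (∀ a : E, a ≠ 0 → uM a ∈ H → lM (1 / a) ∈ H) ∧
    (∀ b : E, b ≠ 0 → lM b ∈ H → uM (1 / b) ∈ H) := by
  classical
  -- `[0:1]` is in the orbit
  obtain ⟨h0, hh0, hc0⟩ : ∃ h ∈ H, h • (pinf : PL) = pt 0 := by
    obtain ⟨h, hh, hb⟩ := hpar (lM 1) hl (isPar_lM h2 1 one_ne_zero)
    have h1 := smul_pinf_of_eq _ hb
    rw [mul_smul, mul_smul] at h1
    have h3 : lM (1 : E) • (h⁻¹ • (pinf : PL)) = h⁻¹ • pinf := by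
      have := congrArg (fun y => h⁻¹ • y) h1
      simpa using this
    exact ⟨h⁻¹, H.inv_mem hh, lM_fix 1 one_ne_zero _ h3⟩
  have horb := orb_eq_of_card H hn h0 hh0 0 hc0
  have hmem : ∀ x : E, pt x ∈ orb H (pinf : PL) ↔ uM x ∈ H := by
    intro x
    rw [horb]
    constructor
    · rintro (h | ⟨a, ha⟩)
      · exact absurd h (pt_ne_pinf _)
      · simp only [zero_add, pt_eq_pt_iff] at ha
        rw [← ha]; exact a.2
    · intro hx
      right
      exact ⟨⟨x, hx⟩, by simp⟩
  have hinv2 : ∀ b : E, b ≠ 0 → lM b ∈ H → uM (1 / b) ∈ H := by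
    intro b hb hbH
    rw [← hmem, ← lM_smul_pinf b hb]
    exact ⟨lM b, hbH, rfl⟩
  refine ⟨hmem, ?_, hinv2⟩
  -- conjugation by `h0` maps `uM a` to a lower unitriangular element
  have hconj : ∀ a : E, uM a ∈ H → h0 * uM a * h0⁻¹ = lM (((h0 * uM a * h0⁻¹ : S2) : M2) 1 0) := by
    intro a ha
    apply eq_lM_of_fix
    · rw [tr_conj, tr_uM]
    · rw [mul_smul, mul_smul, ← hc0, inv_smul_smul, uM_smul_pinf]
  let T := {a : E // uM a ∈ H ∧ a ≠ 0}
  have hbne : ∀ a : T, ((h0 * uM a.1 * h0⁻¹ : S2) : M2) 1 0 ≠ 0 := by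
    intro a h0'
    have := hconj a.1 a.2.1
    rw [h0', lM_zero] at this
    have h3 : uM a.1 = 1 := by
      have e : uM a.1 = h0⁻¹ * (h0 * uM a.1 * h0⁻¹) * h0 := by group
      rw [e, this]; group
    exact a.2.2 ((uM_eq_one_iff _).1 h3)
  let f : T → T := fun a => ⟨1 / ((h0 * uM a.1 * h0⁻¹ : S2) : M2) 1 0, by
    refine ⟨?_, ?_⟩
    · apply hinv2 _ (hbne a)
      rw [← hconj a.1 a.2.1]
      exact H.mul_mem (H.mul_mem hh0 a.2.1) (H.inv_mem hh0)
    · exact one_div_ne_zero (hbne a)⟩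
  have hfinj : Function.Injective f := by
    intro a b hab
    have h1 : (1 : E) / ((h0 * uM a.1 * h0⁻¹ : S2) : M2) 1 0 =
        1 / ((h0 * uM b.1 * h0⁻¹ : S2) : M2) 1 0 := congrArg Subtype.val hab
    have h3 : ((h0 * uM a.1 * h0⁻¹ : S2) : M2) 1 0 = ((h0 * uM b.1 * h0⁻¹ : S2) : M2) 1 0 := by
      have := congrArg (fun x => 1 / x) h1
      simpa using this
    have h4 : h0 * uM a.1 * h0⁻¹ = h0 * uM b.1 * h0⁻¹ := by
      rw [hconj a.1 a.2.1, hconj b.1 b.2.1, h3]
    have h5 : uM a.1 = uM b.1 := by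
      have := congrArg (fun x => h0⁻¹ * x * h0) h4
      simpa [mul_assoc] using this
    exact Subtype.ext (uM_injective h5)
  have hfin : Finite T := Finite.of_injective (fun a : T => a.1) (fun a b h => Subtype.ext h)
  have hfsurj : Function.Surjective f := Finite.injective_iff_surjective.1 hfinj
  intro a ha haH
  obtain ⟨a0, ha0⟩ := hfsurj ⟨a, haH, ha⟩
  have h1 : (1 : E) / ((h0 * uM a0.1 * h0⁻¹ : S2) : M2) 1 0 = a := congrArg Subtype.val ha0
  have h3 : (1 : E) / a = ((h0 * uM a0.1 * h0⁻¹ : S2) : M2) 1 0 := by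
    rw [← h1]; simp
  rw [h3, ← hconj a0.1 a0.2.1]
  exact H.mul_mem (H.mul_mem hh0 a0.2.1) (H.inv_mem hh0)

end Cfsg.Agent.Helper18.Dickson
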