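import Cfsg.Agent.Helper18.Dickson14

/-! Dickson-type counting, part 15: the subfield of unipotent parameters. -/

set_option autoImplicit false

open scoped LinearAlgebra.Projectivization

namespace Cfsg.Agent.Helper18.Dickson

variable {E : Type*} [Field E]

local notation "S2" => Matrix.SpecialLinearGroup (Fin 2) E
local notation "M2" => Matrix (Fin 2) (Fin 2) E
local notation "PL" => ℙ E (Fin 2 → E)

/-- **Subfield structure in the doubly transitive case.** -/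
theorem struct_field [Finite E] (p : ℕ) [Fact p.Prime] [CharP E p] (hp : p ≠ 2) (H : Subgroup S2)
    (hpar : ∀ g ∈ H, IsPar g → ∃ h ∈ H, ((h * g * h⁻¹ : S2) : M2) 1 0 = 0)
    (hn : (orb H pinf).ncard = Nat.card (Aset H) + 1) (hl : lM 1 ∈ H) :
    uM 1 ∈ H ∧ (∀ a b : E, uM a ∈ H → uM b ∈ H → uM (a * b) ∈ H) ∧
    (∀ a : E, a ≠ 0 → uM a ∈ H → uM (1 / a) ∈ H) ∧
    (∀ g ∈ H, (g : M2) 1 0 = 0 → uM ((g : M2) 0 0 * (g : M2) 0 1) ∈ H) ∧
    (∀ g ∈ H, (g : M2) 1 0 ≠ 0 → uM ((g : M2) 0 0 / (g : M2) 1 0) ∈ H) := by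
  have h2 : (2 : E) ≠ 0 := two_ne_zero_of_char p hp
  obtain ⟨hmem, hinv1, hinv2⟩ := struct_one h2 H hpar hn hl
  have h1 : uM (1 : E) ∈ H := by
    have := hinv2 1 one_ne_zero hl
    simpa using this
  have hneg : ∀ a : E, uM a ∈ H → uM (-a) ∈ H := by
    intro a ha
    rw [← uM_inv]; exact H.inv_mem ha
  have hadd : ∀ a b : E, uM a ∈ H → uM b ∈ H → uM (a + b) ∈ H := by
    intro a b ha hb
    rw [← uM_mul]; exact H.mul_mem ha hb
  -- `x ↦ -a²/x`
  have hw : ∀ a x : E, a ≠ 0 → x ≠ 0 → uM a ∈ H → uM x ∈ H → uM (-(a ^ 2) / x) ∈ H := by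
    intro a x ha hx haH hxH
    rw [← hmem, ← wM_smul_pt a x ha hx]
    have hwH : (uM a * lM (-(1 / a)) * uM a : S2) ∈ H := by
      refine H.mul_mem (H.mul_mem haH ?_) haH
      have : -(1 / a) = 1 / (-a) := by
        field_simp
      rw [this]
      exact hinv1 (-a) (neg_ne_zero.2 ha) (hneg a haH)
    obtain ⟨h, hh, hhx⟩ := (hmem x).2 hxH
    exact ⟨(uM a * lM (-(1 / a)) * uM a) * h, H.mul_mem hwH hh, by rw [mul_smul, hhx]⟩
  have hinv : ∀ a : E, a ≠ 0 → uM a ∈ H → uM (1 / a) ∈ H := by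
    intro a ha haH
    have := hneg _ (hw 1 a one_ne_zero ha h1 haH)
    have e : -(-(1 : E) ^ 2 / a) = 1 / a := by
      field_simp
    rw [e] at this
    exact this
  have hsqmul : ∀ a y : E, uM a ∈ H → uM y ∈ H → uM (a ^ 2 * y) ∈ H := by
    intro a y haH hyH
    by_cases ha : a = 0
    · rw [ha]; simpa [uM_zero] using H.one_mem
    by_cases hy : y = 0
    · rw [hy]; simpa [uM_zero] using H.one_mem
    have h3 := hneg _ (hw a (1 / y) ha (one_div_ne_zero hy) haH (hinv y hy hyH))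
    have e : -(-(a ^ 2) / (1 / y)) = a ^ 2 * y := by
      field_simp
    rw [e] at h3
    exact h3
  have hsq : ∀ a : E, uM a ∈ H → uM (a ^ 2) ∈ H := by
    intro a haH
    have := hsqmul a 1 haH h1
    rwa [mul_one] at this
  have hnsmul : ∀ (n : ℕ) (a : E), uM a ∈ H → uM (n * a) ∈ H := by
    intro n a haH
    rw [← uM_pow]; exact H.pow_mem haH n
  have hmul : ∀ a b : E, uM a ∈ H → uM b ∈ H → uM (a * b) ∈ H := by
    intro a b haH hbH
    have h3 : uM ((a + b) ^ 2 + (-(a ^ 2) + -(b ^ 2))) ∈ H :=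
      hadd _ _ (hsq _ (hadd a b haH hbH)) (hadd _ _ (hneg _ (hsq a haH)) (hneg _ (hsq b hbH)))
    have hpp : p.Prime := Fact.out
    have hodd : Odd p := hpp.odd_of_ne_two hp
    obtain ⟨m, hm⟩ := hodd
    have h4 := hnsmul (m + 1) _ h3
    have e : ((m + 1 : ℕ) : E) * ((a + b) ^ 2 + (-(a ^ 2) + -(b ^ 2))) = a * b := by
      have hp0 : ((p : ℕ) : E) = 0 := CharP.cast_eq_zero E p
      rw [hm] at hp0
      push_cast at hp0 ⊢
      linear_combination (a * b) * hp0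
    rw [e] at h4
    exact h4
  refine ⟨h1, hmul, hinv, ?_, ?_⟩
  · intro g hg hg10
    rw [← hmem]
    have h0 : (pt 0 : PL) ∈ orb H pinf := by
      rw [hmem]; simpa [uM_zero] using H.one_mem
    obtain ⟨h, hh, hh0⟩ := h0
    refine ⟨g * h, H.mul_mem hg hh, ?_⟩
    rw [mul_smul, hh0, borel_smul_pt g hg10]
    congr 1
    ring
  · intro g hg hg10
    rw [← hmem, ← smul_pinf_of_ne g hg10]
    exact ⟨g, hg, rfl⟩

/-- The subfield of `a` with `uM a ∈ H`. -/
def Kfield (H : Subgroup S2) (h1 : uM 1 ∈ H)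
    (hmul : ∀ a b : E, uM a ∈ H → uM b ∈ H → uM (a * b) ∈ H)
    (hinv : ∀ a : E, a ≠ 0 → uM a ∈ H → uM (1 / a) ∈ H) : Subfield E where
  carrier := {a | uM a ∈ H}
  mul_mem' := fun {a b} ha hb => hmul a b ha hb
  one_mem' := h1
  add_mem' := fun {a b} ha hb => (Aset H).add_mem ha hb
  zero_mem' := (Aset H).zero_mem
  neg_mem' := fun {a} ha => (Aset H).neg_mem ha
  inv_mem' := by
    intro a ha
    by_cases h0 : a = 0
    · rw [h0, inv_zero]; exact (Aset H).zero_mem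
    · have := hinv a h0 ha
      rwa [one_div] at this

theorem mem_Kfield (H : Subgroup S2) (h1 : uM 1 ∈ H)
    (hmul : ∀ a b : E, uM a ∈ H → uM b ∈ H → uM (a * b) ∈ H)
    (hinv : ∀ a : E, a ≠ 0 → uM a ∈ H → uM (1 / a) ∈ H) (x : E) :
    x ∈ Kfield H h1 hmul hinv ↔ uM x ∈ H := Iff.rfl

end Cfsg.Agent.Helper18.Dickson
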