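import Cfsg.Agent.Helper18.Dickson15

/-! Dickson-type counting, part 16: hypotheses of the counting theorem from an injective hom;
`p`-subgroups containing a nontrivial upper unitriangular element. -/

set_option autoImplicit false

open scoped LinearAlgebra.Projectivization

namespace Cfsg.Agent.Helper18.Dickson

section coreE

variable {E : Type*} [Field E]

local notation "S2" => Matrix.SpecialLinearGroup (Fin 2) E
local notation "M2" => Matrix (Fin 2) (Fin 2) E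
local notation "PL" => ℙ E (Fin 2 → E)

/-- The hypotheses of the counting theorem, from an injective hom of a finite group with two Sylow
`p`-subgroups into `SL₂(E)`, one of which is mapped into the upper unitriangular group. -/
theorem hyps_of_hom_unip [Finite E] (p : ℕ) [Fact p.Prime] [CharP E p] (hp : p ≠ 2)
    {G : Type*} [Group G] [Finite G] (ψ1 : G →* S2) (hinj1 : Function.Injective ψ1)
    (hsplit : ∀ x : G, ∃ μ : E, μ ^ 2 - tr (ψ1 x) * μ + 1 = 0)
    (P Q : Sylow p G) (hPQ : P ≠ Q)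
    (hU : ∀ x ∈ P, ((ψ1 x : S2) : M2) 1 0 = 0 ∧ ((ψ1 x : S2) : M2) 0 0 = 1) :
    (∀ g ∈ ψ1.range, ∃ μ : E, μ ^ 2 - tr g * μ + 1 = 0) ∧
    (∀ g ∈ ψ1.range, IsPar g → ∃ h ∈ ψ1.range, ((h * g * h⁻¹ : S2) : M2) 1 0 = 0) ∧
    1 < Nat.card (Aset ψ1.range) ∧ 1 < (orb ψ1.range (pinf : PL)).ncard := by
  classical
  have : Fintype E := Fintype.ofFinite _
  have hpp : p.Prime := Fact.out
  have h2 := two_ne_zero_of_char (E := E) p hp
  -- `p`-elements are conjugate into `P`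
  have hconj : ∀ y : G, y ^ p = 1 → ∃ k : G, k * y * k⁻¹ ∈ P := by
    intro y hy
    have hyp : IsPGroup p (Subgroup.zpowers y) := by
      intro x
      obtain ⟨x, hx⟩ := x
      obtain ⟨j, rfl⟩ := Subgroup.mem_zpowers_iff.1 hx
      refine ⟨1, ?_⟩
      apply Subtype.ext
      simp only [pow_one, Subgroup.coe_pow, Subgroup.coe_one]
      rw [← zpow_natCast, ← zpow_mul, mul_comm, zpow_mul, zpow_natCast, hy, one_zpow]
    obtain ⟨R, hR⟩ := hyp.exists_le_sylow
    obtain ⟨k, hk⟩ := MulAction.exists_smul_eq G R P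
    refine ⟨k, ?_⟩
    have h1 : y ∈ (R : Subgroup G) := hR (Subgroup.mem_zpowers y)
    have h3 : k * y * k⁻¹ ∈ ((k • R : Sylow p G) : Subgroup G) := by
      rw [Sylow.coe_subgroup_smul, Subgroup.mem_pointwise_smul_iff_inv_smul_mem]
      simpa [MulAut.smul_def, mul_assoc] using h1
    rw [hk] at h3
    exact h3
  -- an element of `Q` outside `P`
  obtain ⟨y0, hy0Q, hy0P⟩ : ∃ y0 ∈ Q, y0 ∉ P := by
    by_contra hcon
    push Not at hcon
    apply hPQ
    have : (P : Subgroup G) = (Q : Subgroup G) := Q.is_maximal' P.isPGroup' hcon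
    exact Sylow.ext this
  obtain ⟨j, hj⟩ := Q.isPGroup' ⟨y0, hy0Q⟩
  have hy0j : y0 ^ (p ^ j) = 1 := by
    have := congrArg Subtype.val hj
    simpa using this
  -- the preimage of `U` is `P`
  have hP' : ∀ x : G, ((ψ1 x : S2) : M2) 1 0 = 0 → ((ψ1 x : S2) : M2) 0 0 = 1 → x ∈ P := by
    intro x hx1 hx2
    let P' : Subgroup G := (Cfsg.Agent.Helper12.unipSL E).comap ψ1
    have hPP' : (P : Subgroup G) ≤ P' := fun z hz =>
      (Cfsg.Agent.Helper12.mem_unipSL_iff _).2 (hU z hz)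
    have hP'p : IsPGroup p P' := by
      rintro ⟨z, hz⟩
      refine ⟨1, ?_⟩
      apply Subtype.ext
      simp only [pow_one, Subgroup.coe_pow, Subgroup.coe_one]
      apply hinj1
      rw [map_pow, map_one]
      have hz' := (Cfsg.Agent.Helper12.mem_unipSL_iff _).1 hz
      rw [eq_uM (ψ1 z) hz'.1 hz'.2]
      exact uM_pow_char p _
    have := P.is_maximal' hP'p hPP'
    have hx : x ∈ P' := (Cfsg.Agent.Helper12.mem_unipSL_iff _).2 ⟨hx1, hx2⟩
    rw [this] at hx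
    exact hx
  -- `P` is nontrivial
  obtain ⟨x0, hx0P, hx01⟩ : ∃ x0 ∈ P, x0 ≠ 1 := by
    by_contra hcon
    push Not at hcon
    have hPbot : (P : Subgroup G) = ⊥ := by
      rw [Subgroup.eq_bot_iff_forall]; exact hcon
    have hcard : Nat.card (P : Subgroup G) = Nat.card (Q : Subgroup G) :=
      Nat.card_congr (Sylow.equiv P Q).toEquiv
    rw [hPbot, Subgroup.card_bot] at hcard
    have hQbot : (Q : Subgroup G) = ⊥ := Subgroup.card_eq_one.1 hcard.symm
    exact hPQ (Sylow.ext (hPbot.trans hQbot.symm))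
  set H1 : Subgroup S2 := ψ1.range with hH1
  have hsplit1 : ∀ g ∈ H1, ∃ μ : E, μ ^ 2 - tr g * μ + 1 = 0 := by
    rintro g ⟨x, rfl⟩
    exact hsplit x
  have hpar1 : ∀ g ∈ H1, IsPar g → ∃ h ∈ H1, ((h * g * h⁻¹ : S2) : M2) 1 0 = 0 := by
    rintro g ⟨x, rfl⟩ hg
    have hy : (x ^ 2) ^ p = 1 := by
      apply hinj1
      rw [map_pow, map_pow, map_one]
      exact sq_pow_eq_one_of_isPar p h2 _ hg
    obtain ⟨k, hk⟩ := hconj (x ^ 2) hy
    refine ⟨ψ1 k, ⟨k, rfl⟩, ?_⟩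
    have hk' := hU _ hk
    have e1 : ψ1 (k * x ^ 2 * k⁻¹) = (ψ1 k * ψ1 x * (ψ1 k)⁻¹) ^ 2 := by
      rw [conj_pow, map_mul, map_mul, map_pow, map_inv]
    set t := ψ1 k * ψ1 x * (ψ1 k)⁻¹ with ht
    have e2 : t ^ 2 = uM (((t ^ 2 : S2) : M2) 0 1) := by
      rw [← e1]
      exact eq_uM _ hk'.1 hk'.2
    have hne : ((t ^ 2 : S2) : M2) 0 1 ≠ 0 := by
      intro h0
      rw [h0, uM_zero] at e2
      have : (ψ1 x) ^ 2 = 1 := by
        have e3 : (ψ1 x) ^ 2 = (ψ1 k)⁻¹ * t ^ 2 * (ψ1 k)⁻¹⁻¹ := by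
          rw [ht, conj_pow]; group
        rw [e3, e2]; group
      exact sq_ne_one_of_isPar h2 _ hg this
    apply borel_of_commute_uM _ hne t
    rw [← e2, ← pow_succ', ← pow_succ]
  have hQ1 : 1 < Nat.card (Aset H1) := by
    have hx0 := hU x0 hx0P
    have e := eq_uM (ψ1 x0) hx0.1 hx0.2
    have hne : ((ψ1 x0 : S2) : M2) 0 1 ≠ 0 := by
      intro h0
      rw [h0, uM_zero] at e
      exact hx01 (hinj1 (e.trans (map_one ψ1).symm))
    have hmem : ((ψ1 x0 : S2) : M2) 0 1 ∈ Aset H1 := by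
      rw [mem_Aset, ← e]
      exact ⟨x0, rfl⟩
    rw [AddSubgroup.one_lt_card_iff_ne_bot]
    intro hbot
    rw [hbot, AddSubgroup.mem_bot] at hmem
    exact hne hmem
  have hn1 : 1 < (orb H1 (pinf : PL)).ncard := by
    rw [Set.one_lt_ncard_iff (Set.toFinite _)]
    have hmem : ψ1 y0 ∈ H1 := ⟨y0, rfl⟩
    refine ⟨pinf, ψ1 y0 • pinf, mem_orb_self _ _, ⟨ψ1 y0, hmem, rfl⟩, ?_⟩
    intro heq
    have h10 := (smul_pinf_eq_iff (ψ1 y0)).1 heq.symm
    have h00 := borel_diag_eq_one_of_pow p (ψ1 y0) h10 j (by rw [← map_pow, hy0j, map_one])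
    exact hy0P (hP' y0 h10 h00)
  exact ⟨hsplit1, hpar1, hQ1, hn1⟩

end coreE

section rational

variable {F : Type*} [Field F]

local notation "SF" => Matrix.SpecialLinearGroup (Fin 2) F
local notation "MF" => Matrix (Fin 2) (Fin 2) F

/-- if `g * uM a = uM b * g` with `a ≠ 0` then `g` is upper triangular -/
theorem borel_of_conj_uM (a b : F) (ha : a ≠ 0) (g : SF) (h : g * uM a = uM b * g) :
    (g : MF) 1 0 = 0 := by
  have h1 := congrArg (fun x : SF => (x : MF) 1 1) h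
  simp only [Matrix.SpecialLinearGroup.coe_mul, uM_coe, Matrix.mul_apply, Fin.sum_univ_two,
    Matrix.of_apply, Matrix.cons_val', Matrix.cons_val_zero, Matrix.cons_val_one,
    Matrix.cons_val_fin_one] at h1
  have h3 : (g : MF) 1 0 * a = 0 := by linear_combination h1
  rcases mul_eq_zero.1 h3 with h4 | h4
  · exact h4
  · exact absurd h4 ha

/-- a `p`-subgroup of `SL₂(F)` containing a nontrivial upper unitriangular element is upper
unitriangular -/
theorem pgroup_le_unip [Finite F] (p : ℕ) [Fact p.Prime] [CharP F p] (P : Subgroup SF)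
    (hP : IsPGroup p P) (a0 : F) (ha0 : a0 ≠ 0) (hu : uM a0 ∈ P) :
    ∀ x ∈ P, (x : MF) 1 0 = 0 ∧ (x : MF) 0 0 = 1 := by
  classical
  have : Fintype F := Fintype.ofFinite _
  obtain ⟨S, hS⟩ := hP.exists_le_sylow
  obtain ⟨g0, hg0⟩ := Cfsg.Agent.Helper12.exists_conj_sylow_eq_unipSL p S
  have hconj : ∀ x ∈ P, g0 * x * g0⁻¹ ∈ Cfsg.Agent.Helper12.unipSL F := by
    intro x hx
    rw [← hg0]
    exact ⟨x, hS hx, rfl⟩
  have h1 := (Cfsg.Agent.Helper12.mem_unipSL_iff _).1 (hconj _ hu)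
  have e := eq_uM _ h1.1 h1.2
  have hg : (g0 : MF) 1 0 = 0 := by
    apply borel_of_conj_uM a0 _ ha0 g0
    rw [← e]; group
  have hgi : ((g0⁻¹ : SF) : MF) 1 0 = 0 := by
    rw [← mem_Bsub]
    exact (Bsub F).inv_mem ((mem_Bsub g0).2 hg)
  intro x hx
  have h3 := (Cfsg.Agent.Helper12.mem_unipSL_iff _).1 (hconj x hx)
  have e3 := eq_uM _ h3.1 h3.2
  have e4 : x = g0⁻¹ * (g0 * x * g0⁻¹) * g0⁻¹⁻¹ := by group
  rw [e4, e3, conj_uM _ hgi]
  simp [uM_coe]

end rational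

end Cfsg.Agent.Helper18.Dickson
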