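import Cfsg.Agent.Helper18.Dickson16

/-! Dickson-type counting, part 17: the structure theorem for subgroups of `SL₂(F)` containing
`lM 1` and a nontrivial `uM a` (outside the exceptional case): the unipotent parameters form a
subfield `K`, and `|H| = (|K| + 1) |H ∩ B|`. -/

set_option autoImplicit false

open scoped LinearAlgebra.Projectivization

namespace Cfsg.Agent.Helper18.Dickson

section rational

variable {F : Type*} [Field F]

local notation "SF" => Matrix.SpecialLinearGroup (Fin 2) F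
local notation "MF" => Matrix (Fin 2) (Fin 2) F

theorem isPGroup_zpowers_of_pow (p : ℕ) {G : Type*} [Group G] (y : G) (hy : y ^ p = 1) :
    IsPGroup p (Subgroup.zpowers y) := by
  intro x
  obtain ⟨x, hx⟩ := x
  obtain ⟨j, rfl⟩ := Subgroup.mem_zpowers_iff.1 hx
  refine ⟨1, ?_⟩
  apply Subtype.ext
  simp only [pow_one, Subgroup.coe_pow, Subgroup.coe_one]
  rw [← zpow_natCast, ← zpow_mul, mul_comm, zpow_mul, zpow_natCast, hy, one_zpow]

theorem lM_pow_char (p : ℕ) [CharP F p] (c : F) : lM c ^ p = 1 := by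
  rw [lM_pow, CharP.cast_eq_zero, zero_mul, lM_zero]

/-- **Structure theorem.** -/
theorem struct_of_subgroup [Finite F] (p : ℕ) [Fact p.Prime] [CharP F p] (hp : p ≠ 2)
    (H : Subgroup SF) (a0 : F) (ha0 : a0 ≠ 0) (hu : uM a0 ∈ H) (hl : lM 1 ∈ H)
    (hex : p = 3 → Nat.card H ≠ 120) :
    ∃ K : Subfield F, (∀ x, uM x ∈ H ↔ x ∈ K) ∧ (∀ x, lM x ∈ H ↔ x ∈ K) ∧
      Nat.card H = (Nat.card K + 1) * Nat.card {g : SF // g ∈ H ∧ (g : MF) 1 0 = 0} ∧
      (∀ g ∈ H, (g : MF) 1 0 = 0 → (g : MF) 0 0 * (g : MF) 0 1 ∈ K) ∧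
      (∀ g ∈ H, (g : MF) 1 0 ≠ 0 → (g : MF) 0 0 / (g : MF) 1 0 ∈ K) := by
  classical
  have : Fintype F := Fintype.ofFinite _
  have h2F : (2 : F) ≠ 0 := two_ne_zero_of_char p hp
  -- extension of scalars
  let E := FiniteField.Extension F p 2
  have : CharP E p := charP_of_injective_algebraMap (algebraMap F E).injective p
  have h2 : (2 : E) ≠ 0 := two_ne_zero_of_char p hp
  let ι : F →+* E := algebraMap F E
  have hι : Function.Injective ι := (algebraMap F E).injective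
  let φ : SF →* Matrix.SpecialLinearGroup (Fin 2) E := Matrix.SpecialLinearGroup.map ι
  have hφ : ∀ (g : SF) (i j : Fin 2),
      ((φ g : Matrix.SpecialLinearGroup (Fin 2) E) : Matrix (Fin 2) (Fin 2) E) i j =
        ι ((g : MF) i j) := by
    intro g i j
    show ((Matrix.SpecialLinearGroup.map ι g :
      Matrix.SpecialLinearGroup (Fin 2) E) : Matrix (Fin 2) (Fin 2) E) i j = _
    rw [Matrix.SpecialLinearGroup.map_apply_coe, RingHom.mapMatrix_apply, Matrix.map_apply]
  have hφinj : Function.Injective φ := by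
    intro g h hgh
    apply Subtype.ext
    ext i j
    have := congrArg (fun x : Matrix.SpecialLinearGroup (Fin 2) E =>
      (x : Matrix (Fin 2) (Fin 2) E) i j) hgh
    simp only [hφ] at this
    exact hι this
  have hφu : ∀ x : F, φ (uM x) = uM (ι x) := fun x => map_uM ι x
  have hφl : ∀ x : F, φ (lM x) = lM (ι x) := fun x => map_lM ι x
  let ψ : H →* Matrix.SpecialLinearGroup (Fin 2) E := φ.comp H.subtype
  have hψ : ∀ y : H, ψ y = φ (y : SF) := fun y => rfl
  have hinj : Function.Injective ψ := hφinj.comp H.subtype_injective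
  have hsplit : ∀ x : H, ∃ μ : E, μ ^ 2 - tr (ψ x) * μ + 1 = 0 := by
    intro x
    obtain ⟨μ, hμ⟩ := exists_root_quadratic_ext p
      ((((x : SF)) : MF) 0 0 + (((x : SF)) : MF) 1 1)
    refine ⟨μ, ?_⟩
    unfold tr
    rw [hψ, hφ, hφ, ← map_add]
    exact hμ
  -- two Sylow subgroups
  obtain ⟨P, hP⟩ := (isPGroup_zpowers_of_pow p (⟨uM a0, hu⟩ : H)
    (Subtype.ext (by simpa using uM_pow_char p a0))).exists_le_sylow
  obtain ⟨Q, hQ⟩ := (isPGroup_zpowers_of_pow p (⟨lM 1, hl⟩ : H)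
    (Subtype.ext (by simpa using lM_pow_char p (1 : F)))).exists_le_sylow
  have huP : (⟨uM a0, hu⟩ : H) ∈ (P : Subgroup H) := hP (Subgroup.mem_zpowers _)
  have hlQ : (⟨lM 1, hl⟩ : H) ∈ (Q : Subgroup H) := hQ (Subgroup.mem_zpowers _)
  have hPU : ∀ x ∈ (P : Subgroup H), ((x : SF) : MF) 1 0 = 0 ∧ ((x : SF) : MF) 0 0 = 1 := by
    intro x hx
    apply pgroup_le_unip p ((P : Subgroup H).map H.subtype) (P.isPGroup'.map _) a0 ha0
    · exact ⟨⟨uM a0, hu⟩, huP, rfl⟩
    · exact ⟨x, hx, rfl⟩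
  have hPQ : P ≠ Q := by
    intro h
    rw [← h] at hlQ
    have := (hPU _ hlQ).1
    simp [lM_coe] at this
  have hU : ∀ x ∈ P, ((ψ x : Matrix.SpecialLinearGroup (Fin 2) E) :
      Matrix (Fin 2) (Fin 2) E) 1 0 = 0 ∧ ((ψ x : Matrix.SpecialLinearGroup (Fin 2) E) :
      Matrix (Fin 2) (Fin 2) E) 0 0 = 1 := by
    intro x hx
    obtain ⟨h1, h3⟩ := hPU x hx
    rw [hψ, hφ, hφ, h1, h3, map_zero, map_one]
    exact ⟨rfl, rfl⟩
  obtain ⟨hsplit1, hpar1, hQ1, hn1⟩ := hyps_of_hom_unip (E := E) p hp ψ hinj hsplit P Q hPQ hU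
  have hcardH1 : Nat.card ψ.range = Nat.card H :=
    (Nat.card_congr (MonoidHom.ofInjective hinj).toEquiv).symm
  have hn' := orb_card_of_nonexc p hp ψ.range hsplit1 hpar1 hQ1 hn1
    (fun h3 => by rw [hcardH1]; exact hex h3)
  have hl1 : lM (1 : E) ∈ ψ.range := ⟨⟨lM 1, hl⟩, by rw [hψ, hφl, map_one]⟩
  obtain ⟨hmem, hinv1, hinv2⟩ := struct_one h2 ψ.range hpar1 hn' hl1
  obtain ⟨h1E, hmulE, hinvE, hborelE, hnbE⟩ := struct_field p hp ψ.range hpar1 hn' hl1
  -- transport
  have key : ∀ x : F, uM (ι x) ∈ ψ.range ↔ uM x ∈ H := by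
    intro x
    constructor
    · rintro ⟨y, hy⟩
      rw [hψ, ← hφu] at hy
      rw [← hφinj hy]
      exact y.2
    · intro hx
      exact ⟨⟨uM x, hx⟩, by rw [hψ, hφu]⟩
  have keyl : ∀ x : F, lM (ι x) ∈ ψ.range ↔ lM x ∈ H := by
    intro x
    constructor
    · rintro ⟨y, hy⟩
      rw [hψ, ← hφl] at hy
      rw [← hφinj hy]
      exact y.2
    · intro hx
      exact ⟨⟨lM x, hx⟩, by rw [hψ, hφl]⟩
  have h1F : uM (1 : F) ∈ H := by
    rw [← key, map_one]; exact h1E
  have hmulF : ∀ a b : F, uM a ∈ H → uM b ∈ H → uM (a * b) ∈ H := by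
    intro a b ha hb
    rw [← key, map_mul]
    exact hmulE _ _ ((key a).2 ha) ((key b).2 hb)
  have hinvF : ∀ a : F, a ≠ 0 → uM a ∈ H → uM (1 / a) ∈ H := by
    intro a ha haH
    rw [← key, map_div₀, map_one]
    exact hinvE _ (fun h => ha (hι (h.trans (map_zero ι).symm))) ((key a).2 haH)
  refine ⟨Kfield H h1F hmulF hinvF, fun x => Iff.rfl, ?_, ?_, ?_, ?_⟩
  · intro x
    rw [mem_Kfield]
    by_cases hx : x = 0
    · rw [hx, uM_zero, lM_zero]
    have hιx : ι x ≠ 0 := fun h => hx (hι (h.trans (map_zero ι).symm))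
    constructor
    · intro hlx
      have h3 := hinv2 (ι x) hιx ((keyl x).2 hlx)
      rw [← map_one ι, ← map_div₀, key] at h3
      have h4 := hinvF _ (one_div_ne_zero hx) h3
      rwa [one_div_one_div] at h4
    · intro hux
      have h3 := hinvF x hx hux
      have h4 := hinv1 (ι (1 / x)) (by
        rw [map_div₀, map_one]; exact one_div_ne_zero hιx) ((key _).2 h3)
      rw [← map_one ι, ← map_div₀, one_div_one_div, keyl] at h4
      exact h4
  · -- cardinality
    rw [← hcardH1, ← orb_mul_stN ψ.range pinf, hn', stN_pinf]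
    congr 1
    · congr 1
      symm
      apply Nat.card_congr
      refine Equiv.ofBijective (fun x : Kfield H h1F hmulF hinvF => (⟨ι x.1, (key x.1).2 x.2⟩ :
        Aset ψ.range)) ⟨?_, ?_⟩
      · intro x y hxy
        have := congrArg Subtype.val hxy
        exact Subtype.ext (hι this)
      · rintro ⟨a, ⟨y, hy⟩⟩
        have h3 : ι (((y : SF) : MF) 0 1) = a := by
          have := congrArg (fun z : Matrix.SpecialLinearGroup (Fin 2) E =>
            (z : Matrix (Fin 2) (Fin 2) E) 0 1) hy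
          simp only [hψ, hφ, uM_coe] at this
          simpa using this
        have h4 : uM (ι (((y : SF) : MF) 0 1)) ∈ ψ.range := by rw [h3]; exact ⟨y, hy⟩
        exact ⟨⟨((y : SF) : MF) 0 1, (key _).1 h4⟩, Subtype.ext h3⟩
    · symm
      apply Nat.card_congr
      refine Equiv.ofBijective (fun g : {g : SF // g ∈ H ∧ (g : MF) 1 0 = 0} =>
        (⟨φ g.1, ⟨⟨g.1, g.2.1⟩, rfl⟩, by rw [hφ, g.2.2, map_zero]⟩ :
          {g : Matrix.SpecialLinearGroup (Fin 2) E // g ∈ ψ.range ∧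
            (g : Matrix (Fin 2) (Fin 2) E) 1 0 = 0})) ⟨?_, ?_⟩
      · intro g h hgh
        have := congrArg Subtype.val hgh
        exact Subtype.ext (hφinj this)
      · rintro ⟨g, ⟨y, hy⟩, hg0⟩
        refine ⟨⟨(y : SF), y.2, ?_⟩, Subtype.ext hy⟩
        rw [← hy, hψ, hφ] at hg0
        exact hι (hg0.trans (map_zero ι).symm)
  · intro g hg hg0
    have h3 := hborelE (φ g) ⟨⟨g, hg⟩, rfl⟩ (by rw [hφ, hg0, map_zero])
    rw [hφ, hφ, ← map_mul, key] at h3
    exact h3
  · intro g hg hg0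
    have h3 := hnbE (φ g) ⟨⟨g, hg⟩, rfl⟩ (by
      rw [hφ]; exact fun h => hg0 (hι (h.trans (map_zero ι).symm)))
    rw [hφ, hφ, ← map_div₀, key] at h3
    exact h3

end rational

end Cfsg.Agent.Helper18.Dickson
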