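import Cfsg.Agent.Helper18.Dickson18

/-! Dickson-type counting, part 19: `SL₂(K)` is maximal in `SL₂(F)` when `[F:K]` is an odd
prime. -/

set_option autoImplicit false

namespace Cfsg.Agent.Helper18.Dickson

open Cfsg.Agent.Helper11.FinSub

variable {F : Type*} [Field F]

local notation "SF" => Matrix.SpecialLinearGroup (Fin 2) F
local notation "MF" => Matrix (Fin 2) (Fin 2) F

/-- `(k+1)^s - 1 = k * m` with `m ≡ s (mod 2)` when `k` is even -/
theorem geom_parity (k : ℕ) (hk : Even k) (s : ℕ) :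
    ∃ m : ℕ, (k + 1) ^ s = 1 + k * m ∧ (Odd m ↔ Odd s) := by
  induction s with
  | zero => exact ⟨0, by simp, by simp⟩
  | succ s ih =>
    obtain ⟨m, hm, hpar⟩ := ih
    refine ⟨(k + 1) * m + 1, ?_, ?_⟩
    · rw [pow_succ, hm]; ring
    · rw [Nat.odd_add_one, Nat.odd_add_one, ← hpar]
      have hodd : Odd (k + 1) := hk.add_one
      rw [Nat.odd_mul]
      tauto

/-- in an extension of odd degree, square roots of elements of `K` are in `K` -/
theorem mem_of_sq_mem_odd [Fintype F] (h2 : (2 : F) ≠ 0) (K : Subfield F) (s : ℕ) (hs : Odd s)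
    (hcard : Fintype.card F = Nat.card K ^ s) (t : F) (ht : t ^ 2 ∈ K) : t ∈ K := by
  classical
  by_cases ht0 : t = 0
  · rw [ht0]; exact K.zero_mem
  obtain ⟨k, hk⟩ : ∃ k, Nat.card K = k + 1 := ⟨Nat.card K - 1, by have := two_le_card K; omega⟩
  -- `|K|` is odd
  have hkeven : Even k := by
    by_contra hodd
    rw [Nat.not_even_iff_odd] at hodd
    have heven : Even (Nat.card K) := by rw [hk]; exact hodd.add_one
    -- then `2 = 0` in `F`
    have : Fintype K := Fintype.ofFinite K
    obtain ⟨g, hg⟩ := exists_prime_addOrderOf_dvd_card' (G := K) 2 (by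
      exact even_iff_two_dvd.1 heven)
    have h3 : (2 : ℕ) • g = 0 := by rw [← hg]; exact addOrderOf_nsmul_eq_zero g
    have hg0 : g ≠ 0 := by
      intro h0
      rw [h0, addOrderOf_zero] at hg
      norm_num at hg
    have h4 : (2 : F) * (g : F) = 0 := by
      have := congrArg (fun x : K => (x : F)) h3
      simpa [two_mul, two_nsmul] using this
    rcases mul_eq_zero.1 h4 with h5 | h5
    · exact h2 h5
    · exact hg0 (Subtype.ext h5)
  obtain ⟨m, hm, hpar⟩ := geom_parity k hkeven s
  have hmodd : Odd m := hpar.2 hs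
  -- `(t²)^k = 1`
  have h1 : (t ^ 2) ^ (k + 1) = t ^ 2 := by
    rw [← hk]; exact pow_card_of_mem K ht
  have ht2 : t ^ 2 ≠ 0 := pow_ne_zero 2 ht0
  have h3 : (t ^ k) ^ 2 = 1 := by
    have : (t ^ 2) ^ k * t ^ 2 = 1 * t ^ 2 := by rw [← pow_succ, h1, one_mul]
    have := mul_right_cancel₀ ht2 this
    rw [← this]; ring
  have h4 : t ^ k = 1 ∨ t ^ k = -1 := by
    have : (t ^ k - 1) * (t ^ k + 1) = 0 := by linear_combination h3
    rcases mul_eq_zero.1 this with h | h
    · left; linear_combination h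
    · right; linear_combination h
  have h5 : t ^ (k * m) = 1 := by
    have := FiniteField.pow_card_sub_one_eq_one t ht0
    rw [hcard, hk, hm] at this
    simpa using this
  have h6 : t ^ k = 1 := by
    rcases h4 with h | h
    · exact h
    · exfalso
      rw [pow_mul, h, hmodd.neg_one_pow] at h5
      apply h2
      linear_combination -h5
  rw [mem_iff_pow_card, hk, pow_succ, h6, one_mul]

/-- `SL₂(K)` is a maximal subgroup of `SL₂(F)` when `[F:K]` is an odd prime (odd
characteristic, no subgroup of order `120` when `p = 3`). -/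
theorem isCoatom_SLK_of [Fintype F] (p : ℕ) [Fact p.Prime] [CharP F p] (hp : p ≠ 2)
    (K₀ : Subfield F) (r : ℕ) (hr : r.Prime) (hr2 : r ≠ 2)
    (hcard : Fintype.card F = Nat.card K₀ ^ r)
    (hex : p = 3 → ∀ H : Subgroup SF, SLK K₀ ≤ H → Nat.card H ≠ 120) : IsCoatom (SLK K₀) := by
  have h2 : (2 : F) ≠ 0 := two_ne_zero_of_char p hp
  have hq2 := two_le_card K₀
  constructor
  · intro htop
    have h1 : K₀ = ⊤ := by
      rw [eq_top_iff]
      intro x _
      rw [← uM_mem_SLK, htop]; trivial
    have h3 : Nat.card K₀ = Fintype.card F := by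
      rw [h1, ← Nat.card_eq_fintype_card]
      exact Nat.card_congr Subfield.topEquiv.toEquiv
    rw [← h3] at hcard
    have h4 : Nat.card K₀ ^ 1 = Nat.card K₀ ^ r := by rw [pow_one]; exact hcard
    have := Nat.pow_right_injective hq2 h4
    exact hr.one_lt.ne this
  · intro H hlt
    have hle := hlt.le
    have hu1 : uM (1 : F) ∈ H := hle ((uM_mem_SLK K₀ 1).2 K₀.one_mem)
    have hl1 : lM (1 : F) ∈ H := hle ((lM_mem_SLK K₀ 1).2 K₀.one_mem)
    obtain ⟨K₁, hK1, hK2, hle1, hN, -⟩ := struct_of_subgroup' p hp H 1 one_ne_zero hu1 hl1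
      (fun h3 => hex h3 H hle)
    have h01 : K₀ ≤ K₁ := by
      intro x hx
      rw [← hK1]
      exact hle ((uM_mem_SLK K₀ x).2 hx)
    obtain ⟨j, hj1, hj⟩ := card_pow_of_le K₀ K₁ h01
    obtain ⟨m, hm1, hm⟩ := card_pow_top K₁
    have hrjm : r = j * m := by
      rw [hm, hj, ← pow_mul] at hcard
      exact (Nat.pow_right_injective hq2 hcard).symm
    rcases (Nat.dvd_prime hr).1 ⟨m, hrjm⟩ with hj' | hj'
    · -- `K₁ = K₀`
      exfalso
      have hK10 : K₀ = K₁ := by
        apply eq_of_le_of_card_eq K₀ K₁ h01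
        rw [hj, hj', pow_one]
      apply hlt.not_ge
      intro h hh
      obtain ⟨t, ht0, ht2, ht⟩ := hN h hh
      rw [← hK10] at ht2 ht
      have htK : t ∈ K₀ := mem_of_sq_mem_odd h2 K₀ r (hr.odd_of_ne_two hr2) hcard t ht2
      rw [mem_SLK]
      intro i j
      have : (h : MF) i j = t⁻¹ * (t * (h : MF) i j) := by
        field_simp
      rw [this]
      exact K₀.mul_mem (K₀.inv_mem htK) (ht i j)
    · -- `K₁ = ⊤`
      have hm' : m = 1 := by
        rw [hj'] at hrjm
        have hrpos := hr.pos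
        have : r * 1 = r * m := by rw [mul_one]; exact hrjm
        exact (Nat.eq_of_mul_eq_mul_left hrpos this).symm
      have hK1top : K₁ = ⊤ := by
        apply eq_top_of_card_eq
        rw [hm, hm', pow_one]
      apply eq_top_of_uM_lM
      · intro x; rw [hK1, hK1top]; exact Subfield.mem_top x
      · intro x; rw [hK2, hK1top]; exact Subfield.mem_top x

end Cfsg.Agent.Helper18.Dickson
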