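import Cfsg.Agent.Helper18.Dickson1

/-! Dickson-type counting, part 2: double counting of fixed points for a finite subgroup of
`SL₂(E)`. -/

set_option autoImplicit false

open scoped LinearAlgebra.Projectivization

namespace Cfsg.Agent.Helper18.Dickson

variable {E : Type*} [Field E]

local notation "S2" => Matrix.SpecialLinearGroup (Fin 2) E
local notation "M2" => Matrix (Fin 2) (Fin 2) E
local notation "PL" => ℙ E (Fin 2 → E)

/-- number of elements of `H` in the class `C` fixing `x` -/
noncomputable def cnt (H : Subgroup S2) (C : S2 → Prop) (x : PL) : ℕ :=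
  Nat.card {g : S2 // g ∈ H ∧ C g ∧ g • x = x}

/-- number of elements of `H` in the class `C` -/
noncomputable def tot (H : Subgroup S2) (C : S2 → Prop) : ℕ :=
  Nat.card {g : S2 // g ∈ H ∧ C g}

instance [Finite E] : Finite PL := by
  have : Finite (Fin 2 → E) := inferInstance
  exact Quotient.finite _

theorem sum_cnt [Finite E] [Fintype PL] (H : Subgroup S2) (C : S2 → Prop) (k : ℕ)
    (hk : ∀ g ∈ H, C g → (Fix g).ncard = k) :
    ∑ x : PL, cnt H C x = k * tot H C := by
  classical
  have : Fintype S2 := Fintype.ofFinite _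
  set T : Finset S2 := Finset.univ.filter (fun g => g ∈ H ∧ C g) with hT
  have h1 : ∀ x : PL, cnt H C x = (T.filter (fun g => g • x = x)).card := by
    intro x
    unfold cnt
    rw [Nat.card_eq_fintype_card, Fintype.card_subtype]
    congr 1
    ext g
    simp [hT, and_assoc]
  have h2 : tot H C = T.card := by
    unfold tot
    rw [Nat.card_eq_fintype_card, Fintype.card_subtype]
  have h3 : ∀ g ∈ T, (Finset.univ.filter (fun x : PL => g • x = x)).card = k := by
    intro g hg
    rw [hT, Finset.mem_filter] at hg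
    rw [← hk g hg.2.1 hg.2.2, Set.ncard_eq_toFinset_card']
    congr 1
    ext x
    rw [Set.mem_toFinset, Finset.mem_filter]
    simp [Fix]
  simp_rw [h1, h2, Finset.card_filter]
  rw [Finset.sum_comm]
  simp_rw [← Finset.card_filter]
  rw [Finset.sum_congr rfl h3]
  simp [mul_comm]


/-- parabolic elements: non-central with `tr² = 4` -/
def IsPar (g : S2) : Prop := ¬ IsPM g ∧ tr g ^ 2 = 4

/-- semisimple non-central elements: `tr² ≠ 4` -/
def IsSs (g : S2) : Prop := tr g ^ 2 ≠ 4

theorem IsPM.tr_sq {g : S2} (hg : IsPM g) : tr g ^ 2 = 4 := by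
  by_contra h
  exact not_isPM_of_tr g h hg

theorem card_split {α : Type*} [Finite α] (s p q r : α → Prop)
    (hpq : ∀ a, p a → ¬ q a) (hpr : ∀ a, p a → ¬ r a) (hqr : ∀ a, q a → ¬ r a)
    (hall : ∀ a, p a ∨ q a ∨ r a) :
    Nat.card {a // s a} = Nat.card {a // s a ∧ p a} + Nat.card {a // s a ∧ q a} +
      Nat.card {a // s a ∧ r a} := by
  classical
  have : Fintype α := Fintype.ofFinite _
  simp only [Nat.card_eq_fintype_card, Fintype.card_subtype]
  rw [← Finset.card_union_of_disjoint, ← Finset.card_union_of_disjoint]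
  · congr 1
    ext a
    simp only [Finset.mem_filter, Finset.mem_univ, true_and, Finset.mem_union]
    constructor
    · intro h
      rcases hall a with h1 | h1 | h1
      · exact Or.inl (Or.inl ⟨h, h1⟩)
      · exact Or.inl (Or.inr ⟨h, h1⟩)
      · exact Or.inr ⟨h, h1⟩
    · rintro ((h | h) | h) <;> exact h.1
  · rw [Finset.disjoint_left]
    intro a ha hb
    simp only [Finset.mem_filter, Finset.mem_univ, true_and, Finset.mem_union] at ha hb
    rcases ha with ha | ha
    · exact hpr a ha.2 hb.2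
    · exact hqr a ha.2 hb.2
  · rw [Finset.disjoint_left]
    intro a ha hb
    simp only [Finset.mem_filter, Finset.mem_univ, true_and] at ha hb
    exact hpq a ha.2 hb.2

/-- order of the stabiliser in `H` of the point `x` -/
noncomputable def stN (H : Subgroup S2) (x : PL) : ℕ := Nat.card {g : S2 // g ∈ H ∧ g • x = x}

theorem class_cases (g : S2) : IsPM g ∨ IsPar g ∨ IsSs g := by
  by_cases h1 : IsPM g
  · exact Or.inl h1
  · by_cases h2 : tr g ^ 2 = 4
    · exact Or.inr (Or.inl ⟨h1, h2⟩)
    · exact Or.inr (Or.inr h2)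

theorem stN_eq [Finite E] (H : Subgroup S2) (x : PL) :
    stN H x = tot H IsPM + cnt H IsPar x + cnt H IsSs x := by
  unfold stN
  rw [card_split (fun g : S2 => g ∈ H ∧ g • x = x) IsPM IsPar IsSs
    (fun a h1 h2 => h2.1 h1) (fun a h1 h2 => h2 h1.tr_sq) (fun a h1 h2 => h2 h1.2) class_cases]
  unfold cnt tot
  congr 1
  · congr 1
    · apply Nat.card_congr
      refine Equiv.subtypeEquivRight (fun g => ?_)
      constructor
      · rintro ⟨⟨h1, _⟩, h3⟩; exact ⟨h1, h3⟩
      · rintro ⟨h1, h3⟩; exact ⟨⟨h1, h3.smul_eq x⟩, h3⟩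
    · apply Nat.card_congr
      refine Equiv.subtypeEquivRight (fun g => ?_)
      tauto
  · apply Nat.card_congr
    refine Equiv.subtypeEquivRight (fun g => ?_)
    tauto

theorem card_eq_tot [Finite E] (H : Subgroup S2) :
    Nat.card H = tot H IsPM + tot H IsPar + tot H IsSs := by
  have h0 : Nat.card H = Nat.card {g : S2 // g ∈ H} := rfl
  rw [h0, card_split (fun g : S2 => g ∈ H) IsPM IsPar IsSs
    (fun a h1 h2 => h2.1 h1) (fun a h1 h2 => h2 h1.tr_sq) (fun a h1 h2 => h2 h1.2) class_cases]
  rfl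

theorem sum_cnt_par [Finite E] [Fintype PL] (h2 : (2 : E) ≠ 0) (H : Subgroup S2) :
    ∑ x : PL, cnt H IsPar x = tot H IsPar := by
  rw [sum_cnt H IsPar 1 (fun g _ hg => ncard_Fix_par h2 g hg.1 hg.2), one_mul]

theorem sum_cnt_ss [Finite E] [Fintype PL] (H : Subgroup S2)
    (hsplit : ∀ g ∈ H, ∃ μ : E, μ ^ 2 - tr g * μ + 1 = 0) :
    ∑ x : PL, cnt H IsSs x = 2 * tot H IsSs := by
  apply sum_cnt H IsSs 2
  intro g hg hs
  obtain ⟨μ, hμ⟩ := hsplit g hg
  exact ncard_Fix_ss g hs μ hμ

end Cfsg.Agent.Helper18.Dickson
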