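import Cfsg.Agent.Helper18.Dickson21

/-! Dickson-type counting, part 22: `PGL₂(K)` inside `PSL₂(F)`, `[F:K] = 2`: the image of
`NK K` in `PSL₂(F)` is isomorphic to `PGL₂(K)`. -/

set_option autoImplicit false

namespace Cfsg.Agent.Helper18.Dickson

open Cfsg.Agent.Helper11.FinSub

variable {F : Type*} [Field F]

local notation "SF" => Matrix.SpecialLinearGroup (Fin 2) F
local notation "MF" => Matrix (Fin 2) (Fin 2) F

theorem odd_card_subfield [Fintype F] (h2 : (2 : F) ≠ 0) (K : Subfield F) : Odd (Nat.card K) := by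
  classical
  by_contra hodd
  rw [Nat.not_odd_iff_even] at hodd
  have : Fintype K := Fintype.ofFinite K
  obtain ⟨g, hg⟩ := exists_prime_addOrderOf_dvd_card' (G := K) 2 (even_iff_two_dvd.1 hodd)
  have h3 : (2 : ℕ) • g = 0 := by rw [← hg]; exact addOrderOf_nsmul_eq_zero g
  have hg0 : g ≠ 0 := by
    intro h0
    rw [h0, addOrderOf_zero] at hg
    norm_num at hg
  have h4 : (2 : F) * (g : F) = 0 := by
    have := congrArg (fun x : K => (x : F)) h3
    simpa [two_mul, two_nsmul] using this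
  rcases mul_eq_zero.1 h4 with h5 | h5
  · exact h2 h5
  · exact hg0 (Subtype.ext h5)

/-- in a quadratic extension of finite fields of odd characteristic, every element of the small
field is a square -/
theorem exists_sqrt_of_mem [Fintype F] (h2 : (2 : F) ≠ 0) (K : Subfield F)
    (hcard : Fintype.card F = Nat.card K ^ 2) (d : F) (hd : d ∈ K) : ∃ s : F, s ^ 2 = d := by
  classical
  by_cases hd0 : d = 0
  · exact ⟨0, by rw [hd0]; ring⟩
  have hchar : ringChar F ≠ 2 := by
    intro h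
    apply h2
    have := ringChar.Nat.cast_ringChar (R := F)
    rw [h] at this
    exact_mod_cast this
  obtain ⟨n, hn⟩ := odd_card_subfield h2 K
  have h1 : d ^ (2 * n) = 1 := by
    have := pow_card_of_mem K hd
    rw [hn, pow_succ] at this
    have h3 : d ^ (2 * n) * d = 1 * d := by rw [this, one_mul]
    exact mul_right_cancel₀ hd0 h3
  have h3 : Fintype.card F / 2 = 2 * n * (n + 1) := by
    rw [hcard, hn]
    have : (2 * n + 1) ^ 2 = 2 * (2 * n * (n + 1)) + 1 := by ring
    rw [this]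
    omega
  have hsq : IsSquare d := by
    rw [FiniteField.isSquare_iff hchar hd0, h3, pow_mul, h1, one_pow]
  obtain ⟨s, hs⟩ := hsq
  exact ⟨s, by rw [hs, pow_two]⟩

/-- there is `t ∉ K` with `t² ∈ K` -/
theorem exists_sqrt_not_mem [Fintype F] (h2 : (2 : F) ≠ 0) (K : Subfield F)
    (hcard : Fintype.card F = Nat.card K ^ 2) : ∃ t : F, t ≠ 0 ∧ t ^ 2 ∈ K ∧ t ∉ K := by
  classical
  have : Fintype K := Fintype.ofFinite K
  have hcharK : ringChar K ≠ 2 := by
    intro h
    apply h2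
    have h3 := ringChar.Nat.cast_ringChar (R := K)
    rw [h] at h3
    have h5 : (2 : K) = 0 := by exact_mod_cast h3
    have h4 : ((2 : K) : F) = ((0 : K) : F) := congrArg Subtype.val h5
    have e1 : ((2 : K) : F) = (2 : F) := rfl
    have e2 : ((0 : K) : F) = (0 : F) := rfl
    rw [e1, e2] at h4
    exact h4
  obtain ⟨d, hd⟩ := FiniteField.exists_nonsquare hcharK
  obtain ⟨t, ht⟩ := exists_sqrt_of_mem h2 K hcard (d : F) d.2
  refine ⟨t, ?_, ?_, ?_⟩
  · intro h0
    apply hd
    refine ⟨0, ?_⟩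
    apply Subtype.ext
    rw [h0] at ht
    simp [← ht]
  · rw [ht]; exact d.2
  · intro htK
    apply hd
    refine ⟨⟨t, htK⟩, ?_⟩
    apply Subtype.ext
    rw [← ht, pow_two]
    rfl

theorem dM_not_mem_SLK (K : Subfield F) (t : F) (ht : t ≠ 0) (htK : t ∉ K) : dM t ht ∉ SLK K := by
  intro h
  rw [mem_SLK] at h
  have := h 0 0
  rw [dM_coe] at this
  exact htK (by simpa using this)

/-- no subgroup of order `120` properly above `NK K` when `[F:K] = 2`, `p = 3` -/
theorem card_ne_120' [Fintype F] [CharP F 3] (K₀ : Subfield F)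
    (hcard : Fintype.card F = Nat.card K₀ ^ 2) (H : Subgroup SF) (hlt : NK K₀ < H) :
    Nat.card H ≠ 120 := by
  classical
  intro h120
  have h2 : (2 : F) ≠ 0 := by
    have : Fact (Nat.Prime 3) := ⟨Nat.prime_three⟩
    exact two_ne_zero_of_char 3 (by norm_num)
  have : Fintype K₀ := Fintype.ofFinite K₀
  have hq2 := two_le_card K₀
  have h1 : Nat.card (SLK K₀) = (Nat.card K₀ + 1) * ((Nat.card K₀ - 1) * Nat.card K₀) := by
    rw [Nat.card_congr (SLKEquiv K₀).toEquiv, Cfsg.Agent.S2301.card_sl2, Nat.card_eq_fintype_card]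
  have hdvdN : Nat.card (NK K₀) ∣ 120 := by
    rw [← h120]; exact Subgroup.card_dvd_of_le hlt.le
  have hdvdS : Nat.card (SLK K₀) ∣ Nat.card (NK K₀) := Subgroup.card_dvd_of_le (SLK_le_NK K₀)
  have hdvd : Nat.card (SLK K₀) ∣ 120 := hdvdS.trans hdvdN
  have h3 : 3 ∣ Nat.card K₀ := by
    have : CharP K₀ 3 := RingHom.charP K₀.subtype K₀.subtype_injective 3
    have : Fact (Nat.Prime 3) := ⟨Nat.prime_three⟩
    obtain ⟨n, _, hn⟩ := FiniteField.card K₀ 3
    rw [Nat.card_eq_fintype_card, hn]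
    exact dvd_pow_self 3 n.ne_zero
  have hq : Nat.card K₀ = 3 := by
    by_contra hne
    have h6 : 6 ≤ Nat.card K₀ := by
      obtain ⟨c, hc⟩ := h3
      omega
    have hle' := Nat.le_of_dvd (by norm_num) hdvd
    rw [h1] at hle'
    have : 7 * (5 * 6) ≤ (Nat.card K₀ + 1) * ((Nat.card K₀ - 1) * Nat.card K₀) :=
      Nat.mul_le_mul (by omega) (Nat.mul_le_mul (by omega) h6)
    omega
  rw [hq] at h1
  have h1' : Nat.card (SLK K₀) = 24 := by rw [h1]
  clear h1
  have h1 := h1'
  rw [h1] at hdvdS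
  -- `SLK < NK < H`
  obtain ⟨t, ht0, ht2, htK⟩ := exists_sqrt_not_mem h2 K₀ hcard
  have hlt1 : SLK K₀ < NK K₀ := by
    rw [lt_iff_le_and_ne]
    refine ⟨SLK_le_NK K₀, ?_⟩
    intro h
    apply dM_not_mem_SLK K₀ t ht0 htK
    rw [h]
    exact dM_mem_NK K₀ t ht0 ht2
  have hc1 : Nat.card (SLK K₀) < Nat.card (NK K₀) := by
    have := Set.ncard_lt_ncard (show (SLK K₀ : Set SF) ⊂ (NK K₀ : Set SF) from hlt1)
      (Set.toFinite _)
    exact this
  have hc2 : Nat.card (NK K₀) < Nat.card H := by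
    have := Set.ncard_lt_ncard (show (NK K₀ : Set SF) ⊂ (H : Set SF) from hlt)
      (Set.toFinite _)
    exact this
  rw [h1] at hc1
  rw [h120] at hc2
  obtain ⟨a, ha⟩ := hdvdS
  rw [ha] at hc1 hc2 hdvdN
  have ha1 : 1 < a := by omega
  have ha2 : a < 5 := by omega
  interval_cases a <;> omega

end Cfsg.Agent.Helper18.Dickson
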