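import Cfsg.Agent.Helper18.Dickson23

/-! Dickson-type counting, part 24: `PGL₂(K)` is a maximal subgroup of `PSL₂(F)`, `[F:K] = 2`,
odd characteristic. -/

set_option autoImplicit false

namespace Cfsg.Agent.Helper18.Dickson

open Cfsg.Agent.Helper11.FinSub

/-- **`PGL₂(K)` is maximal in `PSL₂(F)`** for `[F:K] = 2`, odd characteristic. -/
theorem exists_coatom_pgl_subfield {F K : Type*} [Field F] [Fintype F] [Field K] [Fintype K]
    (q : ℕ) (hK : Fintype.card K = q) (hF : Fintype.card F = q ^ 2) (hq : Odd q) :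
    ∃ H : Subgroup (Matrix.ProjectiveSpecialLinearGroup (Fin 2) F), IsCoatom H ∧
      Nonempty (H ≃* Matrix.ProjGenLinGroup (Fin 2) K) := by
  classical
  obtain ⟨p, hchar⟩ := CharP.exists F
  have hpp : p.Prime := by
    rcases CharP.char_is_prime_or_zero F p with h | h
    · exact h
    · subst h
      have := CharP.charP_to_charZero F
      exact absurd (inferInstance : Finite F) (not_finite_iff_infinite.mpr inferInstance)
  haveI : Fact p.Prime := ⟨hpp⟩
  obtain ⟨N, _, hN⟩ := FiniteField.card F p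
  obtain ⟨p', hchar'⟩ := CharP.exists K
  have hpp' : p'.Prime := by
    rcases CharP.char_is_prime_or_zero K p' with h | h
    · exact h
    · subst h
      have := CharP.charP_to_charZero K
      exact absurd (inferInstance : Finite K) (not_finite_iff_infinite.mpr inferInstance)
  haveI : Fact p'.Prime := ⟨hpp'⟩
  obtain ⟨a, _, ha⟩ := FiniteField.card K p'
  have hpp'eq : p' = p := by
    have h1 : p' ∣ p ^ (N : ℕ) := by
      rw [← hN, hF, ← hK, ha, ← pow_mul]
      exact dvd_pow_self p' (Nat.mul_ne_zero a.ne_zero (by norm_num))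
    exact (Nat.prime_dvd_prime_iff_eq hpp' hpp).1 (hpp'.dvd_of_dvd_pow h1)
  subst hpp'eq
  have hp2 : p' ≠ 2 := by
    rintro rfl
    rw [← hK, ha] at hq
    exact (Nat.not_even_iff_odd.2 hq) ((Nat.even_pow' a.ne_zero).2 even_two)
  have h2 : (2 : F) ≠ 0 := two_ne_zero_of_char p' hp2
  have hFN : Fintype.card F = p' ^ ((a : ℕ) * 2) := by rw [hF, ← hK, ha, pow_mul]
  obtain ⟨K₀, hK₀⟩ := exists_subfield (F := F) p' ((a : ℕ) * 2) a hFN a.ne_zero ⟨2, rfl⟩
  have hK₀q : Nat.card K₀ = q := by rw [hK₀, ← hK, ha]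
  have hcard : Fintype.card F = Nat.card K₀ ^ 2 := by rw [hK₀q, hF]
  have hco : IsCoatom (NK K₀) := by
    apply isCoatom_NK_of p' hp2 K₀ hcard
    intro h3 H hlt
    subst h3
    exact card_ne_120' K₀ hcard H hlt
  refine ⟨(NK K₀).map (QuotientGroup.mk' (Subgroup.center _)),
    isCoatom_map_mk _ _ ((center_le_SLK K₀).trans (SLK_le_NK K₀)) hco, ?_⟩
  let _ : Fintype K₀ := Fintype.ofFinite K₀
  have eK : K₀ ≃+* K :=
    FiniteField.ringEquivOfCardEq (by rw [← Nat.card_eq_fintype_card, hK₀q, hK])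
  let j : K →+* F := K₀.subtype.comp eK.symm.toRingHom
  have hj : ∀ x : F, x ∈ K₀ ↔ ∃ y : K, j y = x := by
    intro x
    constructor
    · intro hx
      refine ⟨eK ⟨x, hx⟩, ?_⟩
      show ((eK.symm (eK ⟨x, hx⟩) : K₀) : F) = x
      rw [RingEquiv.symm_apply_apply]
    · rintro ⟨y, rfl⟩
      exact (eK.symm y).2
  exact nonempty_map_NK_equiv h2 K₀ hcard j hj

end Cfsg.Agent.Helper18.Dickson
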