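import Cfsg.Agent.Helper18.Dickson18

/-! Dickson-type counting, part 25: the exceptional case (`p = 3`, `|H| = 120`): every element
has order dividing `12` or `10`. -/

set_option autoImplicit false

open scoped LinearAlgebra.Projectivization

namespace Cfsg.Agent.Helper18.Dickson

variable {E : Type*} [Field E]

local notation "S2" => Matrix.SpecialLinearGroup (Fin 2) E
local notation "M2" => Matrix (Fin 2) (Fin 2) E
local notation "PL" => ℙ E (Fin 2 → E)

/-- orbit analysis, with the information on the remaining points -/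
theorem orbit_analysis' [Finite E] [Fintype PL] (H : Subgroup S2) (z : ℕ) (w : PL → ℕ)
    (hst : ∀ x, stN H x = z + w x) (hdiv : ∀ x, z ∣ w x)
    (hw : ∀ h ∈ H, ∀ x, w (h • x) = w x) (x0 : PL) :
    ((∀ x, x ∉ orb H x0 → w x = 0) ∧ ∑ x, w x + z * (orb H x0).ncard = Nat.card H) ∨
    (∃ x1, x1 ∉ orb H x0 ∧ 0 < w x1 ∧ (∀ x, x ∉ orb H x0 → x ∉ orb H x1 → w x = 0) ∧
      ∑ x, w x + z * (orb H x0).ncard + z * (orb H x1).ncard = 2 * Nat.card H) ∨
    (2 * Nat.card H ≤ ∑ x, w x + z * (orb H x0).ncard) := by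
  classical
  have hsum := fun x => sum_orb_add H z w hst hw x
  by_cases h1 : ∀ x, x ∉ orb H x0 → w x = 0
  · left
    refine ⟨h1, ?_⟩
    rw [← hsum x0]
    congr 1
    symm
    apply Finset.sum_subset (Finset.subset_univ _)
    intro x _ hx
    apply h1
    simpa using hx
  · right
    push Not at h1
    obtain ⟨x1, hx1, hw1⟩ := h1
    have hw1' : 0 < w x1 := Nat.pos_of_ne_zero hw1
    have hd01 : Disjoint (Finset.univ.filter (· ∈ orb H x0)) (Finset.univ.filter (· ∈ orb H x1)) := by
      rw [Finset.disjoint_left]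
      intro y hy0 hy1
      simp only [Finset.mem_filter, Finset.mem_univ, true_and] at hy0 hy1
      exact Set.disjoint_left.1 (orb_disjoint H hx1) hy0 hy1
    by_cases h2 : ∀ x, x ∉ orb H x0 → x ∉ orb H x1 → w x = 0
    · left
      refine ⟨x1, hx1, hw1', h2, ?_⟩
      have : ∑ x, w x = ∑ y ∈ Finset.univ.filter (· ∈ orb H x0), w y +
          ∑ y ∈ Finset.univ.filter (· ∈ orb H x1), w y := by
        rw [← Finset.sum_union hd01]
        symm
        apply Finset.sum_subset (Finset.subset_univ _)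
        intro x _ hx
        simp only [Finset.mem_union, Finset.mem_filter, Finset.mem_univ, true_and, not_or] at hx
        exact h2 x hx.1 hx.2
      have e0 := hsum x0
      have e1 := hsum x1
      omega
    · right
      push Not at h2
      obtain ⟨x2, hx20, hx21, hw2⟩ := h2
      have hd02 : Disjoint (Finset.univ.filter (· ∈ orb H x0)) (Finset.univ.filter (· ∈ orb H x2)) := by
        rw [Finset.disjoint_left]
        intro y hy0 hy1
        simp only [Finset.mem_filter, Finset.mem_univ, true_and] at hy0 hy1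
        exact Set.disjoint_left.1 (orb_disjoint H hx20) hy0 hy1
      have hd12 : Disjoint (Finset.univ.filter (· ∈ orb H x1)) (Finset.univ.filter (· ∈ orb H x2)) := by
        rw [Finset.disjoint_left]
        intro y hy0 hy1
        simp only [Finset.mem_filter, Finset.mem_univ, true_and] at hy0 hy1
        exact Set.disjoint_left.1 (orb_disjoint H hx21) hy0 hy1
      have hle : ∑ y ∈ Finset.univ.filter (· ∈ orb H x0), w y +
          ∑ y ∈ Finset.univ.filter (· ∈ orb H x1), w y +
          ∑ y ∈ Finset.univ.filter (· ∈ orb H x2), w y ≤ ∑ x, w x := by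
        rw [← Finset.sum_union hd01, ← Finset.sum_union (Finset.disjoint_union_left.2 ⟨hd02, hd12⟩)]
        exact Finset.sum_le_sum_of_subset (Finset.subset_univ _)
      have e0 := hsum x0
      have e1 := hsum x1
      have e2 := hsum x2
      have hb : ∀ x, w x ≠ 0 → 2 * (z * (orb H x).ncard) ≤ Nat.card H := by
        intro x hx
        rw [← orb_mul_stN H x, hst x]
        obtain ⟨c, hc⟩ := hdiv x
        have hc1 : 1 ≤ c := by
          rcases Nat.eq_zero_or_pos c with h0 | h0
          · rw [h0, mul_zero] at hc; exact absurd hc hx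
          · exact h0
        rw [hc]
        nlinarith [Nat.zero_le ((orb H x).ncard * z)]
      have b1 := hb x1 hw1
      have b2 := hb x2 hw2
      omega

/-- an element of the stabilizer of `y` has order dividing `stN H y` -/
theorem pow_stN_eq_one [Finite E] (H : Subgroup S2) (y : PL) (g : S2) (hg : g ∈ H)
    (hy : g • y = y) : g ^ stN H y = 1 := by
  have h1 : stN H y = Nat.card (MulAction.stabilizer H y) := by
    unfold stN
    apply Nat.card_congr
    refine ⟨fun g => ⟨⟨g.1, g.2.1⟩, g.2.2⟩, fun g => ⟨g.1.1, g.1.2, g.2⟩, ?_, ?_⟩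
    · intro g; rfl
    · intro g; rfl
  have hmem : (⟨g, hg⟩ : H) ∈ MulAction.stabilizer H y := hy
  have h3 : (⟨⟨g, hg⟩, hmem⟩ : MulAction.stabilizer H y) ^ Nat.card (MulAction.stabilizer H y) = 1 :=
    pow_card_eq_one'
  rw [h1]
  have := congrArg (fun x : MulAction.stabilizer H y => ((x : H) : S2)) h3
  simpa using this

theorem no_kone (z Q d : ℕ) (hz : z = 1 ∨ z = 2) (h3 : 3 ∣ Q) (hQ : 3 ≤ Q) (hd1 : 1 ≤ d)
    (hd2 : d ≤ Q - 1) (h : 120 = (1 + Q) * (z * Q * d)) : False := by
  have hz1 : 1 ≤ z := by rcases hz with h | h <;> omega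
  have hQle : Q ≤ 10 := by
    by_contra hcon
    have h11 : 11 ≤ Q := by omega
    have : (1 + 11) * (1 * 11 * 1) ≤ (1 + Q) * (z * Q * d) :=
      Nat.mul_le_mul (by omega) (Nat.mul_le_mul (Nat.mul_le_mul hz1 h11) hd1)
    omega
  obtain ⟨c, rfl⟩ := h3
  have hc : c = 1 ∨ c = 2 ∨ c = 3 := by omega
  rcases hc with rfl | rfl | rfl
  · have hd : d = 1 ∨ d = 2 := by omega
    rcases hz with rfl | rfl <;> rcases hd with rfl | rfl <;> omega
  · have : (7 : ℕ) ∣ 120 := ⟨z * (3 * 2) * d, by rw [h]⟩
    omega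
  · have : (9 : ℕ) ∣ 120 := ⟨(1 + 3 * 3) * z * d, by rw [h]; ring⟩
    omega

/-- **Exceptional case**: every element has order dividing `12` or `10`. -/
theorem exc_orders [Finite E] [CharP E 3] (H : Subgroup S2)
    (hsplit : ∀ g ∈ H, ∃ μ : E, μ ^ 2 - tr g * μ + 1 = 0)
    (hpar : ∀ g ∈ H, IsPar g → ∃ h ∈ H, ((h * g * h⁻¹ : S2) : M2) 1 0 = 0)
    (hQ : 1 < Nat.card (Aset H)) (hn : 1 < (orb H pinf).ncard) (h120 : Nat.card H = 120) :
    ∀ g ∈ H, g ^ 12 = 1 ∨ g ^ 10 = 1 := by
  classical
  have : Fact (Nat.Prime 3) := ⟨Nat.prime_three⟩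
  have hp : (3 : ℕ) ≠ 2 := by norm_num
  have : Fintype PL := Fintype.ofFinite _
  have h2 : (2 : E) ≠ 0 := two_ne_zero_of_char 3 hp
  -- numerics
  obtain ⟨k, d, m, e, hnk, hk1, hd1, hd2, hst, hm, hme⟩ := counting 3 hp H hsplit hpar hQ hn
  obtain ⟨a0, ha0, ha00⟩ := exists_ne_zero_of_card (Aset H) hQ
  have hpQ : 3 ∣ Nat.card (Aset H) := p_dvd_card_of_ne_zero 3 (Aset H) a0 ha0 ha00
  have hQ3 : 3 ≤ Nat.card (Aset H) := Nat.le_of_dvd (by omega) hpQ
  have hzcases := tot_pm_pos 3 hp H
  have hHeq : Nat.card H = (orb H pinf).ncard * stN H pinf := (orb_mul_stN H pinf).symm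
  have hex : Nat.card (Aset H) = 3 ∧ k = 3 ∧ d = 2 ∧ e = 5 := by
    rcases dickson_arith _ k d e m _ hQ3 hk1 hnk hd1 hd2 hm hme with h1 | h1
    · exfalso
      rw [h1, one_mul] at hnk
      rw [h120, hnk, hst] at hHeq
      exact no_kone _ _ d hzcases hpQ hQ3 hd1 hd2 hHeq
    · exact ⟨h1.1, h1.2.1, h1.2.2.1, h1.2.2.2⟩
  obtain ⟨hQe, hke, hde, hee⟩ := hex
  rw [hQe, hke] at hnk
  have hn10 : (orb H pinf).ncard = 10 := by omega
  have hz2 : tot H IsPM = 2 := by
    rw [h120, hn10, hst, hQe, hde] at hHeq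
    omega
  have hst12 : stN H pinf = 12 := by rw [hst, hz2, hQe, hde]
  -- the weights
  have hHM := card_HM 3 hp h2 H
  have hc : tot H IsPM * Nat.card (Aset H) = tot H IsPM + cnt H IsPar pinf := by
    rw [← hHM, cnt_par_pinf]
  let w : PL → ℕ := fun x => cnt H IsPar x + cnt H IsSs x
  have hstw : ∀ x, stN H x = tot H IsPM + w x := fun x => by rw [stN_eq]; ring
  have hdivw : ∀ x, tot H IsPM ∣ w x := fun x =>
    (Nat.dvd_add_right (dvd_refl _)).1 (hstw x ▸ tot_pm_dvd_stN H x)
  have hwinv : ∀ h ∈ H, ∀ x, w (h • x) = w x := fun h hh x => by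
    show cnt H IsPar (h • x) + cnt H IsSs (h • x) = cnt H IsPar x + cnt H IsSs x
    rw [cnt_smul H _ conjInv_isPar h hh, cnt_smul H _ conjInv_isSs h hh]
  have hsumw : ∑ x, w x = tot H IsPar + 2 * tot H IsSs := by
    rw [Finset.sum_add_distrib, sum_cnt_par h2, sum_cnt_ss H hsplit]
  have hcard := card_eq_tot H
  have htp := tot_par_eq h2 H hpar
  rw [hz2, hQe] at hc
  have hcp : cnt H IsPar pinf = 4 := by omega
  rw [hcp, hn10] at htp
  rw [h120, hz2, htp] at hcard
  have hts : tot H IsSs = 78 := by omega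
  rw [htp, hts] at hsumw
  -- stabilizer orders
  have hstab : ∀ y : PL, 0 < w y → stN H y = 12 ∨ stN H y = 10 := by
    rcases orbit_analysis' H (tot H IsPM) w hstw hdivw hwinv pinf with
      ⟨_, hA⟩ | ⟨x1, hx1, hwx1, hrest, hB⟩ | hC
    · exfalso
      rw [hsumw, hz2, hn10, h120] at hA
      omega
    · rw [hsumw, hz2, hn10, h120] at hB
      have hm12 : (orb H x1).ncard = 12 := by omega
      have hs10 : stN H x1 = 10 := by
        have := orb_mul_stN H x1
        rw [hm12, h120] at this
        omega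
      intro y hy
      by_cases hy0 : y ∈ orb H pinf
      · left
        obtain ⟨h, hh, rfl⟩ := hy0
        rw [stN_smul H h hh, hst12]
      · by_cases hy1 : y ∈ orb H x1
        · right
          obtain ⟨h, hh, rfl⟩ := hy1
          rw [stN_smul H h hh, hs10]
        · exfalso
          have := hrest y hy0 hy1
          omega
    · exfalso
      rw [hsumw, hz2, hn10, h120] at hC
      omega
  -- every noncentral element fixes a point with positive weight
  intro g hg
  by_cases hpm : IsPM g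
  · left
    rw [isPM_iff] at hpm
    rcases hpm with rfl | rfl
    · simp
    · have : ((-1 : S2)) ^ 12 = ((-1 : S2) ^ 2) ^ 6 := by rw [← pow_mul]
      rw [this, neg_one_sq, one_pow]
  · have hfix : ∃ y : PL, g • y = y ∧ 0 < w y := by
      by_cases ht : tr g ^ 2 = 4
      · have h1 := ncard_Fix_par h2 g hpm ht
        have hne : (Fix g).Nonempty := by
          rw [← Set.ncard_pos (Set.toFinite _), h1]; norm_num
        obtain ⟨y, hy⟩ := hne
        refine ⟨y, hy, ?_⟩
        have : 0 < cnt H IsPar y := by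
          unfold cnt
          rw [Nat.card_pos_iff]
          exact ⟨⟨⟨g, hg, ⟨hpm, ht⟩, hy⟩⟩, inferInstance⟩
        show 0 < cnt H IsPar y + cnt H IsSs y
        omega
      · obtain ⟨μ, hμ⟩ := hsplit g hg
        have h1 := ncard_Fix_ss g ht μ hμ
        have hne : (Fix g).Nonempty := by
          rw [← Set.ncard_pos (Set.toFinite _), h1]; norm_num
        obtain ⟨y, hy⟩ := hne
        refine ⟨y, hy, ?_⟩
        have : 0 < cnt H IsSs y := by
          unfold cnt
          rw [Nat.card_pos_iff]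
          exact ⟨⟨⟨g, hg, ht, hy⟩⟩, inferInstance⟩
        show 0 < cnt H IsPar y + cnt H IsSs y
        omega
    obtain ⟨y, hy, hwy⟩ := hfix
    have hpow := pow_stN_eq_one H y g hg hy
    rcases hstab y hwy with h | h
    · left; rw [← h]; exact hpow
    · right; rw [← h]; exact hpow

end Cfsg.Agent.Helper18.Dickson
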