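import Cfsg.Agent.Helper18.Dickson25

/-! Dickson-type counting, part 26: traces in the exceptional case. -/

set_option autoImplicit false

open scoped LinearAlgebra.Projectivization

namespace Cfsg.Agent.Helper18.Dickson

/-- the possible traces of elements of the exceptional group -/
def TrCond {R : Type*} [Ring R] (τ : R) : Prop :=
  τ = 0 ∨ τ = 2 ∨ τ = -2 ∨ τ ^ 2 + τ - 1 = 0 ∨ τ ^ 2 - τ - 1 = 0

section coreE

variable {E : Type*} [Field E]

local notation "S2" => Matrix.SpecialLinearGroup (Fin 2) E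
local notation "M2" => Matrix (Fin 2) (Fin 2) E

theorem trCond_of_pow [CharP E 3] (g : S2) (μ : E) (hμ : μ ^ 2 - tr g * μ + 1 = 0)
    (hg : g ^ 12 = 1 ∨ g ^ 10 = 1) : TrCond (tr g) := by
  have h3 : (3 : E) = 0 := by
    have := CharP.cast_eq_zero E 3
    exact_mod_cast this
  obtain ⟨h, hh⟩ := exists_conj_borel g μ hμ
  set b := h * g * h⁻¹ with hb
  have htr : tr b = tr g := tr_conj h g
  have hent := borel_entries b hh
  set ν := (b : M2) 0 0 with hν
  have hν0 : ν ≠ 0 := by
    intro h0; rw [h0, zero_mul] at hent; exact zero_ne_one hent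
  have hτ : tr g * ν = ν ^ 2 + 1 := by
    rw [← htr]; unfold tr
    linear_combination hent
  have hpow : ∀ n : ℕ, g ^ n = 1 → ν ^ n = 1 := by
    intro n hn
    have h1 : b ^ n = 1 := by rw [hb, conj_pow, hn]; group
    have h2 := borel_pow_00 b hh n
    rw [h1] at h2
    simpa using h2.symm
  unfold TrCond
  rcases hg with hg | hg
  · have h12 := hpow 12 hg
    have h4 : ν ^ 4 = 1 := by
      have : (ν ^ 4 - 1) ^ 3 = 0 := by
        have e : (ν ^ 4 - 1) ^ 3 = ν ^ 12 - 1 - 3 * (ν ^ 8 - ν ^ 4) := by ring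
        rw [e, h12, h3]; ring
      have := pow_eq_zero_iff (three_ne_zero) |>.1 this
      linear_combination this
    have h5 : (ν ^ 2 - 1) * (ν ^ 2 + 1) = 0 := by linear_combination h4
    rcases mul_eq_zero.1 h5 with h6 | h6
    · have h7 : (ν - 1) * (ν + 1) = 0 := by linear_combination h6
      rcases mul_eq_zero.1 h7 with h8 | h8
      · right; left
        have : ν = 1 := by linear_combination h8
        rw [this] at hτ
        linear_combination hτ
      · right; right; left
        have : ν = -1 := by linear_combination h8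
        rw [this] at hτ
        linear_combination -hτ
    · left
      have : tr g * ν = 0 := by rw [hτ]; linear_combination h6
      rcases mul_eq_zero.1 this with h | h
      · exact h
      · exact absurd h hν0
  · have h10 := hpow 10 hg
    have h5 : (ν ^ 5 - 1) * (ν ^ 5 + 1) = 0 := by linear_combination h10
    rcases mul_eq_zero.1 h5 with h6 | h6
    · have h7 : (ν - 1) * (ν ^ 4 + ν ^ 3 + ν ^ 2 + ν + 1) = 0 := by linear_combination h6
      rcases mul_eq_zero.1 h7 with h8 | h8
      · right; left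
        have : ν = 1 := by linear_combination h8
        rw [this] at hτ
        linear_combination hτ
      · right; right; right; left
        have : (tr g ^ 2 + tr g - 1) * ν ^ 2 = 0 := by
          have e : (tr g ^ 2 + tr g - 1) * ν ^ 2 = (tr g * ν) ^ 2 + (tr g * ν) * ν - ν ^ 2 := by ring
          rw [e, hτ]
          linear_combination h8
        rcases mul_eq_zero.1 this with h | h
        · exact h
        · exact absurd (pow_eq_zero_iff (two_ne_zero) |>.1 h) hν0
    · have h7 : (ν + 1) * (ν ^ 4 - ν ^ 3 + ν ^ 2 - ν + 1) = 0 := by linear_combination h6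
      rcases mul_eq_zero.1 h7 with h8 | h8
      · right; right; left
        have : ν = -1 := by linear_combination h8
        rw [this] at hτ
        linear_combination -hτ
      · right; right; right; right
        have : (tr g ^ 2 - tr g - 1) * ν ^ 2 = 0 := by
          have e : (tr g ^ 2 - tr g - 1) * ν ^ 2 = (tr g * ν) ^ 2 - (tr g * ν) * ν - ν ^ 2 := by ring
          rw [e, hτ]
          linear_combination h8
        rcases mul_eq_zero.1 this with h | h
        · exact h
        · exact absurd (pow_eq_zero_iff (two_ne_zero) |>.1 h) hν0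

end coreE

section rational

variable {F : Type*} [Field F]

local notation "SF" => Matrix.SpecialLinearGroup (Fin 2) F
local notation "MF" => Matrix (Fin 2) (Fin 2) F

theorem TrCond.of_map {E : Type*} [Field E] (ι : F →+* E) (τ : F) (h : TrCond (ι τ)) :
    TrCond τ := by
  have hι := ι.injective
  unfold TrCond at h ⊢
  rcases h with h | h | h | h | h
  · left; exact hι (by rw [h, map_zero])
  · right; left; exact hι (by rw [h, map_ofNat])
  · right; right; left; exact hι (by rw [h, map_neg, map_ofNat])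
  · right; right; right; left
    exact hι (by rw [map_sub, map_add, map_pow, map_one, map_zero]; exact h)
  · right; right; right; right
    exact hι (by rw [map_sub, map_sub, map_pow, map_one, map_zero]; exact h)

/-- **Exceptional case, rational form.** -/
theorem trCond_of_subgroup [Finite F] [CharP F 3]
    (H : Subgroup SF) (a0 : F) (ha0 : a0 ≠ 0) (hu : uM a0 ∈ H) (hl : lM 1 ∈ H)
    (h120 : Nat.card H = 120) :
    ∀ g ∈ H, TrCond ((g : MF) 0 0 + (g : MF) 1 1) := by
  classical
  have : Fact (Nat.Prime 3) := ⟨Nat.prime_three⟩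
  have hp : (3 : ℕ) ≠ 2 := by norm_num
  have : Fintype F := Fintype.ofFinite _
  let E := FiniteField.Extension F 3 2
  have : CharP E 3 := charP_of_injective_algebraMap (algebraMap F E).injective 3
  let ι : F →+* E := algebraMap F E
  have hι : Function.Injective ι := (algebraMap F E).injective
  let φ : SF →* Matrix.SpecialLinearGroup (Fin 2) E := Matrix.SpecialLinearGroup.map ι
  have hφ : ∀ (g : SF) (i j : Fin 2),
      ((φ g : Matrix.SpecialLinearGroup (Fin 2) E) : Matrix (Fin 2) (Fin 2) E) i j =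
        ι ((g : MF) i j) := by
    intro g i j
    show ((Matrix.SpecialLinearGroup.map ι g :
      Matrix.SpecialLinearGroup (Fin 2) E) : Matrix (Fin 2) (Fin 2) E) i j = _
    rw [Matrix.SpecialLinearGroup.map_apply_coe, RingHom.mapMatrix_apply, Matrix.map_apply]
  have hφinj : Function.Injective φ := by
    intro g h hgh
    apply Subtype.ext
    ext i j
    have := congrArg (fun x : Matrix.SpecialLinearGroup (Fin 2) E =>
      (x : Matrix (Fin 2) (Fin 2) E) i j) hgh
    simp only [hφ] at this
    exact hι this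
  let ψ : H →* Matrix.SpecialLinearGroup (Fin 2) E := φ.comp H.subtype
  have hψ : ∀ y : H, ψ y = φ (y : SF) := fun y => rfl
  have hinj : Function.Injective ψ := hφinj.comp H.subtype_injective
  have hsplit : ∀ x : H, ∃ μ : E, μ ^ 2 - tr (ψ x) * μ + 1 = 0 := by
    intro x
    obtain ⟨μ, hμ⟩ := exists_root_quadratic_ext 3
      ((((x : SF)) : MF) 0 0 + (((x : SF)) : MF) 1 1)
    refine ⟨μ, ?_⟩
    unfold tr
    rw [hψ, hφ, hφ, ← map_add]
    exact hμ
  obtain ⟨P, hP⟩ := (isPGroup_zpowers_of_pow 3 (⟨uM a0, hu⟩ : H)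
    (Subtype.ext (by simpa using uM_pow_char 3 a0))).exists_le_sylow
  obtain ⟨Q, hQ⟩ := (isPGroup_zpowers_of_pow 3 (⟨lM 1, hl⟩ : H)
    (Subtype.ext (by simpa using lM_pow_char 3 (1 : F)))).exists_le_sylow
  have huP : (⟨uM a0, hu⟩ : H) ∈ (P : Subgroup H) := hP (Subgroup.mem_zpowers _)
  have hlQ : (⟨lM 1, hl⟩ : H) ∈ (Q : Subgroup H) := hQ (Subgroup.mem_zpowers _)
  have hPU : ∀ x ∈ (P : Subgroup H), ((x : SF) : MF) 1 0 = 0 ∧ ((x : SF) : MF) 0 0 = 1 := by
    intro x hx
    apply pgroup_le_unip 3 ((P : Subgroup H).map H.subtype) (P.isPGroup'.map _) a0 ha0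
    · exact ⟨⟨uM a0, hu⟩, huP, rfl⟩
    · exact ⟨x, hx, rfl⟩
  have hPQ : P ≠ Q := by
    intro h
    rw [← h] at hlQ
    have := (hPU _ hlQ).1
    simp [lM_coe] at this
  have hU : ∀ x ∈ P, ((ψ x : Matrix.SpecialLinearGroup (Fin 2) E) :
      Matrix (Fin 2) (Fin 2) E) 1 0 = 0 ∧ ((ψ x : Matrix.SpecialLinearGroup (Fin 2) E) :
      Matrix (Fin 2) (Fin 2) E) 0 0 = 1 := by
    intro x hx
    obtain ⟨h1, h3⟩ := hPU x hx
    rw [hψ, hφ, hφ, h1, h3, map_zero, map_one]
    exact ⟨rfl, rfl⟩
  obtain ⟨hsplit1, hpar1, hQ1, hn1⟩ := hyps_of_hom_unip (E := E) 3 hp ψ hinj hsplit P Q hPQ hU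
  have hcardH1 : Nat.card ψ.range = 120 := by
    rw [← h120]
    exact (Nat.card_congr (MonoidHom.ofInjective hinj).toEquiv).symm
  have hord := exc_orders ψ.range hsplit1 hpar1 hQ1 hn1 hcardH1
  intro g hg
  have hmem : φ g ∈ ψ.range := ⟨⟨g, hg⟩, rfl⟩
  obtain ⟨μ, hμ⟩ := hsplit1 _ hmem
  have := trCond_of_pow (φ g) μ hμ (hord _ hmem)
  unfold tr at this
  rw [hφ, hφ, ← map_add] at this
  exact TrCond.of_map ι _ this

end rational

end Cfsg.Agent.Helper18.Dickson
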