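import Cfsg.Agent.Helper18.Dickson24

/-! Dickson-type counting, part 28: a group between `SL₂(K)` and its normaliser `NK K` is one of
the two. -/

set_option autoImplicit false

namespace Cfsg.Agent.Helper18.Dickson

variable {F : Type*} [Field F]

local notation "SF" => Matrix.SpecialLinearGroup (Fin 2) F
local notation "MF" => Matrix (Fin 2) (Fin 2) F

/-- the product of two square roots of elements of `K` lying outside `K` is in `K` -/
theorem sqrt_mul_mem [Finite F] (K : Subfield F) (s t : F) (ht0 : t ≠ 0)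
    (hs : s ^ 2 ∈ K) (ht : t ^ 2 ∈ K) (hsK : s ∉ K) (htK : t ∉ K) : s * t ∈ K := by
  classical
  have : Fintype K := Fintype.ofFinite K
  have hs0 : s ≠ 0 := fun h => hsK (h ▸ K.zero_mem)
  set a : K := ⟨t ^ 2, ht⟩ with ha
  set b : K := ⟨s ^ 2, hs⟩ with hb
  have hnsq : ∀ (u : F) (hu : u ^ 2 ∈ K), u ∉ K → ¬ IsSquare (⟨u ^ 2, hu⟩ : K) := by
    rintro u hu huK ⟨c, hc⟩
    have h1 : u ^ 2 = (c : F) * (c : F) := congrArg Subtype.val hc
    have h3 : (u - c) * (u + c) = 0 := by linear_combination h1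
    rcases mul_eq_zero.1 h3 with h4 | h4
    · apply huK
      have : u = c := by linear_combination h4
      rw [this]; exact c.2
    · apply huK
      have : u = -c := by linear_combination h4
      rw [this]; exact K.neg_mem c.2
  have h1 := quadraticChar_neg_one_iff_not_isSquare.mpr (hnsq t ht htK)
  have h3 := quadraticChar_neg_one_iff_not_isSquare.mpr (hnsq s hs hsK)
  have h4 : quadraticChar K (a * b) = 1 := by
    rw [map_mul, ha, hb, h1, h3]; norm_num
  have hab0 : a * b ≠ 0 := by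
    intro h
    have h5 : (t ^ 2) * (s ^ 2) = 0 := congrArg Subtype.val h
    rcases mul_eq_zero.1 h5 with h6 | h6
    · exact ht0 (pow_eq_zero_iff (two_ne_zero) |>.1 h6)
    · exact hs0 (pow_eq_zero_iff (two_ne_zero) |>.1 h6)
  obtain ⟨c, hc⟩ := (quadraticChar_one_iff_isSquare hab0).mp h4
  have h5 : (t ^ 2) * (s ^ 2) = (c : F) * (c : F) := congrArg Subtype.val hc
  have h6 : (s * t - c) * (s * t + c) = 0 := by linear_combination h5
  rcases mul_eq_zero.1 h6 with h7 | h7
  · have : s * t = c := by linear_combination h7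
    rw [this]; exact c.2
  · have : s * t = -c := by linear_combination h7
    rw [this]; exact K.neg_mem c.2

/-- entries of `g * h⁻¹` for scaled matrices -/
theorem scaled_mul_inv (K : Subfield F) (g h : SF) (t s : F)
    (hg : ∀ i j, t * (g : MF) i j ∈ K) (hh : ∀ i j, s * (h : MF) i j ∈ K) :
    ∀ i j, (t * s) * ((g * h⁻¹ : SF) : MF) i j ∈ K := by
  intro i j
  rw [Matrix.SpecialLinearGroup.coe_mul, Matrix.SpecialLinearGroup.coe_inv,
    Matrix.adjugate_fin_two, Matrix.mul_apply, Fin.sum_univ_two]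
  fin_cases j
  · simp only [Fin.zero_eta, Fin.isValue, Matrix.of_apply, Matrix.cons_val', Matrix.cons_val_zero,
      Matrix.cons_val_fin_one, Matrix.cons_val_one]
    have e : t * s * ((g : MF) i 0 * (h : MF) 1 1 + (g : MF) i 1 * -(h : MF) 1 0) =
        (t * (g : MF) i 0) * (s * (h : MF) 1 1) - (t * (g : MF) i 1) * (s * (h : MF) 1 0) := by ring
    rw [e]
    exact K.sub_mem (K.mul_mem (hg _ _) (hh _ _)) (K.mul_mem (hg _ _) (hh _ _))
  · simp only [Fin.mk_one, Fin.isValue, Matrix.of_apply, Matrix.cons_val', Matrix.cons_val_zero,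
      Matrix.cons_val_fin_one, Matrix.cons_val_one]
    have e : t * s * ((g : MF) i 0 * -(h : MF) 0 1 + (g : MF) i 1 * (h : MF) 0 0) =
        (t * (g : MF) i 1) * (s * (h : MF) 0 0) - (t * (g : MF) i 0) * (s * (h : MF) 0 1) := by ring
    rw [e]
    exact K.sub_mem (K.mul_mem (hg _ _) (hh _ _)) (K.mul_mem (hg _ _) (hh _ _))

theorem mem_SLK_of_scaled (K : Subfield F) (g : SF) (t : F) (ht0 : t ≠ 0) (htK : t ∈ K)
    (hg : ∀ i j, t * (g : MF) i j ∈ K) : g ∈ SLK K := by
  rw [mem_SLK]
  intro i j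
  have := K.mul_mem (K.inv_mem htK) (hg i j)
  rwa [← mul_assoc, inv_mul_cancel₀ ht0, one_mul] at this

/-- a group between `SLK K` and `NK K` -/
theorem eq_SLK_or_NK [Finite F] (K : Subfield F) (H : Subgroup SF) (h1 : SLK K ≤ H)
    (h2 : H ≤ NK K) : H = SLK K ∨ H = NK K := by
  by_cases hH : H ≤ SLK K
  · exact Or.inl (le_antisymm hH h1)
  · right
    apply le_antisymm h2
    rw [SetLike.not_le_iff_exists] at hH
    obtain ⟨h, hhH, hhK⟩ := hH
    obtain ⟨t, ht0, ht2, ht⟩ := (mem_NK K h).1 (h2 hhH)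
    have htK : t ∉ K := fun hK => hhK (mem_SLK_of_scaled K h t ht0 hK ht)
    intro n hn
    obtain ⟨s, hs0, hs2, hs⟩ := (mem_NK K n).1 hn
    by_cases hsK : s ∈ K
    · exact h1 (mem_SLK_of_scaled K n s hs0 hsK hs)
    · have hst := sqrt_mul_mem K s t ht0 hs2 ht2 hsK htK
      have hmem : n * h⁻¹ ∈ SLK K :=
        mem_SLK_of_scaled K (n * h⁻¹) (s * t) (mul_ne_zero hs0 ht0) hst
          (scaled_mul_inv K n h s t hs ht)
      have : n = (n * h⁻¹) * h := by group
      rw [this]
      exact H.mul_mem (h1 hmem) hhH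

end Cfsg.Agent.Helper18.Dickson
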