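import Cfsg.Agent.Helper18.Dickson28
import Cfsg.Agent.Helper18.Dickson27

/-! Dickson-type counting, part 29: normal form of subgroups of `SL₂(F)` of order divisible by
`p` (`F` finite of odd characteristic `p`). -/

set_option autoImplicit false

namespace Cfsg.Agent.Helper18.Dickson

variable {F : Type*} [Field F]

local notation "SF" => Matrix.SpecialLinearGroup (Fin 2) F
local notation "MF" => Matrix (Fin 2) (Fin 2) F

/-- `scaleHom` as an automorphism -/
noncomputable def scaleEquiv [Finite F] (a : F) (ha : a ≠ 0) : SF ≃* SF :=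
  MulEquiv.ofBijective (scaleHom a ha) (Finite.injective_iff_bijective.1 (scaleHom_injective a ha))

theorem scaleEquiv_apply [Finite F] (a : F) (ha : a ≠ 0) (g : SF) :
    scaleEquiv a ha g = scaleHom a ha g := rfl

/-- the normalising automorphism `x ↦ scale (1/a) (g⁻¹ x g)` -/
noncomputable def normEquiv [Finite F] (g : SF) (a : F) (ha : a ≠ 0) : SF ≃* SF :=
  (MulAut.conj g⁻¹).trans (scaleEquiv (1 / a) (one_div_ne_zero ha))

theorem normEquiv_apply [Finite F] (g : SF) (a : F) (ha : a ≠ 0) (x : SF) :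
    normEquiv g a ha x = scaleHom (1 / a) (one_div_ne_zero ha) (g⁻¹ * x * g) := by
  unfold normEquiv
  rw [MulEquiv.trans_apply, scaleEquiv_apply, MulAut.conj_apply, inv_inv]

/-- **Normal form**: a subgroup with at least two Sylow `p`-subgroups is, up to an automorphism
of `SL₂(F)`, `SL₂(K)` or its normaliser (or of order 120 with `p = 3`). -/
theorem struct_two_sylow [Finite F] (p : ℕ) [Fact p.Prime] [CharP F p] (hp : p ≠ 2)
    (H : Subgroup SF) (hH : 1 < Nat.card (Sylow p H)) :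
    ∃ ε : SF ≃* SF, lM 1 ∈ H.map ε.toMonoidHom ∧ uM 1 ∈ H.map ε.toMonoidHom ∧
      ((p = 3 ∧ Nat.card H = 120) ∨
        ∃ K : Subfield F, H.map ε.toMonoidHom = SLK K ∨ H.map ε.toMonoidHom = NK K) := by
  obtain ⟨g, a, ha, hu, hl⟩ := exists_pair_subgroup p hp H hH
  refine ⟨normEquiv g a ha, ?_, ?_, ?_⟩
  · refine ⟨g * lM (1 / a) * g⁻¹, hl, ?_⟩
    show normEquiv g a ha _ = _
    rw [normEquiv_apply]
    have : g⁻¹ * (g * lM (1 / a) * g⁻¹) * g = lM (1 / a) := by group
    rw [this, scaleHom_lM, div_self (one_div_ne_zero ha)]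
  · refine ⟨g * uM a * g⁻¹, hu, ?_⟩
    show normEquiv g a ha _ = _
    rw [normEquiv_apply]
    have : g⁻¹ * (g * uM a * g⁻¹) * g = uM a := by group
    rw [this, scaleHom_uM, one_div, inv_mul_cancel₀ ha]
  · set H2 := H.map (normEquiv g a ha).toMonoidHom with hH2
    have hcard : Nat.card H2 = Nat.card H :=
      Subgroup.card_map_of_injective (normEquiv g a ha).injective
    have hl2 : lM 1 ∈ H2 := by
      refine ⟨g * lM (1 / a) * g⁻¹, hl, ?_⟩
      show normEquiv g a ha _ = _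
      rw [normEquiv_apply]
      have : g⁻¹ * (g * lM (1 / a) * g⁻¹) * g = lM (1 / a) := by group
      rw [this, scaleHom_lM, div_self (one_div_ne_zero ha)]
    have hu2 : uM 1 ∈ H2 := by
      refine ⟨g * uM a * g⁻¹, hu, ?_⟩
      show normEquiv g a ha _ = _
      rw [normEquiv_apply]
      have : g⁻¹ * (g * uM a * g⁻¹) * g = uM a := by group
      rw [this, scaleHom_uM, one_div, inv_mul_cancel₀ ha]
    by_cases hex : p = 3 ∧ Nat.card H = 120
    · exact Or.inl hex
    · right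
      obtain ⟨K, -, -, hle, hN, -⟩ := struct_of_subgroup' p hp H2 1 one_ne_zero hu2 hl2
        (fun h3 h120 => hex ⟨h3, by rw [← hcard]; exact h120⟩)
      refine ⟨K, eq_SLK_or_NK K H2 hle ?_⟩
      intro h hh
      rw [mem_NK]
      exact hN h hh

/-- **Borel case**: a subgroup with a unique nontrivial Sylow `p`-subgroup is conjugate into the
upper triangular group. -/
theorem struct_one_sylow [Finite F] (p : ℕ) [Fact p.Prime] [CharP F p]
    (H : Subgroup SF) (hH : Nat.card (Sylow p H) = 1) (hpH : p ∣ Nat.card H) :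
    ∃ g0 : SF, ∀ h ∈ H, ((g0 * h * g0⁻¹ : SF) : MF) 1 0 = 0 := by
  classical
  have : Fintype F := Fintype.ofFinite _
  obtain ⟨Q⟩ : Nonempty (Sylow p H) := inferInstance
  have hss : Subsingleton (Sylow p H) := (Nat.card_eq_one_iff_unique.mp hH).1
  have hQn : (Q : Subgroup H).Normal := Sylow.normal_of_subsingleton Q
  -- a nontrivial element of `Q`
  obtain ⟨y, hy⟩ := exists_prime_orderOf_dvd_card' (G := H) p hpH
  have hyQ : y ∈ (Q : Subgroup H) := by
    have hyp : IsPGroup p (Subgroup.zpowers y) :=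
      IsPGroup.of_card (n := 1) (by rw [Nat.card_zpowers, hy, pow_one])
    obtain ⟨Q', hQ'⟩ := hyp.exists_le_sylow
    rw [Subsingleton.elim Q Q']
    exact hQ' (Subgroup.mem_zpowers y)
  have hy1 : (y : SF) ≠ 1 := by
    intro h
    have : y = 1 := Subtype.ext h
    rw [this, orderOf_one] at hy
    exact (Fact.out : p.Prime).one_lt.ne hy
  set Q' : Subgroup SF := (Q : Subgroup H).map H.subtype with hQ'
  have hQ'p : IsPGroup p Q' := Q.isPGroup'.map _
  obtain ⟨S, hS⟩ := hQ'p.exists_le_sylow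
  obtain ⟨g0, hg0⟩ := Cfsg.Agent.Helper12.exists_conj_sylow_eq_unipSL p S
  have hconj : ∀ x ∈ Q', g0 * x * g0⁻¹ ∈ Cfsg.Agent.Helper12.unipSL F := by
    intro x hx
    rw [← hg0]
    exact ⟨x, hS hx, rfl⟩
  have hyQ' : (y : SF) ∈ Q' := ⟨y, hyQ, rfl⟩
  have h1 := (Cfsg.Agent.Helper12.mem_unipSL_iff _).1 (hconj _ hyQ')
  have e := eq_uM _ h1.1 h1.2
  set a := ((g0 * (y : SF) * g0⁻¹ : SF) : MF) 0 1 with ha
  have ha0 : a ≠ 0 := by
    intro h0
    rw [h0, uM_zero] at e
    apply hy1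
    have : (y : SF) = g0⁻¹ * (g0 * (y : SF) * g0⁻¹) * g0 := by group
    rw [this, e]; group
  refine ⟨g0, fun h hh => ?_⟩
  -- `h y h⁻¹ ∈ Q'`
  have hmem : h * (y : SF) * h⁻¹ ∈ Q' := by
    have := hQn.conj_mem y hyQ ⟨h, hh⟩
    exact ⟨_, this, rfl⟩
  have h2 := (Cfsg.Agent.Helper12.mem_unipSL_iff _).1 (hconj _ hmem)
  have e2 := eq_uM _ h2.1 h2.2
  apply borel_of_conj_uM a (((g0 * (h * (y : SF) * h⁻¹) * g0⁻¹ : SF) : MF) 0 1) ha0
    (g0 * h * g0⁻¹)
  rw [← e, ← e2]
  group

end Cfsg.Agent.Helper18.Dickson
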