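import Cfsg.Agent.Helper18.Dickson2

/-! Dickson-type counting, part 3: orbits. -/

set_option autoImplicit false

open scoped LinearAlgebra.Projectivization

namespace Cfsg.Agent.Helper18.Dickson

variable {E : Type*} [Field E]

local notation "S2" => Matrix.SpecialLinearGroup (Fin 2) E
local notation "M2" => Matrix (Fin 2) (Fin 2) E
local notation "PL" => ℙ E (Fin 2 → E)

/-- conjugation-invariant classes -/
def ConjInv (C : S2 → Prop) : Prop := ∀ g h : S2, C (h * g * h⁻¹) ↔ C g

theorem conjInv_isPM : ConjInv (IsPM : S2 → Prop) := fun g h => isPM_conj_iff g h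

theorem conjInv_isPar : ConjInv (IsPar : S2 → Prop) := fun g h => by
  unfold IsPar
  rw [isPM_conj_iff, tr_conj]

theorem conjInv_isSs : ConjInv (IsSs : S2 → Prop) := fun g h => by
  unfold IsSs
  rw [tr_conj]

theorem cnt_smul (H : Subgroup S2) (C : S2 → Prop) (hC : ConjInv C) (h : S2) (hh : h ∈ H)
    (x : PL) : cnt H C (h • x) = cnt H C x := by
  unfold cnt
  apply Nat.card_congr
  refine ⟨fun g => ⟨h⁻¹ * g.1 * h, ?_⟩, fun g => ⟨h * g.1 * h⁻¹, ?_⟩, ?_, ?_⟩
  · obtain ⟨g, h1, h2, h3⟩ := g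
    refine ⟨H.mul_mem (H.mul_mem (H.inv_mem hh) h1) hh, ?_, ?_⟩
    · have := (hC g h⁻¹).2 h2
      simpa using this
    · rw [mul_smul, mul_smul, h3, inv_smul_smul]
  · obtain ⟨g, h1, h2, h3⟩ := g
    refine ⟨H.mul_mem (H.mul_mem hh h1) (H.inv_mem hh), (hC g h).2 h2, ?_⟩
    rw [mul_smul, mul_smul, inv_smul_smul, h3]
  · intro g; apply Subtype.ext; simp only; group
  · intro g; apply Subtype.ext; simp only; group

theorem stN_smul (H : Subgroup S2) (h : S2) (hh : h ∈ H) (x : PL) :
    stN H (h • x) = stN H x := by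
  have := cnt_smul H (fun _ => True) (fun _ _ => Iff.rfl) h hh x
  unfold cnt at this
  unfold stN
  have e1 : ∀ y : PL, Nat.card {g : S2 // g ∈ H ∧ g • y = y} =
      Nat.card {g : S2 // g ∈ H ∧ (fun _ => True) g ∧ g • y = y} := fun y =>
    Nat.card_congr (Equiv.subtypeEquivRight (fun g => by simp))
  rw [e1, e1, this]

/-- the orbit of `x` under `H` -/
def orb (H : Subgroup S2) (x : PL) : Set PL := {y | ∃ h ∈ H, h • x = y}

theorem mem_orb_self (H : Subgroup S2) (x : PL) : x ∈ orb H x := ⟨1, H.one_mem, one_smul _ _⟩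

theorem orb_eq_of_mem (H : Subgroup S2) {x y : PL} (hy : y ∈ orb H x) : orb H y = orb H x := by
  obtain ⟨h, hh, rfl⟩ := hy
  ext w
  constructor
  · rintro ⟨k, hk, rfl⟩
    exact ⟨k * h, H.mul_mem hk hh, mul_smul _ _ _⟩
  · rintro ⟨k, hk, rfl⟩
    exact ⟨k * h⁻¹, H.mul_mem hk (H.inv_mem hh), by rw [mul_smul, inv_smul_smul]⟩

theorem orb_disjoint (H : Subgroup S2) {x y : PL} (hy : y ∉ orb H x) :
    Disjoint (orb H x) (orb H y) := by
  rw [Set.disjoint_left]
  intro w h1 h2
  apply hy
  rw [← orb_eq_of_mem H h1, orb_eq_of_mem H h2]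
  exact mem_orb_self H y

theorem orb_eq_orbit (H : Subgroup S2) (x : PL) : orb H x = MulAction.orbit H x := by
  ext y
  constructor
  · rintro ⟨h, hh, rfl⟩
    exact ⟨⟨h, hh⟩, rfl⟩
  · rintro ⟨⟨h, hh⟩, rfl⟩
    exact ⟨h, hh, rfl⟩

/-- orbit-stabiliser -/
theorem orb_mul_stN [Finite E] (H : Subgroup S2) (x : PL) :
    (orb H x).ncard * stN H x = Nat.card H := by
  rw [orb_eq_orbit, ← MulAction.index_stabilizer]
  have : stN H x = Nat.card (MulAction.stabilizer H x) := by
    unfold stN
    apply Nat.card_congr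
    refine ⟨fun g => ⟨⟨g.1, g.2.1⟩, g.2.2⟩, fun g => ⟨g.1.1, g.1.2, g.2⟩, ?_, ?_⟩
    · intro g; rfl
    · intro g; rfl
  rw [this, mul_comm]
  exact Subgroup.card_mul_index _


theorem sum_orb [Fintype PL] (H : Subgroup S2) (f : PL → ℕ)
    (hf : ∀ h ∈ H, ∀ x, f (h • x) = f x) (x : PL) [DecidablePred (· ∈ orb H x)] :
    ∑ y ∈ Finset.univ.filter (· ∈ orb H x), f y = (orb H x).ncard * f x := by
  have h1 : ∀ y ∈ Finset.univ.filter (· ∈ orb H x), f y = f x := by
    intro y hy
    rw [Finset.mem_filter] at hy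
    obtain ⟨h, hh, rfl⟩ := hy.2
    exact hf h hh x
  rw [Finset.sum_congr rfl h1, Finset.sum_const, smul_eq_mul]
  congr 1
  rw [Set.ncard_eq_toFinset_card']
  congr 1
  ext y
  simp

theorem sum_orb_add [Finite E] [Fintype PL] (H : Subgroup S2) (z : ℕ) (w : PL → ℕ)
    (hst : ∀ x, stN H x = z + w x) (hw : ∀ h ∈ H, ∀ x, w (h • x) = w x) (x : PL)
    [DecidablePred (· ∈ orb H x)] :
    ∑ y ∈ Finset.univ.filter (· ∈ orb H x), w y + z * (orb H x).ncard = Nat.card H := by
  rw [sum_orb H w hw x, ← orb_mul_stN H x, hst x]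
  ring

theorem orbit_analysis [Finite E] [Fintype PL] (H : Subgroup S2) (z : ℕ) (w : PL → ℕ)
    (hst : ∀ x, stN H x = z + w x) (hdiv : ∀ x, z ∣ w x)
    (hw : ∀ h ∈ H, ∀ x, w (h • x) = w x) (x0 : PL) :
    (∑ x, w x + z * (orb H x0).ncard = Nat.card H) ∨
    (∃ x1, x1 ∉ orb H x0 ∧ 0 < w x1 ∧
      ∑ x, w x + z * (orb H x0).ncard + z * (orb H x1).ncard = 2 * Nat.card H) ∨
    (2 * Nat.card H ≤ ∑ x, w x + z * (orb H x0).ncard) := by
  classical
  have hsum := fun x => sum_orb_add H z w hst hw x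
  by_cases h1 : ∀ x, x ∉ orb H x0 → w x = 0
  · left
    rw [← hsum x0]
    congr 1
    symm
    apply Finset.sum_subset (Finset.subset_univ _)
    intro x _ hx
    apply h1
    simpa using hx
  · right
    push Not at h1
    obtain ⟨x1, hx1, hw1⟩ := h1
    have hw1' : 0 < w x1 := Nat.pos_of_ne_zero hw1
    have hd01 : Disjoint (Finset.univ.filter (· ∈ orb H x0)) (Finset.univ.filter (· ∈ orb H x1)) := by
      rw [Finset.disjoint_left]
      intro y hy0 hy1
      simp only [Finset.mem_filter, Finset.mem_univ, true_and] at hy0 hy1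
      exact Set.disjoint_left.1 (orb_disjoint H hx1) hy0 hy1
    by_cases h2 : ∀ x, x ∉ orb H x0 → x ∉ orb H x1 → w x = 0
    · left
      refine ⟨x1, hx1, hw1', ?_⟩
      have : ∑ x, w x = ∑ y ∈ Finset.univ.filter (· ∈ orb H x0), w y +
          ∑ y ∈ Finset.univ.filter (· ∈ orb H x1), w y := by
        rw [← Finset.sum_union hd01]
        symm
        apply Finset.sum_subset (Finset.subset_univ _)
        intro x _ hx
        simp only [Finset.mem_union, Finset.mem_filter, Finset.mem_univ, true_and, not_or] at hx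
        exact h2 x hx.1 hx.2
      have e0 := hsum x0
      have e1 := hsum x1
      omega
    · right
      push Not at h2
      obtain ⟨x2, hx20, hx21, hw2⟩ := h2
      have hd02 : Disjoint (Finset.univ.filter (· ∈ orb H x0)) (Finset.univ.filter (· ∈ orb H x2)) := by
        rw [Finset.disjoint_left]
        intro y hy0 hy1
        simp only [Finset.mem_filter, Finset.mem_univ, true_and] at hy0 hy1
        exact Set.disjoint_left.1 (orb_disjoint H hx20) hy0 hy1
      have hd12 : Disjoint (Finset.univ.filter (· ∈ orb H x1)) (Finset.univ.filter (· ∈ orb H x2)) := by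
        rw [Finset.disjoint_left]
        intro y hy0 hy1
        simp only [Finset.mem_filter, Finset.mem_univ, true_and] at hy0 hy1
        exact Set.disjoint_left.1 (orb_disjoint H hx21) hy0 hy1
      have hle : ∑ y ∈ Finset.univ.filter (· ∈ orb H x0), w y +
          ∑ y ∈ Finset.univ.filter (· ∈ orb H x1), w y +
          ∑ y ∈ Finset.univ.filter (· ∈ orb H x2), w y ≤ ∑ x, w x := by
        rw [← Finset.sum_union hd01, ← Finset.sum_union (Finset.disjoint_union_left.2 ⟨hd02, hd12⟩)]
        exact Finset.sum_le_sum_of_subset (Finset.subset_univ _)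
      have e0 := hsum x0
      have e1 := hsum x1
      have e2 := hsum x2
      have hb : ∀ x, w x ≠ 0 → 2 * (z * (orb H x).ncard) ≤ Nat.card H := by
        intro x hx
        rw [← orb_mul_stN H x, hst x]
        obtain ⟨c, hc⟩ := hdiv x
        have hc1 : 1 ≤ c := by
          rcases Nat.eq_zero_or_pos c with h0 | h0
          · rw [h0, mul_zero] at hc; exact absurd hc hx
          · exact h0
        rw [hc]
        nlinarith [Nat.zero_le ((orb H x).ncard * z)]
      have b1 := hb x1 hw1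
      have b2 := hb x2 hw2
      omega

end Cfsg.Agent.Helper18.Dickson
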