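import Cfsg.Agent.Helper18.Dickson29
import Cfsg.Agent.Helper18.DicksonK2

/-! Dickson-type counting, part 30: order bounds; the minimal index of a proper subgroup of
`PSL₂(q)`, `q` odd. -/

set_option autoImplicit false

namespace Cfsg.Agent.Helper18.Dickson

variable {F : Type*} [Field F]

local notation "SF" => Matrix.SpecialLinearGroup (Fin 2) F
local notation "MF" => Matrix (Fin 2) (Fin 2) F
local notation "PF" => Matrix.ProjectiveSpecialLinearGroup (Fin 2) F

theorem card_center_sl2 (h2 : (2 : F) ≠ 0) : Nat.card (Subgroup.center SF) = 2 := by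
  rw [Nat.card_eq_two_iff]
  refine ⟨⟨1, (mem_center_iff' 1).2 (Or.inl rfl)⟩, ⟨-1, (mem_center_iff' (-1)).2 (Or.inr rfl)⟩,
    ?_, ?_⟩
  · intro h
    exact one_ne_neg_one h2 (congrArg Subtype.val h)
  · ext x
    simp only [Set.mem_insert_iff, Set.mem_singleton_iff, Set.mem_univ, iff_true]
    rcases (mem_center_iff' x.1).1 x.2 with h | h
    · left; exact Subtype.ext h
    · right; exact Subtype.ext h

theorem card_sl2_eq_two_mul [Finite F] (h2 : (2 : F) ≠ 0) : Nat.card SF = 2 * Nat.card PF := by
  have := Subgroup.card_eq_card_quotient_mul_card_subgroup (Subgroup.center SF)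
  rw [card_center_sl2 h2] at this
  rw [this, mul_comm]

/-- the full preimage has twice the order -/
theorem card_comap_mk [Finite F] (h2 : (2 : F) ≠ 0) (H : Subgroup PF) :
    Nat.card (H.comap (QuotientGroup.mk' (Subgroup.center SF))) = 2 * Nat.card H := by
  have hidx : (H.comap (QuotientGroup.mk' (Subgroup.center SF))).index = H.index :=
    Subgroup.index_comap_of_surjective H (QuotientGroup.mk'_surjective _)
  have h1 := (H.comap (QuotientGroup.mk' (Subgroup.center SF))).card_mul_index
  have h3 := H.card_mul_index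
  rw [hidx, card_sl2_eq_two_mul h2, ← h3] at h1
  have hpos : 0 < H.index := Nat.pos_of_ne_zero Subgroup.index_ne_zero_of_finite
  have : Nat.card (H.comap (QuotientGroup.mk' (Subgroup.center SF))) * H.index =
      (2 * Nat.card H) * H.index := by rw [h1]; ring
  exact Nat.eq_of_mul_eq_mul_right hpos this

theorem card_SLK [Finite F] (K : Subfield F) :
    Nat.card (SLK K) = (Nat.card K + 1) * ((Nat.card K - 1) * Nat.card K) := by
  classical
  have : Fintype K := Fintype.ofFinite K
  rw [Nat.card_congr (SLKEquiv K).toEquiv, Cfsg.Agent.S2301.card_sl2, Nat.card_eq_fintype_card]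

theorem card_NK_le [Finite F] (K : Subfield F) : Nat.card (NK K) ≤ 2 * Nat.card (SLK K) := by
  classical
  by_cases hle : NK K ≤ SLK K
  · have := Subgroup.card_le_of_le hle
    omega
  · rw [SetLike.not_le_iff_exists] at hle
    obtain ⟨h, hhN, hhK⟩ := hle
    obtain ⟨t, ht0, ht2, ht⟩ := (mem_NK K h).1 hhN
    have htK : t ∉ K := fun hK => hhK (mem_SLK_of_scaled K h t ht0 hK ht)
    have key : ∀ n ∈ NK K, n ∉ SLK K → n * h⁻¹ ∈ SLK K := by
      intro n hn hnK
      obtain ⟨s, hs0, hs2, hs⟩ := (mem_NK K n).1 hn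
      have hsK : s ∉ K := fun hK => hnK (mem_SLK_of_scaled K n s hs0 hK hs)
      have hst := sqrt_mul_mem K s t ht0 hs2 ht2 hsK htK
      exact mem_SLK_of_scaled K (n * h⁻¹) (s * t) (mul_ne_zero hs0 ht0) hst
        (scaled_mul_inv K n h s t hs ht)
    have : Nat.card (NK K) ≤ Nat.card (SLK K ⊕ SLK K) := by
      apply Nat.card_le_card_of_injective (fun n : NK K =>
        if hn : (n : SF) ∈ SLK K then Sum.inl ⟨n, hn⟩ else Sum.inr ⟨n * h⁻¹, key n n.2 hn⟩)
      intro a b hab
      by_cases ha : (a : SF) ∈ SLK K <;> by_cases hb : (b : SF) ∈ SLK K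
      · simp only [ha, hb, dite_true, Sum.inl.injEq, Subtype.mk.injEq] at hab
        exact Subtype.ext hab
      · simp only [ha, hb, dite_true, dite_false] at hab
        exact absurd hab (by simp)
      · simp only [ha, hb, dite_true, dite_false] at hab
        exact absurd hab (by simp)
      · simp only [ha, hb, dite_false, Sum.inr.injEq, Subtype.mk.injEq] at hab
        exact Subtype.ext (mul_right_cancel hab)
    rw [Nat.card_sum] at this
    omega

theorem card_A4 : Nat.card (alternatingGroup (Fin 4)) = 12 := by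
  rw [nat_card_alternatingGroup, Nat.card_eq_fintype_card, Fintype.card_fin]; rfl

theorem card_A5 : Nat.card (alternatingGroup (Fin 5)) = 60 := by
  rw [nat_card_alternatingGroup, Nat.card_eq_fintype_card, Fintype.card_fin]; rfl

theorem card_S4 : Nat.card (Equiv.Perm (Fin 4)) = 24 := Klein.card_perm_fin_four

/-- order bound for `p′`-subgroups -/
theorem card_le_of_pprime [Fintype F] (p : ℕ) [Fact p.Prime] [CharP F p] (hp : p ≠ 2)
    (H : Subgroup PF) (hpH : ¬ p ∣ Nat.card H) :
    Nat.card H ≤ Fintype.card F + 1 ∨ Nat.card H = 12 ∨ Nat.card H = 24 ∨ Nat.card H = 60 := by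
  have hq2 : 2 ≤ Fintype.card F := Fintype.one_lt_card
  obtain ⟨r, hr⟩ := odd_card_of_char (F := F) p hp
  have hpos1 : 0 < (Fintype.card F + 1) / 2 := by omega
  have hpos2 : 0 < (Fintype.card F - 1) / 2 := by omega
  have hkle : ∀ k : ℕ, (k ∣ (Fintype.card F + 1) / 2 ∨ k ∣ (Fintype.card F - 1) / 2) →
      2 * k ≤ Fintype.card F + 1 := by
    intro k hk
    rcases hk with hk | hk
    · have := Nat.le_of_dvd hpos1 hk; omega
    · have := Nat.le_of_dvd hpos2 hk; omega
  rcases pprime_dickson p hp H hpH with ⟨k, hk, hc | e⟩ | e | e | e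
  · left
    rw [hc.2]
    have := hkle k hk
    omega
  · left
    obtain ⟨e⟩ := e
    rw [Nat.card_congr e.toEquiv, DihedralGroup.nat_card]
    exact hkle k hk
  · right; left; obtain ⟨e⟩ := e; rw [Nat.card_congr e.toEquiv, card_A4]
  · right; right; left; obtain ⟨e⟩ := e; rw [Nat.card_congr e.toEquiv, card_S4]
  · right; right; right; obtain ⟨e⟩ := e; rw [Nat.card_congr e.toEquiv, card_A5]

/-- **Order bound**: a proper subgroup of `PSL₂(q)`, `q ≥ 13` odd, has order at most
`q (q - 1) / 2`. -/
theorem card_le_of_ne_top [Fintype F] (p : ℕ) [Fact p.Prime] [CharP F p] (hp : p ≠ 2)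
    (hq : 13 ≤ Fintype.card F) (H : Subgroup PF) (hne : H ≠ ⊤) :
    2 * Nat.card H ≤ (Fintype.card F - 1) * Fintype.card F := by
  classical
  have h2 : (2 : F) ≠ 0 := two_ne_zero_of_char (E := F) p hp
  set q := Fintype.card F with hqdef
  have h156 : 156 ≤ (q - 1) * q := by
    have : 12 * 13 ≤ (q - 1) * q := Nat.mul_le_mul (by omega) hq
    omega
  set Hh := H.comap (QuotientGroup.mk' (Subgroup.center SF)) with hHh
  have hcard : Nat.card Hh = 2 * Nat.card H := card_comap_mk h2 H
  rw [← hcard]
  by_cases hpH : p ∣ Nat.card H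
  · have hpHh : p ∣ Nat.card Hh := by rw [hcard]; exact dvd_mul_of_dvd_right hpH 2
    have hpos : 0 < Nat.card (Sylow p Hh) := Nat.card_pos
    rcases Nat.eq_or_lt_of_le (Nat.succ_le_of_lt hpos) with h1 | h1
    · -- one Sylow
      obtain ⟨g0, hg0⟩ := struct_one_sylow p Hh h1.symm hpHh
      have : Nat.card Hh ≤ Nat.card (Cfsg.Agent.Helper12.borelSL F) := by
        apply Nat.card_le_card_of_injective (fun h : Hh =>
          (⟨g0 * h * g0⁻¹, (Cfsg.Agent.Helper12.mem_borelSL_iff _).2 (hg0 h h.2)⟩ :
            Cfsg.Agent.Helper12.borelSL F))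
        intro a b hab
        have h3 : g0 * (a : SF) * g0⁻¹ = g0 * (b : SF) * g0⁻¹ := congrArg Subtype.val hab
        apply Subtype.ext
        have : (a : SF) = g0⁻¹ * (g0 * (a : SF) * g0⁻¹) * g0 := by group
        rw [this, h3]; group
      rw [Cfsg.Agent.Helper12.card_borelSL] at this
      exact this
    · -- at least two
      obtain ⟨ε, -, -, hcases⟩ := struct_two_sylow p hp Hh h1
      rcases hcases with ⟨-, h120⟩ | ⟨K, hK⟩
      · rw [h120]; omega
      · have hc2 : Nat.card (Hh.map ε.toMonoidHom) = Nat.card Hh :=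
          Subgroup.card_map_of_injective ε.injective
        have hk2 := Cfsg.Agent.Helper11.FinSub.two_le_card K
        obtain ⟨s, hs1, hs⟩ := Cfsg.Agent.Helper11.FinSub.card_pow_top K
        set k := Nat.card K with hk
        have hle : Nat.card Hh ≤ 2 * ((k + 1) * ((k - 1) * k)) := by
          rw [← hc2, ← card_SLK K]
          rcases hK with hK | hK
          · rw [hK]; omega
          · rw [hK]; exact card_NK_le K
        have hs2 : 2 ≤ s := by
          by_contra hlt
          have hs1' : s = 1 := by omega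
          rw [hs1', pow_one] at hs
          have hKtop : K = ⊤ := Cfsg.Agent.Helper11.FinSub.eq_top_of_card_eq K hs.symm
          have hSLK : SLK K ≤ Hh.map ε.toMonoidHom := by
            rcases hK with hK | hK
            · rw [hK]
            · rw [hK]; exact SLK_le_NK K
          rw [hKtop, SLK_top] at hSLK
          have hHtop : Hh = ⊤ := by
            rw [eq_top_iff]
            intro x _
            obtain ⟨y, hy, hyx⟩ := hSLK (Subgroup.mem_top (ε x))
            have : y = x := ε.injective hyx
            rw [← this]; exact hy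
          apply hne
          rw [eq_top_iff]
          intro x _
          obtain ⟨y, rfl⟩ := QuotientGroup.mk'_surjective (Subgroup.center SF) x
          have : y ∈ Hh := by rw [hHtop]; trivial
          exact this
        have hk2q : k ^ 2 ≤ q := by
          rw [hqdef, hs]; exact Nat.pow_le_pow_right (by omega) hs2
        have h3 : 2 * ((k + 1) * ((k - 1) * k)) ≤ (k ^ 2 - 1) * k ^ 2 := by
          obtain ⟨j, hj⟩ : ∃ j, k = j + 2 := ⟨k - 2, by omega⟩
          rw [hj]
          have e1 : (j + 2) ^ 2 - 1 = (j + 3) * (j + 1) := by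
            have : (j + 2) ^ 2 = (j + 3) * (j + 1) + 1 := by ring
            rw [this]; simp
          have e2 : j + 2 - 1 = j + 1 := by omega
          rw [e1, e2]
          have e3 : 2 * ((j + 2 + 1) * ((j + 1) * (j + 2))) = ((j + 3) * (j + 1) * (j + 2)) * 2 := by
            ring
          have e4 : (j + 3) * (j + 1) * (j + 2) ^ 2 = ((j + 3) * (j + 1) * (j + 2)) * (j + 2) := by
            ring
          rw [e3, e4]
          exact Nat.mul_le_mul_left _ (by omega)
        have h4 : (k ^ 2 - 1) * k ^ 2 ≤ (q - 1) * q :=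
          Nat.mul_le_mul (Nat.sub_le_sub_right hk2q 1) hk2q
        omega
  · rcases card_le_of_pprime p hp H hpH with h | h | h | h
    · rw [hcard]
      have : q + 1 ≤ 78 ∨ 78 < q + 1 := by omega
      have h5 : 2 * (q + 1) ≤ (q - 1) * q := by
        have : 2 * (q + 1) ≤ 12 * q := by omega
        have : 12 * q ≤ (q - 1) * q := Nat.mul_le_mul_right _ (by omega)
        omega
      omega
    · rw [hcard, h]; omega
    · rw [hcard, h]; omega
    · rw [hcard, h]; omega

end Cfsg.Agent.Helper18.Dickson
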