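import Cfsg.Agent.Helper18.Dickson30
import Cfsg.Agent.Helper11.L2EG

/-! Dickson-type counting, part 31: the minimal index of a proper subgroup of `PSL₂(q)`. -/

set_option autoImplicit false

namespace Cfsg.Agent.Helper18.Dickson

open Cfsg.Agent.Helper11.L2E Cfsg.Agent.Helper11.SCTI

variable {F : Type*} [Field F]

local notation "SF" => Matrix.SpecialLinearGroup (Fin 2) F
local notation "MF" => Matrix (Fin 2) (Fin 2) F
local notation "PF" => Matrix.ProjectiveSpecialLinearGroup (Fin 2) F

/-- order bound, even characteristic -/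
theorem card_le_even [Fintype F] [CharP F 2] (hq : 4 ≤ Fintype.card F) (M : Subgroup SF)
    (hne : M ≠ ⊤) : Nat.card M ≤ (Fintype.card F - 1) * Fintype.card F := by
  classical
  set q := Fintype.card F with hqdef
  rcases main M with ⟨g, hg⟩ | ⟨T, hT, hle⟩ | ⟨g, K, hK, hMK⟩
  · have h1 := Subgroup.card_le_of_le hg
    rw [card_cj, card_Bsub] at h1
    rw [mul_comm]; exact h1
  · have h1 := Subgroup.card_le_of_le hle
    rw [hT.card_normalizer] at h1
    have h3 : Nat.card T ≤ q + 1 := by
      rcases hT.card with h | h <;> omega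
    have h4 : 3 * q ≤ (q - 1) * q := Nat.mul_le_mul_right _ (by omega)
    omega
  · have hKtop : K ≠ ⊤ := by
      rintro rfl
      apply hne
      rw [hMK, SL2K_top, eq_top_iff]
      intro x _
      rw [mem_cj]
      exact Subgroup.mem_top _
    have : Fintype K := Fintype.ofFinite K
    obtain ⟨e⟩ := nonempty_SL2K_equiv K
    have hcard : Nat.card M = (Nat.card K + 1) * ((Nat.card K - 1) * Nat.card K) := by
      rw [hMK, card_cj, Nat.card_congr e.toEquiv, Cfsg.Agent.S2301.card_sl2,
        Nat.card_eq_fintype_card]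
    have hk2 := Cfsg.Agent.Helper11.FinSub.two_le_card K
    obtain ⟨s, hs1, hs⟩ := Cfsg.Agent.Helper11.FinSub.card_pow_top K
    have hs2 : 2 ≤ s := by
      by_contra hlt
      have hs1' : s = 1 := by omega
      rw [hs1', pow_one] at hs
      exact hKtop (Cfsg.Agent.Helper11.FinSub.eq_top_of_card_eq K hs.symm)
    generalize Nat.card K = k at *
    have hk2q : k ^ 2 ≤ q := by
      rw [hqdef, hs]; exact Nat.pow_le_pow_right (by omega) hs2
    have h3 : (k + 1) * ((k - 1) * k) ≤ (k ^ 2 - 1) * k ^ 2 := by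
      obtain ⟨j, rfl⟩ : ∃ j, k = j + 2 := ⟨k - 2, by omega⟩
      have e1 : (j + 2) ^ 2 - 1 = (j + 3) * (j + 1) := by
        have : (j + 2) ^ 2 = (j + 3) * (j + 1) + 1 := by ring
        rw [this]; simp
      have e2 : j + 2 - 1 = j + 1 := by omega
      rw [e1, e2]
      have e3 : (j + 2 + 1) * ((j + 1) * (j + 2)) = ((j + 3) * (j + 1) * (j + 2)) * 1 := by ring
      have e4 : (j + 3) * (j + 1) * (j + 2) ^ 2 = ((j + 3) * (j + 1) * (j + 2)) * (j + 2) := by
        ring
      rw [e3, e4]
      exact Nat.mul_le_mul_left _ (by omega)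
    have h4 : (k ^ 2 - 1) * k ^ 2 ≤ (q - 1) * q :=
      Nat.mul_le_mul (Nat.sub_le_sub_right hk2q 1) hk2q
    omega

theorem comap_ne_top (H : Subgroup PF) (hne : H ≠ ⊤) :
    H.comap (QuotientGroup.mk' (Subgroup.center SF)) ≠ ⊤ := by
  intro h
  apply hne
  rw [eq_top_iff]
  intro x _
  obtain ⟨y, rfl⟩ := QuotientGroup.mk'_surjective (Subgroup.center SF) x
  have : y ∈ H.comap (QuotientGroup.mk' (Subgroup.center SF)) := by rw [h]; trivial
  exact this

/-- **Minimal index.** -/
theorem min_index [Fintype F] (hq : Fintype.card F ∉ ({2, 3, 5, 7, 9, 11} : Finset ℕ)) :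
    (∀ H : Subgroup PF, H ≠ ⊤ → Fintype.card F + 1 ≤ H.index) ∧
      ∃ H : Subgroup PF, H.index = Fintype.card F + 1 := by
  classical
  simp only [Finset.mem_insert, Finset.mem_singleton, not_or] at hq
  obtain ⟨hq2, hq3, hq5, hq7, hq9, hq11⟩ := hq
  set q := Fintype.card F with hqdef
  have hq2' : 2 ≤ q := Fintype.one_lt_card
  have hSF : Nat.card SF = (q + 1) * ((q - 1) * q) := Cfsg.Agent.S2301.card_sl2
  have hpos : 0 < (q - 1) * q := Nat.mul_pos (by omega) (by omega)
  obtain ⟨p, hchar⟩ := CharP.exists F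
  have hpp : p.Prime := CharP.char_is_prime F p
  have : Fact p.Prime := ⟨hpp⟩
  have hbound : ∀ H : Subgroup PF, H ≠ ⊤ →
      Nat.card (H.comap (QuotientGroup.mk' (Subgroup.center SF))) ≤ (q - 1) * q := by
    intro H hne
    by_cases hp : p = 2
    · subst hp
      obtain ⟨n, -, hn⟩ := FiniteField.card F 2
      have hq4 : 4 ≤ q := by
        have hn2 : 2 ≤ (n : ℕ) := by
          by_contra hlt
          have : (n : ℕ) = 1 := by have := n.pos; omega
          rw [this, pow_one] at hn
          exact hq2 (by rw [hqdef, hn])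
        have : 2 ^ 2 ≤ 2 ^ (n : ℕ) := Nat.pow_le_pow_right (by norm_num) hn2
        rw [hqdef, hn]; omega
      exact card_le_even hq4 _ (comap_ne_top H hne)
    · have h2 : (2 : F) ≠ 0 := two_ne_zero_of_char (E := F) p hp
      obtain ⟨r, hr⟩ := odd_card_of_char (F := F) p hp
      have hq13 : 13 ≤ q := by omega
      rw [card_comap_mk h2 H]
      exact card_le_of_ne_top p hp hq13 H hne
  constructor
  · intro H hne
    have hidx : (H.comap (QuotientGroup.mk' (Subgroup.center SF))).index = H.index :=
      Subgroup.index_comap_of_surjective H (QuotientGroup.mk'_surjective _)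
    have h1 := (H.comap (QuotientGroup.mk' (Subgroup.center SF))).card_mul_index
    rw [hidx, hSF] at h1
    have hb := hbound H hne
    by_contra hlt
    push Not at hlt
    have h3 : Nat.card (H.comap (QuotientGroup.mk' (Subgroup.center SF))) * H.index ≤
        ((q - 1) * q) * q := Nat.mul_le_mul hb (by omega)
    have h4 : ((q - 1) * q) * q < (q + 1) * ((q - 1) * q) := by
      have : (q + 1) * ((q - 1) * q) = ((q - 1) * q) * q + (q - 1) * q := by ring
      omega
    omega
  · refine ⟨(Cfsg.Agent.Helper12.borelSL F).map (QuotientGroup.mk' (Subgroup.center SF)), ?_⟩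
    have hle : Subgroup.center SF ≤ Cfsg.Agent.Helper12.borelSL F := by
      intro g hg
      rw [Cfsg.Agent.Helper12.mem_borelSL_iff]
      rcases (mem_center_iff' g).1 hg with rfl | rfl <;> simp
    have hcm : ((Cfsg.Agent.Helper12.borelSL F).map
        (QuotientGroup.mk' (Subgroup.center SF))).comap
          (QuotientGroup.mk' (Subgroup.center SF)) = Cfsg.Agent.Helper12.borelSL F := by
      rw [Subgroup.comap_map_eq, QuotientGroup.ker_mk']
      exact sup_eq_left.mpr hle
    have hidx := Subgroup.index_comap_of_surjective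
      ((Cfsg.Agent.Helper12.borelSL F).map (QuotientGroup.mk' (Subgroup.center SF)))
      (QuotientGroup.mk'_surjective (Subgroup.center SF))
    rw [hcm] at hidx
    rw [← hidx]
    have h1 := (Cfsg.Agent.Helper12.borelSL F).card_mul_index
    rw [hSF, Cfsg.Agent.Helper12.card_borelSL] at h1
    have : ((q - 1) * q) * (Cfsg.Agent.Helper12.borelSL F).index = ((q - 1) * q) * (q + 1) := by
      rw [h1]; ring
    exact Nat.eq_of_mul_eq_mul_left hpos this

end Cfsg.Agent.Helper18.Dickson
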