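import Cfsg.Agent.Helper18.Dickson31

/-! Dickson-type counting, part 32: subgroups of `PSL₂(F)` of order divisible by `p`
(`F` finite of odd characteristic `p`). -/

set_option autoImplicit false

namespace Cfsg.Agent.Helper18.Dickson

variable {F : Type*} [Field F]

local notation "SF" => Matrix.SpecialLinearGroup (Fin 2) F
local notation "MF" => Matrix (Fin 2) (Fin 2) F
local notation "PF" => Matrix.ProjectiveSpecialLinearGroup (Fin 2) F
local notation "π" => QuotientGroup.mk' (Subgroup.center SF)

/-- the automorphism of `PSL₂(F)` induced by an automorphism of `SL₂(F)` -/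
noncomputable def pslEquivOfSL (ε : SF ≃* SF) : PF ≃* PF :=
  QuotientGroup.congr (Subgroup.center SF) (Subgroup.center SF) ε
    (Subgroup.characteristic_iff_map_eq.1 Subgroup.centerCharacteristic ε)

theorem pslEquivOfSL_mk (ε : SF ≃* SF) (x : SF) : pslEquivOfSL ε (π x) = π (ε x) := rfl

theorem map_pslEquivOfSL (ε : SF ≃* SF) (H : Subgroup PF) :
    H.map (pslEquivOfSL ε).toMonoidHom = ((H.comap π).map ε.toMonoidHom).map π := by
  ext y
  constructor
  · rintro ⟨x, hx, rfl⟩
    obtain ⟨z, rfl⟩ := QuotientGroup.mk'_surjective (Subgroup.center SF) x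
    exact ⟨ε z, ⟨z, hx, rfl⟩, rfl⟩
  · rintro ⟨w, ⟨z, hz, rfl⟩, rfl⟩
    exact ⟨π z, hz, rfl⟩

/-- the commutator of two upper triangular matrices is unipotent -/
theorem comm_borel (a b : SF) (ha : (a : MF) 1 0 = 0) (hb : (b : MF) 1 0 = 0) :
    ((a * b * a⁻¹ * b⁻¹ : SF) : MF) 1 0 = 0 ∧ ((a * b * a⁻¹ * b⁻¹ : SF) : MF) 0 0 = 1 := by
  have hai : ((a⁻¹ : SF) : MF) 1 0 = 0 :=
    (mem_Bsub _).1 ((Bsub F).inv_mem ((mem_Bsub a).2 ha))
  have hbi : ((b⁻¹ : SF) : MF) 1 0 = 0 :=
    (mem_Bsub _).1 ((Bsub F).inv_mem ((mem_Bsub b).2 hb))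
  constructor
  · exact (mem_Bsub _).1 ((Bsub F).mul_mem ((Bsub F).mul_mem ((Bsub F).mul_mem
      ((mem_Bsub a).2 ha) ((mem_Bsub b).2 hb)) ((mem_Bsub _).2 hai)) ((mem_Bsub _).2 hbi))
  · rw [borel_mul_00 _ _ hbi, borel_mul_00 _ _ hai, borel_mul_00 _ _ hb, borel_inv_00,
      borel_inv_00]
    have h1 := borel_entries a ha
    have h3 := borel_entries b hb
    linear_combination (a : MF) 0 0 * (a : MF) 1 1 * h3 + h1

/-- **Subgroups of order divisible by `p`.** -/
theorem pdiv_dickson [Fintype F] (p : ℕ) [Fact p.Prime] [CharP F p] (hp : p ≠ 2)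
    (H : Subgroup PF) (hpH : p ∣ Nat.card H) :
    ((2 * Nat.card H ∣ (Fintype.card F - 1) * Fintype.card F) ∧
      ∀ x ∈ H, ∀ y ∈ H, (x * y * x⁻¹ * y⁻¹) ^ p = 1) ∨
    (∃ (K : Subfield F) (s : ℕ), Fintype.card F = Nat.card K ^ s ∧ 1 ≤ s ∧ (K = ⊤ → H = ⊤) ∧
      ((2 * Nat.card H = (Nat.card K + 1) * ((Nat.card K - 1) * Nat.card K) ∧
          Nonempty (H ≃* ((SLK K).map π : Subgroup PF))) ∨
        (Nat.card H = (Nat.card K + 1) * ((Nat.card K - 1) * Nat.card K) ∧ Even s ∧
          Nonempty (H ≃* ((NK K).map π : Subgroup PF))))) ∨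
    (p = 3 ∧ Nat.card H = 60) := by
  classical
  have h2 : (2 : F) ≠ 0 := two_ne_zero_of_char (E := F) p hp
  set Hh := H.comap π with hHh
  have hcard : Nat.card Hh = 2 * Nat.card H := card_comap_mk h2 H
  have hpHh : p ∣ Nat.card Hh := by rw [hcard]; exact dvd_mul_of_dvd_right hpH 2
  have hpos : 0 < Nat.card (Sylow p Hh) := Nat.card_pos
  rcases Nat.eq_or_lt_of_le (Nat.succ_le_of_lt hpos) with h1 | h1
  · left
    obtain ⟨g0, hg0⟩ := struct_one_sylow p Hh h1.symm hpHh
    constructor
    · have hci : Nat.card (Hh.map (MulAut.conj g0).toMonoidHom) = Nat.card Hh :=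
        Subgroup.card_map_of_injective (MulAut.conj g0).injective
      rw [← hcard, ← Cfsg.Agent.Helper12.card_borelSL, ← hci]
      apply Subgroup.card_dvd_of_le
      rintro _ ⟨h, hh, rfl⟩
      exact (Cfsg.Agent.Helper12.mem_borelSL_iff _).2 (hg0 h hh)
    · intro x hx y hy
      obtain ⟨a, rfl⟩ := QuotientGroup.mk'_surjective (Subgroup.center SF) x
      obtain ⟨b, rfl⟩ := QuotientGroup.mk'_surjective (Subgroup.center SF) y
      have hc := comm_borel _ _ (hg0 a hx) (hg0 b hy)
      have e := eq_uM _ hc.1 hc.2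
      have e2 : g0 * a * g0⁻¹ * (g0 * b * g0⁻¹) * (g0 * a * g0⁻¹)⁻¹ * (g0 * b * g0⁻¹)⁻¹ =
          g0 * (a * b * a⁻¹ * b⁻¹) * g0⁻¹ := by group
      rw [e2] at e
      have h3 : (g0 * (a * b * a⁻¹ * b⁻¹) * g0⁻¹) ^ p = 1 := by
        rw [e]; exact uM_pow_char p _
      rw [conj_pow] at h3
      have h4 : (a * b * a⁻¹ * b⁻¹) ^ p = 1 := by
        have : (a * b * a⁻¹ * b⁻¹) ^ p = g0⁻¹ * (g0 * (a * b * a⁻¹ * b⁻¹) ^ p * g0⁻¹) * g0 := by
          group
        rw [this, h3]; group
      rw [← map_mul, ← map_inv, ← map_mul, ← map_inv, ← map_mul, ← map_pow, h4, map_one]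
  · right
    obtain ⟨ε, -, -, hcases⟩ := struct_two_sylow p hp Hh h1
    rcases hcases with ⟨h3, h120⟩ | ⟨K, hK⟩
    · right
      refine ⟨h3, ?_⟩
      rw [hcard] at h120
      omega
    · left
      obtain ⟨s, hs1, hs⟩ := Cfsg.Agent.Helper11.FinSub.card_pow_top K
      have hc2 : Nat.card (Hh.map ε.toMonoidHom) = Nat.card Hh :=
        Subgroup.card_map_of_injective ε.injective
      have hiso : Nonempty (H ≃* ((Hh.map ε.toMonoidHom).map π : Subgroup PF)) := by
        rw [← map_pslEquivOfSL]
        exact ⟨H.equivMapOfInjective _ (pslEquivOfSL ε).injective⟩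
      have hSLK : SLK K ≤ Hh.map ε.toMonoidHom := by
        rcases hK with hK | hK
        · rw [hK]
        · rw [hK]; exact SLK_le_NK K
      refine ⟨K, s, hs, hs1, ?_, ?_⟩
      · intro hKtop
        rw [hKtop, SLK_top] at hSLK
        have hHtop : Hh = ⊤ := by
          rw [eq_top_iff]
          intro x _
          obtain ⟨y, hy, hyx⟩ := hSLK (Subgroup.mem_top (ε x))
          have : y = x := ε.injective hyx
          rw [← this]; exact hy
        rw [eq_top_iff]
        intro x _
        obtain ⟨y, rfl⟩ := QuotientGroup.mk'_surjective (Subgroup.center SF) x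
        have : y ∈ Hh := by rw [hHtop]; trivial
        exact this
      · by_cases hSN : Hh.map ε.toMonoidHom = SLK K
        · left
          refine ⟨?_, ?_⟩
          · rw [← hcard, ← hc2, hSN, card_SLK]
          · rw [hSN] at hiso; exact hiso
        · right
          have hNK : Hh.map ε.toMonoidHom = NK K := by
            rcases hK with hK | hK
            · exact absurd hK hSN
            · exact hK
          have hne : NK K ≠ SLK K := by rw [← hNK]; exact hSN
          -- `|NK K| = 2 |SLK K|`
          have hle := card_NK_le K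
          have hdvd : Nat.card (SLK K) ∣ Nat.card (NK K) :=
            Subgroup.card_dvd_of_le (SLK_le_NK K)
          have hcNK : Nat.card (NK K) = 2 * Nat.card (SLK K) := by
            obtain ⟨c, hc⟩ := hdvd
            have hpos : 0 < Nat.card (SLK K) := Nat.card_pos
            have hc1 : c ≠ 1 := by
              intro h
              rw [h, mul_one] at hc
              exact hne (Subgroup.eq_of_le_of_card_ge (SLK_le_NK K) (by rw [hc])).symm
            have hc0 : c ≠ 0 := by
              intro h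
              rw [h, mul_zero] at hc
              have : 0 < Nat.card (NK K) := Nat.card_pos
              omega
            have hc2' : c ≤ 2 := by
              by_contra hgt
              push Not at hgt
              have : Nat.card (SLK K) * 3 ≤ Nat.card (SLK K) * c := Nat.mul_le_mul_left _ hgt
              omega
            have : c = 2 := by omega
            rw [hc, this, mul_comm]
          refine ⟨?_, ?_, ?_⟩
          · have : 2 * Nat.card H = 2 * Nat.card (SLK K) := by
              rw [← hcard, ← hc2, hNK, hcNK]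
            rw [← card_SLK]
            omega
          · -- degree is even
            by_contra hodd
            rw [Nat.not_even_iff_odd] at hodd
            apply hne
            apply le_antisymm _ (SLK_le_NK K)
            intro n hn
            obtain ⟨t, ht0, ht2, ht⟩ := (mem_NK K n).1 hn
            exact mem_SLK_of_scaled K n t ht0 (mem_of_sq_mem_odd h2 K s hodd hs t ht2) ht
          · rw [hNK] at hiso; exact hiso

end Cfsg.Agent.Helper18.Dickson
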