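import Cfsg.Agent.Helper18.Dickson32

/-! Dickson-type counting, part 33: overgroups of a non-abelian `p′`-subgroup of `PSL₂(q)`. -/

set_option autoImplicit false

namespace Cfsg.Agent.Helper18.Dickson

theorem dih_sq_comm (k : ℕ) (x y : DihedralGroup k) : x ^ 2 * y ^ 2 = y ^ 2 * x ^ 2 := by
  rcases x with i | i <;> rcases y with j | j <;> simp [pow_two, add_comm]

theorem no_hom_dihedral {G : Type*} [Group G] (a b : G) (hab : a ^ 2 * b ^ 2 ≠ b ^ 2 * a ^ 2)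
    (k : ℕ) (f : G →* DihedralGroup k) (hf : Function.Injective f) : False := by
  apply hab
  apply hf
  rw [map_mul, map_mul, map_pow, map_pow]
  exact dih_sq_comm k _ _

set_option maxRecDepth 100000 in
theorem s4_sq : (c[0, 1, 2] : Equiv.Perm (Fin 4)) ^ 2 * (c[0, 1, 3] : Equiv.Perm (Fin 4)) ^ 2 ≠
    (c[0, 1, 3] : Equiv.Perm (Fin 4)) ^ 2 * (c[0, 1, 2] : Equiv.Perm (Fin 4)) ^ 2 := by
  decide

set_option maxRecDepth 100000 in
theorem s5_sq : (c[0, 1, 2] : Equiv.Perm (Fin 5)) ^ 2 * (c[0, 1, 3] : Equiv.Perm (Fin 5)) ^ 2 ≠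
    (c[0, 1, 3] : Equiv.Perm (Fin 5)) ^ 2 * (c[0, 1, 2] : Equiv.Perm (Fin 5)) ^ 2 := by
  decide

set_option maxRecDepth 100000 in
theorem mem_alt4 : (c[0, 1, 2] : Equiv.Perm (Fin 4)) ∈ alternatingGroup (Fin 4) ∧
    (c[0, 1, 3] : Equiv.Perm (Fin 4)) ∈ alternatingGroup (Fin 4) := by
  constructor <;> · rw [Equiv.Perm.mem_alternatingGroup]; decide

set_option maxRecDepth 100000 in
theorem mem_alt5 : (c[0, 1, 2] : Equiv.Perm (Fin 5)) ∈ alternatingGroup (Fin 5) ∧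
    (c[0, 1, 3] : Equiv.Perm (Fin 5)) ∈ alternatingGroup (Fin 5) := by
  constructor <;> · rw [Equiv.Perm.mem_alternatingGroup]; decide

theorem exists_sq_S4 : ∃ a b : Equiv.Perm (Fin 4), a ^ 2 * b ^ 2 ≠ b ^ 2 * a ^ 2 :=
  ⟨_, _, s4_sq⟩

theorem exists_sq_A4 : ∃ a b : alternatingGroup (Fin 4), a ^ 2 * b ^ 2 ≠ b ^ 2 * a ^ 2 := by
  refine ⟨⟨_, mem_alt4.1⟩, ⟨_, mem_alt4.2⟩, ?_⟩
  intro h
  exact s4_sq (congrArg Subtype.val h)

theorem exists_sq_A5 : ∃ a b : alternatingGroup (Fin 5), a ^ 2 * b ^ 2 ≠ b ^ 2 * a ^ 2 := by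
  refine ⟨⟨_, mem_alt5.1⟩, ⟨_, mem_alt5.2⟩, ?_⟩
  intro h
  exact s5_sq (congrArg Subtype.val h)

/-- transport of the non-commuting squares along an isomorphism onto a subgroup -/
theorem exists_sq_of_equiv {G G₀ : Type*} [Group G] [Group G₀] (M : Subgroup G) (e : M ≃* G₀)
    (h : ∃ a b : G₀, a ^ 2 * b ^ 2 ≠ b ^ 2 * a ^ 2) :
    ∃ a b : G, a ∈ M ∧ b ∈ M ∧ a ^ 2 * b ^ 2 ≠ b ^ 2 * a ^ 2 := by
  obtain ⟨a, b, hab⟩ := h
  refine ⟨(e.symm a : G), (e.symm b : G), (e.symm a).2, (e.symm b).2, ?_⟩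
  intro h'
  apply hab
  have h2 : (e.symm a) ^ 2 * (e.symm b) ^ 2 = (e.symm b) ^ 2 * (e.symm a) ^ 2 :=
    Subtype.ext (by simpa using h')
  have := congrArg e h2
  simpa using this

variable {F : Type*} [Field F]

local notation "SF" => Matrix.SpecialLinearGroup (Fin 2) F
local notation "PF" => Matrix.ProjectiveSpecialLinearGroup (Fin 2) F
local notation "π" => QuotientGroup.mk' (Subgroup.center SF)

/-- **Overgroups** of a `p′`-subgroup `M` containing two elements with non-commuting squares. -/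
theorem overgroup_cases [Fintype F] (p : ℕ) [Fact p.Prime] [CharP F p] (hp : p ≠ 2)
    (M L : Subgroup PF) (hML : M ≤ L) (a b : PF) (ha : a ∈ M) (hb : b ∈ M)
    (hab : a ^ 2 * b ^ 2 ≠ b ^ 2 * a ^ 2) (hpM : ¬ p ∣ Nat.card M) :
    (¬ p ∣ Nat.card L ∧ (Nonempty (L ≃* alternatingGroup (Fin 4)) ∨
      Nonempty (L ≃* Equiv.Perm (Fin 4)) ∨ Nonempty (L ≃* alternatingGroup (Fin 5)))) ∨
    (p ∣ Nat.card L ∧
      ((∃ (K : Subfield F) (s : ℕ), Fintype.card F = Nat.card K ^ s ∧ 1 ≤ s ∧ (K = ⊤ → L = ⊤) ∧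
        ((2 * Nat.card L = (Nat.card K + 1) * ((Nat.card K - 1) * Nat.card K)) ∨
          (Nat.card L = (Nat.card K + 1) * ((Nat.card K - 1) * Nat.card K) ∧ Even s))) ∨
      (p = 3 ∧ Nat.card L = 60))) := by
  have hncomm : a * b ≠ b * a := by
    intro h
    apply hab
    have hc : Commute a b := h
    exact (hc.pow_pow 2 2)
  by_cases hpL : p ∣ Nat.card L
  · right
    refine ⟨hpL, ?_⟩
    rcases pdiv_dickson p hp L hpL with ⟨-, hB⟩ | ⟨K, s, h1, h3, h4, h5⟩ | hE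
    · exfalso
      have hc := hB a (hML ha) b (hML hb)
      have hcM : a * b * a⁻¹ * b⁻¹ ∈ M :=
        M.mul_mem (M.mul_mem (M.mul_mem ha hb) (M.inv_mem ha)) (M.inv_mem hb)
      have h1 : orderOf (a * b * a⁻¹ * b⁻¹) ∣ p := orderOf_dvd_of_pow_eq_one hc
      rcases (Nat.dvd_prime Fact.out).mp h1 with h3 | h3
      · rw [orderOf_eq_one_iff] at h3
        apply hncomm
        have : a * b = (a * b * a⁻¹ * b⁻¹) * (b * a) := by group
        rw [this, h3, one_mul]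
      · apply hpM
        rw [← h3, ← Subgroup.orderOf_mk _ hcM]
        exact orderOf_dvd_natCard _
    · left
      refine ⟨K, s, h1, h3, h4, ?_⟩
      rcases h5 with ⟨h5, -⟩ | ⟨h5, h6, -⟩
      · exact Or.inl h5
      · exact Or.inr ⟨h5, h6⟩
    · exact Or.inr hE
  · left
    refine ⟨hpL, ?_⟩
    rcases pprime_dickson p hp L hpL with ⟨k, -, hc | e⟩ | h | h | h
    · exfalso
      obtain ⟨g, hg⟩ := hc.1.exists_generator
      obtain ⟨i, hi⟩ := Subgroup.mem_zpowers_iff.1 (hg ⟨a, hML ha⟩)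
      obtain ⟨j, hj⟩ := Subgroup.mem_zpowers_iff.1 (hg ⟨b, hML hb⟩)
      apply hncomm
      have h1 : (⟨a, hML ha⟩ : L) * ⟨b, hML hb⟩ = ⟨b, hML hb⟩ * ⟨a, hML ha⟩ := by
        rw [← hi, ← hj, ← zpow_add, ← zpow_add, add_comm]
      exact congrArg Subtype.val h1
    · exfalso
      obtain ⟨e⟩ := e
      apply no_hom_dihedral (⟨a, ha⟩ : M) ⟨b, hb⟩ _ k
        (e.toMonoidHom.comp (Subgroup.inclusion hML))
        (e.injective.comp (Subgroup.inclusion_injective hML))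
      intro h
      exact hab (by simpa using congrArg Subtype.val h)
    · exact Or.inl h
    · exact Or.inr (Or.inl h)
    · exact Or.inr (Or.inr h)

end Cfsg.Agent.Helper18.Dickson
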