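import Cfsg.Agent.Helper18.Dickson33

/-! Dickson-type counting, part 34: helper lemmas for maximal `A₄`, `S₄`, `A₅` in `PSL₂`. -/

set_option autoImplicit false

namespace Cfsg.Agent.Helper18.Dickson

variable {F : Type*} [Field F]

local notation "SF" => Matrix.SpecialLinearGroup (Fin 2) F
local notation "PF" => Matrix.ProjectiveSpecialLinearGroup (Fin 2) F

theorem charP_of_card_prime [Fintype F] (p : ℕ) [Fact p.Prime] (hF : Fintype.card F = p) :
    CharP F p := by
  obtain ⟨p', hchar⟩ := CharP.exists F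
  have hpp : p'.Prime := CharP.char_is_prime F p'
  have : Fact p'.Prime := ⟨hpp⟩
  obtain ⟨n, -, hn⟩ := FiniteField.card F p'
  rw [hF] at hn
  have h1 : p' ∣ p := by rw [hn]; exact dvd_pow_self p' n.ne_zero
  have h2 : p' = p := (Nat.prime_dvd_prime_iff_eq hpp Fact.out).1 h1
  rw [← h2]; exact hchar

theorem two_mul_card_psl [Fintype F] (h2 : (2 : F) ≠ 0) :
    2 * Nat.card PF = (Fintype.card F + 1) * ((Fintype.card F - 1) * Fintype.card F) := by
  classical
  rw [← card_sl2_eq_two_mul h2, Cfsg.Agent.S2301.card_sl2]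

/-- in the subfield case over a prime field the subgroup is everything -/
theorem eq_top_of_prime_field [Fintype F] (p : ℕ) [Fact p.Prime] (hF : Fintype.card F = p)
    (K : Subfield F) (s : ℕ) (hs : Fintype.card F = Nat.card K ^ s) : K = ⊤ := by
  rw [hF] at hs
  have := ((Fact.out : p.Prime).pow_eq_iff).1 hs.symm
  apply Cfsg.Agent.Helper11.FinSub.eq_top_of_card_eq
  rw [this.1, hF]

theorem not_dvd_of_prime_ge {p m : ℕ} (hp : p.Prime) (hm : 0 < m) (hlt : ∀ r : ℕ, r.Prime → r ∣ m → r < p) :
    ¬ p ∣ m := by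
  intro h
  exact lt_irrefl _ (hlt p hp h)

end Cfsg.Agent.Helper18.Dickson
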