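import Cfsg.Agent.Helper18.Dickson35
import Cfsg.Agent.Helper12.SL2TorusB
import Cfsg.Agent.Helper12.SL2SplitTorus
import Cfsg.Agent.Helper12.SL2NonsplitTorus

/-! Dickson-type counting, part 36: the dihedral subgroups of `PSL₂(q)`, `q` odd:
images of the torus normalisers. -/

set_option autoImplicit false

namespace Cfsg.Agent.Helper18.Dickson

open Cfsg.Agent.Helper12

variable {F : Type*} [Field F]

local notation "SF" => Matrix.SpecialLinearGroup (Fin 2) F
local notation "MF" => Matrix (Fin 2) (Fin 2) F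
local notation "PF" => Matrix.ProjectiveSpecialLinearGroup (Fin 2) F
local notation "π" => QuotientGroup.mk' (Subgroup.center SF)

/-- squares of elements of `normA` lie in the torus -/
theorem sq_mem_torusA {A : MF} {ε : F} (h : IsTorusGen A ε) {a : SF} (ha : a ∈ normA A) :
    a ^ 2 ∈ torusA A := by
  rcases (mem_normA A a).1 ha with h1 | h1
  · exact (torusA A).pow_mem ((mem_torusA A a).2 h1) 2
  · have h2 := h.sq_of_anticomm h1
    have : a ^ 2 = -1 := by
      apply Subtype.ext
      rw [pow_two, h2]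
      simp
    rw [this]
    exact IsTorusGen.neg_one_mem_torusA A

/-- squares of elements of `normA` commute -/
theorem normA_sq_comm {A : MF} {ε : F} (h : IsTorusGen A ε) {a b : SF} (ha : a ∈ normA A)
    (hb : b ∈ normA A) : a ^ 2 * b ^ 2 = b ^ 2 * a ^ 2 :=
  h.torus_comm (sq_mem_torusA h ha) (sq_mem_torusA h hb)

/-- the order of the image in `PSL₂` of a subgroup containing `-1` -/
theorem two_mul_card_map [Finite F] (h2 : (2 : F) ≠ 0) (N : Subgroup SF) (hN : (-1 : SF) ∈ N) :
    2 * Nat.card (N.map π) = Nat.card N := by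
  rw [← card_comap_mk h2 (N.map π)]
  have : (N.map π).comap π = N := by
    apply le_antisymm
    · intro x hx
      rw [Subgroup.mem_comap] at hx
      obtain ⟨y, hy, hyx⟩ := hx
      have h1 : π (y⁻¹ * x) = 1 := by rw [map_mul, map_inv, hyx, inv_mul_cancel]
      rw [mk_eq_one_iff] at h1
      rcases h1 with h1 | h1
      · have : x = y := by
          have := congrArg (y * ·) h1
          simpa using this
        rw [this]; exact hy
      · have : x = y * -1 := by
          have := congrArg (y * ·) h1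
          simpa using this
        rw [this]; exact N.mul_mem hy hN
    · exact Subgroup.le_comap_map _ _
  rw [this]

/-- recognition: a `p'`-subgroup of `PSL₂(q)` with commuting squares and more than `(q+1)/2`
elements is dihedral -/
theorem dihedral_of_sq_comm [Fintype F] (p : ℕ) [Fact p.Prime] [CharP F p] (hp : p ≠ 2)
    (H : Subgroup PF) (hpH : ¬ p ∣ Nat.card H)
    (hsq : ∀ a ∈ H, ∀ b ∈ H, a ^ 2 * b ^ 2 = b ^ 2 * a ^ 2)
    (hbig : (Fintype.card F + 1) / 2 < Nat.card H) :
    Nonempty (H ≃* DihedralGroup (Nat.card H / 2)) := by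
  have hq3 : 3 ≤ Fintype.card F := by
    have h1 : 2 ≤ Fintype.card F := Fintype.one_lt_card
    obtain ⟨k, hk⟩ := odd_card_of_char (F := F) p hp
    omega
  have hno : ∀ X : Type, ∀ [Group X], (∃ a b : X, a ^ 2 * b ^ 2 ≠ b ^ 2 * a ^ 2) →
      Nonempty (H ≃* X) → False := by
    intro X _ hX ⟨e⟩
    obtain ⟨a, b, ha, hb, hab⟩ := exists_sq_of_equiv H e hX
    exact hab (hsq a ha b hb)
  rcases pprime_dickson p hp H hpH with ⟨k, hk, ⟨-, hc⟩ | ⟨⟨e⟩⟩⟩ | h | h | h
  · exfalso
    have hkle : k ≤ (Fintype.card F + 1) / 2 := by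
      rcases hk with hk | hk
      · exact Nat.le_of_dvd (by omega) hk
      · have := Nat.le_of_dvd (by omega) hk
        omega
    omega
  · have hc : Nat.card H = 2 * k := by
      rw [Nat.card_congr e.toEquiv, DihedralGroup.nat_card]
    have : Nat.card H / 2 = k := by omega
    rw [this]
    exact ⟨e⟩
  · exact (hno _ exists_sq_A4 h).elim
  · exact (hno _ exists_sq_S4 h).elim
  · exact (hno _ exists_sq_A5 h).elim

/-- `p` does not divide `q ± 1` -/
theorem not_dvd_card_succ [Fintype F] (p : ℕ) [Fact p.Prime] [CharP F p] :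
    ¬ p ∣ Fintype.card F + 1 ∧ ¬ p ∣ Fintype.card F - 1 := by
  have hpp : p.Prime := Fact.out
  obtain ⟨n, -, hn⟩ := FiniteField.card F p
  have hpq : p ∣ Fintype.card F := by rw [hn]; exact dvd_pow_self p n.ne_zero
  have hq2 : 2 ≤ Fintype.card F := Fintype.one_lt_card
  constructor
  · intro h
    have := (Nat.dvd_add_right hpq).1 h
    exact hpp.one_lt.ne' (Nat.dvd_one.1 this)
  · intro h
    have h1 : p ∣ (Fintype.card F - 1) + 1 := by
      have : Fintype.card F - 1 + 1 = Fintype.card F := by omega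
      rw [this]; exact hpq
    have := (Nat.dvd_add_right h).1 h1
    exact hpp.one_lt.ne' (Nat.dvd_one.1 this)

/-- the image of `normA` is dihedral -/
theorem dihedral_normA [Fintype F] (p : ℕ) [Fact p.Prime] [CharP F p] (hp : p ≠ 2)
    {A : MF} {ε : F} (h : IsTorusGen A ε) (hw : ∃ w : SF, (w : MF) * A = -(A * (w : MF)))
    (m : ℕ) (hm : Nat.card (torusA A) = m) (hpm : ¬ p ∣ m) (hbig : (Fintype.card F + 1) / 2 < m) :
    Nat.card ((normA A).map π) = m ∧
      Nonempty (((normA A).map π : Subgroup PF) ≃* DihedralGroup (m / 2)) := by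
  have h2 : (2 : F) ≠ 0 := two_ne_zero_of_char (E := F) p hp
  have hc : Nat.card ((normA A).map π) = m := by
    have h1 := two_mul_card_map h2 (normA A)
      (torusA_le_normA A (IsTorusGen.neg_one_mem_torusA A))
    rw [h.card_normA hw, hm] at h1
    omega
  refine ⟨hc, ?_⟩
  have := dihedral_of_sq_comm p hp ((normA A).map π) (by rw [hc]; exact hpm) ?_
    (by rw [hc]; exact hbig)
  · rw [hc] at this; exact this
  · rintro _ ⟨a, ha, rfl⟩ _ ⟨b, hb, rfl⟩
    rw [← map_pow, ← map_pow, ← map_mul, ← map_mul, normA_sq_comm h ha hb]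

theorem exists_dihedral_plus [Fintype F] (p : ℕ) [Fact p.Prime] [CharP F p] (hp : p ≠ 2) :
    ∃ M : Subgroup PF, Nat.card M = Fintype.card F + 1 ∧
      Nonempty (M ≃* DihedralGroup ((Fintype.card F + 1) / 2)) := by
  have h2 : (2 : F) ≠ 0 := two_ne_zero_of_char (E := F) p hp
  have hchar : ringChar F ≠ 2 := by
    intro h
    apply h2
    have : CharP F 2 := ringChar.of_eq h
    exact CharTwo.two_eq_zero
  obtain ⟨ε, hε⟩ := FiniteField.exists_nonsquare hchar
  have hε0 := ne_zero_of_not_isSquare hε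
  exact ⟨_, dihedral_normA p hp (nsGen_isTorusGen h2 hε0) (exists_anticomm_nsGen h2 hε0) _
    (card_torusA_nsGen h2 hε) (not_dvd_card_succ p).1 (by omega)⟩

theorem exists_dihedral_minus [Fintype F] (p : ℕ) [Fact p.Prime] [CharP F p] (hp : p ≠ 2)
    (h5 : 5 ≤ Fintype.card F) :
    ∃ M : Subgroup PF, Nat.card M = Fintype.card F - 1 ∧
      Nonempty (M ≃* DihedralGroup ((Fintype.card F - 1) / 2)) := by
  have h2 : (2 : F) ≠ 0 := two_ne_zero_of_char (E := F) p hp
  exact ⟨_, dihedral_normA p hp (splitGen_isTorusGen h2) ⟨weylS, weylS_anticomm⟩ _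
    (card_torusA_splitGen h2) (not_dvd_card_succ p).2 (by omega)⟩

end Cfsg.Agent.Helper18.Dickson
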