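import Cfsg.Agent.Helper18.Dickson36

/-! Dickson-type counting, part 37: dihedral subgroups inside other groups (general lemmas). -/

set_option autoImplicit false

namespace Cfsg.Agent.Helper18.Dickson

open DihedralGroup

/-- the commutator of the standard generators of a dihedral group -/
theorem dih_comm (k : ℕ) : (r 1 : DihedralGroup k) * sr 0 * (r 1)⁻¹ * (sr 0)⁻¹ = r 2 := by
  simp only [inv_r, inv_sr, r_mul_sr, sr_mul_r, sr_mul_sr]
  congr 1
  ring

/-- if commutators of an overgroup have order dividing `p`, then `k ∣ 2 p` -/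
theorem dih_comm_pow {G : Type*} [Group G] {k : ℕ} (M L : Subgroup G) (e : M ≃* DihedralGroup k)
    (hML : M ≤ L) (p : ℕ) (hL : ∀ x ∈ L, ∀ y ∈ L, (x * y * x⁻¹ * y⁻¹) ^ p = 1) : k ∣ 2 * p := by
  set a := e.symm (r 1) with ha
  set b := e.symm (sr 0) with hb
  have h1 := hL a (hML a.2) b (hML b.2)
  have h2 : (a * b * a⁻¹ * b⁻¹) ^ p = 1 := by
    apply Subtype.ext
    simpa using h1
  have h3 := congrArg e h2
  rw [map_pow, map_mul, map_mul, map_mul, map_inv, map_inv, ha, hb, e.apply_symm_apply,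
    e.apply_symm_apply, dih_comm, map_one] at h3
  have h4 : (r 2 : DihedralGroup k) ^ p = r ((2 * p : ℕ) : ZMod k) := by
    have : (r 2 : DihedralGroup k) = r 1 ^ 2 := by rw [r_one_pow]; rfl
    rw [this, ← pow_mul, r_one_pow]
  rw [h4] at h3
  have h5 : ((2 * p : ℕ) : ZMod k) = 0 := by
    have := h3
    rw [show (1 : DihedralGroup k) = r 0 from rfl] at this
    exact r.inj this
  exact (ZMod.natCast_eq_zero_iff _ _).1 h5

/-- a dihedral subgroup contains an element of order `k` -/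
theorem exists_orderOf_dih {G : Type*} [Group G] {k : ℕ} (M : Subgroup G)
    (e : M ≃* DihedralGroup k) : ∃ x ∈ M, orderOf x = k := by
  refine ⟨(e.symm (r 1) : G), (e.symm (r 1)).2, ?_⟩
  rw [Subgroup.orderOf_coe, MulEquiv.orderOf_eq, orderOf_r_one]

set_option maxRecDepth 100000 in
theorem pow_A5 : ∀ x : alternatingGroup (Fin 5), x ^ 2 = 1 ∨ x ^ 3 = 1 ∨ x ^ 5 = 1 := by
  decide

set_option maxRecDepth 100000 in
theorem pow_S4 : ∀ x : Equiv.Perm (Fin 4), x ^ 2 = 1 ∨ x ^ 3 = 1 ∨ x ^ 4 = 1 := by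
  decide

theorem pow_A4 : ∀ x : alternatingGroup (Fin 4), x ^ 2 = 1 ∨ x ^ 3 = 1 := by
  decide

theorem no_invert_A4 : ∀ a b : alternatingGroup (Fin 4), a ^ 3 = 1 → b * a * b⁻¹ = a⁻¹ → a = 1 := by
  decide

theorem orderOf_le_of_equiv {G X : Type*} [Group G] [Group X] (L : Subgroup G) (f : L ≃* X) (n : ℕ)
    (hn : 0 < n) (hX : ∀ x : X, ∃ j, 0 < j ∧ j ≤ n ∧ x ^ j = 1) (x : G) (hx : x ∈ L) :
    orderOf x ≤ n := by
  obtain ⟨j, hj0, hjn, hj⟩ := hX (f ⟨x, hx⟩)
  have h1 : (⟨x, hx⟩ : L) ^ j = 1 := by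
    apply f.injective
    rw [map_pow, hj, map_one]
  have h2 : x ^ j = 1 := by
    have := congrArg (Subtype.val) h1
    simpa using this
  exact le_trans (Nat.le_of_dvd hj0 (orderOf_dvd_of_pow_eq_one h2)) hjn

theorem orderOf_le_A5 {G : Type*} [Group G] (L : Subgroup G) (f : L ≃* alternatingGroup (Fin 5))
    (x : G) (hx : x ∈ L) : orderOf x ≤ 5 := by
  apply orderOf_le_of_equiv L f 5 (by norm_num) _ x hx
  intro y
  rcases pow_A5 y with h | h | h
  · exact ⟨2, by norm_num, by norm_num, h⟩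
  · exact ⟨3, by norm_num, by norm_num, h⟩
  · exact ⟨5, by norm_num, by norm_num, h⟩

theorem orderOf_le_S4 {G : Type*} [Group G] (L : Subgroup G) (f : L ≃* Equiv.Perm (Fin 4))
    (x : G) (hx : x ∈ L) : orderOf x ≤ 4 := by
  apply orderOf_le_of_equiv L f 4 (by norm_num) _ x hx
  intro y
  rcases pow_S4 y with h | h | h
  · exact ⟨2, by norm_num, by norm_num, h⟩
  · exact ⟨3, by norm_num, by norm_num, h⟩
  · exact ⟨4, by norm_num, by norm_num, h⟩

theorem orderOf_le_A4 {G : Type*} [Group G] (L : Subgroup G) (f : L ≃* alternatingGroup (Fin 4))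
    (x : G) (hx : x ∈ L) : orderOf x ≤ 3 := by
  apply orderOf_le_of_equiv L f 3 (by norm_num) _ x hx
  intro y
  rcases pow_A4 y with h | h
  · exact ⟨2, by norm_num, by norm_num, h⟩
  · exact ⟨3, by norm_num, by norm_num, h⟩

/-- `A₄` contains no copy of `D₃` -/
theorem no_D3_in_A4 {G : Type*} [Group G] (M L : Subgroup G) (e : M ≃* DihedralGroup 3)
    (hML : M ≤ L) (f : L ≃* alternatingGroup (Fin 4)) : False := by
  set a := e.symm (r 1) with ha
  set b := e.symm (sr 0) with hb
  have h1 : a ^ 3 = 1 := by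
    apply e.injective
    rw [map_pow, ha, e.apply_symm_apply, map_one, r_one_pow]
    rfl
  have h2 : b * a * b⁻¹ = a⁻¹ := by
    apply e.injective
    rw [map_mul, map_mul, map_inv, map_inv, ha, hb, e.apply_symm_apply, e.apply_symm_apply]
    simp only [inv_r, inv_sr, sr_mul_r, sr_mul_sr]
    congr 1
  have h3 : a ≠ 1 := by
    intro h
    have := congrArg e h
    rw [ha, e.apply_symm_apply, map_one] at this
    revert this
    decide
  set a' : L := ⟨a, hML a.2⟩ with ha'
  set b' : L := ⟨b, hML b.2⟩ with hb'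
  have h1' : (f a') ^ 3 = 1 := by
    rw [← map_pow]
    have : a' ^ 3 = 1 := by
      apply Subtype.ext
      have := congrArg (Subtype.val) h1
      simpa using this
    rw [this, map_one]
  have h2' : f b' * f a' * (f b')⁻¹ = (f a')⁻¹ := by
    rw [← map_inv, ← map_mul, ← map_mul, ← map_inv]
    congr 1
    apply Subtype.ext
    have := congrArg (Subtype.val) h2
    simpa using this
  have := no_invert_A4 _ _ h1' h2'
  have h4 : a' = 1 := by
    apply f.injective
    rw [this, map_one]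
  apply h3
  apply Subtype.ext
  have h5 : ((a' : L) : G) = 1 := by rw [h4]; rfl
  exact h5

end Cfsg.Agent.Helper18.Dickson
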