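import Cfsg.Agent.Helper18.Dickson37

/-! Dickson-type counting, part 38: orders of `p'`-elements in `PSL₂` and in the `PGL₂(K)`-type
subgroups; arithmetic lemmas for the maximality of the dihedral subgroups. -/

set_option autoImplicit false

namespace Cfsg.Agent.Helper18.Dickson

open DihedralGroup

variable {F : Type*} [Field F]

local notation "SF" => Matrix.SpecialLinearGroup (Fin 2) F
local notation "MF" => Matrix (Fin 2) (Fin 2) F
local notation "PF" => Matrix.ProjectiveSpecialLinearGroup (Fin 2) F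
local notation "π" => QuotientGroup.mk' (Subgroup.center SF)

theorem sq_mem_SLK (K : Subfield F) (n : SF) (hn : n ∈ NK K) : n ^ 2 ∈ SLK K := by
  obtain ⟨t, ht0, ht2, ht⟩ := (mem_NK K n).1 hn
  apply mem_SLK_of_scaled K (n ^ 2) (t ^ 2) (pow_ne_zero 2 ht0) ht2
  intro i j
  rw [pow_two n, Matrix.SpecialLinearGroup.coe_mul, Matrix.mul_apply, Fin.sum_univ_two]
  have e : t ^ 2 * ((n : MF) i 0 * (n : MF) 0 j + (n : MF) i 1 * (n : MF) 1 j) =
      (t * (n : MF) i 0) * (t * (n : MF) 0 j) + (t * (n : MF) i 1) * (t * (n : MF) 1 j) := by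
    ring
  rw [e]
  exact K.add_mem (K.mul_mem (ht _ _) (ht _ _)) (K.mul_mem (ht _ _) (ht _ _))

/-- a commutative dihedral group has exponent two -/
theorem dih_sq_of_comm (k : ℕ) (h : (r 1 : DihedralGroup k) * sr 0 = sr 0 * r 1)
    (z : DihedralGroup k) : z ^ 2 = 1 := by
  rw [r_mul_sr, sr_mul_r] at h
  have h1 : (0 : ZMod k) - 1 = 0 + 1 := sr.inj h
  have h2 : (2 : ZMod k) = 0 := by linear_combination -h1
  rcases z with i | i
  · rw [pow_two, r_mul_r]
    have : i + i = 0 := by linear_combination i * h2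
    rw [this]; rfl
  · rw [pow_two, sr_mul_sr, sub_self]; rfl

/-- orders of `p'`-elements of `PSL₂(q)`, `q` odd -/
theorem orderOf_le_of_pprime [Fintype F] (p : ℕ) [Fact p.Prime] [CharP F p] (hp : p ≠ 2)
    (y : PF) (hy : ¬ p ∣ orderOf y) : orderOf y ≤ (Fintype.card F + 1) / 2 := by
  have hq3 : 3 ≤ Fintype.card F := by
    have h1 : 2 ≤ Fintype.card F := Fintype.one_lt_card
    obtain ⟨k, hk⟩ := odd_card_of_char (F := F) p hp
    omega
  set H := Subgroup.zpowers y with hH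
  have hcH : Nat.card H = orderOf y := Nat.card_zpowers y
  have hyH : y ∈ H := Subgroup.mem_zpowers y
  have hcomm : ∀ a ∈ H, ∀ b ∈ H, a * b = b * a := by
    intro a ha b hb
    obtain ⟨i, rfl⟩ := Subgroup.mem_zpowers_iff.1 ha
    obtain ⟨j, rfl⟩ := Subgroup.mem_zpowers_iff.1 hb
    rw [← zpow_add, ← zpow_add, add_comm]
  have hno : ∀ X : Type, ∀ [Group X], (∃ a b : X, a ^ 2 * b ^ 2 ≠ b ^ 2 * a ^ 2) →
      Nonempty (H ≃* X) → False := by
    intro X _ hX ⟨e⟩
    obtain ⟨a, b, ha, hb, hab⟩ := exists_sq_of_equiv H e hX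
    exact hab (hcomm _ (H.pow_mem ha 2) _ (H.pow_mem hb 2))
  rcases pprime_dickson p hp H (by rw [hcH]; exact hy) with
    ⟨k, hk, ⟨-, hc⟩ | ⟨⟨e⟩⟩⟩ | h | h | h
  · rw [← hcH, hc]
    rcases hk with hk | hk
    · exact Nat.le_of_dvd (by omega) hk
    · have := Nat.le_of_dvd (by omega) hk
      omega
  · have h1 : (r 1 : DihedralGroup k) * sr 0 = sr 0 * r 1 := by
      have := hcomm _ (e.symm (r 1)).2 _ (e.symm (sr 0)).2
      have h2 : e.symm (r 1) * e.symm (sr 0) = e.symm (sr 0) * e.symm (r 1) := Subtype.ext this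
      have := congrArg e h2
      simpa using this
    have h2 := dih_sq_of_comm k h1 (e ⟨y, hyH⟩)
    have h3 : (⟨y, hyH⟩ : H) ^ 2 = 1 := by
      apply e.injective
      rw [map_pow, h2, map_one]
    have h4 : y ^ 2 = 1 := by
      have := congrArg (Subtype.val) h3
      simpa using this
    have := Nat.le_of_dvd (by norm_num) (orderOf_dvd_of_pow_eq_one h4)
    omega
  · exact (hno _ exists_sq_A4 h).elim
  · exact (hno _ exists_sq_S4 h).elim
  · exact (hno _ exists_sq_A5 h).elim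

/-- orders of `p'`-elements in a group of type `PGL₂(K)` -/
theorem orderOf_le_of_NK [Fintype F] (p : ℕ) [Fact p.Prime] [CharP F p] (hp : p ≠ 2)
    (K : Subfield F) (L : Subgroup PF) (g : L ≃* ((NK K).map π : Subgroup PF)) (x : PF)
    (hx : x ∈ L) (hpx : ¬ p ∣ orderOf x) : orderOf x ≤ Nat.card K + 1 := by
  classical
  have : Fintype K := Fintype.ofFinite K
  have : CharP K p := RingHom.charP K.subtype K.subtype_injective p
  obtain ⟨e'⟩ := nonempty_map_SLK_equiv K
  set x' := g ⟨x, hx⟩ with hx'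
  obtain ⟨n, hn, hnx⟩ := x'.2
  have hsq : (x' : PF) ^ 2 ∈ (SLK K).map π := by
    rw [← hnx, ← map_pow]
    exact ⟨n ^ 2, sq_mem_SLK K n hn, rfl⟩
  set y := e' ⟨(x' : PF) ^ 2, hsq⟩ with hy
  have hord : orderOf y = orderOf (x ^ 2) := by
    rw [hy, MulEquiv.orderOf_eq, Subgroup.orderOf_mk]
    have h1 : (x' : PF) ^ 2 = ((x' ^ 2 : ((NK K).map π : Subgroup PF)) : PF) := by simp
    rw [h1, Subgroup.orderOf_coe, hx', ← map_pow, MulEquiv.orderOf_eq, ← Subgroup.orderOf_coe]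
    simp
  have hpy : ¬ p ∣ orderOf y := by
    rw [hord]
    intro h
    exact hpx (dvd_trans h (orderOf_pow_dvd 2))
  have hle := orderOf_le_of_pprime (F := K) p hp y hpy
  rw [hord] at hle
  have h2 : x ^ (2 * orderOf (x ^ 2)) = 1 := by
    rw [pow_mul, pow_orderOf_eq_one]
  have hpos : 0 < orderOf (x ^ 2) := by
    have : IsOfFinOrder (x ^ 2) := isOfFinOrder_of_finite _
    exact this.orderOf_pos
  have h3 := Nat.le_of_dvd (by omega) (orderOf_dvd_of_pow_eq_one h2)
  rw [Nat.card_eq_fintype_card]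
  omega

/-! ### arithmetic -/

theorem prod_add (d : ℕ) : (d + 1 + 1) * ((d + 1 - 1) * (d + 1)) + (d + 1) = (d + 1) ^ 3 := by
  simp only [Nat.add_sub_cancel]
  ring

theorem prod_pos' {c : ℕ} (hc : 2 ≤ c) : 0 < (c + 1) * ((c - 1) * c) := by
  apply Nat.mul_pos (by omega) (Nat.mul_pos (by omega) (by omega))

theorem plus_arith {c s q : ℕ} (hc : 2 ≤ c) (hs : 2 ≤ s) (hq : q = c ^ s)
    (h : q + 1 ∣ (c + 1) * ((c - 1) * c)) : False := by
  obtain ⟨d, rfl⟩ : ∃ d, c = d + 1 := ⟨c - 1, by omega⟩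
  have hP := prod_add d
  have hpos := prod_pos' hc
  rcases Nat.eq_or_lt_of_le hs with h2 | h3
  · -- `s = 2`
    rw [← h2] at hq
    have h1 : (d + 1 + 1) * ((d + 1 - 1) * (d + 1)) + 2 * (d + 1) = (d + 1) * (q + 1) := by
      rw [hq]
      simp only [Nat.add_sub_cancel]
      ring
    have h4 : q + 1 ∣ 2 * (d + 1) := by
      have : q + 1 ∣ (d + 1 + 1) * ((d + 1 - 1) * (d + 1)) + 2 * (d + 1) := by
        rw [h1]; exact dvd_mul_left _ _
      exact (Nat.dvd_add_right h).1 this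
    have h5 := Nat.le_of_dvd (by omega) h4
    have h6 : (d + 1) ^ 2 = d ^ 2 + 2 * d + 1 := by ring
    have h7 : 1 ≤ d ^ 2 := Nat.one_le_pow _ _ (by omega)
    omega
  · have h4 : (d + 1) ^ 3 ≤ (d + 1) ^ s := Nat.pow_le_pow_right (by omega) h3
    have h5 := Nat.le_of_dvd hpos h
    omega

theorem minus_arith2 {c s q : ℕ} (hc : 2 ≤ c) (hs : 3 ≤ s) (hq : q = c ^ s)
    (h : q - 1 ∣ (c + 1) * ((c - 1) * c)) : False := by
  obtain ⟨d, rfl⟩ : ∃ d, c = d + 1 := ⟨c - 1, by omega⟩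
  have hP := prod_add d
  have hpos := prod_pos' hc
  have h4 : (d + 1) ^ 3 ≤ (d + 1) ^ s := Nat.pow_le_pow_right (by omega) hs
  have h5 := Nat.le_of_dvd hpos h
  omega

theorem minus_arith1 {c s q : ℕ} (hc : 2 ≤ c) (hodd : Odd c) (hs : 2 ≤ s) (hq : q = c ^ s)
    (h : 2 * (q - 1) ∣ (c + 1) * ((c - 1) * c)) : False := by
  rcases Nat.eq_or_lt_of_le hs with h2 | h3
  · rw [← h2] at hq
    obtain ⟨d, rfl⟩ : ∃ d, c = d + 1 := ⟨c - 1, by omega⟩
    have h1 : q - 1 = (d + 1 + 1) * (d + 1 - 1) := by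
      rw [hq]
      simp only [Nat.add_sub_cancel]
      have : (d + 1) ^ 2 = (d + 1 + 1) * d + 1 := by ring
      omega
    obtain ⟨j, hj⟩ := h
    rw [h1] at hj
    have hpos : 0 < (d + 1 + 1) * (d + 1 - 1) := Nat.mul_pos (by omega) (by omega)
    have h4 : (d + 1 + 1) * (d + 1 - 1) * (d + 1) = (d + 1 + 1) * (d + 1 - 1) * (2 * j) := by
      rw [← mul_assoc] at hj
      rw [hj]; ring
    have h5 := Nat.eq_of_mul_eq_mul_left hpos h4
    obtain ⟨m, hm⟩ := hodd
    omega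
  · exact minus_arith2 hc h3 hq (dvd_trans (dvd_mul_left _ 2) h)

theorem three_pow_plus {n q : ℕ} (hq : q = 3 ^ n) (h5 : 5 ≤ q) (h9 : q ≠ 9) (h : q + 1 ∣ 60) :
    False := by
  have hle := Nat.le_of_dvd (by norm_num) h
  have hn : n < 4 := by
    by_contra hge
    push Not at hge
    have : 3 ^ 4 ≤ 3 ^ n := Nat.pow_le_pow_right (by norm_num) hge
    omega
  interval_cases n <;> norm_num at hq <;> subst hq <;> omega

theorem three_pow_minus {n q : ℕ} (hq : q = 3 ^ n) (h13 : 13 ≤ q) (h : q - 1 ∣ 60) :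
    False := by
  have hle := Nat.le_of_dvd (by norm_num) h
  have hn : n < 4 := by
    by_contra hge
    push Not at hge
    have : 3 ^ 4 ≤ 3 ^ n := Nat.pow_le_pow_right (by norm_num) hge
    omega
  interval_cases n <;> norm_num at hq <;> subst hq <;> omega

end Cfsg.Agent.Helper18.Dickson
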