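import Cfsg.Agent.Helper18.Dickson38

/-! Dickson-type counting, part 39: maximality of the dihedral subgroups of `PSL₂(q)`, `q` odd. -/

set_option autoImplicit false

namespace Cfsg.Agent.Helper18.Dickson

open DihedralGroup

variable {F : Type*} [Field F]

local notation "SF" => Matrix.SpecialLinearGroup (Fin 2) F
local notation "MF" => Matrix (Fin 2) (Fin 2) F
local notation "PF" => Matrix.ProjectiveSpecialLinearGroup (Fin 2) F
local notation "π" => QuotientGroup.mk' (Subgroup.center SF)

/-- the Borel case is impossible for an overgroup of a dihedral group `D_k`, `k ≥ 3` prime to `p` -/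
theorem dih_borel_contra {G : Type*} [Group G] {k : ℕ} (M L : Subgroup G)
    (e : M ≃* DihedralGroup k) (hML : M ≤ L) (p : ℕ) (hpp : p.Prime) (hk3 : 3 ≤ k)
    (hkp : ¬ p ∣ k) (hL : ∀ x ∈ L, ∀ y ∈ L, (x * y * x⁻¹ * y⁻¹) ^ p = 1) : False := by
  have h1 := dih_comm_pow M L e hML p hL
  have hcop : Nat.Coprime k p := (Nat.Prime.coprime_iff_not_dvd hpp).2 hkp |>.symm
  have h2 : k ∣ 2 := hcop.dvd_of_dvd_mul_right h1
  have := Nat.le_of_dvd (by norm_num) h2
  omega

/-- **Maximality of `D_{q+1}`** in `PSL₂(q)`, `q` odd, `q ≠ 7, 9`. -/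
theorem dihedral_plus_maximal [Fintype F] (p : ℕ) [Fact p.Prime] [CharP F p] (hp : p ≠ 2)
    (hq7 : Fintype.card F ≠ 7) (hq9 : Fintype.card F ≠ 9)
    (M : Subgroup PF) (hcM : Nat.card M = Fintype.card F + 1)
    (e : M ≃* DihedralGroup ((Fintype.card F + 1) / 2)) : IsCoatom M := by
  classical
  have hpp : p.Prime := Fact.out
  have h2F : (2 : F) ≠ 0 := two_ne_zero_of_char (E := F) p hp
  obtain ⟨n, -, hn⟩ := FiniteField.card F p
  have hpq : p ∣ Fintype.card F := by rw [hn]; exact dvd_pow_self p n.ne_zero
  obtain ⟨k, hk⟩ := odd_card_of_char (F := F) p hp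
  have hq2 : 2 ≤ Fintype.card F := Fintype.one_lt_card
  have hk1 : 1 ≤ k := by omega
  have hkk : (Fintype.card F + 1) / 2 = k + 1 := by omega
  have hcP := two_mul_card_psl (F := F) h2F
  have hbig : 2 < (Fintype.card F - 1) * Fintype.card F := by
    have : 2 * 3 ≤ (Fintype.card F - 1) * Fintype.card F :=
      Nat.mul_le_mul (by omega) (by omega)
    omega
  constructor
  · intro htop
    rw [htop, Subgroup.card_top] at hcM
    rw [hcM] at hcP
    have : (Fintype.card F + 1) * 2 < (Fintype.card F + 1) * ((Fintype.card F - 1) * Fintype.card F) :=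
      Nat.mul_lt_mul_of_pos_left hbig (by omega)
    omega
  · intro L hML
    by_contra hLtop
    have hle : M ≤ L := hML.le
    have hdvd : Nat.card M ∣ Nat.card L := Subgroup.card_dvd_of_le hle
    rw [hcM] at hdvd
    have hLpos : 0 < Nat.card L := Nat.card_pos
    have hqle : Fintype.card F + 1 ≤ Nat.card L := Nat.le_of_dvd hLpos hdvd
    have hne : Nat.card L ≠ Fintype.card F + 1 := by
      intro h
      exact hML.ne (Subgroup.eq_of_le_of_card_ge hle (by rw [h, hcM]))
    have hLdvd : Nat.card L ∣ Nat.card PF := Subgroup.card_subgroup_dvd_card L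
    have hLne : Nat.card L ≠ Nat.card PF := by
      intro h
      exact hLtop (Subgroup.eq_top_of_card_eq L h)
    obtain ⟨x, hxM, hxo⟩ := exists_orderOf_dih M e
    rw [hkk] at hxo
    -- the case `q = 3`
    by_cases hq3 : Fintype.card F = 3
    · rw [hq3] at hcP hdvd hne
      have hG : Nat.card PF = 12 := by omega
      rw [hG] at hLdvd hLne
      obtain ⟨c, hc⟩ := hdvd
      obtain ⟨d, hd⟩ := hLdvd
      rw [hc] at hd hne hLne
      have hcd : c * d = 3 := by
        have h4 : 12 = 4 * (c * d) := by rw [hd]; ring
        omega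
      have hc3 : c ∣ 3 := ⟨d, hcd.symm⟩
      rcases (Nat.dvd_prime Nat.prime_three).1 hc3 with h | h
      · rw [h] at hne; omega
      · rw [h] at hLne; omega
    have hk2 : 2 ≤ k := by omega
    by_cases hpL : p ∣ Nat.card L
    · rcases pdiv_dickson p hp L hpL with ⟨-, hB⟩ | ⟨K, s, hs, hs1, hKt, hc⟩ | ⟨h3, h60⟩
      · refine dih_borel_contra M L e hle p hpp (by omega) ?_ hB
        intro h
        apply (not_dvd_card_succ (F := F) p).1
        exact dvd_trans h ⟨2, by omega⟩
      · have hc2 := Cfsg.Agent.Helper11.FinSub.two_le_card K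
        have hs2 : 2 ≤ s := by
          by_contra hlt
          have : s = 1 := by omega
          rw [this, pow_one] at hs
          exact hLtop (hKt (Cfsg.Agent.Helper11.FinSub.eq_top_of_card_eq K hs.symm))
        refine plus_arith hc2 hs2 hs ?_
        rcases hc with ⟨hc, -⟩ | ⟨hc, -, -⟩
        · rw [← hc]; exact dvd_trans hdvd (dvd_mul_left _ 2)
        · rw [← hc]; exact hdvd
      · have hn' : Fintype.card F = 3 ^ (n : ℕ) := by rw [hn, h3]
        rw [h60] at hdvd
        exact three_pow_plus hn' (by omega) hq9 hdvd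
    · rcases pprime_dickson p hp L hpL with ⟨k', hk', ⟨-, hc⟩ | ⟨⟨f⟩⟩⟩ | ⟨⟨f⟩⟩ | ⟨⟨f⟩⟩ | ⟨⟨f⟩⟩
      · have hkle : k' ≤ (Fintype.card F + 1) / 2 := by
          rcases hk' with hk' | hk'
          · exact Nat.le_of_dvd (by omega) hk'
          · have := Nat.le_of_dvd (by omega) hk'
            omega
        omega
      · have hc : Nat.card L = 2 * k' := by
          rw [Nat.card_congr f.toEquiv, DihedralGroup.nat_card]
        have hkle : k' ≤ (Fintype.card F + 1) / 2 := by
          rcases hk' with hk' | hk'
          · exact Nat.le_of_dvd (by omega) hk'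
          · have := Nat.le_of_dvd (by omega) hk'
            omega
        omega
      · have h3 := orderOf_le_A4 L f x (hle hxM)
        have hk3 : (Fintype.card F + 1) / 2 = 3 := by omega
        rw [hk3] at e
        exact no_D3_in_A4 M L e hle f
      · have h3 := orderOf_le_S4 L f x (hle hxM)
        have hcL : Nat.card L = 24 := by rw [Nat.card_congr f.toEquiv, card_S4]
        rw [hcL] at hLdvd
        have hq5 : Fintype.card F = 5 := by omega
        rw [hq5] at hcP
        have hG : Nat.card PF = 60 := by omega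
        rw [hG] at hLdvd
        omega
      · have h3 := orderOf_le_A5 L f x (hle hxM)
        have hcL : Nat.card L = 60 := by rw [Nat.card_congr f.toEquiv, card_A5]
        rw [hcL] at hdvd hpL
        have hq5 : Fintype.card F = 5 := by omega
        rw [hq5] at hpq
        have := (Nat.prime_dvd_prime_iff_eq hpp Nat.prime_five).1 hpq
        rw [this] at hpL
        exact hpL (by norm_num)

/-- **Maximality of `D_{q-1}`** in `PSL₂(q)`, `q` odd, `q ≥ 13`. -/
theorem dihedral_minus_maximal [Fintype F] (p : ℕ) [Fact p.Prime] [CharP F p] (hp : p ≠ 2)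
    (hq13 : 13 ≤ Fintype.card F)
    (M : Subgroup PF) (hcM : Nat.card M = Fintype.card F - 1)
    (e : M ≃* DihedralGroup ((Fintype.card F - 1) / 2)) : IsCoatom M := by
  classical
  have hpp : p.Prime := Fact.out
  have h2F : (2 : F) ≠ 0 := two_ne_zero_of_char (E := F) p hp
  obtain ⟨n, -, hn⟩ := FiniteField.card F p
  have hpq : p ∣ Fintype.card F := by rw [hn]; exact dvd_pow_self p n.ne_zero
  obtain ⟨k, hk⟩ := odd_card_of_char (F := F) p hp
  have hk6 : 6 ≤ k := by omega
  have hkk : (Fintype.card F - 1) / 2 = k := by omega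
  have hcP := two_mul_card_psl (F := F) h2F
  constructor
  · intro htop
    rw [htop, Subgroup.card_top] at hcM
    rw [hcM] at hcP
    have : 2 * (Fintype.card F - 1) < (Fintype.card F + 1) * ((Fintype.card F - 1) * Fintype.card F) := by
      have h1 : 2 * (Fintype.card F - 1) < Fintype.card F * (Fintype.card F - 1) :=
        Nat.mul_lt_mul_of_pos_right (by omega) (by omega)
      have h2 : 1 * ((Fintype.card F - 1) * Fintype.card F) ≤
          (Fintype.card F + 1) * ((Fintype.card F - 1) * Fintype.card F) :=
        Nat.mul_le_mul_right _ (by omega)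
      rw [mul_comm (Fintype.card F) (Fintype.card F - 1)] at h1
      omega
    omega
  · intro L hML
    by_contra hLtop
    have hle : M ≤ L := hML.le
    have hdvd : Nat.card M ∣ Nat.card L := Subgroup.card_dvd_of_le hle
    rw [hcM] at hdvd
    have hLpos : 0 < Nat.card L := Nat.card_pos
    have hqle : Fintype.card F - 1 ≤ Nat.card L := Nat.le_of_dvd hLpos hdvd
    have hne : Nat.card L ≠ Fintype.card F - 1 := by
      intro h
      exact hML.ne (Subgroup.eq_of_le_of_card_ge hle (by rw [h, hcM]))
    obtain ⟨x, hxM, hxo⟩ := exists_orderOf_dih M e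
    rw [hkk] at hxo
    have hpk : ¬ p ∣ k := by
      intro h
      apply (not_dvd_card_succ (F := F) p).2
      exact dvd_trans h ⟨2, by omega⟩
    by_cases hpL : p ∣ Nat.card L
    · rcases pdiv_dickson p hp L hpL with ⟨-, hB⟩ | ⟨K, s, hs, hs1, hKt, hc⟩ | ⟨h3, h60⟩
      · refine dih_borel_contra M L e hle p hpp (by omega) ?_ hB
        rw [hkk]; exact hpk
      · have hc2 := Cfsg.Agent.Helper11.FinSub.two_le_card K
        have hs2 : 2 ≤ s := by
          by_contra hlt
          have : s = 1 := by omega
          rw [this, pow_one] at hs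
          exact hLtop (hKt (Cfsg.Agent.Helper11.FinSub.eq_top_of_card_eq K hs.symm))
        have hcodd : Odd (Nat.card K) := by
          have hodd : Odd (Fintype.card F) := ⟨k, hk⟩
          rw [hs] at hodd
          obtain ⟨s', rfl⟩ : ∃ s', s = s' + 1 := ⟨s - 1, by omega⟩
          rw [pow_succ] at hodd
          exact Nat.Odd.of_mul_right hodd
        rcases hc with ⟨hc, -⟩ | ⟨hc, -, ⟨g⟩⟩
        · refine minus_arith1 hc2 hcodd hs2 hs ?_
          rw [← hc]
          exact Nat.mul_dvd_mul_left 2 hdvd
        · rcases Nat.eq_or_lt_of_le hs2 with h2 | h3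
          · -- `q = |K|²`: element orders
            have hle' := orderOf_le_of_NK p hp K L g x (hle hxM) (by rw [hxo]; exact hpk)
            rw [hxo] at hle'
            rw [← h2] at hs
            obtain ⟨d, hd⟩ := hcodd
            rw [hd] at hs hle'
            have h4 : (2 * d + 1) ^ 2 = 4 * (d * d) + 4 * d + 1 := by ring
            have h5 : 2 ≤ d := by
              by_contra hlt
              have : d = 0 ∨ d = 1 := by omega
              rcases this with rfl | rfl <;> omega
            have h6 : 2 * d ≤ d * d := Nat.mul_le_mul_right d h5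
            omega
          · refine minus_arith2 hc2 h3 hs ?_
            rw [← hc]; exact hdvd
      · have hn' : Fintype.card F = 3 ^ (n : ℕ) := by rw [hn, h3]
        rw [h60] at hdvd
        exact three_pow_minus hn' hq13 hdvd
    · rcases pprime_dickson p hp L hpL with ⟨k', hk', ⟨-, hc⟩ | ⟨⟨f⟩⟩⟩ | ⟨⟨f⟩⟩ | ⟨⟨f⟩⟩ | ⟨⟨f⟩⟩
      · have hkle : k' ≤ (Fintype.card F + 1) / 2 := by
          rcases hk' with hk' | hk'
          · exact Nat.le_of_dvd (by omega) hk'
          · have := Nat.le_of_dvd (by omega) hk'
            omega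
        omega
      · have hc : Nat.card L = 2 * k' := by
          rw [Nat.card_congr f.toEquiv, DihedralGroup.nat_card]
        rcases hk' with hk' | hk'
        · -- `2 k' ∣ q + 1` and `q - 1 ∣ 2 k'`
          have h1 : 2 * k' ∣ Fintype.card F + 1 := by
            have : Fintype.card F + 1 = 2 * ((Fintype.card F + 1) / 2) := by omega
            rw [this]; exact Nat.mul_dvd_mul_left 2 hk'
          rw [hc] at hdvd
          have h2 : Fintype.card F - 1 ∣ Fintype.card F + 1 := dvd_trans hdvd h1
          have h3 : Fintype.card F - 1 ∣ 2 := by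
            have : Fintype.card F + 1 = (Fintype.card F - 1) + 2 := by omega
            rw [this] at h2
            exact (Nat.dvd_add_right (dvd_refl _)).1 h2
          have := Nat.le_of_dvd (by norm_num) h3
          omega
        · have := Nat.le_of_dvd (by omega) hk'
          omega
      · have h3 := orderOf_le_A4 L f x (hle hxM)
        omega
      · have h3 := orderOf_le_S4 L f x (hle hxM)
        omega
      · have h3 := orderOf_le_A5 L f x (hle hxM)
        omega

end Cfsg.Agent.Helper18.Dickson
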