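import Cfsg.Agent.Helper18.Dickson3

/-! Dickson-type counting, part 4: the stabiliser of the point at infinity. -/

set_option autoImplicit false

open scoped LinearAlgebra.Projectivization

namespace Cfsg.Agent.Helper18.Dickson

variable {E : Type*} [Field E]

local notation "S2" => Matrix.SpecialLinearGroup (Fin 2) E
local notation "M2" => Matrix (Fin 2) (Fin 2) E
local notation "PL" => ℙ E (Fin 2 → E)

/-- upper unitriangular -/
def uM (a : E) : S2 := ⟨!![1, a; 0, 1], by simp [Matrix.det_fin_two_of]⟩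

/-- lower unitriangular -/
def lM (b : E) : S2 := ⟨!![1, 0; b, 1], by simp [Matrix.det_fin_two_of]⟩

theorem uM_coe (a : E) : ((uM a : S2) : M2) = !![1, a; 0, 1] := rfl
theorem lM_coe (b : E) : ((lM b : S2) : M2) = !![1, 0; b, 1] := rfl

theorem uM_mul (a b : E) : uM a * uM b = uM (a + b) := by
  apply Subtype.ext
  rw [Matrix.SpecialLinearGroup.coe_mul, uM_coe, uM_coe, uM_coe]
  simp [add_comm]

theorem uM_zero : uM (0 : E) = 1 := by
  apply Subtype.ext
  rw [uM_coe]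
  exact Matrix.one_fin_two.symm

theorem uM_inv (a : E) : (uM a)⁻¹ = uM (-a) := by
  rw [inv_eq_iff_mul_eq_one, uM_mul, add_neg_cancel, uM_zero]

theorem uM_pow (a : E) (n : ℕ) : uM a ^ n = uM (n * a) := by
  induction n with
  | zero => simp [uM_zero]
  | succ k ih => rw [pow_succ, ih, uM_mul]; congr 1; push_cast; ring

theorem uM_injective : Function.Injective (uM : E → S2) := by
  intro a b h
  have := congrArg (fun g : S2 => (g : M2) 0 1) h
  simpa [uM_coe] using this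

theorem uM_eq_one_iff (a : E) : uM a = 1 ↔ a = 0 := by
  rw [← uM_zero]; exact uM_injective.eq_iff

theorem eq_uM (g : S2) (h1 : (g : M2) 1 0 = 0) (h2 : (g : M2) 0 0 = 1) :
    g = uM ((g : M2) 0 1) := by
  have hd := borel_entries g h1
  rw [h2, one_mul] at hd
  apply Subtype.ext
  rw [uM_coe]
  ext i j
  fin_cases i <;> fin_cases j <;> simp [h1, h2, hd]

theorem eq_lM (g : S2) (h1 : (g : M2) 0 1 = 0) (h2 : (g : M2) 0 0 = 1) :
    g = lM ((g : M2) 1 0) := by
  have hd := det_eq g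
  rw [h1, h2] at hd
  have hd' : (g : M2) 1 1 = 1 := by linear_combination hd
  apply Subtype.ext
  rw [lM_coe]
  ext i j
  fin_cases i <;> fin_cases j <;> simp [h1, h2, hd']

theorem uM_smul_pinf (a : E) : uM a • (pinf : PL) = pinf :=
  smul_pinf_of_eq _ (by simp [uM_coe])

theorem uM_smul_pt (a x : E) : uM a • (pt x : PL) = pt (x + a) := by
  rw [borel_smul_pt _ (by simp [uM_coe])]
  simp [uM_coe]

theorem lM_smul_pinf (b : E) (hb : b ≠ 0) : lM b • (pinf : PL) = pt (1 / b) := by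
  rw [smul_pinf_of_ne _ (by simpa [lM_coe] using hb)]
  simp [lM_coe]

theorem tr_uM (a : E) : tr (uM a) = 2 := by
  unfold tr; simp [uM_coe]; norm_num

theorem not_isPM_uM (h2 : (2 : E) ≠ 0) (a : E) (ha : a ≠ 0) : ¬ IsPM (uM a) := by
  rintro (h | h)
  · have := congrFun (congrFun h 0) 1
    simp [uM_coe] at this
    exact ha this
  · have := congrFun (congrFun h 0) 0
    simp [uM_coe] at this
    apply h2
    linear_combination this

theorem isPar_uM (h2 : (2 : E) ≠ 0) (a : E) (ha : a ≠ 0) : IsPar (uM a) :=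
  ⟨not_isPM_uM h2 a ha, by rw [tr_uM]; norm_num⟩

/-- the only fixed point of a nontrivial upper unitriangular element is the point at infinity -/
theorem uM_fix (a : E) (ha : a ≠ 0) (x : PL) (hx : uM a • x = x) : x = pinf := by
  rcases eq_pinf_or_pt x with rfl | ⟨y, rfl⟩
  · rfl
  · rw [uM_smul_pt, pt_eq_pt_iff] at hx
    exact absurd (by linear_combination hx) ha

/-- the additive group of `a` with `uM a ∈ H` -/
def Aset (H : Subgroup S2) : AddSubgroup E where
  carrier := {a | uM a ∈ H}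
  zero_mem' := by simp [uM_zero, H.one_mem]
  add_mem' := by
    intro a b ha hb
    simp only [Set.mem_ofPred_eq] at *
    rw [← uM_mul]; exact H.mul_mem ha hb
  neg_mem' := by
    intro a ha
    simp only [Set.mem_ofPred_eq] at *
    rw [← uM_inv]; exact H.inv_mem ha

theorem mem_Aset (H : Subgroup S2) (a : E) : a ∈ Aset H ↔ uM a ∈ H := Iff.rfl


theorem stN_pinf (H : Subgroup S2) :
    stN H pinf = Nat.card {g : S2 // g ∈ H ∧ (g : M2) 1 0 = 0} := by
  unfold stN
  apply Nat.card_congr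
  exact Equiv.subtypeEquivRight (fun g => by rw [smul_pinf_eq_iff])

theorem uM_pow_char (p : ℕ) [CharP E p] (c : E) : uM c ^ p = 1 := by
  rw [uM_pow, CharP.cast_eq_zero, zero_mul, uM_zero]

theorem neg_one_mem_of (p : ℕ) [Fact p.Prime] [CharP E p] (hp : p ≠ 2) (H : Subgroup S2)
    (g : S2) (hg : g ∈ H) (h1 : (g : M2) 1 0 = 0) (h2 : (g : M2) 0 0 = -1) :
    (-1 : S2) ∈ H := by
  have hd := borel_entries g h1
  rw [h2] at hd
  have hd' : (g : M2) 1 1 = -1 := by linear_combination -hd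
  have e : g = -(uM (-(g : M2) 0 1)) := by
    apply Subtype.ext
    rw [Matrix.SpecialLinearGroup.coe_neg, uM_coe]
    ext i j
    fin_cases i <;> fin_cases j <;> simp [h1, h2, hd']
  have hodd : Odd p := (Fact.out : p.Prime).odd_of_ne_two hp
  have : g ^ p = -1 := by
    rw [e, hodd.neg_pow, uM_pow_char]
  rw [← this]
  exact H.pow_mem hg p

theorem one_ne_neg_one (h2 : (2 : E) ≠ 0) : (1 : S2) ≠ -1 := by
  intro h
  have := congrArg (fun g : S2 => (g : M2) 0 0) h
  simp only [Matrix.SpecialLinearGroup.coe_one, Matrix.SpecialLinearGroup.coe_neg,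
    Matrix.one_apply_eq, Matrix.neg_apply] at this
  apply h2
  linear_combination this

theorem isPM_iff (g : S2) : IsPM g ↔ g = 1 ∨ g = -1 := by
  unfold IsPM
  constructor
  · rintro (h | h)
    · exact Or.inl (Subtype.ext h)
    · exact Or.inr (Subtype.ext (by rw [h]; simp))
  · rintro (rfl | rfl)
    · left; simp
    · right; simp

theorem tot_pm_of_mem (h2 : (2 : E) ≠ 0) (H : Subgroup S2) (hm : (-1 : S2) ∈ H) :
    tot H IsPM = 2 := by
  classical
  unfold tot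
  have : {g : S2 | g ∈ H ∧ IsPM g} = {1, -1} := by
    ext g
    simp only [Set.mem_ofPred_eq, Set.mem_insert_iff, Set.mem_singleton_iff, isPM_iff]
    constructor
    · exact fun h => h.2
    · rintro (rfl | rfl)
      · exact ⟨H.one_mem, Or.inl rfl⟩
      · exact ⟨hm, Or.inr rfl⟩
  show Nat.card {g : S2 | g ∈ H ∧ IsPM g} = 2
  rw [this, Nat.card_coe_set_eq, Set.ncard_pair (one_ne_neg_one h2)]

theorem tot_pm_of_not_mem (H : Subgroup S2) (hm : (-1 : S2) ∉ H) :
    tot H IsPM = 1 := by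
  unfold tot
  have : {g : S2 | g ∈ H ∧ IsPM g} = {1} := by
    ext g
    simp only [Set.mem_ofPred_eq, Set.mem_singleton_iff, isPM_iff]
    constructor
    · rintro ⟨h1, rfl | rfl⟩
      · rfl
      · exact absurd h1 hm
    · rintro rfl
      exact ⟨H.one_mem, Or.inl rfl⟩
  show Nat.card {g : S2 | g ∈ H ∧ IsPM g} = 1
  rw [this, Nat.card_coe_set_eq, Set.ncard_singleton]

/-- elements of `H` fixing `∞` with diagonal entry `ε` -/
def HMe (H : Subgroup S2) (ε : E) : Set S2 := {g | g ∈ H ∧ (g : M2) 1 0 = 0 ∧ (g : M2) 0 0 = ε}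

theorem card_HMe_one (H : Subgroup S2) : Nat.card (HMe H 1) = Nat.card (Aset H) := by
  apply Nat.card_congr
  refine ⟨fun g => ⟨(g.1 : M2) 0 1, ?_⟩, fun a => ⟨uM a.1, a.2, by simp [uM_coe], by simp [uM_coe]⟩,
    ?_, ?_⟩
  · obtain ⟨g, h1, h2, h3⟩ := g
    show uM _ ∈ H
    rw [← eq_uM g h2 h3]; exact h1
  · rintro ⟨g, h1, h2, h3⟩
    apply Subtype.ext
    exact (eq_uM g h2 h3).symm
  · rintro ⟨a, ha⟩
    apply Subtype.ext
    simp [uM_coe]

theorem card_HMe_neg_one_of_mem (H : Subgroup S2) (hm : (-1 : S2) ∈ H) :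
    Nat.card (HMe H (-1)) = Nat.card (HMe H 1) := by
  apply Nat.card_congr
  refine ⟨fun g => ⟨-g.1, ?_⟩, fun g => ⟨-g.1, ?_⟩, ?_, ?_⟩
  · obtain ⟨g, h1, h2, h3⟩ := g
    refine ⟨?_, ?_, ?_⟩
    · have : -g = (-1 : S2) * g := by simp
      rw [this]; exact H.mul_mem hm h1
    · simp [h2]
    · simp [h3]
  · obtain ⟨g, h1, h2, h3⟩ := g
    refine ⟨?_, ?_, ?_⟩
    · have : -g = (-1 : S2) * g := by simp
      rw [this]; exact H.mul_mem hm h1
    · simp [h2]
    · simp [h3]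
  · intro g; apply Subtype.ext; simp
  · intro g; apply Subtype.ext; simp

theorem HMe_neg_one_empty (p : ℕ) [Fact p.Prime] [CharP E p] (hp : p ≠ 2) (H : Subgroup S2)
    (hm : (-1 : S2) ∉ H) : HMe H (-1) = ∅ := by
  ext g
  simp only [Set.mem_empty_iff_false, iff_false]
  rintro ⟨h1, h2, h3⟩
  exact hm (neg_one_mem_of p hp H g h1 h2 h3)

/-- the group `H ∩ ±U` has order `z * Q` -/
theorem card_HM [Finite E] (p : ℕ) [Fact p.Prime] [CharP E p] (hp : p ≠ 2) (h2 : (2 : E) ≠ 0)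
    (H : Subgroup S2) :
    Nat.card {g : S2 // g ∈ H ∧ (g : M2) 1 0 = 0 ∧ (g : M2) 0 0 ^ 2 = 1} =
      tot H IsPM * Nat.card (Aset H) := by
  classical
  have hne : (1 : E) ≠ -1 := by
    intro h; apply h2; linear_combination h
  have hunion : {g : S2 | g ∈ H ∧ (g : M2) 1 0 = 0 ∧ (g : M2) 0 0 ^ 2 = 1} =
      HMe H 1 ∪ HMe H (-1) := by
    ext g
    simp only [HMe, Set.mem_ofPred_eq, Set.mem_union]
    constructor
    · rintro ⟨h1, h3, h4⟩
      have : ((g : M2) 0 0 - 1) * ((g : M2) 0 0 + 1) = 0 := by linear_combination h4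
      rcases mul_eq_zero.1 this with h5 | h5
      · exact Or.inl ⟨h1, h3, by linear_combination h5⟩
      · exact Or.inr ⟨h1, h3, by linear_combination h5⟩
    · rintro (⟨h1, h3, h4⟩ | ⟨h1, h3, h4⟩)
      · exact ⟨h1, h3, by rw [h4]; ring⟩
      · exact ⟨h1, h3, by rw [h4]; ring⟩
  have hdisj : Disjoint (HMe H 1) (HMe H (-1)) := by
    rw [Set.disjoint_left]
    rintro g ⟨_, _, h3⟩ ⟨_, _, h4⟩
    exact hne (h3.symm.trans h4)
  have hfin : (HMe H 1).Finite ∧ (HMe H (-1)).Finite := by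
    constructor
    · apply Set.Finite.subset (Set.toFinite {g : S2 | g ∈ H ∧ (g : M2) 1 0 = 0 ∧ (g : M2) 0 0 ^ 2 = 1})
      rw [hunion]; exact Set.subset_union_left
    · apply Set.Finite.subset (Set.toFinite {g : S2 | g ∈ H ∧ (g : M2) 1 0 = 0 ∧ (g : M2) 0 0 ^ 2 = 1})
      rw [hunion]; exact Set.subset_union_right
  show Nat.card {g : S2 | g ∈ H ∧ (g : M2) 1 0 = 0 ∧ (g : M2) 0 0 ^ 2 = 1} = _
  rw [hunion, Nat.card_coe_set_eq, Set.ncard_union_eq hdisj hfin.1 hfin.2,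
    ← Nat.card_coe_set_eq, ← Nat.card_coe_set_eq, card_HMe_one]
  by_cases hm : (-1 : S2) ∈ H
  · rw [card_HMe_neg_one_of_mem H hm, card_HMe_one, tot_pm_of_mem h2 H hm]
    ring
  · rw [HMe_neg_one_empty p hp H hm, tot_pm_of_not_mem H hm]
    simp


theorem cnt_par_pinf [Finite E] (H : Subgroup S2) :
    Nat.card {g : S2 // g ∈ H ∧ (g : M2) 1 0 = 0 ∧ (g : M2) 0 0 ^ 2 = 1} =
      tot H IsPM + cnt H IsPar pinf := by
  rw [card_split (fun g : S2 => g ∈ H ∧ (g : M2) 1 0 = 0 ∧ (g : M2) 0 0 ^ 2 = 1) IsPM IsPar IsSs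
    (fun a h1 h2 => h2.1 h1) (fun a h1 h2 => h2 h1.tr_sq) (fun a h1 h2 => h2 h1.2) class_cases]
  have h3 : Nat.card {g : S2 // (g ∈ H ∧ (g : M2) 1 0 = 0 ∧ (g : M2) 0 0 ^ 2 = 1) ∧ IsSs g} = 0 := by
    rw [Nat.card_eq_zero]
    left
    constructor
    rintro ⟨g, ⟨_, h1, h2⟩, h3⟩
    exact h3 ((tr_sq_borel g h1).2 h2)
  rw [h3, add_zero]
  unfold tot cnt
  congr 1
  · apply Nat.card_congr
    refine Equiv.subtypeEquivRight (fun g => ?_)
    constructor
    · rintro ⟨⟨h1, _, _⟩, h3⟩; exact ⟨h1, h3⟩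
    · rintro ⟨h1, h3⟩
      refine ⟨⟨h1, ?_, ?_⟩, h3⟩
      · rcases h3 with h | h <;> rw [h] <;> simp
      · rcases h3 with h | h <;> rw [h] <;> simp
  · apply Nat.card_congr
    refine Equiv.subtypeEquivRight (fun g => ?_)
    constructor
    · rintro ⟨⟨h1, h2, _⟩, h3⟩; exact ⟨h1, h3, smul_pinf_of_eq g h2⟩
    · rintro ⟨h1, h3, h4⟩
      have h2 := (smul_pinf_eq_iff g).1 h4
      exact ⟨⟨h1, h2, (tr_sq_borel g h2).1 h3.2⟩, h3⟩

/-- the stabiliser of `∞` -/
noncomputable def Bsub (E : Type*) [Field E] : Subgroup (Matrix.SpecialLinearGroup (Fin 2) E) :=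
  MulAction.stabilizer _ (pinf : ℙ E (Fin 2 → E))

theorem mem_Bsub (g : S2) : g ∈ Bsub E ↔ (g : M2) 1 0 = 0 := by
  unfold Bsub
  rw [MulAction.mem_stabilizer_iff, smul_pinf_eq_iff]

theorem borel_mul_00 (g h : S2) (hh : (h : M2) 1 0 = 0) :
    ((g * h : S2) : M2) 0 0 = (g : M2) 0 0 * (h : M2) 0 0 := by
  rw [Matrix.SpecialLinearGroup.coe_mul, Matrix.mul_apply, Fin.sum_univ_two, hh, mul_zero, add_zero]

theorem borel_inv_00 (g : S2) : ((g⁻¹ : S2) : M2) 0 0 = (g : M2) 1 1 := by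
  rw [Matrix.SpecialLinearGroup.coe_inv, Matrix.adjugate_fin_two]
  simp

theorem conj_uM (g : S2) (hg : (g : M2) 1 0 = 0) (a : E) :
    g * uM a * g⁻¹ = uM ((g : M2) 0 0 ^ 2 * a) := by
  have hd := borel_entries g hg
  apply Subtype.ext
  rw [mul_inv_entries, uM_coe, uM_coe, Matrix.eta_fin_two (g : M2), hg]
  simp only [Matrix.mul_fin_two, Matrix.of_apply, Matrix.cons_val', Matrix.cons_val_zero,
    Matrix.cons_val_one, Matrix.empty_val', Matrix.cons_val_fin_one]
  ext i j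
  fin_cases i <;> fin_cases j <;> simp
  · linear_combination hd
  · ring
  · linear_combination hd


/-- the subgroup `±U` -/
def Msub (E : Type*) [Field E] : Subgroup (Matrix.SpecialLinearGroup (Fin 2) E) where
  carrier := {g | (g : Matrix (Fin 2) (Fin 2) E) 1 0 = 0 ∧ (g : Matrix (Fin 2) (Fin 2) E) 0 0 ^ 2 = 1}
  one_mem' := by simp
  mul_mem' := by
    rintro g h ⟨hg1, hg2⟩ ⟨hh1, hh2⟩
    refine ⟨(mem_Bsub _).1 ((Bsub E).mul_mem ((mem_Bsub g).2 hg1) ((mem_Bsub h).2 hh1)), ?_⟩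
    rw [borel_mul_00 g h hh1, mul_pow, hg2, hh2, one_mul]
  inv_mem' := by
    rintro g ⟨hg1, hg2⟩
    refine ⟨(mem_Bsub _).1 ((Bsub E).inv_mem ((mem_Bsub g).2 hg1)), ?_⟩
    rw [borel_inv_00]
    have hd := borel_entries g hg1
    have : ((g : Matrix (Fin 2) (Fin 2) E) 0 0 * (g : Matrix (Fin 2) (Fin 2) E) 1 1) ^ 2 = 1 := by
      rw [hd]; ring
    rw [mul_pow, hg2, one_mul] at this
    exact this

theorem mem_Msub (g : S2) : g ∈ Msub E ↔ (g : M2) 1 0 = 0 ∧ (g : M2) 0 0 ^ 2 = 1 := Iff.rfl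

theorem card_HM_dvd [Finite E] (H : Subgroup S2) :
    Nat.card {g : S2 // g ∈ H ∧ (g : M2) 1 0 = 0 ∧ (g : M2) 0 0 ^ 2 = 1} ∣ stN H pinf := by
  have h1 : Nat.card {g : S2 // g ∈ H ∧ (g : M2) 1 0 = 0 ∧ (g : M2) 0 0 ^ 2 = 1} =
      Nat.card ↥(H ⊓ Msub E) := by
    apply Nat.card_congr
    exact Equiv.subtypeEquivRight (fun g => by rw [Subgroup.mem_inf, mem_Msub])
  have h2 : stN H pinf = Nat.card ↥(H ⊓ Bsub E) := by
    rw [stN_pinf]
    apply Nat.card_congr
    exact Equiv.subtypeEquivRight (fun g => by rw [Subgroup.mem_inf, mem_Bsub])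
  rw [h1, h2]
  apply Subgroup.card_dvd_of_le
  intro g hg
  rw [Subgroup.mem_inf] at hg ⊢
  exact ⟨hg.1, (mem_Bsub g).2 hg.2.1⟩

theorem card_HB_le [Finite E] (H : Subgroup S2) (a0 : E) (ha0 : a0 ≠ 0) (hu : uM a0 ∈ H) :
    stN H pinf ≤ Nat.card {g : S2 // g ∈ H ∧ (g : M2) 1 0 = 0 ∧ (g : M2) 0 0 ^ 2 = 1} *
      (Nat.card (Aset H) - 1) := by
  classical
  have : Fintype S2 := Fintype.ofFinite _
  have : Fintype E := Fintype.ofFinite _
  set s : Finset S2 := Finset.univ.filter (fun g => g ∈ H ∧ (g : M2) 1 0 = 0) with hs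
  set m : Finset S2 := Finset.univ.filter
    (fun g => g ∈ H ∧ (g : M2) 1 0 = 0 ∧ (g : M2) 0 0 ^ 2 = 1) with hm
  set T : Finset E := Finset.univ.filter (fun a => a ∈ Aset H ∧ a ≠ 0) with hT
  let f : S2 → E := fun g => (g : M2) 0 0 ^ 2 * a0
  have e1 : stN H pinf = s.card := by
    rw [stN_pinf, Nat.card_eq_fintype_card, Fintype.card_subtype]
  have e2 : Nat.card {g : S2 // g ∈ H ∧ (g : M2) 1 0 = 0 ∧ (g : M2) 0 0 ^ 2 = 1} = m.card := by
    rw [Nat.card_eq_fintype_card, Fintype.card_subtype]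
  have e3 : Nat.card (Aset H) - 1 = T.card := by
    have : T = (Finset.univ.filter (fun a => a ∈ Aset H)).erase 0 := by
      ext a
      simp only [hT, Finset.mem_filter, Finset.mem_univ, true_and, Finset.mem_erase]
      tauto
    rw [this, Finset.card_erase_of_mem (by simp [(Aset H).zero_mem]),
      Nat.card_eq_fintype_card, Fintype.card_subtype]
  rw [e1, e2, e3]
  have himg : s.image f ⊆ T := by
    intro b hb
    rw [Finset.mem_image] at hb
    obtain ⟨g, hg, rfl⟩ := hb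
    rw [hs, Finset.mem_filter] at hg
    rw [hT, Finset.mem_filter]
    refine ⟨Finset.mem_univ _, ?_, ?_⟩
    · rw [mem_Aset, ← conj_uM g hg.2.2]
      exact H.mul_mem (H.mul_mem hg.2.1 hu) (H.inv_mem hg.2.1)
    · have hd := borel_entries g hg.2.2
      have h0 : (g : M2) 0 0 ≠ 0 := by
        intro h0; rw [h0, zero_mul] at hd; exact zero_ne_one hd
      exact mul_ne_zero (pow_ne_zero 2 h0) ha0
  have hfib : ∀ b ∈ s.image f, (s.filter (fun g => f g = b)).card ≤ m.card := by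
    intro b hb
    rw [Finset.mem_image] at hb
    obtain ⟨g1, hg1, rfl⟩ := hb
    rw [hs, Finset.mem_filter] at hg1
    apply Finset.card_le_card_of_injOn (fun g => g1⁻¹ * g)
    · intro g hg
      rw [Finset.coe_filter] at hg
      obtain ⟨hg2, hg3⟩ := hg
      rw [hs, Finset.mem_filter] at hg2
      rw [hm, Finset.coe_filter]
      refine ⟨Finset.mem_univ _, H.mul_mem (H.inv_mem hg1.2.1) hg2.2.1, ?_, ?_⟩
      · exact (mem_Bsub _).1 ((Bsub E).mul_mem ((Bsub E).inv_mem ((mem_Bsub g1).2 hg1.2.2))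
          ((mem_Bsub g).2 hg2.2.2))
      · rw [borel_mul_00 _ _ hg2.2.2, borel_inv_00]
        have hd := borel_entries g1 hg1.2.2
        have h3 : (g : M2) 0 0 ^ 2 = (g1 : M2) 0 0 ^ 2 := by
          have : (g : M2) 0 0 ^ 2 * a0 = (g1 : M2) 0 0 ^ 2 * a0 := hg3
          exact mul_right_cancel₀ ha0 this
        rw [mul_pow, h3, ← mul_pow, mul_comm, hd, one_pow]
    · intro x _ y _ hxy
      exact mul_left_cancel hxy
  calc s.card ≤ m.card * (s.image f).card := Finset.card_le_mul_card_image s m.card hfib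
    _ ≤ m.card * T.card := Nat.mul_le_mul_left _ (Finset.card_le_card himg)

end Cfsg.Agent.Helper18.Dickson
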