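import Cfsg.Agent.Helper18.Dickson39

/-! Dickson-type counting, part 40: the image of `NK K₀` in `PSL₂(F)` is `PGL₂(K)` whenever every
element of `K₀` is a square in `F` (even degree); generalises part 23. -/

set_option autoImplicit false

namespace Cfsg.Agent.Helper18.Dickson

open Cfsg.Agent.Helper11.FinSub

variable {F : Type*} [Field F] {K : Type*} [Field K]

local notation "SF" => Matrix.SpecialLinearGroup (Fin 2) F
local notation "MF" => Matrix (Fin 2) (Fin 2) F
local notation "PF" => Matrix.ProjectiveSpecialLinearGroup (Fin 2) F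

section quadGen

variable [Fintype F] (h2 : (2 : F) ≠ 0) (K₀ : Subfield F)
  (hsq : ∀ d ∈ K₀, ∃ s : F, s ^ 2 = d) (j : K →+* F) (hj : ∀ x : F, x ∈ K₀ ↔ ∃ y : K, j y = x)

include h2 hsq hj in
theorem exists_isLift' (g₀ : GL (Fin 2) K) : ∃ x : SF, IsLift j g₀ x := by
  have hd := det_map_ne_zero j g₀
  have h1 : ((g₀ : Matrix (Fin 2) (Fin 2) K).map j).det ∈ K₀ := by
    rw [hj]
    refine ⟨(g₀ : Matrix (Fin 2) (Fin 2) K).det, ?_⟩
    rw [← RingHom.mapMatrix_apply, ← RingHom.map_det]
  obtain ⟨s, hs⟩ := hsq _ (K₀.inv_mem h1)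
  refine ⟨⟨s • (g₀ : Matrix (Fin 2) (Fin 2) K).map j, ?_⟩, s, rfl⟩
  rw [Matrix.det_smul]
  simp only [Fintype.card_fin]
  rw [hs, inv_mul_cancel₀ hd]

/-- the homomorphism `GL₂(K) → PSL₂(F)` -/
noncomputable def pglHom' : GL (Fin 2) K →* PF :=
  MonoidHom.mk' (fun g₀ => (QuotientGroup.mk' (Subgroup.center SF))
    (Classical.choose (exists_isLift' h2 K₀ hsq j hj g₀))) (by
    intro g₀ h₀
    have h1 := Classical.choose_spec (exists_isLift' h2 K₀ hsq j hj g₀)
    have h3 := Classical.choose_spec (exists_isLift' h2 K₀ hsq j hj h₀)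
    have h4 := Classical.choose_spec (exists_isLift' h2 K₀ hsq j hj (g₀ * h₀))
    rw [← map_mul]
    rcases IsLift.unique (h1.mul h3) h4 with h | h
    · rw [h]
    · rw [h, mk_neg])

theorem pglHom_eq' (g₀ : GL (Fin 2) K) (x : SF) (hx : IsLift j g₀ x) :
    pglHom' h2 K₀ hsq j hj g₀ = (QuotientGroup.mk' (Subgroup.center SF)) x := by
  have h1 := Classical.choose_spec (exists_isLift' h2 K₀ hsq j hj g₀)
  show (QuotientGroup.mk' (Subgroup.center SF)) (Classical.choose _) = _
  rcases IsLift.unique hx h1 with h | h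
  · rw [h]
  · rw [h, mk_neg]

theorem pglHom_ker' : (pglHom' h2 K₀ hsq j hj).ker = Subgroup.center (GL (Fin 2) K) := by
  ext g₀
  obtain ⟨x, hx⟩ := exists_isLift' h2 K₀ hsq j hj g₀
  rw [MonoidHom.mem_ker, pglHom_eq' h2 K₀ hsq j hj g₀ x hx, QuotientGroup.mk'_apply,
    QuotientGroup.eq_one_iff, Matrix.SpecialLinearGroup.mem_center_iff,
    Matrix.GeneralLinearGroup.mem_center_iff_val_mem_range_scalar]
  obtain ⟨s, hs⟩ := hx
  have hsd := IsLift.sq_mul_det hs
  have hs0 : s ≠ 0 := by
    intro h0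
    rw [h0] at hsd
    simp at hsd
  constructor
  · rintro ⟨r, hr, hrx⟩
    have hent : ∀ a b, r * (1 : MF) a b = s * j ((g₀ : Matrix (Fin 2) (Fin 2) K) a b) := by
      intro a b
      have := congrFun (congrFun (hrx.trans hs) a) b
      simpa [Matrix.scalar_apply, Matrix.diagonal_apply, Matrix.one_apply] using this
    have h01 : (g₀ : Matrix (Fin 2) (Fin 2) K) 0 1 = 0 := by
      have := hent 0 1
      simp only [Fin.isValue, ne_eq, zero_ne_one, not_false_eq_true, Matrix.one_apply_ne,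
        mul_zero] at this
      rcases mul_eq_zero.1 this.symm with h | h
      · exact absurd h hs0
      · exact j.injective (h.trans (map_zero j).symm)
    have h10 : (g₀ : Matrix (Fin 2) (Fin 2) K) 1 0 = 0 := by
      have := hent 1 0
      simp only [Fin.isValue, ne_eq, one_ne_zero, not_false_eq_true, Matrix.one_apply_ne,
        mul_zero] at this
      rcases mul_eq_zero.1 this.symm with h | h
      · exact absurd h hs0
      · exact j.injective (h.trans (map_zero j).symm)
    have h11 : (g₀ : Matrix (Fin 2) (Fin 2) K) 1 1 = (g₀ : Matrix (Fin 2) (Fin 2) K) 0 0 := by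
      have e0 := hent 0 0
      have e1 := hent 1 1
      simp only [Matrix.one_apply_eq, mul_one] at e0 e1
      have : s * j ((g₀ : Matrix (Fin 2) (Fin 2) K) 1 1) =
          s * j ((g₀ : Matrix (Fin 2) (Fin 2) K) 0 0) := by rw [← e0, ← e1]
      exact j.injective (mul_left_cancel₀ hs0 this)
    refine ⟨(g₀ : Matrix (Fin 2) (Fin 2) K) 0 0, ?_⟩
    ext a b
    fin_cases a <;> fin_cases b <;> simp [Matrix.scalar_apply, h01, h10, h11]
  · rintro ⟨a, ha⟩
    have hmap : (g₀ : Matrix (Fin 2) (Fin 2) K).map j = Matrix.scalar (Fin 2) (j a) := by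
      rw [← ha]
      ext u v
      by_cases huv : u = v
      · subst huv; simp
      · simp [Matrix.scalar_apply, Matrix.diagonal_apply_ne _ huv]
    refine ⟨s * j a, ?_, ?_⟩
    · have : ((g₀ : Matrix (Fin 2) (Fin 2) K).map j).det = j a ^ 2 := by
        rw [hmap]; simp [Matrix.det_fin_two, pow_two]
      rw [this] at hsd
      simp only [Fintype.card_fin]
      rw [mul_pow]; exact hsd
    · rw [hs, hmap]
      ext u v
      by_cases huv : u = v
      · subst huv; simp
      · simp [Matrix.scalar_apply, Matrix.diagonal_apply_ne _ huv]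

theorem pglHom_range' : (pglHom' h2 K₀ hsq j hj).range =
    (NK K₀).map (QuotientGroup.mk' (Subgroup.center SF)) := by
  ext y
  constructor
  · rintro ⟨g₀, rfl⟩
    obtain ⟨x, hx⟩ := exists_isLift' h2 K₀ hsq j hj g₀
    rw [pglHom_eq' h2 K₀ hsq j hj g₀ x hx]
    refine ⟨x, ?_, rfl⟩
    obtain ⟨s, hs⟩ := hx
    have hsd := IsLift.sq_mul_det hs
    have hs0 : s ≠ 0 := by
      intro h0
      rw [h0] at hsd
      simp at hsd
    refine ⟨s⁻¹, inv_ne_zero hs0, ?_, ?_⟩
    · have hd := det_map_ne_zero j g₀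
      have : s⁻¹ ^ 2 = ((g₀ : Matrix (Fin 2) (Fin 2) K).map j).det := by
        field_simp
        linear_combination -hsd
      rw [this, hj]
      refine ⟨(g₀ : Matrix (Fin 2) (Fin 2) K).det, ?_⟩
      rw [← RingHom.mapMatrix_apply, ← RingHom.map_det]
    · intro a b
      rw [hs, Matrix.smul_apply, smul_eq_mul, ← mul_assoc, inv_mul_cancel₀ hs0, one_mul,
        Matrix.map_apply, hj]
      exact ⟨_, rfl⟩
  · rintro ⟨x, ⟨t, ht0, ht2, ht⟩, rfl⟩
    have hex : ∀ a b, ∃ z : K, j z = t * (x : MF) a b := fun a b => (hj _).1 (ht a b)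
    choose m hm using hex
    have hmap : (Matrix.of m).map j = t • (x : MF) := by
      ext a b
      simp [hm]
    have hdet : (Matrix.of m).det ≠ 0 := by
      intro h0
      have h1 : ((Matrix.of m).map j).det = j (Matrix.of m).det := by
        rw [← RingHom.mapMatrix_apply, ← RingHom.map_det]
      rw [h0, map_zero, hmap, Matrix.det_smul, x.2] at h1
      simp only [Fintype.card_fin, mul_one] at h1
      exact ht0 (pow_eq_zero_iff (two_ne_zero) |>.1 h1)
    refine ⟨Matrix.GeneralLinearGroup.mkOfDetNeZero (Matrix.of m) hdet, ?_⟩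
    apply pglHom_eq'
    refine ⟨t⁻¹, ?_⟩
    show (x : MF) = t⁻¹ • (Matrix.of m).map j
    rw [hmap, smul_smul, inv_mul_cancel₀ ht0, one_smul]

include h2 hsq j hj in
/-- the image of `NK K₀` in `PSL₂(F)` is `PGL₂(K)` -/
theorem nonempty_map_NK_equiv' :
    Nonempty ((NK K₀).map (QuotientGroup.mk' (Subgroup.center SF)) ≃*
      Matrix.ProjGenLinGroup (Fin 2) K) := by
  have e1 := QuotientGroup.quotientKerEquivRange (pglHom' h2 K₀ hsq j hj)
  have e2 := QuotientGroup.quotientMulEquivOfEq (pglHom_ker' h2 K₀ hsq j hj)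
  have e3 := MulEquiv.subgroupCongr (pglHom_range' h2 K₀ hsq j hj)
  have e0 : (GL (Fin 2) K ⧸ Subgroup.center (GL (Fin 2) K)) ≃* Matrix.ProjGenLinGroup (Fin 2) K :=
    MulEquiv.refl _
  exact ⟨e3.symm.trans (e1.symm.trans (e2.trans e0))⟩

end quadGen

/-- in an extension of even degree of finite fields of odd characteristic, every element of the
small field is a square -/
theorem exists_sqrt_of_mem_even [Fintype F] (h2 : (2 : F) ≠ 0) (K : Subfield F) (s : ℕ)
    (hs : Even s) (hcard : Fintype.card F = Nat.card K ^ s) (d : F) (hd : d ∈ K) :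
    ∃ t : F, t ^ 2 = d := by
  classical
  by_cases hd0 : d = 0
  · exact ⟨0, by rw [hd0]; ring⟩
  have hchar : ringChar F ≠ 2 := by
    intro h
    apply h2
    have := ringChar.Nat.cast_ringChar (R := F)
    rw [h] at this
    exact_mod_cast this
  obtain ⟨n, hn⟩ := odd_card_subfield h2 K
  have h1 : d ^ (2 * n) = 1 := by
    have := pow_card_of_mem K hd
    rw [hn, pow_succ] at this
    have h3 : d ^ (2 * n) * d = 1 * d := by rw [this, one_mul]
    exact mul_right_cancel₀ hd0 h3
  obtain ⟨m, hm, hpar⟩ := geom_parity (2 * n) (even_two_mul n) s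
  have hmeven : Even m := by
    rw [← Nat.not_odd_iff_even, hpar, Nat.not_odd_iff_even]
    exact hs
  obtain ⟨m', hm'⟩ := hmeven
  have h3 : Fintype.card F / 2 = 2 * n * m' := by
    rw [hcard, hn, hm, hm']
    have : 1 + 2 * n * (m' + m') = 2 * (2 * n * m') + 1 := by ring
    rw [this]
    omega
  have hsq : IsSquare d := by
    rw [FiniteField.isSquare_iff hchar hd0, h3, pow_mul, h1, one_pow]
  obtain ⟨t, ht⟩ := hsq
  exact ⟨t, by rw [ht, pow_two]⟩

/-- the image of `NK K` in `PSL₂(F)` is `PGL₂(K)`, even degree -/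
theorem nonempty_map_NK_equiv_even [Fintype F] (h2 : (2 : F) ≠ 0) (K₀ : Subfield F) (s : ℕ)
    (hs : Even s) (hcard : Fintype.card F = Nat.card K₀ ^ s) :
    Nonempty ((NK K₀).map (QuotientGroup.mk' (Subgroup.center SF)) ≃*
      Matrix.ProjGenLinGroup (Fin 2) K₀) :=
  nonempty_map_NK_equiv' h2 K₀ (exists_sqrt_of_mem_even h2 K₀ s hs hcard) K₀.subtype
    (fun x => ⟨fun hx => ⟨⟨x, hx⟩, rfl⟩, fun ⟨y, hy⟩ => hy ▸ y.2⟩)

end Cfsg.Agent.Helper18.Dickson
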