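import Cfsg.Agent.Helper18.Dickson40
import Cfsg.Agent.Helper12.BorelUnip
import Cfsg.Agent.Lead.HallPrep

/-! Dickson-type counting, part 41: the Borel case: a Sylow `p`-subgroup of `PSL₂(F)` normalised
by the image of the Borel subgroup (any characteristic). -/

set_option autoImplicit false

namespace Cfsg.Agent.Helper18.Dickson

open Cfsg.Agent.Helper12

variable {F : Type*} [Field F]

local notation "SF" => Matrix.SpecialLinearGroup (Fin 2) F
local notation "MF" => Matrix (Fin 2) (Fin 2) F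
local notation "PF" => Matrix.ProjectiveSpecialLinearGroup (Fin 2) F
local notation "π" => QuotientGroup.mk' (Subgroup.center SF)

theorem center_inf_unipSL : Subgroup.center SF ⊓ unipSL F = ⊥ := by
  rw [eq_bot_iff]
  rintro x ⟨hx1, hx2⟩
  rw [Subgroup.mem_bot]
  rcases (mem_center_iff' x).1 hx1 with h | h
  · exact h
  · have h00 := ((mem_unipSL_iff x).1 hx2).2
    rw [h] at h00
    simp only [Matrix.SpecialLinearGroup.coe_neg, Matrix.SpecialLinearGroup.coe_one,
      Matrix.neg_apply, Matrix.one_apply_eq] at h00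
    rw [h]
    apply Subtype.ext
    ext i j
    simp only [Matrix.SpecialLinearGroup.coe_neg, Matrix.SpecialLinearGroup.coe_one,
      Matrix.neg_apply]
    by_cases hij : i = j
    · subst hij; simp [h00]
    · simp [Matrix.one_apply_ne hij]

theorem card_map_unipSL [Fintype F] : Nat.card ((unipSL F).map π) = Fintype.card F := by
  rw [Cfsg.Agent.Lead.card_map_mk'_of_inf_eq_bot _ _ center_inf_unipSL, card_unipSL]

/-- `|PSL₂(F)|` divides `(q+1)(q-1)q` -/
theorem card_psl_dvd [Fintype F] :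
    Nat.card PF ∣ (Fintype.card F + 1) * ((Fintype.card F - 1) * Fintype.card F) := by
  classical
  rw [← Cfsg.Agent.S2301.card_sl2]
  exact ⟨_, Subgroup.card_eq_card_quotient_mul_card_subgroup (Subgroup.center SF)⟩

/-- the image of the unitriangular subgroup is a Sylow `p`-subgroup -/
theorem exists_sylow_eq_unip [Fintype F] (p : ℕ) [Fact p.Prime] [CharP F p] :
    ∃ P : Sylow p PF, (P : Subgroup PF) = (unipSL F).map π := by
  have hpp : p.Prime := Fact.out
  obtain ⟨n, -, hn⟩ := FiniteField.card F p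
  have hP0 : IsPGroup p ((unipSL F).map π : Subgroup PF) :=
    IsPGroup.of_card (n := n) (by rw [card_map_unipSL, hn])
  obtain ⟨P, hP⟩ := hP0.exists_le_sylow
  refine ⟨P, ?_⟩
  symm
  apply Subgroup.eq_of_le_of_card_ge hP
  obtain ⟨m, hm⟩ := IsPGroup.iff_card.1 P.2
  have h1 : p ^ m ∣ (Fintype.card F + 1) * ((Fintype.card F - 1) * Fintype.card F) := by
    rw [← hm]
    exact dvd_trans (Subgroup.card_subgroup_dvd_card _) card_psl_dvd
  have hnd := not_dvd_card_succ (F := F) p
  have hc1 : Nat.Coprime (p ^ m) (Fintype.card F + 1) :=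
    Nat.Coprime.pow_left m ((Nat.Prime.coprime_iff_not_dvd hpp).2 hnd.1)
  have hc2 : Nat.Coprime (p ^ m) (Fintype.card F - 1) :=
    Nat.Coprime.pow_left m ((Nat.Prime.coprime_iff_not_dvd hpp).2 hnd.2)
  have h2 := hc2.dvd_of_dvd_mul_left (hc1.dvd_of_dvd_mul_left h1)
  rw [card_map_unipSL, hm]
  exact Nat.le_of_dvd Fintype.card_pos h2

/-- the image of the Borel subgroup normalises the image of the unitriangular subgroup -/
theorem map_borel_le_normalizer :
    (borelSL F).map π ≤ Subgroup.normalizer (((unipSL F).map π : Subgroup PF) : Set PF) := by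
  have key : ∀ b ∈ borelSL F, ∀ x ∈ (unipSL F).map π, π b * x * (π b)⁻¹ ∈ (unipSL F).map π := by
    rintro b hb _ ⟨u, hu, rfl⟩
    exact ⟨b * u * b⁻¹, conj_mem_unipSL hb hu, by simp⟩
  rintro _ ⟨b, hb, rfl⟩
  rw [Subgroup.mem_normalizer_iff]
  intro x
  constructor
  · exact key b hb x
  · intro h
    have := key b⁻¹ ((borelSL F).inv_mem hb) _ h
    simpa [mul_assoc] using this

/-- **The Borel case.** -/
theorem borel_case [Fintype F] (p : ℕ) [Fact p.Prime] [CharP F p] (H : Subgroup PF) (g0 : SF)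
    (hg0 : ∀ h ∈ H.comap π, ((g0 * h * g0⁻¹ : SF) : MF) 1 0 = 0) :
    ∃ (P : Sylow p PF) (K : Subgroup PF),
      K ≤ Subgroup.normalizer ((P : Subgroup PF) : Set PF) ∧ Nonempty (H ≃* K) := by
  obtain ⟨P, hP⟩ := exists_sylow_eq_unip (F := F) p
  refine ⟨P, H.map (MulAut.conj (π g0)).toMonoidHom, ?_,
    ⟨H.equivMapOfInjective _ (MulAut.conj (π g0)).injective⟩⟩
  rw [hP]
  refine le_trans ?_ map_borel_le_normalizer
  rintro _ ⟨x, hx, rfl⟩
  obtain ⟨h, rfl⟩ := QuotientGroup.mk'_surjective (Subgroup.center SF) x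
  refine ⟨g0 * h * g0⁻¹, (mem_borelSL_iff _).2 (hg0 h hx), ?_⟩
  simp [MulAut.conj_apply]

end Cfsg.Agent.Helper18.Dickson
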