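import Cfsg.Agent.Helper18.Dickson42
import Cfsg.Agent.Helper18.Klein4

/-! Dickson-type counting, part 43: the exceptional case `p = 3`, `|H| = 60`: `H ≅ A₅`. -/

set_option autoImplicit false

namespace Cfsg.Agent.Helper18.Dickson

variable {F : Type*} [Field F]

local notation "SF" => Matrix.SpecialLinearGroup (Fin 2) F
local notation "MF" => Matrix (Fin 2) (Fin 2) F
local notation "PF" => Matrix.ProjectiveSpecialLinearGroup (Fin 2) F
local notation "π" => QuotientGroup.mk' (Subgroup.center SF)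

theorem ch_sq (g : SF) :
    (g : MF) * (g : MF) = ((g : MF) 0 0 + (g : MF) 1 1) • (g : MF) - 1 := by
  have hdet := det_eq g
  ext i j
  fin_cases i <;> fin_cases j <;>
    simp [Matrix.mul_apply, Fin.sum_univ_two, Matrix.smul_apply, Matrix.sub_apply]
  · linear_combination -hdet
  · ring
  · ring
  · linear_combination -hdet

theorem ch_pow3 (A : MF) (τ : F) (h : A * A = τ • A - 1) :
    A ^ 3 = (τ ^ 2 - 1) • A - τ • (1 : MF) := by
  have : A ^ 3 = A * A * A := by rw [pow_succ, pow_two]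
  rw [this, h, sub_mul, smul_mul_assoc, h, one_mul]
  module

theorem ch_pow5 (A : MF) (τ : F) (h : A * A = τ • A - 1) :
    A ^ 5 = (τ ^ 4 - 3 * τ ^ 2 + 1) • A - (τ ^ 3 - 2 * τ) • (1 : MF) := by
  have h3 := ch_pow3 A τ h
  have : A ^ 5 = A ^ 3 * (A * A) := by rw [← pow_two, ← pow_add]
  rw [this, h3, h, sub_mul, mul_sub, mul_sub, smul_mul_smul_comm, h]
  simp only [mul_one, one_mul, smul_mul_assoc, mul_smul_comm]
  module


theorem eq_of_coe_pow (g : SF) (n : ℕ) (h : (g : MF) ^ n = 1) : g ^ n = 1 := by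
  apply Subtype.ext
  rw [Matrix.SpecialLinearGroup.coe_pow, h]
  rfl

theorem eq_neg_of_coe_pow (g : SF) (n : ℕ) (h : (g : MF) ^ n = -1) : g ^ n = -1 := by
  apply Subtype.ext
  rw [Matrix.SpecialLinearGroup.coe_pow, h]
  simp

/-- the trace condition gives the orders in `PSL₂` -/
theorem exc_pow [CharP F 3] (g : SF) (h : TrCond ((g : MF) 0 0 + (g : MF) 1 1)) :
    (π g) ^ 2 = 1 ∨ (π g) ^ 3 = 1 ∨ (π g) ^ 5 = 1 := by
  have h3 : (3 : F) = 0 := by
    have := CharP.cast_eq_zero F 3
    exact_mod_cast this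
  have hA := ch_sq g
  set τ := (g : MF) 0 0 + (g : MF) 1 1 with hτ
  have key : ∀ n : ℕ, (g ^ n = 1 ∨ g ^ n = -1) → (π g) ^ n = 1 := by
    intro n hn
    rw [← map_pow, mk_eq_one_iff]
    exact hn
  rcases h with h | h | h | h | h
  · left
    apply key; right
    apply eq_neg_of_coe_pow
    rw [pow_two, hA, h]
    simp
  · right; left
    apply key; left
    apply eq_of_coe_pow
    rw [ch_pow3 _ _ hA, h]
    have e1 : ((2 : F) ^ 2 - 1) = 0 := by linear_combination h3
    have e2 : (2 : F) = -1 := by linear_combination h3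
    rw [e1, zero_smul, e2]
    simp
  · right; left
    apply key; right
    apply eq_neg_of_coe_pow
    rw [ch_pow3 _ _ hA, h]
    have e1 : ((-2 : F) ^ 2 - 1) = 0 := by linear_combination h3
    have e2 : (-2 : F) = 1 := by linear_combination -h3
    rw [e1, zero_smul, e2]
    simp
  · right; right
    apply key; left
    apply eq_of_coe_pow
    rw [ch_pow5 _ _ hA]
    have e1 : τ ^ 4 - 3 * τ ^ 2 + 1 = 0 := by linear_combination (τ ^ 2 - τ - 1) * h
    have e2 : τ ^ 3 - 2 * τ = -1 := by linear_combination (τ - 1) * h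
    rw [e1, e2, zero_smul]
    simp
  · right; right
    apply key; right
    apply eq_neg_of_coe_pow
    rw [ch_pow5 _ _ hA]
    have e1 : τ ^ 4 - 3 * τ ^ 2 + 1 = 0 := by linear_combination (τ ^ 2 + τ - 1) * h
    have e2 : τ ^ 3 - 2 * τ = 1 := by linear_combination (τ + 1) * h
    rw [e1, e2, zero_smul]
    simp

/-- `π (uM 1)` and `π (lM 1)` do not commute -/
theorem mk_uM_lM_not_comm : π (uM (1 : F)) * π (lM 1) ≠ π (lM 1) * π (uM 1) := by
  intro hc
  rw [← map_mul, ← map_mul] at hc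
  have h1 : π ((uM 1 * lM 1) * (lM 1 * uM 1)⁻¹) = 1 := by
    rw [map_mul, map_inv, hc, mul_inv_cancel]
  rw [mk_eq_one_iff] at h1
  have e1 : ((uM (1 : F) * lM 1 : SF) : MF) 0 0 = 2 := by
    simp [uM_coe, lM_coe, Matrix.mul_apply, Fin.sum_univ_two]; norm_num
  have e2 : ((lM (1 : F) * uM 1 : SF) : MF) 0 0 = 1 := by
    simp [uM_coe, lM_coe, Matrix.mul_apply, Fin.sum_univ_two]
  have e3 : ((uM (1 : F) * lM 1 : SF) : MF) 0 1 = 1 := by
    simp [uM_coe, lM_coe, Matrix.mul_apply, Fin.sum_univ_two]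
  have e4 : ((lM (1 : F) * uM 1 : SF) : MF) 0 1 = 1 := by
    simp [uM_coe, lM_coe, Matrix.mul_apply, Fin.sum_univ_two]
  rcases h1 with h1 | h1
  · have h2 : uM (1 : F) * lM 1 = lM 1 * uM 1 := mul_inv_eq_one.1 h1
    rw [h2, e2] at e1
    have : (1 : F) = 0 := by linear_combination -e1
    exact one_ne_zero this
  · have h2 : uM (1 : F) * lM 1 = -(lM 1 * uM 1) := by
      have := mul_inv_eq_iff_eq_mul.1 h1
      rw [this, neg_mul, one_mul]
    rw [h2] at e1 e3
    simp only [Matrix.SpecialLinearGroup.coe_neg, Matrix.neg_apply] at e1 e3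
    rw [e2] at e1
    rw [e4] at e3
    have : (1 : F) = 0 := by linear_combination e1 - 2 * e3
    exact one_ne_zero this

end Cfsg.Agent.Helper18.Dickson
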