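import Cfsg.Agent.Helper18.Dickson43

/-! Dickson-type counting, part 44: recognition of `A₅` in the exceptional case. -/

set_option autoImplicit false

namespace Cfsg.Agent.Helper18.Dickson

open MulAction

variable {F : Type*} [Field F]

local notation "SF" => Matrix.SpecialLinearGroup (Fin 2) F
local notation "MF" => Matrix (Fin 2) (Fin 2) F
local notation "PF" => Matrix.ProjectiveSpecialLinearGroup (Fin 2) F
local notation "π" => QuotientGroup.mk' (Subgroup.center SF)

theorem mk_uM_ne_one : π (uM (1 : F)) ≠ 1 := by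
  intro h
  rw [mk_eq_one_iff] at h
  rcases h with h | h
  · have := congrArg (fun x : SF => (x : MF) 0 1) h
    simp [uM_coe] at this
  · have := congrArg (fun x : SF => (x : MF) 0 1) h
    simp [uM_coe] at this

/-- a group of order `60` whose elements have order `1, 2, 3, 5`, with two non-commuting elements
of order `3`, is `A₅` -/
theorem nonempty_equiv_A5_of_pow {G : Type*} [Group G] [Finite G] (h60 : Nat.card G = 60)
    (hpow : ∀ x : G, x ^ 2 = 1 ∨ x ^ 3 = 1 ∨ x ^ 5 = 1) (a b : G) (ha : a ^ 3 = 1)
    (hb : b ^ 3 = 1) (ha1 : a ≠ 1) (hab : a * b ≠ b * a) :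
    Nonempty (G ≃* alternatingGroup (Fin 5)) := by
  classical
  have : Fact (Nat.Prime 3) := ⟨Nat.prime_three⟩
  have : Fact (Nat.Prime 5) := ⟨Nat.prime_five⟩
  have hord : ∀ x : G, orderOf x ∣ 2 ∨ orderOf x ∣ 3 ∨ orderOf x ∣ 5 := by
    intro x
    rcases hpow x with h | h | h
    · exact Or.inl (orderOf_dvd_of_pow_eq_one h)
    · exact Or.inr (Or.inl (orderOf_dvd_of_pow_eq_one h))
    · exact Or.inr (Or.inr (orderOf_dvd_of_pow_eq_one h))
  have hoa : orderOf a = 3 := orderOf_eq_prime ha ha1
  have hb1 : b ≠ 1 := by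
    intro h
    apply hab
    rw [h, mul_one, one_mul]
  have hob : orderOf b = 3 := orderOf_eq_prime hb hb1
  apply Klein.nonempty_equiv_A5 h60
  · -- Sylow 3 not unique
    intro hss
    obtain ⟨P⟩ : Nonempty (Sylow 3 G) := inferInstance
    have hmem : ∀ x : G, orderOf x = 3 → x ∈ (P : Subgroup G) := by
      intro x hx
      have hp : IsPGroup 3 (Subgroup.zpowers x) :=
        IsPGroup.of_card (n := 1) (by rw [Nat.card_zpowers, hx, pow_one])
      obtain ⟨Q, hQ⟩ := hp.exists_le_sylow
      rw [Subsingleton.elim P Q]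
      exact hQ (Subgroup.mem_zpowers x)
    have hcP := (Klein.sylow_card_of 3 20 h60 (by norm_num) P).1
    have hcyc : IsCyclic (P : Subgroup G) := by
      have : Fact (Nat.Prime 3) := ⟨Nat.prime_three⟩
      exact isCyclic_of_prime_card (p := 3) hcP
    have hcomm := (IsCyclic.commGroup (α := (P : Subgroup G))).mul_comm
      ⟨a, hmem a hoa⟩ ⟨b, hmem b hob⟩
    exact hab (congrArg Subtype.val hcomm)
  · -- Sylow 5 not unique
    intro hss
    obtain ⟨P⟩ : Nonempty (Sylow 5 G) := inferInstance
    have hPn : (P : Subgroup G).Normal := Sylow.normal_of_subsingleton P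
    have hcP := (Klein.sylow_card_of 5 12 h60 (by norm_num) P).1
    let ρ : Subgroup.zpowers a →* MulAut (P : Subgroup G) :=
      (MulAut.conjNormal (H := (P : Subgroup G))).comp (Subgroup.zpowers a).subtype
    letI : MulAction (Subgroup.zpowers a) (P : Subgroup G) := MulAction.compHom _ ρ
    have hp3 : IsPGroup 3 (Subgroup.zpowers a) :=
      IsPGroup.of_card (n := 1) (by rw [Nat.card_zpowers, hoa, pow_one])
    have hmod := hp3.card_modEq_card_fixedPoints (P : Subgroup G)
    have hfix : Nat.card (fixedPoints (Subgroup.zpowers a) (P : Subgroup G)) = 1 := by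
      rw [Nat.card_eq_one_iff_unique]
      have h1mem : (1 : (P : Subgroup G)) ∈ fixedPoints (Subgroup.zpowers a) (P : Subgroup G) := by
        intro h
        show ρ h 1 = 1
        exact map_one _
      refine ⟨⟨?_⟩, ⟨⟨1, h1mem⟩⟩⟩
      have huniq : ∀ y : (P : Subgroup G), y ∈ fixedPoints (Subgroup.zpowers a) (P : Subgroup G) →
          y = 1 := by
        intro y hy
        by_contra hy1
        have hay := hy ⟨a, Subgroup.mem_zpowers a⟩
        have hay' : a * (y : G) * a⁻¹ = y := by
          have : ρ ⟨a, Subgroup.mem_zpowers a⟩ y = y := hay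
          have h2 := congrArg Subtype.val this
          simpa [ρ, MulAut.conjNormal_apply] using h2
        have hcomm : Commute a (y : G) := by
          show a * (y : G) = y * a
          calc a * (y : G) = (a * (y : G) * a⁻¹) * a := by group
            _ = y * a := by rw [hay']
        have hyne : (y : G) ≠ 1 := fun h => hy1 (Subtype.ext h)
        have hoy : orderOf (y : G) = 5 := by
          have h5 : (y : G) ^ 5 = 1 := by
            have := pow_card_eq_one' (G := (P : Subgroup G)) (x := y)
            rw [hcP] at this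
            simpa using congrArg Subtype.val this
          exact orderOf_eq_prime h5 hyne
        have := hcomm.orderOf_mul_eq_mul_orderOf_of_coprime (by rw [hoa, hoy]; norm_num)
        rw [hoa, hoy] at this
        rcases hord (a * y) with h | h | h <;> rw [this] at h <;> omega
      intro x y
      apply Subtype.ext
      rw [huniq x.1 x.2, huniq y.1 y.2]
    rw [hfix, hcP] at hmod
    unfold Nat.ModEq at hmod
    norm_num at hmod
  · intro g hg
    rcases hord g with h | h | h <;> rw [hg] at h <;> omega

/-- **The exceptional case**: `p = 3`, `|H| = 60` with the normalised generators. -/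
theorem exc_A5 [Fintype F] [CharP F 3] (H : Subgroup PF) (h60 : Nat.card H = 60)
    (ε : SF ≃* SF) (hl : lM 1 ∈ (H.comap π).map ε.toMonoidHom)
    (hu : uM 1 ∈ (H.comap π).map ε.toMonoidHom) :
    Nonempty (H ≃* alternatingGroup (Fin 5)) := by
  classical
  have : Fact (Nat.Prime 3) := ⟨Nat.prime_three⟩
  have h2 : (2 : F) ≠ 0 := two_ne_zero_of_char (E := F) 3 (by norm_num)
  set Hh' := (H.comap π).map ε.toMonoidHom with hHh'
  have h120 : Nat.card Hh' = 120 := by
    rw [hHh', Subgroup.card_map_of_injective ε.injective, card_comap_mk h2, h60]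
  have htr := trCond_of_subgroup Hh' 1 one_ne_zero hu hl h120
  set H' := H.map (pslEquivOfSL ε).toMonoidHom with hH'
  have hH'eq : H' = Hh'.map π := map_pslEquivOfSL ε H
  have e0 : H ≃* H' := H.equivMapOfInjective _ (pslEquivOfSL ε).injective
  have hc' : Nat.card H' = 60 := by rw [← Nat.card_congr e0.toEquiv, h60]
  have hpow : ∀ x : H', x ^ 2 = 1 ∨ x ^ 3 = 1 ∨ x ^ 5 = 1 := by
    intro x
    have hx : (x : PF) ∈ Hh'.map π := hH'eq ▸ x.2
    obtain ⟨g, hg, hgx⟩ := hx
    have := exc_pow g (htr g hg)
    rw [hgx] at this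
    rcases this with h | h | h
    · left; exact Subtype.ext (by simpa using h)
    · right; left; exact Subtype.ext (by simpa using h)
    · right; right; exact Subtype.ext (by simpa using h)
  have huH : π (uM 1) ∈ H' := by rw [hH'eq]; exact ⟨_, hu, rfl⟩
  have hlH : π (lM 1) ∈ H' := by rw [hH'eq]; exact ⟨_, hl, rfl⟩
  obtain ⟨e1⟩ := nonempty_equiv_A5_of_pow (G := H') hc' hpow ⟨_, huH⟩ ⟨_, hlH⟩
    (Subtype.ext (by
      show (π (uM 1)) ^ 3 = 1
      rw [← map_pow, uM_pow_char 3, map_one]))
    (Subtype.ext (by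
      show (π (lM 1)) ^ 3 = 1
      rw [← map_pow, lM_pow_char 3, map_one]))
    (fun h => mk_uM_ne_one (congrArg Subtype.val h))
    (fun h => mk_uM_lM_not_comm (congrArg Subtype.val h))
  exact ⟨e0.trans e1⟩

end Cfsg.Agent.Helper18.Dickson
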