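import Cfsg.Agent.Helper18.Dickson4

/-! Dickson-type counting, part 5: the counting theorem. -/

set_option autoImplicit false

open scoped LinearAlgebra.Projectivization

namespace Cfsg.Agent.Helper18.Dickson

theorem dickson_arith (Q k d e m n : ℕ) (hQ : 3 ≤ Q) (hk : 1 ≤ k) (hn : n = 1 + k * Q)
    (hd1 : 1 ≤ d) (hd2 : d ≤ Q - 1) (hm : m + 2 * n = n * Q + 2)
    (hme : m * e = n * Q * d) :
    k = 1 ∨ (Q = 3 ∧ k = 3 ∧ d = 2 ∧ e = 5) := by
  obtain ⟨q, rfl⟩ : ∃ q, Q = q + 2 := ⟨Q - 2, by omega⟩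
  set r := 1 + k * q with hr
  have hm' : m = (q + 2) * r := by
    have : m + 2 * n = (q + 2) * r + 2 * n := by
      rw [hm, hn, hr]; ring
    omega
  have hre : r * e = n * d := by
    have : (q + 2) * (r * e) = (q + 2) * (n * d) := by
      rw [← mul_assoc, ← hm', hme]; ring
    exact Nat.eq_of_mul_eq_mul_left (by omega) this
  have hnr : n = r + 2 * k := by rw [hn, hr]; ring
  have hcop : Nat.Coprime r k := by
    rw [hr]
    simp
  have hdvd : r ∣ 2 * d := by
    have h1 : r ∣ n * d := ⟨e, hre.symm⟩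
    rw [hnr, add_mul] at h1
    have h2 : r ∣ 2 * k * d := (Nat.dvd_add_right (Dvd.intro _ rfl)).1 h1
    have h3 : r ∣ k * (2 * d) := by
      have : 2 * k * d = k * (2 * d) := by ring
      rwa [this] at h2
    exact hcop.dvd_of_dvd_mul_left h3
  have hle : r ≤ 2 * d := Nat.le_of_dvd (by omega) hdvd
  have hd2' : d ≤ q + 1 := by omega
  have hkq : k * q + 1 ≤ 2 * q + 2 := by rw [hr] at hle; omega
  have hq1 : 1 ≤ q := by omega
  by_cases hk1 : k = 1
  · exact Or.inl hk1
  right
  have hk2 : 2 ≤ k := by omega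
  by_cases hk3 : k = 2
  · exfalso
    subst hk3
    have hodd : Nat.Coprime r 2 := by
      rw [hr]
      have : 1 + 2 * q = 1 + q * 2 := by ring
      rw [this]
      simp
    have : r ∣ d := hodd.dvd_of_dvd_mul_left hdvd
    have := Nat.le_of_dvd (by omega) this
    rw [hr] at this
    omega
  · have hk3' : 3 ≤ k := by omega
    have hq : q = 1 := by
      by_contra hq
      have hq2 : 2 ≤ q := by omega
      nlinarith
    subst hq
    have hk3'' : k = 3 := by omega
    subst hk3''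
    simp only [mul_one] at hr
    have hr4 : r = 4 := by rw [hr]
    rw [hr4] at hdvd hre
    have hn10 : n = 10 := by rw [hn]
    have hd : d = 2 := by
      obtain ⟨c, hc⟩ := hdvd
      omega
    subst hd
    refine ⟨rfl, rfl, rfl, ?_⟩
    rw [hn10] at hre
    omega

/-- a finite group acting freely on a finite invariant set: the order divides the size -/
theorem card_dvd_ncard_of_free {G X : Type*} [Group G] [MulAction G X] [Finite G] (S : Set X)
    (hinv : ∀ g : G, ∀ x ∈ S, g • x ∈ S) (hfree : ∀ g : G, ∀ x ∈ S, g • x = x → g = 1) :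
    Nat.card G ∣ S.ncard := by
  let p : SubMulAction G X := ⟨S, fun g {x} hx => hinv g x hx⟩
  have e := MulAction.selfEquivOrbitsQuotientProd (G := G) (X := p) (fun b => by
    rw [Subgroup.eq_bot_iff_forall]
    intro g hg
    rw [MulAction.mem_stabilizer_iff] at hg
    have := congrArg Subtype.val hg
    exact hfree g b.1 b.2 this)
  have h1 : Nat.card p = Nat.card (Quotient (MulAction.orbitRel G p)) * Nat.card G := by
    rw [Nat.card_congr e, Nat.card_prod]
  have h2 : S.ncard = Nat.card p := (Nat.card_coe_set_eq S).symm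
  rw [h2, h1]
  exact Dvd.intro_left _ rfl


variable {E : Type*} [Field E]

local notation "S2" => Matrix.SpecialLinearGroup (Fin 2) E
local notation "M2" => Matrix (Fin 2) (Fin 2) E
local notation "PL" => ℙ E (Fin 2 → E)

/-- the translation action of `Aset H` on the projective line -/
@[instance_reducible]
noncomputable def aAct (H : Subgroup S2) : MulAction (Multiplicative (Aset H)) PL where
  smul a x := uM ((Multiplicative.toAdd a : Aset H) : E) • x
  one_smul x := by
    show uM ((Multiplicative.toAdd (1 : Multiplicative (Aset H)) : Aset H) : E) • x = x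
    simp [uM_zero]
  mul_smul a b x := by
    show uM ((Multiplicative.toAdd (a * b) : Aset H) : E) • x =
      uM ((Multiplicative.toAdd a : Aset H) : E) • uM ((Multiplicative.toAdd b : Aset H) : E) • x
    rw [← mul_smul, uM_mul]
    simp

theorem card_orb_pinf_mod [Finite E] (H : Subgroup S2) :
    Nat.card (Aset H) ∣ (orb H pinf).ncard - 1 := by
  let _ := aAct H
  have hsm : ∀ (a : Multiplicative (Aset H)) (x : PL),
      a • x = uM ((Multiplicative.toAdd a : Aset H) : E) • x := fun _ _ => rfl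
  have h1 := card_dvd_ncard_of_free (G := Multiplicative (Aset H)) (orb H pinf \ {pinf}) (by
    intro a x hx
    rw [hsm]
    obtain ⟨⟨h, hh, rfl⟩, hx2⟩ := hx
    refine ⟨⟨uM _ * h, H.mul_mem (Multiplicative.toAdd a).2 hh, mul_smul _ _ _⟩, ?_⟩
    intro h3
    apply hx2
    rw [Set.mem_singleton_iff] at h3 ⊢
    have := congrArg (fun y => (uM ((Multiplicative.toAdd a : Aset H) : E))⁻¹ • y) h3
    simp only [inv_smul_smul] at this
    rw [this, uM_inv, uM_smul_pinf]) (by
    intro a x hx h3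
    rw [hsm] at h3
    by_contra ha
    have ha' : ((Multiplicative.toAdd a : Aset H) : E) ≠ 0 := by
      intro h0
      apply ha
      have : Multiplicative.toAdd a = 0 := Subtype.ext h0
      exact this
    exact hx.2 (uM_fix _ ha' x h3))
  have h2 : Nat.card (Multiplicative (Aset H)) = Nat.card (Aset H) :=
    Nat.card_congr Multiplicative.toAdd
  rw [h2, Set.ncard_sdiff_singleton_of_mem (mem_orb_self H pinf)] at h1
  exact h1


/-- the subgroup `{±1}` -/
def pmSub (E : Type*) [Field E] : Subgroup (Matrix.SpecialLinearGroup (Fin 2) E) where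
  carrier := {g | IsPM g}
  one_mem' := Or.inl rfl
  mul_mem' := by
    intro g h hg hh
    simp only [Set.mem_ofPred_eq, isPM_iff] at *
    rcases hg with rfl | rfl <;> rcases hh with rfl | rfl <;> simp
  inv_mem' := by
    intro g hg
    simp only [Set.mem_ofPred_eq, isPM_iff] at *
    rcases hg with rfl | rfl <;> simp

theorem tot_pm_dvd_stN [Finite E] (H : Subgroup S2) (x : PL) : tot H IsPM ∣ stN H x := by
  have h1 : tot H IsPM = Nat.card ↥(H ⊓ pmSub E) := by
    unfold tot
    apply Nat.card_congr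
    exact Equiv.subtypeEquivRight (fun g => by rw [Subgroup.mem_inf]; rfl)
  have h2 : stN H x = Nat.card ↥(H ⊓ MulAction.stabilizer S2 x) := by
    unfold stN
    apply Nat.card_congr
    exact Equiv.subtypeEquivRight (fun g => by rw [Subgroup.mem_inf, MulAction.mem_stabilizer_iff])
  rw [h1, h2]
  apply Subgroup.card_dvd_of_le
  intro g hg
  rw [Subgroup.mem_inf] at hg ⊢
  exact ⟨hg.1, MulAction.mem_stabilizer_iff.2 (IsPM.smul_eq hg.2 x)⟩

theorem cnt_par_eq_zero (h2 : (2 : E) ≠ 0) (H : Subgroup S2)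
    (hpar : ∀ g ∈ H, IsPar g → ∃ h ∈ H, ((h * g * h⁻¹ : S2) : M2) 1 0 = 0)
    (x : PL) (hx : x ∉ orb H pinf) : cnt H IsPar x = 0 := by
  unfold cnt
  rw [Nat.card_eq_zero]
  left
  constructor
  rintro ⟨g, hg, hp, hfix⟩
  obtain ⟨h, hh, h0⟩ := hpar g hg hp
  apply hx
  have h1 : (h * g * h⁻¹) • (pinf : PL) = pinf := smul_pinf_of_eq _ h0
  have h3 : g • (h⁻¹ • (pinf : PL)) = h⁻¹ • pinf := by
    have := congrArg (fun y => h⁻¹ • y) h1
    simp only [mul_smul, inv_smul_smul] at this
    exact this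
  have hcard := ncard_Fix_par h2 g hp.1 hp.2
  rw [Set.ncard_eq_one] at hcard
  obtain ⟨y, hy⟩ := hcard
  have m1 : x ∈ Fix g := hfix
  have m2 : h⁻¹ • (pinf : PL) ∈ Fix g := h3
  rw [hy, Set.mem_singleton_iff] at m1 m2
  rw [m1, ← m2]
  exact ⟨h⁻¹, H.inv_mem hh, rfl⟩

theorem cnt_orb (H : Subgroup S2) (C : S2 → Prop) (hC : ConjInv C) (x y : PL)
    (hy : y ∈ orb H x) : cnt H C y = cnt H C x := by
  obtain ⟨h, hh, rfl⟩ := hy
  exact cnt_smul H C hC h hh x

theorem tot_par_eq [Finite E] [Fintype PL] (h2 : (2 : E) ≠ 0) (H : Subgroup S2)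
    (hpar : ∀ g ∈ H, IsPar g → ∃ h ∈ H, ((h * g * h⁻¹ : S2) : M2) 1 0 = 0) :
    tot H IsPar = (orb H pinf).ncard * cnt H IsPar pinf := by
  classical
  rw [← sum_cnt_par h2 H, ← sum_orb H (cnt H IsPar) (fun h hh x => cnt_smul H _ conjInv_isPar h hh x) pinf]
  symm
  apply Finset.sum_subset (Finset.subset_univ _)
  intro x _ hx
  apply cnt_par_eq_zero h2 H hpar
  simpa using hx


theorem two_ne_zero_of_char (p : ℕ) [Fact p.Prime] [CharP E p] (hp : p ≠ 2) : (2 : E) ≠ 0 := by
  have hpp : p.Prime := Fact.out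
  intro h
  have h' : ((2 : ℕ) : E) = 0 := by exact_mod_cast h
  have := (CharP.cast_eq_zero_iff E p 2).1 h'
  exact hp ((Nat.prime_dvd_prime_iff_eq hpp Nat.prime_two).1 this)

theorem tot_pm_pos (p : ℕ) [Fact p.Prime] [CharP E p] (hp : p ≠ 2) (H : Subgroup S2) :
    tot H IsPM = 1 ∨ tot H IsPM = 2 := by
  by_cases hm : (-1 : S2) ∈ H
  · exact Or.inr (tot_pm_of_mem (two_ne_zero_of_char p hp) H hm)
  · exact Or.inl (tot_pm_of_not_mem H hm)

theorem counting_arith (z Q n c d tp ts Hc b S : ℕ)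
    (hz : 0 < z) (hc : z * Q = z + c) (hb : b = z * Q * d) (hbpos : 0 < b)
    (hle : b ≤ z * Q * (Q - 1)) (hQ : 1 < Q) (hn : 1 < n)
    (hH : Hc = n * b) (hnk : Q ∣ n - 1) (hS : S = tp + 2 * ts) (hcard : Hc = z + tp + ts)
    (htp : tp = n * c)
    (hcases : (S + z * n = Hc) ∨
      (∃ m e', S + z * n + z * m = 2 * Hc ∧ m * (z + z * e') = Hc) ∨ (2 * Hc ≤ S + z * n)) :
    ∃ k m e : ℕ, n = 1 + k * Q ∧ 1 ≤ k ∧ 1 ≤ d ∧ d ≤ Q - 1 ∧
      m + 2 * n = n * Q + 2 ∧ m * e = n * Q * d := by
  have hd1 : 1 ≤ d := by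
    rcases Nat.eq_zero_or_pos d with h0 | h0
    · rw [h0, mul_zero] at hb; omega
    · exact h0
  have hd2 : d ≤ Q - 1 := by
    rw [hb] at hle
    exact Nat.le_of_mul_le_mul_left hle (Nat.mul_pos hz (by omega))
  obtain ⟨k, hk⟩ := hnk
  have hnk' : n = 1 + k * Q := by
    rw [mul_comm] at hk
    omega
  have hk1 : 1 ≤ k := by
    rcases Nat.eq_zero_or_pos k with h0 | h0
    · rw [h0] at hnk'; omega
    · exact h0
  have hnzQ : n * (z * Q) = z * n + n * c := by rw [hc]; ring
  rcases hcases with hA | ⟨m, e', hB, hm⟩ | hC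
  · exfalso
    have : z * n ≤ z := by omega
    nlinarith
  · refine ⟨k, m, 1 + e', hnk', hk1, hd1, hd2, ?_, ?_⟩
    · have h3 : z * n + z * m = 2 * z + n * c := by
        rw [← htp]; omega
      have h4 : z * (m + 2 * n) = z * (n * Q + 2) := by
        have e1 : z * (n * Q + 2) = n * (z * Q) + 2 * z := by ring
        have e2 : z * (m + 2 * n) = z * n + z * m + z * n := by ring
        rw [e1, hnzQ, e2, h3]; ring
      exact Nat.eq_of_mul_eq_mul_left hz h4
    · have h6 : z * (m * (1 + e')) = z * (n * Q * d) := by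
        have e1 : z * (m * (1 + e')) = m * (z + z * e') := by ring
        rw [e1, hm, hH, hb]; ring
      exact Nat.eq_of_mul_eq_mul_left hz h6
  · exfalso
    have h3 : 2 * z + n * c ≤ z * n := by rw [← htp]; omega
    have h4 : z * n ≤ n * c := by
      have : 2 * (z * n) ≤ n * (z * Q) := by nlinarith
      omega
    omega

theorem exists_ne_zero_of_card [Finite E] (A : AddSubgroup E) (h : 1 < Nat.card A) :
    ∃ a ∈ A, a ≠ 0 := by
  classical
  have : Fintype A := Fintype.ofFinite _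
  by_contra hcon
  push Not at hcon
  have : Nat.card A ≤ 1 := by
    rw [Nat.card_eq_fintype_card]
    apply Fintype.card_le_one_iff.2
    rintro ⟨a, ha⟩ ⟨b, hb⟩
    apply Subtype.ext
    show a = b
    rw [hcon a ha, hcon b hb]
  omega

/-- **The counting theorem.** -/
theorem counting [Finite E] (p : ℕ) [Fact p.Prime] [CharP E p] (hp : p ≠ 2) (H : Subgroup S2)
    (hsplit : ∀ g ∈ H, ∃ μ : E, μ ^ 2 - tr g * μ + 1 = 0)
    (hpar : ∀ g ∈ H, IsPar g → ∃ h ∈ H, ((h * g * h⁻¹ : S2) : M2) 1 0 = 0)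
    (hQ : 1 < Nat.card (Aset H)) (hn : 1 < (orb H pinf).ncard) :
    ∃ k d m e : ℕ, (orb H pinf).ncard = 1 + k * Nat.card (Aset H) ∧ 1 ≤ k ∧ 1 ≤ d ∧
      d ≤ Nat.card (Aset H) - 1 ∧
      stN H pinf = tot H IsPM * Nat.card (Aset H) * d ∧
      m + 2 * (orb H pinf).ncard = (orb H pinf).ncard * Nat.card (Aset H) + 2 ∧
      m * e = (orb H pinf).ncard * Nat.card (Aset H) * d := by
  classical
  have : Fintype PL := Fintype.ofFinite _
  have h2 : (2 : E) ≠ 0 := two_ne_zero_of_char p hp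
  have hz : 0 < tot H IsPM := by rcases tot_pm_pos p hp H with h | h <;> rw [h] <;> norm_num
  have hHM := card_HM p hp h2 H
  have hc : tot H IsPM * Nat.card (Aset H) = tot H IsPM + cnt H IsPar pinf := by
    rw [← hHM, cnt_par_pinf]
  obtain ⟨d, hd⟩ := card_HM_dvd H
  rw [hHM] at hd
  let w : PL → ℕ := fun x => cnt H IsPar x + cnt H IsSs x
  have hstw : ∀ x, stN H x = tot H IsPM + w x := fun x => by rw [stN_eq]; ring
  have hst_pos : 0 < stN H pinf := by rw [hstw]; omega
  obtain ⟨a0, ha0, ha00⟩ := exists_ne_zero_of_card (Aset H) hQ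
  have hle := card_HB_le H a0 ha00 ha0
  rw [hHM] at hle
  have hH : Nat.card H = (orb H pinf).ncard * stN H pinf := (orb_mul_stN H pinf).symm
  have hdivw : ∀ x, tot H IsPM ∣ w x := fun x =>
    (Nat.dvd_add_right (dvd_refl _)).1 (hstw x ▸ tot_pm_dvd_stN H x)
  have hwinv : ∀ h ∈ H, ∀ x, w (h • x) = w x := fun h hh x => by
    show cnt H IsPar (h • x) + cnt H IsSs (h • x) = cnt H IsPar x + cnt H IsSs x
    rw [cnt_smul H _ conjInv_isPar h hh, cnt_smul H _ conjInv_isSs h hh]
  have hsumw : ∑ x, w x = tot H IsPar + 2 * tot H IsSs := by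
    rw [Finset.sum_add_distrib, sum_cnt_par h2, sum_cnt_ss H hsplit]
  have hcard := card_eq_tot H
  have htp := tot_par_eq h2 H hpar
  have hcases : (∑ x, w x + tot H IsPM * (orb H pinf).ncard = Nat.card H) ∨
      (∃ m e', ∑ x, w x + tot H IsPM * (orb H pinf).ncard + tot H IsPM * m = 2 * Nat.card H ∧
        m * (tot H IsPM + tot H IsPM * e') = Nat.card H) ∨
      (2 * Nat.card H ≤ ∑ x, w x + tot H IsPM * (orb H pinf).ncard) := by
    rcases orbit_analysis H (tot H IsPM) w hstw hdivw hwinv pinf with hA | ⟨x1, hx1, hwx1, hB⟩ | hC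
    · exact Or.inl hA
    · right; left
      obtain ⟨e', he'⟩ := hdivw x1
      refine ⟨(orb H x1).ncard, e', hB, ?_⟩
      rw [← he', ← hstw x1]
      exact orb_mul_stN H x1
    · exact Or.inr (Or.inr hC)
  obtain ⟨k, m, e, h1, h3, h4, h5, h6, h7⟩ := counting_arith (tot H IsPM) (Nat.card (Aset H))
    (orb H pinf).ncard (cnt H IsPar pinf) d (tot H IsPar) (tot H IsSs) (Nat.card H) (stN H pinf)
    (∑ x, w x) hz hc hd hst_pos hle hQ hn hH (card_orb_pinf_mod H) hsumw hcard htp hcases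
  exact ⟨k, d, m, e, h1, h3, h4, h5, hd, h6, h7⟩

end Cfsg.Agent.Helper18.Dickson
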