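import Cfsg.Agent.Helper18.Dickson6

/-! Dickson-type counting, part 7: the doubly transitive case. -/

set_option autoImplicit false

open scoped LinearAlgebra.Projectivization

namespace Cfsg.Agent.Helper18.Dickson

variable {E : Type*} [Field E]

local notation "S2" => Matrix.SpecialLinearGroup (Fin 2) E
local notation "M2" => Matrix (Fin 2) (Fin 2) E
local notation "PL" => ℙ E (Fin 2 → E)

/-- an element with trace 2 fixing `[0:1]` is lower unitriangular -/
theorem eq_lM_of_fix (g : S2) (ht : tr g = 2) (hfix : g • (pt 0 : PL) = pt 0) :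
    g = lM ((g : M2) 1 0) := by
  have h11 : (g : M2) 1 1 ≠ 0 := by
    intro h0
    rw [smul_pt_of_eq g 0 (by rw [h0]; ring)] at hfix
    exact pinf_ne_pt _ hfix
  have h01 : (g : M2) 0 1 = 0 := by
    rw [smul_pt_of_ne g 0 (by rw [mul_zero, zero_add]; exact h11), pt_eq_pt_iff] at hfix
    rw [mul_zero, zero_add, mul_zero, zero_add, div_eq_zero_iff] at hfix
    rcases hfix with h | h
    · exact h
    · exact absurd h h11
  have hd := det_eq g
  rw [h01, zero_mul, sub_zero] at hd
  unfold tr at ht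
  have h00 : (g : M2) 0 0 = 1 := by
    have : ((g : M2) 0 0 - 1) ^ 2 = 0 := by
      linear_combination ((g : M2) 0 0) * ht - hd
    have := pow_eq_zero_iff (two_ne_zero) |>.1 this
    linear_combination this
  exact eq_lM g h01 h00

theorem case_one [Finite E] (H : Subgroup S2) (hQ : 1 < Nat.card (Aset H))
    (hn : (orb H pinf).ncard = Nat.card (Aset H) + 1) :
    ∃ a c : E, a ≠ 0 ∧ uM a ∈ H ∧ uM c * lM (1 / a) * (uM c)⁻¹ ∈ H := by
  classical
  -- a second point of the orbit
  obtain ⟨h, hh, hne⟩ : ∃ h ∈ H, h • (pinf : PL) ≠ pinf := by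
    by_contra hcon
    push Not at hcon
    have : orb H (pinf : PL) = {pinf} := by
      ext y
      simp only [Set.mem_singleton_iff]
      constructor
      · rintro ⟨k, hk, rfl⟩; exact hcon k hk
      · rintro rfl; exact mem_orb_self H _
    rw [this, Set.ncard_singleton] at hn
    omega
  obtain ⟨c, hc⟩ : ∃ c, h • (pinf : PL) = pt c := by
    rcases eq_pinf_or_pt (h • (pinf : PL)) with h1 | h1
    · exact absurd h1 hne
    · exact h1
  -- the orbit is `{∞} ∪ (c + A)`
  have hsub : insert (pinf : PL) (Set.range (fun a : Aset H => (pt (c + a.1) : PL))) ⊆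
      orb H pinf := by
    intro y hy
    rcases hy with rfl | ⟨a, rfl⟩
    · exact mem_orb_self H _
    · refine ⟨uM a.1 * h, H.mul_mem a.2 hh, ?_⟩
      rw [mul_smul, hc, uM_smul_pt]
  have hcard : (insert (pinf : PL) (Set.range (fun a : Aset H => (pt (c + a.1) : PL)))).ncard =
      Nat.card (Aset H) + 1 := by
    rw [Set.ncard_insert_of_notMem]
    · congr 1
      rw [← Nat.card_coe_set_eq]
      apply Nat.card_congr
      symm
      apply Equiv.ofInjective
      intro a b hab
      simp only [pt_eq_pt_iff, add_right_inj] at hab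
      exact Subtype.ext hab
    · rintro ⟨a, ha⟩
      exact pt_ne_pinf _ ha
  have horb : orb H (pinf : PL) =
      insert (pinf : PL) (Set.range (fun a : Aset H => (pt (c + a.1) : PL))) := by
    symm
    apply Set.eq_of_subset_of_ncard_le hsub _ (Set.toFinite _)
    rw [hcard, hn]
  obtain ⟨a0, ha0, ha00⟩ := exists_ne_zero_of_card (Aset H) hQ
  set v : S2 := h * uM a0 * h⁻¹ with hv
  have hvH : v ∈ H := H.mul_mem (H.mul_mem hh ha0) (H.inv_mem hh)
  have hvc : v • (pt c : PL) = pt c := by
    rw [← hc, hv, mul_smul, mul_smul, inv_smul_smul, uM_smul_pinf]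
  have hv1 : v • (pinf : PL) ≠ pinf := by
    intro h1
    rw [hv, mul_smul, mul_smul] at h1
    have h3 : uM a0 • (h⁻¹ • (pinf : PL)) = h⁻¹ • pinf := by
      have := congrArg (fun y => h⁻¹ • y) h1
      simpa using this
    have h4 := uM_fix a0 ha00 _ h3
    apply hne
    have := congrArg (fun y => h • y) h4
    simpa using this.symm
  have hv2 : v • (pinf : PL) ≠ pt c := by
    intro h1
    rw [← hvc] at h1
    exact pinf_ne_pt c (MulAction.injective v h1)
  have hv3 : v • (pinf : PL) ∈ orb H pinf := ⟨v, hvH, rfl⟩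
  rw [horb] at hv3
  rcases hv3 with h1 | ⟨a, ha⟩
  · exact absurd h1 hv1
  have ha' : a.1 ≠ 0 := by
    intro h0
    apply hv2
    rw [← ha]
    simp [h0]
  simp only at ha
  -- the conjugate
  set v' : S2 := (uM c)⁻¹ * v * uM c with hv'
  have hfix0 : v' • (pt 0 : PL) = pt 0 := by
    rw [hv', mul_smul, mul_smul, uM_smul_pt, zero_add, hvc, uM_inv, uM_smul_pt]
    congr 1; ring
  have hinf : v' • (pinf : PL) = pt a.1 := by
    rw [hv', mul_smul, mul_smul, uM_smul_pinf, ← ha, uM_inv, uM_smul_pt]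
    congr 1; ring
  have htr : tr v' = 2 := by
    have e : v' = ((uM c)⁻¹ * h) * uM a0 * ((uM c)⁻¹ * h)⁻¹ := by
      rw [hv', hv]; group
    rw [e, tr_conj, tr_uM]
  obtain ⟨b, hl⟩ : ∃ b, v' = lM b := ⟨_, eq_lM_of_fix v' htr hfix0⟩
  have hb : b ≠ 0 := by
    intro h0
    rw [hl, h0, lM_zero, one_smul] at hinf
    exact pinf_ne_pt _ hinf
  have hb' : b = 1 / a.1 := by
    rw [hl, lM_smul_pinf _ hb, pt_eq_pt_iff] at hinf
    rw [← hinf]
    field_simp
  refine ⟨a.1, c, ha', a.2, ?_⟩
  have : uM c * lM (1 / a.1) * (uM c)⁻¹ = v := by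
    rw [← hb', ← hl, hv']; group
  rw [this]
  exact hvH

end Cfsg.Agent.Helper18.Dickson
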