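import Cfsg.Agent.Helper18.Dickson7
import Cfsg.Agent.S0071

/-! Dickson-type counting, part 8: abstract lemmas for the exceptional case of order 120. -/

set_option autoImplicit false

namespace Cfsg.Agent.Helper18.Dickson

/-- a group of order 15 has a unique subgroup of order 3 -/
theorem no_two_order3 {G : Type*} [Group G] [Finite G] (hG : Nat.card G = 15) (u1 u2 : G)
    (h1 : u1 ^ 3 = 1) (h2 : u2 ^ 3 = 1) (hu1 : u1 ≠ 1) (hne : u2 ∉ Subgroup.zpowers u1) :
    False := by
  have : Fact (Nat.Prime 3) := ⟨Nat.prime_three⟩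
  have ho1 : orderOf u1 = 3 := orderOf_eq_prime h1 hu1
  have hp1 : IsPGroup 3 (Subgroup.zpowers u1) := by
    apply IsPGroup.of_card (n := 1)
    rw [Nat.card_zpowers, ho1, pow_one]
  have hp2 : IsPGroup 3 (Subgroup.zpowers u2) := by
    intro x
    obtain ⟨x, hx⟩ := x
    obtain ⟨k, rfl⟩ := Subgroup.mem_zpowers_iff.1 hx
    refine ⟨1, ?_⟩
    apply Subtype.ext
    simp only [pow_one, Subgroup.coe_pow, Subgroup.coe_one]
    rw [← zpow_natCast, ← zpow_mul, mul_comm, zpow_mul, zpow_natCast, h2, one_zpow]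
  obtain ⟨S, hS⟩ := hp1.exists_le_sylow
  obtain ⟨S', hS'⟩ := hp2.exists_le_sylow
  have hcardS : Nat.card S = 3 := by
    obtain ⟨k, hk⟩ := IsPGroup.iff_card.1 S.isPGroup'
    have hdvd : Nat.card S ∣ 15 := hG ▸ Subgroup.card_subgroup_dvd_card _
    have hge : 3 ≤ Nat.card S := by
      have := Subgroup.card_le_of_le hS
      rw [Nat.card_zpowers, ho1] at this
      exact this
    rw [hk] at hdvd hge ⊢
    have hk1 : k ≤ 1 := by
      by_contra hk2
      push Not at hk2
      have : 3 ^ 2 ∣ 15 := dvd_trans (pow_dvd_pow 3 hk2) hdvd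
      norm_num at this
    interval_cases k
    · norm_num at hge
    · norm_num
  have hidx : (S : Subgroup G).index = 5 := by
    have := Subgroup.card_mul_index (S : Subgroup G)
    rw [hcardS, hG] at this
    omega
  have hone : Nat.card (Sylow 3 G) = 1 := by
    have hd : Nat.card (Sylow 3 G) ∣ 5 := hidx ▸ S.card_dvd_index
    have hm : Nat.card (Sylow 3 G) ≡ 1 [MOD 3] := card_sylow_modEq_one 3 G
    have : Nat.card (Sylow 3 G) = 1 ∨ Nat.card (Sylow 3 G) = 5 :=
      (Nat.dvd_prime (by norm_num)).1 hd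
    rcases this with h | h
    · exact h
    · rw [h] at hm; exact absurd hm (by decide)
  have hsub : Subsingleton (Sylow 3 G) := (Nat.card_eq_one_iff_unique.1 hone).1
  have hSS' : S' = S := Subsingleton.elim _ _
  have hzS : Subgroup.zpowers u1 = (S : Subgroup G) := by
    apply Subgroup.eq_of_le_of_card_ge hS
    rw [hcardS, Nat.card_zpowers, ho1]
  apply hne
  rw [hzS, ← hSS']
  exact hS' (Subgroup.mem_zpowers u2)


/-- an element of order dividing 5 normalising a group of order dividing 8 centralises it -/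
theorem five_lemma {G : Type*} [Group G] [Finite G] (Q2 : Subgroup G) (hQ : Nat.card Q2 ∣ 8)
    (c : G) (hc : c ^ 5 = 1) (hn : c ∈ Subgroup.normalizer (Q2 : Set G)) :
    c ∈ Subgroup.centralizer (Q2 : Set G) := by
  classical
  have : Fact (Nat.Prime 5) := ⟨by norm_num⟩
  have : Fintype Q2 := Fintype.ofFinite _
  let f : Function.End Q2 := fun q => ⟨c * q * c⁻¹, (Subgroup.mem_normalizer_iff.1 hn q).1 q.2⟩
  have key : ∀ n : ℕ, ∀ q : Q2, (((f ^ n) q : Q2) : G) = c ^ n * q * (c ^ n)⁻¹ := by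
    intro n
    induction n with
    | zero =>
      intro q
      show ((q : Q2) : G) = c ^ 0 * q * (c ^ 0)⁻¹
      simp
    | succ k ih =>
      intro q
      rw [pow_succ]
      show (((f ^ k) (f q) : Q2) : G) = _
      rw [ih]
      show c ^ k * (c * q * c⁻¹) * (c ^ k)⁻¹ = _
      rw [pow_succ]; group
  have hf : f ^ 5 ^ 1 = 1 := by
    funext q
    apply Subtype.ext
    show (((f ^ 5 ^ 1) q : Q2) : G) = ((q : Q2) : G)
    rw [pow_one, key, hc]
    simp
  have h1 := Equiv.Perm.card_fixedPoints_modEq (p := 5) (n := 1) hf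
  let C : Subgroup G := Q2 ⊓ Subgroup.centralizer {c}
  have h2 : Fintype.card (Function.fixedPoints f) = Nat.card C := by
    rw [← Nat.card_eq_fintype_card]
    apply Nat.card_congr
    refine ⟨fun q => ⟨q.1.1, q.1.2, ?_⟩, fun q => ⟨⟨q.1, q.2.1⟩, ?_⟩, ?_, ?_⟩
    · show q.1.1 ∈ Subgroup.centralizer {c}
      rw [Subgroup.mem_centralizer_iff]
      intro x hx
      rw [Set.mem_singleton_iff] at hx
      subst hx
      have := congrArg Subtype.val q.2
      have h3 : x * q.1.1 * x⁻¹ = q.1.1 := this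
      calc x * q.1.1 = x * q.1.1 * x⁻¹ * x := by group
        _ = q.1.1 * x := by rw [h3]
    · have hq : q.1 ∈ Subgroup.centralizer {c} := (Subgroup.mem_inf.1 q.2).2
      rw [Subgroup.mem_centralizer_iff] at hq
      have h3 := hq c (Set.mem_singleton c)
      show f ⟨q.1, q.2.1⟩ = ⟨q.1, q.2.1⟩
      apply Subtype.ext
      show c * q.1 * c⁻¹ = q.1
      rw [h3]; group
    · intro q; rfl
    · intro q; rfl
  have h3 : Nat.card C ∣ Nat.card Q2 := Subgroup.card_dvd_of_le inf_le_left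
  rw [h2, ← Nat.card_eq_fintype_card] at h1
  have h4 : Nat.card C = Nat.card Q2 := by
    have hpos : 0 < Nat.card C := Nat.card_pos
    have hle := Nat.le_of_dvd (by norm_num) hQ
    have hle2 := Nat.le_of_dvd (Nat.card_pos) h3
    unfold Nat.ModEq at h1
    generalize Nat.card Q2 = b at *
    generalize Nat.card C = a at *
    interval_cases b <;> (try omega) <;> (interval_cases a <;> simp_all <;> omega)
  have h5 : C = Q2 := Subgroup.eq_of_le_of_card_ge inf_le_left h4.ge
  rw [Subgroup.mem_centralizer_iff]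
  intro q hq
  have : q ∈ C := by rw [h5]; exact hq
  have h6 : q ∈ Subgroup.centralizer {c} := (Subgroup.mem_inf.1 this).2
  rw [Subgroup.mem_centralizer_iff] at h6
  exact (h6 c (Set.mem_singleton c)).symm


theorem exists_three_normalizing {G : Type*} [Group G] [Finite G] (hG : Nat.card G = 120)
    (hnpc : ¬ ∃ (T : Sylow 2 G) (N : Subgroup G), N.Normal ∧ N.IsComplement' (T : Subgroup G)) :
    ∃ (Q2 : Subgroup G) (a : G), IsPGroup 2 Q2 ∧ a ^ 3 = 1 ∧
      a ∈ Subgroup.normalizer (Q2 : Set G) ∧ a ∉ Subgroup.centralizer (Q2 : Set G) := by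
  have : Fact (Nat.Prime 2) := ⟨Nat.prime_two⟩
  obtain ⟨T⟩ : Nonempty (Sylow 2 G) := inferInstance
  have h1 : ¬ ∃ N : Subgroup G, N.Normal ∧ N.IsComplement' (T : Subgroup G) :=
    fun ⟨N, hN⟩ => hnpc ⟨T, N, hN⟩
  rw [Cfsg.Agent.S0071.result (p := 2) T] at h1
  push Not at h1
  obtain ⟨Q, hQT, g, hgN, hgodd, hgC⟩ := h1
  have hQp : IsPGroup 2 Q := T.isPGroup'.to_le hQT
  have hQ8 : Nat.card Q ∣ 8 := by
    obtain ⟨k, hk⟩ := IsPGroup.iff_card.1 hQp
    have hdvd : Nat.card Q ∣ 120 := hG ▸ Subgroup.card_subgroup_dvd_card _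
    rw [hk] at hdvd ⊢
    have hk3 : k ≤ 3 := by
      by_contra hk4
      push Not at hk4
      have : 2 ^ 4 ∣ 120 := dvd_trans (pow_dvd_pow 2 hk4) hdvd
      norm_num at this
    exact pow_dvd_pow 2 hk3
  have hg15 : g ^ 15 = 1 := by
    have h2 : orderOf g ∣ 120 := hG ▸ orderOf_dvd_natCard g
    have h3 : Nat.Coprime (orderOf g) 8 := by
      have : (8 : ℕ) = 2 ^ 3 := by norm_num
      rw [this]
      exact Nat.Coprime.pow_right 3 hgodd
    have h4 : orderOf g ∣ 15 := by
      have : (120 : ℕ) = 8 * 15 := by norm_num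
      rw [this] at h2
      exact h3.dvd_of_dvd_mul_left h2
    exact orderOf_dvd_iff_pow_eq_one.1 h4
  have hN : ∀ n : ℕ, g ^ n ∈ Subgroup.normalizer (Q : Set G) := fun n => Subgroup.pow_mem _ hgN n
  have h3C : g ^ 3 ∈ Subgroup.centralizer (Q : Set G) :=
    five_lemma Q hQ8 (g ^ 3) (by rw [← pow_mul]; exact hg15) (hN 3)
  refine ⟨Q, g ^ 5, hQp, by rw [← pow_mul]; exact hg15, hN 5, ?_⟩
  intro h5C
  apply hgC
  have e : g = (g ^ 5) ^ 2 * ((g ^ 3) ^ 3)⁻¹ := by
    rw [← pow_mul, ← pow_mul]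
    have : g ^ (5 * 2) = g ^ (3 * 3) * g := by rw [← pow_succ]
    rw [this]; group
  rw [e]
  exact Subgroup.mul_mem _ (Subgroup.pow_mem _ h5C 2) (Subgroup.inv_mem _ (Subgroup.pow_mem _ h3C 3))

end Cfsg.Agent.Helper18.Dickson
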