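import Cfsg.Agent.Helper18.Dickson8
import Cfsg.Agent.Helper18.SL2PNorm4

/-! Dickson-type counting, part 9: the core theorem. -/

set_option autoImplicit false

open scoped LinearAlgebra.Projectivization

namespace Cfsg.Agent.Helper18.Dickson

variable {E : Type*} [Field E]

local notation "S2" => Matrix.SpecialLinearGroup (Fin 2) E
local notation "M2" => Matrix (Fin 2) (Fin 2) E
local notation "PL" => ℙ E (Fin 2 → E)

theorem p_dvd_card_of_ne_zero [Finite E] (p : ℕ) [Fact p.Prime] [CharP E p] (A : AddSubgroup E)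
    (a : E) (ha : a ∈ A) (ha0 : a ≠ 0) : p ∣ Nat.card A := by
  have h1 : addOrderOf (⟨a, ha⟩ : A) = p := by
    apply addOrderOf_eq_prime
    · apply Subtype.ext
      simp only [AddSubgroup.coe_nsmul, AddSubgroup.coe_zero, nsmul_eq_mul]
      rw [CharP.cast_eq_zero, zero_mul]
    · intro h
      exact ha0 (congrArg Subtype.val h)
  rw [← h1]
  exact addOrderOf_dvd_natCard _

/-- the only involution of `SL₂` in characteristic `≠ 2` is `-1` -/
theorem eq_neg_one_of_sq (h2 : (2 : E) ≠ 0) (g : S2) (h1 : g ≠ 1) (hg : g * g = 1) : g = -1 := by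
  have hm : (g : M2) * (g : M2) = 1 := by
    have := congrArg (fun x : S2 => (x : M2)) hg
    simpa using this
  have hd := det_eq g
  rw [Matrix.eta_fin_two (g : M2)] at hm
  simp only [Matrix.mul_fin_two] at hm
  have e00 := congrFun (congrFun hm 0) 0
  have e01 := congrFun (congrFun hm 0) 1
  have e10 := congrFun (congrFun hm 1) 0
  have e11 := congrFun (congrFun hm 1) 1
  simp only [Matrix.of_apply, Matrix.cons_val', Matrix.cons_val_zero, Matrix.cons_val_one,
    Matrix.empty_val', Matrix.cons_val_fin_one, Matrix.one_apply_eq, Matrix.one_apply_ne,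
    ne_eq, zero_ne_one, one_ne_zero, not_false_eq_true] at e00 e01 e10 e11
  by_cases ht : (g : M2) 0 0 + (g : M2) 1 1 = 0
  · exfalso
    apply h2
    have : (g : M2) 1 1 = -(g : M2) 0 0 := by linear_combination ht
    rw [this] at hd
    linear_combination -e00 - hd
  · have hb : (g : M2) 0 1 = 0 := by
      have : (g : M2) 0 1 * ((g : M2) 0 0 + (g : M2) 1 1) = 0 := by linear_combination e01
      rcases mul_eq_zero.1 this with h | h
      · exact h
      · exact absurd h ht
    have hc : (g : M2) 1 0 = 0 := by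
      have : (g : M2) 1 0 * ((g : M2) 0 0 + (g : M2) 1 1) = 0 := by linear_combination e10
      rcases mul_eq_zero.1 this with h | h
      · exact h
      · exact absurd h ht
    have ha : (g : M2) 0 0 ^ 2 = 1 := by rw [hb] at e00; linear_combination e00
    have hpm := isPM_of_borel g hc ha hb
    rw [isPM_iff] at hpm
    rcases hpm with h | h
    · exact absurd h h1
    · exact h


theorem case_two [Finite E] [CharP E 3] (H : Subgroup S2) (hcard : Nat.card H = 120)
    (a0 : E) (ha0 : a0 ≠ 0) (hu : uM a0 ∈ H) (h : S2) (hh : h ∈ H)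
    (hne : h • (pinf : PL) ≠ pinf) :
    ∃ K : Subgroup S2, K ≤ H ∧
      Nonempty (K ≃* Matrix.SpecialLinearGroup (Fin 2) (ZMod 3)) := by
  classical
  have : Fact (Nat.Prime 3) := ⟨Nat.prime_three⟩
  have : Fact (Nat.Prime 2) := ⟨Nat.prime_two⟩
  have : Fintype E := Fintype.ofFinite _
  -- no normal 2-complement
  have hnpc : ¬ ∃ (T : Sylow 2 H) (N : Subgroup H), N.Normal ∧ N.IsComplement' (T : Subgroup H) := by
    rintro ⟨T, N, hN, hc⟩
    have hmul := hc.card_mul
    rw [hcard] at hmul
    have hidx : (T : Subgroup H).index = Nat.card N := hc.index_eq_card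
    have hodd : ¬ 2 ∣ Nat.card N := hidx ▸ T.not_dvd_index
    have hN15 : Nat.card N = 15 ∧ Nat.card (T : Subgroup H) = 8 := by
      obtain ⟨k, hk⟩ := IsPGroup.iff_card.1 T.isPGroup'
      rw [hk] at hmul ⊢
      have hk3 : k ≤ 3 := by
        by_contra hk4
        push Not at hk4
        have : 2 ^ 4 ∣ 120 := dvd_trans (pow_dvd_pow 2 hk4) (Dvd.intro_left _ hmul)
        norm_num at this
      interval_cases k <;> omega
    have hidxN : N.index = 8 := by
      have := Subgroup.card_mul_index N
      rw [hcard, hN15.1] at this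
      omega
    have hmem : ∀ u : H, u ^ 3 = 1 → u ∈ N := by
      intro u hu3
      rw [← QuotientGroup.eq_one_iff]
      have h1 : (QuotientGroup.mk u : H ⧸ N) ^ 3 = 1 := by
        rw [← QuotientGroup.mk_pow, hu3]; rfl
      have h2 : (QuotientGroup.mk u : H ⧸ N) ^ 8 = 1 := by
        have : Nat.card (H ⧸ N) = 8 := by rw [← Subgroup.index_eq_card]; exact hidxN
        rw [← this]
        exact pow_card_eq_one'
      have h3 : (QuotientGroup.mk u : H ⧸ N) ^ (Nat.gcd 3 8) = 1 := pow_gcd_eq_one.2 ⟨h1, h2⟩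
      simpa using h3
    let u1 : H := ⟨uM a0, hu⟩
    let u2 : H := ⟨h * uM a0 * h⁻¹, H.mul_mem (H.mul_mem hh hu) (H.inv_mem hh)⟩
    have hu1 : u1 ^ 3 = 1 := by
      apply Subtype.ext
      show (uM a0) ^ 3 = 1
      exact uM_pow_char 3 a0
    have hu2 : u2 ^ 3 = 1 := by
      apply Subtype.ext
      show (h * uM a0 * h⁻¹) ^ 3 = 1
      rw [conj_pow, uM_pow_char 3 a0]; group
    have hu1ne : u1 ≠ 1 := by
      intro h1
      have := congrArg Subtype.val h1
      exact ha0 ((uM_eq_one_iff a0).1 this)
    let v1 : N := ⟨u1, hmem u1 hu1⟩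
    let v2 : N := ⟨u2, hmem u2 hu2⟩
    apply no_two_order3 hN15.1 v1 v2 (Subtype.ext hu1) (Subtype.ext hu2)
      (fun h1 => hu1ne (congrArg Subtype.val h1))
    intro hz
    obtain ⟨k, hk⟩ := Subgroup.mem_zpowers_iff.1 hz
    have hk' : (uM a0) ^ k = h * uM a0 * h⁻¹ := by
      have := congrArg (fun x : N => ((x : H) : S2)) hk
      simpa using this
    have hfix : (h * uM a0 * h⁻¹) • (pinf : PL) = pinf := by
      rw [← hk']
      have : uM a0 ∈ Bsub E := (mem_Bsub _).2 (by simp [uM_coe])
      exact MulAction.mem_stabilizer_iff.1 (Subgroup.zpow_mem _ this k)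
    apply hne
    have h3 : uM a0 • (h⁻¹ • (pinf : PL)) = h⁻¹ • pinf := by
      have := congrArg (fun y => h⁻¹ • y) hfix
      simpa [mul_smul] using this
    have h4 := uM_fix a0 ha0 _ h3
    have := congrArg (fun y => h • y) h4
    simpa using this.symm
  obtain ⟨Q2, a, hQ2, ha3, haN, haC⟩ := exists_three_normalizing hcard hnpc
  -- transfer to `SL₂(E)`
  set R : Subgroup S2 := Q2.map H.subtype with hR
  have hRcard : Nat.card R = Nat.card Q2 :=
    Subgroup.card_map_of_injective H.subtype_injective
  have hcop : (Nat.card R).Coprime 3 := by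
    obtain ⟨k, hk⟩ := IsPGroup.iff_card.1 hQ2
    rw [hRcard, hk]
    exact Nat.Coprime.pow_left k (by norm_num)
  have hap : IsPGroup 3 (Subgroup.zpowers (a : S2)) := by
    apply IsPGroup.of_card (n := 1)
    rw [Nat.card_zpowers, pow_one]
    have ha3' : (a : S2) ^ 3 = 1 := by
      have := congrArg Subtype.val ha3
      simpa using this
    have hane : (a : S2) ≠ 1 := by
      intro h1
      apply haC
      have : a = 1 := Subtype.ext h1
      rw [this]; exact Subgroup.one_mem _
    exact orderOf_eq_prime ha3' hane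
  have haR : (a : S2) ∈ Subgroup.normalizer (R : Set S2) := by
    have := Subgroup.le_normalizer_map H.subtype (H := Q2)
    exact this ⟨a, haN, rfl⟩
  have hnt : ⁅R, Subgroup.zpowers (a : S2)⁆ ≠ ⊥ := by
    intro hbot
    rw [Subgroup.commutator_eq_bot_iff_le_centralizer] at hbot
    apply haC
    rw [Subgroup.mem_centralizer_iff]
    intro q hq
    have hqR : (q : S2) ∈ R := ⟨q, hq, rfl⟩
    have := hbot hqR
    rw [Subgroup.mem_centralizer_iff] at this
    have h5 := this (a : S2) (Subgroup.mem_zpowers _)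
    apply Subtype.ext
    simpa using h5.symm
  obtain ⟨_, _, hiso⟩ := Cfsg.Agent.Helper18.SL2PNorm.main 3 (by norm_num) (a : S2) hap R hcop haR hnt
  refine ⟨R ⊔ Subgroup.zpowers (a : S2), ?_, hiso⟩
  apply sup_le
  · rintro x ⟨q, _, rfl⟩
    exact q.2
  · rw [Subgroup.zpowers_le]
    exact a.2


/-- **Core theorem.** A finite subgroup `H` of `SL₂(E)` (`E` a finite field of odd characteristic
`p` containing all eigenvalues of elements of `H`), whose parabolic elements are conjugate in `H`
into the upper triangular group, with `H ∩ U ≠ 1` and `H` not upper triangular, contains a copy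
of `SL₂(p)`. -/
theorem core [Finite E] (p : ℕ) [Fact p.Prime] [CharP E p] (hp : p ≠ 2) (H : Subgroup S2)
    (hsplit : ∀ g ∈ H, ∃ μ : E, μ ^ 2 - tr g * μ + 1 = 0)
    (hpar : ∀ g ∈ H, IsPar g → ∃ h ∈ H, ((h * g * h⁻¹ : S2) : M2) 1 0 = 0)
    (hQ : 1 < Nat.card (Aset H)) (hn : 1 < (orb H pinf).ncard) :
    ∃ K : Subgroup S2, K ≤ H ∧
      Nonempty (K ≃* Matrix.SpecialLinearGroup (Fin 2) (ZMod p)) := by
  have hpp : p.Prime := Fact.out
  have h2 : (2 : E) ≠ 0 := two_ne_zero_of_char p hp
  obtain ⟨k, d, m, e, hnk, hk1, hd1, hd2, hst, hm, hme⟩ := counting p hp H hsplit hpar hQ hn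
  obtain ⟨a0, ha0, ha00⟩ := exists_ne_zero_of_card (Aset H) hQ
  have hpQ : p ∣ Nat.card (Aset H) := p_dvd_card_of_ne_zero p (Aset H) a0 ha0 ha00
  have hp3 : 3 ≤ p := by
    have := hpp.two_le
    omega
  have hQ3 : 3 ≤ Nat.card (Aset H) := le_trans hp3 (Nat.le_of_dvd (by omega) hpQ)
  rcases dickson_arith _ k d e m _ hQ3 hk1 hnk hd1 hd2 hm hme with h1 | ⟨hQe, hke, hde, _⟩
  · -- doubly transitive case
    rw [h1, one_mul, add_comm] at hnk
    obtain ⟨a, c, ha, hua, hla⟩ := case_one H hQ hnk
    exact exists_sl2p_of_pair p H a c ha hua hla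
  · -- exceptional case
    have hp3' : p = 3 := by
      rw [hQe] at hpQ
      exact (Nat.prime_dvd_prime_iff_eq hpp Nat.prime_three).1 hpQ
    subst hp3'
    have hHcard : Nat.card H = 60 * tot H IsPM := by
      rw [← orb_mul_stN H pinf, hnk, hst, hQe, hke, hde]; ring
    have hz2 : tot H IsPM = 2 := by
      rcases tot_pm_pos 3 hp H with h1 | h1
      · exfalso
        rw [h1] at hHcard
        have : Fact (Nat.Prime 2) := ⟨Nat.prime_two⟩
        obtain ⟨g, hg⟩ := exists_prime_orderOf_dvd_card' (G := H) 2 (by rw [hHcard]; norm_num)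
        have hg1 : (g : S2) ≠ 1 := by
          intro h0
          have : g = 1 := Subtype.ext h0
          rw [this, orderOf_one] at hg
          norm_num at hg
        have hgg : (g : S2) * (g : S2) = 1 := by
          have := pow_orderOf_eq_one g
          rw [hg, pow_two] at this
          have := congrArg Subtype.val this
          simpa using this
        have hm1 := eq_neg_one_of_sq h2 (g : S2) hg1 hgg
        have : (-1 : S2) ∈ H := hm1 ▸ g.2
        rw [tot_pm_of_mem h2 H this] at h1
        norm_num at h1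
      · exact h1
    rw [hz2] at hHcard
    obtain ⟨h, hh, hne⟩ : ∃ h ∈ H, h • (pinf : PL) ≠ pinf := by
      by_contra hcon
      push Not at hcon
      have : orb H (pinf : PL) = {pinf} := by
        ext y
        simp only [Set.mem_singleton_iff]
        constructor
        · rintro ⟨k, hk, rfl⟩; exact hcon k hk
        · rintro rfl; exact mem_orb_self H _
      rw [this, Set.ncard_singleton] at hn
      omega
    exact case_two H (by rw [hHcard]) a0 ha00 ha0 h hh hne

end Cfsg.Agent.Helper18.Dickson
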