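import Mathlib

/-! The subgroup of order `120` of `SL₂(𝔽₉)` generated by `lM 1` and `uM i`: an explicit list of
`120` matrices over `𝔽₃[i]`, closed under multiplication by the generators. -/

set_option autoImplicit false

namespace Cfsg.Agent.Helper18.Dickson.E2

/-- `a + b i` -/
abbrev R9 := ZMod 3 × ZMod 3

/-- matrix entries -/
abbrev C9 := R9 × R9 × R9 × R9

def rmul (x y : R9) : R9 := (x.1 * y.1 - x.2 * y.2, x.1 * y.2 + x.2 * y.1)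

def radd (x y : R9) : R9 := (x.1 + y.1, x.2 + y.2)

def cmul (A B : C9) : C9 :=
  (radd (rmul A.1 B.1) (rmul A.2.1 B.2.2.1), radd (rmul A.1 B.2.1) (rmul A.2.1 B.2.2.2),
   radd (rmul A.2.2.1 B.1) (rmul A.2.2.2 B.2.2.1), radd (rmul A.2.2.1 B.2.1) (rmul A.2.2.2 B.2.2.2))

def cone : C9 := ((1, 0), (0, 0), (0, 0), (1, 0))
def cl1 : C9 := ((1, 0), (0, 0), (1, 0), (1, 0))
def cl1i : C9 := ((1, 0), (0, 0), (2, 0), (1, 0))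
def cui : C9 := ((1, 0), (0, 1), (0, 0), (1, 0))
def cuii : C9 := ((1, 0), (0, 2), (0, 0), (1, 0))

def T120 : List C9 := [
  ((0, 0), (1, 1), (1, 2), (0, 0)),
  ((0, 0), (1, 1), (1, 2), (1, 1)),
  ((0, 0), (1, 1), (1, 2), (2, 2)),
  ((0, 0), (1, 2), (1, 1), (0, 0)),
  ((0, 0), (1, 2), (1, 1), (1, 2)),
  ((0, 0), (1, 2), (1, 1), (2, 1)),
  ((0, 0), (2, 1), (2, 2), (0, 0)),
  ((0, 0), (2, 1), (2, 2), (1, 2)),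
  ((0, 0), (2, 1), (2, 2), (2, 1)),
  ((0, 0), (2, 2), (2, 1), (0, 0)),
  ((0, 0), (2, 2), (2, 1), (1, 1)),
  ((0, 0), (2, 2), (2, 1), (2, 2)),
  ((0, 1), (0, 0), (0, 0), (0, 2)),
  ((0, 1), (0, 0), (0, 1), (0, 2)),
  ((0, 1), (0, 0), (0, 2), (0, 2)),
  ((0, 1), (1, 0), (0, 0), (0, 2)),
  ((0, 1), (1, 0), (0, 1), (1, 2)),
  ((0, 1), (1, 0), (0, 2), (2, 2)),
  ((0, 1), (2, 0), (0, 0), (0, 2)),
  ((0, 1), (2, 0), (0, 1), (2, 2)),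
  ((0, 1), (2, 0), (0, 2), (1, 2)),
  ((0, 2), (0, 0), (0, 0), (0, 1)),
  ((0, 2), (0, 0), (0, 1), (0, 1)),
  ((0, 2), (0, 0), (0, 2), (0, 1)),
  ((0, 2), (1, 0), (0, 0), (0, 1)),
  ((0, 2), (1, 0), (0, 1), (2, 1)),
  ((0, 2), (1, 0), (0, 2), (1, 1)),
  ((0, 2), (2, 0), (0, 0), (0, 1)),
  ((0, 2), (2, 0), (0, 1), (1, 1)),
  ((0, 2), (2, 0), (0, 2), (2, 1)),
  ((1, 0), (0, 0), (0, 0), (1, 0)),
  ((1, 0), (0, 0), (1, 0), (1, 0)),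
  ((1, 0), (0, 0), (2, 0), (1, 0)),
  ((1, 0), (0, 1), (0, 0), (1, 0)),
  ((1, 0), (0, 1), (1, 0), (1, 1)),
  ((1, 0), (0, 1), (2, 0), (1, 2)),
  ((1, 0), (0, 2), (0, 0), (1, 0)),
  ((1, 0), (0, 2), (1, 0), (1, 2)),
  ((1, 0), (0, 2), (2, 0), (1, 1)),
  ((1, 1), (0, 1), (0, 2), (1, 2)),
  ((1, 1), (0, 1), (1, 0), (1, 0)),
  ((1, 1), (0, 1), (2, 1), (1, 1)),
  ((1, 1), (0, 2), (0, 1), (1, 2)),
  ((1, 1), (0, 2), (1, 2), (1, 1)),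
  ((1, 1), (0, 2), (2, 0), (1, 0)),
  ((1, 1), (1, 0), (0, 2), (0, 2)),
  ((1, 1), (1, 0), (1, 0), (1, 2)),
  ((1, 1), (1, 0), (2, 1), (2, 2)),
  ((1, 1), (1, 1), (0, 1), (2, 2)),
  ((1, 1), (1, 1), (1, 2), (0, 0)),
  ((1, 1), (1, 1), (2, 0), (1, 1)),
  ((1, 1), (2, 0), (0, 1), (0, 2)),
  ((1, 1), (2, 0), (1, 2), (2, 2)),
  ((1, 1), (2, 0), (2, 0), (1, 2)),
  ((1, 1), (2, 2), (0, 2), (2, 2)),
  ((1, 1), (2, 2), (1, 0), (1, 1)),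
  ((1, 1), (2, 2), (2, 1), (0, 0)),
  ((1, 2), (0, 1), (0, 2), (1, 1)),
  ((1, 2), (0, 1), (1, 1), (1, 2)),
  ((1, 2), (0, 1), (2, 0), (1, 0)),
  ((1, 2), (0, 2), (0, 1), (1, 1)),
  ((1, 2), (0, 2), (1, 0), (1, 0)),
  ((1, 2), (0, 2), (2, 2), (1, 2)),
  ((1, 2), (1, 0), (0, 1), (0, 1)),
  ((1, 2), (1, 0), (1, 0), (1, 1)),
  ((1, 2), (1, 0), (2, 2), (2, 1)),
  ((1, 2), (1, 2), (0, 2), (2, 1)),
  ((1, 2), (1, 2), (1, 1), (0, 0)),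
  ((1, 2), (1, 2), (2, 0), (1, 2)),
  ((1, 2), (2, 0), (0, 2), (0, 1)),
  ((1, 2), (2, 0), (1, 1), (2, 1)),
  ((1, 2), (2, 0), (2, 0), (1, 1)),
  ((1, 2), (2, 1), (0, 1), (2, 1)),
  ((1, 2), (2, 1), (1, 0), (1, 2)),
  ((1, 2), (2, 1), (2, 2), (0, 0)),
  ((2, 0), (0, 0), (0, 0), (2, 0)),
  ((2, 0), (0, 0), (1, 0), (2, 0)),
  ((2, 0), (0, 0), (2, 0), (2, 0)),
  ((2, 0), (0, 1), (0, 0), (2, 0)),
  ((2, 0), (0, 1), (1, 0), (2, 2)),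
  ((2, 0), (0, 1), (2, 0), (2, 1)),
  ((2, 0), (0, 2), (0, 0), (2, 0)),
  ((2, 0), (0, 2), (1, 0), (2, 1)),
  ((2, 0), (0, 2), (2, 0), (2, 2)),
  ((2, 1), (0, 1), (0, 2), (2, 2)),
  ((2, 1), (0, 1), (1, 1), (2, 1)),
  ((2, 1), (0, 1), (2, 0), (2, 0)),
  ((2, 1), (0, 2), (0, 1), (2, 2)),
  ((2, 1), (0, 2), (1, 0), (2, 0)),
  ((2, 1), (0, 2), (2, 2), (2, 1)),
  ((2, 1), (1, 0), (0, 1), (0, 2)),
  ((2, 1), (1, 0), (1, 0), (2, 2)),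
  ((2, 1), (1, 0), (2, 2), (1, 2)),
  ((2, 1), (1, 2), (0, 2), (1, 2)),
  ((2, 1), (1, 2), (1, 1), (0, 0)),
  ((2, 1), (1, 2), (2, 0), (2, 1)),
  ((2, 1), (2, 0), (0, 2), (0, 2)),
  ((2, 1), (2, 0), (1, 1), (1, 2)),
  ((2, 1), (2, 0), (2, 0), (2, 2)),
  ((2, 1), (2, 1), (0, 1), (1, 2)),
  ((2, 1), (2, 1), (1, 0), (2, 1)),
  ((2, 1), (2, 1), (2, 2), (0, 0)),
  ((2, 2), (0, 1), (0, 2), (2, 1)),
  ((2, 2), (0, 1), (1, 0), (2, 0)),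
  ((2, 2), (0, 1), (2, 1), (2, 2)),
  ((2, 2), (0, 2), (0, 1), (2, 1)),
  ((2, 2), (0, 2), (1, 2), (2, 2)),
  ((2, 2), (0, 2), (2, 0), (2, 0)),
  ((2, 2), (1, 0), (0, 2), (0, 1)),
  ((2, 2), (1, 0), (1, 0), (2, 1)),
  ((2, 2), (1, 0), (2, 1), (1, 1)),
  ((2, 2), (1, 1), (0, 1), (1, 1)),
  ((2, 2), (1, 1), (1, 2), (0, 0)),
  ((2, 2), (1, 1), (2, 0), (2, 2)),
  ((2, 2), (2, 0), (0, 1), (0, 1)),
  ((2, 2), (2, 0), (1, 2), (1, 1)),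
  ((2, 2), (2, 0), (2, 0), (2, 1)),
  ((2, 2), (2, 2), (0, 2), (1, 1)),
  ((2, 2), (2, 2), (1, 0), (2, 2)),
  ((2, 2), (2, 2), (2, 1), (0, 0))]

theorem T120_length : T120.length = 120 := by decide

theorem cone_mem : cone ∈ T120 := by decide

set_option maxRecDepth 100000 in
theorem T120_closed1 : ∀ c ∈ T120, cmul cl1 c ∈ T120 := by decide

set_option maxRecDepth 100000 in
theorem T120_closed2 : ∀ c ∈ T120, cmul cl1i c ∈ T120 := by decide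

set_option maxRecDepth 100000 in
theorem T120_closed3 : ∀ c ∈ T120, cmul cui c ∈ T120 := by decide

set_option maxRecDepth 100000 in
theorem T120_closed4 : ∀ c ∈ T120, cmul cuii c ∈ T120 := by decide

end Cfsg.Agent.Helper18.Dickson.E2
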