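import Cfsg.Agent.Helper18.Dickson39
import Cfsg.Agent.Helper11.L2EH
import Cfsg.Agent.Helper11.DihedralLift
import Cfsg.Agent.S0800

/-! Dihedral maximal subgroups of `SL₂(2^n)`: the normalisers of the tori. -/

set_option autoImplicit false

namespace Cfsg.Agent.Helper18.DihEven

open Cfsg.Agent.Helper11.L2E Cfsg.Agent.Helper11.SCTI Cfsg.Agent.Helper11.FinSub
open Cfsg.Agent.Helper18.Dickson

variable {F : Type*} [Field F] [CharP F 2] [Fintype F]

local notation "S2" => Matrix.SpecialLinearGroup (Fin 2) F

/-- generator and inverting involution of the normaliser of a torus -/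
theorem exists_gens {T : Subgroup S2} (hT : IsTor T) :
    ∃ a s : S2, a ∈ T ∧ orderOf a = Nat.card T ∧ s ∈ Subgroup.normalizer (T : Set S2) ∧ s ∉ T ∧
      s * s = 1 ∧ s * a * s⁻¹ = a⁻¹ := by
  have hcyc := hT.isCyclic
  obtain ⟨a, ha⟩ := hcyc.exists_generator
  obtain ⟨s, hsN, hsT, hss, hsinv⟩ := hT.exists_inverting
  refine ⟨a, s, a.2, ?_, hsN, hsT, hss, hsinv a a.2⟩
  rw [Subgroup.orderOf_coe]
  exact orderOf_eq_card_of_forall_mem_zpowers ha

/-- the normaliser of a torus is dihedral -/
theorem nonempty_dihedral {T : Subgroup S2} (hT : IsTor T) :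
    Nonempty (Subgroup.normalizer (T : Set S2) ≃* DihedralGroup (Nat.card T)) := by
  obtain ⟨a, s, haT, hao, hsN, hsT, hss, hsa⟩ := exists_gens hT
  have hsinv : s⁻¹ = s := inv_eq_of_mul_eq_one_right hss
  apply Cfsg.Agent.Helper11.nonempty_mulEquiv_dihedralGroup (Nat.card T) hT.card_normalizer
    ⟨a, hT.le_normalizer haT⟩ ⟨s, hsN⟩
  · rw [← hao]
    exact Subgroup.orderOf_mk _ _
  · apply Subtype.ext; exact hss
  · apply Subtype.ext
    show s * a * s = a⁻¹
    rw [← hsa, hsinv]
  · intro h
    obtain ⟨k, hk⟩ := Subgroup.mem_zpowers_iff.1 h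
    apply hsT
    have : s = a ^ k := by
      have := congrArg Subtype.val hk
      simpa using this.symm
    rw [this]
    exact T.zpow_mem haT k

/-- commutators in a conjugate of the Borel subgroup are involutions -/
theorem comm_sq_of_borel (g x y : S2) (hx : x ∈ cj g (Cfsg.Agent.Helper11.L2E.Bsub : Subgroup S2))
    (hy : y ∈ cj g (Cfsg.Agent.Helper11.L2E.Bsub : Subgroup S2)) : (x * y * x⁻¹ * y⁻¹) ^ 2 = 1 := by
  rw [mem_cj, Cfsg.Agent.Helper11.L2E.mem_Bsub] at hx hy
  have hc := comm_borel (g⁻¹ * x * g) (g⁻¹ * y * g) hx hy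
  have e := eq_uM _ hc.1 hc.2
  have e2 : g⁻¹ * x * g * (g⁻¹ * y * g) * (g⁻¹ * x * g)⁻¹ * (g⁻¹ * y * g)⁻¹ =
      g⁻¹ * (x * y * x⁻¹ * y⁻¹) * g := by group
  rw [e2] at e
  have h3 : (g⁻¹ * (x * y * x⁻¹ * y⁻¹) * g) ^ 2 = 1 := by
    rw [e]; exact uM_pow_char 2 _
  have h4 : (x * y * x⁻¹ * y⁻¹) ^ 2 = g * (g⁻¹ * (x * y * x⁻¹ * y⁻¹) * g) ^ 2 * g⁻¹ := by
    rw [pow_two, pow_two]; group
  rw [h4, h3]; group

/-- the order of a subfield subgroup -/
theorem card_SL2K (K : Subfield F) :
    Nat.card (SL2K K) = (Nat.card K + 1) * ((Nat.card K - 1) * Nat.card K) := by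
  classical
  have : Fintype K := Fintype.ofFinite K
  obtain ⟨e⟩ := nonempty_SL2K_equiv K
  rw [Nat.card_congr e.toEquiv, Cfsg.Agent.S2301.card_sl2, Nat.card_eq_fintype_card]

/-- **The normaliser of a torus of `SL₂(2^n)` is a maximal subgroup**, `2^n ≥ 4`. -/
theorem normalizer_coatom {T : Subgroup S2} (hT : IsTor T) (h4 : 4 ≤ Fintype.card F) :
    IsCoatom (Subgroup.normalizer (T : Set S2)) := by
  classical
  set N := Subgroup.normalizer (T : Set S2) with hN
  have hcN : Nat.card N = 2 * Nat.card T := hT.card_normalizer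
  have hcS : Nat.card S2 = (Fintype.card F + 1) * ((Fintype.card F - 1) * Fintype.card F) :=
    Cfsg.Agent.S2301.card_sl2
  have hTodd : Odd (Nat.card T) := hT.2.2
  have hm : Nat.card T = Fintype.card F - 1 ∨ Nat.card T = Fintype.card F + 1 := hT.card
  have hm3 : 3 ≤ Nat.card T := by omega
  obtain ⟨a, s, haT, hao, hsN, hsT, hss, hsa⟩ := exists_gens hT
  have haN : a ∈ N := hT.le_normalizer haT
  constructor
  · intro htop
    rw [htop, Subgroup.card_top, hcS] at hcN
    have h1 : 2 * 3 ≤ (Fintype.card F - 1) * Fintype.card F :=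
      Nat.mul_le_mul (by omega) (by omega)
    have h2 : (Fintype.card F + 1) * 6 ≤
        (Fintype.card F + 1) * ((Fintype.card F - 1) * Fintype.card F) :=
      Nat.mul_le_mul_left _ h1
    omega
  · intro L hNL
    by_contra hLtop
    have hle : N ≤ L := hNL.le
    have hdvd : Nat.card N ∣ Nat.card L := Subgroup.card_dvd_of_le hle
    rw [hcN] at hdvd
    have hne : Nat.card L ≠ 2 * Nat.card T := by
      intro h
      exact hNL.ne (Subgroup.eq_of_le_of_card_ge hle (by rw [h, hcN]))
    have hLpos : 0 < Nat.card L := Nat.card_pos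
    have hLge : 2 * Nat.card T ≤ Nat.card L := Nat.le_of_dvd hLpos hdvd
    rcases main L with ⟨g, hg⟩ | ⟨T', hT', hle'⟩ | ⟨g, K, hK, hLK⟩
    · -- Borel case
      have h1 := comm_sq_of_borel g a s (hg (hle haN)) (hg (hle hsN))
      have h2 : a * s * a⁻¹ * s⁻¹ = a ^ 2 := by
        have : s * a⁻¹ * s⁻¹ = a := by
          have := congrArg (·⁻¹) hsa
          simp only [mul_inv_rev, inv_inv] at this
          rw [← mul_assoc] at this
          exact this
        calc a * s * a⁻¹ * s⁻¹ = a * (s * a⁻¹ * s⁻¹) := by group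
          _ = a ^ 2 := by rw [this, pow_two]
      rw [h2, ← pow_mul] at h1
      have h3 : orderOf a ∣ 4 := orderOf_dvd_of_pow_eq_one h1
      rw [hao] at h3
      have h5 : Nat.card T ≤ 4 := Nat.le_of_dvd (by norm_num) h3
      obtain ⟨j, hj⟩ := hTodd
      have : Nat.card T = 3 := by omega
      rw [this] at h3
      omega
    · -- torus normaliser case
      have h1 : Nat.card L ∣ 2 * Nat.card T' := by
        rw [← hT'.card_normalizer]
        exact Subgroup.card_dvd_of_le hle'
      have h2 := Nat.le_of_dvd (by have := hT'.card; omega) h1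
      rcases hm with hm | hm <;> rcases hT'.card with hm' | hm'
      · omega
      · -- `2 (q - 1) ∣ |L| ∣ 2 (q + 1)`
        have h3 : 2 * Nat.card T ∣ 2 * Nat.card T' := dvd_trans hdvd h1
        rw [hm, hm'] at h3
        have h4 : Fintype.card F - 1 ∣ Fintype.card F + 1 :=
          Nat.dvd_of_mul_dvd_mul_left (by norm_num) h3
        have h5 : Fintype.card F - 1 ∣ 2 := by
          have : Fintype.card F + 1 = (Fintype.card F - 1) + 2 := by omega
          rw [this] at h4
          exact (Nat.dvd_add_right (dvd_refl _)).1 h4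
        have := Nat.le_of_dvd (by norm_num) h5
        omega
      · omega
      · omega
    · -- subfield case
      obtain ⟨x, hxK, hx0, hx1⟩ := hK
      have : Fintype K := Fintype.ofFinite K
      have hc3 : 3 ≤ Nat.card K := by
        rw [Nat.card_eq_fintype_card]
        have : 2 < Fintype.card K := Fintype.two_lt_card_iff.2
          ⟨0, 1, ⟨x, hxK⟩, zero_ne_one, fun h => hx0 (congrArg Subtype.val h).symm,
            fun h => hx1 (congrArg Subtype.val h).symm⟩
        omega
      obtain ⟨s', hs1, hs⟩ := card_pow_top K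
      have hs2 : 2 ≤ s' := by
        by_contra hlt
        have h1 : s' = 1 := by omega
        rw [h1, pow_one] at hs
        apply hLtop
        rw [hLK, eq_top_of_card_eq K hs.symm, SL2K_top, cj_top]
      have hcL : Nat.card L = (Nat.card K + 1) * ((Nat.card K - 1) * Nat.card K) := by
        rw [hLK, card_cj, card_SL2K]
      rw [hcL] at hdvd
      rcases hm with hm | hm
      · rcases Nat.eq_or_lt_of_le hs2 with h2 | h3
        · -- `q = |K|²`: element orders
          have haL : a ∈ cj g (SL2K K) := by rw [← hLK]; exact hle haN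
          rw [mem_cj] at haL
          obtain ⟨e⟩ := nonempty_SL2K_equiv K
          set a'' := e ⟨g⁻¹ * a * g, haL⟩ with ha''
          have hord : orderOf a'' = Nat.card T := by
            rw [ha'', MulEquiv.orderOf_eq, Subgroup.orderOf_mk, ← hao]
            have : g⁻¹ * a * g = (MulAut.conj g⁻¹) a := by simp [MulAut.conj_apply]
            rw [this, MulEquiv.orderOf_eq]
          have : CharP K 2 := RingHom.charP K.subtype K.subtype_injective 2
          have : Fact (Nat.Prime 2) := ⟨Nat.prime_two⟩
          have hcop : Nat.Coprime (orderOf a'') 2 := by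
            rw [hord]; exact hTodd.coprime_two_right
          have h5 := Cfsg.Agent.S0800.result (F := K) rfl 2 a'' hcop
          rw [← h2] at hs
          rw [hord, hm, hs, ← Nat.card_eq_fintype_card (α := K)] at h5
          obtain ⟨d, hd⟩ : ∃ d, Nat.card K = d + 3 := ⟨Nat.card K - 3, by omega⟩
          rw [hd] at h5
          have h6 : (d + 3) ^ 2 - 1 = (d + 2) * (d + 4) := by
            have : (d + 3) ^ 2 = (d + 2) * (d + 4) + 1 := by ring
            omega
          have h7 : d + 4 + (d + 4) ≤ (d + 2) * (d + 4) := by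
            have : 2 * (d + 4) ≤ (d + 2) * (d + 4) := Nat.mul_le_mul_right _ (by omega)
            omega
          rw [h6] at h5
          rcases h5 with h5 | h5
          · have := Nat.le_of_dvd (by omega) h5
            omega
          · have := Nat.le_of_dvd (by omega) h5
            omega
        · refine minus_arith2 (by omega) h3 hs ?_
          rw [hm] at hdvd
          exact dvd_trans (dvd_mul_left _ 2) hdvd
      · refine plus_arith (by omega) hs2 hs ?_
        rw [hm] at hdvd
        exact dvd_trans (dvd_mul_left _ 2) hdvd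

end Cfsg.Agent.Helper18.DihEven
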