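import Cfsg.Agent.Helper18.DihEven1

/-! Dihedral maximal subgroups of `PSL₂(q)`: assembly. -/

set_option autoImplicit false

namespace Cfsg.Agent.Helper18.DihEven

open Cfsg.Agent.Helper11.L2E Cfsg.Agent.Helper11.SCTI Cfsg.Agent.Helper11.FinSub
open Cfsg.Agent.Helper18.Dickson

variable {F : Type*} [Field F]

local notation "S2" => Matrix.SpecialLinearGroup (Fin 2) F
local notation "PF" => Matrix.ProjectiveSpecialLinearGroup (Fin 2) F

theorem coatom_map_equiv {G G' : Type*} [Group G] [Group G'] (e : G ≃* G') (N : Subgroup G)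
    (h : IsCoatom N) : IsCoatom (N.map e.toMonoidHom) := by
  have : N.map e.toMonoidHom = e.mapSubgroup N := rfl
  rw [this, OrderIso.isCoatom_iff]
  exact h

/-- even `q ≥ 4`: the image in `PSL₂` of the normaliser of a torus -/
theorem exists_even [Fintype F] [CharP F 2] (h4 : 4 ≤ Fintype.card F) {T : Subgroup S2}
    (hT : IsTor T) :
    ∃ H : Subgroup PF, IsCoatom H ∧ Nonempty (H ≃* DihedralGroup (Nat.card T)) := by
  obtain ⟨f⟩ := nonempty_dihedral hT
  refine ⟨(Subgroup.normalizer (T : Set S2)).map (slEquivPSL F).toMonoidHom,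
    coatom_map_equiv _ _ (normalizer_coatom hT h4), ⟨?_⟩⟩
  exact ((Subgroup.normalizer (T : Set S2)).equivMapOfInjective _
    (slEquivPSL F).injective).symm.trans f

/-- even `q ≥ 4`: a maximal `D_{q+1}` -/
theorem exists_even_plus [Fintype F] [CharP F 2] (h4 : 4 ≤ Fintype.card F) :
    ∃ H : Subgroup PF, IsCoatom H ∧ Nonempty (H ≃* DihedralGroup (Fintype.card F + 1)) := by
  obtain ⟨Y, hY⟩ := exists_Y (F := F)
  have hY1 : Y ≠ 1 := by
    intro h
    rw [h, orderOf_one] at hY
    omega
  have hodd : Odd (orderOf Y) := by rw [hY]; exact odd_card_add_one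
  have hT := isTor_centralizer Y hY1 hodd
  have := exists_even h4 hT
  rw [card_centralizer_Y Y hY] at this
  exact this

/-- even `q ≥ 4`: a maximal `D_{q-1}` -/
theorem exists_even_minus [Fintype F] [CharP F 2] (h4 : 4 ≤ Fintype.card F) :
    ∃ H : Subgroup PF, IsCoatom H ∧ Nonempty (H ≃* DihedralGroup (Fintype.card F - 1)) := by
  have := exists_even h4 (isTor_Dsub h4)
  rw [card_Dsub] at this
  exact this

end Cfsg.Agent.Helper18.DihEven
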