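import Cfsg.Agent.Helper18.DihEven2
import Cfsg.Agent.Helper18.Dickson45

/-! The full list of subgroups of `SL₂(2^n) = PSL₂(2^n)`. -/

set_option autoImplicit false

namespace Cfsg.Agent.Helper18.DihEven

open Cfsg.Agent.Helper11.L2E Cfsg.Agent.Helper11.SCTI Cfsg.Agent.Helper11.FinSub
open Cfsg.Agent.Helper18.Dickson

variable {F : Type*} [Field F] [CharP F 2] [Fintype F]

local notation "S2" => Matrix.SpecialLinearGroup (Fin 2) F
local notation "PF" => Matrix.ProjectiveSpecialLinearGroup (Fin 2) F

/-- subgroups of the normaliser of a torus are cyclic or dihedral -/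
theorem sub_normalizer_cases {T : Subgroup S2} (hT : IsTor T) (M : Subgroup S2)
    (hM : M ≤ Subgroup.normalizer (T : Set S2)) :
    ∃ k : ℕ, k ∣ Nat.card T ∧
      ((IsCyclic M ∧ Nat.card M = k) ∨ Nonempty (M ≃* DihedralGroup k)) := by
  classical
  have hTc : IsCyclic T := hT.isCyclic
  by_cases hMT : M ≤ T
  · refine ⟨Nat.card M, Subgroup.card_dvd_of_le hMT, Or.inl ⟨?_, rfl⟩⟩
    exact Subgroup.isCyclic_of_le hMT
  · obtain ⟨s, hsM, hsT⟩ := Set.not_subset.1 hMT
    have hsN := hM hsM
    obtain ⟨hss, hsinv⟩ : s * s = 1 ∧ ∀ y ∈ T, s * y * s⁻¹ = y⁻¹ := by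
      rcases hT.normalizer_cases s hsN with h | h
      · exact absurd h hsT
      · exact h
    have hsi : s⁻¹ = s := inv_eq_of_mul_eq_one_right hss
    set C : Subgroup S2 := M ⊓ T with hC
    have hCT : C ≤ T := inf_le_right
    have hCM : C ≤ M := inf_le_left
    have hCc : IsCyclic C := Subgroup.isCyclic_of_le hCT
    obtain ⟨a, ha⟩ := hCc.exists_generator
    have hao : orderOf (a : S2) = Nat.card C := by
      rw [Subgroup.orderOf_coe]
      exact orderOf_eq_card_of_forall_mem_zpowers ha
    obtain ⟨y, hy1⟩ := (Subgroup.ne_bot_iff_exists_ne_one (H := T)).mp hT.2.1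
    have hy1' : (y : S2) ≠ 1 := fun h => hy1 (Subtype.ext h)
    -- the index of `C` in `M` is two
    have hidx : (C.subgroupOf M).index = 2 := by
      rw [Subgroup.index_eq_two_iff]
      refine ⟨⟨s, hsM⟩, ?_⟩
      rintro ⟨b, hbM⟩
      simp only [Subgroup.mem_subgroupOf, Subgroup.coe_mul]
      rcases hT.normalizer_cases b (hM hbM) with hb | ⟨hbb, hbinv⟩
      · right
        refine ⟨⟨hbM, hb⟩, ?_⟩
        intro h
        apply hsT
        have : s = b⁻¹ * (b * s) := by group
        rw [this]
        exact T.mul_mem (T.inv_mem hb) h.2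
      · by_cases hbT : b ∈ T
        · right
          refine ⟨⟨hbM, hbT⟩, ?_⟩
          intro h
          apply hsT
          have : s = b⁻¹ * (b * s) := by group
          rw [this]
          exact T.mul_mem (T.inv_mem hbT) h.2
        · left
          refine ⟨⟨M.mul_mem hbM hsM, ?_⟩, fun h => hbT h.2⟩
          show b * s ∈ T
          rw [hT.eq_centralizer y.2 hy1', Subgroup.mem_centralizer_singleton_iff]
          have e1 := hsinv y y.2
          have e2 := hbinv _ (T.inv_mem y.2)
          rw [inv_inv] at e2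
          calc b * s * (y : S2) = b * (s * y * s⁻¹) * s := by group
            _ = b * (y : S2)⁻¹ * b⁻¹ * (b * s) := by rw [e1]; group
            _ = y * (b * s) := by rw [e2]
    have hcardC : Nat.card (C.subgroupOf M) = Nat.card C :=
      Nat.card_congr (Subgroup.subgroupOfEquivOfLe hCM).toEquiv
    have hcard : Nat.card M = 2 * Nat.card C := by
      have := Subgroup.card_mul_index (C.subgroupOf M)
      rw [hidx, hcardC] at this
      omega
    refine ⟨Nat.card C, Subgroup.card_dvd_of_le hCT, Or.inr ?_⟩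
    apply Cfsg.Agent.Helper11.nonempty_mulEquiv_dihedralGroup (Nat.card C) hcard
      ⟨(a : S2), hCM a.2⟩ ⟨s, hsM⟩
    · rw [← hao]
      exact Subgroup.orderOf_mk _ _
    · apply Subtype.ext; exact hss
    · apply Subtype.ext
      show s * (a : S2) * s = (a : S2)⁻¹
      rw [← hsinv _ (hCT a.2), hsi]
    · intro h
      obtain ⟨k, hk⟩ := Subgroup.mem_zpowers_iff.1 h
      apply hsT
      have : s = (a : S2) ^ k := by
        have := congrArg Subtype.val hk
        simpa using this.symm
      rw [this]
      exact T.zpow_mem (hCT a.2) k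

/-- **Dickson's list**, characteristic two. -/
theorem dickson_even (H : Subgroup PF) :
    (∃ k : ℕ, (k ∣ Fintype.card F + 1 ∨ k ∣ Fintype.card F - 1) ∧
      ((IsCyclic H ∧ Nat.card H = k) ∨ Nonempty (H ≃* DihedralGroup k))) ∨
    (∃ (P : Sylow 2 PF) (K : Subgroup PF),
      K ≤ Subgroup.normalizer ((P : Subgroup PF) : Set PF) ∧ Nonempty (H ≃* K)) ∨
    (∃ (K : Type) (_ : Field K) (_ : Fintype K) (m : ℕ), Fintype.card K ^ m = Fintype.card F ∧
      Nonempty (H ≃* Matrix.ProjectiveSpecialLinearGroup (Fin 2) K)) := by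
  classical
  have : Fact (Nat.Prime 2) := ⟨Nat.prime_two⟩
  let e := slEquivPSL F
  set M : Subgroup S2 := H.comap e.toMonoidHom with hMdef
  have eM : M ≃* H := (e.subgroupMap M).trans
    (MulEquiv.subgroupCongr (Subgroup.map_comap_eq_self_of_surjective e.surjective H))
  rcases main M with ⟨g, hg⟩ | ⟨T, hT, hle⟩ | ⟨g, K, hK, hMK⟩
  · right; left
    apply borel_case 2 H g⁻¹
    intro h hh
    have hhM : h ∈ M := hh
    have h2 := hg hhM
    rw [mem_cj, Cfsg.Agent.Helper11.L2E.mem_Bsub] at h2
    rw [inv_inv]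
    exact h2
  · left
    obtain ⟨k, hk, hcases⟩ := sub_normalizer_cases hT M hle
    refine ⟨k, ?_, ?_⟩
    · rcases hT.card with h | h
      · right; rw [← h]; exact hk
      · left; rw [← h]; exact hk
    · rcases hcases with ⟨hc, hcard⟩ | ⟨⟨d⟩⟩
      · left
        refine ⟨isCyclic_of_surjective eM eM.surjective, ?_⟩
        rw [← hcard]
        exact Nat.card_congr eM.symm.toEquiv
      · right
        exact ⟨eM.symm.trans d⟩
  · right; right
    let _ : Fintype K := Fintype.ofFinite K
    have hcharK : CharP K 2 := by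
      have hinj : Function.Injective (K.subtype : K →+* F) := Subtype.val_injective
      exact (RingHom.charP_iff K.subtype hinj 2).mpr inferInstance
    obtain ⟨k, -, hk⟩ := FiniteField.card K 2
    have hk0 : (k : ℕ) ≠ 0 := k.ne_zero
    let instG : Fintype (GaloisField 2 k) := Fintype.ofFinite _
    have hG : Fintype.card (GaloisField 2 k) = 2 ^ (k : ℕ) := by
      rw [← Nat.card_eq_fintype_card]
      exact GaloisField.card 2 k hk0
    have hcardK : Nat.card K = Fintype.card (GaloisField 2 k) := by
      rw [hG, Nat.card_eq_fintype_card, hk]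
    obtain ⟨r, -, hFr⟩ := card_pow_top K
    refine ⟨GaloisField 2 k, inferInstance, instG, r, ?_, ?_⟩
    · rw [hFr, hcardK]
    · have eK : K ≃+* GaloisField 2 k :=
        FiniteField.ringEquivOfCardEq (by rw [← Nat.card_eq_fintype_card]; exact hcardK)
      obtain ⟨e1⟩ := nonempty_SL2K_equiv K
      have e0 : SL2K K ≃* (cj g (SL2K K) : Subgroup _) :=
        Subgroup.equivMapOfInjective _ _ (MulAut.conj g).injective
      have e2 := slCongr eK
      have e3 := slEquivPSL (GaloisField 2 k)
      exact ⟨eM.symm.trans ((MulEquiv.subgroupCongr hMK).trans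
        (e0.symm.trans (e1.trans (e2.trans e3))))⟩

end Cfsg.Agent.Helper18.DihEven
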