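import Mathlib
import Cfsg.Agent.Helper18.GL2Sylow3
import Cfsg.Agent.Helper2.SU2
import Cfsg.Agent.Helper2.UnitaryGU

/-!
Sylow 2-subgroups of `GU(2,q)` (S1218): order and conjugation into `GU`.
-/

set_option autoImplicit false

namespace Cfsg.Agent.Helper18.GU2Sylow

open Matrix Cfsg.Agent.Helper2.Herm Cfsg.Agent.Helper2.SU2 Cfsg.Agent.Helper18.GL2Sylow

variable {F : Type*} [Field F] [Fintype F] {q : ℕ}

theorem card_gu2 (hF : Fintype.card F = q ^ 2) :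
    Nat.card (Cfsg.GU 2 F q) = q * ((q + 1) * (q ^ 2 - 1)) := by
  rw [card_GU_closed hF 2]
  norm_num [Finset.prod_range_succ]

theorem card_sylow_gu2 (hF : Fintype.card F = q ^ 2) (hodd : q % 2 = 1) (h3 : 3 ≤ q)
    (P : Sylow 2 (Cfsg.GU 2 F q)) :
    Nat.card P = 2 ^ (2 * (q + 1).factorization 2 + (q - 1).factorization 2) := by
  have hp : Fact (Nat.Prime 2) := ⟨Nat.prime_two⟩
  rw [Sylow.card_eq_multiplicity, card_gu2 hF]
  have e1 : q ^ 2 - 1 = (q - 1) * (q + 1) := by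
    obtain ⟨r, rfl⟩ : ∃ r, q = r + 1 := ⟨q - 1, by omega⟩
    have : (r + 1) ^ 2 = (r + 1 - 1) * (r + 1 + 1) + 1 := by
      simp only [Nat.add_sub_cancel]; ring
    rw [this]; simp
  have h1 : q - 1 ≠ 0 := by omega
  have h2 : q + 1 ≠ 0 := by omega
  have h3 : q ≠ 0 := by omega
  rw [e1, Nat.factorization_mul h3 (mul_ne_zero h2 (mul_ne_zero h1 h2)),
    Nat.factorization_mul h2 (mul_ne_zero h1 h2), Nat.factorization_mul h1 h2]
  simp only [Finsupp.coe_add, Pi.add_apply]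
  rw [factorization_two_of_odd hodd]
  congr 1; ring

/-- preservation of the alternating-Hermitian form `x₀ ȳ₁ - x₁ ȳ₀` -/
def AltPres (hF : Fintype.card F = q ^ 2) (A : Matrix (Fin 2) (Fin 2) F) : Prop :=
  ∀ x y : Fin 2 → F, (A *ᵥ x) 0 * cj hF ((A *ᵥ y) 1) - (A *ᵥ x) 1 * cj hF ((A *ᵥ y) 0) =
    x 0 * cj hF (y 1) - x 1 * cj hF (y 0)

theorem conj_mem_GU (hF : Fintype.card F = q ^ 2) {u v : Fin 2 → F} {ε : F}
    (hεc : cj hF ε = -ε) (huu : Cfsg.hermForm 2 F q u u = 0) (hvv : Cfsg.hermForm 2 F q v v = 0)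
    (huv : Cfsg.hermForm 2 F q u v = ε) (Qu : GL (Fin 2) F)
    (hQ : (Qu : Matrix (Fin 2) (Fin 2) F) = Qm u v) (A : GL (Fin 2) F)
    (hA : AltPres hF (A : Matrix (Fin 2) (Fin 2) F)) :
    Qu * A * Qu⁻¹ ∈ Cfsg.GU 2 F q := by
  intro x y
  change Cfsg.hermForm 2 F q (((Qu * A * Qu⁻¹ : GL (Fin 2) F) : Matrix (Fin 2) (Fin 2) F) *ᵥ x)
    (((Qu * A * Qu⁻¹ : GL (Fin 2) F) : Matrix (Fin 2) (Fin 2) F) *ᵥ y) = _
  have hx : ∀ x : Fin 2 → F, Qm u v *ᵥ (((Qu⁻¹ : GL (Fin 2) F) : Matrix (Fin 2) (Fin 2) F) *ᵥ x)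
      = x := by
    intro x
    rw [Matrix.mulVec_mulVec, ← hQ, ← Units.val_mul, mul_inv_cancel, Units.val_one,
      Matrix.one_mulVec]
  rw [Units.val_mul, Units.val_mul, ← Matrix.mulVec_mulVec, ← Matrix.mulVec_mulVec,
    ← Matrix.mulVec_mulVec, ← Matrix.mulVec_mulVec, hQ, hf_Qm hF hεc huu hvv huv, hA,
    ← hf_Qm hF hεc huu hvv huv, hx, hx]

end Cfsg.Agent.Helper18.GU2Sylow
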