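import Mathlib
import Cfsg.Agent.Helper18.GU2Sylow

/-!
Sylow 2-subgroups of `GU(2,q)` (S1218): the generators.
-/

set_option autoImplicit false

namespace Cfsg.Agent.Helper18.GU2Sylow

open Matrix Cfsg.Agent.Helper2.Herm Cfsg.Agent.Helper2.SU2 Cfsg.Agent.Helper18.GL2Sylow

variable {F : Type*} [Field F] [Fintype F] {q : ℕ}

/-- `a ↦ diag(a, (a^q)⁻¹)` -/
def torus (q : ℕ) : F →* Matrix (Fin 2) (Fin 2) F where
  toFun a := !![a, 0; 0, (a ^ q)⁻¹]
  map_one' := by rw [one_pow, inv_one, Matrix.one_fin_two]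
  map_mul' a b := by rw [Matrix.mul_fin_two, mul_pow, mul_inv]; simp

theorem torus_injective : Function.Injective (torus q : F →* Matrix (Fin 2) (Fin 2) F) := by
  intro a b h
  have := congrFun (congrFun h 0) 0
  simpa [torus] using this

theorem altPres_torus (hF : Fintype.card F = q ^ 2) (a : Fˣ) :
    AltPres hF ((Units.map (torus q) a : GL (Fin 2) F) : Matrix (Fin 2) (Fin 2) F) := by
  intro x y
  have ha0 : (a : F) ≠ 0 := a.ne_zero
  have e : ((Units.map (torus q) a : GL (Fin 2) F) : Matrix (Fin 2) (Fin 2) F) =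
      !![(a : F), 0; 0, ((a : F) ^ q)⁻¹] := rfl
  rw [e]
  have h1 : (a : F) * cj hF (((a : F) ^ q)⁻¹) = 1 := by
    rw [map_inv₀, cj_apply, ← pow_mul, ← sq, pow_q_sq hF, mul_inv_cancel₀ ha0]
  have h2 : ((a : F) ^ q)⁻¹ * cj hF (a : F) = 1 := by
    rw [cj_apply, inv_mul_cancel₀ (pow_ne_zero _ ha0)]
  simp only [Matrix.mulVec, dotProduct, Fin.sum_univ_two, Matrix.of_apply, Matrix.cons_val',
    Matrix.cons_val_zero, Matrix.cons_val_one, Matrix.cons_val_fin_one, zero_mul, add_zero,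
    zero_add, map_mul]
  linear_combination (x 0 * cj hF (y 1)) * h1 - (x 1 * cj hF (y 0)) * h2

/-- the antidiagonal involution -/
def yGL (b : F) (hb : b ≠ 0) : GL (Fin 2) F :=
  ⟨!![0, b; b⁻¹, 0], !![0, b; b⁻¹, 0],
    by rw [Matrix.mul_fin_two, Matrix.one_fin_two]; simp [hb],
    by rw [Matrix.mul_fin_two, Matrix.one_fin_two]; simp [hb]⟩

theorem yGL_mul_self (b : F) (hb : b ≠ 0) : yGL b hb * yGL b hb = 1 := by
  apply Units.ext
  show (!![0, b; b⁻¹, 0] : Matrix (Fin 2) (Fin 2) F) * !![0, b; b⁻¹, 0] = 1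
  rw [Matrix.mul_fin_two, Matrix.one_fin_two]; simp [hb]

theorem yGL_ne_one (b : F) (hb : b ≠ 0) : yGL b hb ≠ 1 := by
  intro h
  have h1 := congrArg (fun g : GL (Fin 2) F => (g : Matrix (Fin 2) (Fin 2) F) 0 0) h
  simp [yGL] at h1

theorem orderOf_yGL (b : F) (hb : b ≠ 0) : orderOf (yGL b hb) = 2 := by
  have hp : Fact (Nat.Prime 2) := ⟨Nat.prime_two⟩
  exact orderOf_eq_prime (by rw [pow_two]; exact yGL_mul_self b hb) (yGL_ne_one b hb)

theorem yGL_inv (b : F) (hb : b ≠ 0) : (yGL b hb)⁻¹ = yGL b hb :=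
  inv_eq_of_mul_eq_one_left (yGL_mul_self b hb)

theorem altPres_yGL (hF : Fintype.card F = q ^ 2) (b : F) (hb : b ≠ 0) (hbq : b ^ q = -b) :
    AltPres hF ((yGL b hb : GL (Fin 2) F) : Matrix (Fin 2) (Fin 2) F) := by
  intro x y
  have e : ((yGL b hb : GL (Fin 2) F) : Matrix (Fin 2) (Fin 2) F) = !![0, b; b⁻¹, 0] := rfl
  rw [e]
  have hcb : cj hF b = -b := by rw [cj_apply]; exact hbq
  have h1 : b * cj hF b⁻¹ = -1 := by
    rw [map_inv₀, hcb, inv_neg, mul_neg, mul_inv_cancel₀ hb]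
  have h2 : b⁻¹ * cj hF b = -1 := by
    rw [hcb, mul_neg, inv_mul_cancel₀ hb]
  simp only [Matrix.mulVec, dotProduct, Fin.sum_univ_two, Matrix.of_apply, Matrix.cons_val',
    Matrix.cons_val_zero, Matrix.cons_val_one, Matrix.cons_val_fin_one, zero_mul, add_zero,
    zero_add, map_mul]
  linear_combination (x 1 * cj hF (y 0)) * h1 - (x 0 * cj hF (y 1)) * h2

theorem yGL_conj_torus (hF : Fintype.card F = q ^ 2) (b : F) (hb : b ≠ 0) (a : Fˣ) :
    yGL b hb * Units.map (torus q) a * (yGL b hb)⁻¹ = (Units.map (torus q) (a ^ q))⁻¹ := by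
  rw [yGL_inv, ← map_inv]
  apply Units.ext
  have ha0 : (a : F) ≠ 0 := a.ne_zero
  show (!![0, b; b⁻¹, 0] : Matrix (Fin 2) (Fin 2) F) * !![(a : F), 0; 0, ((a : F) ^ q)⁻¹] *
      !![0, b; b⁻¹, 0] = !![(((a ^ q)⁻¹ : Fˣ) : F), 0; 0, ((((a ^ q)⁻¹ : Fˣ) : F) ^ q)⁻¹]
  rw [Matrix.mul_fin_two, Matrix.mul_fin_two]
  have h1 : ((((a ^ q)⁻¹ : Fˣ) : F) ^ q)⁻¹ = (a : F) := by
    rw [Units.val_inv_eq_inv_val, Units.val_pow_eq_pow_val, inv_pow, inv_inv, ← pow_mul, ← sq,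
      pow_q_sq hF]
  rw [h1, Units.val_inv_eq_inv_val, Units.val_pow_eq_pow_val]
  simp only [zero_mul, mul_zero, add_zero, zero_add]
  have e1 : b * ((a : F) ^ q)⁻¹ * b⁻¹ = ((a : F) ^ q)⁻¹ := by field_simp
  have e2 : b⁻¹ * (a : F) * b = (a : F) := by field_simp
  rw [e1, e2]

/-- an element with `b ^ q = -b` -/
theorem exists_skew (hF : Fintype.card F = q ^ 2) (hodd : q % 2 = 1) :
    ∃ b : F, b ≠ 0 ∧ b ^ q = -b := by
  have hq2 := two_le_q hF
  obtain ⟨g, hg⟩ := IsCyclic.exists_ofOrder_eq_natCard (α := Fˣ)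
  have hcu : Nat.card Fˣ = q ^ 2 - 1 := by
    rw [Cfsg.Agent.Helper2.card_units_field, hF]
  have hord : orderOf g = q ^ 2 - 1 := by rw [hg, hcu]
  have hfac : q ^ 2 - 1 = (q - 1) * (q + 1) := by
    obtain ⟨r, hr⟩ : ∃ r, q = r + 1 := ⟨q - 1, by omega⟩
    rw [hr]
    have : (r + 1) ^ 2 = (r + 1 - 1) * (r + 1 + 1) + 1 := by
      simp only [Nat.add_sub_cancel]; ring
    rw [this]; simp
  obtain ⟨m, hm⟩ : ∃ m, q + 1 = 2 * m := ⟨(q + 1) / 2, by omega⟩
  set b : Fˣ := g ^ m with hb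
  have hw : (b ^ (q - 1)) ^ 2 = 1 := by
    rw [hb, ← pow_mul, ← pow_mul]
    have : m * ((q - 1) * 2) = orderOf g := by rw [hord, hfac, hm]; ring
    rw [this, pow_orderOf_eq_one]
  have hw1 : b ^ (q - 1) ≠ 1 := by
    rw [hb, ← pow_mul]
    intro h1
    have h2 := orderOf_dvd_of_pow_eq_one h1
    rw [hord, hfac, hm] at h2
    have hpos : 0 < m * (q - 1) := Nat.mul_pos (by omega) (by omega)
    have h3 := Nat.le_of_dvd hpos h2
    nlinarith
  have hw' : ((b : F) ^ (q - 1)) ^ 2 = 1 := by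
    have := congrArg Units.val hw
    simpa using this
  have hw1' : (b : F) ^ (q - 1) ≠ 1 := by
    intro h
    apply hw1
    apply Units.ext
    simpa using h
  have hneg : (b : F) ^ (q - 1) = -1 := by
    rcases sq_eq_one_iff.mp hw' with h | h
    · exact absurd h hw1'
    · exact h
  refine ⟨(b : F), b.ne_zero, ?_⟩
  have : (b : F) ^ q = (b : F) ^ (q - 1) * b := by rw [← pow_succ]; congr 1; omega
  rw [this, hneg]; ring

end Cfsg.Agent.Helper18.GU2Sylow
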