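import Mathlib
import Cfsg.Agent.Helper18.GU2Sylow2

/-!
Sylow 2-subgroups of `GU(2,q)` (S1218): main theorems.
-/

set_option autoImplicit false

namespace Cfsg.Agent.Helper18.GU2Sylow

open Matrix Cfsg.Agent.Helper2.Herm Cfsg.Agent.Helper2.SU2 Cfsg.Agent.Helper18.GL2Sylow

variable {F : Type*} [Field F] [Fintype F] {q : ℕ}

theorem exists_unit_orderOf (hF : Fintype.card F = q ^ 2) (k : ℕ) (hk : 2 ^ k ∣ q ^ 2 - 1) :
    ∃ ξ : Fˣ, orderOf ξ = 2 ^ k := by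
  have hq2 := two_le_q hF
  obtain ⟨g, hg⟩ := IsCyclic.exists_ofOrder_eq_natCard (α := Fˣ)
  have hcu : Nat.card Fˣ = q ^ 2 - 1 := by
    rw [Cfsg.Agent.Helper2.card_units_field, hF]
  have hpos : 0 < q ^ 2 - 1 := by
    have : 2 ^ 2 ≤ q ^ 2 := Nat.pow_le_pow_left hq2 2
    omega
  refine ⟨g ^ ((q ^ 2 - 1) / 2 ^ k), ?_⟩
  have h1 : (q ^ 2 - 1) / 2 ^ k ∣ orderOf g := by
    rw [hg, hcu]; exact Nat.div_dvd_of_dvd hk
  rw [orderOf_pow_of_dvd _ h1, hg, hcu]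
  · exact Nat.div_div_self hk (by omega)
  · intro h0
    have := Nat.div_mul_cancel hk
    rw [h0, zero_mul] at this
    omega

theorem sq_sub_one (q : ℕ) (hq : 1 ≤ q) : q ^ 2 - 1 = (q - 1) * (q + 1) := by
  obtain ⟨r, hr⟩ : ∃ r, q = r + 1 := ⟨q - 1, by omega⟩
  rw [hr]
  have : (r + 1) ^ 2 = (r + 1 - 1) * (r + 1 + 1) + 1 := by
    simp only [Nat.add_sub_cancel]; ring
  rw [this]; simp

theorem qd_case (hF : Fintype.card F = q ^ 2) (hq : q % 4 = 1) (P : Sylow 2 (Cfsg.GU 2 F q)) :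
    Cfsg.IsQuasiDihedral (P : Subgroup (Cfsg.GU 2 F q)) := by
  classical
  have hq2 := two_le_q hF
  have hq5 : 5 ≤ q := by omega
  set n := (q - 1).factorization 2 with hn
  have hn2 : 2 ≤ n := two_le_factorization (by omega) (by omega)
  have hplus : (q + 1).factorization 2 = 1 := factorization_two_of_mod_four (by omega)
  have hcard : Nat.card P = 2 ^ (n + 1 + 1) := by
    rw [card_sylow_gu2 hF (by omega) (by omega) P, ← hn, hplus]
    congr 1; ring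
  -- the hyperbolic pair
  obtain ⟨u, v, ε, hε0, hεc, huu, hvv, huv⟩ := exists_pair hF
  set Qu : GL (Fin 2) F := Matrix.GeneralLinearGroup.mkOfDetNeZero (Qm u v)
    (det_Qm_ne_zero hF hε0 hεc huu hvv huv) with hQu
  have hQ : (Qu : Matrix (Fin 2) (Fin 2) F) = Qm u v := rfl
  -- elements
  have hdvd1 : 2 ^ n ∣ q - 1 := Nat.ordProj_dvd (q - 1) 2
  have hdvd : 2 ^ (n + 1) ∣ q ^ 2 - 1 := by
    rw [sq_sub_one q (by omega), pow_succ]
    exact Nat.mul_dvd_mul hdvd1 (by omega)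
  obtain ⟨ξ, hξ⟩ := exists_unit_orderOf hF (n + 1) hdvd
  obtain ⟨b, hb0, hbq⟩ := exists_skew hF (by omega)
  set X₀ : GL (Fin 2) F := Units.map (torus q) ξ with hX₀
  set Y₀ : GL (Fin 2) F := yGL b hb0 with hY₀
  have hordX₀ : orderOf X₀ = 2 ^ (n + 1) := by
    rw [hX₀, orderOf_injective _ (Units.map_injective torus_injective), hξ]
  -- q ≡ 1 + 2^n mod 2^(n+1)
  obtain ⟨j, hj⟩ : ∃ j, q + (2 ^ n - 1) = 2 ^ (n + 1) * j := by
    have hcomp : ¬ 2 ∣ (q - 1) / 2 ^ n := Nat.not_dvd_ordCompl Nat.prime_two (by omega)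
    have hmul : 2 ^ n * ((q - 1) / 2 ^ n) = q - 1 := Nat.ordProj_mul_ordCompl_eq_self (q - 1) 2
    obtain ⟨i, hi⟩ : ∃ i, (q - 1) / 2 ^ n = 2 * i + 1 := ⟨(q - 1) / 2 ^ n / 2, by omega⟩
    refine ⟨i + 1, ?_⟩
    rw [hi] at hmul
    have h2n : 1 ≤ 2 ^ n := Nat.one_le_two_pow
    have : 2 ^ (n + 1) * (i + 1) = (q - 1) + 2 ^ n := by rw [← hmul, pow_succ]; ring
    omega
  have hrel₀ : Y₀ * X₀ * Y₀⁻¹ = X₀ ^ (2 ^ (n + 1 - 1) - 1) := by
    rw [hY₀, hX₀, yGL_conj_torus hF b hb0 ξ, Nat.add_sub_cancel, map_pow, ← hX₀]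
    rw [inv_eq_iff_mul_eq_one, ← pow_add, hj, pow_mul, ← hordX₀, pow_orderOf_eq_one, one_pow]
  -- conjugate into GU
  have hXmem : Qu * X₀ * Qu⁻¹ ∈ Cfsg.GU 2 F q :=
    conj_mem_GU hF hεc huu hvv huv Qu hQ X₀ (altPres_torus hF ξ)
  have hYmem : Qu * Y₀ * Qu⁻¹ ∈ Cfsg.GU 2 F q :=
    conj_mem_GU hF hεc huu hvv huv Qu hQ Y₀ (altPres_yGL hF b hb0 hbq)
  refine isQuasiDihedral_of_elements P (n + 1) (by omega) hcard ⟨_, hXmem⟩ ⟨_, hYmem⟩ ?_ ?_ ?_
  · rw [Subgroup.orderOf_mk, orderOf_conj'', hordX₀]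
  · rw [Subgroup.orderOf_mk, orderOf_conj'', hY₀, orderOf_yGL]
  · apply Subtype.ext
    simp only [Subgroup.coe_mul, Subgroup.coe_inv, Subgroup.coe_pow]
    have : Qu * Y₀ * Qu⁻¹ * (Qu * X₀ * Qu⁻¹) * (Qu * Y₀ * Qu⁻¹)⁻¹ =
        Qu * (Y₀ * X₀ * Y₀⁻¹) * Qu⁻¹ := by group
    rw [this, hrel₀, conj_pow]

theorem mem_GU_diag1 (hF : Fintype.card F = q ^ 2) (ζ : Fˣ) (hζ : ζ ^ (q + 1) = 1) :
    (Units.map diag1 ζ : GL (Fin 2) F) ∈ Cfsg.GU 2 F q := by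
  intro x y
  change Cfsg.hermForm 2 F q ((!![(ζ : F), 0; 0, 1] : Matrix (Fin 2) (Fin 2) F) *ᵥ x)
    ((!![(ζ : F), 0; 0, 1] : Matrix (Fin 2) (Fin 2) F) *ᵥ y) = _
  have h1 : (ζ : F) ^ (q + 1) = 1 := by
    have := congrArg Units.val hζ
    simpa using this
  unfold Cfsg.hermForm
  simp only [Matrix.mulVec, dotProduct, Fin.sum_univ_two, Matrix.of_apply, Matrix.cons_val',
    Matrix.cons_val_zero, Matrix.cons_val_one, Matrix.cons_val_fin_one, zero_mul, add_zero,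
    zero_add, one_mul, mul_pow]
  rw [pow_succ] at h1
  linear_combination (x 0 * y 0 ^ q) * h1

theorem mem_GU_diag2 (hF : Fintype.card F = q ^ 2) (ζ : Fˣ) (hζ : ζ ^ (q + 1) = 1) :
    (Units.map diag2 ζ : GL (Fin 2) F) ∈ Cfsg.GU 2 F q := by
  intro x y
  change Cfsg.hermForm 2 F q ((!![1, 0; 0, (ζ : F)] : Matrix (Fin 2) (Fin 2) F) *ᵥ x)
    ((!![1, 0; 0, (ζ : F)] : Matrix (Fin 2) (Fin 2) F) *ᵥ y) = _
  have h1 : (ζ : F) ^ (q + 1) = 1 := by
    have := congrArg Units.val hζ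
    simpa using this
  unfold Cfsg.hermForm
  simp only [Matrix.mulVec, dotProduct, Fin.sum_univ_two, Matrix.of_apply, Matrix.cons_val',
    Matrix.cons_val_zero, Matrix.cons_val_one, Matrix.cons_val_fin_one, zero_mul, add_zero,
    zero_add, one_mul, mul_pow]
  rw [pow_succ] at h1
  linear_combination (x 1 * y 1 ^ q) * h1

theorem mem_GU_swap : (swapGL : GL (Fin 2) F) ∈ Cfsg.GU 2 F q := by
  intro x y
  change Cfsg.hermForm 2 F q ((!![0, 1; 1, 0] : Matrix (Fin 2) (Fin 2) F) *ᵥ x)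
    ((!![0, 1; 1, 0] : Matrix (Fin 2) (Fin 2) F) *ᵥ y) = _
  unfold Cfsg.hermForm
  simp only [Matrix.mulVec, dotProduct, Fin.sum_univ_two, Matrix.of_apply, Matrix.cons_val',
    Matrix.cons_val_zero, Matrix.cons_val_one, Matrix.cons_val_fin_one, zero_mul, add_zero,
    zero_add, one_mul]
  ring

theorem wreathed_case (hF : Fintype.card F = q ^ 2) (hq : q % 4 = 3)
    (P : Sylow 2 (Cfsg.GU 2 F q)) :
    Cfsg.IsWreathed (P : Subgroup (Cfsg.GU 2 F q)) := by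
  classical
  have hq3 : 3 ≤ q := by omega
  set n := (q + 1).factorization 2 with hn
  have hn2 : 2 ≤ n := two_le_factorization (by omega) (by omega)
  have hminus : (q - 1).factorization 2 = 1 := factorization_two_of_mod_four (by omega)
  have hcard : Nat.card P = 2 ^ (2 * n + 1) := by
    rw [card_sylow_gu2 hF (by omega) (by omega) P, ← hn, hminus]
  have hdvd1 : 2 ^ n ∣ q + 1 := Nat.ordProj_dvd (q + 1) 2
  have hdvd : 2 ^ n ∣ q ^ 2 - 1 := by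
    rw [sq_sub_one q (by omega)]
    exact Dvd.dvd.mul_left hdvd1 _
  obtain ⟨ζ, hζ⟩ := exists_unit_orderOf hF n hdvd
  have hζq : ζ ^ (q + 1) = 1 := by
    obtain ⟨c, hc⟩ := hdvd1
    rw [hc, pow_mul, ← hζ, pow_orderOf_eq_one, one_pow]
  have hinj1 : Function.Injective (Units.map (diag1 : F →* Matrix (Fin 2) (Fin 2) F)) :=
    Units.map_injective diag1_injective
  refine isWreathed_of_elements P n hn2 hcard ⟨_, mem_GU_diag1 hF ζ hζq⟩
    ⟨_, mem_GU_diag2 hF ζ hζq⟩ ⟨_, mem_GU_swap⟩ ?_ ?_ ?_ ?_ ?_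
  · rw [Subgroup.orderOf_mk, orderOf_injective _ hinj1, hζ]
  · apply Subtype.ext
    exact diag_comm ζ ζ
  · rw [eq_bot_iff]
    rintro w ⟨⟨i, hi⟩, ⟨j, hj⟩⟩
    rw [Subgroup.mem_bot]
    have h1 : (w : GL (Fin 2) F) ∈ Subgroup.zpowers (Units.map diag1 ζ : GL (Fin 2) F) ⊓
        Subgroup.zpowers (Units.map diag2 ζ) := by
      constructor
      · refine ⟨i, ?_⟩
        have := congrArg Subtype.val hi
        simpa using this
      · refine ⟨j, ?_⟩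
        have := congrArg Subtype.val hj
        simpa using this
    rw [diag_disjoint, Subgroup.mem_bot] at h1
    exact Subtype.ext h1
  · rw [Subgroup.orderOf_mk, orderOf_swapGL]
  · apply Subtype.ext
    exact swapGL_conj ζ

end Cfsg.Agent.Helper18.GU2Sylow
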