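import Mathlib
import Cfsg.Prelude.Def_FusionSystem
import Cfsg.Prelude.Def_PLocal
import Cfsg.Agent.Helper9.Repl2
import Cfsg.Agent.Helper10.WCQuad
import Cfsg.Agent.Helper26.ZJInst

set_option autoImplicit false

/-! # S5220 piece QE: a quadratic element from Thompson replacement -/

namespace Cfsg.Agent.Helper18.GenF

open Cfsg Subgroup Cfsg.Agent.Helper26 Cfsg.Agent.Helper10
open scoped commutatorElement

/-- Finite version, inside a finite `p`-group `G` with `T = ⊤`. -/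
theorem quad_elt_fin {G : Type*} [Group G] [Finite G] {p : ℕ} [Fact p.Prime] (hG : IsPGroup p G)
    (B : Subgroup G) [hBn : B.Normal] (hBab : ∀ x ∈ B, ∀ y ∈ B, x * y = y * x)
    (A₀ : Subgroup G) (hA₀ : A₀ ∈ famEl 0 (⊤ : Subgroup G))
    (hJ : ¬ A₀ ≤ centralizer (B : Set G)) :
    ∃ y : G, y ∉ centralizer (B : Set G) ∧ y ∈ centralizer ((pw p B : Subgroup G) : Set G) := by
  have hBB : ⁅B, B⁆ = ⊥ := by
    rw [eq_bot_iff, commutator_le]
    intro a ha b hb
    rw [mem_bot, commutatorElement_eq_one_iff_mul_comm]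
    exact hBab a ha b hb
  have hnBA₀ : ¬ B ≤ A₀ := by
    intro hle
    apply hJ
    intro a ha
    rw [mem_centralizer_iff]
    intro b hb
    exact hA₀.2.1.1 b (hle hb) a ha
  obtain ⟨A', hA', -, hBA', hBN⟩ := Cfsg.Agent.Helper9.Repl2.replacement_famEl2 hG 0 (Or.inl rfl)
    (⊤ : Subgroup G) B (fun _ => hBab) A₀ hA₀ (by rw [hBB]; exact bot_le) hnBA₀
  have hA'C : ¬ A' ≤ centralizer (B : Set G) := by
    intro hle
    apply hBA'
    intro b hb
    apply mem_famEl_of_commute hA' (mem_top b) (pow_zero b)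
    intro a ha
    exact (mem_centralizer_iff.mp (hle ha) b hb).symm
  obtain ⟨g, hgA, hgC⟩ := SetLike.not_le_iff_exists.mp hA'C
  have hBA'comm : ⁅B, A'⁆ ≤ A' := by
    rw [commutator_le]
    intro b hb a ha
    have hn := hBN hb
    have h2 : b * a * b⁻¹ ∈ A' := (mem_normalizer_iff.mp hn a).mp ha
    have : ⁅b, a⁆ = (b * a * b⁻¹) * a⁻¹ := by
      rw [commutatorElement_def]
    rw [this]
    exact mul_mem h2 (inv_mem ha)
  have hquad : ⁅⁅B, zpowers g⁆, zpowers g⁆ = ⊥ := by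
    rw [eq_bot_iff]
    have hz : zpowers g ≤ A' := by
      rw [zpowers_le]; exact hgA
    calc ⁅⁅B, zpowers g⁆, zpowers g⁆ ≤ ⁅A', A'⁆ :=
          commutator_mono ((commutator_mono le_rfl hz).trans hBA'comm) hz
      _ ≤ ⊥ := by
          rw [commutator_le]
          intro a ha b hb
          rw [mem_bot, commutatorElement_eq_one_iff_mul_comm]
          exact hA'.2.1.1 a ha b hb
  have hgpow : ∃ k : ℕ, g ^ (p ^ k) = 1 := hG g
  obtain ⟨j, hj1, hj2⟩ := exists_pow_not_mem hgpow hgC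
  refine ⟨g ^ p ^ j, hj1, ?_⟩
  apply centralizes_pw_of_quadratic hBab
  · rw [normalizer_eq_top]; exact mem_top _
  · exact hj2
  · rw [eq_bot_iff, ← hquad]
    have : zpowers (g ^ p ^ j) ≤ zpowers g := by
      rw [Subgroup.zpowers_le]; exact Subgroup.pow_mem _ (Subgroup.mem_zpowers g) _
    exact Subgroup.commutator_mono (Subgroup.commutator_mono le_rfl this) this

variable {Ω : Type*} [Group Ω]

theorem quad_elt {p : ℕ} [Fact p.Prime] {S B : Subgroup Ω} [Finite S] (hS : IsPGroup p S)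
    (hBS : B ≤ S) (hSB : S ≤ Subgroup.normalizer (B : Set Ω))
    (hBab : ∀ x ∈ B, ∀ y ∈ B, x * y = y * x)
    (hJ : ¬ Cfsg.thompsonSubgroupAOf S ≤ Subgroup.centralizer (B : Set Ω)) :
    ∃ y ∈ S, y ∉ Subgroup.centralizer (B : Set Ω) ∧
      y ∈ Subgroup.centralizer ((Cfsg.powerClosure p 1 B : Subgroup Ω) : Set Ω) := by
  rw [thompsonSubgroupAOf_eq] at hJ
  have h1 : ∃ A ∈ famEl 0 S, ¬ A ≤ centralizer (B : Set Ω) := by
    by_contra hcon
    push Not at hcon
    exact hJ (sSup_le hcon)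
  obtain ⟨A, hA, hAC⟩ := h1
  have hBn : (B.subgroupOf S).Normal := (normal_subgroupOf_iff_le_normalizer hBS).mpr hSB
  have hA₀ : A.subgroupOf S ∈ famEl 0 (⊤ : Subgroup S) := by
    refine ⟨le_top, ⟨comm_subgroupOf hA.2.1.1, fun x _ => pow_zero x⟩, ?_⟩
    intro Y _ hYc
    have h1 : (∀ x ∈ Y.map S.subtype, ∀ y ∈ Y.map S.subtype, x * y = y * x) ∧
        ∀ x ∈ Y.map S.subtype, x ^ 0 = 1 :=
      ⟨comm_map_subtype hYc.1, fun x _ => pow_zero x⟩
    have := hA.2.2 _ (map_subtype_le Y) h1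
    rw [card_map_subtype] at this
    rw [card_subgroupOf_of_le hA.1]
    exact this
  have hBab' : ∀ x ∈ B.subgroupOf S, ∀ y ∈ B.subgroupOf S, x * y = y * x := comm_subgroupOf hBab
  have hAC' : ¬ A.subgroupOf S ≤ centralizer ((B.subgroupOf S : Subgroup S) : Set S) := by
    intro hle
    apply hAC
    intro a ha
    rw [mem_centralizer_iff]
    intro b hb
    have h2 : (⟨a, hA.1 ha⟩ : S) ∈ centralizer ((B.subgroupOf S : Subgroup S) : Set S) :=
      hle (mem_subgroupOf.mpr ha)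
    have h3 := mem_centralizer_iff.mp h2 ⟨b, hBS hb⟩ (mem_subgroupOf.mpr hb)
    exact congrArg Subtype.val h3
  obtain ⟨y, hy1, hy2⟩ := quad_elt_fin hS (B.subgroupOf S) hBab' (A.subgroupOf S) hA₀ hAC'
  refine ⟨y.1, y.2, ?_, ?_⟩
  · intro hyc
    apply hy1
    rw [mem_centralizer_iff]
    intro b hb
    apply Subtype.ext
    exact mem_centralizer_iff.mp hyc b.1 (mem_subgroupOf.mp hb)
  · have hle : Cfsg.powerClosure p 1 B ≤ centralizer ({y.1} : Set Ω) := by
      unfold Cfsg.powerClosure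
      rw [closure_le]
      rintro _ ⟨x, hx, rfl⟩
      rw [SetLike.mem_coe, mem_centralizer_iff]
      intro h hh
      rw [Set.mem_singleton_iff] at hh
      subst hh
      have hxp : (⟨x, hBS hx⟩ : S) ^ p ∈ pw p (B.subgroupOf S) := by
        apply Subgroup.subset_closure
        exact ⟨⟨x, hBS hx⟩, mem_subgroupOf.mpr hx, rfl⟩
      have h3 := mem_centralizer_iff.mp hy2 _ hxp
      have h4 := congrArg Subtype.val h3
      simpa using h4.symm
    rw [mem_centralizer_iff]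
    intro h hh
    exact (mem_centralizer_iff.mp (hle hh) y.1 rfl).symm

end Cfsg.Agent.Helper18.GenF
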