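import Cfsg.Agent.Helper18.PSL2S4b

set_option autoImplicit false

namespace Cfsg.Agent.Helper18.PSL2S4

open Matrix

variable {F : Type*} [Field F]

local notation "Mat" => Matrix (Fin 2) (Fin 2) F
local notation "SL" => Matrix.SpecialLinearGroup (Fin 2) F
local notation "PSL" => Matrix.ProjectiveSpecialLinearGroup (Fin 2) F

/-- in characteristic two, a determinant-one `2 × 2` matrix of order dividing 4 has order
dividing 2 -/
theorem sq_eq_one_of_pow_four (h20 : (2 : F) = 0) (M : Mat) (hdet : M.det = 1)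
    (h4 : M ^ 4 = 1) : M * M = 1 := by
  have hneg : (-1 : Mat) = 1 := by
    have : (2 : F) • (1 : Mat) = 0 := by rw [h20, zero_smul]
    rw [two_smul] at this
    exact (eq_neg_of_add_eq_zero_left this).symm
  have hc := PSL27.cayley_two M hdet
  by_cases ht : M.trace = 0
  · rw [hc, ht, zero_smul, zero_sub, hneg]
  · exfalso
    have hp := PSL27.pow_eq M hdet 4
    rw [h4] at hp
    set t := M.trace with htdef
    have ha : (PSL27.aSeq t 4).1 = t ^ 3 := by
      rw [PSL27.aSeq_four]; linear_combination (-t) * h20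
    have hb : (PSL27.aSeq t 4).2 = -(t ^ 2 - 1) := by
      simp [PSL27.aSeq]; ring
    rw [ha, hb] at hp
    have ht3 : t ^ 3 ≠ 0 := pow_ne_zero _ ht
    -- `M` is scalar
    have hM : M = ((t ^ 3)⁻¹ * t ^ 2) • (1 : Mat) := by
      have h1 : (t ^ 3) • M = (t ^ 2) • (1 : Mat) := by
        have : (t ^ 3) • M = 1 - (-(t ^ 2 - 1)) • (1 : Mat) := eq_sub_of_add_eq hp.symm
        rw [this, neg_smul, sub_neg_eq_add, sub_smul, one_smul]; abel
      calc M = (t ^ 3)⁻¹ • ((t ^ 3) • M) := by rw [smul_smul, inv_mul_cancel₀ ht3, one_smul]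
        _ = _ := by rw [h1, smul_smul]
    have htr : t = 0 := by
      have := congrArg Matrix.trace hM
      rw [Matrix.trace_smul, Matrix.trace_one, Fintype.card_fin, ← htdef] at this
      rw [this]
      simp only [Nat.cast_ofNat, smul_eq_mul]
      rw [h20, mul_zero]
    exact ht htr

section main

variable [Fintype F]

theorem s4_imp (H : Subgroup PSL) (e : H ≃* Equiv.Perm (Fin 4)) :
    Fintype.card F ^ 2 % 16 = 1 := by
  have hcardH : Nat.card H = 24 := by
    rw [Nat.card_congr e.toEquiv, Nat.card_eq_fintype_card, Fintype.card_perm, Fintype.card_fin]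
    rfl
  rcases Nat.even_or_odd (Fintype.card F) with heven | hodd
  · exfalso
    have hchar : ringChar F = 2 := FiniteField.even_card_iff_char_two.2 (Nat.even_iff.1 heven)
    have h20 : (2 : F) = 0 := by
      have := ringChar.Nat.cast_ringChar (R := F)
      rw [hchar] at this
      exact_mod_cast this
    let σ : Equiv.Perm (Fin 4) := Equiv.swap 0 1 * Equiv.swap 1 2 * Equiv.swap 2 3
    have hσ4 : σ ^ 4 = 1 := by decide
    have hσ2 : σ ^ 2 ≠ 1 := by decide
    set h := e.symm σ with hh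
    have hh4 : h ^ 4 = 1 := by rw [hh, ← map_pow, hσ4, map_one]
    have hh2 : h ^ 2 ≠ 1 := by
      rw [hh, ← map_pow]
      intro h1
      apply hσ2
      have := congrArg e h1
      rwa [MulEquiv.apply_symm_apply, map_one] at this
    obtain ⟨g, hg⟩ := QuotientGroup.mk_surjective (h : PSL)
    have hg4 : (QuotientGroup.mk (g ^ 4) : PSL) = 1 := by
      rw [QuotientGroup.mk_pow, hg, ← Subgroup.coe_pow, hh4]; rfl
    rw [QuotientGroup.eq_one_iff, Matrix.SpecialLinearGroup.mem_center_iff] at hg4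
    obtain ⟨t, ht, htg⟩ := hg4
    rw [Fintype.card_fin] at ht
    have ht1 : t = 1 := by
      have : (t - 1) * (t - 1) = 0 := by linear_combination ht + (1 - t) * h20
      have := mul_self_eq_zero.1 this
      linear_combination this
    have hM4 : (g : Mat) ^ 4 = 1 := by
      rw [← Matrix.SpecialLinearGroup.coe_pow, ← htg, ht1, map_one]
    have hM2 := sq_eq_one_of_pow_four h20 (g : Mat) g.det_coe hM4
    apply hh2
    apply Subtype.ext
    rw [Subgroup.coe_pow, ← hg, ← QuotientGroup.mk_pow]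
    have : g ^ 2 = 1 := by
      apply Subtype.ext
      rw [Matrix.SpecialLinearGroup.coe_pow, pow_two, hM2]; rfl
    rw [this]; rfl
  · have hq2 : 2 ≤ Fintype.card F := Fintype.one_lt_card
    have hc := PSL27.card_psl2 (F := F) (Fintype.card F) rfl hq2
    have hdvd : 24 ∣ Nat.card PSL := by
      rw [← hcardH]; exact Subgroup.card_subgroup_dvd_card H
    obtain ⟨m, hm⟩ := hodd
    have hm1 : 1 ≤ m := by omega
    rw [hm] at hc ⊢
    have e1 : 2 * m + 1 - 1 = 2 * m := by omega
    have e2 : (2 * m + 1) ^ 2 - 1 = 4 * m * (m + 1) := by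
      have : (2 * m + 1) ^ 2 = 4 * m * (m + 1) + 1 := by ring
      omega
    have e3 : (2 * m + 1) ^ 2 - (2 * m + 1) = (2 * m + 1) * (2 * m) := by
      have : (2 * m + 1) ^ 2 = (2 * m + 1) * (2 * m) + (2 * m + 1) := by ring
      omega
    have e4 : Nat.gcd 2 (2 * m) = 2 := Nat.gcd_eq_left (Dvd.intro _ rfl)
    rw [e1, e2, e3, e4] at hc
    have hN : Nat.card PSL = 2 * m * (m + 1) * (2 * m + 1) := by
      have h5 : Nat.card PSL * (4 * m) = (2 * m * (m + 1) * (2 * m + 1)) * (4 * m) := by
        rw [show Nat.card PSL * (4 * m) = Nat.card PSL * 2 * (2 * m) by ring, hc]; ring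
      exact Nat.eq_of_mul_eq_mul_right (by omega) h5
    rw [hN] at hdvd
    have h8 : 8 ∣ 2 * m * (m + 1) * (2 * m + 1) := Dvd.dvd.trans (by norm_num) hdvd
    have hcop : Nat.Coprime 8 (2 * m + 1) := by
      have : Nat.Coprime 2 (2 * m + 1) := by
        rw [Nat.coprime_two_left]
        exact ⟨m, rfl⟩
      exact Nat.Coprime.pow_left 3 this
    have h8' : 8 ∣ 2 * m * (m + 1) := hcop.dvd_of_dvd_mul_right h8
    obtain ⟨j, hj⟩ := h8'
    have : (2 * m + 1) ^ 2 = 16 * j + 1 := by
      have : (2 * m + 1) ^ 2 = 2 * (2 * m * (m + 1)) + 1 := by ring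
      rw [this, hj]; ring
    rw [this]; omega

theorem s4_iff {q : ℕ} (hF : Fintype.card F = q) :
    (∃ H : Subgroup PSL, Nonempty (H ≃* Equiv.Perm (Fin 4))) ↔ q ^ 2 % 16 = 1 := by
  subst hF
  constructor
  · rintro ⟨H, ⟨e⟩⟩
    exact s4_imp H e
  · exact exists_s4

end main

end Cfsg.Agent.Helper18.PSL2S4
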