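import Cfsg.Agent.Helper18.Dickson39
import Cfsg.Agent.Lead.PiHall
import Cfsg.Agent.S0802
import Cfsg.Agent.S0803

/-! Hall `{2,3}`-subgroups of `PSL₂(q)`, `p ≥ 5`: arithmetic lemmas. -/

set_option autoImplicit false

namespace Cfsg.Agent.Helper18.Hall23

theorem eight_dvd {q : ℕ} (hq : Odd q) : 8 ∣ q ^ 2 - 1 := by
  obtain ⟨k, rfl⟩ := hq
  have h1 : (2 * k + 1) ^ 2 - 1 = 4 * (k * (k + 1)) := by
    have : (2 * k + 1) ^ 2 = 4 * (k * (k + 1)) + 1 := by ring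
    omega
  rw [h1]
  have h2 : 2 ∣ k * (k + 1) := (Nat.even_mul_succ_self k).two_dvd
  obtain ⟨j, hj⟩ := h2
  exact ⟨j, by rw [hj]; ring⟩

theorem three_dvd {q : ℕ} (hq : ¬ 3 ∣ q) : 3 ∣ q ^ 2 - 1 := by
  have h3 : q % 3 = 1 ∨ q % 3 = 2 := by omega
  have h1 : q ^ 2 % 3 = 1 := by
    rw [Nat.pow_mod]
    rcases h3 with h | h <;> rw [h]
  omega

theorem prod_eq {q : ℕ} (hq : 1 ≤ q) : (q + 1) * ((q - 1) * q) = (q ^ 2 - 1) * q := by
  obtain ⟨m, rfl⟩ : ∃ m, q = m + 1 := ⟨q - 1, by omega⟩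
  have : (m + 1) ^ 2 - 1 = (m + 1 + 1) * (m + 1 - 1) := by
    have h : (m + 1) ^ 2 = (m + 1 + 1) * m + 1 := by ring
    simp only [Nat.add_sub_cancel]
    omega
  rw [this]; ring

theorem fact_eq {r N j : ℕ} (hr : r.Prime) (hN : N ≠ 0) (h1 : r ^ j ∣ N) (h2 : ¬ r ^ (j + 1) ∣ N) :
    N.factorization r = j := by
  have a := (hr.pow_dvd_iff_le_factorization hN).1 h1
  have b : ¬ j + 1 ≤ N.factorization r := fun h => h2 ((hr.pow_dvd_iff_le_factorization hN).2 h)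
  omega

theorem eq_24 {a b : ℕ} (h : 2 ^ a * 3 ^ b = 24) : a = 3 ∧ b = 1 := by
  have ha : a < 5 := by
    by_contra hge
    push Not at hge
    have h1 : 2 ^ 5 ≤ 2 ^ a := Nat.pow_le_pow_right (by norm_num) hge
    have h2 : 1 ≤ 3 ^ b := Nat.one_le_pow _ _ (by norm_num)
    have : 2 ^ 5 * 1 ≤ 2 ^ a * 3 ^ b := Nat.mul_le_mul h1 h2
    omega
  have hb : b < 3 := by
    by_contra hge
    push Not at hge
    have h1 : 3 ^ 3 ≤ 3 ^ b := Nat.pow_le_pow_right (by norm_num) hge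
    have h2 : 1 ≤ 2 ^ a := Nat.one_le_pow _ _ (by norm_num)
    have : 1 * 3 ^ 3 ≤ 2 ^ a * 3 ^ b := Nat.mul_le_mul h2 h1
    omega
  interval_cases a <;> interval_cases b <;> simp_all

theorem eq_48 {a b : ℕ} (h : 2 ^ a * 3 ^ b = 48) : a = 4 ∧ b = 1 := by
  have ha : a < 6 := by
    by_contra hge
    push Not at hge
    have h1 : 2 ^ 6 ≤ 2 ^ a := Nat.pow_le_pow_right (by norm_num) hge
    have h2 : 1 ≤ 3 ^ b := Nat.one_le_pow _ _ (by norm_num)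
    have : 2 ^ 6 * 1 ≤ 2 ^ a * 3 ^ b := Nat.mul_le_mul h1 h2
    omega
  have hb : b < 4 := by
    by_contra hge
    push Not at hge
    have h1 : 3 ^ 4 ≤ 3 ^ b := Nat.pow_le_pow_right (by norm_num) hge
    have h2 : 1 ≤ 2 ^ a := Nat.one_le_pow _ _ (by norm_num)
    have : 1 * 3 ^ 4 ≤ 2 ^ a * 3 ^ b := Nat.mul_le_mul h2 h1
    omega
  interval_cases a <;> interval_cases b <;> simp_all

/-- the cyclic / dihedral case -/
theorem cyc_dih_arith {q h idx g : ℕ} (hodd : Odd q) (hq3 : ¬ 3 ∣ q)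
    (hg : 2 * g = (q + 1) * ((q - 1) * q)) (hidx : h * idx = g) (h2 : ¬ 2 ∣ idx) (h3 : ¬ 3 ∣ idx)
    (hd : h ∣ q + 1 ∨ h ∣ q - 1) :
    (3 ∣ q - 1 ∧ q % 4 = 1) ∨ (3 ∣ q + 1 ∧ q % 4 = 3) := by
  have hq1 : 1 ≤ q := by obtain ⟨k, rfl⟩ := hodd; omega
  have hcop2 : Nat.Coprime 4 idx := by
    have : Nat.Coprime 2 idx := (Nat.Prime.coprime_iff_not_dvd Nat.prime_two).2 h2
    exact Nat.Coprime.pow_left 2 this
  have hcop3 : Nat.Coprime 3 idx := (Nat.Prime.coprime_iff_not_dvd Nat.prime_three).2 h3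
  -- `3 ∣ h`
  have h3g : 3 ∣ 2 * g := by
    rw [hg, prod_eq hq1]
    exact dvd_mul_of_dvd_left (three_dvd hq3) _
  have h3g' : 3 ∣ g := (Nat.Coprime.dvd_of_dvd_mul_left (by norm_num) h3g)
  have h3h : 3 ∣ h := by
    rw [← hidx] at h3g'
    exact hcop3.dvd_of_dvd_mul_right h3g'
  -- `4 ∣ h`
  have h4g : 4 ∣ g := by
    obtain ⟨k, rfl⟩ := hodd
    rcases Nat.even_or_odd k with ⟨j, hj⟩ | ⟨j, hj⟩
    · -- `q - 1 = 4 j`
      have e : (2 * k + 1 + 1) * ((2 * k + 1 - 1) * (2 * k + 1)) =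
          2 * (4 * ((k + 1) * j * (2 * k + 1))) := by
        simp only [Nat.add_sub_cancel]
        rw [hj]; ring
      rw [e] at hg
      exact ⟨(k + 1) * j * (2 * k + 1), by omega⟩
    · have e : (2 * k + 1 + 1) * ((2 * k + 1 - 1) * (2 * k + 1)) =
          2 * (4 * ((j + 1) * k * (2 * k + 1))) := by
        simp only [Nat.add_sub_cancel]
        rw [hj]; ring
      rw [e] at hg
      exact ⟨(j + 1) * k * (2 * k + 1), by omega⟩
  have h4h : 4 ∣ h := by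
    rw [← hidx] at h4g
    exact hcop2.dvd_of_dvd_mul_right h4g
  rcases hd with hd | hd
  · right
    have a := dvd_trans h3h hd
    have b := dvd_trans h4h hd
    exact ⟨a, by omega⟩
  · left
    have a := dvd_trans h3h hd
    have b := dvd_trans h4h hd
    exact ⟨a, by omega⟩

end Cfsg.Agent.Helper18.Hall23
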