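import Mathlib

set_option autoImplicit false
set_option linter.unusedSectionVars false

namespace Cfsg.Agent.Helper18

open Equiv MulAction
open scoped Pointwise

section
variable {ι α : Type*}

/-- coordinatewise permutation -/
def cPerm (π : ι → Perm α) : Perm (ι → α) where
  toFun x i := π i (x i)
  invFun x i := (π i).symm (x i)
  left_inv x := by funext i; simp
  right_inv x := by funext i; simp

/-- permutation of coordinates -/
def sPerm (ρ : Perm ι) : Perm (ι → α) where
  toFun x i := x (ρ i)
  invFun x i := x (ρ.symm i)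
  left_inv x := by funext i; simp
  right_inv x := by funext i; simp

@[simp] theorem cPerm_apply (π : ι → Perm α) (x : ι → α) (i : ι) : cPerm π x i = π i (x i) := rfl
@[simp] theorem sPerm_apply (ρ : Perm ι) (x : ι → α) (i : ι) : sPerm ρ x i = x (ρ i) := rfl

variable [Fintype ι] [DecidableEq α]

/-- The group of Hamming isometries of `ι → α`. -/
def hammingIso (ι α : Type*) [Fintype ι] [DecidableEq α] : Subgroup (Perm (ι → α)) where
  carrier := {σ | ∀ x y, hammingDist (σ x) (σ y) = hammingDist x y}
  one_mem' := fun x y => rfl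
  mul_mem' := by
    intro σ τ hσ hτ x y
    rw [Perm.mul_apply, Perm.mul_apply, hσ, hτ]
  inv_mem' := by
    intro σ hσ x y
    have := hσ (σ⁻¹ x) (σ⁻¹ y)
    have e1 : σ (σ⁻¹ x) = x := by simp
    have e2 : σ (σ⁻¹ y) = y := by simp
    rw [e1, e2] at this
    exact this.symm

theorem mem_hammingIso (σ : Perm (ι → α)) :
    σ ∈ hammingIso ι α ↔ ∀ x y, hammingDist (σ x) (σ y) = hammingDist x y := Iff.rfl

theorem cPerm_mem (π : ι → Perm α) : cPerm π ∈ hammingIso ι α := by
  intro x y
  exact hammingDist_comp (fun i => π i) (fun i => (π i).injective)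

theorem sPerm_mem (ρ : Perm ι) : sPerm (α := α) ρ ∈ hammingIso ι α := by
  intro x y
  show hammingDist (fun i => x (ρ i)) (fun i => y (ρ i)) = hammingDist x y
  unfold hammingDist
  apply Finset.card_bij (fun i _ => ρ i)
  · intro i hi
    rw [Finset.mem_filter] at hi ⊢
    exact ⟨Finset.mem_univ _, hi.2⟩
  · intro i _ k _ h
    exact ρ.injective h
  · intro k hk
    rw [Finset.mem_filter] at hk
    refine ⟨ρ.symm k, ?_, by simp⟩
    rw [Finset.mem_filter]
    refine ⟨Finset.mem_univ _, ?_⟩
    simpa using hk.2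

variable [DecidableEq ι]

/-- swap two values at a single coordinate -/
def swapAt (i : ι) (u v : α) : Perm (ι → α) :=
  cPerm (fun k => if k = i then Equiv.swap u v else 1)

theorem swapAt_mem (i : ι) (u v : α) : swapAt i u v ∈ hammingIso ι α := cPerm_mem _

omit [Fintype ι] in
theorem swapAt_apply (i : ι) (u v : α) (x : ι → α) (k : ι) :
    swapAt i u v x k = if k = i then Equiv.swap u v (x k) else x k := by
  unfold swapAt
  rw [cPerm_apply]
  split_ifs <;> rfl

/-- `swapAt i u v` fixes `x` when `x i ∉ {u, v}`. -/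
theorem swapAt_fix (i : ι) (u v : α) (x : ι → α) (h1 : x i ≠ u) (h2 : x i ≠ v) :
    swapAt i u v x = x := by
  funext k
  rw [swapAt_apply]
  split_ifs with h
  · subst h; exact Equiv.swap_apply_of_ne_of_ne h1 h2
  · rfl

/-- `swapAt i u v` sends `x` with `x i = u` to `update x i v`. -/
theorem swapAt_move (i : ι) (u v : α) (x : ι → α) (h1 : x i = u) :
    swapAt i u v x = Function.update x i v := by
  funext k
  rw [swapAt_apply, Function.update_apply]
  split_ifs with h
  · subst h; rw [h1]; exact Equiv.swap_apply_left u v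
  · rfl

theorem hamming_block_univ (h3 : ∀ u v : α, ∃ c, c ≠ u ∧ c ≠ v) (a₀ : α) (B : Set (ι → α))
    (hB : IsBlock (hammingIso ι α) B) (ha : (fun _ => a₀) ∈ B) (y : ι → α) (hy : y ∈ B)
    (hya : y ≠ fun _ => a₀) : B = Set.univ := by
  obtain ⟨a, hadef⟩ : ∃ a : ι → α, a = fun _ => a₀ := ⟨_, rfl⟩
  have hak : ∀ k, a k = a₀ := fun k => by rw [hadef]
  rw [← hadef] at ha hya
  have hmove : ∀ σ ∈ hammingIso ι α, ∀ p ∈ B, σ p ∈ B → ∀ b ∈ B, σ b ∈ B := by
    intro σ hσ p hp hσp b hb
    have h1 : (⟨σ, hσ⟩ : hammingIso ι α) • B = B := hB.smul_eq_of_mem hp hσp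
    rw [← h1]
    exact ⟨b, hb, rfl⟩
  -- Step 1
  obtain ⟨i, hi⟩ : ∃ i, y i ≠ a₀ := by
    by_contra hcon
    push Not at hcon
    exact hya (funext fun k => by rw [hcon k, hak k])
  obtain ⟨c, hca, hcy⟩ := h3 a₀ (y i)
  have hy' : Function.update y i c ∈ B := by
    have := hmove (swapAt i (y i) c) (swapAt_mem _ _ _) a ha
      (by rw [swapAt_fix _ _ _ _ (by rw [hak]; exact Ne.symm hi) (by rw [hak]; exact Ne.symm hca)]
          exact ha) y hy
    rwa [swapAt_move _ _ _ _ rfl] at this
  have hz₁ : Function.update a i c ∈ B := by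
    have h1 : cPerm (fun k => Equiv.swap a₀ (y k)) a = y := by
      funext k
      rw [cPerm_apply, hak]; exact Equiv.swap_apply_left _ _
    have h2 : cPerm (fun k => Equiv.swap a₀ (y k)) (Function.update y i c) =
        Function.update a i c := by
      funext k
      rw [cPerm_apply, Function.update_apply, Function.update_apply]
      split_ifs with h
      · subst h; exact Equiv.swap_apply_of_ne_of_ne hca hcy
      · rw [hak]; exact Equiv.swap_apply_right _ _
    have := hmove _ (cPerm_mem (fun k => Equiv.swap a₀ (y k))) a ha (by rw [h1]; exact hy) _ hy'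
    rwa [h2] at this
  -- Step 2
  have hsame : ∀ (k : ι) (c₁ : α), c₁ ≠ a₀ → Function.update a k c₁ ∈ B →
      ∀ c', Function.update a k c' ∈ B := by
    intro k c₁ hc₁ hmem c'
    by_cases h : c' = a₀
    · rw [h, ← hak k, Function.update_eq_self]; exact ha
    · have := hmove (swapAt k c₁ c') (swapAt_mem _ _ _) a ha
        (by rw [swapAt_fix _ _ _ _ (by rw [hak]; exact Ne.symm hc₁) (by rw [hak]; exact Ne.symm h)]
            exact ha) _ hmem
      rwa [swapAt_move _ _ _ _ (Function.update_self k c₁ a), Function.update_idem] at this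
  -- Step 3
  have hcoord : ∀ (k : ι) (c' : α), Function.update a k c' ∈ B := by
    intro k c'
    apply hsame k c hca _ c'
    have h1 : sPerm (Equiv.swap i k) a = a := by
      funext l; rw [sPerm_apply, hak, hak]
    have h2 : sPerm (Equiv.swap i k) (Function.update a i c) = Function.update a k c := by
      funext l
      rw [sPerm_apply, Function.update_apply, Function.update_apply, hak, hak]
      by_cases hlk : l = k
      · subst hlk; rw [Equiv.swap_apply_right]; simp
      · rw [if_neg hlk]
        by_cases hli : l = i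
        · subst hli
          rw [Equiv.swap_apply_left, if_neg (Ne.symm hlk)]
        · rw [Equiv.swap_apply_of_ne_of_ne hli hlk, if_neg hli]
    have := hmove _ (sPerm_mem (α := α) (Equiv.swap i k)) a ha (by rw [h1]; exact ha) _ hz₁
    rwa [h2] at this
  -- Step 4
  have hall : ∀ (S : Finset ι) (x : ι → α), (∀ k, k ∉ S → x k = a₀) → x ∈ B := by
    intro S
    induction S using Finset.induction_on with
    | empty =>
      intro x hx
      have : x = a := funext fun k => by rw [hx k (Finset.notMem_empty k), hak]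
      rw [this]; exact ha
    | insert k S hk ih =>
      intro x hx
      have hx' : Function.update x k a₀ ∈ B := by
        apply ih
        intro l hl
        rw [Function.update_apply]
        split_ifs with e
        · rfl
        · exact hx l (by rw [Finset.mem_insert]; push Not; exact ⟨e, hl⟩)
      by_cases hxk : x k = a₀
      · rw [← hxk, Function.update_eq_self] at hx'; exact hx'
      · have h1 : swapAt k a₀ (x k) a = Function.update a k (x k) :=
          swapAt_move _ _ _ _ (hak k)
        have := hmove (swapAt k a₀ (x k)) (swapAt_mem _ _ _) a ha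
          (by rw [h1]; exact hcoord k (x k)) _ hx'
        rwa [swapAt_move _ _ _ _ (Function.update_self k a₀ x), Function.update_idem,
          Function.update_eq_self] at this
  rw [Set.eq_univ_iff_forall]
  intro x
  exact hall Finset.univ x (fun k hk => absurd (Finset.mem_univ k) hk)

theorem hammingIso_isPretransitive : IsPretransitive (hammingIso ι α) (ι → α) :=
  ⟨fun x y => ⟨⟨cPerm (fun k => Equiv.swap (x k) (y k)), cPerm_mem _⟩,
    funext fun k => Equiv.swap_apply_left _ _⟩⟩

theorem hammingIso_isPreprimitive (h3 : ∀ u v : α, ∃ c, c ≠ u ∧ c ≠ v) (a₀ : α) :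
    IsPreprimitive (hammingIso ι α) (ι → α) := by
  have := hammingIso_isPretransitive (ι := ι) (α := α)
  apply IsPreprimitive.of_isTrivialBlock_base (fun _ => a₀)
  intro B ha hB
  by_cases h : ∃ y ∈ B, y ≠ fun _ => a₀
  · obtain ⟨y, hy, hya⟩ := h
    right
    exact hamming_block_univ h3 a₀ B hB ha y hy hya
  · left
    push Not at h
    intro x hx y hy
    rw [h x hx, h y hy]

theorem hammingIso_not_two_transitive (i₀ i₁ : ι) (hne : i₀ ≠ i₁) (a₀ c : α) (hc : c ≠ a₀) :
    ¬ (∀ a b c d : ι → α, a ≠ b → c ≠ d → ∃ σ ∈ hammingIso ι α, σ a = c ∧ σ b = d) := by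
  intro h
  obtain ⟨a, hadef⟩ : ∃ a : ι → α, a = fun _ => a₀ := ⟨_, rfl⟩
  have hak : ∀ k, a k = a₀ := fun k => by rw [hadef]
  obtain ⟨b, hb⟩ : ∃ b : ι → α, b = Function.update a i₀ c := ⟨_, rfl⟩
  obtain ⟨b', hb'⟩ : ∃ b' : ι → α, b' = Function.update b i₁ c := ⟨_, rfl⟩
  have hbi₀ : b i₀ = c := by rw [hb, Function.update_self]
  have hb'i₁ : b' i₁ = c := by rw [hb', Function.update_self]
  have hb'i₀ : b' i₀ = c := by rw [hb', Function.update_of_ne hne, hbi₀]
  have hab : a ≠ b := fun e => hc (by rw [← hbi₀, ← e, hak])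
  have hab' : a ≠ b' := fun e => hc (by rw [← hb'i₁, ← e, hak])
  obtain ⟨σ, hσ, hσa, hσb⟩ := h a b a b' hab hab'
  have h1 : hammingDist a b = hammingDist a b' := by
    rw [← hσ a b, hσa, hσb]
  have h2 : hammingDist a b ≤ 1 := by
    unfold hammingDist
    rw [Finset.card_le_one]
    intro k hk l hl
    rw [Finset.mem_filter] at hk hl
    have hk' : k = i₀ := by
      by_contra hki
      apply hk.2
      rw [hb, Function.update_of_ne hki]
    have hl' : l = i₀ := by
      by_contra hli
      apply hl.2
      rw [hb, Function.update_of_ne hli]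
    rw [hk', hl']
  have h3 : 1 < hammingDist a b' := by
    unfold hammingDist
    rw [Finset.one_lt_card]
    refine ⟨i₀, ?_, i₁, ?_, hne⟩
    · rw [Finset.mem_filter]
      exact ⟨Finset.mem_univ _, by rw [hak, hb'i₀]; exact Ne.symm hc⟩
    · rw [Finset.mem_filter]
      exact ⟨Finset.mem_univ _, by rw [hak, hb'i₁]; exact Ne.symm hc⟩
  omega

end

end Cfsg.Agent.Helper18
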