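import Mathlib
import Cfsg.Agent.Helper18.HammingPrim

set_option autoImplicit false
set_option linter.unusedSectionVars false

namespace Cfsg.Agent.Helper18

open Equiv MulAction

section
variable {ι : Type*} (F : ι → Type*) [∀ i, Group (F i)] {α : Type*} (β : ∀ i, F i ≃ α)

/-- action of the product group on `ι → α` through bijections `F i ≃ α` -/
def prodAct : (∀ i, F i) →* Perm (ι → α) where
  toFun k := cPerm (fun i => ((β i).symm.trans (Equiv.mulLeft (k i))).trans (β i))
  map_one' := by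
    ext x i
    simp
  map_mul' k k' := by
    ext x i
    simp [mul_assoc]

theorem prodAct_apply (k : ∀ i, F i) (x : ι → α) (i : ι) :
    prodAct F β k x i = β i (k i * (β i).symm (x i)) := rfl

theorem prodAct_free (k : ∀ i, F i) (x : ι → α) (h : prodAct F β k x = x) : k = 1 := by
  funext i
  have h1 := congrFun h i
  rw [prodAct_apply] at h1
  have h2 : k i * (β i).symm (x i) = (β i).symm (x i) := by
    apply (β i).injective
    rw [h1, Equiv.apply_symm_apply]
  exact mul_eq_right.mp h2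

theorem prodAct_injective [Nonempty α] : Function.Injective (prodAct F β) := by
  rw [injective_iff_map_eq_one]
  intro k hk
  obtain ⟨a⟩ := (inferInstance : Nonempty α)
  apply prodAct_free F β k (fun _ => a)
  rw [hk]; rfl

theorem prodAct_transitive (x y : ι → α) : ∃ k : ∀ i, F i, prodAct F β k x = y := by
  refine ⟨fun i => (β i).symm (y i) * ((β i).symm (x i))⁻¹, ?_⟩
  funext i
  rw [prodAct_apply, inv_mul_cancel_right, Equiv.apply_symm_apply]

theorem prodAct_mem [Fintype ι] [DecidableEq α] (k : ∀ i, F i) :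
    prodAct F β k ∈ hammingIso ι α := cPerm_mem _

end

theorem bgroup_main {K : Type*} [Group K] [Finite K] {ι : Type*} [Fintype ι] (F : ι → Type*)
    [∀ i, Group (F i)] (hr : 2 ≤ Fintype.card ι) (m : ℕ) (hm : 3 ≤ m)
    (hcard : ∀ i, Nat.card (F i) = m) (e : K ≃* (∀ i, F i)) :
    ∃ (n : ℕ) (G R : Subgroup (Equiv.Perm (Fin n))), R ≤ G ∧ Nonempty (↥R ≃* K) ∧
      MulAction.IsPretransitive ↥R (Fin n) ∧ (∀ a : Fin n, MulAction.stabilizer ↥R a = ⊥) ∧
      MulAction.IsPreprimitive ↥G (Fin n) ∧ ¬ MulAction.IsMultiplyPretransitive ↥G (Fin n) 2 := by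
  classical
  have hfin : ∀ i, Finite (F i) := fun i =>
    Nat.finite_of_card_ne_zero (by rw [hcard i]; omega)
  let β : ∀ i, F i ≃ Fin m := fun i => Finite.equivFinOfCardEq (hcard i)
  have : NeZero m := ⟨by omega⟩
  have : Nonempty (Fin m) := ⟨0⟩
  obtain ⟨n, hn⟩ : ∃ n : ℕ, n = Fintype.card (ι → Fin m) := ⟨_, rfl⟩
  let ε : (ι → Fin m) ≃ Fin n := (Fintype.equivFin (ι → Fin m)).trans (finCongr hn.symm)
  let Φ : Perm (ι → Fin m) ≃* Perm (Fin n) := ε.permCongrHom
  have hΦ : ∀ (σ : Perm (ι → Fin m)) (u : Fin n), Φ σ u = ε (σ (ε.symm u)) := fun σ u => rfl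
  let θ : K →* Perm (ι → Fin m) := (prodAct F β).comp e.toMonoidHom
  have hθinj : Function.Injective θ :=
    (prodAct_injective F β).comp e.injective
  obtain ⟨R₀, hR₀⟩ : ∃ R₀ : Subgroup (Perm (ι → Fin m)), R₀ = θ.range := ⟨_, rfl⟩
  have hR₀G₀ : R₀ ≤ hammingIso ι (Fin m) := by
    rw [hR₀]
    rintro _ ⟨k, rfl⟩
    exact prodAct_mem F β _
  refine ⟨n, (hammingIso ι (Fin m)).map Φ.toMonoidHom, R₀.map Φ.toMonoidHom,
    Subgroup.map_mono hR₀G₀, ?_, ?_, ?_, ?_, ?_⟩
  · -- R ≃* K
    have e1 : K ≃* R₀ := by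
      rw [hR₀]; exact MonoidHom.ofInjective hθinj
    have e2 : R₀ ≃* R₀.map Φ.toMonoidHom := Subgroup.equivMapOfInjective R₀ _ Φ.injective
    exact ⟨(e1.trans e2).symm⟩
  · -- transitive
    refine ⟨fun u v => ?_⟩
    obtain ⟨k, hk⟩ := prodAct_transitive F β (ε.symm u) (ε.symm v)
    refine ⟨⟨Φ (θ (e.symm k)), Subgroup.mem_map_of_mem _ (by rw [hR₀]; exact ⟨_, rfl⟩)⟩, ?_⟩
    show Φ (θ (e.symm k)) u = v
    rw [hΦ]
    have : θ (e.symm k) = prodAct F β k := by
      show prodAct F β (e (e.symm k)) = _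
      rw [MulEquiv.apply_symm_apply]
    rw [this, hk, Equiv.apply_symm_apply]
  · -- free
    intro a
    rw [eq_bot_iff]
    rintro ⟨g, hg⟩ hstab
    rw [Subgroup.mem_bot]
    apply Subtype.ext
    obtain ⟨σ, hσ, rfl⟩ := hg
    rw [hR₀] at hσ
    obtain ⟨k, rfl⟩ := hσ
    have h1 : Φ (θ k) a = a := hstab
    rw [hΦ] at h1
    have h2 : θ k (ε.symm a) = ε.symm a := by
      apply ε.injective; rw [h1, Equiv.apply_symm_apply]
    have h3 : e k = 1 := prodAct_free F β (e k) _ h2
    have h4 : k = 1 := by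
      have := congrArg e.symm h3
      simpa using this
    show Φ (θ k) = 1
    rw [h4, map_one, map_one]
  · -- primitive
    obtain ⟨u₀, v₀, w₀, h01, h02, h12⟩ : ∃ u v w : Fin m, u ≠ v ∧ u ≠ w ∧ v ≠ w := by
      have : 2 < Fintype.card (Fin m) := by rw [Fintype.card_fin]; omega
      exact Fintype.two_lt_card_iff.mp this
    have h3 : ∀ u v : Fin m, ∃ c, c ≠ u ∧ c ≠ v := by
      intro u v
      by_contra hcon
      push Not at hcon
      have hsub : (Finset.univ : Finset (Fin m)) ⊆ {u, v} := by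
        intro c _
        rw [Finset.mem_insert, Finset.mem_singleton]
        by_cases h : c = u
        · left; exact h
        · right; exact hcon c h
      have := Finset.card_le_card hsub
      have h2 : ({u, v} : Finset (Fin m)).card ≤ 2 := Finset.card_le_two
      rw [Finset.card_univ, Fintype.card_fin] at this
      omega
    have hprim := hammingIso_isPreprimitive (ι := ι) h3 u₀
    let φ : hammingIso ι (Fin m) → (hammingIso ι (Fin m)).map Φ.toMonoidHom :=
      fun σ => ⟨Φ σ, Subgroup.mem_map_of_mem _ σ.2⟩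
    let f : (ι → Fin m) →ₑ[φ] Fin n :=
      { toFun := ε
        map_smul' := by
          intro σ x
          show ε ((σ : Perm (ι → Fin m)) x) = Φ σ (ε x)
          rw [hΦ, Equiv.symm_apply_apply] }
    exact IsPreprimitive.of_surjective (f := f) ε.surjective
  · -- not 2-transitive
    intro h2
    rw [MulAction.is_two_pretransitive_iff] at h2
    obtain ⟨i₀, i₁, hne⟩ := Fintype.one_lt_card_iff.mp (by omega : 1 < Fintype.card ι)
    obtain ⟨u₀, v₀, h01⟩ : ∃ u v : Fin m, u ≠ v := by
      have : 1 < Fintype.card (Fin m) := by rw [Fintype.card_fin]; omega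
      exact Fintype.one_lt_card_iff.mp this
    apply hammingIso_not_two_transitive i₀ i₁ hne u₀ v₀ (Ne.symm h01)
    intro a b c d hab hcd
    obtain ⟨⟨g, hg⟩, hg1, hg2⟩ := h2 (ε.injective.ne hab) (ε.injective.ne hcd)
    obtain ⟨σ, hσ, rfl⟩ := hg
    refine ⟨σ, hσ, ?_, ?_⟩
    · have : Φ σ (ε a) = ε c := hg1
      rw [hΦ, Equiv.symm_apply_apply] at this
      exact ε.injective this
    · have : Φ σ (ε b) = ε d := hg2
      rw [hΦ, Equiv.symm_apply_apply] at this
      exact ε.injective this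

end Cfsg.Agent.Helper18
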