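import Mathlib
import Cfsg.Prelude.Def_Transfer
import Cfsg.Agent.Helper14.Frattini
import Cfsg.Agent.Helper1.PGroup

set_option autoImplicit false

namespace Cfsg.Agent.Helper18

open scoped commutatorElement

/-- abstract Heisenberg coordinates (vector version) on a group -/
structure HeisCoordN (F : Type*) [Field F] (n : ℕ) (G : Type*) [Group G] where
  h : (Fin n → F) → F → (Fin n → F) → G
  mul : ∀ b x y b' x' y', h b x y * h b' x' y' = h (b + b') (x + x' + b ⬝ᵥ y') (y + y')
  surj : ∀ g, ∃ b x y, g = h b x y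
  inj : ∀ b x y b' x' y', h b x y = h b' x' y' → b = b' ∧ x = x' ∧ y = y'

namespace HeisCoordN

variable {F : Type*} [Field F] {n : ℕ} {G : Type*} [Group G]

theorem one (H : HeisCoordN F n G) : H.h 0 0 0 = 1 := by
  have := H.mul 0 0 0 0 0 0
  simp only [add_zero, zero_dotProduct] at this
  exact mul_eq_left.mp this

theorem pow (H : HeisCoordN F n G) (b : Fin n → F) (x : F) (y : Fin n → F) (k : ℕ) :
    H.h b x y ^ k = H.h (k • b) (k * x + (k.choose 2 : ℕ) * (b ⬝ᵥ y)) (k • y) := by
  induction k with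
  | zero => simp [H.one]
  | succ k ih =>
    rw [pow_succ, ih, H.mul]
    have hc : ((k + 1).choose 2 : ℕ) = k.choose 2 + k := by
      rw [Nat.choose_succ_succ' k 1, Nat.choose_one_right]; ring
    congr 1
    · rw [succ_nsmul]
    · rw [hc, smul_dotProduct, nsmul_eq_mul]; push_cast; ring
    · rw [succ_nsmul]

theorem commutator (H : HeisCoordN F n G) (b : Fin n → F) (x : F) (y : Fin n → F)
    (b' : Fin n → F) (x' : F) (y' : Fin n → F) :
    ⁅H.h b x y, H.h b' x' y'⁆ = H.h 0 (b ⬝ᵥ y' - b' ⬝ᵥ y) 0 := by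
  have h1 : H.h b x y * H.h b' x' y' =
      H.h 0 (b ⬝ᵥ y' - b' ⬝ᵥ y) 0 * (H.h b' x' y' * H.h b x y) := by
    rw [H.mul, H.mul, H.mul]
    congr 1
    · rw [zero_add, add_comm]
    · rw [zero_dotProduct]; ring
    · rw [zero_add, add_comm]
  rw [commutatorElement_def, mul_assoc, ← mul_inv_rev, h1, mul_inv_cancel_right]

theorem mem_center_iff (H : HeisCoordN F n G) (g : G) :
    g ∈ Subgroup.center G ↔ ∃ x, g = H.h 0 x 0 := by
  rw [Subgroup.mem_center_iff]
  constructor
  · intro hg
    obtain ⟨b, x, y, rfl⟩ := H.surj g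
    have hb : b = 0 := by
      rw [← dotProduct_eq_zero_iff]
      intro w
      have h1 := hg (H.h 0 0 w)
      rw [H.mul, H.mul] at h1
      obtain ⟨-, h1, -⟩ := H.inj _ _ _ _ _ _ h1
      rw [zero_dotProduct] at h1
      linear_combination -h1
    have hy : y = 0 := by
      rw [← dotProduct_eq_zero_iff]
      intro w
      have h2 := hg (H.h w 0 0)
      rw [H.mul, H.mul] at h2
      obtain ⟨-, h2, -⟩ := H.inj _ _ _ _ _ _ h2
      rw [dotProduct_zero, dotProduct_comm] at h2
      linear_combination h2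
    exact ⟨x, by rw [hb, hy]⟩
  · rintro ⟨x, rfl⟩ g
    obtain ⟨b', x', y', rfl⟩ := H.surj g
    rw [H.mul, H.mul]
    congr 1
    · rw [add_comm]
    · rw [zero_dotProduct, dotProduct_zero]; ring
    · rw [add_comm]

/-- the coordinate equivalence -/
noncomputable def equiv (H : HeisCoordN F n G) : (Fin n → F) × F × (Fin n → F) ≃ G :=
  Equiv.ofBijective (fun t => H.h t.1 t.2.1 t.2.2)
    ⟨by
      rintro ⟨b, x, y⟩ ⟨b', x', y'⟩ h
      obtain ⟨h1, h2, h3⟩ := H.inj _ _ _ _ _ _ h
      simp only at h1 h2 h3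
      rw [h1, h2, h3],
     by
      intro g
      obtain ⟨b, x, y, rfl⟩ := H.surj g
      exact ⟨(b, x, y), rfl⟩⟩

/-- the centre equivalence -/
noncomputable def centerEquiv (H : HeisCoordN F n G) : F ≃ Subgroup.center G :=
  Equiv.ofBijective (fun x => ⟨H.h 0 x 0, (H.mem_center_iff _).2 ⟨x, rfl⟩⟩)
    ⟨by
      intro x x' h
      have h' := congrArg Subtype.val h
      exact (H.inj _ _ _ _ _ _ h').2.1,
     by
      rintro ⟨g, hg⟩
      obtain ⟨x, rfl⟩ := (H.mem_center_iff g).1 hg
      exact ⟨x, rfl⟩⟩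

theorem commutator_eq_center (H : HeisCoordN F n G) (hn : 1 ≤ n) :
    _root_.commutator G = Subgroup.center G := by
  apply le_antisymm
  · rw [_root_.commutator_def, Subgroup.commutator_le]
    intro g₁ _ g₂ _
    obtain ⟨b, x, y, rfl⟩ := H.surj g₁
    obtain ⟨b', x', y', rfl⟩ := H.surj g₂
    rw [H.commutator, H.mem_center_iff]
    exact ⟨_, rfl⟩
  · intro g hg
    obtain ⟨x, rfl⟩ := (H.mem_center_iff g).1 hg
    let i₀ : Fin n := ⟨0, hn⟩
    have : H.h 0 x 0 = ⁅H.h (Pi.single i₀ x) 0 0, H.h 0 0 (Pi.single i₀ 1)⁆ := by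
      rw [H.commutator]; congr 1
      rw [single_dotProduct, Pi.single_eq_same, zero_dotProduct]; ring
    rw [this, _root_.commutator_def]
    exact Subgroup.commutator_mem_commutator (Subgroup.mem_top _) (Subgroup.mem_top _)

section zmod

variable {p : ℕ} [hp : Fact p.Prime]

theorem card (K : HeisCoordN (ZMod p) n G) : Nat.card G = p ^ (1 + 2 * n) := by
  rw [← Nat.card_congr K.equiv, Nat.card_prod, Nat.card_prod, Nat.card_fun, Nat.card_zmod,
    Nat.card_fin]; ring

theorem card_center (K : HeisCoordN (ZMod p) n G) : Nat.card (Subgroup.center G) = p := by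
  rw [← Nat.card_congr K.centerEquiv, Nat.card_zmod]

theorem finite (K : HeisCoordN (ZMod p) n G) : Finite G := Nat.finite_of_card_ne_zero (by
  rw [K.card]; exact pow_ne_zero _ hp.out.ne_zero)

theorem pow_p (K : HeisCoordN (ZMod p) n G) (hp2 : p ≠ 2) (g : G) : g ^ p = 1 := by
  obtain ⟨b, x, y, rfl⟩ := K.surj g
  rw [K.pow]
  have h0 : ((p : ℕ) : ZMod p) = 0 := ZMod.natCast_self p
  have hc : ((p.choose 2 : ℕ) : ZMod p) = 0 := by
    rw [ZMod.natCast_eq_zero_iff]
    apply hp.out.dvd_choose_self (by norm_num)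
    have := hp.out.two_le
    omega
  have hv : ∀ v : Fin n → ZMod p, p • v = 0 := by
    intro v; ext i; simp [nsmul_eq_mul, h0]
  rw [h0, hc, zero_mul, zero_mul, add_zero, hv, hv, K.one]

theorem isPGroup (K : HeisCoordN (ZMod p) n G) (hp2 : p ≠ 2) : IsPGroup p G :=
  fun g => ⟨1, by rw [pow_one]; exact K.pow_p hp2 g⟩

theorem isExtraspecial (K : HeisCoordN (ZMod p) n G) (hp2 : p ≠ 2) (hn : 1 ≤ n) :
    Cfsg.IsExtraspecial p G := by
  have := K.finite
  refine ⟨⟨K.isPGroup hp2, ?_, K.commutator_eq_center hn⟩, K.card_center⟩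
  apply le_antisymm
  · apply Helper14.frattini_le_of_elemAb p
    · intro a b
      rw [← K.commutator_eq_center hn, _root_.commutator_def]
      exact Subgroup.commutator_mem_commutator (Subgroup.mem_top _) (Subgroup.mem_top _)
    · intro a
      rw [K.pow_p hp2]; exact Subgroup.one_mem _
  · rw [← K.commutator_eq_center hn]
    exact Helper1.IsPGroup.commutator_le_frattini (K.isPGroup hp2)

end zmod

end HeisCoordN

end Cfsg.Agent.Helper18
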