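import Cfsg.Agent.Helper18.HeisN

set_option autoImplicit false

namespace Cfsg.Agent.Helper18

section

variable {F : Type*} [Field F] {n : ℕ}

/-- the ambient space `F × Fⁿ × F` -/
abbrev HeisV (F : Type*) [Field F] (n : ℕ) : Type _ := F × (Fin n → F) × F

/-- the Heisenberg linear map -/
def heisLin (b : Fin n → F) (x : F) (y : Fin n → F) : HeisV F n →ₗ[F] HeisV F n where
  toFun t := (t.1 + b ⬝ᵥ t.2.1 + x * t.2.2, t.2.1 + t.2.2 • y, t.2.2)
  map_add' s t := by
    ext
    · simp only [Prod.fst_add, Prod.snd_add, dotProduct_add]; ring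
    · simp only [Prod.fst_add, Prod.snd_add, Pi.add_apply, Pi.smul_apply, smul_eq_mul]; ring
    · simp
  map_smul' c t := by
    ext
    · simp only [Prod.smul_fst, Prod.smul_snd, dotProduct_smul, smul_eq_mul, RingHom.id_apply]; ring
    · simp only [Prod.smul_fst, Prod.smul_snd, Pi.add_apply, Pi.smul_apply, smul_eq_mul,
        RingHom.id_apply]; ring
    · simp

theorem heisLin_apply (b : Fin n → F) (x : F) (y : Fin n → F) (t : HeisV F n) :
    heisLin b x y t = (t.1 + b ⬝ᵥ t.2.1 + x * t.2.2, t.2.1 + t.2.2 • y, t.2.2) := rfl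

theorem heisLin_mul (b : Fin n → F) (x : F) (y : Fin n → F) (b' : Fin n → F) (x' : F)
    (y' : Fin n → F) :
    heisLin b x y * heisLin b' x' y' = heisLin (b + b') (x + x' + b ⬝ᵥ y') (y + y') := by
  apply LinearMap.ext
  intro t
  rw [Module.End.mul_apply, heisLin_apply, heisLin_apply, heisLin_apply]
  ext
  · simp only [dotProduct_add, add_dotProduct, dotProduct_smul, smul_eq_mul]; ring
  · simp only [Pi.add_apply, Pi.smul_apply, smul_eq_mul]; ring
  · rfl

theorem heisLin_zero : heisLin (0 : Fin n → F) 0 0 = 1 := by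
  apply LinearMap.ext
  intro t
  rw [heisLin_apply]
  ext <;> simp

/-- the Heisenberg unit -/
def heisUnit (b : Fin n → F) (x : F) (y : Fin n → F) :
    LinearMap.GeneralLinearGroup F (HeisV F n) where
  val := heisLin b x y
  inv := heisLin (-b) (-x + b ⬝ᵥ y) (-y)
  val_inv := by
    rw [heisLin_mul, ← heisLin_zero]; congr 1
    · simp
    · simp
    · simp
  inv_val := by
    rw [heisLin_mul, ← heisLin_zero]; congr 1
    · simp
    · simp
    · simp

theorem heisUnit_mul (b : Fin n → F) (x : F) (y : Fin n → F) (b' : Fin n → F) (x' : F)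
    (y' : Fin n → F) :
    heisUnit b x y * heisUnit b' x' y' = heisUnit (b + b') (x + x' + b ⬝ᵥ y') (y + y') :=
  Units.ext (heisLin_mul b x y b' x' y')

theorem heisUnit_zero : heisUnit (0 : Fin n → F) 0 0 = 1 := Units.ext heisLin_zero

theorem heisUnit_inv (b : Fin n → F) (x : F) (y : Fin n → F) :
    (heisUnit b x y)⁻¹ = heisUnit (-b) (-x + b ⬝ᵥ y) (-y) := by
  rw [inv_eq_iff_mul_eq_one, heisUnit_mul, ← heisUnit_zero]
  congr 1
  · simp
  · simp
  · simp

theorem heisUnit_injective {b : Fin n → F} {x : F} {y : Fin n → F} {b' : Fin n → F} {x' : F}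
    {y' : Fin n → F} (h : heisUnit b x y = heisUnit b' x' y') : b = b' ∧ x = x' ∧ y = y' := by
  have h' : heisLin b x y = heisLin b' x' y' := congrArg Units.val h
  have h1 := congrArg (fun f => f ((0 : F), (0 : Fin n → F), (1 : F))) h'
  simp only [heisLin_apply, dotProduct_zero, zero_add, mul_one, one_smul, Prod.mk.injEq] at h1
  refine ⟨?_, h1.1, h1.2.1⟩
  ext i
  have h2 := congrArg (fun f => (f ((0 : F), (Pi.single i 1 : Fin n → F), (0 : F))).1) h'
  simpa [heisLin_apply] using h2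

/-- the Heisenberg subgroup of `GL(F × Fⁿ × F)` -/
def heisSub (F : Type*) [Field F] (n : ℕ) : Subgroup (LinearMap.GeneralLinearGroup F (HeisV F n)) where
  carrier := {g | ∃ b x y, g = heisUnit b x y}
  mul_mem' := by
    rintro _ _ ⟨b, x, y, rfl⟩ ⟨b', x', y', rfl⟩
    exact ⟨_, _, _, heisUnit_mul b x y b' x' y'⟩
  one_mem' := ⟨0, 0, 0, heisUnit_zero.symm⟩
  inv_mem' := by
    rintro _ ⟨b, x, y, rfl⟩
    exact ⟨_, _, _, heisUnit_inv b x y⟩

/-- Heisenberg coordinates on the image of `heisSub` under any group isomorphism. -/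
theorem heisCoordN_map {X : Type*} [Group X]
    (Φ : LinearMap.GeneralLinearGroup F (HeisV F n) ≃* X) :
    Nonempty (HeisCoordN F n ↥((heisSub F n).map Φ.toMonoidHom)) := by
  refine ⟨{ h := fun b x y => ⟨Φ (heisUnit b x y), ⟨heisUnit b x y, ⟨b, x, y, rfl⟩, rfl⟩⟩,
            mul := ?_, surj := ?_, inj := ?_ }⟩
  · intro b x y b' x' y'
    apply Subtype.ext
    show Φ (heisUnit b x y) * Φ (heisUnit b' x' y') = Φ _
    rw [← map_mul, heisUnit_mul]
  · rintro ⟨_, ⟨g, ⟨b, x, y, rfl⟩, rfl⟩⟩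
    exact ⟨b, x, y, rfl⟩
  · intro b x y b' x' y' h
    have h' : Φ (heisUnit b x y) = Φ (heisUnit b' x' y') := congrArg Subtype.val h
    exact heisUnit_injective (Φ.injective h')

end

/-- an isomorphism `GL(F × Fⁿ × F) ≃* GL_{n+2}(F)` -/
theorem exists_gl_equiv (F : Type*) [Field F] (n : ℕ) :
    Nonempty (LinearMap.GeneralLinearGroup F (HeisV F n) ≃*
      Matrix.GeneralLinearGroup (Fin (n + 2)) F) := by
  have hfr : Module.finrank F (HeisV F n) = Module.finrank F (Fin (n + 2) → F) := by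
    rw [Module.finrank_prod, Module.finrank_prod, Module.finrank_self, Module.finrank_fin_fun,
      Module.finrank_fin_fun]; ring
  obtain ⟨e⟩ := FiniteDimensional.nonempty_linearEquiv_of_finrank_eq hfr
  exact ⟨(LinearMap.GeneralLinearGroup.congrLinearEquiv e).trans
    Matrix.GeneralLinearGroup.toLin.symm⟩

/-- extraspecial groups of order `p^(1+2n)` and exponent `p` inside `GL_{n+2}(p)` -/
theorem exists_extraspecial_gl (p : ℕ) [Fact p.Prime] (hp : p ≠ 2) (n : ℕ) (hn : 1 ≤ n) :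
    ∃ E : Subgroup (Matrix.GeneralLinearGroup (Fin (n + 2)) (ZMod p)),
      Cfsg.IsExtraspecial p ↥E ∧ Nat.card E = p ^ (1 + 2 * n) ∧ ∀ x ∈ E, x ^ p = 1 := by
  obtain ⟨Φ⟩ := exists_gl_equiv (ZMod p) n
  obtain ⟨K⟩ := heisCoordN_map (F := ZMod p) (n := n) Φ
  refine ⟨(heisSub (ZMod p) n).map Φ.toMonoidHom, K.isExtraspecial hp hn, K.card, ?_⟩
  intro x hx
  have := K.pow_p hp ⟨x, hx⟩
  exact congrArg Subtype.val this

end Cfsg.Agent.Helper18
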