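import Mathlib

set_option autoImplicit false

namespace Cfsg.Agent.Helper18

open MulAction SubMulAction
open scoped Pointwise

/-- A quasiprimitive group with a Jordan set on which the pointwise stabilizer of the complement
acts primitively is primitive. -/
theorem isPreprimitive_of_quasiprimitive_jordan {G Ω : Type*} [Group G] [MulAction G Ω]
    (hqp : ∀ N : Subgroup G, N.Normal → N ≠ ⊥ → MulAction.IsPretransitive ↥N Ω)
    (Γ : Set Ω) (hΓ1 : ∃ a b, a ∈ Γ ∧ b ∈ Γ ∧ a ≠ b)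
    (hJ : MulAction.IsPretransitive ↥(fixingSubgroup G Γᶜ)
      ↥(SubMulAction.ofFixingSubgroup G Γᶜ))
    (hJp : MulAction.IsPreprimitive ↥(fixingSubgroup G Γᶜ)
      ↥(SubMulAction.ofFixingSubgroup G Γᶜ)) :
    MulAction.IsPreprimitive G Ω := by
  classical
  obtain ⟨γ, γ', hγ, hγ', hne⟩ := hΓ1
  have hmemΓ : ∀ x, x ∈ Γ → x ∈ SubMulAction.ofFixingSubgroup G Γᶜ := fun x hx =>
    show x ∉ Γᶜ from fun hn => hn hx
  have hHtrans : ∀ x ∈ Γ, ∀ y ∈ Γ, ∃ h ∈ fixingSubgroup G Γᶜ, h • x = y := by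
    intro x hx y hy
    obtain ⟨h, hh⟩ := MulAction.exists_smul_eq (fixingSubgroup G Γᶜ)
      (⟨x, hmemΓ x hx⟩ : ↥(SubMulAction.ofFixingSubgroup G Γᶜ)) ⟨y, hmemΓ y hy⟩
    exact ⟨h.1, h.2, congrArg Subtype.val hh⟩
  have hHfix : ∀ h ∈ fixingSubgroup G Γᶜ, ∀ δ, δ ∉ Γ → h • δ = δ := fun h hh δ hδ =>
    (mem_fixingSubgroup_iff G).mp hh δ hδ
  have hHΓ : ∀ h ∈ fixingSubgroup G Γᶜ, ∀ x ∈ Γ, h • x ∈ Γ := by
    intro h hh x hx
    by_contra hn
    have h1 := hHfix h hh _ hn
    have h2 : h • x = x := smul_left_cancel h h1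
    rw [h2] at hn; exact hn hx
  obtain ⟨h0, hh0, hh0γ⟩ := hHtrans γ hγ γ' hγ'
  have hh01 : h0 ≠ 1 := by
    intro e; rw [e, one_smul] at hh0γ; exact hne hh0γ
  have htrans : MulAction.IsPretransitive G Ω := by
    have := hqp ⊤ inferInstance (by
      intro e
      have : h0 ∈ (⊤ : Subgroup G) := Subgroup.mem_top _
      rw [e, Subgroup.mem_bot] at this; exact hh01 this)
    refine ⟨fun x y => ?_⟩
    obtain ⟨g, hg⟩ := MulAction.exists_smul_eq (↥(⊤ : Subgroup G)) x y
    exact ⟨g.1, hg⟩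
  refine { toIsPretransitive := htrans, isTrivialBlock_of_isBlock := ?_ }
  intro B hB
  by_contra hnt
  unfold IsTrivialBlock at hnt
  push Not at hnt
  obtain ⟨hBns, hBnu⟩ := hnt
  obtain ⟨b1, hb1, b2, hb2, hb12⟩ := hBns
  have htriv : ∀ g : G, IsTrivialBlock
      (Subtype.val ⁻¹' (g • B) : Set ↥(SubMulAction.ofFixingSubgroup G Γᶜ)) := fun g =>
    hJp.isTrivialBlock_of_isBlock
      ((hB.translate g).subgroup (H := fixingSubgroup G Γᶜ)).subtype_val_preimage
  by_cases hcase : ∃ g : G,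
      (Subtype.val ⁻¹' (g • B) : Set ↥(SubMulAction.ofFixingSubgroup G Γᶜ)) = Set.univ
  · obtain ⟨g, hg⟩ := hcase
    have hΓB : Γ ⊆ g • B := by
      intro x hx
      have : (⟨x, hmemΓ x hx⟩ : ↥(SubMulAction.ofFixingSubgroup G Γᶜ)) ∈
          (Subtype.val ⁻¹' (g • B) : Set ↥(SubMulAction.ofFixingSubgroup G Γᶜ)) := by
        rw [hg]; exact Set.mem_univ _
      exact this
    have hB'nu : g • B ≠ Set.univ := by
      intro e
      apply hBnu
      have : B = g⁻¹ • (g • B) := by rw [inv_smul_smul]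
      rw [this, e, Set.smul_set_univ]
    obtain ⟨ω, hω⟩ := (Set.ne_univ_iff_exists_notMem _).mp hB'nu
    let N : Subgroup G := ⨅ k : G, MulAction.stabilizer G (k • B)
    have hNmem : ∀ n : G, n ∈ N ↔ ∀ k : G, n • (k • B) = k • B := by
      intro n
      simp only [N, Subgroup.mem_iInf, MulAction.mem_stabilizer_iff]
    have hNnormal : N.Normal := by
      refine ⟨fun n hn x => ?_⟩
      rw [hNmem] at hn ⊢
      intro k
      have := hn (x⁻¹ * k)
      calc (x * n * x⁻¹) • (k • B) = x • (n • ((x⁻¹ * k) • B)) := by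
            simp only [smul_smul, mul_assoc]
        _ = x • ((x⁻¹ * k) • B) := by rw [this]
        _ = k • B := by rw [smul_smul, mul_inv_cancel_left]
    have hNbot : N = ⊥ := by
      by_contra hNne
      have := hqp N hNnormal hNne
      obtain ⟨n, hn⟩ := MulAction.exists_smul_eq (↥N) γ ω
      apply hω
      have h1 : (n : G) • (g • B) = g • B := (hNmem n).mp n.2 g
      rw [← h1, ← hn]
      exact Set.smul_mem_smul_set (hΓB hγ)
    have hHN : ∀ h ∈ fixingSubgroup G Γᶜ, h ∈ N := by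
      intro h hh
      rw [hNmem]
      intro k
      by_cases hk : (k • B ∩ Γ).Nonempty
      · obtain ⟨x, hxk, hxΓ⟩ := hk
        have hkg : k • B = g • B := by
          by_contra hkg
          have := hB hkg
          exact Set.disjoint_left.mp this hxk (hΓB hxΓ)
        rw [hkg]
        exact (hB.translate g).smul_eq_of_mem (hΓB hxΓ) (hΓB (hHΓ h hh x hxΓ))
      · rw [Set.not_nonempty_iff_eq_empty] at hk
        have hfix : ∀ y ∈ k • B, h • y = y := by
          intro y hy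
          apply hHfix h hh
          intro hyΓ
          have : y ∈ k • B ∩ Γ := ⟨hy, hyΓ⟩
          rw [hk] at this; exact this
        ext z
        rw [Set.mem_smul_set]
        constructor
        · rintro ⟨y, hy, rfl⟩; rw [hfix y hy]; exact hy
        · intro hz; exact ⟨z, hz, hfix z hz⟩
    have := hHN h0 hh0
    rw [hNbot, Subgroup.mem_bot] at this
    exact hh01 this
  · push Not at hcase
    have hsub : ∀ g : G, (Subtype.val ⁻¹' (g • B) :
        Set ↥(SubMulAction.ofFixingSubgroup G Γᶜ)).Subsingleton := fun g =>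
      (htriv g).resolve_right (hcase g)
    obtain ⟨g, hg⟩ := MulAction.exists_smul_eq G b1 γ
    have hγB : γ ∈ g • B := by rw [← hg]; exact Set.smul_mem_smul_set hb1
    have hδB : g • b2 ∈ g • B := Set.smul_mem_smul_set hb2
    have hδγ : g • b2 ≠ γ := by
      rw [← hg]; intro e; exact hb12 (smul_left_cancel g e).symm
    have hδΓ : g • b2 ∉ Γ := by
      intro hδ
      have := hsub g (x := ⟨γ, hmemΓ γ hγ⟩) hγB (y := ⟨g • b2, hmemΓ _ hδ⟩) hδB
      exact hδγ (congrArg Subtype.val this).symm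
    have h1 : h0 • (g • B) = g • B :=
      (hB.translate g).smul_eq_of_mem hδB (by rw [hHfix h0 hh0 _ hδΓ]; exact hδB)
    have hγ'B : γ' ∈ g • B := by
      rw [← h1, ← hh0γ]; exact Set.smul_mem_smul_set hγB
    have := hsub g (x := ⟨γ, hmemΓ γ hγ⟩) hγB (y := ⟨γ', hmemΓ γ' hγ'⟩) hγ'B
    exact hne (congrArg Subtype.val this)

theorem jordan_quasiprimitive {G Ω : Type*} [Group G] [Finite G] [MulAction G Ω]
    [FaithfulSMul G Ω] [Finite Ω]
    (hqp : ∀ N : Subgroup G, N.Normal → N ≠ ⊥ → MulAction.IsPretransitive ↥N Ω)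
    (Γ : Set Ω) (hΓ1 : 1 < Γ.ncard) (hΓ2 : Γ.ncard < Nat.card Ω)
    (hJ : MulAction.IsPretransitive ↥(fixingSubgroup G Γᶜ)
      ↥(SubMulAction.ofFixingSubgroup G Γᶜ))
    (hJp : MulAction.IsPreprimitive ↥(fixingSubgroup G Γᶜ)
      ↥(SubMulAction.ofFixingSubgroup G Γᶜ)) :
    MulAction.IsMultiplyPretransitive G Ω (Nat.card Ω - Γ.ncard + 1) := by
  have hprim : MulAction.IsPreprimitive G Ω :=
    isPreprimitive_of_quasiprimitive_jordan hqp Γ ((Set.one_lt_ncard_iff).mp hΓ1) hJ hJp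
  have hc : Γᶜ.ncard = (Nat.card Ω - Γ.ncard - 1) + 1 := by
    rw [Set.ncard_compl]; omega
  have h := hprim.isMultiplyPreprimitive hc (by omega) hJp
  have h2 := h.isMultiplyPretransitive
  have e : Nat.card Ω - Γ.ncard - 1 + 2 = Nat.card Ω - Γ.ncard + 1 := by omega
  rwa [e] at h2

end Cfsg.Agent.Helper18
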