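import Mathlib

/-! Abstract Klein theorem, part 1: orbit counting.  A finite group `G` acts on a finite set `X`
so that every non-identity element has exactly two fixed points. -/

set_option autoImplicit false

namespace Cfsg.Agent.Helper18.Klein

open MulAction

variable {G X : Type*} [Group G] [MulAction G X]

/-- the hypothesis: every non-identity element has exactly two fixed points -/
def TwoFix (G X : Type*) [Group G] [MulAction G X] : Prop :=
  ∀ g : G, g ≠ 1 → Nat.card (fixedBy X g) = 2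

theorem burnside_count [Finite G] [Finite X] (h2 : TwoFix G X) :
    Nat.card X + 2 * (Nat.card G - 1) = Nat.card (orbitRel.Quotient G X) * Nat.card G := by
  classical
  have : Fintype G := Fintype.ofFinite G
  have : Fintype X := Fintype.ofFinite X
  have : Fintype (orbitRel.Quotient G X) := Fintype.ofFinite _
  have hb := sum_card_fixedBy_eq_card_orbits_mul_card_group G X
  rw [Nat.card_eq_fintype_card, Nat.card_eq_fintype_card, Nat.card_eq_fintype_card, ← hb]
  have h1 : ∑ g : G, Fintype.card (fixedBy X g) =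
      Fintype.card (fixedBy X (1 : G)) + ∑ g ∈ Finset.univ.erase (1 : G), Fintype.card (fixedBy X g) := by
    exact (Finset.add_sum_erase Finset.univ (fun g : G => Fintype.card (fixedBy X g))
      (Finset.mem_univ (1 : G))).symm
  rw [h1]
  congr 1
  · rw [← Nat.card_eq_fintype_card, ← Nat.card_eq_fintype_card]
    apply Nat.card_congr
    exact (Equiv.subtypeUnivEquiv (fun x => by simp)).symm
  · have h3 : ∀ g ∈ Finset.univ.erase (1 : G), Fintype.card (fixedBy X g) = 2 := by
      intro g hg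
      rw [← Nat.card_eq_fintype_card]
      exact h2 g (Finset.ne_of_mem_erase hg)
    rw [Finset.sum_congr rfl h3, Finset.sum_const, Finset.card_erase_of_mem (Finset.mem_univ _),
      Finset.card_univ, smul_eq_mul, mul_comm]

theorem card_stabilizer_eq_of_mem_orbit {x y : X} (h : y ∈ orbit G x) :
    Nat.card (stabilizer G y) = Nat.card (stabilizer G x) := by
  have h1 : orbitRel G X y x := h
  exact Nat.card_congr (stabilizerEquivStabilizerOfOrbitRel h1).toEquiv

theorem exists_reps [Finite G] [Finite X] (h2 : TwoFix G X) : ∃ T : Finset X,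
    (∀ x ∈ T, 2 ≤ Nat.card (stabilizer G x)) ∧
    (∀ x ∈ T, ∀ y ∈ T, y ∈ orbit G x → x = y) ∧
    (∀ y : X, 2 ≤ Nat.card (stabilizer G y) → ∃ x ∈ T, y ∈ orbit G x) ∧
    ∑ x ∈ T, (Nat.card G - Nat.card G / Nat.card (stabilizer G x)) = 2 * Nat.card G - 2 := by
  classical
  have : Fintype G := Fintype.ofFinite G
  have : Fintype X := Fintype.ofFinite X
  have : Fintype (Quotient (orbitRel G X)) := Fintype.ofFinite _
  have hcf := card_eq_sum_card_group_div_card_stabilizer G X
  have hb := burnside_count h2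
  set n : Quotient (orbitRel G X) → ℕ := fun ω => Nat.card (stabilizer G ω.out) with hn
  have hn1 : ∀ ω, 1 ≤ n ω := fun ω => Nat.card_pos
  have hcf' : Nat.card X = ∑ ω : Quotient (orbitRel G X), Nat.card G / n ω := by
    rw [Nat.card_eq_fintype_card, hcf]
    apply Finset.sum_congr rfl
    intro ω _
    show _ = Nat.card G / Nat.card (stabilizer G ω.out)
    rw [Nat.card_eq_fintype_card, Nat.card_eq_fintype_card]
  have hsum : ∑ ω : Quotient (orbitRel G X), (Nat.card G - Nat.card G / n ω) + Nat.card X =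
      Nat.card (orbitRel.Quotient G X) * Nat.card G := by
    rw [hcf', ← Finset.sum_add_distrib]
    have : ∀ ω ∈ (Finset.univ : Finset (Quotient (orbitRel G X))),
        Nat.card G - Nat.card G / n ω + Nat.card G / n ω = Nat.card G := by
      intro ω _
      exact Nat.sub_add_cancel (Nat.div_le_self _ _)
    rw [Finset.sum_congr rfl this, Finset.sum_const, Finset.card_univ, smul_eq_mul,
      Nat.card_eq_fintype_card (α := orbitRel.Quotient G X)]
  have hmain : ∑ ω : Quotient (orbitRel G X), (Nat.card G - Nat.card G / n ω) =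
      2 * Nat.card G - 2 := by
    have hG1 : 1 ≤ Nat.card G := Nat.card_pos
    omega
  set T0 : Finset (Quotient (orbitRel G X)) := Finset.univ.filter (fun ω => 2 ≤ n ω) with hT0
  have hT0sum : ∑ ω ∈ T0, (Nat.card G - Nat.card G / n ω) = 2 * Nat.card G - 2 := by
    rw [← hmain]
    apply Finset.sum_subset (Finset.subset_univ _)
    intro ω _ hω
    have : n ω = 1 := by
      have h1 := hn1 ω
      have : ¬ 2 ≤ n ω := fun h => hω (by rw [hT0, Finset.mem_filter]; exact ⟨Finset.mem_univ _, h⟩)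
      omega
    rw [this, Nat.div_one, Nat.sub_self]
  refine ⟨T0.image Quotient.out, ?_, ?_, ?_, ?_⟩
  · intro x hx
    rw [Finset.mem_image] at hx
    obtain ⟨ω, hω, rfl⟩ := hx
    rw [hT0, Finset.mem_filter] at hω
    exact hω.2
  · intro x hx y hy hyx
    rw [Finset.mem_image] at hx hy
    obtain ⟨ω, _, rfl⟩ := hx
    obtain ⟨ω', _, rfl⟩ := hy
    have h1 : orbitRel G X ω'.out ω.out := hyx
    have h3 : ω' = ω := by
      rw [← Quotient.out_eq ω', ← Quotient.out_eq ω]
      exact Quotient.sound h1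
    rw [h3]
  · intro y hy
    refine ⟨(Quotient.mk (orbitRel G X) y).out, ?_, ?_⟩
    · rw [Finset.mem_image]
      refine ⟨Quotient.mk (orbitRel G X) y, ?_, rfl⟩
      rw [hT0, Finset.mem_filter]
      refine ⟨Finset.mem_univ _, ?_⟩
      show 2 ≤ Nat.card (stabilizer G (Quotient.mk (orbitRel G X) y).out)
      have h1 : orbitRel G X (Quotient.mk (orbitRel G X) y).out y :=
        Quotient.exact (Quotient.out_eq _)
      rw [card_stabilizer_eq_of_mem_orbit h1]
      exact hy
    · have h1 : orbitRel G X (Quotient.mk (orbitRel G X) y).out y :=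
        Quotient.exact (Quotient.out_eq _)
      exact (orbitRel G X).symm h1
  · rw [Finset.sum_image]
    · exact hT0sum
    · intro a _ b _ hab
      rw [← Quotient.out_eq a, ← Quotient.out_eq b, hab]

theorem card_div_stab [Finite G] (x : X) :
    Nat.card G / Nat.card (stabilizer G x) * Nat.card (stabilizer G x) = Nat.card G :=
  Nat.div_mul_cancel (Subgroup.card_subgroup_dvd_card _)

/-- the three cases of the orbit count -/
theorem klein_cases [Finite G] [Finite X] (h2 : TwoFix G X) :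
    Nat.card G = 1 ∨
    (∃ x : X, stabilizer G x = ⊤ ∧ 2 ≤ Nat.card G) ∨
    (∃ x1 x2 x3 : X, x2 ∉ orbit G x1 ∧ x3 ∉ orbit G x1 ∧ x3 ∉ orbit G x2 ∧
      (∀ y, 2 ≤ Nat.card (stabilizer G y) →
        y ∈ orbit G x1 ∨ y ∈ orbit G x2 ∨ y ∈ orbit G x3) ∧
      2 ≤ Nat.card (stabilizer G x1) ∧ 2 ≤ Nat.card (stabilizer G x2) ∧
      2 ≤ Nat.card (stabilizer G x3) ∧
      Nat.card G / Nat.card (stabilizer G x1) + Nat.card G / Nat.card (stabilizer G x2) +
        Nat.card G / Nat.card (stabilizer G x3) = Nat.card G + 2) := by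
  classical
  obtain ⟨T, hT1, hT2, hT3, hsum⟩ := exists_reps h2
  have hG1 : 1 ≤ Nat.card G := Nat.card_pos
  -- bounds
  have hb : ∀ x ∈ T, Nat.card G ≤ 2 * (Nat.card G - Nat.card G / Nat.card (stabilizer G x)) ∧
      Nat.card G - Nat.card G / Nat.card (stabilizer G x) ≤ Nat.card G - 1 ∧
      1 ≤ Nat.card G / Nat.card (stabilizer G x) := by
    intro x hx
    have h1 := hT1 x hx
    have h3 := card_div_stab (G := G) x
    set k := Nat.card G / Nat.card (stabilizer G x)
    set n := Nat.card (stabilizer G x)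
    have hk : 1 ≤ k := by
      rcases Nat.eq_zero_or_pos k with h | h
      · rw [h, zero_mul] at h3; omega
      · exact h
    have : 2 * k ≤ Nat.card G := by
      rw [← h3]; nlinarith
    omega
  have hcard : T.card ≤ 3 := by
    by_contra hc
    push Not at hc
    have h1 : T.card * Nat.card G ≤ ∑ x ∈ T,
        2 * (Nat.card G - Nat.card G / Nat.card (stabilizer G x)) := by
      rw [← smul_eq_mul, ← Finset.sum_const]
      exact Finset.sum_le_sum (fun x hx => (hb x hx).1)
    rw [← Finset.mul_sum, hsum] at h1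
    have : 4 * Nat.card G ≤ T.card * Nat.card G := Nat.mul_le_mul_right _ hc
    omega
  have hcases : T.card = 0 ∨ T.card = 1 ∨ T.card = 2 ∨ T.card = 3 := by omega
  rcases hcases with h0 | h1 | h2' | h3
  · left
    rw [Finset.card_eq_zero] at h0
    rw [h0, Finset.sum_empty] at hsum
    omega
  · exfalso
    rw [Finset.card_eq_one] at h1
    obtain ⟨x, rfl⟩ := h1
    rw [Finset.sum_singleton] at hsum
    have hx := hb x (Finset.mem_singleton_self x)
    have h4 := hT1 x (Finset.mem_singleton_self x)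
    have h5 : Nat.card G = 1 := by omega
    have h6 := Subgroup.card_le_card_group (stabilizer G x)
    omega
  · right; left
    rw [Finset.card_eq_two] at h2'
    obtain ⟨x, y, hxy, rfl⟩ := h2'
    rw [Finset.sum_pair hxy] at hsum
    have hx := hb x (by simp)
    have hy := hb y (by simp)
    have hkx : Nat.card G / Nat.card (stabilizer G x) = 1 := by omega
    have h3 := card_div_stab (G := G) x
    rw [hkx, one_mul] at h3
    refine ⟨x, Subgroup.eq_top_of_card_eq _ h3, ?_⟩
    have := hT1 x (by simp)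
    omega
  · right; right
    rw [Finset.card_eq_three] at h3
    obtain ⟨x, y, z, hxy, hxz, hyz, rfl⟩ := h3
    rw [Finset.sum_insert (by simp [hxy, hxz]), Finset.sum_pair hyz] at hsum
    have hx := hb x (by simp)
    have hy := hb y (by simp)
    have hz := hb z (by simp)
    refine ⟨x, y, z, ?_, ?_, ?_, ?_, hT1 x (by simp), hT1 y (by simp), hT1 z (by simp), ?_⟩
    · intro h; exact hxy (hT2 x (by simp) y (by simp) h)
    · intro h; exact hxz (hT2 x (by simp) z (by simp) h)
    · intro h; exact hyz (hT2 y (by simp) z (by simp) h)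
    · intro w hw
      obtain ⟨t, ht, hwt⟩ := hT3 w hw
      simp only [Finset.mem_insert, Finset.mem_singleton] at ht
      rcases ht with rfl | rfl | rfl
      · exact Or.inl hwt
      · exact Or.inr (Or.inl hwt)
      · exact Or.inr (Or.inr hwt)
    · have h1 := Nat.div_le_self (Nat.card G) (Nat.card (stabilizer G x))
      have h2 := Nat.div_le_self (Nat.card G) (Nat.card (stabilizer G y))
      have h3 := Nat.div_le_self (Nat.card G) (Nat.card (stabilizer G z))
      omega

theorem arith_sorted (g n1 n2 n3 : ℕ) (h12 : n1 ≤ n2) (h23 : n2 ≤ n3) (h1 : 2 ≤ n1)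
    (d1 : n1 ∣ g) (d2 : n2 ∣ g) (d3 : n3 ∣ g) (hg : 0 < g)
    (hs : g / n1 + g / n2 + g / n3 = g + 2) :
    (n1 = 2 ∧ n2 = 2 ∧ g = 2 * n3) ∨ (n1 = 2 ∧ n2 = 3 ∧ n3 = 3 ∧ g = 12) ∨
    (n1 = 2 ∧ n2 = 3 ∧ n3 = 4 ∧ g = 24) ∨ (n1 = 2 ∧ n2 = 3 ∧ n3 = 5 ∧ g = 60) := by
  obtain ⟨k1, hk1⟩ := d1
  obtain ⟨k2, hk2⟩ := d2
  obtain ⟨k3, hk3⟩ := d3
  have e1 : g / n1 = k1 := by rw [hk1]; exact Nat.mul_div_cancel_left _ (by omega)
  have e2 : g / n2 = k2 := by rw [hk2]; exact Nat.mul_div_cancel_left _ (by omega)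
  have e3 : g / n3 = k3 := by rw [hk3]; exact Nat.mul_div_cancel_left _ (by omega)
  rw [e1, e2, e3] at hs
  have hn1 : n1 = 2 := by
    by_contra hne
    have h3 : 3 ≤ n1 := by omega
    have a1 : 3 * k1 ≤ n1 * k1 := Nat.mul_le_mul_right _ h3
    have a2 : 3 * k2 ≤ n2 * k2 := Nat.mul_le_mul_right _ (by omega)
    have a3 : 3 * k3 ≤ n3 * k3 := Nat.mul_le_mul_right _ (by omega)
    omega
  subst hn1
  have hn2 : n2 = 2 ∨ n2 = 3 := by
    by_contra hne
    have h4 : 4 ≤ n2 := by omega
    have a2 : 4 * k2 ≤ n2 * k2 := Nat.mul_le_mul_right _ h4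
    have a3 : 4 * k3 ≤ n3 * k3 := Nat.mul_le_mul_right _ (by omega)
    omega
  rcases hn2 with rfl | rfl
  · left
    refine ⟨rfl, rfl, ?_⟩
    have : k3 = 2 := by omega
    rw [hk3, this, mul_comm]
  · right
    have h6 : n3 * k3 + 12 = 6 * k3 := by omega
    have hn3 : n3 < 6 := by
      by_contra hge
      have : 6 * k3 ≤ n3 * k3 := Nat.mul_le_mul_right _ (by omega)
      omega
    have hn3' : n3 = 3 ∨ n3 = 4 ∨ n3 = 5 := by omega
    rcases hn3' with rfl | rfl | rfl
    · left; exact ⟨rfl, rfl, rfl, by omega⟩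
    · right; left; exact ⟨rfl, rfl, rfl, by omega⟩
    · right; right; exact ⟨rfl, rfl, rfl, by omega⟩

/-- three non-regular orbits with representatives `x1 x2 x3` -/
structure Triple (G : Type*) {X : Type*} [Group G] [MulAction G X] (x1 x2 x3 : X) : Prop where
  h12 : x2 ∉ orbit G x1
  h13 : x3 ∉ orbit G x1
  h23 : x3 ∉ orbit G x2
  cover : ∀ y, 2 ≤ Nat.card (stabilizer G y) →
    y ∈ orbit G x1 ∨ y ∈ orbit G x2 ∨ y ∈ orbit G x3
  n1 : 2 ≤ Nat.card (stabilizer G x1)
  n2 : 2 ≤ Nat.card (stabilizer G x2)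
  n3 : 2 ≤ Nat.card (stabilizer G x3)
  sum : Nat.card G / Nat.card (stabilizer G x1) + Nat.card G / Nat.card (stabilizer G x2) +
    Nat.card G / Nat.card (stabilizer G x3) = Nat.card G + 2

theorem not_mem_orbit_symm {x y : X} (h : y ∉ orbit G x) : x ∉ orbit G y := by
  intro h'
  apply h
  have h1 : orbitRel G X x y := h'
  exact (orbitRel G X).symm h1

theorem Triple.swap12 {x1 x2 x3 : X} (t : Triple G x1 x2 x3) : Triple G x2 x1 x3 where
  h12 := not_mem_orbit_symm t.h12
  h13 := t.h23
  h23 := t.h13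
  cover := fun y hy => by
    rcases t.cover y hy with h | h | h
    · exact Or.inr (Or.inl h)
    · exact Or.inl h
    · exact Or.inr (Or.inr h)
  n1 := t.n2
  n2 := t.n1
  n3 := t.n3
  sum := by have := t.sum; omega

theorem Triple.swap23 {x1 x2 x3 : X} (t : Triple G x1 x2 x3) : Triple G x1 x3 x2 where
  h12 := t.h13
  h13 := t.h12
  h23 := not_mem_orbit_symm t.h23
  cover := fun y hy => by
    rcases t.cover y hy with h | h | h
    · exact Or.inl h
    · exact Or.inr (Or.inr h)
    · exact Or.inr (Or.inl h)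
  n1 := t.n1
  n2 := t.n3
  n3 := t.n2
  sum := by have := t.sum; omega

theorem Triple.exists_sorted {x1 x2 x3 : X} (t : Triple G x1 x2 x3) :
    ∃ y1 y2 y3 : X, Triple G y1 y2 y3 ∧
      Nat.card (stabilizer G y1) ≤ Nat.card (stabilizer G y2) ∧
      Nat.card (stabilizer G y2) ≤ Nat.card (stabilizer G y3) := by
  rcases le_total (Nat.card (stabilizer G x1)) (Nat.card (stabilizer G x2)) with h12 | h12 <;>
  rcases le_total (Nat.card (stabilizer G x2)) (Nat.card (stabilizer G x3)) with h23 | h23 <;>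
  rcases le_total (Nat.card (stabilizer G x1)) (Nat.card (stabilizer G x3)) with h13 | h13
  · exact ⟨x1, x2, x3, t, h12, h23⟩
  · exact ⟨x1, x2, x3, t, h12, h23⟩
  · exact ⟨x1, x3, x2, t.swap23, h13, h23⟩
  · exact ⟨x3, x1, x2, t.swap23.swap12, h13, h12⟩
  · exact ⟨x2, x1, x3, t.swap12, h12, h13⟩
  · exact ⟨x2, x3, x1, t.swap12.swap23, h23, h13⟩
  · exact ⟨x3, x2, x1, t.swap12.swap23.swap12, h23, h12⟩
  · exact ⟨x3, x2, x1, t.swap12.swap23.swap12, h23, h12⟩

/-- **Orbit types.** -/
theorem klein_types [Finite G] [Finite X] (h2 : TwoFix G X) :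
    Nat.card G = 1 ∨
    (∃ x : X, stabilizer G x = ⊤ ∧ 2 ≤ Nat.card G) ∨
    (∃ x1 x2 x3 : X, Triple G x1 x2 x3 ∧
      ((Nat.card (stabilizer G x1) = 2 ∧ Nat.card (stabilizer G x2) = 2 ∧
          Nat.card G = 2 * Nat.card (stabilizer G x3)) ∨
       (Nat.card (stabilizer G x1) = 2 ∧ Nat.card (stabilizer G x2) = 3 ∧
          Nat.card (stabilizer G x3) = 3 ∧ Nat.card G = 12) ∨
       (Nat.card (stabilizer G x1) = 2 ∧ Nat.card (stabilizer G x2) = 3 ∧
          Nat.card (stabilizer G x3) = 4 ∧ Nat.card G = 24) ∨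
       (Nat.card (stabilizer G x1) = 2 ∧ Nat.card (stabilizer G x2) = 3 ∧
          Nat.card (stabilizer G x3) = 5 ∧ Nat.card G = 60))) := by
  rcases klein_cases h2 with h | h | ⟨x1, x2, x3, h12, h13, h23, hc, n1, n2, n3, hs⟩
  · exact Or.inl h
  · exact Or.inr (Or.inl h)
  · right; right
    obtain ⟨y1, y2, y3, t, hle1, hle2⟩ :=
      (Triple.mk h12 h13 h23 hc n1 n2 n3 hs : Triple G x1 x2 x3).exists_sorted
    refine ⟨y1, y2, y3, t, ?_⟩
    exact arith_sorted (Nat.card G) _ _ _ hle1 hle2 t.n1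
      (Subgroup.card_subgroup_dvd_card _) (Subgroup.card_subgroup_dvd_card _)
      (Subgroup.card_subgroup_dvd_card _) Nat.card_pos t.sum

end Cfsg.Agent.Helper18.Klein
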