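import Cfsg.Agent.Helper18.Klein1
import Cfsg.Agent.Helper11.DihedralLift

/-! Abstract Klein theorem, part 2: basic consequences, cyclic and dihedral cases. -/

set_option autoImplicit false

namespace Cfsg.Agent.Helper18.Klein

open MulAction

variable {G X : Type*} [Group G] [MulAction G X]

theorem exists_fixed (h2 : TwoFix G X) (g : G) (hg : g ≠ 1) : ∃ y : X, g • y = y := by
  have h := h2 g hg
  have : Nonempty (fixedBy X g) := by
    by_contra hne
    rw [not_nonempty_iff] at hne
    rw [Nat.card_of_isEmpty] at h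
    omega
  obtain ⟨⟨y, hy⟩⟩ := this
  exact ⟨y, hy⟩

theorem two_le_card_stabilizer [Finite G] (g : G) (hg : g ≠ 1) (y : X) (hy : g • y = y) :
    2 ≤ Nat.card (stabilizer G y) := by
  have hmem : g ∈ stabilizer G y := hy
  have : Nontrivial (stabilizer G y) :=
    ⟨⟨⟨g, hmem⟩, 1, fun h => hg (by simpa using congrArg Subtype.val h)⟩⟩
  exact Finite.one_lt_card

theorem pow_card_stabilizer [Finite G] (g : G) (y : X) (hy : g • y = y) :
    g ^ Nat.card (stabilizer G y) = 1 := by
  have hmem : g ∈ stabilizer G y := hy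
  have := pow_card_eq_one' (G := stabilizer G y) (x := ⟨g, hmem⟩)
  simpa using congrArg Subtype.val this

/-- a nontrivial normal point stabiliser has an orbit of at most two points -/
theorem card_orbit_le_two_of_normal [Finite G] [Finite X] (h2 : TwoFix G X) (x : X)
    (hn : (stabilizer G x).Normal) (hne : 2 ≤ Nat.card (stabilizer G x)) :
    Nat.card (orbit G x) ≤ 2 := by
  classical
  have : Nontrivial (stabilizer G x) := Finite.one_lt_card_iff_nontrivial.mp (by omega)
  obtain ⟨⟨h, hh⟩, hh1⟩ := exists_ne (1 : stabilizer G x)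
  have hh1' : h ≠ 1 := fun e => hh1 (Subtype.ext e)
  rw [← h2 h hh1']
  apply Nat.card_le_card_of_injective (fun y : orbit G x => (⟨y.1, ?_⟩ : fixedBy X h))
  · intro a b hab
    exact Subtype.ext (by simpa using congrArg Subtype.val hab)
  · obtain ⟨g, hg⟩ := y.2
    rw [mem_fixedBy]
    have : h ∈ stabilizer G (g • x) := by
      rw [stabilizer_smul_eq_stabilizer_map_conj]
      refine ⟨g⁻¹ * h * g, ?_, ?_⟩
      · have := hn.conj_mem h hh g⁻¹
        simpa using this
      · simp [MulAut.conj_apply, mul_assoc]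
    have hy : (y : X) = g • x := hg.symm
    rw [hy]
    exact this

theorem card_orbit_eq [Finite G] (x : X) :
    Nat.card (orbit G x) = Nat.card G / Nat.card (stabilizer G x) := by
  classical
  have : Fintype G := Fintype.ofFinite G
  have : Finite (orbit G x) := Finite.of_surjective (fun g : G => (⟨g • x, g, rfl⟩ : orbit G x))
    (by rintro ⟨_, g, rfl⟩; exact ⟨g, rfl⟩)
  have : Fintype (orbit G x) := Fintype.ofFinite _
  have : Fintype (stabilizer G x) := Fintype.ofFinite _
  have h := card_orbit_mul_card_stabilizer_eq_card_group G x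
  rw [Nat.card_eq_fintype_card, Nat.card_eq_fintype_card, Nat.card_eq_fintype_card, ← h]
  exact (Nat.mul_div_cancel _ Fintype.card_pos).symm

/-- cyclic case -/
theorem isCyclic_of_stabilizer_eq_top (hc : ∀ x : X, IsCyclic (stabilizer G x)) (x : X)
    (h : stabilizer G x = ⊤) : IsCyclic G := by
  have := hc x
  rw [h] at this
  exact isCyclic_of_surjective (Subgroup.topEquiv : (⊤ : Subgroup G) ≃* G).toMonoidHom
    (Subgroup.topEquiv : (⊤ : Subgroup G) ≃* G).surjective

theorem isCyclic_of_card_eq_one [Finite G] (h : Nat.card G = 1) : IsCyclic G := by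
  have : Subsingleton G := (Nat.card_eq_one_iff_unique.mp h).1
  infer_instance

theorem mem_of_mem_stabilizer_orbit (x y : X) (hn : (stabilizer G x).Normal)
    (hy : y ∈ orbit G x) (g : G) (hg : g • y = y) : g ∈ stabilizer G x := by
  obtain ⟨h, rfl⟩ := hy
  have h1 : g ∈ stabilizer G (h • x) := hg
  rw [stabilizer_smul_eq_stabilizer_map_conj] at h1
  obtain ⟨k, hk, rfl⟩ := h1
  exact hn.conj_mem k hk h

/-- dihedral case -/
theorem dihedral_case [Finite G] [Finite X] (h2 : TwoFix G X)
    (hc : ∀ x : X, IsCyclic (stabilizer G x)) {x1 x2 x3 : X} (t : Triple G x1 x2 x3)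
    (e1 : Nat.card (stabilizer G x1) = 2) (e2 : Nat.card (stabilizer G x2) = 2)
    (eg : Nat.card G = 2 * Nat.card (stabilizer G x3)) :
    Nonempty (G ≃* DihedralGroup (Nat.card (stabilizer G x3))) := by
  classical
  set C := stabilizer G x3 with hC
  have hidx : C.index = 2 := by
    have h1 := C.card_mul_index
    rw [eg] at h1
    have hpos : 0 < Nat.card C := Nat.card_pos
    have : Nat.card C * C.index = Nat.card C * 2 := by rw [h1]; ring
    exact Nat.eq_of_mul_eq_mul_left hpos this
  have hn : C.Normal := Subgroup.normal_of_index_eq_two hidx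
  have hout : ∀ g : G, g ∉ C → g * g = 1 := by
    intro g hg
    have hg1 : g ≠ 1 := fun h => hg (h ▸ C.one_mem)
    obtain ⟨y, hy⟩ := exists_fixed h2 g hg1
    have h2y := two_le_card_stabilizer g hg1 y hy
    have hp := pow_card_stabilizer g y hy
    rcases t.cover y h2y with h | h | h
    · rw [card_stabilizer_eq_of_mem_orbit h, e1, pow_two] at hp
      exact hp
    · rw [card_stabilizer_eq_of_mem_orbit h, e2, pow_two] at hp
      exact hp
    · exact absurd (mem_of_mem_stabilizer_orbit x3 y hn h g hy) hg
  obtain ⟨c, hcgen⟩ := (hc x3).exists_generator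
  have hord : orderOf c = Nat.card C := orderOf_eq_card_of_forall_mem_zpowers hcgen
  set a : G := (c : G) with ha
  have horda : orderOf a = Nat.card C := by rw [ha, Subgroup.orderOf_coe, hord]
  have hCa : ∀ x : G, x ∈ C → x ∈ Subgroup.zpowers a := by
    intro x hx
    obtain ⟨k, hk⟩ := Subgroup.mem_zpowers_iff.mp (hcgen ⟨x, hx⟩)
    refine Subgroup.mem_zpowers_iff.mpr ⟨k, ?_⟩
    have := congrArg Subtype.val hk
    simpa using this
  have haC : a ∈ C := c.2
  have hne : C ≠ ⊤ := by
    intro h
    rw [h, Subgroup.index_top] at hidx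
    omega
  obtain ⟨b, hb⟩ : ∃ b : G, b ∉ C := by
    by_contra hcon
    push Not at hcon
    exact hne (eq_top_iff.mpr (fun x _ => hcon x))
  have hbb : b * b = 1 := hout b hb
  have hba : b * a ∉ C := by
    intro h
    apply hb
    have := C.mul_mem h (C.inv_mem haC)
    simpa using this
  have hbab : b * a * b = a⁻¹ := by
    have h1 := hout (b * a) hba
    have h2 : b * a * b * a = 1 := by rw [← h1]; group
    exact eq_inv_of_mul_eq_one_left h2
  have hbz : b ∉ Subgroup.zpowers a := by
    intro h
    apply hb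
    exact (Subgroup.zpowers_le.mpr haC) h
  exact Cfsg.Agent.Helper11.nonempty_mulEquiv_dihedralGroup _ eg a b horda hbb hbab hbz

end Cfsg.Agent.Helper18.Klein
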