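import Cfsg.Agent.Helper18.L2Max9

/-! Maximal subgroups of `PSL₂(q)`, part 10: the congruence conditions in the cases `A₄`, `S₄`,
`A₅`. -/

set_option autoImplicit false

namespace Cfsg.Agent.Helper18.L2Max

open Cfsg.Agent.Helper18.Dickson Subgroup

variable {F : Type*} [Field F]

local notation "SF" => Matrix.SpecialLinearGroup (Fin 2) F
local notation "MF" => Matrix (Fin 2) (Fin 2) F
local notation "PF" => Matrix.ProjectiveSpecialLinearGroup (Fin 2) F
local notation "π" => QuotientGroup.mk' (Subgroup.center SF)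

theorem mod_eight_of_sq {p : ℕ} (h : p ^ 2 % 16 = 1) : p % 8 = 1 ∨ p % 8 = 7 := by
  rw [Nat.pow_mod] at h
  have h8 : p % 8 = p % 16 % 8 := (Nat.mod_mod_of_dvd p (by norm_num)).symm
  have hr : p % 16 < 16 := Nat.mod_lt _ (by norm_num)
  rw [h8]
  generalize p % 16 = r at h hr
  interval_cases r <;> simp_all

/-- **`S₄` case**: the congruence -/
theorem S4_conditions [Fintype F] {p : ℕ} (hq : Fintype.card F = p) (M : Subgroup PF)
    (e : M ≃* Equiv.Perm (Fin 4)) : p % 8 = 1 ∨ p % 8 = 7 := by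
  have := (Cfsg.Agent.S0803.result (F := F) hq).1 ⟨M, ⟨e⟩⟩
  exact mod_eight_of_sq this

/-- **`A₅` case**: the congruence -/
theorem A5_conditions [Fintype F] (p : ℕ) [Fact p.Prime] [CharP F p] (hp : p ≠ 2) (hp5 : p ≠ 5)
    (M : Subgroup PF) (e : M ≃* alternatingGroup (Fin 5)) :
    Fintype.card F % 10 = 1 ∨ Fintype.card F % 10 = 9 := by
  have hpp : p.Prime := Fact.out
  have h2 : (2 : F) ≠ 0 := two_ne_zero_of_char (E := F) p hp
  have hG := two_mul_card_psl (F := F) h2
  have hcM : Nat.card M = 60 := by rw [Nat.card_congr e.toEquiv, card_A5]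
  have hdvd : 60 ∣ Nat.card PF := hcM ▸ Subgroup.card_subgroup_dvd_card M
  have h5 : 5 ∣ (Fintype.card F + 1) * ((Fintype.card F - 1) * Fintype.card F) := by
    rw [← hG]
    exact dvd_mul_of_dvd_right (Dvd.dvd.trans (by norm_num) hdvd) 2
  obtain ⟨m, hm⟩ := odd_card_of_char (F := F) p hp
  have h5p : Nat.Prime 5 := by norm_num
  rcases (Nat.Prime.dvd_mul h5p).1 h5 with h | h
  · omega
  · rcases (Nat.Prime.dvd_mul h5p).1 h with h | h
    · omega
    · exfalso
      obtain ⟨n, -, hn⟩ := FiniteField.card F p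
      rw [hn] at h
      exact hp5 ((Nat.prime_dvd_prime_iff_eq h5p hpp).1 (h5p.dvd_of_dvd_pow h)).symm

theorem A5_noncomm : ¬ ∀ a b : alternatingGroup (Fin 5), a * b = b * a := by
  intro h
  have := h ⟨Equiv.swap 0 1 * Equiv.swap 1 2, by rw [Equiv.Perm.mem_alternatingGroup]; decide⟩
    ⟨Equiv.swap 0 1 * Equiv.swap 2 3, by rw [Equiv.Perm.mem_alternatingGroup]; decide⟩
  revert this
  decide

/-- the normal Klein four-subgroup of a subgroup isomorphic to `A₄` -/
theorem exists_V4 {G : Type*} [Group G] (M : Subgroup G) (e : M ≃* alternatingGroup (Fin 4)) :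
    ∃ V : Subgroup G, V ≤ M ∧ M ≤ normalizer (V : Set G) ∧ Nat.card V = 4 ∧
      ∀ a ∈ V, ∀ b ∈ V, a * b = b * a := by
  refine ⟨(V4.comap e.toMonoidHom).map M.subtype, Subgroup.map_subtype_le _, ?_, ?_, ?_⟩
  · have key : ∀ d ∈ M, ∀ s ∈ (V4.comap e.toMonoidHom).map M.subtype,
        d * s * d⁻¹ ∈ (V4.comap e.toMonoidHom).map M.subtype := by
      rintro d hd _ ⟨s, hs, rfl⟩
      refine ⟨⟨d, hd⟩ * s * ⟨d, hd⟩⁻¹, ?_, rfl⟩
      show e (⟨d, hd⟩ * s * ⟨d, hd⟩⁻¹) ∈ V4
      rw [map_mul, map_mul, map_inv]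
      exact V4_normal.conj_mem _ hs _
    intro d hd
    rw [mem_normalizer_iff]
    intro x
    constructor
    · intro hx
      exact key d hd x hx
    · intro hx
      have := key d⁻¹ (M.inv_mem hd) _ hx
      have e1 : d⁻¹ * (d * x * d⁻¹) * d⁻¹⁻¹ = x := by group
      rwa [e1] at this
  · rw [Subgroup.card_map_of_injective M.subtype_injective, comap_equiv_eq_map_symm',
      Subgroup.card_map_of_injective e.symm.injective, card_V4]
  · rintro _ ⟨a, ha, rfl⟩ _ ⟨b, hb, rfl⟩
    have := V4_comm (e a) ha (e b) hb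
    rw [← map_mul, ← map_mul] at this
    exact congrArg Subtype.val (e.injective this)

/-- **`A₄` case**: the congruences -/
theorem A4_conditions [Fintype F] (p : ℕ) [Fact p.Prime] [CharP F p] (hp : p ≠ 2)
    (hq : Fintype.card F = p) (M : Subgroup PF) (hM : IsCoatom M) (hpM : ¬ p ∣ Nat.card M)
    (e : M ≃* alternatingGroup (Fin 4)) :
    (p % 8 = 3 ∨ p % 8 = 5) ∧ ¬ (p % 10 = 1 ∨ p % 10 = 9) := by
  have hpp : p.Prime := Fact.out
  have h2 : (2 : F) ≠ 0 := two_ne_zero_of_char (E := F) p hp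
  have hG := two_mul_card_psl (F := F) h2
  rw [hq] at hG
  have hcM : Nat.card M = 12 := by rw [Nat.card_congr e.toEquiv, card_A4]
  have hp3 : p ≠ 3 := by
    rintro rfl
    apply hpM; rw [hcM]; norm_num
  have hp5 : 5 ≤ p := by
    have := hpp.two_le
    by_contra hlt
    have : p = 4 := by omega
    rw [this] at hpp
    exact absurd hpp (by norm_num)
  have hsimple : IsSimpleGroup PF := psl_simple (by omega)
  obtain ⟨V, hVM, hMV, hcV, hVab⟩ := exists_V4 M e
  have hVbot : V ≠ ⊥ := by
    intro h; rw [h, Subgroup.card_bot] at hcV; omega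
  have h122 : (12 : ℕ).factorization 2 = 2 :=
    fact_eq Nat.prime_two (by norm_num) (by norm_num) (by norm_num)
  have hcV' : Nat.card V = 2 ^ (Nat.card M).factorization 2 := by
    rw [hcM, h122, hcV]; norm_num
  have hN : normalizer (V : Set PF) = M := normalizer_eq_of_coatom hM hVbot hVM hMV
  have hcVG := card_eq_of_normalizer_le 2 hN.le hcV'
  have hfG : (Nat.card PF).factorization 2 = 2 := by
    rw [hcV] at hcVG
    have : (2 : ℕ) ^ 2 = 2 ^ (Nat.card PF).factorization 2 := by rw [← hcVG]; norm_num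
    exact (Nat.pow_right_injective (le_refl 2) this).symm
  have h8 : ¬ 8 ∣ Nat.card PF := by
    intro h
    have : (2 : ℕ) ^ 3 ∣ Nat.card PF := by norm_num; exact h
    have := (Nat.prime_two.pow_dvd_iff_le_factorization Nat.card_pos.ne').1 this
    omega
  have hodd : p % 2 = 1 := hpp.eq_two_or_odd.resolve_left hp
  constructor
  · by_contra hcon
    have h17 : p % 8 = 1 ∨ p % 8 = 7 := by omega
    apply h8
    rcases h17 with h | h
    · obtain ⟨t, ht⟩ : ∃ t, p = 8 * t + 1 := ⟨p / 8, by omega⟩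
      rw [ht] at hG
      have e1 : 8 * t + 1 - 1 = 8 * t := by omega
      rw [e1] at hG
      have : 2 * Nat.card PF = 2 * (8 * ((4 * t + 1) * (t * (8 * t + 1)))) := by
        rw [hG]; ring
      exact ⟨_, Nat.eq_of_mul_eq_mul_left (by norm_num) this⟩
    · obtain ⟨t, ht⟩ : ∃ t, p = 8 * t + 7 := ⟨p / 8, by omega⟩
      rw [ht] at hG
      have e1 : 8 * t + 7 - 1 = 8 * t + 6 := by omega
      rw [e1] at hG
      have : 2 * Nat.card PF = 2 * (8 * ((t + 1) * ((4 * t + 3) * (8 * t + 7)))) := by
        rw [hG]; ring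
      exact ⟨_, Nat.eq_of_mul_eq_mul_left (by norm_num) this⟩
  · intro hp10
    obtain ⟨s, hs, -⟩ := exists_sqrt_five (F := F) p hp10
    obtain ⟨A, ⟨eA⟩⟩ := exists_A5_of_sqrt h2 s hs
    have hcA : Nat.card A = 60 := by rw [Nat.card_congr eA.toEquiv, card_A5]
    obtain ⟨-, -, g, hVA', n, hn, hcard⟩ := sylow_compare 2 hM hVM hMV hVbot hcV' (A := A)
      (by rw [hcV, hcA]; norm_num)
    set A' := A.map (MulAut.conj g).toMonoidHom with hA'
    have hcA' : Nat.card A' = 60 := by rw [hA', card_map_conj, hcA]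
    set d := Nat.card (M ⊓ A' : Subgroup PF) with hd
    have hd12 : d ∣ 12 := hcM ▸ Subgroup.card_dvd_of_le inf_le_left
    have hVle : V ≤ M ⊓ A' := le_inf hVM hVA'
    have h4d : 4 ∣ d := hcV ▸ Subgroup.card_dvd_of_le hVle
    rw [hcA] at hcard
    have hd' : d = 4 ∨ d = 12 := by
      have : d ≤ 12 := Nat.le_of_dvd (by norm_num) hd12
      interval_cases d <;> omega
    rcases hd' with h4 | h12
    · -- Burnside
      have hMAV : M ⊓ A' = V :=
        (Subgroup.eq_of_le_of_card_ge hVle (by rw [← hd, h4, hcV])).symm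
      have eA' : A' ≃* alternatingGroup (Fin 5) :=
        (A.equivMapOfInjective _ (MulAut.conj g).injective).symm.trans eA
      have hnt : Nontrivial A' := by
        rw [← Finite.one_lt_card_iff_nontrivial, hcA']; norm_num
      have hsA' : IsSimpleGroup A' :=
        IsSimpleGroup.isSimpleGroup_of_surjective eA'.symm.toMonoidHom eA'.symm.surjective
      have hncA' : ¬ ∀ a b : A', a * b = b * a := by
        intro h
        apply A5_noncomm
        intro a b
        have := h (eA'.symm a) (eA'.symm b)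
        rw [← map_mul, ← map_mul] at this
        exact eA'.symm.injective this
      have h602 : (60 : ℕ).factorization 2 = 2 :=
        fact_eq Nat.prime_two (by norm_num) (by norm_num) (by norm_num)
      have hcVs : Nat.card (V.subgroupOf A') = 2 ^ (Nat.card A').factorization 2 := by
        rw [hcA', h602, show (2 : ℕ) ^ 2 = 4 by norm_num, ← hcV]
        exact Nat.card_congr (Subgroup.subgroupOfEquivOfLe hVA').toEquiv
      set P : Sylow 2 A' := Sylow.ofCard (V.subgroupOf A') hcVs with hP
      have hPV : (P : Subgroup A') = V.subgroupOf A' := rfl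
      apply normalizer_ne_of_simple hncA' 2 P
      · rw [hPV]
        intro h
        have h1 := hcVs
        rw [h, Subgroup.card_bot, hcA', h602] at h1
        norm_num at h1
      · intro a ha b hb
        have ha' : a ∈ V.subgroupOf A' := ha
        have hb' : b ∈ V.subgroupOf A' := hb
        rw [mem_subgroupOf] at ha' hb'
        exact Subtype.ext (hVab _ ha' _ hb')
      · rw [hPV, ← subgroupOf_normalizer_eq hVA', hN, ← Subgroup.inf_subgroupOf_right, hMAV]
    · have hMA : M ≤ A' := by
        have : M ⊓ A' = M :=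
          Subgroup.eq_of_le_of_card_ge inf_le_left (by rw [← hd, h12, hcM])
        rw [← this]; exact inf_le_right
      by_cases hne : M = A'
      · rw [hne, hcA'] at hcM; omega
      · have htop := hM.2 _ (lt_of_le_of_ne hMA hne)
        rw [htop, Subgroup.card_top] at hcA'
        rw [hcA'] at hG
        have h1 : 8 * 9 ≤ (p - 1) * p := Nat.mul_le_mul (by omega) (by omega)
        have h3 : 10 * (8 * 9) ≤ (p + 1) * ((p - 1) * p) := Nat.mul_le_mul (by omega) h1
        omega

end Cfsg.Agent.Helper18.L2Max
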