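import Cfsg.Agent.Helper18.Dickson43

/-! Maximal subgroups of `PSL₂(q)`, part 2: rigidity of quaternion pairs in `SL₂(F)`. -/

set_option autoImplicit false

namespace Cfsg.Agent.Helper18.L2Max

open Cfsg.Agent.Helper18.Dickson

variable {F : Type*} [Field F]

local notation "SF" => Matrix.SpecialLinearGroup (Fin 2) F
local notation "MF" => Matrix (Fin 2) (Fin 2) F

/-- conjugation by an invertible matrix, as an automorphism of `SL₂` -/
def conjGL (P Q : MF) (h1 : P * Q = 1) (h2 : Q * P = 1) : SF ≃* SF where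
  toFun x := ⟨P * (x : MF) * Q, by
    rw [Matrix.det_mul, Matrix.det_mul, x.2, mul_one, ← Matrix.det_mul, h1, Matrix.det_one]⟩
  invFun x := ⟨Q * (x : MF) * P, by
    rw [Matrix.det_mul, Matrix.det_mul, x.2, mul_one, ← Matrix.det_mul, h2, Matrix.det_one]⟩
  left_inv x := by
    apply Subtype.ext
    show Q * (P * (x : MF) * Q) * P = x
    calc Q * (P * (x : MF) * Q) * P = (Q * P) * x * (Q * P) := by simp only [Matrix.mul_assoc]
      _ = x := by rw [h2, Matrix.one_mul, Matrix.mul_one]
  right_inv x := by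
    apply Subtype.ext
    show P * (Q * (x : MF) * P) * Q = x
    calc P * (Q * (x : MF) * P) * Q = (P * Q) * x * (P * Q) := by simp only [Matrix.mul_assoc]
      _ = x := by rw [h1, Matrix.one_mul, Matrix.mul_one]
  map_mul' x y := by
    apply Subtype.ext
    show P * ((x * y : SF) : MF) * Q = (P * (x : MF) * Q) * (P * (y : MF) * Q)
    rw [Matrix.SpecialLinearGroup.coe_mul]
    calc P * ((x : MF) * (y : MF)) * Q = P * (x : MF) * 1 * (y : MF) * Q := by
          simp only [Matrix.mul_assoc, Matrix.one_mul]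
      _ = P * (x : MF) * (Q * P) * (y : MF) * Q := by rw [h2]
      _ = (P * (x : MF) * Q) * (P * (y : MF) * Q) := by simp only [Matrix.mul_assoc]

theorem conjGL_coe (P Q : MF) (h1 : P * Q = 1) (h2 : Q * P = 1) (x : SF) :
    ((conjGL P Q h1 h2 x : SF) : MF) = P * (x : MF) * Q := rfl

theorem conjGL_trace (P Q : MF) (h1 : P * Q = 1) (h2 : Q * P = 1) (x : SF) :
    Matrix.trace ((conjGL P Q h1 h2 x : SF) : MF) = Matrix.trace (x : MF) := by
  rw [conjGL_coe, Matrix.trace_mul_cycle, h2, Matrix.one_mul]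

theorem conjGL_neg (P Q : MF) (h1 : P * Q = 1) (h2 : Q * P = 1) (x : SF) :
    conjGL P Q h1 h2 (-x) = -conjGL P Q h1 h2 x := by
  apply Subtype.ext
  rw [Matrix.SpecialLinearGroup.coe_neg, conjGL_coe, conjGL_coe, Matrix.SpecialLinearGroup.coe_neg,
    Matrix.mul_neg, Matrix.neg_mul]

/-- the standard element of order 4 -/
def i0 : SF := ⟨!![0, -1; 1, 0], by simp [Matrix.det_fin_two_of]⟩

/-- the standard second generator -/
def j0 (a b : F) (h : a ^ 2 + b ^ 2 = -1) : SF :=
  ⟨!![a, b; b, -a], by rw [Matrix.det_fin_two_of]; linear_combination -h⟩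

theorem i0_coe : ((i0 : SF) : MF) = !![0, -1; 1, 0] := rfl

theorem j0_coe (a b : F) (h : a ^ 2 + b ^ 2 = -1) : ((j0 a b h : SF) : MF) = !![a, b; b, -a] := rfl

/-- general conjugation of a trace-zero element to `i0` -/
theorem exists_conj_i0_aux (x y z v₁ v₂ : F) (hx : x ^ 2 + y * z = -1)
    (hd : z * v₁ ^ 2 - 2 * x * v₁ * v₂ - y * v₂ ^ 2 ≠ 0) :
    ∃ P Q : MF, P * Q = 1 ∧ Q * P = 1 ∧ P * !![x, y; z, -x] * Q = !![0, -1; 1, 0] := by
  set d := z * v₁ ^ 2 - 2 * x * v₁ * v₂ - y * v₂ ^ 2 with hddef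
  refine ⟨!![(z * v₁ - x * v₂) / d, -(x * v₁ + y * v₂) / d; -v₂ / d, v₁ / d],
    !![v₁, x * v₁ + y * v₂; v₂, z * v₁ - x * v₂], ?_, ?_, ?_⟩
  · ext a b
    fin_cases a <;> fin_cases b <;>
      simp [Matrix.mul_apply, Fin.sum_univ_two] <;> field_simp <;> rw [hddef] <;> ring
  · ext a b
    fin_cases a <;> fin_cases b <;>
      simp [Matrix.mul_apply, Fin.sum_univ_two] <;> field_simp <;> rw [hddef] <;> ring
  · ext a b
    fin_cases a <;> fin_cases b <;>
      simp [Matrix.mul_apply, Fin.sum_univ_two] <;> field_simp <;> rw [hddef]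
    · ring
    · linear_combination (-v₂ * (v₁ * x + v₂ * y) + (z * v₁ - x * v₂) * v₁) * hx
    · ring
    · ring

/-- entries of an element with square `-1` -/
theorem entries_of_sq (i : SF) (hi : i * i = -1) :
    (i : MF) 1 1 = -(i : MF) 0 0 ∧ ((i : MF) 0 0) ^ 2 + (i : MF) 0 1 * (i : MF) 1 0 = -1 := by
  have hdet := det_eq i
  have h := congrArg (fun x : SF => (x : MF)) hi
  simp only [Matrix.SpecialLinearGroup.coe_mul, Matrix.SpecialLinearGroup.coe_neg,
    Matrix.SpecialLinearGroup.coe_one] at h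
  have e00 := congrFun (congrFun h 0) 0
  have e11 := congrFun (congrFun h 1) 1
  simp [Matrix.mul_apply, Fin.sum_univ_two] at e00 e11
  have hs : ((i : MF) 0 0 + (i : MF) 1 1) ^ 2 = 0 := by
    linear_combination e00 + e11 + 2 * hdet
  have hs' : (i : MF) 0 0 + (i : MF) 1 1 = 0 := by
    rcases pow_eq_zero_iff (two_ne_zero) |>.1 hs with h
    exact h
  constructor
  · linear_combination hs'
  · linear_combination e00

theorem exists_conj_i0 (h2 : (2 : F) ≠ 0) (i : SF) (hi : i * i = -1) :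
    ∃ P Q : MF, ∃ (h1 : P * Q = 1) (h2' : Q * P = 1), conjGL P Q h1 h2' i = i0 := by
  obtain ⟨hw, hx⟩ := entries_of_sq i hi
  set x := (i : MF) 0 0 with hxdef
  set y := (i : MF) 0 1 with hydef
  set z := (i : MF) 1 0 with hzdef
  have hi' : (i : MF) = !![x, y; z, -x] := by
    rw [Matrix.eta_fin_two (i : MF), hw]
  have key : ∀ v₁ v₂ : F, z * v₁ ^ 2 - 2 * x * v₁ * v₂ - y * v₂ ^ 2 ≠ 0 →
      ∃ P Q : MF, ∃ (h1 : P * Q = 1) (h2' : Q * P = 1), conjGL P Q h1 h2' i = i0 := by
    intro v₁ v₂ hd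
    obtain ⟨P, Q, h1, h2', h3⟩ := exists_conj_i0_aux x y z v₁ v₂ hx hd
    refine ⟨P, Q, h1, h2', ?_⟩
    apply Subtype.ext
    rw [conjGL_coe, hi', h3, i0_coe]
  by_cases hz : z = 0
  · by_cases hy : y = 0
    · apply key 1 1
      rw [hz, hy]
      have hx0 : x ≠ 0 := by
        intro h0
        rw [h0, hy] at hx
        have : (1 : F) = 0 := by linear_combination hx
        exact one_ne_zero this
      have : (0 : F) * 1 ^ 2 - 2 * x * 1 * 1 - 0 * 1 ^ 2 = -(2 * x) := by ring
      rw [this]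
      exact neg_ne_zero.2 (mul_ne_zero h2 hx0)
    · apply key 0 1
      have : z * (0 : F) ^ 2 - 2 * x * 0 * 1 - y * 1 ^ 2 = -y := by ring
      rw [this]
      exact neg_ne_zero.2 hy
  · apply key 1 0
    have : z * (1 : F) ^ 2 - 2 * x * 1 * 0 - y * 0 ^ 2 = z := by ring
    rw [this]
    exact hz

theorem exists_conj_j0 (h2 : (2 : F) ≠ 0) (j : SF) (hij : i0 * j = -(j * i0))
    (a₀ b₀ : F) (h₀ : a₀ ^ 2 + b₀ ^ 2 = -1) :
    ∃ P Q : MF, ∃ (h1 : P * Q = 1) (h2' : Q * P = 1),
      conjGL P Q h1 h2' i0 = i0 ∧ conjGL P Q h1 h2' j = j0 a₀ b₀ h₀ := by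
  have hdet := det_eq j
  have h := congrArg (fun x : SF => (x : MF)) hij
  simp only [Matrix.SpecialLinearGroup.coe_mul, Matrix.SpecialLinearGroup.coe_neg, i0_coe] at h
  have e00 := congrFun (congrFun h 0) 0
  have e01 := congrFun (congrFun h 0) 1
  simp [Matrix.mul_apply, Fin.sum_univ_two] at e00 e01
  set a := (j : MF) 0 0 with hadef
  set b := (j : MF) 0 1 with hbdef
  have hc : (j : MF) 1 0 = b := by linear_combination e00
  have hd : (j : MF) 1 1 = -a := by linear_combination -e01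
  have hj' : (j : MF) = !![a, b; b, -a] := by
    rw [Matrix.eta_fin_two (j : MF), hc, hd]
  have hab : a ^ 2 + b ^ 2 = -1 := by
    rw [hc, hd] at hdet
    linear_combination -hdet
  set α := a₀ * a + b₀ * b with hα
  set β := b₀ * a - a₀ * b with hβ
  have hαβ : α ^ 2 + β ^ 2 = 1 := by
    rw [hα, hβ]
    linear_combination (a ^ 2 + b ^ 2) * h₀ - hab
  have k1 : β * b - α * a = a₀ := by
    rw [hα, hβ]; linear_combination (-a₀) * hab
  have k2 : β * a + α * b = -b₀ := by
    rw [hα, hβ]; linear_combination b₀ * hab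
  by_cases hα1 : α = 1
  · have hβ0 : β = 0 := by
      have : β ^ 2 = 0 := by rw [hα1] at hαβ; linear_combination hαβ
      exact pow_eq_zero_iff (two_ne_zero) |>.1 this
    have ha₀ : a₀ = -a := by
      have e1 : a₀ * (a₀ * a + b₀ * b) = a₀ := by rw [← hα, hα1, mul_one]
      have e2 : b₀ * a - a₀ * b = 0 := by rw [← hβ, hβ0]
      linear_combination -e1 - b₀ * e2 + a * h₀
    have hb₀ : b₀ = -b := by
      have e1 : b₀ * (a₀ * a + b₀ * b) = b₀ := by rw [← hα, hα1, mul_one]
      have e2 : b₀ * a - a₀ * b = 0 := by rw [← hβ, hβ0]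
      linear_combination -e1 + a₀ * e2 + b * h₀
    refine ⟨!![0, -1; 1, 0], !![0, 1; -1, 0], ?_, ?_, ?_, ?_⟩
    · ext r c
      fin_cases r <;> fin_cases c <;> simp [Matrix.mul_apply, Fin.sum_univ_two]
    · ext r c
      fin_cases r <;> fin_cases c <;> simp [Matrix.mul_apply, Fin.sum_univ_two]
    · apply Subtype.ext
      rw [conjGL_coe, i0_coe]
      ext r c
      fin_cases r <;> fin_cases c <;> simp [Matrix.mul_apply, Fin.sum_univ_two]
    · apply Subtype.ext
      rw [conjGL_coe, j0_coe, hj', ha₀, hb₀]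
      ext r c
      fin_cases r <;> fin_cases c <;> simp [Matrix.mul_apply, Fin.sum_univ_two]
  · have hδ : 2 * (1 - α) ≠ 0 := mul_ne_zero h2 (sub_ne_zero.2 (Ne.symm hα1))
    set δ := 2 * (1 - α) with hδdef
    refine ⟨!![1 - α, β; -β, 1 - α], !![(1 - α) / δ, -β / δ; β / δ, (1 - α) / δ], ?_, ?_, ?_, ?_⟩
    · ext r c
      fin_cases r <;> fin_cases c <;>
        simp [Matrix.mul_apply, Fin.sum_univ_two] <;> field_simp <;> rw [hδdef]
      · linear_combination hαβ
      · ring
      · ring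
      · linear_combination hαβ
    · ext r c
      fin_cases r <;> fin_cases c <;>
        simp [Matrix.mul_apply, Fin.sum_univ_two] <;> field_simp <;> rw [hδdef]
      · linear_combination hαβ
      · ring
      · ring
      · linear_combination hαβ
    · apply Subtype.ext
      rw [conjGL_coe, i0_coe]
      ext r c
      fin_cases r <;> fin_cases c <;>
        simp [Matrix.mul_apply, Fin.sum_univ_two] <;> field_simp <;> rw [hδdef]
      · ring
      · linear_combination -hαβ
      · linear_combination hαβ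
      · ring
    · apply Subtype.ext
      rw [conjGL_coe, j0_coe, hj']
      ext r c
      fin_cases r <;> fin_cases c <;>
        simp [Matrix.mul_apply, Fin.sum_univ_two] <;> field_simp <;> rw [hδdef]
      · linear_combination (-a) * hαβ + 2 * (1 - α) * k1
      · linear_combination (-b) * hαβ - 2 * (1 - α) * k2
      · linear_combination (-b) * hαβ - 2 * (1 - α) * k2
      · linear_combination a * hαβ - 2 * (1 - α) * k1

/-- **Rigidity of quaternion pairs**: any pair `i, j` with `i² = -1`, `ij = -ji` can be moved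
to the standard pair by a trace-preserving automorphism. -/
theorem rigid (h2 : (2 : F) ≠ 0) (i j : SF) (hi : i * i = -1) (hij : i * j = -(j * i))
    (a₀ b₀ : F) (h₀ : a₀ ^ 2 + b₀ ^ 2 = -1) :
    ∃ ε : SF ≃* SF, (∀ x, Matrix.trace ((ε x : SF) : MF) = Matrix.trace (x : MF)) ∧
      (∀ x, ε (-x) = -ε x) ∧ ε i = i0 ∧ ε j = j0 a₀ b₀ h₀ := by
  obtain ⟨P₁, Q₁, h1, h1', hε₁⟩ := exists_conj_i0 h2 i hi
  set ε₁ := conjGL P₁ Q₁ h1 h1' with hε₁def
  have hij' : i0 * ε₁ j = -(ε₁ j * i0) := by
    rw [← hε₁, ← map_mul, hij, hε₁def, conjGL_neg, map_mul]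
  obtain ⟨P₂, Q₂, h3, h3', hε₂i, hε₂j⟩ := exists_conj_j0 h2 (ε₁ j) hij' a₀ b₀ h₀
  set ε₂ := conjGL P₂ Q₂ h3 h3' with hε₂def
  refine ⟨ε₁.trans ε₂, ?_, ?_, ?_, ?_⟩
  · intro x; rw [MulEquiv.trans_apply, hε₂def, conjGL_trace, hε₁def, conjGL_trace]
  · intro x; rw [MulEquiv.trans_apply, MulEquiv.trans_apply, hε₁def, conjGL_neg, hε₂def, conjGL_neg]
  · rw [MulEquiv.trans_apply, hε₁, hε₂i]
  · rw [MulEquiv.trans_apply, hε₂j]

/-- the centraliser of the standard quaternion pair is `±1` -/
theorem eq_one_or_neg_one_of_commute (h2 : (2 : F) ≠ 0) (a b : F) (h : a ^ 2 + b ^ 2 = -1) (c : SF)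
    (hc1 : c * i0 = i0 * c) (hc2 : c * j0 a b h = j0 a b h * c) : c = 1 ∨ c = -1 := by
  have hdet := det_eq c
  have e1 := congrArg (fun x : SF => (x : MF)) hc1
  have e2 := congrArg (fun x : SF => (x : MF)) hc2
  simp only [Matrix.SpecialLinearGroup.coe_mul, i0_coe, j0_coe] at e1 e2
  have e100 := congrFun (congrFun e1 0) 0
  have e101 := congrFun (congrFun e1 0) 1
  have e200 := congrFun (congrFun e2 0) 0
  have e201 := congrFun (congrFun e2 0) 1
  simp [Matrix.mul_apply, Fin.sum_univ_two] at e100 e101 e200 e201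
  set c00 := (c : MF) 0 0
  set c01 := (c : MF) 0 1
  set c10 := (c : MF) 1 0
  set c11 := (c : MF) 1 1
  have h10 : c10 = -c01 := by linear_combination e100
  have h11 : c11 = c00 := by linear_combination -e101
  have ha : c01 * a = 0 := by
    have : 2 * (c01 * a) = 0 := by rw [h11] at e201; linear_combination -e201
    rcases mul_eq_zero.1 this with h | h
    · exact absurd h h2
    · exact h
  have hb : c01 * b = 0 := by
    have : 2 * (c01 * b) = 0 := by rw [h10] at e200; linear_combination e200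
    rcases mul_eq_zero.1 this with h | h
    · exact absurd h h2
    · exact h
  have h01 : c01 = 0 := by linear_combination c01 * h - a * ha - b * hb
  have h10' : c10 = 0 := by rw [h10, h01, neg_zero]
  have hsq : c00 ^ 2 = 1 := by
    rw [h11, h01, h10'] at hdet
    linear_combination hdet
  have hpm : c00 = 1 ∨ c00 = -1 := by
    have : (c00 - 1) * (c00 + 1) = 0 := by linear_combination hsq
    rcases mul_eq_zero.1 this with h | h
    · left; linear_combination h
    · right; linear_combination h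
  rcases hpm with h | h
  · left
    apply Subtype.ext
    rw [Matrix.eta_fin_two (c : MF)]
    show !![c00, c01; c10, c11] = _
    rw [h11, h01, h10', h]
    simp [Matrix.one_fin_two]
  · right
    apply Subtype.ext
    rw [Matrix.eta_fin_two (c : MF)]
    show !![c00, c01; c10, c11] = _
    rw [h11, h01, h10', h]
    simp [Matrix.one_fin_two]

/-- quaternion coordinates: an element whose four "coordinate traces" lie in a subfield `K`
(containing the parameters of the standard pair) has all entries in `K` -/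
theorem mem_SLK_of_traces (h2 : (2 : F) ≠ 0) (K : Subfield F) (a b : F) (h : a ^ 2 + b ^ 2 = -1)
    (ha : a ∈ K) (hb : b ∈ K) (g : SF)
    (t0 : Matrix.trace (g : MF) ∈ K) (t1 : Matrix.trace ((g * i0 : SF) : MF) ∈ K)
    (t2 : Matrix.trace ((g * j0 a b h : SF) : MF) ∈ K)
    (t3 : Matrix.trace ((g * (i0 * j0 a b h) : SF) : MF) ∈ K) : g ∈ SLK K := by
  simp only [Matrix.SpecialLinearGroup.coe_mul, i0_coe, j0_coe, Matrix.trace_fin_two] at t0 t1 t2 t3
  simp [Matrix.mul_apply, Fin.sum_univ_two] at t1 t2 t3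
  set g00 := (g : MF) 0 0
  set g01 := (g : MF) 0 1
  set g10 := (g : MF) 1 0
  set g11 := (g : MF) 1 1
  have h2K : (2 : F) ∈ K := by
    have : (2 : F) = 1 + 1 := by norm_num
    rw [this]; exact K.add_mem K.one_mem K.one_mem
  have hu : g00 - g11 ∈ K := by
    have : g00 - g11 = b * (-(g00 * b) + g01 * a + (g10 * a + g11 * b)) -
        a * (g00 * a + g01 * b + (g10 * b + -(g11 * a))) := by
      linear_combination (g00 - g11) * h
    rw [this]
    exact K.sub_mem (K.mul_mem hb t3) (K.mul_mem ha t2)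
  have hw : g01 + g10 ∈ K := by
    have : g01 + g10 = -(b * (g00 * a + g01 * b + (g10 * b + -(g11 * a))) +
        a * (-(g00 * b) + g01 * a + (g10 * a + g11 * b))) := by
      linear_combination (g01 + g10) * h
    rw [this]
    exact K.neg_mem (K.add_mem (K.mul_mem hb t2) (K.mul_mem ha t3))
  rw [mem_SLK]
  intro r c
  fin_cases r <;> fin_cases c
  · show g00 ∈ K
    have : g00 = ((g00 + g11) + (g00 - g11)) / 2 := by field_simp; ring
    rw [this]; exact K.div_mem (K.add_mem t0 hu) h2K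
  · show g01 ∈ K
    have : g01 = ((g01 + g10) + (g01 + -g10)) / 2 := by field_simp; ring
    rw [this]; exact K.div_mem (K.add_mem hw t1) h2K
  · show g10 ∈ K
    have : g10 = ((g01 + g10) - (g01 + -g10)) / 2 := by field_simp; ring
    rw [this]; exact K.div_mem (K.sub_mem hw t1) h2K
  · show g11 ∈ K
    have : g11 = ((g00 + g11) - (g00 - g11)) / 2 := by field_simp; ring
    rw [this]; exact K.div_mem (K.sub_mem t0 hu) h2K

end Cfsg.Agent.Helper18.L2Max
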