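import Cfsg.Agent.Helper18.L2Max2

/-! Maximal subgroups of `PSL₂(q)`, part 3: maximal subgroups of `SL₂(q)` containing a
quaternion pair: descent to subfields (trace field and Frobenius arguments). -/

set_option autoImplicit false

namespace Cfsg.Agent.Helper18.L2Max

open Cfsg.Agent.Helper18.Dickson

variable {F : Type*} [Field F]

local notation "SF" => Matrix.SpecialLinearGroup (Fin 2) F
local notation "MF" => Matrix (Fin 2) (Fin 2) F

/-- parameters of the standard pair in the prime field -/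
theorem exists_params (p : ℕ) [Fact p.Prime] [CharP F p] :
    ∃ a b : F, a ∈ (⊥ : Subfield F) ∧ b ∈ (⊥ : Subfield F) ∧ a ^ 2 + b ^ 2 = -1 := by
  obtain ⟨a, b, h⟩ := CharP.sq_add_sq F p (-1)
  exact ⟨a, b, natCast_mem _ a, natCast_mem _ b, by simpa using h⟩

theorem orderOf_uM_one (p : ℕ) [Fact p.Prime] [CharP F p] : orderOf (uM (1 : F)) = p := by
  apply orderOf_eq_prime (uM_pow_char p 1)
  rw [Ne, uM_eq_one_iff]
  exact one_ne_zero

theorem dvd_card_of_SLK_le [Finite F] (p : ℕ) [Fact p.Prime] [CharP F p] (K : Subfield F)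
    (H : Subgroup SF) (h : SLK K ≤ H) : p ∣ Nat.card H := by
  have h1 : uM (1 : F) ∈ H := h ((uM_mem_SLK K 1).2 K.one_mem)
  rw [← orderOf_uM_one (F := F) p]
  exact Subgroup.orderOf_dvd_natCard H h1

theorem map_isCoatom {G : Type*} [Group G] (ε : G ≃* G) {H : Subgroup G} (hH : IsCoatom H) :
    IsCoatom (H.map ε.toMonoidHom) := by
  have := (MulEquiv.mapSubgroup ε).isCoatom_iff H
  exact this.2 hH

/-- **Trace field descent**: a maximal subgroup of `SL₂(F)` containing a quaternion pair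
whose traces all lie in `K`, and of order different from that of `SL₂(K)`, forces `K = F`. -/
theorem eq_top_of_traces' [Finite F] (p : ℕ) [Fact p.Prime] [CharP F p] (hp : p ≠ 2)
    (H : Subgroup SF) (hH : IsCoatom H) (i j : SF)
    (hiH : i ∈ H) (hjH : j ∈ H) (hi : i * i = -1) (hij : i * j = -(j * i))
    (K : Subfield F) (hne : Nat.card H ≠ Nat.card (SLK K))
    (hK : ∀ h ∈ H, Matrix.trace (h : MF) ∈ K) : K = ⊤ := by
  have h2 : (2 : F) ≠ 0 := two_ne_zero_of_char (E := F) p hp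
  obtain ⟨a, b, ha, hb, hab⟩ := exists_params (F := F) p
  obtain ⟨ε, hεtr, -, hεi, hεj⟩ := rigid h2 i j hi hij a b hab
  set H' := H.map ε.toMonoidHom with hH'
  have hH'co : IsCoatom H' := map_isCoatom ε hH
  have hcard : Nat.card H' = Nat.card H := Subgroup.card_map_of_injective ε.injective
  have hle : H' ≤ SLK K := by
    rintro _ ⟨h, hh, rfl⟩
    have e1 : ε.toMonoidHom h * i0 = ε (h * i) := by rw [map_mul, hεi]; rfl
    have e2 : ε.toMonoidHom h * j0 a b hab = ε (h * j) := by rw [map_mul, hεj]; rfl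
    have e3 : ε.toMonoidHom h * (i0 * j0 a b hab) = ε (h * (i * j)) := by
      rw [map_mul, map_mul, hεi, hεj]; rfl
    apply mem_SLK_of_traces h2 K a b hab (bot_le (a := K) ha) (bot_le (a := K) hb)
    · show Matrix.trace ((ε h : SF) : MF) ∈ K
      rw [hεtr]; exact hK h hh
    · rw [e1, hεtr]; exact hK _ (H.mul_mem hh hiH)
    · rw [e2, hεtr]; exact hK _ (H.mul_mem hh hjH)
    · rw [e3, hεtr]; exact hK _ (H.mul_mem hh (H.mul_mem hiH hjH))
  have hSLK : SLK K = ⊤ := by
    by_contra hne'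
    have heq : H' = SLK K := by
      by_contra hne''
      exact hne' (hH'co.2 _ (lt_of_le_of_ne hle hne''))
    apply hne
    rw [← hcard, heq]
  rw [eq_top_iff]
  intro x _
  rw [← uM_mem_SLK K x, hSLK]
  exact Subgroup.mem_top _

/-- the `p'` version -/
theorem eq_top_of_traces [Finite F] (p : ℕ) [Fact p.Prime] [CharP F p] (hp : p ≠ 2)
    (H : Subgroup SF) (hH : IsCoatom H) (hpH : ¬ p ∣ Nat.card H) (i j : SF)
    (hiH : i ∈ H) (hjH : j ∈ H) (hi : i * i = -1) (hij : i * j = -(j * i))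
    (K : Subfield F) (hK : ∀ h ∈ H, Matrix.trace (h : MF) ∈ K) : K = ⊤ := by
  apply eq_top_of_traces' p hp H hH i j hiH hjH hi hij K _ hK
  intro h
  apply hpH
  rw [h]
  exact dvd_card_of_SLK_le p K (SLK K) le_rfl

/-- the entrywise Frobenius automorphism of `SL₂(F)` -/
noncomputable def frobSL (p : ℕ) [Fact p.Prime] [CharP F p] : SF →* SF :=
  Matrix.SpecialLinearGroup.map (frobenius F p)

theorem frobSL_apply (p : ℕ) [Fact p.Prime] [CharP F p] (g : SF) (k l : Fin 2) :
    ((frobSL p g : SF) : MF) k l = ((g : MF) k l) ^ p := by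
  unfold frobSL
  rw [Matrix.SpecialLinearGroup.map_apply_coe, RingHom.mapMatrix_apply, Matrix.map_apply,
    frobenius_def]

theorem frobSL_neg (p : ℕ) [Fact p.Prime] [CharP F p] (hp : p ≠ 2) (g : SF) :
    frobSL p (-g) = -frobSL p g := by
  apply Subtype.ext
  ext k l
  rw [frobSL_apply, Matrix.SpecialLinearGroup.coe_neg, Matrix.SpecialLinearGroup.coe_neg,
    Matrix.neg_apply, Matrix.neg_apply, frobSL_apply]
  have hodd : Odd p := (Fact.out : p.Prime).odd_of_ne_two hp
  exact hodd.neg_pow _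

theorem frobSL_i0 (p : ℕ) [Fact p.Prime] [CharP F p] (hp : p ≠ 2) : frobSL p (i0 : SF) = i0 := by
  have hodd : Odd p := (Fact.out : p.Prime).odd_of_ne_two hp
  have hp0 : p ≠ 0 := (Fact.out : p.Prime).ne_zero
  apply Subtype.ext
  ext k l
  rw [frobSL_apply, i0_coe]
  fin_cases k <;> fin_cases l <;> simp [hp0, hodd.neg_pow]

theorem frobSL_j0 (p : ℕ) [Fact p.Prime] [CharP F p] (hp : p ≠ 2) (a b : F)
    (h : a ^ 2 + b ^ 2 = -1) (ha : a ^ p = a) (hb : b ^ p = b) :
    frobSL p (j0 a b h) = j0 a b h := by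
  have hodd : Odd p := (Fact.out : p.Prime).odd_of_ne_two hp
  apply Subtype.ext
  ext k l
  rw [frobSL_apply, j0_coe]
  fin_cases k <;> fin_cases l <;> simp [ha, hb, hodd.neg_pow]

/-- **Frobenius descent**: an element conjugating the standard pair to Frobenius-fixed
elements lies in the normaliser of `SL₂` of the prime field. -/
theorem mem_NK_bot_of_frob (p : ℕ) [Fact p.Prime] [CharP F p] (hp : p ≠ 2) (a b : F)
    (h : a ^ 2 + b ^ 2 = -1) (ha : a ^ p = a) (hb : b ^ p = b) (n : SF)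
    (hn1 : frobSL p (n * i0 * n⁻¹) = n * i0 * n⁻¹)
    (hn2 : frobSL p (n * j0 a b h * n⁻¹) = n * j0 a b h * n⁻¹) : n ∈ NK (⊥ : Subfield F) := by
  have h2 : (2 : F) ≠ 0 := two_ne_zero_of_char (E := F) p hp
  set σ := frobSL (F := F) p with hσ
  set c := n⁻¹ * σ n with hc
  have hc1 : c * i0 = i0 * c := by
    rw [map_mul, map_mul, map_inv, frobSL_i0 p hp] at hn1
    have : σ n * i0 = n * i0 * n⁻¹ * σ n := by
      rw [← hn1]; group
    calc c * i0 = n⁻¹ * (σ n * i0) := by rw [hc]; group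
      _ = n⁻¹ * (n * i0 * n⁻¹ * σ n) := by rw [this]
      _ = i0 * c := by rw [hc]; group
  have hc2 : c * j0 a b h = j0 a b h * c := by
    rw [map_mul, map_mul, map_inv, frobSL_j0 p hp a b h ha hb] at hn2
    have : σ n * j0 a b h = n * j0 a b h * n⁻¹ * σ n := by
      rw [← hn2]; group
    calc c * j0 a b h = n⁻¹ * (σ n * j0 a b h) := by rw [hc]; group
      _ = n⁻¹ * (n * j0 a b h * n⁻¹ * σ n) := by rw [this]
      _ = j0 a b h * c := by rw [hc]; group
  have hσn : σ n = n * c := by rw [hc]; group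
  rcases eq_one_or_neg_one_of_commute h2 a b h c hc1 hc2 with h1 | h1
  · rw [h1, mul_one] at hσn
    apply SLK_le_NK
    rw [mem_SLK]
    intro k l
    rw [Subfield.mem_bot_iff_pow_eq_self F p, ← frobSL_apply, ← hσ, hσn]
  · rw [h1, mul_neg, mul_one] at hσn
    have hent : ∀ k l, ((n : MF) k l) ^ p = -((n : MF) k l) := by
      intro k l
      rw [← frobSL_apply, ← hσ, hσn, Matrix.SpecialLinearGroup.coe_neg, Matrix.neg_apply]
    -- a nonzero entry
    obtain ⟨k, l, hkl⟩ : ∃ k l, (n : MF) k l ≠ 0 := by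
      by_contra hall
      push Not at hall
      have hdet := det_eq n
      rw [hall 0 0, hall 0 1] at hdet
      simp at hdet
    refine ⟨(n : MF) k l, hkl, ?_, ?_⟩
    · rw [Subfield.mem_bot_iff_pow_eq_self F p, ← pow_mul, mul_comm, pow_mul, hent]
      ring
    · intro k' l'
      rw [Subfield.mem_bot_iff_pow_eq_self F p, mul_pow, hent, hent]
      ring

theorem card_eq_of_bot_eq_top [Fintype F] (p : ℕ) [Fact p.Prime] [CharP F p]
    (h : (⊥ : Subfield F) = ⊤) : Fintype.card F = p := by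
  rw [← Subfield.card_bot F p, h, ← Nat.card_eq_fintype_card]
  exact (Nat.card_congr Subfield.topEquiv.toEquiv).symm

theorem NK_bot_ne_top [Fintype F] (p : ℕ) [Fact p.Prime] [CharP F p]
    (h : NK (⊥ : Subfield F) = ⊤) : Fintype.card F = p := by
  apply card_eq_of_bot_eq_top p
  rw [eq_top_iff]
  intro x _
  have hx : uM x ∈ NK (⊥ : Subfield F) := h ▸ Subgroup.mem_top _
  obtain ⟨t, ht0, -, ht⟩ := (mem_NK _ _).1 hx
  have h00 := ht 0 0
  have h01 := ht 0 1
  simp [uM_coe] at h00 h01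
  have := (⊥ : Subfield F).mul_mem ((⊥ : Subfield F).inv_mem h00) h01
  rwa [← mul_assoc, inv_mul_cancel₀ ht0, one_mul] at this

/-- **Frobenius descent for maximal subgroups**: a maximal `p'`-subgroup of `SL₂(F)`
normalising a quaternion pair (up to signs) forces `F` to be the prime field. -/
theorem card_eq_prime_of_normalizes [Fintype F] (p : ℕ) [Fact p.Prime] [CharP F p] (hp : p ≠ 2)
    (H : Subgroup SF) (hH : IsCoatom H) (hpH : ¬ p ∣ Nat.card H) (i j : SF)
    (hi : i * i = -1) (hij : i * j = -(j * i))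
    (hnorm : ∀ h ∈ H, ∀ x, x = i ∨ x = j →
      h * x * h⁻¹ ∈ ({i, -i, j, -j, i * j, -(i * j)} : Set SF)) :
    Fintype.card F = p := by
  have h2 : (2 : F) ≠ 0 := two_ne_zero_of_char (E := F) p hp
  obtain ⟨a, b, ha, hb, hab⟩ := exists_params (F := F) p
  have ha' : a ^ p = a := (Subfield.mem_bot_iff_pow_eq_self F p).1 ha
  have hb' : b ^ p = b := (Subfield.mem_bot_iff_pow_eq_self F p).1 hb
  obtain ⟨ε, -, hεneg, hεi, hεj⟩ := rigid h2 i j hi hij a b hab
  set H' := H.map ε.toMonoidHom with hH'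
  have hH'co : IsCoatom H' := map_isCoatom ε hH
  have hcard : Nat.card H' = Nat.card H := Subgroup.card_map_of_injective ε.injective
  have hfi := frobSL_i0 (F := F) p hp
  have hfj := frobSL_j0 p hp a b hab ha' hb'
  have hfix : ∀ x ∈ ({i, -i, j, -j, i * j, -(i * j)} : Set SF), frobSL p (ε x) = ε x := by
    intro x hx
    simp only [Set.mem_insert_iff, Set.mem_singleton_iff] at hx
    rcases hx with rfl | rfl | rfl | rfl | rfl | rfl
    · rw [hεi, hfi]
    · rw [hεneg, hεi, frobSL_neg p hp, hfi]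
    · rw [hεj, hfj]
    · rw [hεneg, hεj, frobSL_neg p hp, hfj]
    · rw [map_mul, hεi, hεj, map_mul, hfi, hfj]
    · rw [hεneg, map_mul, hεi, hεj, frobSL_neg p hp, map_mul, hfi, hfj]
  have hle : H' ≤ NK (⊥ : Subfield F) := by
    rintro _ ⟨h, hh, rfl⟩
    apply mem_NK_bot_of_frob p hp a b hab ha' hb'
    · have e : ε.toMonoidHom h * i0 * (ε.toMonoidHom h)⁻¹ = ε (h * i * h⁻¹) := by
        rw [map_mul, map_mul, map_inv, hεi]; rfl
      rw [e]
      exact hfix _ (hnorm h hh i (Or.inl rfl))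
    · have e : ε.toMonoidHom h * j0 a b hab * (ε.toMonoidHom h)⁻¹ = ε (h * j * h⁻¹) := by
        rw [map_mul, map_mul, map_inv, hεj]; rfl
      rw [e]
      exact hfix _ (hnorm h hh j (Or.inr rfl))
  apply NK_bot_ne_top p
  by_contra hne
  have heq : H' = NK (⊥ : Subfield F) := by
    by_contra hne'
    exact hne (hH'co.2 _ (lt_of_le_of_ne hle hne'))
  apply hpH
  rw [← hcard]
  exact dvd_card_of_SLK_le p ⊥ H' (heq ▸ SLK_le_NK ⊥)

end Cfsg.Agent.Helper18.L2Max
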