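import Cfsg.Agent.Helper18.L2Max3
import Cfsg.Agent.Helper18.DicksonK2

/-! Maximal subgroups of `PSL₂(q)`, part 4: lifting from `PSL₂` to `SL₂`; traces of elements of
small projective order. -/

set_option autoImplicit false

namespace Cfsg.Agent.Helper18.L2Max

open Cfsg.Agent.Helper18.Dickson

variable {F : Type*} [Field F]

local notation "SF" => Matrix.SpecialLinearGroup (Fin 2) F
local notation "MF" => Matrix (Fin 2) (Fin 2) F
local notation "PF" => Matrix.ProjectiveSpecialLinearGroup (Fin 2) F
local notation "π" => QuotientGroup.mk' (Subgroup.center SF)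

theorem isCoatom_comap {G Q : Type*} [Group G] [Group Q] (f : G →* Q)
    (hf : Function.Surjective f) {M : Subgroup Q} (hM : IsCoatom M) : IsCoatom (M.comap f) := by
  constructor
  · intro h
    apply hM.1
    rw [eq_top_iff]
    intro x _
    obtain ⟨y, rfl⟩ := hf x
    have : y ∈ M.comap f := h ▸ Subgroup.mem_top y
    exact this
  · intro K hK
    have h1 : M < K.map f := by
      refine lt_of_le_of_ne ?_ ?_
      · intro x hx
        obtain ⟨y, rfl⟩ := hf x
        exact ⟨y, hK.le hx, rfl⟩
      · intro h
        apply hK.not_ge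
        intro k hk
        show f k ∈ M
        rw [h]
        exact ⟨k, hk, rfl⟩
    have h2 := hM.2 _ h1
    rw [eq_top_iff]
    intro x _
    have : f x ∈ K.map f := h2 ▸ Subgroup.mem_top _
    obtain ⟨k, hk, hkx⟩ := this
    have hker : k⁻¹ * x ∈ M.comap f := by
      show f (k⁻¹ * x) ∈ M
      rw [map_mul, map_inv, hkx, inv_mul_cancel]
      exact M.one_mem
    have := K.mul_mem hk (hK.le hker)
    rwa [mul_inv_cancel_left] at this

theorem mk_eq_mk_iff (u v : SF) : π u = π v ↔ u = v ∨ u = -v := by
  have : π u = π v ↔ π (u * v⁻¹) = 1 := by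
    rw [map_mul, map_inv, mul_inv_eq_one]
  rw [this, mk_eq_one_iff]
  constructor
  · rintro (h | h)
    · left; exact mul_inv_eq_one.1 h
    · right
      have := mul_inv_eq_iff_eq_mul.1 h
      rw [this, neg_mul, one_mul]
  · rintro (h | h)
    · left; rw [h, mul_inv_cancel]
    · right; rw [h, neg_mul, mul_inv_cancel]

theorem trace_sq (g : SF) :
    Matrix.trace ((g * g : SF) : MF) = (Matrix.trace (g : MF)) ^ 2 - 2 := by
  rw [Matrix.SpecialLinearGroup.coe_mul, ch_sq g, Matrix.trace_sub, Matrix.trace_smul,
    Matrix.trace_fin_two, Matrix.trace_fin_two]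
  simp
  ring

theorem trace_one' : Matrix.trace (((1 : SF) : MF)) = 2 := by
  rw [Matrix.SpecialLinearGroup.coe_one, Matrix.trace_fin_two]
  simp; norm_num

theorem trace_neg_one' : Matrix.trace (((-1 : SF) : MF)) = -2 := by
  rw [Matrix.SpecialLinearGroup.coe_neg, Matrix.SpecialLinearGroup.coe_one, Matrix.trace_fin_two]
  simp; norm_num

/-- elements of projective order dividing 2 -/
theorem trace_of_pow_two (g : SF) (h : (π g) ^ 2 = 1) :
    Matrix.trace (g : MF) = 0 ∨ Matrix.trace (g : MF) = 2 ∨ Matrix.trace (g : MF) = -2 := by
  rw [← map_pow, mk_eq_one_iff, pow_two] at h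
  have ht := trace_sq g
  set t := Matrix.trace (g : MF)
  rcases h with h | h
  · rw [h, trace_one'] at ht
    have : (t - 2) * (t + 2) = 0 := by linear_combination -ht
    rcases mul_eq_zero.1 this with h | h
    · right; left; linear_combination h
    · right; right; linear_combination h
  · rw [h, trace_neg_one'] at ht
    left
    have : t ^ 2 = 0 := by linear_combination -ht
    exact pow_eq_zero_iff (two_ne_zero) |>.1 this

theorem trace_pow_three (g : SF) :
    Matrix.trace ((g ^ 3 : SF) : MF) = (Matrix.trace (g : MF)) ^ 3 - 3 * Matrix.trace (g : MF) := by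
  rw [Matrix.SpecialLinearGroup.coe_pow, ch_pow3 _ _ (ch_sq g), Matrix.trace_sub,
    Matrix.trace_smul, Matrix.trace_smul, Matrix.trace_fin_two, Matrix.trace_fin_two]
  simp
  ring

theorem trace_pow_five (g : SF) :
    Matrix.trace ((g ^ 5 : SF) : MF) =
      (Matrix.trace (g : MF)) ^ 5 - 5 * (Matrix.trace (g : MF)) ^ 3 + 5 * Matrix.trace (g : MF) := by
  rw [Matrix.SpecialLinearGroup.coe_pow, ch_pow5 _ _ (ch_sq g), Matrix.trace_sub,
    Matrix.trace_smul, Matrix.trace_smul, Matrix.trace_fin_two, Matrix.trace_fin_two]
  simp
  ring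

/-- elements of projective order dividing 3 -/
theorem trace_of_pow_three (g : SF) (h : (π g) ^ 3 = 1) :
    Matrix.trace (g : MF) = 2 ∨ Matrix.trace (g : MF) = -1 ∨ Matrix.trace (g : MF) = -2 ∨
      Matrix.trace (g : MF) = 1 := by
  rw [← map_pow, mk_eq_one_iff] at h
  have ht := trace_pow_three g
  set t := Matrix.trace (g : MF)
  rcases h with h | h
  · rw [h, trace_one'] at ht
    have : (t - 2) * (t + 1) ^ 2 = 0 := by linear_combination -ht
    rcases mul_eq_zero.1 this with h | h
    · left; linear_combination h
    · right; left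
      have := pow_eq_zero_iff (two_ne_zero) |>.1 h
      linear_combination this
  · rw [h, trace_neg_one'] at ht
    have : (t + 2) * (t - 1) ^ 2 = 0 := by linear_combination -ht
    rcases mul_eq_zero.1 this with h | h
    · right; right; left; linear_combination h
    · right; right; right
      have := pow_eq_zero_iff (two_ne_zero) |>.1 h
      linear_combination this

/-- elements of projective order dividing 5 -/
theorem trace_of_pow_five (g : SF) (h : (π g) ^ 5 = 1) :
    Matrix.trace (g : MF) = 2 ∨ Matrix.trace (g : MF) = -2 ∨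
      (Matrix.trace (g : MF)) ^ 2 + Matrix.trace (g : MF) - 1 = 0 ∨
      (Matrix.trace (g : MF)) ^ 2 - Matrix.trace (g : MF) - 1 = 0 := by
  rw [← map_pow, mk_eq_one_iff] at h
  have ht := trace_pow_five g
  set t := Matrix.trace (g : MF)
  rcases h with h | h
  · rw [h, trace_one'] at ht
    have : (t - 2) * (t ^ 2 + t - 1) ^ 2 = 0 := by linear_combination -ht
    rcases mul_eq_zero.1 this with h | h
    · left; linear_combination h
    · right; right; left
      exact pow_eq_zero_iff (two_ne_zero) |>.1 h
  · rw [h, trace_neg_one'] at ht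
    have : (t + 2) * (t ^ 2 - t - 1) ^ 2 = 0 := by linear_combination -ht
    rcases mul_eq_zero.1 this with h | h
    · right; left; linear_combination h
    · right; right; right
      exact pow_eq_zero_iff (two_ne_zero) |>.1 h

/-- lifting a Klein four-group to a quaternion pair -/
theorem exists_quaternion_pair (h2 : (2 : F) ≠ 0) (a b : PF) (ha1 : a ≠ 1) (hab : a ≠ b)
    (ha : a ^ 2 = 1) (hb : b ^ 2 = 1) (hcomm : a * b = b * a) (hb1 : b ≠ 1) :
    ∃ i j : SF, π i = a ∧ π j = b ∧ i * i = -1 ∧ j * j = -1 ∧ i * j = -(j * i) := by
  obtain ⟨i, rfl⟩ := QuotientGroup.mk'_surjective _ a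
  obtain ⟨j, rfl⟩ := QuotientGroup.mk'_surjective _ b
  have hsq : ∀ x : SF, π x ≠ 1 → (π x) ^ 2 = 1 → x * x = -1 := by
    intro x hx1 hx2
    rw [← map_pow, mk_eq_one_iff, pow_two] at hx2
    rcases hx2 with h | h
    · exfalso
      apply hx1
      rw [mk_eq_one_iff]
      -- `x * x = 1` forces `x = ±1`
      have hdet := det_eq x
      have hm := congrArg (fun y : SF => (y : MF)) h
      simp only [Matrix.SpecialLinearGroup.coe_mul, Matrix.SpecialLinearGroup.coe_one] at hm
      have e00 := congrFun (congrFun hm 0) 0
      have e01 := congrFun (congrFun hm 0) 1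
      have e10 := congrFun (congrFun hm 1) 0
      have e11 := congrFun (congrFun hm 1) 1
      simp [Matrix.mul_apply, Fin.sum_univ_two] at e00 e01 e10 e11
      set x00 := (x : MF) 0 0
      set x01 := (x : MF) 0 1
      set x10 := (x : MF) 1 0
      set x11 := (x : MF) 1 1
      have hs : (x00 - x11) ^ 2 + 4 * x01 * x10 = (x00 + x11) ^ 2 - 4 := by
        linear_combination (-4) * hdet
      have hs2 : (x00 + x11) ^ 2 = 4 := by linear_combination e00 + e11 + 2 * hdet
      have hs3 : x01 * (x00 + x11) = 0 := by linear_combination e01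
      have hs4 : x10 * (x00 + x11) = 0 := by linear_combination e10
      have hne : x00 + x11 ≠ 0 := by
        intro h0
        rw [h0] at hs2
        have : (4 : F) = 0 := by linear_combination -hs2
        have h4 : (4 : F) = 2 * 2 := by norm_num
        rw [h4] at this
        rcases mul_eq_zero.1 this with h | h <;> exact h2 h
      have h01 : x01 = 0 := by
        rcases mul_eq_zero.1 hs3 with h | h
        · exact h
        · exact absurd h hne
      have h10 : x10 = 0 := by
        rcases mul_eq_zero.1 hs4 with h | h
        · exact h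
        · exact absurd h hne
      have h11 : x11 = x00 := by
        have : (x00 - x11) ^ 2 = 0 := by
          rw [h01] at hs; rw [hs2] at hs; linear_combination hs
        have := pow_eq_zero_iff (two_ne_zero) |>.1 this
        linear_combination -this
      have hsq : x00 ^ 2 = 1 := by rw [h01, h11] at hdet; linear_combination hdet
      have hpm : x00 = 1 ∨ x00 = -1 := by
        have : (x00 - 1) * (x00 + 1) = 0 := by linear_combination hsq
        rcases mul_eq_zero.1 this with h | h
        · left; linear_combination h
        · right; linear_combination h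
      rcases hpm with h | h
      · left
        apply Subtype.ext
        rw [Matrix.eta_fin_two (x : MF)]
        show !![x00, x01; x10, x11] = _
        rw [h11, h01, h10, h]
        simp [Matrix.one_fin_two]
      · right
        apply Subtype.ext
        rw [Matrix.eta_fin_two (x : MF)]
        show !![x00, x01; x10, x11] = _
        rw [h11, h01, h10, h]
        simp [Matrix.one_fin_two]
    · exact h
  have hi := hsq i ha1 ha
  have hj := hsq j hb1 hb
  refine ⟨i, j, rfl, rfl, hi, hj, ?_⟩
  rw [← map_mul, ← map_mul, mk_eq_mk_iff] at hcomm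
  rcases hcomm with h | h
  · exfalso
    apply hab
    have h1 : (i * j) * (i * j) = 1 := by
      calc (i * j) * (i * j) = i * (j * i) * j := by group
        _ = i * (i * j) * j := by rw [h]
        _ = (i * i) * (j * j) := by group
        _ = 1 := by rw [hi, hj]; simp
    have h3 : π (i * j) ^ 2 = 1 := by rw [← map_pow, pow_two, h1, map_one]
    have h4 : π (i * j) = 1 := by
      by_contra hne
      have := hsq (i * j) hne h3
      rw [h1] at this
      have h5 := congrArg (fun y : SF => (y : MF) 0 0) this
      simp at h5
      have : (2 : F) = 0 := by linear_combination h5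
      exact h2 this
    rw [map_mul] at h4
    have h5 : π i = (π j)⁻¹ := mul_eq_one_iff_eq_inv.1 h4
    rw [h5]
    have : (π j)⁻¹ = π j := by
      rw [inv_eq_iff_mul_eq_one, ← pow_two]; exact hb
    exact this
  · exact h

end Cfsg.Agent.Helper18.L2Max
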