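import Cfsg.Agent.Helper18.L2Max4
import Cfsg.Agent.Helper18.Dickson37

/-! Maximal subgroups of `PSL₂(q)`, part 5: maximal subgroups isomorphic to `A₄`, `S₄`, `A₅`
(of order prime to `p`) force the field to be small. -/

set_option autoImplicit false

namespace Cfsg.Agent.Helper18.L2Max

open Cfsg.Agent.Helper18.Dickson

variable {F : Type*} [Field F]

local notation "SF" => Matrix.SpecialLinearGroup (Fin 2) F
local notation "MF" => Matrix (Fin 2) (Fin 2) F
local notation "PF" => Matrix.ProjectiveSpecialLinearGroup (Fin 2) F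
local notation "π" => QuotientGroup.mk' (Subgroup.center SF)

theorem klein_A4 : ∃ a b : alternatingGroup (Fin 4),
    a ≠ 1 ∧ a ≠ b ∧ a ^ 2 = 1 ∧ b ^ 2 = 1 ∧ a * b = b * a ∧ b ≠ 1 := by
  decide

theorem klein_S4 : ∃ a b : Equiv.Perm (Fin 4),
    a ≠ 1 ∧ a ≠ b ∧ a ^ 2 = 1 ∧ b ^ 2 = 1 ∧ a * b = b * a ∧ b ≠ 1 ∧
      ∀ x : Equiv.Perm (Fin 4),
        (x * a * x⁻¹ = a ∨ x * a * x⁻¹ = b ∨ x * a * x⁻¹ = a * b) ∧
        (x * b * x⁻¹ = a ∨ x * b * x⁻¹ = b ∨ x * b * x⁻¹ = a * b) := by
  refine ⟨Equiv.swap 0 1 * Equiv.swap 2 3, Equiv.swap 0 2 * Equiv.swap 1 3, ?_⟩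
  decide

theorem klein_A5 : ∃ a b : alternatingGroup (Fin 5),
    a ≠ 1 ∧ a ≠ b ∧ a ^ 2 = 1 ∧ b ^ 2 = 1 ∧ a * b = b * a ∧ b ≠ 1 := by
  refine ⟨⟨Equiv.swap 0 1 * Equiv.swap 2 3, by rw [Equiv.Perm.mem_alternatingGroup]; decide⟩,
    ⟨Equiv.swap 0 2 * Equiv.swap 1 3, by rw [Equiv.Perm.mem_alternatingGroup]; decide⟩, ?_⟩
  decide

/-- transfer of a Klein pair along an isomorphism -/
theorem exists_klein_of_equiv {X : Type*} [Group X] (M : Subgroup PF) (e : M ≃* X)
    (hX : ∃ a b : X, a ≠ 1 ∧ a ≠ b ∧ a ^ 2 = 1 ∧ b ^ 2 = 1 ∧ a * b = b * a ∧ b ≠ 1) :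
    ∃ a b : PF, a ∈ M ∧ b ∈ M ∧ a ≠ 1 ∧ a ≠ b ∧ a ^ 2 = 1 ∧ b ^ 2 = 1 ∧ a * b = b * a ∧ b ≠ 1 := by
  obtain ⟨a, b, ha1, hab, ha, hb, hc, hb1⟩ := hX
  refine ⟨(e.symm a : PF), (e.symm b : PF), (e.symm a).2, (e.symm b).2, ?_, ?_, ?_, ?_, ?_, ?_⟩
  · intro h
    apply ha1
    have : e.symm a = 1 := Subtype.ext h
    rw [← e.apply_symm_apply a, this, map_one]
  · intro h
    apply hab
    have : e.symm a = e.symm b := Subtype.ext h
    exact e.symm.injective this
  · rw [← Subgroup.coe_pow, ← map_pow, ha, map_one]; rfl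
  · rw [← Subgroup.coe_pow, ← map_pow, hb, map_one]; rfl
  · rw [← Subgroup.coe_mul, ← map_mul, hc, map_mul]; rfl
  · intro h
    apply hb1
    have : e.symm b = 1 := Subtype.ext h
    rw [← e.apply_symm_apply b, this, map_one]

theorem not_dvd_card_comap [Finite F] (p : ℕ) [Fact p.Prime] [CharP F p] (hp : p ≠ 2)
    (M : Subgroup PF) (hpM : ¬ p ∣ Nat.card M) : ¬ p ∣ Nat.card (M.comap π) := by
  have h2 : (2 : F) ≠ 0 := two_ne_zero_of_char (E := F) p hp
  rw [card_comap_mk h2 M]
  intro h
  rcases (Nat.Prime.dvd_mul Fact.out).1 h with h | h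
  · exact hp ((Nat.prime_dvd_prime_iff_eq Fact.out Nat.prime_two).1 h)
  · exact hpM h

theorem small_mem (K : Subfield F) {t : F}
    (h : t = 0 ∨ t = 1 ∨ t = -1 ∨ t = 2 ∨ t = -2) : t ∈ K := by
  have h2K : (2 : F) ∈ K := by
    have : (2 : F) = 1 + 1 := by norm_num
    rw [this]; exact K.add_mem K.one_mem K.one_mem
  rcases h with rfl | rfl | rfl | rfl | rfl
  · exact K.zero_mem
  · exact K.one_mem
  · exact K.neg_mem K.one_mem
  · exact h2K
  · exact K.neg_mem h2K

/-- **`A₄` case** -/
theorem card_eq_of_A4 [Fintype F] (p : ℕ) [Fact p.Prime] [CharP F p] (hp : p ≠ 2)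
    (M : Subgroup PF) (hM : IsCoatom M) (hpM : ¬ p ∣ Nat.card M)
    (e : M ≃* alternatingGroup (Fin 4)) : Fintype.card F = p := by
  have h2 : (2 : F) ≠ 0 := two_ne_zero_of_char (E := F) p hp
  obtain ⟨a, b, haM, hbM, ha1, hab, ha, hb, hc, hb1⟩ := exists_klein_of_equiv M e klein_A4
  obtain ⟨i, j, hia, hjb, hi, -, hij⟩ := exists_quaternion_pair h2 a b ha1 hab ha hb hc hb1
  have hco : IsCoatom (M.comap π) := isCoatom_comap π (QuotientGroup.mk'_surjective _) hM
  have hiH : i ∈ M.comap π := by show π i ∈ M; rw [hia]; exact haM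
  have hjH : j ∈ M.comap π := by show π j ∈ M; rw [hjb]; exact hbM
  apply card_eq_of_bot_eq_top p
  apply eq_top_of_traces p hp (M.comap π) hco (not_dvd_card_comap p hp M hpM) i j hiH hjH hi hij
  intro h hh
  have hh' : π h ∈ M := hh
  have hpow : (π h) ^ 2 = 1 ∨ (π h) ^ 3 = 1 := by
    rcases pow_A4 (e ⟨π h, hh'⟩) with h1 | h1
    · left
      rw [← map_pow] at h1
      have := e.injective (h1.trans (map_one e).symm)
      exact congrArg Subtype.val this
    · right
      rw [← map_pow] at h1
      have := e.injective (h1.trans (map_one e).symm)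
      exact congrArg Subtype.val this
  apply small_mem
  rcases hpow with h1 | h1
  · rcases trace_of_pow_two h h1 with h | h | h
    · left; exact h
    · right; right; right; left; exact h
    · right; right; right; right; exact h
  · rcases trace_of_pow_three h h1 with h | h | h | h
    · right; right; right; left; exact h
    · right; right; left; exact h
    · right; right; right; right; exact h
    · right; left; exact h

/-- **`S₄` case** -/
theorem card_eq_of_S4 [Fintype F] (p : ℕ) [Fact p.Prime] [CharP F p] (hp : p ≠ 2)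
    (M : Subgroup PF) (hM : IsCoatom M) (hpM : ¬ p ∣ Nat.card M)
    (e : M ≃* Equiv.Perm (Fin 4)) : Fintype.card F = p := by
  have h2 : (2 : F) ≠ 0 := two_ne_zero_of_char (E := F) p hp
  obtain ⟨a0, b0, h01, h0ab, h0a, h0b, h0c, h0b1, hn⟩ := klein_S4
  obtain ⟨a, b, haM, hbM, ha1, hab, ha, hb, hc, hb1, hnorm⟩ : ∃ a b : PF, a ∈ M ∧ b ∈ M ∧ a ≠ 1 ∧
      a ≠ b ∧ a ^ 2 = 1 ∧ b ^ 2 = 1 ∧ a * b = b * a ∧ b ≠ 1 ∧ ∀ y ∈ M,
        (y * a * y⁻¹ = a ∨ y * a * y⁻¹ = b ∨ y * a * y⁻¹ = a * b) ∧
        (y * b * y⁻¹ = a ∨ y * b * y⁻¹ = b ∨ y * b * y⁻¹ = a * b) := by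
    refine ⟨(e.symm a0 : PF), (e.symm b0 : PF), (e.symm a0).2, (e.symm b0).2, ?_, ?_, ?_, ?_, ?_,
      ?_, ?_⟩
    · intro h
      apply h01
      have : e.symm a0 = 1 := Subtype.ext h
      rw [← e.apply_symm_apply a0, this, map_one]
    · intro h
      apply h0ab
      have : e.symm a0 = e.symm b0 := Subtype.ext h
      exact e.symm.injective this
    · rw [← Subgroup.coe_pow, ← map_pow, h0a, map_one]; rfl
    · rw [← Subgroup.coe_pow, ← map_pow, h0b, map_one]; rfl
    · rw [← Subgroup.coe_mul, ← map_mul, h0c, map_mul]; rfl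
    · intro h
      apply h0b1
      have : e.symm b0 = 1 := Subtype.ext h
      rw [← e.apply_symm_apply b0, this, map_one]
    · intro y hy
      have key : ∀ u v : Equiv.Perm (Fin 4), e ⟨y, hy⟩ * u * (e ⟨y, hy⟩)⁻¹ = v →
          y * (e.symm u : PF) * y⁻¹ = (e.symm v : PF) := by
        intro u v huv
        have h1 : (⟨y, hy⟩ : M) * e.symm u * (⟨y, hy⟩ : M)⁻¹ = e.symm v := by
          apply e.injective
          rw [map_mul, map_mul, map_inv, e.apply_symm_apply, e.apply_symm_apply, huv]
        exact congrArg Subtype.val h1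
      have hmul : ((e.symm (a0 * b0) : M) : PF) = (e.symm a0 : PF) * (e.symm b0 : PF) := by
        rw [map_mul]; rfl
      obtain ⟨h1, h2⟩ := hn (e ⟨y, hy⟩)
      constructor
      · rcases h1 with h | h | h
        · left; exact key _ _ h
        · right; left; exact key _ _ h
        · right; right; rw [← hmul]; exact key _ _ h
      · rcases h2 with h | h | h
        · left; exact key _ _ h
        · right; left; exact key _ _ h
        · right; right; rw [← hmul]; exact key _ _ h
  obtain ⟨i, j, hia, hjb, hi, -, hij⟩ := exists_quaternion_pair h2 a b ha1 hab ha hb hc hb1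
  have hco : IsCoatom (M.comap π) := isCoatom_comap π (QuotientGroup.mk'_surjective _) hM
  apply card_eq_prime_of_normalizes p hp (M.comap π) hco (not_dvd_card_comap p hp M hpM) i j hi hij
  intro h hh x hx
  have hh' : π h ∈ M := hh
  obtain ⟨h1, h2⟩ := hnorm (π h) hh'
  simp only [Set.mem_insert_iff, Set.mem_singleton_iff]
  have conv : ∀ u v : SF, π h * π u * (π h)⁻¹ = π v → h * u * h⁻¹ = v ∨ h * u * h⁻¹ = -v := by
    intro u v huv
    rw [← map_inv, ← map_mul, ← map_mul] at huv
    exact (mk_eq_mk_iff _ _).1 huv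
  rcases hx with rfl | rfl
  · rw [← hia, ← hjb, ← map_mul] at h1
    rcases h1 with h | h | h
    · rcases conv _ _ h with h | h
      · left; exact h
      · right; left; exact h
    · rcases conv _ _ h with h | h
      · right; right; left; exact h
      · right; right; right; left; exact h
    · rcases conv _ _ h with h | h
      · right; right; right; right; left; exact h
      · right; right; right; right; right; exact h
  · rw [← hia, ← hjb, ← map_mul] at h2
    rcases h2 with h | h | h
    · rcases conv _ _ h with h | h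
      · left; exact h
      · right; left; exact h
    · rcases conv _ _ h with h | h
      · right; right; left; exact h
      · right; right; right; left; exact h
    · rcases conv _ _ h with h | h
      · right; right; right; right; left; exact h
      · right; right; right; right; right; exact h

/-- the subfield fixed by the square of the Frobenius -/
noncomputable def K2 (p : ℕ) [Fact p.Prime] [CharP F p] : Subfield F :=
  ((frobenius F p).comp (frobenius F p)).eqLocusField (RingHom.id F)

theorem mem_K2 (p : ℕ) [Fact p.Prime] [CharP F p] (x : F) :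
    x ∈ K2 (F := F) p ↔ (x ^ p) ^ p = x := Iff.rfl

theorem gold_mem_K2 (p : ℕ) [Fact p.Prime] [CharP F p] (t : F)
    (ht : t ^ 2 + t - 1 = 0 ∨ t ^ 2 - t - 1 = 0) : t ∈ K2 (F := F) p := by
  rw [mem_K2]
  set u := t ^ p with hu
  have hφ : ∀ x : F, frobenius F p x = x ^ p := fun x => frobenius_def p x
  rcases ht with ht | ht
  · have hu0 : u ^ 2 + u - 1 = 0 := by
      have := congrArg (frobenius F p) ht
      rw [map_sub, map_add, map_pow, map_one, map_zero, hφ] at this
      exact this
    have : (u - t) * (u + 1 + t) = 0 := by linear_combination hu0 - ht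
    rcases mul_eq_zero.1 this with h | h
    · have : u = t := by linear_combination h
      rw [this]; exact hu.symm.trans this
    · have hut : u = -1 - t := by linear_combination h
      have : u ^ p = -1 - u := by
        have := congrArg (frobenius F p) hut
        rw [map_sub, map_neg, map_one, hφ, hφ] at this
        exact this
      rw [this, hut]; ring
  · have hu0 : u ^ 2 - u - 1 = 0 := by
      have := congrArg (frobenius F p) ht
      rw [map_sub, map_sub, map_pow, map_one, map_zero, hφ] at this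
      exact this
    have : (u - t) * (u - 1 + t) = 0 := by linear_combination hu0 - ht
    rcases mul_eq_zero.1 this with h | h
    · have : u = t := by linear_combination h
      rw [this]; exact hu.symm.trans this
    · have hut : u = 1 - t := by linear_combination h
      have : u ^ p = 1 - u := by
        have := congrArg (frobenius F p) hut
        rw [map_sub, map_one, hφ, hφ] at this
        exact this
      rw [this, hut]; ring

theorem gold_mem_of_sqrt (h2 : (2 : F) ≠ 0) (K : Subfield F) (s : F) (hs : s * s = 5) (hsK : s ∈ K)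
    (t : F) (ht : t ^ 2 + t - 1 = 0 ∨ t ^ 2 - t - 1 = 0) : t ∈ K := by
  have h2K : (2 : F) ∈ K := by
    have : (2 : F) = 1 + 1 := by norm_num
    rw [this]; exact K.add_mem K.one_mem K.one_mem
  rcases ht with ht | ht
  · have : (2 * t + 1 - s) * (2 * t + 1 + s) = 0 := by linear_combination 4 * ht - hs
    rcases mul_eq_zero.1 this with h | h
    · have : t = (s - 1) / 2 := by field_simp; linear_combination h
      rw [this]; exact K.div_mem (K.sub_mem hsK K.one_mem) h2K
    · have : t = (-s - 1) / 2 := by field_simp; linear_combination h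
      rw [this]; exact K.div_mem (K.sub_mem (K.neg_mem hsK) K.one_mem) h2K
  · have : (2 * t - 1 - s) * (2 * t - 1 + s) = 0 := by linear_combination 4 * ht - hs
    rcases mul_eq_zero.1 this with h | h
    · have : t = (s + 1) / 2 := by field_simp; linear_combination h
      rw [this]; exact K.div_mem (K.add_mem hsK K.one_mem) h2K
    · have : t = (-s + 1) / 2 := by field_simp; linear_combination h
      rw [this]; exact K.div_mem (K.add_mem (K.neg_mem hsK) K.one_mem) h2K

/-- `5` is a square in the prime field when `p ≡ ±1 (mod 10)` -/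
theorem exists_sqrt_five (p : ℕ) [Fact p.Prime] [CharP F p] (hp : p % 10 = 1 ∨ p % 10 = 9) :
    ∃ s : F, s * s = 5 ∧ s ∈ (⊥ : Subfield F) := by
  have hp2 : p ≠ 2 := by rintro rfl; omega
  have : Fact (Nat.Prime 5) := ⟨by norm_num⟩
  have h1 : IsSquare ((p : ℕ) : ZMod 5) := by
    rw [← ZMod.natCast_mod p 5]
    rcases hp with h | h
    · have : p % 5 = 1 := by omega
      rw [this]; exact ⟨1, by simp⟩
    · have : p % 5 = 4 := by omega
      rw [this]; exact ⟨2, by push_cast; norm_num⟩
  have h2 : IsSquare ((5 : ℕ) : ZMod p) :=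
    (ZMod.exists_sq_eq_prime_iff_of_mod_four_eq_one (p := 5) (q := p) (by norm_num) hp2).1 h1
  obtain ⟨s, hs⟩ := h2
  refine ⟨((s.val : ℕ) : F), ?_, natCast_mem _ _⟩
  have h3 : ((s.val * s.val : ℕ) : ZMod p) = ((5 : ℕ) : ZMod p) := by
    rw [Nat.cast_mul, ZMod.natCast_zmod_val, hs]
  have h4 := (ZMod.natCast_eq_natCast_iff _ _ _).1 h3
  have h5 := (CharP.natCast_eq_natCast F p).2 h4
  rw [Nat.cast_mul] at h5
  rw [h5]; norm_num

theorem card_SLK_ne_120 [Fintype F] (p : ℕ) [Fact p.Prime] [CharP F p] (hp5 : p ≠ 5)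
    (K : Subfield F) : Nat.card (SLK K) ≠ 120 := by
  have hpp : p.Prime := Fact.out
  rw [card_SLK]
  intro h
  obtain ⟨s, hs1, hs⟩ := Cfsg.Agent.Helper11.FinSub.card_pow_of_le ⊥ K bot_le
  rw [Subfield.card_bot F p] at hs
  set c := Nat.card K with hcdef
  have hc : c = 5 := by
    have hc6 : c < 6 := by
      by_contra hge
      push Not at hge
      have h1 : 7 * (5 * 6) ≤ (c + 1) * ((c - 1) * c) :=
        Nat.mul_le_mul (by omega) (Nat.mul_le_mul (by omega) hge)
      omega
    interval_cases c <;> omega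
  rw [hc] at hs
  have : p ∣ 5 := by rw [hs]; exact dvd_pow_self p (by omega)
  exact hp5 ((Nat.prime_dvd_prime_iff_eq hpp (by norm_num)).1 this)

/-- **`A₅` case** -/
theorem card_of_A5 [Fintype F] (p : ℕ) [Fact p.Prime] [CharP F p] (hp : p ≠ 2) (hp5 : p ≠ 5)
    (M : Subgroup PF) (hM : IsCoatom M)
    (e : M ≃* alternatingGroup (Fin 5)) :
    Fintype.card F = p ∨ (Fintype.card F = p ^ 2 ∧ (p % 10 = 3 ∨ p % 10 = 7)) := by
  have hpp : p.Prime := Fact.out
  have h2 : (2 : F) ≠ 0 := two_ne_zero_of_char (E := F) p hp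
  obtain ⟨a, b, haM, hbM, ha1, hab, ha, hb, hc, hb1⟩ := exists_klein_of_equiv M e klein_A5
  obtain ⟨i, j, hia, hjb, hi, -, hij⟩ := exists_quaternion_pair h2 a b ha1 hab ha hb hc hb1
  have hco : IsCoatom (M.comap π) := isCoatom_comap π (QuotientGroup.mk'_surjective _) hM
  have hiH : i ∈ M.comap π := by show π i ∈ M; rw [hia]; exact haM
  have hjH : j ∈ M.comap π := by show π j ∈ M; rw [hjb]; exact hbM
  have hcM : Nat.card M = 60 := by rw [Nat.card_congr e.toEquiv, card_A5]
  have hcH : Nat.card (M.comap π) = 120 := by rw [card_comap_mk h2 M, hcM]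
  have hnd : ∀ K : Subfield F, Nat.card (M.comap π) ≠ Nat.card (SLK K) := by
    intro K h
    exact card_SLK_ne_120 p hp5 K (h ▸ hcH)
  -- the traces
  have htr : ∀ h ∈ M.comap π, (Matrix.trace (h : MF) = 0 ∨ Matrix.trace (h : MF) = 1 ∨
      Matrix.trace (h : MF) = -1 ∨ Matrix.trace (h : MF) = 2 ∨ Matrix.trace (h : MF) = -2) ∨
      ((Matrix.trace (h : MF)) ^ 2 + Matrix.trace (h : MF) - 1 = 0 ∨
        (Matrix.trace (h : MF)) ^ 2 - Matrix.trace (h : MF) - 1 = 0) := by
    intro h hh
    have hh' : π h ∈ M := hh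
    have conv : ∀ n : ℕ, (e ⟨π h, hh'⟩) ^ n = 1 → (π h) ^ n = 1 := by
      intro n h1
      rw [← map_pow] at h1
      have := e.injective (h1.trans (map_one e).symm)
      exact congrArg Subtype.val this
    rcases pow_A5 (e ⟨π h, hh'⟩) with h1 | h1 | h1
    · rcases trace_of_pow_two h (conv 2 h1) with h | h | h
      · left; left; exact h
      · left; right; right; right; left; exact h
      · left; right; right; right; right; exact h
    · rcases trace_of_pow_three h (conv 3 h1) with h | h | h | h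
      · left; right; right; right; left; exact h
      · left; right; right; left; exact h
      · left; right; right; right; right; exact h
      · left; right; left; exact h
    · rcases trace_of_pow_five h (conv 5 h1) with h | h | h | h
      · left; right; right; right; left; exact h
      · left; right; right; right; right; exact h
      · right; left; exact h
      · right; right; exact h
  have hK2 : K2 (F := F) p = ⊤ := by
    apply eq_top_of_traces' p hp (M.comap π) hco i j hiH hjH hi hij _ (hnd _)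
    intro h hh
    rcases htr h hh with h1 | h1
    · exact small_mem _ h1
    · exact gold_mem_K2 p _ h1
  have hall : ∀ x : F, x ^ (p ^ 2) = x := by
    intro x
    have : x ∈ K2 (F := F) p := hK2 ▸ Subfield.mem_top x
    rw [mem_K2] at this
    rw [pow_two, pow_mul]; exact this
  have hle : Fintype.card F ≤ p ^ 2 :=
    card_le_of_forall_pow (p ^ 2) (by nlinarith [hpp.two_le]) hall
  obtain ⟨n, -, hn⟩ := FiniteField.card F p
  have hn2 : (n : ℕ) ≤ 2 := by
    rw [hn] at hle
    exact (Nat.pow_le_pow_iff_right hpp.one_lt).1 hle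
  have hn1 : 1 ≤ (n : ℕ) := n.2
  have hcases : (n : ℕ) = 1 ∨ (n : ℕ) = 2 := by omega
  rcases hcases with h1 | h1
  · left; rw [hn, h1, pow_one]
  · right
    refine ⟨by rw [hn, h1], ?_⟩
    by_contra hcon
    have hp5' : ¬ 5 ∣ p := by
      intro h5
      exact hp5 ((Nat.prime_dvd_prime_iff_eq (by norm_num) hpp).1 h5).symm
    have hodd : p % 2 = 1 := hpp.eq_two_or_odd.resolve_left hp
    have hp10 : p % 10 = 1 ∨ p % 10 = 9 := by omega
    obtain ⟨s, hs, hsbot⟩ := exists_sqrt_five (F := F) p hp10
    have hbot : (⊥ : Subfield F) = ⊤ := by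
      apply eq_top_of_traces' p hp (M.comap π) hco i j hiH hjH hi hij _ (hnd _)
      intro h hh
      rcases htr h hh with h1 | h1
      · exact small_mem _ h1
      · exact gold_mem_of_sqrt h2 _ s hs hsbot _ h1
    have := card_eq_of_bot_eq_top p hbot
    rw [hn, h1] at this
    have h3 : p * p = p := by rw [← pow_two]; exact this
    have : p = 1 := by
      have hp0 : 0 < p := hpp.pos
      exact Nat.eq_of_mul_eq_mul_left hp0 (by rw [h3, mul_one])
    exact hpp.one_lt.ne' this

end Cfsg.Agent.Helper18.L2Max
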