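import Cfsg.Agent.Helper18.L2Max5
import Cfsg.Agent.Helper18.L2Max1
import Cfsg.Agent.Helper18.Dickson45

/-! Maximal subgroups of `PSL₂(q)`, part 6: maximal subgroups of order divisible by `p`. -/

set_option autoImplicit false

namespace Cfsg.Agent.Helper18.L2Max

open Cfsg.Agent.Helper18.Dickson Cfsg.Agent.Helper12 Cfsg.Agent.Helper11

variable {F : Type*} [Field F]

local notation "SF" => Matrix.SpecialLinearGroup (Fin 2) F
local notation "MF" => Matrix (Fin 2) (Fin 2) F
local notation "PF" => Matrix.ProjectiveSpecialLinearGroup (Fin 2) F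
local notation "π" => QuotientGroup.mk' (Subgroup.center SF)

/-- **Borel case**: the order of a maximal subgroup conjugate into the Borel subgroup. -/
theorem borel_card [Fintype F] (h2 : (2 : F) ≠ 0) (M : Subgroup PF) (hM : IsCoatom M) (g0 : SF)
    (hg0 : ∀ h ∈ M.comap π, ((g0 * h * g0⁻¹ : SF) : MF) 1 0 = 0) :
    2 * Nat.card M = Fintype.card F * (Fintype.card F - 1) := by
  classical
  have hco : IsCoatom (M.comap π) := isCoatom_comap π (QuotientGroup.mk'_surjective _) hM
  set B' : Subgroup SF := (borelSL F).map (MulAut.conj g0⁻¹).toMonoidHom with hB'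
  have hle : M.comap π ≤ B' := by
    intro h hh
    refine ⟨g0 * h * g0⁻¹, (mem_borelSL_iff _).2 (hg0 h hh), ?_⟩
    show MulAut.conj g0⁻¹ (g0 * h * g0⁻¹) = h
    rw [MulAut.conj_apply]; group
  have hcB : Nat.card B' = (Fintype.card F - 1) * Fintype.card F := by
    rw [hB', card_map_conj, card_borelSL]
  have hq : 2 ≤ Fintype.card F := Fintype.one_lt_card
  have hBtop : B' ≠ ⊤ := by
    intro h
    have h1 : Nat.card B' = Nat.card SF := by rw [h, Subgroup.card_top]
    rw [hcB, Cfsg.Agent.S2301.card_sl2] at h1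
    have hpos : 0 < (Fintype.card F - 1) * Fintype.card F :=
      Nat.mul_pos (by omega) (by omega)
    nlinarith
  have heq : M.comap π = B' := by
    by_contra hne
    exact hBtop (hco.2 _ (lt_of_le_of_ne hle hne))
  have := card_comap_mk h2 M
  rw [heq, hcB] at this
  rw [← this, mul_comm]

/-- intermediate subfields -/
theorem exists_between [Fintype F] (p : ℕ) [Fact p.Prime] [CharP F p] (K : Subfield F) (s d : ℕ)
    (hs : Fintype.card F = Nat.card K ^ s) (hd : d ∣ s) (hd0 : d ≠ 0) :
    ∃ K' : Subfield F, K ≤ K' ∧ Nat.card K' = Nat.card K ^ d := by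
  obtain ⟨k, hk1, hk⟩ := FinSub.card_pow_of_le ⊥ K bot_le
  rw [Subfield.card_bot F p] at hk
  have hF : Fintype.card F = p ^ (k * s) := by rw [hs, hk, pow_mul]
  obtain ⟨K', hK'⟩ := FinSub.exists_subfield p (k * s) (k * d) hF
    (Nat.mul_ne_zero (by omega) hd0) (Nat.mul_dvd_mul_left k hd)
  have hc : Nat.card K' = Nat.card K ^ d := by rw [hK', hk, pow_mul]
  exact ⟨K', FinSub.le_of_card_pow K K' d hc, hc⟩

theorem SLK_injective {K L : Subfield F} (h : SLK K = SLK L) : K = L := by
  ext x
  rw [← uM_mem_SLK K x, ← uM_mem_SLK L x, h]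

theorem SLK_eq_top_iff [Fintype F] (K : Subfield F) : SLK K = ⊤ ↔ K = ⊤ := by
  constructor
  · intro h
    apply SLK_injective
    rw [h, SLK_top]
  · intro h
    rw [h, SLK_top]

theorem card_subfield_pos [Fintype F] (K : Subfield F) : 2 ≤ Nat.card K := FinSub.two_le_card K

theorem card_NK_lt [Fintype F] (K K' : Subfield F) (hK' : Nat.card K' = Nat.card K ^ 2) :
    Nat.card (NK K) < Nat.card (SLK K') := by
  have h1 := card_NK_le K
  rw [card_SLK] at h1
  rw [card_SLK, hK']
  have hc := FinSub.two_le_card K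
  obtain ⟨e, he⟩ : ∃ e, Nat.card K = e + 2 := ⟨Nat.card K - 2, by omega⟩
  rw [he] at h1 ⊢
  have e1 : e + 2 - 1 = e + 1 := by omega
  have e2 : (e + 2) ^ 2 - 1 = e ^ 2 + 4 * e + 3 := by
    have : (e + 2) ^ 2 = e ^ 2 + 4 * e + 3 + 1 := by ring
    omega
  rw [e1] at h1
  rw [e2]
  calc Nat.card (NK K) ≤ 2 * ((e + 2 + 1) * ((e + 1) * (e + 2))) := h1
    _ < ((e + 2) ^ 2 + 1) * ((e ^ 2 + 4 * e + 3) * (e + 2) ^ 2) := by nlinarith [sq_nonneg e]

theorem pow_inj_of_two_le {c a b : ℕ} (hc : 2 ≤ c) (h : c ^ a = c ^ b) : a = b :=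
  Nat.pow_right_injective hc h

/-- **Subfield case**: a maximal subgroup whose preimage is (up to an automorphism) `SL₂(K)` or
its normaliser. -/
theorem subfield_case [Fintype F] (p : ℕ) [Fact p.Prime] [CharP F p] (hp : p ≠ 2)
    (M : Subgroup PF) (hM : IsCoatom M) (ε : SF ≃* SF) (K : Subfield F)
    (hK : (M.comap π).map ε.toMonoidHom = SLK K ∨ (M.comap π).map ε.toMonoidHom = NK K) :
    (∃ (F₀ : Type) (_ : Field F₀) (_ : Fintype F₀), Fintype.card F = Fintype.card F₀ ^ 2 ∧
        Nonempty (M ≃* Matrix.ProjGenLinGroup (Fin 2) F₀)) ∨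
    (∃ (F₀ : Type) (_ : Field F₀) (_ : Fintype F₀) (r : ℕ), r.Prime ∧ Odd r ∧
        Fintype.card F = Fintype.card F₀ ^ r ∧
        Nonempty (M ≃* Matrix.ProjectiveSpecialLinearGroup (Fin 2) F₀)) := by
  have h2 : (2 : F) ≠ 0 := two_ne_zero_of_char (E := F) p hp
  set Hh' := (M.comap π).map ε.toMonoidHom with hHh'
  have hco' : IsCoatom Hh' :=
    map_isCoatom ε (isCoatom_comap π (QuotientGroup.mk'_surjective _) hM)
  have hiso : Nonempty (M ≃* (Hh'.map π : Subgroup PF)) := by
    rw [hHh', ← map_pslEquivOfSL]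
    exact ⟨M.equivMapOfInjective _ (pslEquivOfSL ε).injective⟩
  obtain ⟨s, hs1, hs⟩ := FinSub.card_pow_top K
  have hc2 := FinSub.two_le_card K
  set c := Nat.card K with hcdef
  have hctop : Nat.card (⊤ : Subfield F) = Fintype.card F := by
    rw [← Nat.card_eq_fintype_card]
    exact Nat.card_congr Subfield.topEquiv.toEquiv
  by_cases hSN : Hh' = SLK K
  · right
    have hs_ne1 : s ≠ 1 := by
      intro h
      rw [h, pow_one] at hs
      have : K = ⊤ := FinSub.eq_top_of_card_eq K hs.symm
      apply hco'.1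
      rw [hSN, this, SLK_top]
    have hsp : s.Prime := by
      by_contra hnp
      obtain ⟨d, hd, hd1, hds⟩ := Nat.exists_dvd_of_not_prime2 (by omega) hnp
      obtain ⟨K', hKK', hcK'⟩ := exists_between p K s d hs hd (by omega)
      have hne1 : SLK K ≠ SLK K' := by
        intro h
        have hKK := SLK_injective h
        rw [← hKK] at hcK'
        have : c ^ 1 = c ^ d := by rw [pow_one]; exact hcK'
        have := pow_inj_of_two_le hc2 this
        omega
      have hne2 : SLK K' ≠ ⊤ := by
        intro h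
        have hK't := (SLK_eq_top_iff K').1 h
        rw [hK't, hctop, hs] at hcK'
        have := pow_inj_of_two_le hc2 hcK'
        omega
      have hlt : Hh' < SLK K' := hSN ▸ lt_of_le_of_ne (SLK_mono hKK') hne1
      exact hne2 (hco'.2 _ hlt)
    have hs2 : s ≠ 2 := by
      intro h
      rw [h] at hs
      obtain ⟨t, ht0, ht2, htK⟩ := exists_sqrt_not_mem h2 K hs
      have hmem : dM t ht0 ∈ NK K := dM_mem_NK K t ht0 ht2
      have hnmem : dM t ht0 ∉ SLK K := by
        rw [mem_SLK]
        intro hall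
        have := hall 0 0
        rw [dM_coe] at this
        simp at this
        exact htK this
      have hlt : Hh' < NK K :=
        hSN ▸ lt_of_le_of_ne (SLK_le_NK K) (fun h => hnmem (h ▸ hmem))
      have htop := hco'.2 _ hlt
      have := card_NK_lt K ⊤ (by rw [hctop, hs])
      rw [SLK_top, htop] at this
      exact lt_irrefl _ this
    have hodd : Odd s := hsp.odd_of_ne_two hs2
    obtain ⟨K₁, iF, iT, hc1, ⟨eK⟩⟩ := exists_type_field p K
    obtain ⟨e1⟩ := nonempty_map_SLK_equiv K
    obtain ⟨e0⟩ := hiso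
    refine ⟨K₁, iF, iT, s, hsp, hodd, by rw [hc1, hs], ⟨?_⟩⟩
    rw [hSN] at e0
    exact e0.trans (e1.trans (Cfsg.Agent.Helper2.L27.pslCongr eK))
  · left
    have hNK : Hh' = NK K := hK.resolve_left hSN
    have hne : NK K ≠ SLK K := hNK ▸ hSN
    have hev : Even s := by
      by_contra hodd
      rw [Nat.not_even_iff_odd] at hodd
      apply hne
      apply le_antisymm _ (SLK_le_NK K)
      intro n hn
      obtain ⟨t, ht0, ht2, ht⟩ := (mem_NK K n).1 hn
      exact mem_SLK_of_scaled K n t ht0 (mem_of_sq_mem_odd h2 K s hodd hs t ht2) ht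
    have hs2 : s = 2 := by
      by_contra hne2
      have hs4 : 2 < s := by
        obtain ⟨m, hm⟩ := hev
        omega
      obtain ⟨K', hKK', hcK'⟩ :=
        exists_between p K s 2 hs (even_iff_two_dvd.1 hev) (by norm_num)
      have hle : NK K ≤ SLK K' := by
        intro n hn
        obtain ⟨t, ht0, ht2, ht⟩ := (mem_NK K n).1 hn
        have htK' : t ∈ K' := by
          rw [FinSub.mem_iff_pow_card, hcK']
          have h1 : (t ^ 2) ^ c = t ^ 2 := FinSub.pow_card_of_mem K ht2
          have h2' : (t ^ c - t) * (t ^ c + t) = 0 := by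
            have : (t ^ c) ^ 2 = t ^ 2 := by rw [← pow_mul, mul_comm, pow_mul]; exact h1
            linear_combination this
          have hcodd : Odd c := odd_card_subfield h2 K
          rcases mul_eq_zero.1 h2' with h | h
          · have : t ^ c = t := by linear_combination h
            rw [pow_two, pow_mul, this, this]
          · have : t ^ c = -t := by linear_combination h
            rw [pow_two, pow_mul, this, hcodd.neg_pow, this, neg_neg]
        exact mem_SLK_of_scaled K' n t ht0 htK' (fun i j => hKK' (ht i j))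
      have hne1 : NK K ≠ SLK K' := by
        intro h
        have := card_NK_lt K K' hcK'
        rw [h] at this
        exact lt_irrefl _ this
      have hne2' : SLK K' ≠ ⊤ := by
        intro h
        have hK't := (SLK_eq_top_iff K').1 h
        rw [hK't, hctop, hs] at hcK'
        have := pow_inj_of_two_le hc2 hcK'
        omega
      have hlt : Hh' < SLK K' := hNK ▸ lt_of_le_of_ne hle hne1
      exact hne2' (hco'.2 _ hlt)
    obtain ⟨K₁, iF, iT, hc1, ⟨eK⟩⟩ := exists_type_field p K
    let j : K₁ →+* F := K.subtype.comp eK.symm.toRingHom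
    have hj : ∀ x : F, x ∈ K ↔ ∃ y : K₁, j y = x := by
      intro x
      constructor
      · intro hx
        refine ⟨eK ⟨x, hx⟩, ?_⟩
        show ((eK.symm (eK ⟨x, hx⟩) : K) : F) = x
        rw [RingEquiv.symm_apply_apply]
      · rintro ⟨y, rfl⟩
        exact (eK.symm y).2
    obtain ⟨e1⟩ := nonempty_map_NK_equiv' h2 K (exists_sqrt_of_mem_even h2 K s hev hs) j hj
    obtain ⟨e0⟩ := hiso
    refine ⟨K₁, iF, iT, by rw [hc1, hs, hs2], ⟨?_⟩⟩
    rw [hNK] at e0
    exact e0.trans e1

/-- **Maximal subgroups of order divisible by `p`.** -/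
theorem pdiv_case [Fintype F] (p : ℕ) [Fact p.Prime] [CharP F p] (hp : p ≠ 2)
    (M : Subgroup PF) (hM : IsCoatom M) (hpM : p ∣ Nat.card M) :
    2 * Nat.card M = Fintype.card F * (Fintype.card F - 1) ∨
    (∃ (F₀ : Type) (_ : Field F₀) (_ : Fintype F₀), Fintype.card F = Fintype.card F₀ ^ 2 ∧
        Nonempty (M ≃* Matrix.ProjGenLinGroup (Fin 2) F₀)) ∨
    (∃ (F₀ : Type) (_ : Field F₀) (_ : Fintype F₀) (r : ℕ), r.Prime ∧ Odd r ∧
        Fintype.card F = Fintype.card F₀ ^ r ∧
        Nonempty (M ≃* Matrix.ProjectiveSpecialLinearGroup (Fin 2) F₀)) ∨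
    (p = 3 ∧ Nonempty (M ≃* alternatingGroup (Fin 5))) := by
  classical
  have h2 : (2 : F) ≠ 0 := two_ne_zero_of_char (E := F) p hp
  have hcard : Nat.card (M.comap π) = 2 * Nat.card M := card_comap_mk h2 M
  have hpHh : p ∣ Nat.card (M.comap π) := by rw [hcard]; exact dvd_mul_of_dvd_right hpM 2
  have hpos : 0 < Nat.card (Sylow p (M.comap π)) := Nat.card_pos
  rcases Nat.eq_or_lt_of_le (Nat.succ_le_of_lt hpos) with h1 | h1
  · obtain ⟨g0, hg0⟩ := struct_one_sylow p (M.comap π) h1.symm hpHh
    left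
    exact borel_card h2 M hM g0 hg0
  · obtain ⟨ε, hl, hu, hcases⟩ := struct_two_sylow p hp (M.comap π) h1
    rcases hcases with ⟨h3, h120⟩ | ⟨K, hK⟩
    · right; right; right
      refine ⟨h3, ?_⟩
      subst h3
      have h60 : Nat.card M = 60 := by rw [hcard] at h120; omega
      exact exc_A5 M h60 ε hl hu
    · rcases subfield_case p hp M hM ε K hK with h | h
      · right; left; exact h
      · right; right; left; exact h

end Cfsg.Agent.Helper18.L2Max
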