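import Cfsg.Agent.Helper18.L2Max1

/-! Maximal subgroups of `PSL₂(q)`, part 7: dihedral maximal subgroups of finite simple groups
(abstract Sylow arguments). -/

set_option autoImplicit false

namespace Cfsg.Agent.Helper18.L2Max

open Subgroup DihedralGroup

variable {G : Type*} [Group G]

/-- in a dihedral group, elements of odd prime power order are inverted or centralised by
every element -/
theorem dih_conj (n ℓ : ℕ) (hℓ : Odd ℓ) (x : DihedralGroup n) (k : ℕ) (hx : x ^ (ℓ ^ k) = 1)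
    (g : DihedralGroup n) : g * x * g⁻¹ = x ∨ g * x * g⁻¹ = x⁻¹ := by
  cases x with
  | r i =>
    cases g with
    | r j =>
      left
      rw [inv_r, r_mul_r, r_mul_r]
      congr 1; ring
    | sr j =>
      right
      rw [inv_sr, sr_mul_r, sr_mul_sr, inv_r]
      congr 1; ring
  | sr i =>
    exfalso
    have hodd : Odd (ℓ ^ k) := hℓ.pow
    obtain ⟨m, hm⟩ := hodd
    have h2 : (sr i : DihedralGroup n) ^ 2 = 1 := by rw [pow_two, sr_mul_self]
    rw [hm, pow_succ, pow_mul, h2, one_pow, one_mul, one_def] at hx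
    cases hx

theorem fact_eq {ℓ n m : ℕ} (hℓ : ℓ.Prime) (hm : m ≠ 0) (h1 : ℓ ^ n ∣ m)
    (h2 : ¬ ℓ ^ (n + 1) ∣ m) : m.factorization ℓ = n := by
  have a1 := (hℓ.pow_dvd_iff_le_factorization hm).1 h1
  have a2 : ¬ (n + 1 ≤ m.factorization ℓ) := fun h =>
    h2 ((hℓ.pow_dvd_iff_le_factorization hm).2 h)
  omega

/-- a subgroup isomorphic to a dihedral group normalises its Sylow subgroups for odd primes -/
theorem exists_normal_sylow_of_dihedral [Finite G] (ℓ : ℕ) [Fact ℓ.Prime] (hℓ2 : ℓ ≠ 2)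
    (D : Subgroup G) (n : ℕ) (e : D ≃* DihedralGroup n) :
    ∃ S : Subgroup G, S ≤ D ∧ D ≤ normalizer (S : Set G) ∧
      Nat.card S = ℓ ^ (Nat.card D).factorization ℓ := by
  have hℓ : ℓ.Prime := Fact.out
  have hodd : Odd ℓ := hℓ.odd_of_ne_two hℓ2
  obtain ⟨P⟩ : Nonempty (Sylow ℓ D) := inferInstance
  refine ⟨(P : Subgroup D).map D.subtype, Subgroup.map_subtype_le _, ?_, ?_⟩
  · have key : ∀ d ∈ D, ∀ s ∈ (P : Subgroup D).map D.subtype,
        d * s * d⁻¹ ∈ (P : Subgroup D).map D.subtype := by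
      rintro d hd _ ⟨s, hs, rfl⟩
      obtain ⟨k, hk⟩ := (P.isPGroup' ⟨s, hs⟩)
      have hk' : s ^ (ℓ ^ k) = 1 := by
        simpa using congrArg Subtype.val hk
      have hk'' : (e s) ^ (ℓ ^ k) = 1 := by rw [← map_pow, hk', map_one]
      have hconj : (⟨d, hd⟩ : D) * s * (⟨d, hd⟩ : D)⁻¹ = s ∨
          (⟨d, hd⟩ : D) * s * (⟨d, hd⟩ : D)⁻¹ = s⁻¹ := by
        rcases dih_conj n ℓ hodd (e s) k hk'' (e ⟨d, hd⟩) with h | h
        · left
          apply e.injective
          rw [map_mul, map_mul, map_inv]; exact h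
        · right
          apply e.injective
          rw [map_mul, map_mul, map_inv, map_inv]; exact h
      rcases hconj with h | h
      · refine ⟨s, hs, ?_⟩
        exact (congrArg Subtype.val h).symm
      · refine ⟨s⁻¹, (P : Subgroup D).inv_mem hs, ?_⟩
        exact (congrArg Subtype.val h).symm
    intro d hd
    rw [mem_normalizer_iff]
    intro x
    constructor
    · intro hx
      exact key d hd x hx
    · intro hx
      have := key d⁻¹ (D.inv_mem hd) _ hx
      have e1 : d⁻¹ * (d * x * d⁻¹) * d⁻¹⁻¹ = x := by group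
      rwa [e1] at this
  · rw [Subgroup.card_map_of_injective D.subtype_injective]
    exact P.card_eq_multiplicity

/-- Sylow transport for normalised Sylow subgroups -/
theorem exists_conj_le_normalizer [Finite G] (ℓ : ℕ) [Fact ℓ.Prime] {M S S' A : Subgroup G}
    (hS : Nat.card S = ℓ ^ (Nat.card G).factorization ℓ) (hNS : normalizer (S : Set G) = M)
    (hS' : Nat.card S' = ℓ ^ (Nat.card G).factorization ℓ)
    (hA : A ≤ normalizer (S' : Set G)) :
    ∃ g : G, A.map (MulAut.conj g).toMonoidHom ≤ M := by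
  set SG : Sylow ℓ G := Sylow.ofCard S hS with hSG
  set SG' : Sylow ℓ G := Sylow.ofCard S' hS' with hSG'
  obtain ⟨g, hg⟩ := MulAction.exists_smul_eq G SG' SG
  refine ⟨g, ?_⟩
  rintro _ ⟨a, ha, rfl⟩
  rw [← hNS, mem_normalizer_iff]
  have hmem : ∀ w : G, w ∈ S ↔ g⁻¹ * w * g ∈ S' := by
    intro w
    have : w ∈ S ↔ w ∈ (SG : Subgroup G) := Iff.rfl
    rw [this, ← hg, Sylow.coe_subgroup_smul, Subgroup.mem_smul_pointwise_iff_exists]
    constructor
    · rintro ⟨s, hs, rfl⟩
      have : g⁻¹ * (MulAut.conj g • s) * g = s := by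
        rw [MulAut.smul_def, MulAut.conj_apply]; group
      rw [this]; exact hs
    · intro hw
      refine ⟨g⁻¹ * w * g, hw, ?_⟩
      rw [MulAut.smul_def, MulAut.conj_apply]; group
  have haN := hA ha
  rw [mem_normalizer_iff] at haN
  intro x
  show x ∈ S ↔ (MulAut.conj g a) * x * (MulAut.conj g a)⁻¹ ∈ S
  rw [hmem, hmem, MulAut.conj_apply, haN (g⁻¹ * x * g)]
  have : a * (g⁻¹ * x * g) * a⁻¹ = g⁻¹ * (g * a * g⁻¹ * x * (g * a * g⁻¹)⁻¹) * g := by group
  rw [this]

theorem map_conj_ne_top [Finite G] {D : Subgroup G} (hD : D ≠ ⊤) (g : G) :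
    D.map (MulAut.conj g).toMonoidHom ≠ ⊤ := by
  intro h
  apply hD
  apply Subgroup.eq_top_of_card_eq
  rw [← card_map_conj D g, h, Subgroup.card_top]

/-- **Dihedral maximal subgroups**: a maximal subgroup `M ≅ D_k` (`k ≥ 3`) of a finite simple
group, such that some proper subgroup is dihedral `D_n` with `k ∣ n`, has `k = n`. -/
theorem dihedral_max [Finite G] [IsSimpleGroup G] {M D : Subgroup G} (hM : IsCoatom M) (k n : ℕ)
    (e : M ≃* DihedralGroup k) (hk : 3 ≤ k) (eD : D ≃* DihedralGroup n) (hkn : k ∣ n)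
    (hn : n ≠ 0) (hD : D ≠ ⊤) : k = n := by
  have hcM : Nat.card M = 2 * k := by rw [Nat.card_congr e.toEquiv, DihedralGroup.nat_card]
  have hcD : Nat.card D = 2 * n := by rw [Nat.card_congr eD.toEquiv, DihedralGroup.nat_card]
  have hMD : Nat.card M ∣ Nat.card D := by rw [hcM, hcD]; exact Nat.mul_dvd_mul_left 2 hkn
  have hMbot : M ≠ ⊥ := by
    intro h
    rw [h, Subgroup.card_bot] at hcM
    omega
  have hkle : k ≤ n := Nat.le_of_dvd (Nat.pos_of_ne_zero hn) hkn
  by_cases hodd : ∃ ℓ, ℓ.Prime ∧ ℓ ≠ 2 ∧ ℓ ∣ k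
  · obtain ⟨ℓ, hℓ, hℓ2, hℓk⟩ := hodd
    haveI : Fact ℓ.Prime := ⟨hℓ⟩
    obtain ⟨S, hSM, hMS, hcS⟩ := exists_normal_sylow_of_dihedral ℓ hℓ2 M k e
    have hSbot : S ≠ ⊥ := by
      intro h
      rw [h, Subgroup.card_bot] at hcS
      have hpos : 0 < (Nat.card M).factorization ℓ :=
        hℓ.factorization_pos_of_dvd (Nat.card_pos.ne') (by rw [hcM]; exact dvd_mul_of_dvd_right hℓk 2)
      have : 1 < ℓ ^ (Nat.card M).factorization ℓ := Nat.one_lt_pow hpos.ne' hℓ.one_lt
      omega
    have hN : normalizer (S : Set G) = M := normalizer_eq_of_coatom hM hSbot hSM hMS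
    have hcS' := card_eq_of_normalizer_le ℓ hN.le hcS
    obtain ⟨S', hS'D, hDS', hcS'D⟩ := exists_normal_sylow_of_dihedral ℓ hℓ2 D n eD
    have hfac : (Nat.card D).factorization ℓ = (Nat.card G).factorization ℓ := by
      apply le_antisymm
      · exact (hℓ.pow_dvd_iff_le_factorization Nat.card_pos.ne').1
          ((Nat.ordProj_dvd _ _).trans (Subgroup.card_subgroup_dvd_card D))
      · apply (hℓ.pow_dvd_iff_le_factorization Nat.card_pos.ne').1
        rw [← hcS']
        exact (Subgroup.card_dvd_of_le hSM).trans hMD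
    rw [hfac] at hcS'D
    obtain ⟨g, hg⟩ := exists_conj_le_normalizer ℓ hcS' hN hcS'D hDS'
    have h1 : Nat.card D ≤ Nat.card M := by
      rw [← card_map_conj D g]
      exact Subgroup.card_le_of_le hg
    rw [hcM, hcD] at h1
    omega
  · push Not at hodd
    have hk2 : k = 2 ^ k.primeFactorsList.length := by
      apply Nat.eq_prime_pow_of_unique_prime_dvd (by omega)
      intro d hd hdk
      by_contra h
      exact hodd d hd h hdk
    have hMp : IsPGroup 2 M := by
      apply IsPGroup.of_card (n := k.primeFactorsList.length + 1)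
      rw [hcM, pow_succ, ← hk2, mul_comm]
    obtain ⟨hc1, -⟩ := exists_conj_le_of_pgroup 2 hM hMbot hMp (A := ⊤)
      (by rw [Subgroup.card_top]; exact Nat.ordProj_dvd _ _)
    obtain ⟨-, g, hg⟩ := exists_conj_le_of_pgroup 2 hM hMbot hMp (A := D)
      (by rw [← hc1]; exact hMD)
    have hDg := map_conj_ne_top hD g
    have heq : M = D.map (MulAut.conj g).toMonoidHom := by
      by_contra hne
      exact hDg (hM.2 _ (lt_of_le_of_ne hg hne))
    have h1 : Nat.card M = Nat.card D := by rw [heq, card_map_conj]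
    rw [hcM, hcD] at h1
    omega

/-- Sylow comparison of a maximal subgroup `M = N_G(S)` with another subgroup `A`. -/
theorem sylow_compare [Finite G] [IsSimpleGroup G] (ℓ : ℕ) [Fact ℓ.Prime] {M S A : Subgroup G}
    (hM : IsCoatom M) (hSM : S ≤ M) (hMS : M ≤ normalizer (S : Set G)) (hS : S ≠ ⊥)
    (hcS : Nat.card S = ℓ ^ (Nat.card M).factorization ℓ) (hA : Nat.card S ∣ Nat.card A) :
    Nat.card S = ℓ ^ (Nat.card G).factorization ℓ ∧ normalizer (S : Set G) = M ∧
    ∃ g : G, S ≤ A.map (MulAut.conj g).toMonoidHom ∧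
      ∃ n : ℕ, n % ℓ = 1 ∧
        Nat.card A = n * Nat.card (M ⊓ A.map (MulAut.conj g).toMonoidHom : Subgroup G) := by
  have hN : normalizer (S : Set G) = M := normalizer_eq_of_coatom hM hS hSM hMS
  have hcS' := card_eq_of_normalizer_le ℓ hN.le hcS
  exact ⟨hcS', hN, exists_conj_sylow ℓ hcS' hN (hcS' ▸ hA)⟩

/-- numeric exclusion of a candidate maximal subgroup -/
theorem not_coatom_of_numeric [Finite G] [IsSimpleGroup G] (ℓ : ℕ) [Fact ℓ.Prime]
    {M S A : Subgroup G} (hM : IsCoatom M) (hSM : S ≤ M) (hMS : M ≤ normalizer (S : Set G))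
    (hS : S ≠ ⊥) (hcS : Nat.card S = ℓ ^ (Nat.card M).factorization ℓ)
    (hA : Nat.card S ∣ Nat.card A)
    (hnum : ∀ n d : ℕ, n % ℓ = 1 → Nat.card A = n * d → d ∣ Nat.card M → d = Nat.card M)
    (h1 : Nat.card A ≠ Nat.card M) (h2 : Nat.card A ≠ Nat.card G) : False := by
  obtain ⟨-, -, g, -, n, hn, hcard⟩ := sylow_compare ℓ hM hSM hMS hS hcS hA
  set A' := A.map (MulAut.conj g).toMonoidHom with hA'
  have hd := hnum n _ hn hcard (Subgroup.card_dvd_of_le inf_le_left)
  have hMA : M ≤ A' := by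
    have : M ⊓ A' = M := Subgroup.eq_of_le_of_card_ge inf_le_left hd.ge
    rw [← this]; exact inf_le_right
  have hcA' : Nat.card A' = Nat.card A := card_map_conj A g
  by_cases hne : M = A'
  · apply h1; rw [← hcA', ← hne]
  · have := hM.2 _ (lt_of_le_of_ne hMA hne)
    apply h2; rw [← hcA', this, Subgroup.card_top]

end Cfsg.Agent.Helper18.L2Max
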