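import Cfsg.Agent.Helper18.L2Max7

/-! Maximal subgroups of `PSL₂(q)`, part 8: exclusion lemmas (abstract), Burnside's transfer for
simple groups, the Klein four-subgroup of `A₄`. -/

set_option autoImplicit false

namespace Cfsg.Agent.Helper18.L2Max

open Subgroup

variable {G : Type*} [Group G]

/-- a maximal subgroup that is an `ℓ`-group cannot have order properly dividing the order of a
proper subgroup -/
theorem excl_pgroup [Finite G] [IsSimpleGroup G] (ℓ : ℕ) [Fact ℓ.Prime] {M A : Subgroup G}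
    (hM : IsCoatom M) (hMbot : M ≠ ⊥) (hMℓ : IsPGroup ℓ M) (hA : Nat.card M ∣ Nat.card A)
    (h1 : Nat.card A ≠ Nat.card M) (h2 : Nat.card A ≠ Nat.card G) : False := by
  obtain ⟨hc1, -⟩ := exists_conj_le_of_pgroup ℓ hM hMbot hMℓ (A := ⊤)
    (by rw [Subgroup.card_top]; exact Nat.ordProj_dvd _ _)
  obtain ⟨-, g, hg⟩ := exists_conj_le_of_pgroup ℓ hM hMbot hMℓ (A := A) (by rw [← hc1]; exact hA)
  have hcA' : Nat.card (A.map (MulAut.conj g).toMonoidHom) = Nat.card A := card_map_conj A g
  by_cases hne : M = A.map (MulAut.conj g).toMonoidHom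
  · apply h1; rw [← hcA', ← hne]
  · have := hM.2 _ (lt_of_le_of_ne hg hne)
    apply h2; rw [← hcA', this, Subgroup.card_top]

/-- numeric exclusion of a dihedral candidate via an odd prime -/
theorem excl_dih_odd [Finite G] [IsSimpleGroup G] (ℓ : ℕ) [Fact ℓ.Prime] (hℓ2 : ℓ ≠ 2)
    {M A : Subgroup G} (hM : IsCoatom M) (k : ℕ) (e : M ≃* DihedralGroup k) (hℓk : ℓ ∣ k)
    (hA : ℓ ^ (2 * k).factorization ℓ ∣ Nat.card A)
    (hnum : ∀ n d : ℕ, n % ℓ = 1 → Nat.card A = n * d → d ∣ 2 * k → d = 2 * k)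
    (h1 : Nat.card A ≠ 2 * k) (h2 : Nat.card A ≠ Nat.card G) : False := by
  have hℓ : ℓ.Prime := Fact.out
  have hcM : Nat.card M = 2 * k := by rw [Nat.card_congr e.toEquiv, DihedralGroup.nat_card]
  obtain ⟨S, hSM, hMS, hcS⟩ := exists_normal_sylow_of_dihedral ℓ hℓ2 M k e
  have hSbot : S ≠ ⊥ := by
    intro h
    rw [h, Subgroup.card_bot] at hcS
    have hpos : 0 < (Nat.card M).factorization ℓ :=
      hℓ.factorization_pos_of_dvd (Nat.card_pos.ne') (by rw [hcM]; exact dvd_mul_of_dvd_right hℓk 2)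
    have : 1 < ℓ ^ (Nat.card M).factorization ℓ := Nat.one_lt_pow hpos.ne' hℓ.one_lt
    omega
  apply not_coatom_of_numeric ℓ hM hSM hMS hSbot hcS (A := A)
  · rw [hcS, hcM]; exact hA
  · rw [hcM]; exact hnum
  · rw [hcM]; exact h1
  · exact h2

/-- **Burnside for simple groups**: in a nonabelian finite simple group an abelian Sylow
subgroup is not self-normalising. -/
theorem normalizer_ne_of_simple {X : Type*} [Group X] [Finite X] [IsSimpleGroup X]
    (hX : ¬ ∀ a b : X, a * b = b * a) (ℓ : ℕ) [Fact ℓ.Prime] (P : Sylow ℓ X)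
    (hP : (P : Subgroup X) ≠ ⊥) (hab : ∀ a ∈ P, ∀ b ∈ P, a * b = b * a) :
    normalizer ((P : Subgroup X) : Set X) ≠ P := by
  intro hN
  have hNC : normalizer ((P : Subgroup X) : Set X) ≤ centralizer ((P : Subgroup X) : Set X) := by
    rw [hN]
    intro m hm
    rw [mem_centralizer_iff]
    intro y hy
    exact (hab m hm y hy).symm
  have hcomp := MonoidHom.ker_transferSylow_isComplement' P hNC
  have hcard := hcomp.card_mul_card
  have hker : (MonoidHom.transferSylow P hNC).ker.Normal := inferInstance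
  rcases hker.eq_bot_or_eq_top with hk | hk
  · rw [hk, Subgroup.card_bot, one_mul] at hcard
    have hPtop : (P : Subgroup X) = ⊤ := Subgroup.eq_top_of_card_eq _ hcard
    apply hX
    intro a b
    have ha : a ∈ (P : Subgroup X) := by rw [hPtop]; exact mem_top a
    have hb : b ∈ (P : Subgroup X) := by rw [hPtop]; exact mem_top b
    exact hab a ha b hb
  · rw [hk, Subgroup.card_top] at hcard
    have : Nat.card (P : Subgroup X) = 1 := by
      have hpos : 0 < Nat.card X := Nat.card_pos
      nlinarith [Nat.card_pos (α := (P : Subgroup X))]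
    rw [Subgroup.card_eq_one] at this
    exact hP this

/-- the Klein four-subgroup of `A₄` -/
def V4 : Subgroup (alternatingGroup (Fin 4)) where
  carrier := {x | x ^ 2 = 1}
  mul_mem' := by
    intro a b ha hb
    revert a b
    decide
  one_mem' := by simp
  inv_mem' := by
    intro a ha
    simp only [Set.mem_ofPred_eq] at ha ⊢
    rw [inv_pow, ha, inv_one]

theorem mem_V4 (x : alternatingGroup (Fin 4)) : x ∈ V4 ↔ x ^ 2 = 1 := Iff.rfl

instance V4_normal : V4.Normal := ⟨fun n hn g => by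
  rw [mem_V4] at hn ⊢
  rw [conj_pow, hn, mul_one, mul_inv_cancel]⟩

theorem card_V4 : Nat.card V4 = 4 := by
  show Nat.card {x : alternatingGroup (Fin 4) // x ^ 2 = 1} = 4
  rw [Nat.card_eq_fintype_card, Fintype.card_subtype]
  decide

theorem V4_comm : ∀ a ∈ V4, ∀ b ∈ V4, a * b = b * a := by
  intro a ha b hb
  rw [mem_V4] at ha hb
  revert a b
  decide

end Cfsg.Agent.Helper18.L2Max
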