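import Cfsg.Agent.Helper18.L2Max6
import Cfsg.Agent.Helper18.L2Max8
import Cfsg.Agent.S0803
import Cfsg.Agent.S0804

/-! Maximal subgroups of `PSL₂(q)`, part 9: the dihedral case in `PSL₂(q)`. -/

set_option autoImplicit false

namespace Cfsg.Agent.Helper18.L2Max

open Cfsg.Agent.Helper18.Dickson

variable {F : Type*} [Field F]

local notation "SF" => Matrix.SpecialLinearGroup (Fin 2) F
local notation "MF" => Matrix (Fin 2) (Fin 2) F
local notation "PF" => Matrix.ProjectiveSpecialLinearGroup (Fin 2) F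
local notation "π" => QuotientGroup.mk' (Subgroup.center SF)

theorem two_mul_card_psl [Fintype F] (h2 : (2 : F) ≠ 0) :
    2 * Nat.card PF = (Fintype.card F + 1) * ((Fintype.card F - 1) * Fintype.card F) := by
  classical
  rw [← card_sl2_eq_two_mul h2, Cfsg.Agent.S2301.card_sl2]

theorem psl_simple [Fintype F] (h4 : 4 ≤ Fintype.card F) : IsSimpleGroup PF :=
  Matrix.ProjectiveSpecialLinearGroup.rank_two_simple (by rwa [Nat.card_eq_fintype_card])

theorem psl_noncomm : ¬ ∀ a b : PF, a * b = b * a := fun h =>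
  mk_uM_lM_not_comm (h _ _)

/-- lower bound for the order of `PSL₂(q)` -/
theorem card_psl_gt [Fintype F] (h2 : (2 : F) ≠ 0) (h5 : 5 ≤ Fintype.card F) :
    10 * (Fintype.card F + 1) ≤ Nat.card PF := by
  have h := two_mul_card_psl (F := F) h2
  have h1 : 4 * 5 ≤ (Fintype.card F - 1) * Fintype.card F := Nat.mul_le_mul (by omega) h5
  have h3 : (Fintype.card F + 1) * (4 * 5) ≤
      (Fintype.card F + 1) * ((Fintype.card F - 1) * Fintype.card F) := Nat.mul_le_mul_left _ h1
  omega

theorem dih_comm_small : ∀ k : ℕ, k = 1 ∨ k = 2 → ∀ a b : DihedralGroup k, a * b = b * a := by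
  rintro k (rfl | rfl)
  · decide
  · decide

/-- existence of `A₅` from a square root of `5` -/
theorem exists_A5_of_sqrt [Fintype F] (h2 : (2 : F) ≠ 0) (s : F) (hs : s * s = 5) :
    ∃ H : Subgroup PF, Nonempty (H ≃* alternatingGroup (Fin 5)) := by
  apply Cfsg.Agent.S0804.exists_A5_of_tau ((1 + s) / 2)
  field_simp
  linear_combination hs

/-- the order of a dihedral maximal subgroup is `q ± 1` -/
theorem dihedral_order [Fintype F] (p : ℕ) [Fact p.Prime] [CharP F p] (hp : p ≠ 2)
    (h5 : 5 ≤ Fintype.card F) (M : Subgroup PF) (hM : IsCoatom M) (k : ℕ)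
    (hk : k ∣ (Fintype.card F + 1) / 2 ∨ k ∣ (Fintype.card F - 1) / 2)
    (e : M ≃* DihedralGroup k) :
    3 ≤ k ∧ (2 * k = Fintype.card F + 1 ∨ 2 * k = Fintype.card F - 1) := by
  have h2 : (2 : F) ≠ 0 := two_ne_zero_of_char (E := F) p hp
  have hsimple : IsSimpleGroup PF := psl_simple (by omega)
  obtain ⟨m, hm⟩ := odd_card_of_char (F := F) p hp
  have hk0 : k ≠ 0 := by
    rintro rfl
    rcases hk with h | h
    · have := Nat.eq_zero_of_zero_dvd h; omega
    · have := Nat.eq_zero_of_zero_dvd h; omega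
  have hk3 : 3 ≤ k := by
    by_contra hlt
    have hk12 : k = 1 ∨ k = 2 := by omega
    apply not_abelian_of_coatom psl_noncomm hM
    intro a ha b hb
    have := dih_comm_small k hk12 (e ⟨a, ha⟩) (e ⟨b, hb⟩)
    rw [← map_mul, ← map_mul] at this
    exact congrArg Subtype.val (e.injective this)
  refine ⟨hk3, ?_⟩
  have hGbig := card_psl_gt (F := F) h2 h5
  rcases hk with hk | hk
  · left
    obtain ⟨D, hcD, ⟨eD⟩⟩ := exists_dihedral_plus (F := F) p hp
    have hDtop : D ≠ ⊤ := by
      intro h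
      rw [h, Subgroup.card_top] at hcD
      omega
    have := dihedral_max hM k _ e hk3 eD hk (by omega) hDtop
    omega
  · right
    obtain ⟨D, hcD, ⟨eD⟩⟩ := exists_dihedral_minus (F := F) p hp h5
    have hDtop : D ≠ ⊤ := by
      intro h
      rw [h, Subgroup.card_top] at hcD
      omega
    have := dihedral_max hM k _ e hk3 eD hk (by omega) hDtop
    omega

theorem char_of_card [Fintype F] (p : ℕ) [Fact p.Prime] [CharP F p] (r : ℕ) (hr : r.Prime)
    (a : ℕ) (hq : Fintype.card F = r ^ a) : p = r := by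
  obtain ⟨n, -, hn⟩ := FiniteField.card F p
  have h1 : p ∣ r ^ a := by rw [← hq, hn]; exact dvd_pow_self p n.ne_zero
  exact (Nat.prime_dvd_prime_iff_eq Fact.out hr).1 ((Fact.out : p.Prime).dvd_of_dvd_pow h1)

/-- exclusion of the small dihedral candidates -/
theorem dihedral_small [Fintype F] (p : ℕ) [Fact p.Prime] [CharP F p] (hp : p ≠ 2)
    (M : Subgroup PF) (hM : IsCoatom M) (k : ℕ) (e : M ≃* DihedralGroup k) :
    ¬ (Fintype.card F = 7 ∧ (k = 3 ∨ k = 4)) ∧ ¬ (Fintype.card F = 9 ∧ (k = 4 ∨ k = 5)) ∧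
      ¬ (Fintype.card F = 11 ∧ k = 5) := by
  have h2 : (2 : F) ≠ 0 := two_ne_zero_of_char (E := F) p hp
  have hG := two_mul_card_psl (F := F) h2
  have hcM : Nat.card M = 2 * k := by rw [Nat.card_congr e.toEquiv, DihedralGroup.nat_card]
  have hS4 : Fintype.card F = 7 ∨ Fintype.card F = 9 →
      ∃ A : Subgroup PF, Nat.card A = 24 := by
    intro hq
    have : (Fintype.card F) ^ 2 % 16 = 1 := by rcases hq with h | h <;> rw [h] <;> norm_num
    obtain ⟨A, ⟨eA⟩⟩ := (Cfsg.Agent.S0803.result (F := F) rfl).2 this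
    exact ⟨A, by rw [Nat.card_congr eA.toEquiv, card_S4]⟩
  have hA5 : Fintype.card F = 9 ∨ Fintype.card F = 11 →
      ∃ A : Subgroup PF, Nat.card A = 60 := by
    intro hq
    have hs : ∃ s : F, s * s = 5 := by
      rcases hq with h | h
      · have hp3 : p = 3 := char_of_card p 3 Nat.prime_three 2 (by rw [h]; norm_num)
        subst hp3
        have hsq : IsSquare (-1 : F) := by
          rw [FiniteField.isSquare_neg_one_iff, h]; norm_num
        obtain ⟨s, hs⟩ := hsq
        refine ⟨s, ?_⟩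
        rw [← hs]
        have h6 : ((6 : ℕ) : F) = 0 := (CharP.cast_eq_zero_iff F 3 6).2 (by norm_num)
        have h6' : (6 : F) = 0 := by exact_mod_cast h6
        linear_combination -h6'
      · have hp11 : p = 11 := char_of_card p 11 (by norm_num) 1 (by rw [h]; norm_num)
        subst hp11
        obtain ⟨s, hs, -⟩ := exists_sqrt_five (F := F) 11 (by norm_num)
        exact ⟨s, hs⟩
    obtain ⟨s, hs⟩ := hs
    obtain ⟨A, ⟨eA⟩⟩ := exists_A5_of_sqrt h2 s hs
    exact ⟨A, by rw [Nat.card_congr eA.toEquiv, card_A5]⟩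
  have hMbot : M ≠ ⊥ → True := fun _ => trivial
  -- the 2-group case `k = 4`
  have two_case : k = 4 → (Fintype.card F = 7 ∨ Fintype.card F = 9) → False := by
    intro hk4 hq
    have hsimple : IsSimpleGroup PF := psl_simple (by rcases hq with h | h <;> omega)
    obtain ⟨A, hcA⟩ := hS4 hq
    rw [hk4] at hcM
    have hMb : M ≠ ⊥ := by
      intro h; rw [h, Subgroup.card_bot] at hcM; omega
    have hMp : IsPGroup 2 M := IsPGroup.of_card (n := 3) (by rw [hcM]; norm_num)
    apply excl_pgroup 2 hM hMb hMp (A := A)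
    · rw [hcM, hcA]; norm_num
    · rw [hcM, hcA]; norm_num
    · rw [hcA]
      rcases hq with h | h <;> rw [h] at hG <;> omega
  have h61 : (2 * 3).factorization 3 = 1 :=
    fact_eq Nat.prime_three (by norm_num) (by norm_num) (by norm_num)
  have h101 : (2 * 5).factorization 5 = 1 :=
    fact_eq (by norm_num) (by norm_num) (by norm_num) (by norm_num)
  refine ⟨?_, ?_, ?_⟩
  · rintro ⟨hq, hk | hk⟩
    · have hsimple : IsSimpleGroup PF := psl_simple (by omega)
      obtain ⟨A, hcA⟩ := hS4 (Or.inl hq)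
      subst hk
      haveI : Fact (Nat.Prime 3) := ⟨Nat.prime_three⟩
      apply excl_dih_odd 3 (by norm_num) hM 3 e (dvd_refl 3) (A := A)
      · rw [h61, hcA]; norm_num
      · intro n d hn h hd
        rw [hcA] at h
        have : d ≤ 6 := Nat.le_of_dvd (by norm_num) hd
        interval_cases d <;> omega
      · rw [hcA]; norm_num
      · rw [hcA]; rw [hq] at hG; omega
    · exact two_case hk (Or.inl hq)
  · rintro ⟨hq, hk | hk⟩
    · exact two_case hk (Or.inr hq)
    · have hsimple : IsSimpleGroup PF := psl_simple (by omega)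
      obtain ⟨A, hcA⟩ := hA5 (Or.inl hq)
      subst hk
      haveI : Fact (Nat.Prime 5) := ⟨by norm_num⟩
      apply excl_dih_odd 5 (by norm_num) hM 5 e (dvd_refl 5) (A := A)
      · rw [h101, hcA]; norm_num
      · intro n d hn h hd
        rw [hcA] at h
        have : d ≤ 10 := Nat.le_of_dvd (by norm_num) hd
        interval_cases d <;> omega
      · rw [hcA]; norm_num
      · rw [hcA]; rw [hq] at hG; omega
  · rintro ⟨hq, hk⟩
    have hsimple : IsSimpleGroup PF := psl_simple (by omega)
    obtain ⟨A, hcA⟩ := hA5 (Or.inr hq)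
    subst hk
    haveI : Fact (Nat.Prime 5) := ⟨by norm_num⟩
    apply excl_dih_odd 5 (by norm_num) hM 5 e (dvd_refl 5) (A := A)
    · rw [h101, hcA]; norm_num
    · intro n d hn h hd
      rw [hcA] at h
      have : d ≤ 10 := Nat.le_of_dvd (by norm_num) hd
      interval_cases d <;> omega
    · rw [hcA]; norm_num
    · rw [hcA]; rw [hq] at hG; omega

end Cfsg.Agent.Helper18.L2Max
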