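import Mathlib
import Cfsg.Prelude.Def_Characters
import Cfsg.Agent.Helper12.LSLDefs
import Cfsg.Agent.Helper12.LSLCommon
import Cfsg.Agent.Helper18.LSLN3B

set_option autoImplicit false

/-! S2332, piece N3MAIN: the bound for `SL_3`. -/

namespace Cfsg.Agent.Helper12.LSL

open Matrix Cfsg

variable {F : Type*} [Field F] {m : ℕ}

theorem sl3_bound [Fintype F] [DecidableEq F] (h2 : Fintype.card F ≠ 2) (h4 : Fintype.card F ≠ 4)
    (k : ℕ) (ρ : Representation ℂ (GG 2 F) (Fin k → ℂ)) (hρ : ρ.IsIrreducible) (hk : 2 ≤ k) :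
    Fintype.card F ^ 2 + Fintype.card F ≤ k := by
  obtain ⟨a, c, ha, hkc, htv, hmult⟩ := sl_mult (m := 2) le_rfl k ρ hρ hk
  exact n3_bound_of_mult h2 h4 k ρ hρ hk a c ha hkc htv hmult

end Cfsg.Agent.Helper12.LSL
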