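import Mathlib
import Cfsg.Agent.Helper4.MinIdxDefs
import Cfsg.Agent.Helper4.MinIdxCommon
import Cfsg.Agent.Helper12.CrossCharA
import Cfsg.Agent.S2579

set_option autoImplicit false

/-! S2140, piece CONJ: all transvections have the same number of fixed points. -/

namespace Cfsg.Agent.S2140P

open Matrix Cfsg.Agent.Helper12.TVG Cfsg.Agent.Helper12

universe u

namespace CONJ

variable {n : ℕ} {F : Type*} [Field F]

theorem rank_ne_zero {A : Matrix (Fin n) (Fin n) F} (hA : A ≠ 0) : A.rank ≠ 0 := by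
  intro h0
  apply hA
  unfold Matrix.rank at h0
  have hbot : LinearMap.range A.mulVecLin = ⊥ := Submodule.finrank_eq_zero.mp h0
  ext i j
  have h1 : A.mulVecLin (Pi.single j 1) ∈ LinearMap.range A.mulVecLin := ⟨_, rfl⟩
  rw [hbot, Submodule.mem_bot] at h1
  have h2 := congrFun h1 i
  rw [Matrix.mulVecLin_apply, Matrix.mulVec_single_one] at h2
  simpa using h2

theorem isTransvection_TM (v φ : Fin n → F) (hv : v ≠ 0) (hφ : φ ≠ 0) (h : φ ⬝ᵥ v = 0) :
    Cfsg.IsTransvection (TM v φ) := by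
  have e : TM v φ - 1 = vecMulVec v φ := by
    unfold TM
    rw [add_sub_cancel_left]
  refine ⟨?_, ?_⟩
  · rw [e]
    apply le_antisymm (Matrix.rank_vecMulVec_le _ _)
    have h1 : (vecMulVec v φ).rank ≠ 0 := by
      apply rank_ne_zero
      intro h0
      rcases vecMulVec_eq_zero.mp h0 with h2 | h2
      · exact hv h2
      · exact hφ h2
    omega
  · rw [e, vecMulVec_mul_vecMulVec, h, zero_smul, vecMulVec_zero]

/-- conjugate elements have the same number of fixed points -/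
theorem card_fixedBy_conj {G : Type*} [Group G] {Ω : Type*} [MulAction G Ω] (g t : G) :
    Nat.card (MulAction.fixedBy Ω (g * t * g⁻¹)) = Nat.card (MulAction.fixedBy Ω t) := by
  apply Nat.card_congr
  refine ⟨fun ω => ⟨g⁻¹ • ω.1, ?_⟩, fun ω => ⟨g • ω.1, ?_⟩, ?_, ?_⟩
  · have h := ω.2
    rw [MulAction.mem_fixedBy] at h ⊢
    conv_rhs => rw [← h]
    rw [smul_smul, smul_smul]
    congr 1
    group
  · have h := ω.2
    rw [MulAction.mem_fixedBy] at h ⊢
    rw [smul_smul, inv_mul_cancel_right, ← smul_smul, h]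
  · intro ω
    apply Subtype.ext
    show g • g⁻¹ • ω.1 = ω.1
    rw [smul_inv_smul]
  · intro ω
    apply Subtype.ext
    show g⁻¹ • g • ω.1 = ω.1
    rw [inv_smul_smul]

end CONJ

section

variable {n : ℕ} {F : Type*} [Field F] [Fintype F]
variable {Ω : Type*} [MulAction (SLn n F) Ω] [Finite Ω]

theorem exists_transvFix (hn : 3 ≤ n) : ∃ f : ℕ, TransvFix (n := n) (F := F) Ω f := by
  by_cases hex : ∃ (v₀ φ₀ : Fin n → F) (h₀ : φ₀ ⬝ᵥ v₀ = 0), v₀ ≠ 0 ∧ φ₀ ≠ 0
  · obtain ⟨v₀, φ₀, h₀, hv₀, hφ₀⟩ := hex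
    refine ⟨Nat.card (MulAction.fixedBy Ω (TS v₀ φ₀ h₀)), ?_⟩
    intro v φ h hv hφ
    have hc : IsConj (TS v₀ φ₀ h₀) (TS v φ h) :=
      Cfsg.Agent.S2579.result hn _ _ (CONJ.isTransvection_TM v₀ φ₀ hv₀ hφ₀ h₀)
        (CONJ.isTransvection_TM v φ hv hφ h)
    obtain ⟨g, hg⟩ := isConj_iff.mp hc
    rw [← hg]
    exact CONJ.card_fixedBy_conj g _
  · refine ⟨0, ?_⟩
    intro v φ h hv hφ
    exact absurd ⟨v, φ, h, hv, hφ⟩ hex

end

end Cfsg.Agent.S2140P
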