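import Mathlib
import Cfsg.Agent.Helper4.MinIdxDefs
import Cfsg.Agent.Helper4.MinIdxCommon
import Cfsg.Agent.Helper12.CrossCharA

set_option autoImplicit false

/-! S2140, piece FAITH: a transvection does not fix every point. -/

namespace Cfsg.Agent.S2140P

open Matrix Cfsg.Agent.Helper12.TVG Cfsg.Agent.Helper12

universe u

namespace FAITH

variable {n : ℕ} {F : Type*} [Field F]
variable {Ω : Type*} [MulAction (SLn n F) Ω]

/-- the kernel of the action -/
def ker (n : ℕ) (F : Type*) [Field F] (Ω : Type*) [MulAction (SLn n F) Ω] :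
    Subgroup (SLn n F) where
  carrier := {g | ∀ ω : Ω, g • ω = ω}
  one_mem' := fun ω => one_smul _ ω
  mul_mem' := by
    intro a b ha hb ω
    rw [mul_smul, hb ω, ha ω]
  inv_mem' := by
    intro a ha ω
    conv_lhs => rw [← ha ω]
    rw [inv_smul_smul]

end FAITH

section

variable {n : ℕ} {F : Type*} [Field F] [Fintype F]
variable {Ω : Type*} [MulAction (SLn n F) Ω] [Finite Ω]

theorem transvFix_lt (hn : 2 ≤ n) [MulAction.IsPretransitive (SLn n F) Ω] (hd : 1 < Nat.card Ω)
    (f : ℕ) (hf : TransvFix (n := n) (F := F) Ω f) : f < Nat.card Ω := by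
  classical
  have : Nontrivial (Fin n) := Fin.nontrivial_iff_two_le.mpr hn
  -- a particular transvection
  let i₀ : Fin n := ⟨0, by omega⟩
  let j₀ : Fin n := ⟨1, by omega⟩
  have hij : i₀ ≠ j₀ := by
    intro h
    have := congrArg Fin.val h
    simp [i₀, j₀] at this
  have h₀ : (Pi.single j₀ (1 : F) : Fin n → F) ⬝ᵥ (Pi.single i₀ (1 : F) : Fin n → F) = 0 := by
    rw [dotProduct_single, Pi.single_apply, if_neg hij, zero_mul]
  have hv₀ : (Pi.single i₀ (1 : F) : Fin n → F) ≠ 0 := by
    intro h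
    have := congrFun h i₀
    simp at this
  have hφ₀ : ∀ j : Fin n, (Pi.single j (1 : F) : Fin n → F) ≠ 0 := by
    intro j h
    have := congrFun h j
    simp at this
  have hle : f ≤ Nat.card Ω := by
    rw [← hf _ _ h₀ hv₀ (hφ₀ j₀)]
    exact Nat.card_le_card_of_injective _ Subtype.val_injective
  rcases Nat.lt_or_ge f (Nat.card Ω) with hlt | hge
  · exact hlt
  exfalso
  have hfd : f = Nat.card Ω := le_antisymm hle hge
  -- every transvection fixes every point
  have hall : ∀ (v φ : Fin n → F) (h : φ ⬝ᵥ v = 0), v ≠ 0 → φ ≠ 0 → ∀ ω : Ω,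
      TS v φ h • ω = ω := by
    intro v φ h hv hφ ω
    have h1 := hf v φ h hv hφ
    rw [hfd] at h1
    have h2 : (MulAction.fixedBy Ω (TS v φ h)) = Set.univ := by
      rw [Set.eq_univ_iff_ncard, ← Nat.card_coe_set_eq, h1]
    have h3 : ω ∈ MulAction.fixedBy Ω (TS v φ h) := by rw [h2]; exact Set.mem_univ _
    exact h3
  have htop : FAITH.ker n F Ω = ⊤ := by
    apply eq_top_of_Cov
    intro j v hv
    by_cases hv0 : v = 0
    · subst hv0
      rw [TM_zero]
      exact InH_one _
    · exact ⟨TS v (Pi.single j 1) hv, hall v _ hv hv0 (hφ₀ j), rfl⟩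
  have hsub : ∀ ω ω' : Ω, ω = ω' := by
    intro ω ω'
    obtain ⟨g, hg⟩ := MulAction.exists_smul_eq (SLn n F) ω ω'
    have hg' : g ∈ FAITH.ker n F Ω := by rw [htop]; exact Subgroup.mem_top g
    rw [← hg, hg' ω]
  obtain ⟨x, y, hxy⟩ := (Finite.one_lt_card_iff_nontrivial.mp hd).exists_pair_ne
  exact hxy (hsub x y)

end

end Cfsg.Agent.S2140P
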