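import Mathlib
import Cfsg.Agent.Helper4.MinIdxDefs
import Cfsg.Agent.Helper4.MinIdxCommon
import Cfsg.Agent.Helper4.MinIdxLin
import Cfsg.Agent.Helper12.CrossCharA

set_option autoImplicit false

/-! S2140, piece TORUS: the element `diag(c, c⁻¹, 1, …, 1)` relative to an independent pair. -/

namespace Cfsg.Agent.S2140P

open Matrix Cfsg.Agent.Helper12.TVG Cfsg.Agent.Helper12

universe u

namespace TORUS

variable {n : ℕ} {F : Type*} [Field F]

theorem det_TM' (u w : Fin n → F) : (TM u w).det = 1 + w ⬝ᵥ u := by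
  unfold TM
  rw [vecMulVec_eq (ι := Unit), det_one_add_replicateCol_mul_replicateRow]

end TORUS

section

variable {n : ℕ} {F : Type*} [Field F]

theorem exists_torus (v x : Fin n → F) (hv : v ≠ 0) (hx : ¬ ∃ c : F, x = c • v) (c : F)
    (hc : c ≠ 0) :
    ∃ g : SLn n F, (g : Matrix (Fin n) (Fin n) F) *ᵥ v = c • v ∧
      (g : Matrix (Fin n) (Fin n) F) *ᵥ x = c⁻¹ • x ∧
      ∀ φ : Fin n → F, φ ⬝ᵥ v = 0 → φ ⬝ᵥ x = 0 → φ ᵥ* (g : Matrix (Fin n) (Fin n) F) = φ := by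
  have hx' : ¬ ∃ c' : F, v = c' • x := by
    rintro ⟨c', hc'⟩
    have hc'0 : c' ≠ 0 := by
      rintro rfl
      rw [zero_smul] at hc'
      exact hv hc'
    apply hx
    refine ⟨c'⁻¹, ?_⟩
    rw [hc', smul_smul, inv_mul_cancel₀ hc'0, one_smul]
  obtain ⟨xs, hxs_v, hxs_x⟩ := exists_cov_sep v x hx
  obtain ⟨vs, hvs_x, hvs_v⟩ := exists_cov_sep x v hx'
  set A : Matrix (Fin n) (Fin n) F := TM ((c - 1) • v) vs with hA
  set B : Matrix (Fin n) (Fin n) F := TM ((c⁻¹ - 1) • x) xs with hB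
  have hdA : A.det = c := by
    rw [hA, TORUS.det_TM', dotProduct_smul, hvs_v, smul_eq_mul, mul_one]
    ring
  have hdB : B.det = c⁻¹ := by
    rw [hB, TORUS.det_TM', dotProduct_smul, hxs_x, smul_eq_mul, mul_one]
    ring
  have hdet : (A * B).det = 1 := by
    rw [det_mul, hdA, hdB, mul_inv_cancel₀ hc]
  have eBv : B *ᵥ v = v := by
    rw [hB, TM_mulVec, hxs_v, zero_smul, add_zero]
  have eAv : A *ᵥ v = c • v := by
    rw [hA, TM_mulVec, hvs_v, one_smul, sub_smul, one_smul]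
    abel
  have eBx : B *ᵥ x = c⁻¹ • x := by
    rw [hB, TM_mulVec, hxs_x, one_smul, sub_smul, one_smul]
    abel
  have eAx : A *ᵥ x = x := by
    rw [hA, TM_mulVec, hvs_x, zero_smul, add_zero]
  refine ⟨⟨A * B, hdet⟩, ?_, ?_, ?_⟩
  · show (A * B) *ᵥ v = c • v
    rw [← mulVec_mulVec, eBv, eAv]
  · show (A * B) *ᵥ x = c⁻¹ • x
    rw [← mulVec_mulVec, eBx, mulVec_smul, eAx]
  · intro φ h1 h2
    show φ ᵥ* (A * B) = φ
    have eA : φ ᵥ* A = φ := by
      rw [hA, vecMul_TM, dotProduct_smul, h1, smul_zero, zero_smul, add_zero]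
    have eB : φ ᵥ* B = φ := by
      rw [hB, vecMul_TM, dotProduct_smul, h2, smul_zero, zero_smul, add_zero]
    rw [← vecMul_vecMul, eA, eB]

end

end Cfsg.Agent.S2140P
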