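import Cfsg.Agent.Helper18.Dickson35
import Cfsg.Agent.Helper18.Order60Char
import Cfsg.Agent.Helper24.Burnside

/-! Minimal simple `PSL₂(q)`: general facts and the odd case of "proper subgroups are
solvable". -/

set_option autoImplicit false

namespace Cfsg.Agent.Helper18.MinSimple

open Cfsg.Agent.Helper18.Dickson

variable {F : Type*} [Field F]

local notation "SF" => Matrix.SpecialLinearGroup (Fin 2) F
local notation "MF" => Matrix (Fin 2) (Fin 2) F
local notation "PF" => Matrix.ProjectiveSpecialLinearGroup (Fin 2) F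
local notation "π" => QuotientGroup.mk' (Subgroup.center SF)

/-- `PSL₂(F)` is never commutative -/
theorem psl2_not_comm : ¬ IsMulCommutative PF := by
  intro h
  have hc : π (uM 1) * π (lM 1) = π (lM 1) * π (uM 1) := h.is_comm.comm _ _
  rw [← map_mul, ← map_mul] at hc
  have h1 : π ((uM 1 * lM 1) * (lM 1 * uM 1)⁻¹) = 1 := by
    rw [map_mul, map_inv, hc, mul_inv_cancel]
  rw [mk_eq_one_iff] at h1
  have e1 : ((uM (1 : F) * lM 1 : SF) : MF) 0 0 = 2 := by
    simp [uM_coe, lM_coe, Matrix.mul_apply, Fin.sum_univ_two]; norm_num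
  have e2 : ((lM (1 : F) * uM 1 : SF) : MF) 0 0 = 1 := by
    simp [uM_coe, lM_coe, Matrix.mul_apply, Fin.sum_univ_two]
  have e3 : ((uM (1 : F) * lM 1 : SF) : MF) 0 1 = 1 := by
    simp [uM_coe, lM_coe, Matrix.mul_apply, Fin.sum_univ_two]
  have e4 : ((lM (1 : F) * uM 1 : SF) : MF) 0 1 = 1 := by
    simp [uM_coe, lM_coe, Matrix.mul_apply, Fin.sum_univ_two]
  rcases h1 with h1 | h1
  · have h2 : uM (1 : F) * lM 1 = lM 1 * uM 1 := mul_inv_eq_one.1 h1
    rw [h2, e2] at e1
    have : (1 : F) = 0 := by linear_combination -e1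
    exact one_ne_zero this
  · have h2 : uM (1 : F) * lM 1 = -(lM 1 * uM 1) := by
      have := mul_inv_eq_iff_eq_mul.1 h1
      rw [this, neg_mul, one_mul]
    rw [h2] at e1 e3
    simp only [Matrix.SpecialLinearGroup.coe_neg, Matrix.neg_apply] at e1 e3
    rw [e2] at e1
    rw [e4] at e3
    have : (1 : F) = 0 := by linear_combination e1 - 2 * e3
    exact one_ne_zero this

/-- `PSL₂(F)` is not solvable for `|F| ≥ 4` -/
theorem not_isSolvable_psl2 [Finite F] (h4 : 4 ≤ Nat.card F) : ¬ Group.IsSolvable PF := by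
  intro hs
  have hsimple : IsSimpleGroup PF :=
    Matrix.ProjectiveSpecialLinearGroup.rank_two_simple h4
  have := (IsSimpleGroup.comm_iff_isSolvable (G := PF)).2 hs
  exact psl2_not_comm ⟨⟨this⟩⟩

theorem not_isSolvable_A5 : ¬ Group.IsSolvable (alternatingGroup (Fin 5)) := by
  intro hs
  apply Equiv.Perm.not_isSolvable_fin_5
  exact Group.isSolvable_of_ker_le_range (alternatingGroup (Fin 5)).subtype Equiv.Perm.sign (by
    rw [Subgroup.range_subtype]; exact le_of_eq rfl)

/-- odd characteristic: a subgroup not of order `60`, not the whole group, is solvable when the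
only proper subfields have order `3` and odd codegree -/
theorem solvable_of_odd [Fintype F] (p : ℕ) [Fact p.Prime] [CharP F p] (hp : p ≠ 2)
    (H : Subgroup PF) (h60 : Nat.card H ≠ 60)
    (hK : ∀ (K : Subfield F) (s : ℕ), Fintype.card F = Nat.card K ^ s → 1 ≤ s →
      K = ⊤ ∨ (Nat.card K = 3 ∧ Odd s))
    (hH : H ≠ ⊤) : Group.IsSolvable H := by
  classical
  have h12 : Nat.card H = 12 → Group.IsSolvable H := fun h =>
    Cfsg.Agent.Helper18.Order60Char.solvable_of_card_dvd_sixty (by rw [h]; norm_num)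
      (by rw [h]; norm_num)
  by_cases hpH : p ∣ Nat.card H
  · rcases pdiv_dickson' p hp H hpH with ⟨g0, hg0⟩ | ⟨K, s, hs, hs1, hKt, hc⟩ | ⟨-, h⟩
    · exact isSolvable_of_borel H g0 hg0
    · rcases hK K s hs hs1 with hKtop | ⟨hk3, hodd⟩
      · exact absurd (hKt hKtop) hH
      · rcases hc with ⟨hc, -⟩ | ⟨-, hev, -⟩
        · rw [hk3] at hc
          exact h12 (by omega)
        · exact absurd hev (Nat.not_even_iff_odd.2 hodd)
    · exact absurd h h60
  · rcases pprime_dickson p hp H hpH with ⟨k, -, ⟨hcyc, -⟩ | ⟨⟨e⟩⟩⟩ | ⟨⟨e⟩⟩ | ⟨⟨e⟩⟩ | ⟨⟨e⟩⟩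
    · have := hcyc
      exact Group.isSolvable_of_comm (fun a b => (IsCyclic.commGroup (α := H)).mul_comm a b)
    · have := isSolvable_dihedral k
      exact Group.isSolvable_of_isSolvable_injective (f := e.toMonoidHom) e.injective
    · exact h12 (by rw [Nat.card_congr e.toEquiv]; exact card_A4)
    · have h24 : Nat.card H = 24 := by rw [Nat.card_congr e.toEquiv]; exact card_S4
      exact Cfsg.Agent.Helper24.isSolvable_of_card_eq_prime_pow_mul 2 3 3 1
        Nat.prime_two Nat.prime_three (by rw [h24]; norm_num)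
    · exact absurd (by rw [Nat.card_congr e.toEquiv]; exact card_A5) h60

end Cfsg.Agent.Helper18.MinSimple
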