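import Cfsg.Agent.Helper18.MinSimple1
import Cfsg.Agent.Helper11.L2EH
import Cfsg.Agent.S0805

/-! Minimal simple `PSL₂(q)`: the even case. -/

set_option autoImplicit false

namespace Cfsg.Agent.Helper18.MinSimple

open Cfsg.Agent.Helper18.Dickson Cfsg.Agent.Helper11.L2E

variable {F : Type*} [Field F]

local notation "SF" => Matrix.SpecialLinearGroup (Fin 2) F
local notation "MF" => Matrix (Fin 2) (Fin 2) F
local notation "PF" => Matrix.ProjectiveSpecialLinearGroup (Fin 2) F

/-- transfer of solvability along a group isomorphism to subgroups -/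
theorem isSolvable_comap_equiv {G G' : Type*} [Group G] [Group G'] (e : G ≃* G') (H : Subgroup G')
    (h : Group.IsSolvable (H.comap e.toMonoidHom)) : Group.IsSolvable H := by
  let f : (H.comap e.toMonoidHom) →* H :=
    MonoidHom.codRestrict (e.toMonoidHom.comp (H.comap e.toMonoidHom).subtype) H (fun x => x.2)
  have hf : Function.Surjective f := by
    intro y
    refine ⟨⟨e.symm y, ?_⟩, ?_⟩
    · rw [Subgroup.mem_comap]
      simp
    · apply Subtype.ext
      show e (e.symm y) = y
      simp
  exact Group.isSolvable_of_surjective hf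

/-- `q = 2^r`, `r` prime: proper subgroups of `PSL₂(q)` are solvable -/
theorem solvable_of_even [Fintype F] [CharP F 2] {r : ℕ} (hr : r.Prime)
    (hF : Fintype.card F = 2 ^ r) (H : Subgroup PF) (hH : H ≠ ⊤) : Group.IsSolvable H := by
  apply isSolvable_comap_equiv (slEquivPSL F)
  set M := H.comap (slEquivPSL F).toMonoidHom with hM
  have hMtop : M ≠ ⊤ := by
    intro h
    apply hH
    rw [eq_top_iff]
    intro x _
    have : (slEquivPSL F).symm x ∈ M := by rw [h]; trivial
    rw [hM, Subgroup.mem_comap] at this
    simpa using this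
  rcases dichotomy hr hF M hMtop with ⟨g, hg⟩ | ⟨T, hT, hle⟩
  · exact isSolvable_of_le hg (isSolvable_cj g _ isSolvable_Bsub)
  · exact isSolvable_of_le hle hT.isSolvable_normalizer

/-- a subfield of order at least `4` gives a proper non-solvable subgroup, characteristic two -/
theorem exists_nonsolvable_even [Fintype F] [CharP F 2] {K : Type*} [Field K] [Fintype K]
    (ι : K →+* F) (h4 : 4 ≤ Fintype.card K) (hlt : Fintype.card K < Fintype.card F) :
    ∃ H : Subgroup PF, H ≠ ⊤ ∧ ¬ Group.IsSolvable H := by
  classical
  set f : Matrix.SpecialLinearGroup (Fin 2) K →* PF :=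
    (slEquivPSL F).toMonoidHom.comp (Matrix.SpecialLinearGroup.map ι) with hf
  have hinj : Function.Injective f := by
    intro a b hab
    exact map_injective ι ((slEquivPSL F).injective hab)
  refine ⟨f.range, ?_, ?_⟩
  · intro htop
    have hsurj : Function.Surjective f := MonoidHom.range_eq_top.1 htop
    have hcard : Nat.card (Matrix.SpecialLinearGroup (Fin 2) K) = Nat.card PF :=
      Nat.card_eq_of_bijective f ⟨hinj, hsurj⟩
    rw [← Nat.card_congr (slEquivPSL F).toEquiv, Cfsg.Agent.S2301.card_sl2,
      Cfsg.Agent.S2301.card_sl2] at hcard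
    have h1 : Fintype.card K + 1 < Fintype.card F + 1 := by omega
    have h2 : (Fintype.card K - 1) * Fintype.card K < (Fintype.card F - 1) * Fintype.card F :=
      Nat.mul_lt_mul'' (by omega) hlt
    have := Nat.mul_lt_mul'' h1 h2
    omega
  · intro hs
    apply not_isSolvable_S2 (F := K) h4
    exact Group.isSolvable_of_isSolvable_injective (f := f.rangeRestrict)
      (MonoidHom.rangeRestrict_injective_iff.2 hinj)

end Cfsg.Agent.Helper18.MinSimple
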