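import Cfsg.Agent.Helper18.MinSimple2
import Cfsg.Agent.Helper12.SL2SplitTorus
import Cfsg.Agent.S0804

/-! Minimal simple `PSL₂(q)`: proper non-solvable subgroups in odd characteristic. -/

set_option autoImplicit false

namespace Cfsg.Agent.Helper18.MinSimple

open Cfsg.Agent.Helper18.Dickson

variable {F : Type*} [Field F]

local notation "SF" => Matrix.SpecialLinearGroup (Fin 2) F
local notation "MF" => Matrix (Fin 2) (Fin 2) F
local notation "PF" => Matrix.ProjectiveSpecialLinearGroup (Fin 2) F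

theorem prod_lt {k q : ℕ} (hk : 2 ≤ k) (hlt : k < q) :
    (k + 1) * ((k - 1) * k) < (q + 1) * ((q - 1) * q) := by
  have h1 : k + 1 < q + 1 := by omega
  have h2 : (k - 1) * k < (q - 1) * q := Nat.mul_lt_mul'' (by omega) hlt
  exact Nat.mul_lt_mul'' h1 h2

/-- a subfield of order at least `4` gives a proper non-solvable subgroup, odd case -/
theorem exists_nonsolvable_odd [Fintype F] (hodd : Odd (Fintype.card F)) {K : Type*} [Field K]
    [Fintype K] (m : ℕ) (hm : 1 ≤ m) (hK : Fintype.card K ^ m = Fintype.card F)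
    (h4 : 4 ≤ Fintype.card K) (hlt : Fintype.card K < Fintype.card F) :
    ∃ H : Subgroup PF, H ≠ ⊤ ∧ ¬ Group.IsSolvable H := by
  classical
  obtain ⟨H, ⟨e⟩⟩ := (Cfsg.Agent.S0805.result (F := F) (K := K) rfl hodd m hm hK).1
  have h2F : (2 : F) ≠ 0 := Cfsg.Agent.Helper12.two_ne_zero_of_odd_card hodd
  have hoddK : Odd (Fintype.card K) := by
    rw [← hK] at hodd
    obtain ⟨m', rfl⟩ : ∃ m', m = m' + 1 := ⟨m - 1, by omega⟩
    rw [pow_succ] at hodd
    exact Nat.Odd.of_mul_right hodd
  have h2K : (2 : K) ≠ 0 := Cfsg.Agent.Helper12.two_ne_zero_of_odd_card hoddK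
  refine ⟨H, ?_, ?_⟩
  · intro htop
    have h1 : Nat.card H = Nat.card PF := by rw [htop, Subgroup.card_top]
    rw [Nat.card_congr e.toEquiv] at h1
    have hcF := two_mul_card_psl (F := F) h2F
    have hcK := two_mul_card_psl (F := K) h2K
    have := prod_lt (k := Fintype.card K) (q := Fintype.card F) (by omega) hlt
    omega
  · intro hs
    apply not_isSolvable_psl2 (F := K) (by rw [Nat.card_eq_fintype_card]; exact h4)
    exact Group.isSolvable_of_surjective (f := e.toMonoidHom) e.surjective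

/-- a proper copy of `A₅` -/
theorem exists_nonsolvable_A5 [Fintype F] (h2F : (2 : F) ≠ 0)
    (h5 : 5 ∣ Fintype.card F * (Fintype.card F ^ 2 - 1)) (h7 : 7 ≤ Fintype.card F) :
    ∃ H : Subgroup PF, H ≠ ⊤ ∧ ¬ Group.IsSolvable H := by
  classical
  obtain ⟨H, ⟨e⟩⟩ := (Cfsg.Agent.S0804.result (F := F) rfl).2 h5
  refine ⟨H, ?_, ?_⟩
  · intro htop
    have h1 : Nat.card H = Nat.card PF := by rw [htop, Subgroup.card_top]
    rw [Nat.card_congr e.toEquiv, card_A5] at h1
    have hcF := two_mul_card_psl (F := F) h2F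
    have : 8 * (6 * 7) ≤ (Fintype.card F + 1) * ((Fintype.card F - 1) * Fintype.card F) :=
      Nat.mul_le_mul (by omega) (Nat.mul_le_mul (by omega) h7)
    omega
  · intro hs
    apply not_isSolvable_A5
    exact Group.isSolvable_of_surjective (f := e.toMonoidHom) e.surjective

end Cfsg.Agent.Helper18.MinSimple
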