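import Cfsg.Agent.Helper18.NatMod1

/-! Natural `SL₂(F)`-modules, part 2: an irreducible module with a nonzero vector of `C_M(L)`
whose `U`-commutators lie in `C_M(U)` is the natural module. -/

set_option autoImplicit false

namespace Cfsg.Agent.Helper18.NatMod

/-- fixed points of the upper unitriangular group -/
def fixU (F : Type*) [Field F] (M : Type*) [AddCommGroup M]
    [DistribMulAction (Matrix.SpecialLinearGroup (Fin 2) F) M] : AddSubgroup M where
  carrier := {m | ∀ x : F, (uu x : Matrix.SpecialLinearGroup (Fin 2) F) • m = m}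
  zero_mem' := fun x => smul_zero _
  add_mem' := fun {a b} ha hb x => by rw [smul_add, ha x, hb x]
  neg_mem' := fun {a} ha x => by rw [smul_neg, ha x]

/-- fixed points of the lower unitriangular group -/
def fixL (F : Type*) [Field F] (M : Type*) [AddCommGroup M]
    [DistribMulAction (Matrix.SpecialLinearGroup (Fin 2) F) M] : AddSubgroup M where
  carrier := {m | ∀ x : F, (ll x : Matrix.SpecialLinearGroup (Fin 2) F) • m = m}
  zero_mem' := fun x => smul_zero _
  add_mem' := fun {a b} ha hb x => by rw [smul_add, ha x, hb x]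
  neg_mem' := fun {a} ha x => by rw [smul_neg, ha x]

variable {F : Type*} [Field F]

local notation "SF" => Matrix.SpecialLinearGroup (Fin 2) F
local notation "MF" => Matrix (Fin 2) (Fin 2) F

variable {M : Type*} [AddCommGroup M] [DistribMulAction (Matrix.SpecialLinearGroup (Fin 2) F) M]

theorem mem_fixU {m : M} : m ∈ fixU F M ↔ ∀ x : F, (uu x : SF) • m = m := Iff.rfl
theorem mem_fixL {m : M} : m ∈ fixL F M ↔ ∀ x : F, (ll x : SF) • m = m := Iff.rfl

theorem ww_smul_mem_fixU {m : M} (hm : m ∈ fixL F M) : (ww : SF) • m ∈ fixU F M := by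
  intro x
  have h1 : uu x * (ww : SF) = ww * ll (-x) := by rw [ww_mul_ll, neg_neg]
  rw [← mul_smul, h1, mul_smul, hm (-x)]

theorem ww_smul_mem_fixL {m : M} (hm : m ∈ fixU F M) : (ww : SF) • m ∈ fixL F M := by
  intro x
  have h1 : ll x * (ww : SF) = ww * uu (-x) := by rw [ww_mul_uu, neg_neg]
  rw [← mul_smul, h1, mul_smul, hm (-x)]

theorem hh_smul_mem_fixU (t : Fˣ) {m : M} (hm : m ∈ fixU F M) : (hh t : SF) • m ∈ fixU F M := by
  intro x
  have h1 : uu x * hh t = hh t * uu ((((t⁻¹ : Fˣ) : F)) ^ 2 * x) := by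
    rw [hh_mul_uu]
    congr 2
    rw [← mul_assoc, ← mul_pow, ← Units.val_mul, mul_inv_cancel]
    simp
  rw [← mul_smul, h1, mul_smul, hm _]

theorem hh_smul_mem_fixL (t : Fˣ) {m : M} (hm : m ∈ fixL F M) : (hh t : SF) • m ∈ fixL F M := by
  intro x
  have h1 : ll x * hh t = hh t * ll ((t : F) ^ 2 * x) := by
    rw [hh_mul_ll]
    congr 2
    rw [← mul_assoc, ← mul_pow, ← Units.val_mul, inv_mul_cancel]
    simp
  rw [← mul_smul, h1, mul_smul, hm _]

theorem ww_inv_smul (m : M) : (ww : SF)⁻¹ • m = (ww : SF) • (hh (-1) : SF) • m := by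
  rw [ww_inv, mul_smul]

theorem ww_inv_smul_mem_fixL {m : M} (hm : m ∈ fixU F M) : (ww : SF)⁻¹ • m ∈ fixL F M := by
  rw [ww_inv_smul]
  exact ww_smul_mem_fixL (hh_smul_mem_fixU _ hm)

/-- a subgroup invariant under `U` and `w` is invariant under `SL₂(F)` -/
theorem invariant_of_uu_ww (N : AddSubgroup M) (hu : ∀ x : F, ∀ m ∈ N, (uu x : SF) • m ∈ N)
    (hw : ∀ m ∈ N, (ww : SF) • m ∈ N) : ∀ g : SF, ∀ m ∈ N, g • m ∈ N := by
  let H : Subgroup SF :=
    { carrier := {g | ∀ m ∈ N, g • m ∈ N ∧ g⁻¹ • m ∈ N}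
      one_mem' := fun m hm => by simp [hm]
      mul_mem' := fun {a b} ha hb m hm => by
        refine ⟨?_, ?_⟩
        · rw [mul_smul]; exact (ha _ (hb m hm).1).1
        · rw [mul_inv_rev, mul_smul]; exact (hb _ (ha m hm).2).2
      inv_mem' := fun {a} ha m hm => by
        refine ⟨(ha m hm).2, ?_⟩
        rw [inv_inv]; exact (ha m hm).1 }
  have hH : H = ⊤ := by
    apply eq_top_of_uu_ww
    · intro x m hm
      refine ⟨hu x m hm, ?_⟩
      rw [uu_inv]; exact hu _ m hm
    · intro m hm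
      refine ⟨hw m hm, ?_⟩
      rw [ww_inv, ← ww_mul_ww, mul_smul, mul_smul]
      exact hw _ (hw _ (hw m hm))
  intro g m hm
  have : g ∈ H := by rw [hH]; trivial
  exact (this m hm).1

section main

theorem fixU_inf_fixL
    (hirr : ∀ N : AddSubgroup M, (∀ g : SF, ∀ m ∈ N, g • m ∈ N) → N = ⊥ ∨ N = ⊤)
    (hnt : ∃ (g : SF) (m : M), g • m ≠ m) : fixU F M ⊓ fixL F M = ⊥ := by
  let Z : AddSubgroup M :=
    { carrier := {m | ∀ g : SF, g • m = m}
      zero_mem' := fun g => smul_zero _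
      add_mem' := fun {a b} ha hb g => by rw [smul_add, ha g, hb g]
      neg_mem' := fun {a} ha g => by rw [smul_neg, ha g] }
  have hZ : Z = ⊥ := by
    rcases hirr Z (fun g m hm h => by
      have := hm (g⁻¹ * h * g)
      rw [mul_smul, mul_smul] at this
      exact inv_smul_eq_iff.mp this) with h | h
    · exact h
    · exfalso
      obtain ⟨g, m, hgm⟩ := hnt
      have : m ∈ Z := by rw [h]; trivial
      exact hgm (this g)
  rw [eq_bot_iff]
  intro m hm
  rw [AddSubgroup.mem_inf] at hm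
  have hst : MulAction.stabilizer SF m = ⊤ := by
    apply eq_top_of_uu_ll
    · intro x; exact hm.1 x
    · intro x; exact hm.2 x
  have : m ∈ Z := by
    intro g
    have : g ∈ MulAction.stabilizer SF m := by rw [hst]; trivial
    exact this
  rw [hZ] at this
  exact this

theorem eq_zero_of_mem_fixU_fixL
    (hirr : ∀ N : AddSubgroup M, (∀ g : SF, ∀ m ∈ N, g • m ∈ N) → N = ⊥ ∨ N = ⊤)
    (hnt : ∃ (g : SF) (m : M), g • m ≠ m)
    {m : M} (h1 : m ∈ fixU F M) (h2 : m ∈ fixL F M) : m = 0 := by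
  have : m ∈ fixU F M ⊓ fixL F M := AddSubgroup.mem_inf.mpr ⟨h1, h2⟩
  rw [fixU_inf_fixL hirr hnt] at this
  exact this

/-- the key formula -/
theorem key
    (hirr : ∀ N : AddSubgroup M, (∀ g : SF, ∀ m ∈ N, g • m ∈ N) → N = ⊥ ∨ N = ⊤)
    (hnt : ∃ (g : SF) (m : M), g • m ≠ m)
    {v : M} (hv : v ∈ fixL F M) (hq : ∀ x : F, (uu x : SF) • v - v ∈ fixU F M) (t : Fˣ) :
    (uu (t : F) : SF) • v - v = (ww : SF) • (hh t⁻¹ : SF) • v := by
  have h1 : (uu (t : F) : SF) • v
      = (ww : SF) • (hh t⁻¹ : SF) • v + (ww : SF) • (hh t⁻¹ : SF) • ((uu (-(t : F)) : SF) • v - v) := by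
    conv_lhs => rw [uu_eq t]
    rw [mul_smul, mul_smul, mul_smul, hv _, ← smul_add, ← smul_add]
    congr 2
    abel
  have hA : (uu (t : F) : SF) • v - v - (ww : SF) • (hh t⁻¹ : SF) • v ∈ fixU F M :=
    (fixU F M).sub_mem (hq _) (ww_smul_mem_fixU (hh_smul_mem_fixL _ hv))
  have hB : (uu (t : F) : SF) • v - v - (ww : SF) • (hh t⁻¹ : SF) • v ∈ fixL F M := by
    have : (uu (t : F) : SF) • v - v - (ww : SF) • (hh t⁻¹ : SF) • v
        = (ww : SF) • (hh t⁻¹ : SF) • ((uu (-(t : F)) : SF) • v - v) - v := by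
      rw [h1]; abel
    rw [this]
    exact (fixL F M).sub_mem (ww_smul_mem_fixL (hh_smul_mem_fixU _ (hq _))) hv
  have := eq_zero_of_mem_fixU_fixL hirr hnt hA hB
  exact sub_eq_zero.mp this

end main

end Cfsg.Agent.Helper18.NatMod
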