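import Cfsg.Agent.Helper18.NatMod2

/-! Natural `SL₂(F)`-modules, part 3: the `W`-argument and the natural coordinates. -/

set_option autoImplicit false

namespace Cfsg.Agent.Helper18.NatMod

variable {F : Type*} [Field F]

local notation "SF" => Matrix.SpecialLinearGroup (Fin 2) F
local notation "MF" => Matrix (Fin 2) (Fin 2) F

variable {M : Type*} [AddCommGroup M] [DistribMulAction (Matrix.SpecialLinearGroup (Fin 2) F) M]

/-- the vectors of `C_M(L)` whose `U`-commutators lie in `C_M(U)` -/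
def quadL (F : Type*) [Field F] (M : Type*) [AddCommGroup M]
    [DistribMulAction (Matrix.SpecialLinearGroup (Fin 2) F) M] : AddSubgroup M where
  carrier := {v | v ∈ fixL F M ∧
    ∀ x : F, (uu x : Matrix.SpecialLinearGroup (Fin 2) F) • v - v ∈ fixU F M}
  zero_mem' := ⟨(fixL F M).zero_mem, fun x => by rw [smul_zero, sub_zero]; exact (fixU F M).zero_mem⟩
  add_mem' := fun {a b} ha hb => ⟨(fixL F M).add_mem ha.1 hb.1, fun x => by
    have : (uu x : Matrix.SpecialLinearGroup (Fin 2) F) • (a + b) - (a + b)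
        = ((uu x : Matrix.SpecialLinearGroup (Fin 2) F) • a - a)
          + ((uu x : Matrix.SpecialLinearGroup (Fin 2) F) • b - b) := by
      rw [smul_add]; abel
    rw [this]
    exact (fixU F M).add_mem (ha.2 x) (hb.2 x)⟩
  neg_mem' := fun {a} ha => ⟨(fixL F M).neg_mem ha.1, fun x => by
    have : (uu x : Matrix.SpecialLinearGroup (Fin 2) F) • (-a) - (-a)
        = -((uu x : Matrix.SpecialLinearGroup (Fin 2) F) • a - a) := by
      rw [smul_neg]; abel
    rw [this]
    exact (fixU F M).neg_mem (ha.2 x)⟩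

theorem mem_quadL {v : M} : v ∈ quadL F M ↔ v ∈ fixL F M ∧
    ∀ x : F, (uu x : SF) • v - v ∈ fixU F M := Iff.rfl

theorem hh_smul_mem_quadL (t : Fˣ) {v : M} (hv : v ∈ quadL F M) : (hh t : SF) • v ∈ quadL F M := by
  refine ⟨hh_smul_mem_fixL t hv.1, fun x => ?_⟩
  have h1 : uu x * hh t = hh t * uu ((((t⁻¹ : Fˣ) : F)) ^ 2 * x) := by
    rw [hh_mul_uu]
    congr 2
    rw [← mul_assoc, ← mul_pow, ← Units.val_mul, mul_inv_cancel]
    simp
  rw [← mul_smul, h1, mul_smul, ← smul_sub]
  exact hh_smul_mem_fixU t (hv.2 _)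

/-- the `W`-argument: `C_M(L)` consists of quadratic vectors as soon as one nonzero vector is -/
theorem fixL_le_quadL
    (hirr : ∀ N : AddSubgroup M, (∀ g : SF, ∀ m ∈ N, g • m ∈ N) → N = ⊥ ∨ N = ⊤)
    (hnt : ∃ (g : SF) (m : M), g • m ≠ m)
    (hv : ∃ v ∈ quadL F M, v ≠ 0) : fixL F M ≤ quadL F M := by
  let W : AddSubgroup M :=
    { carrier := {m | ∃ a ∈ quadL F M, ∃ b ∈ quadL F M, m = (ww : SF) • a + b}
      zero_mem' := ⟨0, (quadL F M).zero_mem, 0, (quadL F M).zero_mem, by simp⟩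
      add_mem' := by
        rintro _ _ ⟨a, ha, b, hb, rfl⟩ ⟨a', ha', b', hb', rfl⟩
        exact ⟨a + a', (quadL F M).add_mem ha ha', b + b', (quadL F M).add_mem hb hb', by
          rw [smul_add]; abel⟩
      neg_mem' := by
        rintro _ ⟨a, ha, b, hb, rfl⟩
        exact ⟨-a, (quadL F M).neg_mem ha, -b, (quadL F M).neg_mem hb, by
          rw [smul_neg]; abel⟩ }
  have hWinv : ∀ g : SF, ∀ m ∈ W, g • m ∈ W := by
    apply invariant_of_uu_ww
    · rintro x _ ⟨a, ha, b, hb, rfl⟩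
      have h1 : (uu x : SF) • (ww : SF) • a = (ww : SF) • a := ww_smul_mem_fixU ha.1 x
      by_cases hx : x = 0
      · subst hx
        rw [uu_zero, one_smul]
        exact ⟨a, ha, b, hb, rfl⟩
      · let t : Fˣ := Units.mk0 x hx
        have h2 := key hirr hnt hb.1 hb.2 t
        have h3 : (uu x : SF) • b = b + (ww : SF) • (hh t⁻¹ : SF) • b := by
          have : (uu x : SF) • b - b = (ww : SF) • (hh t⁻¹ : SF) • b := h2
          rw [← this]; abel
        refine ⟨a + (hh t⁻¹ : SF) • b, (quadL F M).add_mem ha (hh_smul_mem_quadL _ hb), b, hb, ?_⟩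
        rw [smul_add, h1, h3, smul_add]
        abel
    · rintro _ ⟨a, ha, b, hb, rfl⟩
      refine ⟨b, hb, (hh (-1) : SF) • a, hh_smul_mem_quadL _ ha, ?_⟩
      rw [smul_add, ← mul_smul, ww_mul_ww]
      abel
  obtain ⟨v, hvq, hv0⟩ := hv
  have hvW : v ∈ W := ⟨0, (quadL F M).zero_mem, v, hvq, by simp⟩
  have hW : W = ⊤ := by
    rcases hirr W hWinv with h | h
    · exfalso
      rw [h] at hvW
      exact hv0 hvW
    · exact h
  intro m hm
  have hmW : m ∈ W := by rw [hW]; trivial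
  obtain ⟨a, ha, b, hb, rfl⟩ := hmW
  have h1 : (ww : SF) • a ∈ fixU F M := ww_smul_mem_fixU ha.1
  have h2 : (ww : SF) • a ∈ fixL F M := by
    have : (ww : SF) • a = ((ww : SF) • a + b) - b := by abel
    rw [this]
    exact (fixL F M).sub_mem hm hb.1
  have h3 := eq_zero_of_mem_fixU_fixL hirr hnt h1 h2
  rw [h3, zero_add]
  exact hb

end Cfsg.Agent.Helper18.NatMod
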