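import Cfsg.Agent.Helper18.NatMod3

/-! Natural `SL₂(F)`-modules, part 4: the natural coordinates. -/

set_option autoImplicit false

namespace Cfsg.Agent.Helper18.NatMod

variable {F : Type*} [Field F]

local notation "SF" => Matrix.SpecialLinearGroup (Fin 2) F
local notation "MF" => Matrix (Fin 2) (Fin 2) F

variable {M : Type*} [AddCommGroup M] [DistribMulAction (Matrix.SpecialLinearGroup (Fin 2) F) M]

/-- an irreducible nontrivial `SL₂(F)`-module with a nonzero quadratic vector in `C_M(L)` is the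
natural module -/
theorem exists_natural
    (hirr : ∀ N : AddSubgroup M, (∀ g : SF, ∀ m ∈ N, g • m ∈ N) → N = ⊥ ∨ N = ⊤)
    (hnt : ∃ (g : SF) (m : M), g • m ≠ m)
    (hv : ∃ v ∈ quadL F M, v ≠ 0) :
    ∃ ψ : M ≃+ (Fin 2 → F), ∀ (g : SF) (m : M), ψ (g • m) = ((g : SF) : MF).mulVec (ψ m) := by
  have hL := fixL_le_quadL hirr hnt hv
  obtain ⟨b, hbq, hb0⟩ := hv
  have key' : ∀ v ∈ fixL F M, ∀ t : Fˣ,
      (uu (t : F) : SF) • v - v = (ww : SF) • (hh t⁻¹ : SF) • v :=
    fun v hv t => key hirr hnt hv (hL hv).2 t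
  -- the map `φ`
  have hadd : ∀ x y : F, (uu (x + y) : SF) • b - b
      = ((uu x : SF) • b - b) + ((uu y : SF) • b - b) := by
    intro x y
    have h1 : (uu x : SF) • ((uu y : SF) • b - b) = (uu y : SF) • b - b := hbq.2 y x
    have h2 : (uu (x + y) : SF) • b = (uu x : SF) • b + ((uu y : SF) • b - b) := by
      rw [← uu_mul, mul_smul]
      have : (uu y : SF) • b = b + ((uu y : SF) • b - b) := by abel
      conv_lhs => rw [this, smul_add, h1]
    rw [h2]; abel
  let φ : F →+ M := AddMonoidHom.mk' (fun x => (uu x : SF) • b - b) hadd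
  have hφ : ∀ x : F, φ x = (uu x : SF) • b - b := fun x => rfl
  have hφU : ∀ x : F, φ x ∈ fixU F M := fun x => hbq.2 x
  have hφunit : ∀ t : Fˣ, φ (t : F) = (ww : SF) • (hh t⁻¹ : SF) • b := fun t => key' b hbq.1 t
  have hφinj : ∀ x : F, φ x = 0 → x = 0 := by
    intro x hx
    by_contra hx0
    have := hφunit (Units.mk0 x hx0)
    rw [Units.val_mk0, hx, eq_comm, smul_eq_zero_iff_eq, smul_eq_zero_iff_eq] at this
    exact hb0 this
  -- (A)
  have hA : ∀ x t : F, (uu x : SF) • ((ww : SF)⁻¹ • φ t) = (ww : SF)⁻¹ • φ t + φ (x * t) := by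
    intro x t
    by_cases ht : t = 0
    · subst ht; simp
    by_cases hx : x = 0
    · subst hx; simp [uu_zero]
    let a : Fˣ := Units.mk0 x hx
    let c : Fˣ := Units.mk0 t ht
    have h1 : (ww : SF)⁻¹ • φ t = (hh c⁻¹ : SF) • b := by
      have : φ t = (ww : SF) • (hh c⁻¹ : SF) • b := hφunit c
      rw [this, inv_smul_smul]
    have h2 : (hh c⁻¹ : SF) • b ∈ fixL F M := hh_smul_mem_fixL _ hbq.1
    have h3 := key' _ h2 a
    have h4 : φ (x * t) = (ww : SF) • (hh (a * c)⁻¹ : SF) • b := by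
      have := hφunit (a * c)
      rwa [Units.val_mul] at this
    rw [h1, h4]
    have h5 : (uu x : SF) • (hh c⁻¹ : SF) • b
        = (hh c⁻¹ : SF) • b + (ww : SF) • (hh a⁻¹ : SF) • (hh c⁻¹ : SF) • b := by
      have : (uu x : SF) • (hh c⁻¹ : SF) • b - (hh c⁻¹ : SF) • b
          = (ww : SF) • (hh a⁻¹ : SF) • (hh c⁻¹ : SF) • b := h3
      rw [← this]; abel
    rw [h5, ← mul_smul (hh a⁻¹ : SF), hh_mul, mul_inv]
  -- (B)
  have hB : ∀ s : F, (ww : SF) • φ s = (ww : SF)⁻¹ • φ (-s) := by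
    intro s
    by_cases hs : s = 0
    · subst hs; simp
    let a : Fˣ := Units.mk0 s hs
    have h1 : φ s = (ww : SF) • (hh a⁻¹ : SF) • b := hφunit a
    have h2 : φ (-s) = (ww : SF) • (hh (-a)⁻¹ : SF) • b := by
      have := hφunit (-a)
      rwa [Units.val_neg] at this
    rw [eq_inv_smul_iff, h2, h1, ← mul_smul (ww : SF) (ww : SF), ww_mul_ww, ← mul_smul (hh (-1) : SF),
      hh_mul_ww, mul_smul, ← mul_smul (hh (-1)⁻¹ : SF), hh_mul]
    congr 3
    rw [← mul_inv, neg_one_mul]
  -- the coordinate map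
  let Θ : (Fin 2 → F) →+ M :=
    AddMonoidHom.mk' (fun f => φ (f 0) + (ww : SF)⁻¹ • φ (f 1)) (by
      intro f g
      simp only [Pi.add_apply, map_add, smul_add]
      abel)
  have hΘ : ∀ f : Fin 2 → F, Θ f = φ (f 0) + (ww : SF)⁻¹ • φ (f 1) := fun f => rfl
  have hequ : ∀ (x : F) (f : Fin 2 → F), (uu x : SF) • Θ f = Θ (((uu x : SF) : MF).mulVec f) := by
    intro x f
    rw [uu_mulVec, hΘ, hΘ, smul_add, hA, hφU (f 0) x]
    simp only [Matrix.cons_val_zero, Matrix.cons_val_one, map_add]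
    abel
  have heqw : ∀ f : Fin 2 → F, (ww : SF) • Θ f = Θ (((ww : SF) : MF).mulVec f) := by
    intro f
    rw [ww_mulVec, hΘ, hΘ, smul_add, hB, smul_inv_smul]
    simp only [Matrix.cons_val_zero, Matrix.cons_val_one]
    abel
  have heq : ∀ (g : SF) (f : Fin 2 → F), g • Θ f = Θ (((g : SF) : MF).mulVec f) := by
    let H : Subgroup SF :=
      { carrier := {g | ∀ f : Fin 2 → F, g • Θ f = Θ (((g : SF) : MF).mulVec f)}
        one_mem' := fun f => by simp
        mul_mem' := fun {g h} hg hh f => by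
          rw [mul_smul, hh f, hg, Matrix.SpecialLinearGroup.coe_mul, Matrix.mulVec_mulVec]
        inv_mem' := fun {g} hg f => by
          have h1 : ((g : SF) : MF).mulVec (((g⁻¹ : SF) : MF).mulVec f) = f := by
            rw [Matrix.mulVec_mulVec, ← Matrix.SpecialLinearGroup.coe_mul, mul_inv_cancel]
            simp
          have h2 := hg (((g⁻¹ : SF) : MF).mulVec f)
          rw [h1] at h2
          rw [← h2, inv_smul_smul] }
    have hH : H = ⊤ := eq_top_of_uu_ww H (fun x f => hequ x f) (fun f => heqw f)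
    intro g f
    have : g ∈ H := by rw [hH]; trivial
    exact this f
  -- injective
  have hinj : Function.Injective Θ := by
    rw [injective_iff_map_eq_zero]
    intro f hf
    rw [hΘ] at hf
    have h1 : φ (f 0) ∈ fixL F M := by
      have : φ (f 0) = -((ww : SF)⁻¹ • φ (f 1)) := eq_neg_of_add_eq_zero_left hf
      rw [this]
      exact (fixL F M).neg_mem (ww_inv_smul_mem_fixL (hφU _))
    have h2 := eq_zero_of_mem_fixU_fixL hirr hnt (hφU _) h1
    rw [h2, zero_add, smul_eq_zero_iff_eq] at hf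
    have h3 := hφinj _ h2
    have h4 := hφinj _ hf
    ext i
    fin_cases i
    · exact h3
    · exact h4
  -- surjective
  have hsurj : Function.Surjective Θ := by
    rw [← AddMonoidHom.range_eq_top]
    rcases hirr Θ.range (by
      rintro g _ ⟨f, rfl⟩
      exact ⟨_, (heq g f).symm⟩) with h | h
    · exfalso
      have h1 : Θ ![1, 0] ∈ Θ.range := ⟨_, rfl⟩
      rw [h, AddSubgroup.mem_bot] at h1
      have h2 := hinj (h1.trans (map_zero Θ).symm)
      have := congrFun h2 0
      simp at this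
    · exact h
  let e : (Fin 2 → F) ≃+ M := AddEquiv.ofBijective Θ ⟨hinj, hsurj⟩
  refine ⟨e.symm, fun g m => ?_⟩
  rw [AddEquiv.symm_apply_eq]
  show g • m = Θ _
  rw [← heq]
  congr 1
  exact (e.apply_symm_apply m).symm

end Cfsg.Agent.Helper18.NatMod
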