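import Cfsg.Agent.Helper18.NatMod4

/-! Natural `SL₂(F)`-modules, part 5: the two sufficient conditions (quadratic action, or
`|M| ≤ |C_M(U)|²`). -/

set_option autoImplicit false

namespace Cfsg.Agent.Helper18.NatMod

variable {F : Type*} [Field F]

local notation "SF" => Matrix.SpecialLinearGroup (Fin 2) F
local notation "MF" => Matrix (Fin 2) (Fin 2) F

variable {M : Type*} [AddCommGroup M] [DistribMulAction (Matrix.SpecialLinearGroup (Fin 2) F) M]

/-- quadratic action gives a nonzero quadratic vector in `C_M(L)` -/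
theorem exists_quadL_of_quadratic (hM : ∃ m : M, m ≠ 0)
    (hq : ∀ (x : F) (m : M), (uu x : SF) • m - m ∈ fixU F M) :
    ∃ v ∈ quadL F M, v ≠ 0 := by
  obtain ⟨m, hm⟩ := hM
  have h1 : ∃ a ∈ fixU F M, a ≠ 0 := by
    by_cases h : ∀ x : F, (uu x : SF) • m = m
    · exact ⟨m, h, hm⟩
    · push Not at h
      obtain ⟨x, hx⟩ := h
      exact ⟨_, hq x m, sub_ne_zero.mpr hx⟩
  obtain ⟨a, ha, ha0⟩ := h1
  refine ⟨(ww : SF) • a, ⟨ww_smul_mem_fixL ha, fun x => hq x _⟩, ?_⟩
  rw [Ne, smul_eq_zero_iff_eq]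
  exact ha0

theorem ww_inv_smul_mem_fixU {m : M} (hm : m ∈ fixL F M) : (ww : SF)⁻¹ • m ∈ fixU F M := by
  rw [ww_inv_smul]
  exact ww_smul_mem_fixU (hh_smul_mem_fixL _ hm)

theorem card_fixL_eq : Nat.card (fixL F M) = Nat.card (fixU F M) := by
  apply Nat.card_congr
  exact
    { toFun := fun b => ⟨(ww : SF)⁻¹ • (b : M), ww_inv_smul_mem_fixU b.2⟩
      invFun := fun a => ⟨(ww : SF) • (a : M), ww_smul_mem_fixL a.2⟩
      left_inv := fun b => Subtype.ext (by simp)
      right_inv := fun a => Subtype.ext (by simp) }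

/-- the action of the additive group of `F` (through `uu`) on `M ⧸ C_M(U)` -/
@[reducible] noncomputable def quotAct (F : Type*) [Field F] (M : Type*) [AddCommGroup M]
    [DistribMulAction (Matrix.SpecialLinearGroup (Fin 2) F) M] :
    MulAction (Multiplicative F) (M ⧸ fixU F M) where
  smul x := Quotient.map' (fun m => (uu (Multiplicative.toAdd x) : Matrix.SpecialLinearGroup (Fin 2) F) • m)
    (fun a b h => by
      rw [QuotientAddGroup.leftRel_apply] at h ⊢
      have h1 : -((uu (Multiplicative.toAdd x) : Matrix.SpecialLinearGroup (Fin 2) F) • a)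
          + (uu (Multiplicative.toAdd x) : Matrix.SpecialLinearGroup (Fin 2) F) • b
          = (uu (Multiplicative.toAdd x) : Matrix.SpecialLinearGroup (Fin 2) F) • (-a + b) := by
        rw [smul_add, smul_neg]
      rw [h1]
      intro y
      rw [← mul_smul, uu_mul, add_comm, ← uu_mul, mul_smul, h y])
  one_smul q := Quotient.inductionOn' q fun a => congr_arg Quotient.mk'' (by
    show (uu (Multiplicative.toAdd (1 : Multiplicative F)) : Matrix.SpecialLinearGroup (Fin 2) F) • a = a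
    rw [toAdd_one, uu_zero, one_smul])
  mul_smul x y q := Quotient.inductionOn' q fun a => congr_arg Quotient.mk'' (by
    show (uu (Multiplicative.toAdd (x * y)) : Matrix.SpecialLinearGroup (Fin 2) F) • a
      = (uu (Multiplicative.toAdd x) : Matrix.SpecialLinearGroup (Fin 2) F)
        • (uu (Multiplicative.toAdd y) : Matrix.SpecialLinearGroup (Fin 2) F) • a
    rw [toAdd_mul, ← uu_mul, mul_smul])

theorem quotAct_smul_mk (x : Multiplicative F) (m : M) :
    (letI := quotAct F M; x • (QuotientAddGroup.mk m : M ⧸ fixU F M))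
      = QuotientAddGroup.mk ((uu (Multiplicative.toAdd x) : SF) • m) := rfl

/-- `|M| ≤ |C_M(U)|²` gives a nonzero quadratic vector in `C_M(L)` -/
theorem exists_quadL_of_card [Finite M] (p : ℕ) [Fact p.Prime] [CharP F p]
    (hirr : ∀ N : AddSubgroup M, (∀ g : SF, ∀ m ∈ N, g • m ∈ N) → N = ⊥ ∨ N = ⊤)
    (hnt : ∃ (g : SF) (m : M), g • m ≠ m)
    (hcard : ∃ k : ℕ, Nat.card M = p ^ k)
    (hle : Nat.card M ≤ Nat.card (fixU F M) ^ 2) :
    ∃ v ∈ quadL F M, v ≠ 0 := by
  have hp : p.Prime := Fact.out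
  -- decomposition
  have hdec : ∀ m : M, ∃ a ∈ fixU F M, ∃ c ∈ fixL F M, m = a + c := by
    let f : (fixU F M) × (fixL F M) → M := fun ac => (ac.1 : M) + (ac.2 : M)
    have hinj : Function.Injective f := by
      rintro ⟨a, c⟩ ⟨a', c'⟩ h
      have h' : (a : M) + (c : M) = (a' : M) + (c' : M) := h
      have h1 : (a : M) - (a' : M) = (c' : M) - (c : M) := by
        rw [sub_eq_sub_iff_add_eq_add, h', add_comm]
      have h2 : (a : M) - (a' : M) ∈ fixU F M := (fixU F M).sub_mem a.2 a'.2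
      have h3 : (a : M) - (a' : M) ∈ fixL F M := by rw [h1]; exact (fixL F M).sub_mem c'.2 c.2
      have h4 := eq_zero_of_mem_fixU_fixL hirr hnt h2 h3
      have h5 : (c' : M) - (c : M) = 0 := by rw [← h1, h4]
      rw [sub_eq_zero] at h4 h5
      exact Prod.ext (Subtype.ext h4) (Subtype.ext h5.symm)
    have hc : Nat.card M ≤ Nat.card ((fixU F M) × (fixL F M)) := by
      rw [Nat.card_prod, card_fixL_eq, ← sq]
      exact hle
    have hbij := hinj.bijective_of_nat_card_le hc
    intro m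
    obtain ⟨⟨a, c⟩, hac⟩ := hbij.2 m
    exact ⟨a, a.2, c, c.2, hac.symm⟩
  -- fixU is proper
  have hne : fixU F M ≠ ⊤ := by
    intro h
    obtain ⟨g, m, hgm⟩ := id hnt
    have h1 : m ∈ fixU F M := by rw [h]; trivial
    have h2 : m ∈ fixL F M := by
      have h3 : (ww : SF) • ((ww : SF)⁻¹ • m) ∈ fixL F M :=
        ww_smul_mem_fixL (by rw [h]; trivial)
      rwa [smul_inv_smul] at h3
    have h3 := eq_zero_of_mem_fixU_fixL hirr hnt h1 h2
    rw [h3, smul_zero] at hgm
    exact hgm rfl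
  -- p-group action on the quotient
  let _ := quotAct F M
  have hPG : IsPGroup p (Multiplicative F) := by
    intro x
    refine ⟨1, ?_⟩
    rw [pow_one]
    apply Multiplicative.toAdd.injective
    rw [toAdd_pow, toAdd_one, nsmul_eq_mul, CharP.cast_eq_zero, zero_mul]
  have hdvd : p ∣ Nat.card (M ⧸ fixU F M) := by
    obtain ⟨k, hk⟩ := hcard
    have h1 : Nat.card (M ⧸ fixU F M) ∣ p ^ k := by
      rw [← hk, AddSubgroup.card_eq_card_quotient_mul_card_addSubgroup (fixU F M)]
      exact dvd_mul_right _ _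
    obtain ⟨j, -, hj⟩ := (Nat.dvd_prime_pow hp).mp h1
    rw [hj]
    apply dvd_pow_self
    rintro rfl
    rw [pow_zero] at hj
    apply hne
    have : (fixU F M).index = 1 := hj
    exact AddSubgroup.index_eq_one.mp this
  have h0 : ((0 : M ⧸ fixU F M)) ∈ MulAction.fixedPoints (Multiplicative F) (M ⧸ fixU F M) := by
    intro x
    have : (0 : M ⧸ fixU F M) = QuotientAddGroup.mk (0 : M) := rfl
    rw [this, quotAct_smul_mk, smul_zero]
  obtain ⟨q, hq, hq0⟩ := hPG.exists_fixed_point_of_prime_dvd_card_of_fixed_point (M ⧸ fixU F M) hdvd h0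
  obtain ⟨m, rfl⟩ := QuotientAddGroup.mk_surjective q
  have hm1 : m ∉ fixU F M := by
    intro hm
    apply hq0
    exact ((QuotientAddGroup.eq_zero_iff m).mpr hm).symm
  have hm2 : ∀ x : F, (uu x : SF) • m - m ∈ fixU F M := by
    intro x
    have h1 := hq (Multiplicative.ofAdd x)
    rw [quotAct_smul_mk, toAdd_ofAdd, QuotientAddGroup.eq] at h1
    have h2 : (uu x : SF) • m - m = -(-((uu x : SF) • m) + m) := by abel
    rw [h2]
    exact (fixU F M).neg_mem h1
  obtain ⟨a, ha, c, hc, rfl⟩ := hdec m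
  refine ⟨c, ⟨hc, fun x => ?_⟩, ?_⟩
  · have h1 : (uu x : SF) • c - c = (uu x : SF) • (a + c) - (a + c) := by
      rw [smul_add, ha x]; abel
    rw [h1]
    exact hm2 x
  · rintro rfl
    rw [add_zero] at hm1
    exact hm1 ha

/-- the main abstract theorem -/
theorem natural_of_quadratic_or_card [Finite M] (p : ℕ) [Fact p.Prime] [CharP F p]
    (hirr : ∀ N : AddSubgroup M, (∀ g : SF, ∀ m ∈ N, g • m ∈ N) → N = ⊥ ∨ N = ⊤)
    (hnt : ∃ (g : SF) (m : M), g • m ≠ m)
    (hcard : ∃ k : ℕ, Nat.card M = p ^ k)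
    (hyp : (∀ (x : F) (m : M), (uu x : SF) • m - m ∈ fixU F M) ∨
      Nat.card M ≤ Nat.card (fixU F M) ^ 2) :
    ∃ ψ : M ≃+ (Fin 2 → F), ∀ (g : SF) (m : M), ψ (g • m) = ((g : SF) : MF).mulVec (ψ m) := by
  apply exists_natural hirr hnt
  rcases hyp with h | h
  · apply exists_quadL_of_quadratic _ h
    obtain ⟨g, m, hgm⟩ := hnt
    refine ⟨m, ?_⟩
    rintro rfl
    rw [smul_zero] at hgm
    exact hgm rfl
  · exact exists_quadL_of_card p hirr hnt hcard h

end Cfsg.Agent.Helper18.NatMod
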