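import Cfsg.Agent.Helper18.NatMod5
import Cfsg.Agent.Helper14.SL2Nat
import Cfsg.Prelude.Def_BaumannBlocks

/-! Natural `SL₂(F)`-modules, part 6: the bridge to subgroups of an ambient group. -/

set_option autoImplicit false

namespace Cfsg.Agent.Helper18.NatMod

open scoped IsMulCommutative

section bridge

variable {X : Type*} [Group X] {Γ : Type*} [Group Γ]

/-- the conjugation module -/
@[reducible] noncomputable def conjMod (V : Subgroup X) (φ : Γ →* X)
    (hφ : ∀ g, φ g ∈ Subgroup.normalizer (V : Set X)) : DistribMulAction Γ (Additive ↥V) where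
  smul g a := Additive.ofMul ⟨φ g * ((Additive.toMul a : ↥V) : X) * (φ g)⁻¹,
      (Subgroup.mem_normalizer_iff.mp (hφ g) _).mp (Additive.toMul a).2⟩
  one_smul a := by
    apply Additive.toMul.injective
    apply Subtype.ext
    show φ 1 * ((Additive.toMul a : ↥V) : X) * (φ 1)⁻¹ = _
    simp
  mul_smul g h a := by
    apply Additive.toMul.injective
    apply Subtype.ext
    show φ (g * h) * ((Additive.toMul a : ↥V) : X) * (φ (g * h))⁻¹
      = φ g * (φ h * ((Additive.toMul a : ↥V) : X) * (φ h)⁻¹) * (φ g)⁻¹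
    simp [mul_assoc]
  smul_zero g := by
    apply Additive.toMul.injective
    apply Subtype.ext
    show φ g * ((1 : ↥V) : X) * (φ g)⁻¹ = ((1 : ↥V) : X)
    simp
  smul_add g a b := by
    apply Additive.toMul.injective
    apply Subtype.ext
    show φ g * (((Additive.toMul a * Additive.toMul b : ↥V)) : X) * (φ g)⁻¹
      = (φ g * ((Additive.toMul a : ↥V) : X) * (φ g)⁻¹)
        * (φ g * ((Additive.toMul b : ↥V) : X) * (φ g)⁻¹)
    simp [mul_assoc]

theorem conjMod_smul_coe (V : Subgroup X) (φ : Γ →* X)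
    (hφ : ∀ g, φ g ∈ Subgroup.normalizer (V : Set X)) (g : Γ) (a : Additive ↥V) :
    ((Additive.toMul (letI := conjMod V φ hφ; g • a) : ↥V) : X)
      = φ g * ((Additive.toMul a : ↥V) : X) * (φ g)⁻¹ := rfl

end bridge

section sylow

variable {F : Type*} [Field F] [Fintype F] {p : ℕ} [Fact p.Prime] [CharP F p]

local notation "SF" => Matrix.SpecialLinearGroup (Fin 2) F
local notation "MF" => Matrix (Fin 2) (Fin 2) F

/-- the upper unitriangular group as a homomorphism -/
def uuHom (F : Type*) [Field F] : Multiplicative F →* Matrix.SpecialLinearGroup (Fin 2) F where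
  toFun x := uu (Multiplicative.toAdd x)
  map_one' := uu_zero
  map_mul' x y := by rw [toAdd_mul, uu_mul]

theorem isPGroup_range_uuHom : IsPGroup p (uuHom F).range := by
  rintro ⟨g, ⟨x, rfl⟩⟩
  refine ⟨1, ?_⟩
  apply Subtype.ext
  rw [pow_one, Subgroup.coe_pow, Subgroup.coe_one, ← map_pow]
  have : x ^ p = 1 := by
    apply Multiplicative.toAdd.injective
    rw [toAdd_pow, toAdd_one, nsmul_eq_mul, CharP.cast_eq_zero, zero_mul]
  rw [this, map_one]

/-- a `p`-subgroup of `SL₂(F)` is conjugate into the upper unitriangular group -/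
theorem exists_conj_uu (P : Subgroup SF) (hP : IsPGroup p ↥P) :
    ∃ g0 : SF, ∀ s ∈ P, ∃ x : F, g0⁻¹ * s * g0 = uu x := by
  obtain ⟨v, hv0, hvfix⟩ := Cfsg.Agent.Helper14.exists_fixed_vector P hP
  obtain ⟨g0, hg0⟩ := Cfsg.Agent.Helper14.exists_sl2_smul_e0 v hv0
  refine ⟨g0, fun s hs => ?_⟩
  have h1 : (g0⁻¹ * s * g0) • (![1, 0] : Fin 2 → F) = ![1, 0] := by
    rw [mul_smul, mul_smul, hg0, hvfix s hs, ← hg0, inv_smul_smul]
  exact ⟨_, eq_uu_of_fix _ h1⟩

end sylow

end Cfsg.Agent.Helper18.NatMod
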