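import Cfsg.Agent.Helper18.NatMod6

/-! Natural `SL₂(F)`-modules, part 7: the main theorem in subgroup form (`S3009`). -/

set_option autoImplicit false

namespace Cfsg.Agent.Helper18.NatMod

open scoped IsMulCommutative
open scoped commutatorElement

set_option maxHeartbeats 800000 in
theorem natural_main {X : Type*} [Group X] [Finite X] {p : ℕ} [Fact p.Prime] (G V : Subgroup X)
    (hV : Cfsg.IsElementaryAbelian p V) (hGV : G ≤ Subgroup.normalizer (V : Set X))
    (F : Type) [Field F] [Fintype F] (n : ℕ) (hF : Fintype.card F = p ^ n)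
    (hG : Nonempty (↥G ≃* Matrix.SpecialLinearGroup (Fin 2) F))
    (hirr : ∀ U : Subgroup X, U ≤ V → G ≤ Subgroup.normalizer (U : Set X) → U = ⊥ ∨ U = V)
    (hnt : ⁅V, G⁆ ≠ ⊥) (S : Sylow p ↥G)
    (hyp : ⁅⁅V, (S : Subgroup ↥G).map G.subtype⁆, (S : Subgroup ↥G).map G.subtype⁆ = ⊥ ∨
      Nat.card ↥V ≤ Nat.card ↥(V ⊓ Subgroup.centralizer
        (((S : Subgroup ↥G).map G.subtype : Subgroup X) : Set X)) ^ 2) :
    Cfsg.ActsAsSL2OnSection F ⊤ G V ⊥ := by
  classical
  haveI : CharP F p := charP_of_card_eq_prime_pow hF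
  obtain ⟨e⟩ := hG
  -- conjugate the Sylow subgroup into the upper unitriangular group
  obtain ⟨g0, hg0⟩ := exists_conj_uu ((S : Subgroup ↥G).map e.toMonoidHom) (S.isPGroup'.map _)
  let e' : ↥G ≃* Matrix.SpecialLinearGroup (Fin 2) F := e.trans (MulAut.conj g0⁻¹)
  have he' : ∀ x : ↥G, e' x = g0⁻¹ * e x * g0 := fun x => by
    simp [e', MulAut.conj_apply]
  have hS1 : ∀ s ∈ S, ∃ x : F, e' s = uu x := by
    intro s hs
    rw [he']
    exact hg0 (e s) ⟨s, hs, rfl⟩
  have hS2 : ∀ x : F, e'.symm (uu x) ∈ S := by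
    have hQ : IsPGroup p ((uuHom F).range.comap e'.toMonoidHom) :=
      (isPGroup_range_uuHom (F := F) (p := p)).comap_of_injective _ e'.injective
    have hle : (S : Subgroup ↥G) ≤ (uuHom F).range.comap e'.toMonoidHom := by
      intro s hs
      obtain ⟨x, hx⟩ := hS1 s hs
      exact ⟨Multiplicative.ofAdd x, hx.symm⟩
    have heq := S.is_maximal' hQ hle
    intro x
    have : e'.symm (uu x) ∈ (uuHom F).range.comap e'.toMonoidHom := by
      show e' (e'.symm (uu x)) ∈ (uuHom F).range
      rw [MulEquiv.apply_symm_apply]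
      exact ⟨Multiplicative.ofAdd x, rfl⟩
    rw [heq] at this
    exact this
  -- the module
  let φ : Matrix.SpecialLinearGroup (Fin 2) F →* X := G.subtype.comp e'.symm.toMonoidHom
  have hφ : ∀ g, φ g ∈ Subgroup.normalizer (V : Set X) := fun g => hGV (e'.symm g).2
  have hφe : ∀ x : ↥G, φ (e' x) = (x : X) := fun x => by simp [φ]
  haveI : IsMulCommutative ↥V := hV.1
  letI : DistribMulAction (Matrix.SpecialLinearGroup (Fin 2) F) (Additive ↥V) := conjMod V φ hφ
  have hsm : ∀ (g : Matrix.SpecialLinearGroup (Fin 2) F) (a : Additive ↥V),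
      ((Additive.toMul (g • a) : ↥V) : X) = φ g * ((Additive.toMul a : ↥V) : X) * (φ g)⁻¹ :=
    fun g a => rfl
  have hsub : ∀ a b : Additive ↥V, ((Additive.toMul (a - b) : ↥V) : X)
      = ((Additive.toMul a : ↥V) : X) * ((Additive.toMul b : ↥V) : X)⁻¹ := by
    intro a b
    rw [toMul_sub, Subgroup.coe_div, div_eq_mul_inv]
  set S' : Subgroup X := (S : Subgroup ↥G).map G.subtype with hS'
  have hS'1 : ∀ x : F, φ (uu x) ∈ S' := fun x => ⟨e'.symm (uu x), hS2 x, rfl⟩
  have hS'2 : ∀ s ∈ S', ∃ x : F, s = φ (uu x) := by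
    rintro _ ⟨s0, hs0, rfl⟩
    obtain ⟨x, hx⟩ := hS1 s0 hs0
    refine ⟨x, ?_⟩
    rw [← hx, hφe]
    rfl
  have hfixU : ∀ a : Additive ↥V, a ∈ fixU F (Additive ↥V) ↔
      ((Additive.toMul a : ↥V) : X) ∈ Subgroup.centralizer (S' : Set X) := by
    intro a
    constructor
    · intro h
      rw [Subgroup.mem_centralizer_iff]
      intro s hs
      obtain ⟨x, rfl⟩ := hS'2 s hs
      have h1 := congrArg (fun b : Additive ↥V => ((Additive.toMul b : ↥V) : X)) (h x)
      simp only [hsm] at h1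
      exact mul_inv_eq_iff_eq_mul.mp h1
    · intro h x
      apply Additive.toMul.injective
      apply Subtype.ext
      rw [hsm, (Subgroup.mem_centralizer_iff.mp h) _ (hS'1 x), mul_inv_cancel_right]
  -- irreducibility
  have hirr' : ∀ N : AddSubgroup (Additive ↥V),
      (∀ g : Matrix.SpecialLinearGroup (Fin 2) F, ∀ m ∈ N, g • m ∈ N) → N = ⊥ ∨ N = ⊤ := by
    intro N hN
    let U : Subgroup X :=
      { carrier := {x | ∃ h : x ∈ V, Additive.ofMul (⟨x, h⟩ : ↥V) ∈ N}
        one_mem' := ⟨V.one_mem, N.zero_mem⟩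
        mul_mem' := by
          rintro a b ⟨ha, ha'⟩ ⟨hb, hb'⟩
          exact ⟨V.mul_mem ha hb, N.add_mem ha' hb'⟩
        inv_mem' := by
          rintro a ⟨ha, ha'⟩
          exact ⟨V.inv_mem ha, N.neg_mem ha'⟩ }
    have hUV : U ≤ V := fun x hx => hx.1
    have hconj : ∀ g ∈ G, ∀ x ∈ U, g * x * g⁻¹ ∈ U := by
      rintro g hg x ⟨hxV, hxN⟩
      have h1 := hN (e' ⟨g, hg⟩) _ hxN
      have h2 : ((Additive.toMul ((e' ⟨g, hg⟩) • (Additive.ofMul (⟨x, hxV⟩ : ↥V))) : ↥V) : X)
          = g * x * g⁻¹ := by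
        rw [hsm, hφe]
        rfl
      refine ⟨h2 ▸ (Additive.toMul ((e' ⟨g, hg⟩) • (Additive.ofMul (⟨x, hxV⟩ : ↥V))) : ↥V).2, ?_⟩
      convert h1 using 2
      exact Subtype.ext h2.symm
    have hGU : G ≤ Subgroup.normalizer (U : Set X) := by
      intro g hg
      rw [Subgroup.mem_normalizer_iff]
      intro x
      constructor
      · exact hconj g hg x
      · intro hx
        have := hconj g⁻¹ (G.inv_mem hg) _ hx
        simpa [mul_assoc] using this
    rcases hirr U hUV hGU with h | h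
    · left
      rw [eq_bot_iff]
      intro a ha
      have h1 : ((Additive.toMul a : ↥V) : X) ∈ U := ⟨(Additive.toMul a : ↥V).2, ha⟩
      rw [h, Subgroup.mem_bot] at h1
      rw [AddSubgroup.mem_bot]
      apply Additive.toMul.injective
      exact Subtype.ext h1
    · right
      rw [eq_top_iff]
      intro a _
      have h1 : ((Additive.toMul a : ↥V) : X) ∈ U := by
        rw [h]; exact (Additive.toMul a : ↥V).2
      obtain ⟨_, h2⟩ := h1
      exact h2
  -- nontrivial action
  have hnt' : ∃ (g : Matrix.SpecialLinearGroup (Fin 2) F) (m : Additive ↥V), g • m ≠ m := by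
    by_contra hcon
    push Not at hcon
    apply hnt
    rw [Subgroup.commutator_eq_bot_iff_le_centralizer]
    intro v hv
    rw [Subgroup.mem_centralizer_iff]
    intro g hg
    have h1 := congrArg (fun b : Additive ↥V => ((Additive.toMul b : ↥V) : X))
      (hcon (e' ⟨g, hg⟩) (Additive.ofMul (⟨v, hv⟩ : ↥V)))
    simp only [hsm, hφe] at h1
    exact mul_inv_eq_iff_eq_mul.mp h1
  -- cardinality
  have hcard' : ∃ k : ℕ, Nat.card (Additive ↥V) = p ^ k := by
    have hVp : IsPGroup p ↥V := by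
      intro v
      refine ⟨1, ?_⟩
      apply Subtype.ext
      rw [pow_one, Subgroup.coe_pow, Subgroup.coe_one]
      exact hV.2 _ v.2
    obtain ⟨k, hk⟩ := hVp.exists_card_eq
    exact ⟨k, hk⟩
  -- the hypothesis
  have hyp' : (∀ (x : F) (m : Additive ↥V),
        (uu x : Matrix.SpecialLinearGroup (Fin 2) F) • m - m ∈ fixU F (Additive ↥V)) ∨
      Nat.card (Additive ↥V) ≤ Nat.card (fixU F (Additive ↥V)) ^ 2 := by
    rcases hyp with h | h
    · left
      intro x m
      rw [hfixU, Subgroup.mem_centralizer_iff]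
      intro t ht
      rw [hsub, hsm]
      have hc : ⁅((Additive.toMul m : ↥V) : X), φ (uu x)⁆ ∈ ⁅V, S'⁆ :=
        Subgroup.commutator_mem_commutator (Additive.toMul m : ↥V).2 (hS'1 x)
      have hcc : ⁅⁅((Additive.toMul m : ↥V) : X), φ (uu x)⁆, t⁆ ∈ ⁅⁅V, S'⁆, S'⁆ :=
        Subgroup.commutator_mem_commutator hc ht
      rw [h, Subgroup.mem_bot, commutatorElement_eq_one_iff_commute] at hcc
      have h1 : φ (uu x) * ((Additive.toMul m : ↥V) : X) * (φ (uu x))⁻¹
          * ((Additive.toMul m : ↥V) : X)⁻¹ = ⁅((Additive.toMul m : ↥V) : X), φ (uu x)⁆⁻¹ := by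
        rw [commutatorElement_inv, commutatorElement_def]
      rw [h1]
      exact (hcc.inv_left).symm.eq
    · right
      have h1 : Nat.card (fixU F (Additive ↥V))
          = Nat.card ↥(V ⊓ Subgroup.centralizer (S' : Set X)) := by
        apply Nat.card_congr
        exact
          { toFun := fun a => ⟨((Additive.toMul (a : Additive ↥V) : ↥V) : X),
              ⟨(Additive.toMul (a : Additive ↥V) : ↥V).2, (hfixU a.1).mp a.2⟩⟩
            invFun := fun x => ⟨Additive.ofMul (⟨x.1, x.2.1⟩ : ↥V), (hfixU _).mpr x.2.2⟩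
            left_inv := fun a => rfl
            right_inv := fun x => rfl }
      rw [h1]
      exact h
  obtain ⟨ψ, hψ⟩ := natural_of_quadratic_or_card p hirr' hnt' hcard' hyp'
  -- conclusion
  let ψ' : ↥V →* Multiplicative (Fin 2 → F) :=
    { toFun := fun u => Multiplicative.ofAdd (ψ (Additive.ofMul u))
      map_one' := by
        show Multiplicative.ofAdd (ψ 0) = 1
        rw [map_zero]; rfl
      map_mul' := fun a b => by
        show Multiplicative.ofAdd (ψ (Additive.ofMul a + Additive.ofMul b)) = _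
        rw [map_add]; rfl }
  refine ⟨hGV, bot_le, e'.toMonoidHom, ψ', MonoidHom.range_eq_top.mpr e'.surjective, ?_, ?_, ?_⟩
  · intro y
    refine ⟨Additive.toMul (ψ.symm (Multiplicative.toAdd y)), ?_⟩
    show Multiplicative.ofAdd (ψ (ψ.symm (Multiplicative.toAdd y))) = y
    rw [AddEquiv.apply_symm_apply]; rfl
  · intro u
    rw [Subgroup.mem_bot]
    constructor
    · intro h
      have h1 : ψ (Additive.ofMul u) = 0 := h
      have h2 : Additive.ofMul u = 0 := (AddEquiv.map_eq_zero_iff ψ).mp h1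
      have h3 : u = 1 := h2
      rw [h3]; rfl
    · intro h
      have h3 : u = 1 := Subtype.ext h
      rw [h3, map_one]
  · intro g u
    refine ⟨Additive.toMul ((e' g) • (Additive.ofMul u)), ?_, ?_⟩
    · rw [hsm, hφe]; rfl
    · exact hψ (e' g) (Additive.ofMul u)

end Cfsg.Agent.Helper18.NatMod
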