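import Cfsg.Agent.Helper28.OC2KC2R28
import Cfsg.Agent.Helper27.OC2KQ2GEO
import Cfsg.Agent.Helper17.OC2KC2Defs

set_option autoImplicit false
set_option linter.unusedSectionVars false
set_option linter.unusedVariables false

/-! # `C2R28.NS3` for blocks of dimension `4` without totally singular 2-spaces (`C2.Witt1`),
from helper27's `Q2.GEO.codim2` -/

namespace Cfsg.Agent.OC2K

open Matrix Cfsg.Agent.Helper28.Sg Cfsg.Agent.Helper28.Spin Cfsg.Agent.Helper12.OrthGen
  Cfsg.Agent.S2614 Cfsg.Agent.S5683P Cfsg.Agent.Helper28.NDM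

variable {F : Type*} [Field F] {t k : ℕ} {ι : Type} [Fintype ι] [DecidableEq ι]
  {Q : QuadraticForm F (ι → F)} [QHyp Q] {D : Fin t → Submodule F (ι → F)}
  {M : Subgroup (OGq Q)}

/-- Witt index `≤ 1`: a totally singular subspace of a block has dimension `≤ 1` -/
theorem C2R28.hts_of_w1 (hk4 : k = 4) (hW : C2.Witt1 Q D) :
    ∀ (c : Fin t) (W : Submodule F (ι → F)), W ≤ D c → (∀ x ∈ W, Q x = 0) →
      Module.finrank F W + 3 ≤ k := by
  intro c W hWc hsing
  have h1 : Module.finrank F W ≤ 1 := by
    by_cases hbot : W = ⊥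
    · rw [hbot]; simp
    · obtain ⟨x, hxW, hx0⟩ := Submodule.exists_mem_ne_zero_of_ne_bot hbot
      have hle : W ≤ Submodule.span F ({x} : Set (ι → F)) := by
        intro x' hx'
        have hB : B Q x x' = 0 := by
          show QuadraticMap.polar (⇑Q) x x' = 0
          unfold QuadraticMap.polar
          rw [hsing _ (W.add_mem hxW hx'), hsing x hxW, hsing x' hx']
          simp
        obtain ⟨s, hs⟩ := hW c x (hWc hxW) x' (hWc hx') (hsing x hxW) (hsing x' hx') hB hx0
        rw [hs]
        exact Submodule.smul_mem _ _ (Submodule.subset_span rfl)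
      have h2 := finrank_span_le_card (R := F) ({x} : Set (ι → F))
      have h3 : Module.finrank F (Submodule.span F ({x} : Set (ι → F))) ≤ 1 := by simpa using h2
      exact (Submodule.finrank_mono hle).trans h3
  omega

/-- two perpendicularity conditions leave a nonsingular vector in a block of dimension `4` and
Witt index `≤ 1` -/
theorem C2R28.ns3_of_w1 (hD : HD Q k D) (hk4 : k = 4) (hW : C2.Witt1 Q D) : C2R28.NS3 Q D :=
  fun c p p' => Q2.GEO.codim2 hD (C2R28.hts_of_w1 hk4 hW) c p p'

end Cfsg.Agent.OC2K
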