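import Cfsg.Agent.Helper3.OC2Q2.Defs

set_option autoImplicit false
set_option linter.unusedSectionVars false
set_option linter.unusedVariables false

namespace Cfsg.Agent.OC2K

open Matrix Cfsg.Agent.Helper28.Sg Cfsg.Agent.Helper28.Spin Cfsg.Agent.Helper12.OrthGen
  Cfsg.Agent.S2614 Cfsg.Agent.S5683P Cfsg.Agent.Helper28.NDM

variable {F : Type*} [Field F] {t k : ℕ} {ι : Type} [Fintype ι] [DecidableEq ι] {Q : QuadraticForm F (ι → F)} [QHyp Q] {D : Fin t → Submodule F (ι → F)}
  {M : Subgroup (OGq Q)}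

/-! ## DPERP (S): double perpendicular in a block, for ANY vector `a ≠ 0` (no singularity needed). -/
theorem Q2.DPERP.main (hD : HD Q k D) {c : Fin t} {a x : ι → F} (ha : a ∈ D c) (ha0 : a ≠ 0)
    (hx : x ∈ D c) (h : ∀ w ∈ D c, B Q a w = 0 → B Q w x = 0) : ∃ s : F, x = s • a := by
  obtain ⟨y, hy, hay⟩ := hD.nd c a ha ha0
  have hf : (B Q a y)⁻¹ • y ∈ D c := (D c).smul_mem _ hy
  have haf : B Q a ((B Q a y)⁻¹ • y) = 1 := by
    show QuadraticMap.polar (⇑Q) a ((B Q a y)⁻¹ • y) = 1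
    rw [QuadraticMap.polar_smul_right, smul_eq_mul]
    exact inv_mul_cancel₀ hay
  set f := (B Q a y)⁻¹ • y with hfdef
  refine ⟨B Q f x, ?_⟩
  have hmem : x - B Q f x • a ∈ D c := (D c).sub_mem hx ((D c).smul_mem _ ha)
  by_contra hne
  have hne' : x - B Q f x • a ≠ 0 := fun h0 => hne (sub_eq_zero.mp h0)
  obtain ⟨w, hw, hwne⟩ := hD.nd c _ hmem hne'
  apply hwne
  -- `w' := w - B a w • f`
  have hw' : w - B Q a w • f ∈ D c := (D c).sub_mem hw ((D c).smul_mem _ hf)
  have haw' : B Q a (w - B Q a w • f) = 0 := by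
    show QuadraticMap.polar (⇑Q) a (w - B Q a w • f) = 0
    rw [QuadraticMap.polar_sub_right, QuadraticMap.polar_smul_right, smul_eq_mul]
    simp only [B] at haf
    rw [haf, mul_one]
    simp [B]
  have h1 := h _ hw' haw'
  have h2 : B Q w x = B Q a w * B Q f x := by
    have : B Q (w - B Q a w • f) x = B Q w x - B Q a w * B Q f x := by
      show QuadraticMap.polar (⇑Q) (w - B Q a w • f) x = _
      rw [QuadraticMap.polar_sub_left, QuadraticMap.polar_smul_left, smul_eq_mul]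
    rw [this] at h1
    exact sub_eq_zero.mp h1
  show QuadraticMap.polar (⇑Q) (x - B Q f x • a) w = 0
  rw [QuadraticMap.polar_sub_left, QuadraticMap.polar_smul_left, smul_eq_mul,
    QuadraticMap.polar_comm (⇑Q) x w]
  simp only [B] at h2
  rw [h2]
  simp only [B]
  ring

end Cfsg.Agent.OC2K
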