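import Cfsg.Agent.Helper3.OC2Q2.Defs

set_option autoImplicit false
set_option linter.unusedSectionVars false
set_option linter.unusedVariables false

namespace Cfsg.Agent.OC2K

open Matrix Cfsg.Agent.Helper28.Sg Cfsg.Agent.Helper28.Spin Cfsg.Agent.Helper12.OrthGen
  Cfsg.Agent.S2614 Cfsg.Agent.S5683P Cfsg.Agent.Helper28.NDM

variable {F : Type*} [Field F] {t k : ℕ} {ι : Type} [Fintype ι] [DecidableEq ι] {Q : QuadraticForm F (ι → F)} [QHyp Q] {D : Fin t → Submodule F (ι → F)}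
  {M : Subgroup (OGq Q)}

/-- Siegel elements with equal parameters are equal -/
theorem Q2.R2.aux_congr {u w w' : ι → F} (hu : Q u = 0) (huw : B Q u w = 0) (huw' : B Q u w' = 0)
    (h : w = w') : siegO Q u w hu huw = siegO Q u w' hu huw' := by
  subst h; rfl

/-! ## R2 (S): `E(u,w) = r_w r_{w + Q(w) u}` -/
theorem Q2.R2.main {u w : ι → F} (hu : Q u = 0) (huw : B Q u w = 0) (hw : Q w ≠ 0)
    (hw' : Q (w + Q w • u) ≠ 0) :
    reflO Q w hw * reflO Q (w + Q w • u) hw' = siegO Q u w hu huw := by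
  have e : (Q w * (Q w)⁻¹) • w = w := by rw [mul_inv_cancel₀ hw, one_smul]
  have h' : B Q u ((Q w * (Q w)⁻¹) • w) = 0 := by rw [e]; exact huw
  rw [reflO_mul_reflO Q (Q w) hu huw hw hw' h']
  exact Q2.R2.aux_congr hu h' huw e

end Cfsg.Agent.OC2K
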