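import Cfsg.Agent.Helper3.OC2Q2.Defs

set_option autoImplicit false
set_option linter.unusedSectionVars false
set_option linter.unusedVariables false

namespace Cfsg.Agent.OC2K

open Matrix Cfsg.Agent.Helper28.Sg Cfsg.Agent.Helper28.Spin Cfsg.Agent.Helper12.OrthGen
  Cfsg.Agent.S2614 Cfsg.Agent.S5683P Cfsg.Agent.Helper28.NDM

variable {F : Type*} [Field F] {t k : ℕ} {ι : Type} [Fintype ι] [DecidableEq ι] {Q : QuadraticForm F (ι → F)} [QHyp Q] {D : Fin t → Submodule F (ι → F)}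
  {M : Subgroup (OGq Q)}

/-! ## R3 (S-M): two reflections in orthogonal pure vectors of different blocks, both `⊥ v`. -/
theorem Q2.R3.main [Fintype F] (hD : HD Q k D) (hHM : HS D ≤ M) {v : ι → F} (hQv : Q v = 0)
    {b b' : Fin t} (hbb' : b ≠ b') {p p' : ι → F} (hp : p ∈ D b) (hp' : p' ∈ D b') (hQp : Q p ≠ 0)
    (hQp' : Q p' ≠ 0) (hQ : Q p = Q p') (hpv : B Q p v = 0) (hp'v : B Q p' v = 0) {y : ι → F}
    (hy : y ∈ Rad M v hQv) :
    ((Q p)⁻¹ * B Q p y) • p + ((Q p')⁻¹ * B Q p' y) • p' ∈ Rad M v hQv := by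
  have hh : reflO Q p hQp * reflO Q p' hQp' ∈ HS D := REFLMEM.mem hD hp hp' hQp hQp' hQ
  have hfix : mt Q (reflO Q p hQp * reflO Q p' hQp') *ᵥ v = v := by
    rw [mt_mul_mulVec, reflO_mulVec p' hQp' v, hp'v, mul_zero, zero_smul, sub_zero,
      reflO_mulVec p hQp v, hpv, mul_zero, zero_smul, sub_zero]
  have h1 := GP.one hHM hQv hh hfix hy
  have hpp' : B Q p p' = 0 := hD.orth b b' hbb' p hp p' hp'
  have h2 : mt Q (reflO Q p hQp * reflO Q p' hQp') *ᵥ y - y =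
      -(((Q p)⁻¹ * B Q p y) • p + ((Q p')⁻¹ * B Q p' y) • p') := by
    rw [mt_mul_mulVec, reflO_mulVec p' hQp' y, reflO_mulVec p hQp]
    have : B Q p (y - ((Q p')⁻¹ * B Q p' y) • p') = B Q p y := by
      show QuadraticMap.polar (⇑Q) p (y - ((Q p')⁻¹ * B Q p' y) • p') = _
      rw [QuadraticMap.polar_sub_right, QuadraticMap.polar_smul_right]
      simp only [B] at hpp'
      rw [hpp', smul_zero, sub_zero]
    rw [this]
    abel
  rw [h2] at h1
  have h3 := (Rad M v hQv).neg_mem h1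
  rwa [neg_neg] at h3

end Cfsg.Agent.OC2K
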