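import Cfsg.Agent.Helper3.OC2Q2.Defs

set_option autoImplicit false
set_option linter.unusedSectionVars false
set_option linter.unusedVariables false

namespace Cfsg.Agent.OC2K

open Matrix Cfsg.Agent.Helper28.Sg Cfsg.Agent.Helper28.Spin Cfsg.Agent.Helper12.OrthGen
  Cfsg.Agent.S2614 Cfsg.Agent.S5683P Cfsg.Agent.Helper28.NDM

variable {F : Type*} [Field F] {t k : ℕ} {ι : Type} [Fintype ι] [DecidableEq ι] {Q : QuadraticForm F (ι → F)} [QHyp Q] {D : Fin t → Submodule F (ι → F)}
  {M : Subgroup (OGq Q)}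

/-! ## TWO (S): a singular vector with a nonsingular component has a second nonsingular component -/
theorem Q2.TWO.exists (hD : HD Q k D) {v : ι → F} (hQv : Q v = 0) {c : Fin t}
    (hQ : Q (cmp D c v) ≠ 0) : ∃ c', c' ≠ c ∧ Q (cmp D c' v) ≠ 0 := by
  by_contra hcon
  push Not at hcon
  have h := CMP2.Q_sum hD v
  rw [Finset.sum_eq_single c (fun b _ hb => hcon b hb) (fun h => absurd (Finset.mem_univ c) h)] at h
  exact hQ (h ▸ hQv)

end Cfsg.Agent.OC2K
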