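import Mathlib
import Cfsg.Agent.Helper5.PDDefs
import Cfsg.Agent.Helper24.Burnside
import Cfsg.Agent.Helper24.SmallDegree
import Cfsg.Agent.Helper24.Codegree
import Cfsg.Agent.Helper24.DetChar

set_option autoImplicit false

/-! Piece DEG2 of S4466 (driver helper5): a nonabelian simple group has no irreducible
character of degree 2. -/

namespace Cfsg.Agent.Helper18.PD

open Cfsg Cfsg.Agent.Helper5.PD Cfsg.Agent.Helper24

universe u

/-- a `2 × 2` complex matrix with `M * M = 1` and `det M = 1` is a scalar matrix -/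
theorem matrix_two_scalar (M : Matrix (Fin 2) (Fin 2) ℂ) (hsq : M * M = 1) (hdet : M.det = 1) :
    M = (M 0 0) • (1 : Matrix (Fin 2) (Fin 2) ℂ) := by
  have h00 := congrFun (congrFun hsq 0) 0
  have h01 := congrFun (congrFun hsq 0) 1
  have h10 := congrFun (congrFun hsq 1) 0
  have h11 := congrFun (congrFun hsq 1) 1
  simp only [Matrix.mul_apply, Fin.sum_univ_two, Matrix.one_apply_eq, Matrix.one_apply_ne,
    ne_eq, Fin.reduceEq, not_false_eq_true] at h00 h01 h10 h11
  rw [Matrix.det_fin_two] at hdet
  -- trace non-zero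
  have htr : M 0 0 + M 1 1 ≠ 0 := by
    intro h0
    have hd : M 1 1 = - M 0 0 := by linear_combination h0
    rw [hd] at hdet
    have : (2 : ℂ) = 0 := by linear_combination -h00 - hdet
    norm_num at this
  have hb : M 0 1 = 0 := by
    have : M 0 1 * (M 0 0 + M 1 1) = 0 := by linear_combination h01
    rcases mul_eq_zero.1 this with h | h
    · exact h
    · exact absurd h htr
  have hc : M 1 0 = 0 := by
    have : M 1 0 * (M 0 0 + M 1 1) = 0 := by linear_combination h10
    rcases mul_eq_zero.1 this with h | h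
    · exact h
    · exact absurd h htr
  have hd : M 1 1 = M 0 0 := by
    rw [hb, hc] at h00 h11 hdet
    have h1 : (M 0 0 - M 1 1) * (M 0 0 + M 1 1) = 0 := by linear_combination h00 - h11
    rcases mul_eq_zero.1 h1 with h | h
    · linear_combination -h
    · exact absurd h htr
  ext i j
  fin_cases i <;> fin_cases j <;> simp [hb, hc, hd]

/-- **Piece DEG2.** -/
theorem no_degree_two {G : Type u} [Group G] [Finite G] [IsSimpleGroup G]
    (hna : ¬ ∀ a b : G, a * b = b * a) (χ : IrrCharacter G) : charDegree (χ : G → ℂ) ≠ 2 := by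
  intro hdeg
  obtain ⟨n, ρ, hirr, hχ⟩ := χ.2
  have := hirr
  have hn : n = 2 := by
    have h1 : (χ : G → ℂ) 1 = (n : ℂ) := by
      rw [← hχ, Representation.char_one, Module.finrank_fin_fun]
    have h2 : charDegree (χ : G → ℂ) = n := by
      unfold charDegree
      rw [h1]
      simp
    rw [← h2, hdeg]
  subst hn
  -- the determinant is trivial
  have hdet : ∀ g : G, LinearMap.det (ρ g) = 1 := by
    intro g
    have hk := IsSimpleGroup.eq_bot_or_eq_top_of_normal (detUnits ρ).ker inferInstance
    rcases hk with hk | hk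
    · exfalso
      apply hna
      intro a b
      have hinj : Function.Injective (detUnits ρ) := (MonoidHom.ker_eq_bot_iff _).mp hk
      apply hinj
      rw [map_mul, map_mul, mul_comm]
    · have hg : g ∈ (detUnits ρ).ker := by rw [hk]; trivial
      rw [MonoidHom.mem_ker] at hg
      rw [← detUnits_apply, hg]
      rfl
  -- an involution
  have h2 : 2 ∣ Nat.card G := by
    have := irrDeg_dvd_card χ
    rwa [← charDegree_irr, hdeg] at this
  obtain ⟨t, ht⟩ := exists_prime_orderOf_dvd_card' 2 h2
  have ht1 : t ≠ 1 := by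
    intro h
    rw [h, orderOf_one] at ht
    norm_num at ht
  have htt : t * t = 1 := by
    rw [← pow_two, ← ht]
    exact pow_orderOf_eq_one t
  set M : Matrix (Fin 2) (Fin 2) ℂ := LinearMap.toMatrix' (ρ t) with hM
  have hMsq : M * M = 1 := by
    rw [hM, ← LinearMap.toMatrix'_mul, ← map_mul, htt, map_one, LinearMap.toMatrix'_one]
  have hMdet : M.det = 1 := by
    rw [hM, LinearMap.det_toMatrix', hdet]
  have hsc := matrix_two_scalar M hMsq hMdet
  have hρt : ρ t = (M 0 0) • (LinearMap.id : (Fin 2 → ℂ) →ₗ[ℂ] (Fin 2 → ℂ)) := by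
    apply LinearMap.toMatrix'.injective
    rw [← hM, map_smul, LinearMap.toMatrix'_id]
    exact hsc
  have h1 := char_eq_one_of_scalar hna ρ t ht1 (M 0 0) hρt
  have h3 : ρ.character 1 = 2 := by
    rw [Representation.char_one, Module.finrank_fin_fun]
    norm_num
  rw [h1] at h3
  norm_num at h3

end Cfsg.Agent.Helper18.PD
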