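import Mathlib
import Cfsg.Agent.Helper5.PDDefs
import Cfsg.Agent.Helper24.Burnside
import Cfsg.Agent.Helper24.SmallDegree
import Cfsg.Agent.Helper24.Codegree
import Cfsg.Agent.Helper24.Linear
import Cfsg.Agent.Helper24.Orthogonality
import Cfsg.Agent.Helper24.Abelian

set_option autoImplicit false

/-! Piece PERF of S4466 (driver helper5): in a nonabelian simple group the only linear
character is the trivial one, and there are two distinct nonlinear degrees. -/

namespace Cfsg.Agent.Helper18.PD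

open Cfsg Cfsg.Agent.Helper5.PD Cfsg.Agent.Helper24

universe u

/-- the degree read off a representation affording the character -/
theorem charDegree_eq_dim {G : Type u} [Group G] {n : ℕ} (ρ : Representation ℂ G (Fin n → ℂ))
    (χ : G → ℂ) (hχ : ρ.character = χ) : charDegree χ = n := by
  have h1 : χ 1 = (n : ℂ) := by
    rw [← hχ, Representation.char_one, Module.finrank_fin_fun]
  unfold charDegree
  rw [h1]
  simp

/-- **Piece PERF (1).** -/
theorem eq_one_of_degree_one {G : Type u} [Group G] [Finite G] [IsSimpleGroup G]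
    (hna : ¬ ∀ a b : G, a * b = b * a) (χ : IrrCharacter G)
    (h1 : charDegree (χ : G → ℂ) = 1) : ∀ g, (χ : G → ℂ) g = 1 := by
  obtain ⟨n, ρ, hirr, hχ⟩ := χ.2
  have := hirr
  have hn : n = 1 := by rw [← charDegree_eq_dim ρ _ hχ, h1]
  subst hn
  obtain ⟨g, hg⟩ : ∃ g : G, g ≠ 1 := by
    by_contra hcon
    push Not at hcon
    apply hna
    intro a b
    rw [hcon a, hcon b]
  have hsc : ρ g = (LinearMap.toMatrix' (ρ g) 0 0) •
      (LinearMap.id : (Fin 1 → ℂ) →ₗ[ℂ] (Fin 1 → ℂ)) := by
    apply LinearMap.toMatrix'.injective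
    rw [map_smul, LinearMap.toMatrix'_id]
    ext i j
    fin_cases i; fin_cases j
    simp
  have h2 := char_eq_one_of_scalar hna ρ g hg _ hsc
  intro x
  rw [← hχ, h2]

/-- **Piece PERF (2).** -/
theorem exists_two_degrees {G : Type u} [Group G] [Finite G] [IsSimpleGroup G]
    (hna : ¬ ∀ a b : G, a * b = b * a) :
    ∃ χ ψ : IrrCharacter G, charDegree (ψ : G → ℂ) ≠ 1 ∧
      charDegree (ψ : G → ℂ) < charDegree (χ : G → ℂ) ∧
      ∀ φ : IrrCharacter G, charDegree (φ : G → ℂ) ≤ charDegree (χ : G → ℂ) := by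
  classical
  haveI : Fintype G := Fintype.ofFinite G
  haveI : Fintype (IrrCharacter G) := Fintype.ofFinite _
  haveI : Nonempty (IrrCharacter G) := ⟨trivIrr G⟩
  obtain ⟨χ, hmax⟩ := Finite.exists_max (fun φ : IrrCharacter G => charDegree (φ : G → ℂ))
  refine ⟨χ, ?_⟩
  by_contra hcon
  push Not at hcon
  set r := charDegree (χ : G → ℂ) with hr
  -- every degree is `1` or `r`
  have hcases : ∀ φ : IrrCharacter G, charDegree (φ : G → ℂ) ≠ 1 → charDegree (φ : G → ℂ) = r := by
    intro φ h1
    by_contra hne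
    have hlt : charDegree (φ : G → ℂ) < r := lt_of_le_of_ne (hmax φ) hne
    obtain ⟨φ', hφ'⟩ := hcon φ h1 hlt
    exact absurd (hmax φ') (not_le.2 hφ')
  -- a nonlinear character
  have hex : ∃ φ : IrrCharacter G, charDegree (φ : G → ℂ) ≠ 1 := by
    by_contra hall
    push Not at hall
    apply hna
    rw [comm_iff_forall_irr_one]
    intro φ
    rw [← irrDeg_eq_one_iff, ← charDegree_irr]
    exact hall φ
  obtain ⟨φ₀, hφ₀⟩ := hex
  have hr1 : r ≠ 1 := by
    rw [← hcases φ₀ hφ₀]; exact hφ₀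
  -- the degree equation
  have hsum := sum_irrDeg_sq (G := G)
  have hτ : ∀ φ : IrrCharacter G, φ ≠ trivIrr G → irrDeg φ = r := by
    intro φ hne
    rw [← charDegree_irr]
    apply hcases
    intro h1
    apply hne
    apply Subtype.ext
    funext g
    rw [eq_one_of_degree_one hna φ h1 g]
    rfl
  have hτ1 : irrDeg (trivIrr G) = 1 := by
    rw [irrDeg_eq_one_iff]; rfl
  rw [← Finset.add_sum_erase Finset.univ _ (Finset.mem_univ (trivIrr G)), hτ1] at hsum
  have h2 : ∑ φ ∈ Finset.univ.erase (trivIrr G), irrDeg φ ^ 2 =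
      (Finset.univ.erase (trivIrr G)).card * r ^ 2 := by
    rw [Finset.sum_congr rfl (fun φ hφ => by rw [hτ φ (Finset.ne_of_mem_erase hφ)]),
      Finset.sum_const, smul_eq_mul]
  rw [h2] at hsum
  have hdvd : r ∣ Nat.card G := by
    have := irrDeg_dvd_card χ
    rwa [← charDegree_irr] at this
  rw [← hsum] at hdvd
  have h3 : r ∣ (Finset.univ.erase (trivIrr G)).card * r ^ 2 :=
    Dvd.dvd.mul_left (dvd_pow_self r (by norm_num)) _
  have h4 : r ∣ 1 ^ 2 := (Nat.dvd_add_left h3).1 hdvd
  rw [one_pow, Nat.dvd_one] at h4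
  exact hr1 h4

end Cfsg.Agent.Helper18.PD
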