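import Mathlib
import Cfsg.Agent.Helper5.PDDefs
import Cfsg.Agent.Helper24.Burnside
import Cfsg.Agent.Helper24.SmallDegree
import Cfsg.Agent.Helper24.Codegree
import Cfsg.Agent.Helper24.Linear
import Cfsg.Agent.Helper24.Expansion
import Cfsg.Agent.Helper24.CharBasic
import Cfsg.Agent.Helper8.CharComp
import Cfsg.Agent.Helper18.PDPERF

set_option autoImplicit false

/-! Piece SYLB of S4466 (driver helper5): a character of prime degree `r` and an abelian Sylow
`r`-subgroup `R` force `|R| = r` and `C_G(R) = R`. -/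

namespace Cfsg.Agent.Helper18.PD

open Cfsg Cfsg.Agent.Helper5.PD Cfsg.Agent.Helper24

universe u

/-- **Piece SYLB.** -/
theorem sylow_of_degree_eq {G : Type u} [Group G] [Finite G] [IsSimpleGroup G]
    (hna : ¬ ∀ a b : G, a * b = b * a) (r : ℕ) [Fact r.Prime]
    (χ : IrrCharacter G) (hχ : charDegree (χ : G → ℂ) = r) (R : Sylow r G)
    (hab : ∀ x ∈ (R : Subgroup G), ∀ y ∈ (R : Subgroup G), x * y = y * x) :
    Nat.card R = r ∧ Subgroup.centralizer ((R : Subgroup G) : Set G) = (R : Subgroup G) := by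
  classical
  have hr : r.Prime := Fact.out
  obtain ⟨n, ρ, hirr, hρχ⟩ := χ.2
  haveI := hirr
  have hn : n = r := by rw [← charDegree_eq_dim ρ _ hρχ, hχ]
  have hfr : Module.finrank ℂ (Fin n → ℂ) = r := by rw [Module.finrank_fin_fun, hn]
  have hχ1 : (χ : G → ℂ) 1 = (r : ℂ) := by
    rw [← hρχ, Representation.char_one, hfr]
  set C : Subgroup G := Subgroup.centralizer ((R : Subgroup G) : Set G) with hC
  have hRC : (R : Subgroup G) ≤ C := by
    intro x hx
    rw [hC, Subgroup.mem_centralizer_iff]
    intro y hy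
    exact hab y hy x hx
  -- vanishing on `C \ {1}`
  have hvan : ∀ c ∈ C, c ≠ 1 → (χ : G → ℂ) c = 0 := by
    intro c hc hc1
    have hle : (R : Subgroup G) ≤ Subgroup.centralizer ({c} : Set G) := by
      intro x hx
      rw [Subgroup.mem_centralizer_iff]
      intro y hy
      rw [Set.mem_singleton_iff] at hy
      subst hy
      rw [hC, Subgroup.mem_centralizer_iff] at hc
      exact (hc x hx).symm
    have hdvd : (Subgroup.centralizer ({c} : Set G)).index ∣ (R : Subgroup G).index :=
      Subgroup.index_dvd_of_le hle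
    have hcop : Nat.Coprime (Module.finrank ℂ (Fin n → ℂ))
        (Subgroup.centralizer ({c} : Set G)).index := by
      rw [hfr]
      exact Nat.Coprime.coprime_dvd_right hdvd
        ((Nat.Prime.coprime_iff_not_dvd hr).mpr R.not_dvd_index)
    rcases char_eq_zero_or_norm_eq_of_coprime ρ c hcop with h0 | hnorm
    · rw [← hρχ]; exact h0
    · exfalso
      obtain ⟨ω, hω⟩ := (norm_char_eq_iff ρ c).mp hnorm
      have h1 := char_eq_one_of_scalar hna ρ c hc1 ω hω
      have h2 : ρ.character 1 = (r : ℂ) := by rw [Representation.char_one, hfr]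
      rw [h1] at h2
      have h2' : (1 : ℂ) = (r : ℂ) := h2
      have h3 : r = 1 := by exact_mod_cast h2'.symm
      exact hr.one_lt.ne' h3
  -- the multiplicity of the trivial character of `C`
  haveI : Fintype C := Fintype.ofFinite _
  haveI : Fintype (IrrCharacter C) := Fintype.ofFinite _
  obtain ⟨m, hm⟩ := IsCharacter.classInner_irr_nat
    (Cfsg.Agent.Helper8.isCharacter_restrict C (IsIrrCharacter.isCharacter χ.2)) (trivIrr C)
  have hsum : ∑ c : C, (χ : G → ℂ) (c : G) * (starRingEnd ℂ) ((trivIrr C : C → ℂ) c) = (r : ℂ) := by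
    rw [Finset.sum_eq_single (1 : C)]
    · rw [trivIrr_apply]
      simp only [OneMemClass.coe_one, map_one, mul_one]
      exact hχ1
    · intro c _ hc1
      have : (c : G) ≠ 1 := fun h => hc1 (Subtype.ext h)
      rw [hvan c c.2 this, zero_mul]
    · intro h
      exact absurd (Finset.mem_univ _) h
  unfold classInner at hm
  rw [hsum] at hm
  have hcard0 : (Nat.card C : ℂ) ≠ 0 := by
    have : Nat.card C ≠ 0 := Nat.card_pos.ne'
    exact_mod_cast this
  have hrm : r = m * Nat.card C := by
    have : (r : ℂ) = (m : ℂ) * (Nat.card C : ℂ) := by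
      rw [← hm, mul_comm, ← mul_assoc, mul_inv_cancel₀ hcard0, one_mul]
    exact_mod_cast this
  have hCr : Nat.card C ∣ r := ⟨m, by rw [hrm, mul_comm]⟩
  -- `R` is nontrivial
  have hrG : r ∣ Nat.card G := by
    have := irrDeg_dvd_card χ
    rwa [← charDegree_irr, hχ] at this
  have hRne : (R : Subgroup G) ≠ ⊥ := R.ne_bot_of_dvd_card hrG
  have hRC' : Nat.card (R : Subgroup G) ∣ Nat.card C := Subgroup.card_dvd_of_le hRC
  have hRr : Nat.card (R : Subgroup G) ∣ r := hRC'.trans hCr
  have hR : Nat.card (R : Subgroup G) = r := by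
    rcases (Nat.dvd_prime hr).1 hRr with h | h
    · exfalso
      exact hRne ((Subgroup.card_eq_one).1 h)
    · exact h
  have hCcard : Nat.card C = r := by
    rw [← hR] at hCr
    rw [← hR]
    exact Nat.dvd_antisymm hCr hRC'
  refine ⟨hR, ?_⟩
  symm
  apply Subgroup.eq_of_le_of_card_ge hRC
  rw [hCcard, hR]

end Cfsg.Agent.Helper18.PD
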