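import Mathlib

set_option autoImplicit false

namespace Cfsg.Agent.Helper18.PGL2Mers

open Matrix

variable {F : Type*} [Field F]

local notation "Mat" => Matrix (Fin 2) (Fin 2) F

theorem two_ne_zero_of_neg_one (hneg : ¬ IsSquare (-1 : F)) : (2 : F) ≠ 0 := by
  intro h
  apply hneg
  refine ⟨1, ?_⟩
  linear_combination -h

/-- entries of a matrix squaring to `-1` -/
theorem entries_of_sq (hneg : ¬ IsSquare (-1 : F)) {A : Mat} (hA : A * A = -1) :
    A 1 1 = -A 0 0 ∧ A 0 0 * A 0 0 + A 0 1 * A 1 0 = -1 ∧ A 0 1 ≠ 0 ∧ A 1 0 ≠ 0 := by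
  have h00 := congrFun (congrFun hA 0) 0
  have h01 := congrFun (congrFun hA 0) 1
  simp only [Matrix.mul_apply, Fin.sum_univ_two, Matrix.neg_apply, Matrix.one_apply_eq,
    Matrix.one_apply_ne, ne_eq, zero_ne_one, one_ne_zero, not_false_eq_true, neg_zero] at h00 h01
  have hb : A 0 1 ≠ 0 := by
    intro hb
    apply hneg
    refine ⟨A 0 0, ?_⟩
    rw [hb, zero_mul, add_zero] at h00
    exact h00.symm
  have hc : A 1 0 ≠ 0 := by
    intro hc
    apply hneg
    refine ⟨A 0 0, ?_⟩
    rw [hc, mul_zero, add_zero] at h00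
    exact h00.symm
  have htr : A 0 1 * (A 0 0 + A 1 1) = 0 := by linear_combination h01
  have htr' : A 0 0 + A 1 1 = 0 := (mul_eq_zero.1 htr).resolve_left hb
  exact ⟨by linear_combination htr', h00, hb, hc⟩

theorem eq_of_entries {A : Mat} {a b c : F} (h00 : A 0 0 = a) (h01 : A 0 1 = b) (h10 : A 1 0 = c)
    (h11 : A 1 1 = -a) : A = !![a, b; c, -a] := by
  ext i j
  fin_cases i <;> fin_cases j <;> simp [h00, h01, h10, h11]

/-- the anticommutator of two matrices squaring to `-1` is scalar -/
theorem anticomm_scalar (hneg : ¬ IsSquare (-1 : F)) {A A' : Mat} (hA : A * A = -1)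
    (hA' : A' * A' = -1) :
    A * A' + A' * A = (2 * A 0 0 * A' 0 0 + A 0 1 * A' 1 0 + A 1 0 * A' 0 1) • (1 : Mat) := by
  obtain ⟨h11, -, -, -⟩ := entries_of_sq hneg hA
  obtain ⟨h11', -, -, -⟩ := entries_of_sq hneg hA'
  ext i j
  fin_cases i <;> fin_cases j <;>
    simp [Matrix.mul_apply, Fin.sum_univ_two, h11, h11'] <;> ring

/-- `B = AA' - A'A` anticommutes with `A` -/
theorem comm_anti_left {A A' : Mat} (hA : A * A = -1) :
    (A * A' - A' * A) * A = -(A * (A * A' - A' * A)) := by
  have e1 : (A * A' - A' * A) * A = A * A' * A - A' * (A * A) := by noncomm_ring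
  have e2 : A * (A * A' - A' * A) = (A * A) * A' - A * A' * A := by noncomm_ring
  rw [e1, e2, hA]
  noncomm_ring

theorem comm_anti_right {A A' : Mat} (hA' : A' * A' = -1) :
    (A * A' - A' * A) * A' = -(A' * (A * A' - A' * A)) := by
  have e1 : (A * A' - A' * A) * A' = A * (A' * A') - A' * A * A' := by noncomm_ring
  have e2 : A' * (A * A' - A' * A) = A' * A * A' - (A' * A') * A := by noncomm_ring
  rw [e1, e2, hA']
  noncomm_ring

/-- `(AA' - A'A)² = (AA' + A'A)² - 4` -/
theorem comm_sq {A A' : Mat} (hA : A * A = -1) (hA' : A' * A' = -1) :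
    (A * A' - A' * A) * (A * A' - A' * A) =
      (A * A' + A' * A) * (A * A' + A' * A) - (4 : F) • (1 : Mat) := by
  have h1 : A * A' * (A' * A) = 1 := by
    rw [Matrix.mul_assoc, ← Matrix.mul_assoc A' A' A, hA']
    simp [hA]
  have h2 : A' * A * (A * A') = 1 := by
    rw [Matrix.mul_assoc, ← Matrix.mul_assoc A A A', hA]
    simp [hA']
  have e1 : (A * A' - A' * A) * (A * A' - A' * A) =
      A * A' * (A * A') - A * A' * (A' * A) - A' * A * (A * A') + A' * A * (A' * A) := by
    noncomm_ring
  have e2 : (A * A' + A' * A) * (A * A' + A' * A) =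
      A * A' * (A * A') + A * A' * (A' * A) + A' * A * (A * A') + A' * A * (A' * A) := by
    noncomm_ring
  rw [e1, e2, h1, h2]
  have : (4 : F) • (1 : Mat) = 1 + 1 + 1 + 1 := by
    rw [show (4 : F) = 1 + 1 + 1 + 1 by norm_num, add_smul, add_smul, add_smul, one_smul]
  rw [this]
  abel

/-- degenerate case: `AA'' + A''A = -2` forces `A = A''` -/
theorem eq_of_anticomm_neg_two (hneg : ¬ IsSquare (-1 : F)) {A A'' : Mat} (hA : A * A = -1)
    (hA'' : A'' * A'' = -1)
    (hs : 2 * A 0 0 * A'' 0 0 + A 0 1 * A'' 1 0 + A 1 0 * A'' 0 1 = -2) : A = A'' := by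
  obtain ⟨h11, hq, hb, hc⟩ := entries_of_sq hneg hA
  obtain ⟨h11', hq', hb', hc'⟩ := entries_of_sq hneg hA''
  set a := A 0 0
  set b := A 0 1
  set c := A 1 0
  set a' := A'' 0 0
  set b' := A'' 0 1
  set c' := A'' 1 0
  have e1 : (a - a') * (a - a') + (b - b') * (c - c') = 0 := by
    linear_combination hq + hq' - hs
  have e2 : 2 * a * (a - a') + b * (c - c') + c * (b - b') = 0 := by
    linear_combination 2 * hq - hs
  have hn2 : b - b' = 0 := by
    by_contra hn2
    apply hneg
    refine ⟨(a * (b - b') - b * (a - a')) / (b - b'), ?_⟩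
    rw [div_mul_div_comm, eq_div_iff (mul_ne_zero hn2 hn2)]
    linear_combination (-((b - b') * (b - b'))) * hq + (b * (b - b')) * e2 + (-(b * b)) * e1
  have hn1 : a - a' = 0 := by
    rw [hn2, zero_mul, add_zero] at e1
    exact mul_self_eq_zero.1 e1
  have hn3 : c - c' = 0 := by
    rw [hn1, hn2, mul_zero, mul_zero, add_zero, zero_add] at e2
    exact (mul_eq_zero.1 e2).resolve_left hb
  ext i j
  fin_cases i <;> fin_cases j
  · exact sub_eq_zero.1 hn1
  · exact sub_eq_zero.1 hn2
  · exact sub_eq_zero.1 hn3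
  · show A 1 1 = A'' 1 1
    rw [h11, h11']
    have : a = a' := sub_eq_zero.1 hn1
    rw [this]

theorem isUnit_det_of_sq {A : Mat} (hA : A * A = -1) : IsUnit A.det := by
  have h := congrArg Matrix.det hA
  rw [Matrix.det_mul, Matrix.det_neg, Matrix.det_one, Fintype.card_fin] at h
  have h' : A.det * A.det = 1 := by rw [h]; norm_num
  exact IsUnit.of_mul_eq_one _ h'

theorem not_scalar_of_sq (hneg : ¬ IsSquare (-1 : F)) {A : Mat} (hA : A * A = -1) (c : F) :
    A ≠ c • (1 : Mat) := by
  intro h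
  obtain ⟨-, -, hb, -⟩ := entries_of_sq hneg hA
  apply hb
  rw [h]
  simp

/-- two matrices squaring to `-1` over a field where `-1` is not a square are simultaneously
(anti)commuted by a non-scalar invertible matrix -/
theorem common_centralizer (hneg : ¬ IsSquare (-1 : F)) (A A' : Mat) (hA : A * A = -1)
    (hA' : A' * A' = -1) :
    ∃ B : Mat, IsUnit B.det ∧ (∀ c : F, B ≠ c • (1 : Mat)) ∧
      (B * A = A * B ∨ B * A = -(A * B)) ∧ (B * A' = A' * B ∨ B * A' = -(A' * B)) := by
  have h2 := two_ne_zero_of_neg_one hneg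
  set s := 2 * A 0 0 * A' 0 0 + A 0 1 * A' 1 0 + A 1 0 * A' 0 1 with hs
  have hS : A * A' + A' * A = s • (1 : Mat) := anticomm_scalar hneg hA hA'
  by_cases h1 : s = -2
  · have hAA : A = A' := eq_of_anticomm_neg_two hneg hA hA' h1
    refine ⟨A, isUnit_det_of_sq hA, not_scalar_of_sq hneg hA, Or.inl rfl, Or.inl ?_⟩
    rw [← hAA]
  by_cases h3 : s = 2
  · have hA'' : (-A') * (-A') = -1 := by rw [neg_mul_neg, hA']
    have hAA : A = -A' := by
      apply eq_of_anticomm_neg_two hneg hA hA''
      simp only [Matrix.neg_apply]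
      linear_combination -h3
    refine ⟨A, isUnit_det_of_sq hA, not_scalar_of_sq hneg hA, Or.inl rfl, Or.inl ?_⟩
    have hA'eq : A' = -A := by rw [hAA, neg_neg]
    rw [hA'eq, Matrix.mul_neg, Matrix.neg_mul]
  · have hs4 : s * s - 4 ≠ 0 := by
      intro h
      have : (s - 2) * (s + 2) = 0 := by linear_combination h
      rcases mul_eq_zero.1 this with h | h
      · exact h3 (by linear_combination h)
      · exact h1 (by linear_combination h)
    set B := A * A' - A' * A with hB
    have hBB : B * B = (s * s - 4) • (1 : Mat) := by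
      rw [hB, comm_sq hA hA', hS, Matrix.smul_mul, Matrix.one_mul, smul_smul, sub_smul]
    have hBA : B * A = -(A * B) := comm_anti_left hA
    have hBA' : B * A' = -(A' * B) := comm_anti_right hA'
    refine ⟨B, ?_, ?_, Or.inr hBA, Or.inr hBA'⟩
    · have h := congrArg Matrix.det hBB
      rw [Matrix.det_mul, Matrix.det_smul, Matrix.det_one, Fintype.card_fin, mul_one] at h
      have hne : B.det * B.det ≠ 0 := by rw [h]; exact pow_ne_zero _ hs4
      exact isUnit_iff_ne_zero.2 (fun h0 => hne (by rw [h0, zero_mul]))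
    · intro c hc
      obtain ⟨-, -, hb, -⟩ := entries_of_sq hneg hA
      have e := hBA
      rw [hc, Matrix.smul_mul, Matrix.one_mul, Matrix.mul_smul, Matrix.mul_one] at e
      have e01 := congrFun (congrFun e 0) 1
      simp only [Matrix.smul_apply, Matrix.neg_apply, smul_eq_mul] at e01
      have hc0 : c = 0 := by
        have : 2 * c * A 0 1 = 0 := by linear_combination e01
        rcases mul_eq_zero.1 this with h | h
        · exact (mul_eq_zero.1 h).resolve_left h2
        · exact absurd h hb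
      rw [hc, hc0, zero_smul, Matrix.zero_mul] at hBB
      have e00 := congrFun (congrFun hBB 0) 0
      simp only [Matrix.zero_apply, Matrix.smul_apply, Matrix.one_apply_eq, smul_eq_mul,
        mul_one] at e00
      exact hs4 e00.symm

end Cfsg.Agent.Helper18.PGL2Mers
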