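import Cfsg.Agent.Helper18.PGL2Mers2

set_option autoImplicit false

namespace Cfsg.Agent.Helper18.PGL2Mers

open Matrix
open scoped Pointwise

variable {F : Type*} [Field F] [Fintype F]

local notation "Mat" => Matrix (Fin 2) (Fin 2) F
local notation "G" => GL (Fin 2) F
local notation "P" => GL (Fin 2) F ⧸ Subgroup.center (GL (Fin 2) F)

theorem card_mod_four {k : ℕ} (hqk : Fintype.card F + 1 = 2 ^ k) (hk : 2 ≤ k) :
    Fintype.card F % 4 = 3 := by
  obtain ⟨j, rfl⟩ : ∃ j, k = j + 2 := ⟨k - 2, by omega⟩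
  have : 2 ^ (j + 2) = 4 * 2 ^ j := by ring
  omega

theorem not_isSquare_neg_one {k : ℕ} (hqk : Fintype.card F + 1 = 2 ^ k) (hk : 2 ≤ k) :
    ¬ IsSquare (-1 : F) := by
  rw [FiniteField.isSquare_neg_one_iff]
  intro h
  exact h (card_mod_four hqk hk)

theorem mem_conj_smul_iff {X : Type*} [Group X] (S : Subgroup X) (g w : X) :
    w ∈ MulAut.conj g • S ↔ g⁻¹ * w * g ∈ S := by
  rw [Subgroup.mem_pointwise_smul_iff_inv_smul_mem]
  simp [MulAut.smul_def]

/-- conjugating a matrix squaring to `-1` -/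
theorem conj_sq (g A : G) (hA : (A : Mat) * (A : Mat) = -1) :
    ((g * A * g⁻¹ : G) : Mat) * ((g * A * g⁻¹ : G) : Mat) = -1 := by
  have h1 : ((g * A * g⁻¹ : G) : Mat) * ((g * A * g⁻¹ : G) : Mat) =
      (g : Mat) * ((A : Mat) * (A : Mat)) * ((g⁻¹ : G) : Mat) := by
    rw [← Units.val_mul, ← Units.val_mul, ← Units.val_mul, ← Units.val_mul]
    congr 1
    group
  rw [h1, hA, Matrix.mul_neg, Matrix.mul_one, Matrix.neg_mul, ← Units.val_mul, mul_inv_cancel]
  rfl

/-- every Sylow 2-subgroup of `PGL₂(q)`, `q + 1 = 2^k`, is the centraliser of an involution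
represented by a matrix squaring to `-1` -/
theorem sylow_eq_centralizer {k : ℕ} (hqk : Fintype.card F + 1 = 2 ^ k) (hk : 2 ≤ k)
    (H : Sylow 2 P) :
    ∃ A : G, (A : Mat) * (A : Mat) = -1 ∧ ∀ w : P, w ∈ H ↔ Commute w (A : P) := by
  have hneg := not_isSquare_neg_one hqk hk
  have hmod := card_mod_four hqk hk
  set C : Subgroup P := Subgroup.centralizer {((Jm F : G) : P)} with hC
  have hcardC : Nat.card C = 2 ^ (k + 1) := by
    rw [hC, card_centralizer_J hneg, hqk, pow_succ]; ring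
  have hCp : IsPGroup 2 C := IsPGroup.of_card hcardC
  have hidx : ¬ 2 ∣ C.index := by
    have h1 := C.card_mul_index
    rw [card_pgl2, hC, card_centralizer_J hneg] at h1
    obtain ⟨t, ht⟩ : ∃ t, Fintype.card F = 4 * t + 3 := ⟨Fintype.card F / 4, by omega⟩
    rw [← hC, ht] at h1
    have e1 : (4 * t + 3) ^ 2 - 1 = (4 * t + 3 + 1) * (4 * t + 2) := by
      have : (4 * t + 3) ^ 2 = (4 * t + 3 + 1) * (4 * t + 2) + 1 := by ring
      omega
    rw [e1] at h1
    have h2 : (2 * (4 * t + 3 + 1)) * C.index = (2 * (4 * t + 3 + 1)) * ((4 * t + 3) * (2 * t + 1)) := by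
      rw [h1]; ring
    have h3 := Nat.eq_of_mul_eq_mul_left (by omega) h2
    rw [h3]
    intro hdvd
    have : Odd ((4 * t + 3) * (2 * t + 1)) := by
      apply Odd.mul
      · exact ⟨2 * t + 1, by ring⟩
      · exact ⟨t, by ring⟩
    rw [← Nat.not_even_iff_odd] at this
    exact this (even_iff_two_dvd.2 hdvd)
  let P₀ : Sylow 2 P := hCp.toSylow hidx
  obtain ⟨g, hg⟩ := MulAction.exists_smul_eq P (P₀ : Sylow 2 P) H
  obtain ⟨g', rfl⟩ := QuotientGroup.mk_surjective g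
  refine ⟨g' * Jm F * g'⁻¹, conj_sq g' (Jm F) Jm_sq, ?_⟩
  intro w
  have hH : (H : Subgroup P) = MulAut.conj (g' : P) • C := by
    rw [← hg, Sylow.coe_subgroup_smul]
    rfl
  show w ∈ (H : Subgroup P) ↔ _
  rw [hH, mem_conj_smul_iff, hC, Subgroup.mem_centralizer_singleton_iff]
  rw [QuotientGroup.mk_mul, QuotientGroup.mk_mul, QuotientGroup.mk_inv]
  constructor
  · intro h
    show w * _ = _ * w
    have : w = (g' : P) * ((g' : P)⁻¹ * w * (g' : P)) * (g' : P)⁻¹ := by group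
    rw [this]
    calc (g' : P) * ((g' : P)⁻¹ * w * (g' : P)) * (g' : P)⁻¹ * ((g' : P) * ((Jm F : G) : P) * (g' : P)⁻¹)
        = (g' : P) * (((g' : P)⁻¹ * w * (g' : P)) * ((Jm F : G) : P)) * (g' : P)⁻¹ := by group
      _ = (g' : P) * (((Jm F : G) : P) * ((g' : P)⁻¹ * w * (g' : P))) * (g' : P)⁻¹ := by rw [h]
      _ = _ := by group
  · intro h
    have h' : w * ((g' : P) * ((Jm F : G) : P) * (g' : P)⁻¹) =
        ((g' : P) * ((Jm F : G) : P) * (g' : P)⁻¹) * w := h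
    calc (g' : P)⁻¹ * w * (g' : P) * ((Jm F : G) : P)
        = (g' : P)⁻¹ * (w * ((g' : P) * ((Jm F : G) : P) * (g' : P)⁻¹)) * (g' : P) := by group
      _ = (g' : P)⁻¹ * (((g' : P) * ((Jm F : G) : P) * (g' : P)⁻¹) * w) * (g' : P) := by rw [h']
      _ = _ := by group

/-- any two Sylow 2-subgroups of `PGL₂(q)`, `q + 1 = 2^k`, meet nontrivially -/
theorem sylow_inf_conj_ne_bot {k : ℕ} (hqk : Fintype.card F + 1 = 2 ^ k) (hk : 2 ≤ k)
    (H : Sylow 2 P) (x : P) :
    (H : Subgroup P) ⊓ MulAut.conj x • (H : Subgroup P) ≠ ⊥ := by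
  have hneg := not_isSquare_neg_one hqk hk
  obtain ⟨A, hA, hH⟩ := sylow_eq_centralizer hqk hk H
  obtain ⟨x', rfl⟩ := QuotientGroup.mk_surjective x
  have hA' := conj_sq x' A hA
  obtain ⟨B, hBdet, hBns, hBA, hBA'⟩ := common_centralizer hneg _ _ hA hA'
  let B' : G := Matrix.GeneralLinearGroup.mkOfDetNeZero B hBdet.ne_zero
  have hB'val : (B' : Mat) = B := rfl
  have hw1 : ((B' : G) : P) ∈ (H : Subgroup P) := by
    show ((B' : G) : P) ∈ H
    rw [hH, commute_mk_iff, hB'val]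
    exact hBA
  have hw2 : ((B' : G) : P) ∈ MulAut.conj (x' : P) • (H : Subgroup P) := by
    rw [mem_conj_smul_iff]
    show _ ∈ H
    rw [hH]
    have hc : Commute ((B' : G) : P) ((x' * A * x'⁻¹ : G) : P) := by
      rw [commute_mk_iff, hB'val]
      exact hBA'
    rw [QuotientGroup.mk_mul, QuotientGroup.mk_mul, QuotientGroup.mk_inv] at hc
    have hc' := hc.eq
    show (x' : P)⁻¹ * ((B' : G) : P) * (x' : P) * (A : P) = (A : P) * ((x' : P)⁻¹ * ((B' : G) : P) * (x' : P))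
    calc (x' : P)⁻¹ * ((B' : G) : P) * (x' : P) * (A : P)
        = (x' : P)⁻¹ * (((B' : G) : P) * ((x' : P) * (A : P) * (x' : P)⁻¹)) * (x' : P) := by group
      _ = (x' : P)⁻¹ * (((x' : P) * (A : P) * (x' : P)⁻¹) * ((B' : G) : P)) * (x' : P) := by rw [hc']
      _ = _ := by group
  have hw3 : ((B' : G) : P) ≠ 1 := by
    rw [Ne, mk_eq_one_iff, hB'val]
    rintro ⟨c, hc⟩
    exact hBns c hc
  intro hbot
  have : ((B' : G) : P) ∈ (H : Subgroup P) ⊓ MulAut.conj (x' : P) • (H : Subgroup P) := ⟨hw1, hw2⟩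
  rw [hbot, Subgroup.mem_bot] at this
  exact hw3 this

end Cfsg.Agent.Helper18.PGL2Mers
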