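import Cfsg.Agent.Helper18.L2Max10

/-! Maximal subgroups of `PGL₂(q)`, part a: the subgroup `L = PSL₂(q)` of `PGL₂(q)`. -/

set_option autoImplicit false

namespace Cfsg.Agent.Helper18.PGL2

open Cfsg.Agent.Helper18.Dickson Cfsg.Agent.Helper18.L2Max Matrix

variable {F : Type*} [Field F]

local notation "SF" => Matrix.SpecialLinearGroup (Fin 2) F
local notation "GF" => Matrix.GeneralLinearGroup (Fin 2) F
local notation "MF" => Matrix (Fin 2) (Fin 2) F
local notation "PG" => Matrix.ProjGenLinGroup (Fin 2) F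
local notation "PF" => Matrix.ProjectiveSpecialLinearGroup (Fin 2) F
local notation "mkG" => (Matrix.ProjGenLinGroup.mk : GF →* PG)
local notation "toG" => (Matrix.SpecialLinearGroup.toGL : SF →* GF)

/-- the image of `SL₂(F)` in `PGL₂(F)` -/
def LL (F : Type*) [Field F] : Subgroup (Matrix.ProjGenLinGroup (Fin 2) F) :=
  (Matrix.ProjGenLinGroup.mk.comp Matrix.SpecialLinearGroup.toGL).range

theorem det_scalar_two (u : Fˣ) : GeneralLinearGroup.det (GeneralLinearGroup.scalar (Fin 2) u) = u ^ 2 := by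
  rw [GeneralLinearGroup.det_scalar]; simp

theorem det_toG (x : SF) : GeneralLinearGroup.det (toG x) = 1 := by
  apply Units.ext
  simp

theorem exists_toG_of_det (g : GF) (h : GeneralLinearGroup.det g = 1) : ∃ x : SF, toG x = g := by
  refine ⟨⟨g.val, ?_⟩, ?_⟩
  · have := congrArg Units.val h
    simpa using this
  · apply Units.ext
    rfl

theorem mem_LL_iff (g : GF) : mkG g ∈ LL F ↔ ∃ u : Fˣ, GeneralLinearGroup.det g = u ^ 2 := by
  constructor
  · rintro ⟨x, hx⟩
    rw [MonoidHom.comp_apply, Matrix.ProjGenLinGroup.mk_eq_mk_iff] at hx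
    obtain ⟨u, hu⟩ := hx
    refine ⟨u, ?_⟩
    rw [← hu, map_mul, det_toG, one_mul, det_scalar_two]
  · rintro ⟨u, hu⟩
    obtain ⟨x, hx⟩ := exists_toG_of_det (g * GeneralLinearGroup.scalar (Fin 2) u⁻¹) (by
      rw [map_mul, hu, det_scalar_two, inv_pow, mul_inv_cancel])
    refine ⟨x, ?_⟩
    rw [MonoidHom.comp_apply, hx, map_mul, Matrix.ProjGenLinGroup.mk_scalar, mul_one]

instance LL_normal : (LL F).Normal := by
  constructor
  intro n hn g
  induction g using Matrix.ProjGenLinGroup.induction_on with | mk g =>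
  induction n using Matrix.ProjGenLinGroup.induction_on with | mk n =>
  obtain ⟨u, hu⟩ := (mem_LL_iff n).1 hn
  rw [← map_inv, ← map_mul, ← map_mul, mem_LL_iff]
  refine ⟨u, ?_⟩
  rw [map_mul, map_mul, map_inv, hu]
  exact mul_inv_cancel_comm _ _

theorem unit_sq_iff (d : Fˣ) : (∃ u : Fˣ, d = u ^ 2) ↔ IsSquare (d : F) := by
  constructor
  · rintro ⟨u, rfl⟩
    exact ⟨(u : F), by rw [Units.val_pow_eq_pow_val, pow_two]⟩
  · rintro ⟨r, hr⟩
    have hr0 : r ≠ 0 := by
      rintro rfl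
      rw [mul_zero] at hr
      exact d.ne_zero hr
    refine ⟨Units.mk0 r hr0, ?_⟩
    apply Units.ext
    rw [Units.val_pow_eq_pow_val, Units.val_mk0, hr, pow_two]

theorem xor_sq [Fintype F] (h2 : (2 : F) ≠ 0) (ε d : Fˣ) (hε : ¬ ∃ u : Fˣ, ε = u ^ 2) :
    Xor (∃ u : Fˣ, d * ε = u ^ 2) (∃ u : Fˣ, d = u ^ 2) := by
  classical
  rw [unit_sq_iff] at hε
  rw [unit_sq_iff, unit_sq_iff, Units.val_mul]
  have hε1 : quadraticChar F (ε : F) = -1 := quadraticChar_neg_one_iff_not_isSquare.2 hε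
  rw [← quadraticChar_one_iff_isSquare (mul_ne_zero d.ne_zero ε.ne_zero),
    ← quadraticChar_one_iff_isSquare d.ne_zero, map_mul, hε1]
  rcases quadraticChar_dichotomy d.ne_zero with h | h
  · rw [h]; right; constructor
    · rfl
    · norm_num
  · rw [h]; left; constructor
    · norm_num
    · norm_num

theorem exists_nonsquare_unit [Fintype F] (h2 : (2 : F) ≠ 0) : ∃ ε : Fˣ, ¬ ∃ u : Fˣ, ε = u ^ 2 := by
  have hchar : ringChar F ≠ 2 := by
    intro h
    apply h2
    have : CharP F 2 := ringChar.of_eq h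
    exact CharTwo.two_eq_zero
  obtain ⟨a, ha⟩ := FiniteField.exists_nonsquare hchar
  have ha0 : a ≠ 0 := by
    rintro rfl
    exact ha ⟨0, by simp⟩
  refine ⟨Units.mk0 a ha0, ?_⟩
  rw [unit_sq_iff]
  exact ha

/-- a diagonal matrix in `GL₂` -/
noncomputable def dG (a b : Fˣ) : GF :=
  GeneralLinearGroup.mkOfDetNeZero !![(a : F), 0; 0, (b : F)] (by
    rw [Matrix.det_fin_two_of]; simp)

theorem dG_coe (a b : Fˣ) : ((dG a b : GF) : MF) = !![(a : F), 0; 0, (b : F)] := rfl

theorem det_dG (a b : Fˣ) : GeneralLinearGroup.det (dG a b) = a * b := by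
  apply Units.ext
  show ((dG a b : GF) : MF).det = _
  rw [dG_coe, Matrix.det_fin_two_of]; simp

theorem index_LL [Fintype F] (h2 : (2 : F) ≠ 0) : (LL F).index = 2 := by
  rw [Subgroup.index_eq_two_iff]
  obtain ⟨ε, hε⟩ := exists_nonsquare_unit h2
  refine ⟨mkG (dG ε 1), ?_⟩
  intro b
  induction b using Matrix.ProjGenLinGroup.induction_on with | mk g =>
  rw [← map_mul, mem_LL_iff, mem_LL_iff, map_mul, det_dG, mul_one]
  exact xor_sq h2 ε _ hε

theorem range_toPGL :
    (ProjectiveSpecialLinearGroup.toPGL (n := Fin 2) (R := F)).range = LL F := by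
  ext x
  constructor
  · rintro ⟨y, rfl⟩
    obtain ⟨z, rfl⟩ := QuotientGroup.mk_surjective y
    exact ⟨z, rfl⟩
  · rintro ⟨z, rfl⟩
    exact ⟨QuotientGroup.mk z, rfl⟩

/-- `PSL₂(F) ≃ L` -/
noncomputable def equivLL : PF ≃* LL F :=
  (MonoidHom.ofInjective ProjectiveSpecialLinearGroup.toPGL_injective).trans
    (MulEquiv.subgroupCongr range_toPGL)

theorem equivLL_coe (y : PF) :
    ((equivLL y : LL F) : PG) = ProjectiveSpecialLinearGroup.toPGL y := rfl

theorem scalar_of_entries (g : GF) (h01 : (g : MF) 0 1 = 0) (h10 : (g : MF) 1 0 = 0)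
    (h11 : (g : MF) 1 1 = (g : MF) 0 0) : ∃ u : Fˣ, g = GeneralLinearGroup.scalar (Fin 2) u := by
  have ha0 : (g : MF) 0 0 ≠ 0 := by
    intro h0
    have hd := GeneralLinearGroup.det_ne_zero g
    rw [Matrix.det_fin_two, h0, h01] at hd
    simp at hd
  refine ⟨Units.mk0 _ ha0, ?_⟩
  apply GeneralLinearGroup.ext
  intro i j
  rw [GeneralLinearGroup.coe_scalar]
  fin_cases i <;> fin_cases j <;> simp [h01, h10, h11]

theorem mk_ne_one_entries (g : GF) (h : mkG g ≠ 1) :
    (g : MF) 0 1 ≠ 0 ∨ (g : MF) 1 0 ≠ 0 ∨ (g : MF) 1 1 ≠ (g : MF) 0 0 := by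
  by_contra hcon
  push Not at hcon
  obtain ⟨u, hu⟩ := scalar_of_entries g hcon.1 hcon.2.1 hcon.2.2
  apply h
  rw [hu, Matrix.ProjGenLinGroup.mk_scalar]

theorem scalar_of_commute (g : GF) (h1 : g * toG (uM 1) = toG (uM 1) * g)
    (h2 : g * toG (lM 1) = toG (lM 1) * g) :
    ∃ u : Fˣ, g = GeneralLinearGroup.scalar (Fin 2) u := by
  have e1 := congrArg (fun x : GF => (x : MF)) h1
  have e2 := congrArg (fun x : GF => (x : MF)) h2
  simp only [GeneralLinearGroup.coe_mul, SpecialLinearGroup.coe_GL_coe_matrix, uM_coe, lM_coe]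
    at e1 e2
  have e100 := congrFun (congrFun e1 0) 0
  have e101 := congrFun (congrFun e1 0) 1
  have e200 := congrFun (congrFun e2 0) 0
  simp [Matrix.mul_apply, Fin.sum_univ_two] at e100 e101 e200
  apply scalar_of_entries g
  · exact e200
  · exact e100
  · linear_combination -e101

end Cfsg.Agent.Helper18.PGL2
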