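import Cfsg.Agent.Helper18.PGL2m

/-! Maximal subgroups of `PGL₂(q)`, part n: `M ∩ L` is maximal in `L` — the case `p ∣ |M|`. -/

set_option autoImplicit false

namespace Cfsg.Agent.Helper18.PGL2

open Cfsg.Agent.Helper18.Dickson Cfsg.Agent.Helper18.L2Max Matrix
open Cfsg.Agent.Helper11

variable {F : Type*} [Field F]

local notation "SF" => Matrix.SpecialLinearGroup (Fin 2) F
local notation "GF" => Matrix.GeneralLinearGroup (Fin 2) F
local notation "MF" => Matrix (Fin 2) (Fin 2) F
local notation "PG" => Matrix.ProjGenLinGroup (Fin 2) F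
local notation "PF" => Matrix.ProjectiveSpecialLinearGroup (Fin 2) F
local notation "mkG" => (Matrix.ProjGenLinGroup.mk : GF →* PG)
local notation "toG" => (Matrix.SpecialLinearGroup.toGL : SF →* GF)
local notation "π" => QuotientGroup.mk' (Subgroup.center SF)

/-- **Subfield case**: the preimage in `SL₂` is `SL₂(K)` with `[F:K]` an odd prime, hence maximal. -/
theorem subfield_coatom [Fintype F] (p : ℕ) [Fact p.Prime] [CharP F p] (hp : p ≠ 2)
    {M : Subgroup PG} (hM : IsCoatom M) (hLM : ¬ LL F ≤ M)
    (hu : uM 1 ∈ preSL M) (hl : lM 1 ∈ preSL M) (K : Subfield F)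
    (hK : preSL M = SLK K ∨ preSL M = NK K) : IsCoatom (preSL M) := by
  classical
  have hpp : p.Prime := Fact.out
  have h2 : (2 : F) ≠ 0 := two_ne_zero_of_char (E := F) p hp
  have hodd : Odd p := hpp.odd_of_ne_two hp
  -- `p`-elements lie in `SLK K`
  have hpel : ∀ y ∈ preSL M, y ^ p = 1 → y ∈ SLK K := by
    intro y hy hyp
    rcases hK with h | h
    · rw [← h]; exact hy
    · rw [h] at hy
      have hsq := sq_mem_SLK K y hy
      obtain ⟨k, hk⟩ := hodd
      have : y = (y ^ 2) ^ (k + 1) := by
        rw [← pow_mul]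
        have : 2 * (k + 1) = p + 1 := by omega
        rw [this, pow_succ, hyp, one_mul]
      rw [this]
      exact (SLK K).pow_mem hsq _
  have hSLKle : SLK K ≤ preSL M := by
    rcases hK with h | h
    · rw [h]
    · rw [h]; exact SLK_le_NK K
  -- descent
  have hle : hatM M ≤ GK K := by
    intro m hm
    apply descent p K m {toG (uM 1), toG (lM 1)}
    · intro c hc
      exact scalar_of_commute c (hc _ (Set.mem_insert _ _))
        (hc _ (Set.mem_insert_of_mem _ (Set.mem_singleton _)))
    · intro s hs i j
      rcases hs with rfl | rfl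
      · exact (mem_SLK K _).1 ((uM_mem_SLK K 1).2 K.one_mem) i j
      · exact (mem_SLK K _).1 ((lM_mem_SLK K 1).2 K.one_mem) i j
    · intro s hs i j
      have key : ∀ x : SF, x ∈ preSL M → x ^ p = 1 →
          ((m * toG x * m⁻¹ : GF) : MF) i j ∈ K := by
        intro x hx hxp
        rw [← toG_conjSL]
        have h1 := conjSL_mem_preSL m hm x hx
        have h2 : (conjSL m x) ^ p = 1 := by rw [conjSL_pow, hxp, map_one]
        exact (mem_SLK K _).1 (hpel _ h1 h2) i j
      rcases hs with rfl | rfl
      · exact key _ hu (uM_pow_char p 1)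
      · exact key _ hl (lM_pow_char p 1)
  have hGKtop : GK K ≠ ⊤ := by
    intro h
    have hKtop := eq_top_of_GK_eq_top h
    apply preSL_ne_top hLM
    rw [eq_top_iff, ← SLK_top, ← hKtop]
    exact hSLKle
  have heq : hatM M = GK K := by
    by_contra hne
    exact hGKtop ((hatM_isCoatom hM).2 _ (lt_of_le_of_ne hle hne))
  -- the degree
  obtain ⟨s, hs1, hs⟩ := FinSub.card_pow_top K
  have hc2 := FinSub.two_le_card K
  set c := Nat.card K with hcdef
  have hKtop : K ≠ ⊤ := by
    intro h
    apply hGKtop
    rw [h, eq_top_iff]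
    intro m _
    exact ⟨1, one_ne_zero, fun i j => Subfield.mem_top _⟩
  have hs_ne1 : s ≠ 1 := by
    intro h
    rw [h, pow_one] at hs
    exact hKtop (FinSub.eq_top_of_card_eq K hs.symm)
  have hs_odd : Odd s := by
    by_contra hev
    rw [Nat.not_odd_iff_even] at hev
    have hML : M ≤ LL F := by
      intro x hx
      induction x using Matrix.ProjGenLinGroup.induction_on with | mk m =>
      have hm : m ∈ GK K := by rw [← heq]; exact hx
      obtain ⟨t, ht, hm⟩ := hm
      have hD : t ^ 2 * (m : MF).det ∈ K := by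
        have : t ^ 2 * (m : MF).det = (t * (m : MF) 0 0) * (t * (m : MF) 1 1) -
            (t * (m : MF) 0 1) * (t * (m : MF) 1 0) := by
          rw [Matrix.det_fin_two]; ring
        rw [this]
        exact K.sub_mem (K.mul_mem (hm _ _) (hm _ _)) (K.mul_mem (hm _ _) (hm _ _))
      obtain ⟨w, hw⟩ := exists_sqrt_of_mem_even h2 K s hev hs _ hD
      have hd0 : (m : MF).det ≠ 0 := GeneralLinearGroup.det_ne_zero m
      have hw0 : w ≠ 0 := by
        rintro rfl
        have : t ^ 2 * (m : MF).det = 0 := by rw [← hw]; ring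
        rcases mul_eq_zero.1 this with h | h
        · exact ht (pow_eq_zero_iff (two_ne_zero) |>.1 h)
        · exact hd0 h
      rw [mem_LL_iff]
      refine ⟨Units.mk0 (w / t) (div_ne_zero hw0 ht), ?_⟩
      apply Units.ext
      rw [Units.val_pow_eq_pow_val, Units.val_mk0]
      show (m : MF).det = _
      field_simp
      linear_combination -hw
    have : M = LL F := by
      by_contra hne
      exact LL_ne_top h2 (hM.2 _ (lt_of_le_of_ne hML hne))
    exact hLM this.ge
  have hsp : s.Prime := by
    by_contra hnp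
    obtain ⟨d, hd, hd1, hds⟩ := Nat.exists_dvd_of_not_prime2 (by omega) hnp
    obtain ⟨K', hKK', hcK'⟩ := exists_between p K s d hs hd (by omega)
    have hle' : GK K ≤ GK K' := GK_mono hKK'
    by_cases hee : GK K = GK K'
    · have hK'K : K' ≤ K := le_of_GK_le hee.ge
      have hKeq : K = K' := le_antisymm hKK' hK'K
      rw [← hKeq] at hcK'
      have : c ^ 1 = c ^ d := by rw [pow_one]; exact hcK'
      have := pow_inj_of_two_le hc2 this
      omega
    · have htop : GK K' = ⊤ := by
        have := (hatM_isCoatom hM).2 (GK K') (by rw [heq]; exact lt_of_le_of_ne hle' hee)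
        exact this
      have hK'top := eq_top_of_GK_eq_top htop
      have h1 : Nat.card K' = Fintype.card F := by
        rw [hK'top, ← Nat.card_eq_fintype_card]
        exact Nat.card_congr Subfield.topEquiv.toEquiv
      rw [hcK', hs] at h1
      have := pow_inj_of_two_le hc2 h1
      omega
  -- the preimage is `SL₂(K)`
  have hpre : preSL M = SLK K := by
    rcases hK with h | h
    · exact h
    · rw [h]
      apply le_antisymm _ (SLK_le_NK K)
      intro g hg
      obtain ⟨t, ht0, ht2, ht⟩ := (mem_NK K g).1 hg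
      have htK : t ∈ K := mem_of_sq_mem_odd h2 K s hs_odd hs t ht2
      exact mem_SLK_of_scaled K g t ht0 htK ht
  rw [hpre]
  apply isCoatom_SLK_of p hp K s hsp _ hs
  · intro h3 H hle
    subst h3
    exact card_ne_120 K s hs_odd hs H hle
  · rintro rfl
    exact (Nat.not_even_iff_odd.2 hs_odd) even_two

/-- **The case `p ∣ |M|`**: the preimage of `M` in `SL₂` is maximal. -/
theorem pdiv_coatom [Fintype F] (p : ℕ) [Fact p.Prime] [CharP F p] (hp : p ≠ 2)
    {M : Subgroup PG} (hM : IsCoatom M) (hLM : ¬ LL F ≤ M) (hpM : p ∣ Nat.card M) :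
    IsCoatom (preSL M) := by
  classical
  have h2 : (2 : F) ≠ 0 := two_ne_zero_of_char (E := F) p hp
  have hcH : Nat.card (preSL M) = Nat.card M := card_preSL h2 hM hLM
  have hpH : p ∣ Nat.card (preSL M) := by rw [hcH]; exact hpM
  have hpos : 0 < Nat.card (Sylow p (preSL M)) := Nat.card_pos
  rcases Nat.eq_or_lt_of_le (Nat.succ_le_of_lt hpos) with h1 | h1
  · obtain ⟨g0, hg0⟩ := struct_one_sylow p (preSL M) h1.symm hpH
    set c : GF := toG g0 with hc
    have hM1 := conjM_isCoatom c hM
    have hLM1 := conjM_not_le c hLM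
    have hpre : preSL (conjM c M) = Cfsg.Agent.Helper12.borelSL F := by
      apply borel_pre p hp hM1 hLM1
      · intro h hh
        rw [preSL_conjM] at hh
        obtain ⟨h', hh', rfl⟩ := hh
        show ((conjSL c h' : SF) : MF) 1 0 = 0
        rw [hc, conjSL_toG]
        exact hg0 h' hh'
      · rw [preSL_conjM, Subgroup.card_map_of_injective (conjSL c).injective]
        exact hpH
    rw [preSL_conjM] at hpre
    apply isCoatom_of_map_equiv (conjSL c)
    rw [hpre]
    exact borelSL_isCoatom
  · obtain ⟨c, hl, hu, hcases⟩ := struct_two_sylow_GL p hp (preSL M) h1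
    have hM1 := conjM_isCoatom c hM
    have hLM1 := conjM_not_le c hLM
    rw [← preSL_conjM] at hl hu hcases
    rcases hcases with ⟨h3, h120⟩ | ⟨K, hK⟩
    · exfalso
      subst h3
      -- `M ∩ L ≅ A₅`
      have hcP : Nat.card (prePSL (conjM c M)) = 60 := by
        have h5 := card_comap_mk h2 (prePSL (conjM c M))
        rw [← preSL_eq, preSL_conjM, Subgroup.card_map_of_injective (conjSL c).injective,
          h120] at h5
        omega
      obtain ⟨e5⟩ := exc_A5 (prePSL (conjM c M)) hcP (MulEquiv.refl _)
        (by rw [← preSL_eq]; simpa using hl) (by rw [← preSL_eq]; simpa using hu)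
      have hcM1 : Nat.card (conjM c M) = 120 := by rw [card_conjM, ← hcH, h120]
      exact not_card_120 (conjM c M) (conjM c M ⊓ LL F) hcM1 inf_le_left
        ((prePSLEquiv (conjM c M)).symm.trans e5)
    · have h := subfield_coatom p hp hM1 hLM1 hu hl K hK
      rw [preSL_conjM] at h
      exact isCoatom_of_map_equiv (conjSL c) h

end Cfsg.Agent.Helper18.PGL2
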