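import Cfsg.Agent.Helper18.PGL2n
import Cfsg.Agent.S5892

/-! Maximal subgroups of `PGL₂(q)`, part o: `M ∩ L` is maximal in `L` — the `p′` cases. -/

set_option autoImplicit false

namespace Cfsg.Agent.Helper18.PGL2

open Cfsg.Agent.Helper18.Dickson Cfsg.Agent.Helper18.L2Max Matrix
open Cfsg.Agent.Helper11

variable {F : Type*} [Field F]

local notation "SF" => Matrix.SpecialLinearGroup (Fin 2) F
local notation "GF" => Matrix.GeneralLinearGroup (Fin 2) F
local notation "MF" => Matrix (Fin 2) (Fin 2) F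
local notation "PG" => Matrix.ProjGenLinGroup (Fin 2) F
local notation "PF" => Matrix.ProjectiveSpecialLinearGroup (Fin 2) F
local notation "mkG" => (Matrix.ProjGenLinGroup.mk : GF →* PG)
local notation "toG" => (Matrix.SpecialLinearGroup.toGL : SF →* GF)
local notation "π" => QuotientGroup.mk' (Subgroup.center SF)

/-- squares commute in a dihedral group -/
theorem dih_sq_comm (k : ℕ) (a b : DihedralGroup k) : a ^ 2 * b ^ 2 = b ^ 2 * a ^ 2 := by
  rcases a with i | i <;> rcases b with j | j <;> simp [pow_two, add_comm]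

theorem sq_comm_of_dihedral {G : Type*} [Group G] {X : Subgroup G} {k : ℕ}
    (e : X ≃* DihedralGroup k) (x y : G) (hx : x ∈ X) (hy : y ∈ X) :
    x ^ 2 * y ^ 2 = y ^ 2 * x ^ 2 := by
  have h := dih_sq_comm k (e ⟨x, hx⟩) (e ⟨y, hy⟩)
  rw [← map_pow, ← map_pow, ← map_mul, ← map_mul] at h
  exact congrArg Subtype.val (e.injective h)

theorem A4_sq_not_comm : ∃ u v : alternatingGroup (Fin 4), u ^ 2 * v ^ 2 ≠ v ^ 2 * u ^ 2 := by
  refine ⟨⟨Equiv.swap 0 1 * Equiv.swap 1 2, Equiv.Perm.mem_alternatingGroup.2 (by decide)⟩,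
    ⟨Equiv.swap 0 1 * Equiv.swap 1 3, Equiv.Perm.mem_alternatingGroup.2 (by decide)⟩, ?_⟩
  intro h
  have := congrArg Subtype.val h
  revert this
  simp only [Subgroup.coe_mul, Subgroup.coe_pow]
  decide

theorem S4_sq_not_comm : ∃ u v : Equiv.Perm (Fin 4), u ^ 2 * v ^ 2 ≠ v ^ 2 * u ^ 2 :=
  ⟨Equiv.swap 0 1 * Equiv.swap 1 2, Equiv.swap 0 1 * Equiv.swap 1 3, by decide⟩

theorem A5_sq_not_comm : ∃ u v : alternatingGroup (Fin 5), u ^ 2 * v ^ 2 ≠ v ^ 2 * u ^ 2 := by
  refine ⟨⟨Equiv.swap 0 1 * Equiv.swap 1 2, Equiv.Perm.mem_alternatingGroup.2 (by decide)⟩,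
    ⟨Equiv.swap 0 1 * Equiv.swap 1 3, Equiv.Perm.mem_alternatingGroup.2 (by decide)⟩, ?_⟩
  intro h
  have := congrArg Subtype.val h
  revert this
  simp only [Subgroup.coe_mul, Subgroup.coe_pow]
  decide

theorem no_iso_of_sq_comm {G B : Type*} [Group G] [Group B] (A : Subgroup G)
    (hA : ∀ x ∈ A, ∀ y ∈ A, x ^ 2 * y ^ 2 = y ^ 2 * x ^ 2)
    (hB : ∃ u v : B, u ^ 2 * v ^ 2 ≠ v ^ 2 * u ^ 2) (ε : A ≃* B) : False := by
  obtain ⟨u, v, huv⟩ := hB
  apply huv
  have h := hA _ (ε.symm u).2 _ (ε.symm v).2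
  have h' : (ε.symm u) ^ 2 * (ε.symm v) ^ 2 = (ε.symm v) ^ 2 * (ε.symm u) ^ 2 :=
    Subtype.ext (by simpa using h)
  have h3 := congrArg ε h'
  simpa using h3

/-- **Dihedral case**: `M ∩ L` is a maximal dihedral subgroup of `L`. -/
theorem dihedral_coatom [Fintype F] (p : ℕ) [Fact p.Prime] [CharP F p] (hp : p ≠ 2)
    (h5 : 5 ≤ Fintype.card F) (h7 : Fintype.card F ≠ 7) (h9 : Fintype.card F ≠ 9)
    (h11 : Fintype.card F ≠ 11)
    {M : Subgroup PG} (hM : IsCoatom M) (hLM : ¬ LL F ≤ M)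
    (hpM : ¬ p ∣ Nat.card M) (k : ℕ) (e : M ≃* DihedralGroup k) : IsCoatom (prePSL M) := by
  classical
  have h2 : (2 : F) ≠ 0 := two_ne_zero_of_char (E := F) p hp
  obtain ⟨m, hm⟩ := odd_card_of_char (F := F) p hp
  have hcM : Nat.card M = 2 * k := by rw [Nat.card_congr e.toEquiv, DihedralGroup.nat_card]
  have hcA : Nat.card (prePSL M) = k := by
    have := card_eq_two_mul (index_LL h2) hM hLM
    rw [card_prePSL]; omega
  have hpA : ¬ p ∣ Nat.card (prePSL M) := by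
    intro h
    apply hpM
    rw [hcM, ← hcA]
    exact dvd_mul_of_dvd_right h 2
  have hsq : ∀ x ∈ prePSL M, ∀ y ∈ prePSL M, x ^ 2 * y ^ 2 = y ^ 2 * x ^ 2 := by
    intro x hx y hy
    have := sq_comm_of_dihedral e _ _ hx hy
    apply ProjectiveSpecialLinearGroup.toPGL_injective
    simpa using this
  have hk := dihedral_concl p hp h5 hM hLM hpM k e
  rcases pprime_dickson p hp (prePSL M) hpA with
    ⟨k', hk', ⟨hcyc, hck⟩ | ⟨⟨e'⟩⟩⟩ | ⟨⟨ε⟩⟩ | ⟨⟨ε⟩⟩ | ⟨⟨ε⟩⟩
  · -- cyclic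
    exfalso
    rw [hcA] at hck
    subst hck
    rcases hk' with hd | hd
    · have := Nat.le_of_dvd (by omega) hd
      rcases hk with ⟨_, hk⟩ | hk <;> omega
    · have := Nat.le_of_dvd (by omega) hd
      rcases hk with ⟨_, hk⟩ | hk <;> omega
  · -- dihedral
    have hkk : 2 * k' = k := by rw [← hcA, Nat.card_congr e'.toEquiv, DihedralGroup.nat_card]
    rcases hk with ⟨hq5, hk⟩ | hk
    · have : k' = (Fintype.card F - 1) / 2 := by omega
      subst this
      exact dihedral_minus_maximal p hp (by omega) (prePSL M) (by rw [hcA, hk]) e'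
    · have : k' = (Fintype.card F + 1) / 2 := by omega
      subst this
      exact dihedral_plus_maximal p hp h7 h9 (prePSL M) (by rw [hcA, hk]) e'
  · exact (no_iso_of_sq_comm _ hsq A4_sq_not_comm ε).elim
  · exact (no_iso_of_sq_comm _ hsq S4_sq_not_comm ε).elim
  · exact (no_iso_of_sq_comm _ hsq A5_sq_not_comm ε).elim

/-- **The `S₄` case**: `M ∩ L ≅ A₄` is maximal in `L` when `p ≢ ±1 (mod 10)`. -/
theorem S4_coatom [Fintype F] (p : ℕ) [Fact p.Prime] [CharP F p] (hp : p ≠ 2)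
    (h5 : 5 ≤ Fintype.card F)
    (h40 : (Fintype.card F).Prime → Fintype.card F % 40 ∉ ({11, 19, 21, 29} : Finset ℕ))
    {M : Subgroup PG} (hM : IsCoatom M) (hLM : ¬ LL F ≤ M) (hpM : ¬ p ∣ Nat.card M)
    (e : M ≃* Equiv.Perm (Fin 4)) : IsCoatom (prePSL M) := by
  classical
  have hpp : p.Prime := Fact.out
  have h2 : (2 : F) ≠ 0 := two_ne_zero_of_char (E := F) p hp
  obtain ⟨m, hm⟩ := odd_card_of_char (F := F) p hp
  have hodd : Odd (Fintype.card F) := ⟨m, hm⟩
  have hq := S4_card_eq p hp h5 hM hLM hpM e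
  have h8 := S4_mod_eight h2 h5 hodd hM hLM e
  have h40' := h40 (by rw [hq]; exact hpp)
  rw [hq] at h8 h40' h5
  have h10 : ¬ (p % 10 = 1 ∨ p % 10 = 9) := by
    simp only [Finset.mem_insert, Finset.mem_singleton] at h40'
    omega
  have hcM : Nat.card M = 24 := by rw [Nat.card_congr e.toEquiv, card_S4]
  have hcA : Nat.card (prePSL M) = 12 := by
    have := card_eq_two_mul (index_LL h2) hM hLM
    rw [card_prePSL]; omega
  -- non-commuting squares
  obtain ⟨x, hx, y, hy, hxy⟩ : ∃ x ∈ prePSL M, ∃ y ∈ prePSL M, x ^ 2 * y ^ 2 ≠ y ^ 2 * x ^ 2 := by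
    set u : Equiv.Perm (Fin 4) := Equiv.swap 0 1 * Equiv.swap 1 2 with hu
    set v : Equiv.Perm (Fin 4) := Equiv.swap 0 1 * Equiv.swap 1 3 with hv
    have hu' := symm_mem_LL h2 hM hLM e u (by decide)
    have hv' := symm_mem_LL h2 hM hLM e v (by decide)
    rw [← range_toPGL] at hu' hv'
    obtain ⟨x, hx⟩ := hu'
    obtain ⟨y, hy⟩ := hv'
    refine ⟨x, ?_, y, ?_, ?_⟩
    · show ProjectiveSpecialLinearGroup.toPGL x ∈ M
      rw [hx]; exact (e.symm u).2
    · show ProjectiveSpecialLinearGroup.toPGL y ∈ M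
      rw [hy]; exact (e.symm v).2
    · intro h
      have h1 := congrArg (ProjectiveSpecialLinearGroup.toPGL (n := Fin 2) (R := F)) h
      simp only [map_mul, map_pow, hx, hy] at h1
      have h2' : (e.symm u) ^ 2 * (e.symm v) ^ 2 = (e.symm v) ^ 2 * (e.symm u) ^ 2 :=
        Subtype.ext (by simpa using h1)
      have h3 := congrArg e h2'
      simp only [map_mul, map_pow, MulEquiv.apply_symm_apply] at h3
      revert h3
      decide
  have hne : prePSL M ≠ ⊤ := by
    intro h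
    have hcP := L2Max.two_mul_card_psl (F := F) h2
    rw [← Subgroup.card_top (G := PF), ← h, hcA, hq] at hcP
    have : 5 * 5 ≤ p * p := Nat.mul_le_mul h5 h5
    have h3 : (5 + 1) * ((5 - 1) * 5) ≤ (p + 1) * ((p - 1) * p) :=
      Nat.mul_le_mul (by omega) (Nat.mul_le_mul (by omega) h5)
    omega
  rcases eq_top_or_exists_le_coatom (prePSL M) with h | ⟨X, hX, hle⟩
  · exact absurd h hne
  · rcases Cfsg.Agent.S5892.result p hodd (by rw [hq]; exact h5) X hX with h | ⟨_, k, _, ⟨e'⟩⟩ |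
      ⟨_, _, k, _, ⟨e'⟩⟩ | ⟨F₀, _, _, hc, _⟩ | ⟨F₀, _, _, r, hr, _, hc, _⟩ | ⟨h, _, _⟩ |
      ⟨_, _, _, ⟨ε⟩⟩ | ⟨_, h, _⟩
    · -- Borel
      exfalso
      have hdvd : 12 ∣ Nat.card X := by rw [← hcA]; exact Subgroup.card_dvd_of_le hle
      obtain ⟨j, hj⟩ := hdvd
      rw [hj, hq] at h
      have h8' : (p * (p - 1)) % 8 = 0 := by rw [← h]; omega
      rw [Nat.mul_mod] at h8'
      rcases h8 with h8 | h8
      · have : (p - 1) % 8 = 2 := by omega
        rw [h8, this] at h8'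
        norm_num at h8'
      · have : (p - 1) % 8 = 4 := by omega
        rw [h8, this] at h8'
        norm_num at h8'
    · exact (hxy (sq_comm_of_dihedral e' x y (hle hx) (hle hy))).elim
    · exact (hxy (sq_comm_of_dihedral e' x y (hle hx) (hle hy))).elim
    · exfalso
      rw [hq] at hc
      have := ((Nat.Prime.pow_eq_iff hpp).1 hc.symm).2
      omega
    · exfalso
      rw [hq] at hc
      have := ((Nat.Prime.pow_eq_iff hpp).1 hc.symm).2
      exact hr.one_lt.ne' this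
    · exfalso
      rw [hq] at h
      exact h10 h
    · have : prePSL M = X := by
        apply Subgroup.eq_of_le_of_card_ge hle
        rw [hcA, Nat.card_congr ε.toEquiv, card_A4]
      rw [this]
      exact hX
    · exfalso
      omega

end Cfsg.Agent.Helper18.PGL2
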