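import Cfsg.Agent.Helper18.PSL27b
import Cfsg.Agent.Helper4.S4Coxeter

set_option autoImplicit false

namespace Cfsg.Agent.Helper18.PSL2S4

open Matrix

variable {F : Type*} [Field F]

local notation "Mat" => Matrix (Fin 2) (Fin 2) F
local notation "SL" => Matrix.SpecialLinearGroup (Fin 2) F
local notation "PSL" => Matrix.ProjectiveSpecialLinearGroup (Fin 2) F

/-- elements of `SL₂` whose matrices differ by a sign have the same image in `PSL₂` -/
theorem mk_eq_of_val_eq_neg (g h : SL) (hgh : (g : Mat) = -(h : Mat)) :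
    (QuotientGroup.mk g : PSL) = QuotientGroup.mk h := by
  rw [QuotientGroup.eq, Matrix.SpecialLinearGroup.mem_center_iff]
  refine ⟨-1, by simp, ?_⟩
  have h1 : ((g⁻¹ * h : SL) : Mat) = -1 := by
    have : (h : Mat) = -(g : Mat) := by rw [hgh, neg_neg]
    rw [Matrix.SpecialLinearGroup.coe_mul, this, Matrix.mul_neg, ← Matrix.SpecialLinearGroup.coe_mul,
      inv_mul_cancel]
    rfl
  rw [h1]
  ext i j
  simp [Matrix.scalar_apply, Matrix.diagonal_apply, Matrix.one_apply]
  split_ifs <;> simp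

theorem mk_eq_one_imp (g : SL) (h : (QuotientGroup.mk g : PSL) = 1) :
    ∃ r : F, (g : Mat) = r • (1 : Mat) := by
  rw [QuotientGroup.eq_one_iff, Matrix.SpecialLinearGroup.mem_center_iff] at h
  obtain ⟨r, -, hr⟩ := h
  refine ⟨r, ?_⟩
  rw [← hr]
  ext i j
  simp [Matrix.scalar_apply, Matrix.diagonal_apply, Matrix.one_apply]

section construct

variable (x y r : F)

/-- `(i + j)/√2` -/
def mA : Mat := !![r * x, r * (y - 1); r * (y + 1), -(r * x)]
/-- `(j + k)/√2` -/
def mB : Mat := !![r * (x - y), r * (x + y); r * (x + y), r * (y - x)]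
/-- `(i - j)/√2` -/
def mC : Mat := !![-(r * x), r * (-1 - y); r * (1 - y), r * x]

variable {x y r}

theorem det_mA (hxy : x ^ 2 + y ^ 2 = -1) (hr : 2 * r * r = 1) : (mA x y r).det = 1 := by
  rw [mA, Matrix.det_fin_two_of]; linear_combination (-r * r) * hxy + hr

theorem det_mB (hxy : x ^ 2 + y ^ 2 = -1) (hr : 2 * r * r = 1) : (mB x y r).det = 1 := by
  rw [mB, Matrix.det_fin_two_of]; linear_combination (-2 * r * r) * hxy + hr

theorem det_mC (hxy : x ^ 2 + y ^ 2 = -1) (hr : 2 * r * r = 1) : (mC x y r).det = 1 := by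
  rw [mC, Matrix.det_fin_two_of]; linear_combination (-r * r) * hxy + hr

theorem mA_sq (hxy : x ^ 2 + y ^ 2 = -1) (hr : 2 * r * r = 1) : mA x y r * mA x y r = -1 := by
  rw [mA, Matrix.mul_fin_two]
  ext i j
  fin_cases i <;> fin_cases j <;> simp <;>
    first | linear_combination (r * r) * hxy - hr | ring

theorem mB_sq (hxy : x ^ 2 + y ^ 2 = -1) (hr : 2 * r * r = 1) : mB x y r * mB x y r = -1 := by
  rw [mB, Matrix.mul_fin_two]
  ext i j
  fin_cases i <;> fin_cases j <;> simp <;>
    first | linear_combination (2 * r * r) * hxy - hr | ring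

theorem mC_sq (hxy : x ^ 2 + y ^ 2 = -1) (hr : 2 * r * r = 1) : mC x y r * mC x y r = -1 := by
  rw [mC, Matrix.mul_fin_two]
  ext i j
  fin_cases i <;> fin_cases j <;> simp <;>
    first | linear_combination (r * r) * hxy - hr | ring

theorem mA_mC (hxy : x ^ 2 + y ^ 2 = -1) : mA x y r * mC x y r = -(mC x y r * mA x y r) := by
  rw [mA, mC, Matrix.mul_fin_two, Matrix.mul_fin_two]
  ext i j
  fin_cases i <;> fin_cases j <;> simp <;>
    first | linear_combination (-2 * r * r) * hxy | ring

theorem trace_mA_mB (hxy : x ^ 2 + y ^ 2 = -1) (hr : 2 * r * r = 1) :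
    (mA x y r * mB x y r).trace = -1 := by
  rw [mA, mB, Matrix.mul_fin_two, Matrix.trace_fin_two_of]
  linear_combination (2 * r * r) * hxy - hr

theorem trace_mB_mA (hxy : x ^ 2 + y ^ 2 = -1) (hr : 2 * r * r = 1) :
    (mB x y r * mA x y r).trace = -1 := by
  rw [Matrix.trace_mul_comm]; exact trace_mA_mB hxy hr

theorem trace_mB_mC (hxy : x ^ 2 + y ^ 2 = -1) (hr : 2 * r * r = 1) :
    (mB x y r * mC x y r).trace = 1 := by
  rw [mB, mC, Matrix.mul_fin_two, Matrix.trace_fin_two_of]
  linear_combination (-2 * r * r) * hxy + hr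

theorem trace_mC_mB (hxy : x ^ 2 + y ^ 2 = -1) (hr : 2 * r * r = 1) :
    (mC x y r * mB x y r).trace = 1 := by
  rw [Matrix.trace_mul_comm]; exact trace_mB_mC hxy hr

end construct

/-- `ABA = B - A` when `A² = B² = -1`, `det = 1` and `tr(AB) = -1` -/
theorem aba_of_trace_neg_one {A B : Mat} (hA : A * A = -1) (hB : B * B = -1)
    (hdA : A.det = 1) (hdB : B.det = 1) (ht : (A * B).trace = -1) : A * B * A = B - A := by
  have hd : (A * B).det = 1 := by rw [Matrix.det_mul, hdA, hdB, one_mul]
  have hc := Cfsg.Agent.Helper18.PSL27.cayley_two (A * B) hd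
  rw [ht] at hc
  have h1 : A * B * (A * B) * B = -(A * B * A) := by
    have : A * B * (A * B) * B = A * B * A * (B * B) := by noncomm_ring
    rw [this, hB]; noncomm_ring
  have h2 : ((-1 : F) • (A * B) - 1) * B = A - B := by
    have : ((-1 : F) • (A * B) - 1) * B = -(A * (B * B)) - B := by
      rw [Matrix.sub_mul, Matrix.smul_mul, Matrix.one_mul, neg_smul, one_smul, Matrix.mul_assoc]
    rw [this, hB]; noncomm_ring
  rw [hc, h2] at h1
  have : A * B * A = -(A - B) := by rw [h1, neg_neg]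
  rw [this]; abel

/-- `ABA = A + B` when `A² = B² = -1`, `det = 1` and `tr(AB) = 1` -/
theorem aba_of_trace_one {A B : Mat} (hA : A * A = -1) (hB : B * B = -1)
    (hdA : A.det = 1) (hdB : B.det = 1) (ht : (A * B).trace = 1) : A * B * A = A + B := by
  have hd : (A * B).det = 1 := by rw [Matrix.det_mul, hdA, hdB, one_mul]
  have hc := Cfsg.Agent.Helper18.PSL27.cayley_two (A * B) hd
  rw [ht] at hc
  have h1 : A * B * (A * B) * B = -(A * B * A) := by
    have : A * B * (A * B) * B = A * B * A * (B * B) := by noncomm_ring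
    rw [this, hB]; noncomm_ring
  have h2 : ((1 : F) • (A * B) - 1) * B = -A - B := by
    have : ((1 : F) • (A * B) - 1) * B = A * (B * B) - B := by
      rw [Matrix.sub_mul, Matrix.smul_mul, Matrix.one_mul, one_smul, Matrix.mul_assoc]
    rw [this, hB]; noncomm_ring
  rw [hc, h2] at h1
  have : A * B * A = -(-A - B) := by rw [h1, neg_neg]
  rw [this]; abel

end Cfsg.Agent.Helper18.PSL2S4
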