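import Cfsg.Agent.Helper18.PSL2S4

set_option autoImplicit false

namespace Cfsg.Agent.Helper18.PSL2S4

open Matrix

variable {F : Type*} [Field F] [Fintype F]

local notation "Mat" => Matrix (Fin 2) (Fin 2) F
local notation "SL" => Matrix.SpecialLinearGroup (Fin 2) F
local notation "PSL" => Matrix.ProjectiveSpecialLinearGroup (Fin 2) F

theorem mod_eight_of_sq (q : ℕ) (hq : q ^ 2 % 16 = 1) : q % 8 = 1 ∨ q % 8 = 7 := by
  have h1 : q % 16 < 16 := Nat.mod_lt _ (by norm_num)
  have h2 : (q % 16) ^ 2 % 16 = 1 := by rw [← Nat.pow_mod]; exact hq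
  have h3 : q % 8 = (q % 16) % 8 := by omega
  rw [h3]
  interval_cases (q % 16) <;> simp_all

theorem two_ne_zero_of_odd_card (hodd : Fintype.card F % 2 = 1) : (2 : F) ≠ 0 := by
  intro h2
  have hdvd : ringChar F ∣ 2 := ringChar.dvd (by exact_mod_cast h2)
  have h := (Nat.dvd_prime Nat.prime_two).1 hdvd
  rcases h with h | h
  · exact CharP.ringChar_ne_one h
  · have := FiniteField.even_card_iff_char_two.1 h
    omega

theorem exists_sq_add_sq : ∃ x y : F, x ^ 2 + y ^ 2 = -1 := by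
  have hp := CharP.char_is_prime F (ringChar F)
  haveI : NeZero (ringChar F) := ⟨hp.ne_zero⟩
  obtain ⟨a, b, hab⟩ := CharP.sq_add_sq F (ringChar F) (-1)
  exact ⟨a, b, by rw [hab]; simp⟩

/-- `S₄` embeds in `PSL₂(q)` when `q² ≡ 1 (mod 16)` -/
theorem exists_s4 (hq : Fintype.card F ^ 2 % 16 = 1) :
    ∃ H : Subgroup PSL, Nonempty (H ≃* Equiv.Perm (Fin 4)) := by
  have h8 := mod_eight_of_sq _ hq
  have hodd : Fintype.card F % 2 = 1 := by omega
  have h2 := two_ne_zero_of_odd_card hodd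
  have hsq : IsSquare (2 : F) := by
    rw [FiniteField.isSquare_two_iff]; omega
  obtain ⟨s, hs⟩ := hsq
  have hs0 : s ≠ 0 := by
    rintro rfl
    rw [mul_zero] at hs
    exact h2 hs
  obtain ⟨r, hr⟩ : ∃ r : F, 2 * r * r = 1 := ⟨s⁻¹, by rw [hs]; field_simp⟩
  obtain ⟨x, y, hxy⟩ := exists_sq_add_sq (F := F)
  let A : SL := ⟨mA x y r, det_mA hxy hr⟩
  let B : SL := ⟨mB x y r, det_mB hxy hr⟩
  let C : SL := ⟨mC x y r, det_mC hxy hr⟩
  have hAv : (A : Mat) = mA x y r := rfl
  have hBv : (B : Mat) = mB x y r := rfl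
  have hCv : (C : Mat) = mC x y r := rfl
  have hsqA : (QuotientGroup.mk A : PSL) * QuotientGroup.mk A = 1 := by
    rw [← QuotientGroup.mk_mul, ← QuotientGroup.mk_one]
    apply mk_eq_of_val_eq_neg
    rw [Matrix.SpecialLinearGroup.coe_mul, hAv, mA_sq hxy hr]; rfl
  have hsqB : (QuotientGroup.mk B : PSL) * QuotientGroup.mk B = 1 := by
    rw [← QuotientGroup.mk_mul, ← QuotientGroup.mk_one]
    apply mk_eq_of_val_eq_neg
    rw [Matrix.SpecialLinearGroup.coe_mul, hBv, mB_sq hxy hr]; rfl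
  have hsqC : (QuotientGroup.mk C : PSL) * QuotientGroup.mk C = 1 := by
    rw [← QuotientGroup.mk_mul, ← QuotientGroup.mk_one]
    apply mk_eq_of_val_eq_neg
    rw [Matrix.SpecialLinearGroup.coe_mul, hCv, mC_sq hxy hr]; rfl
  have hab : (QuotientGroup.mk A : PSL) * QuotientGroup.mk B * QuotientGroup.mk A =
      QuotientGroup.mk B * QuotientGroup.mk A * QuotientGroup.mk B := by
    rw [← QuotientGroup.mk_mul, ← QuotientGroup.mk_mul, ← QuotientGroup.mk_mul,
      ← QuotientGroup.mk_mul]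
    apply mk_eq_of_val_eq_neg
    rw [Matrix.SpecialLinearGroup.coe_mul, Matrix.SpecialLinearGroup.coe_mul,
      Matrix.SpecialLinearGroup.coe_mul, Matrix.SpecialLinearGroup.coe_mul, hAv, hBv,
      aba_of_trace_neg_one (mA_sq hxy hr) (mB_sq hxy hr) (det_mA hxy hr) (det_mB hxy hr)
        (trace_mA_mB hxy hr),
      aba_of_trace_neg_one (mB_sq hxy hr) (mA_sq hxy hr) (det_mB hxy hr) (det_mA hxy hr)
        (trace_mB_mA hxy hr)]
    abel
  have hbc : (QuotientGroup.mk B : PSL) * QuotientGroup.mk C * QuotientGroup.mk B =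
      QuotientGroup.mk C * QuotientGroup.mk B * QuotientGroup.mk C := by
    rw [← QuotientGroup.mk_mul, ← QuotientGroup.mk_mul, ← QuotientGroup.mk_mul,
      ← QuotientGroup.mk_mul]
    congr 1
    apply Subtype.ext
    rw [Matrix.SpecialLinearGroup.coe_mul, Matrix.SpecialLinearGroup.coe_mul,
      Matrix.SpecialLinearGroup.coe_mul, Matrix.SpecialLinearGroup.coe_mul, hBv, hCv,
      aba_of_trace_one (mB_sq hxy hr) (mC_sq hxy hr) (det_mB hxy hr) (det_mC hxy hr)
        (trace_mB_mC hxy hr),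
      aba_of_trace_one (mC_sq hxy hr) (mB_sq hxy hr) (det_mC hxy hr) (det_mB hxy hr)
        (trace_mC_mB hxy hr)]
    abel
  have hac : (QuotientGroup.mk A : PSL) * QuotientGroup.mk C =
      QuotientGroup.mk C * QuotientGroup.mk A := by
    rw [← QuotientGroup.mk_mul, ← QuotientGroup.mk_mul]
    apply mk_eq_of_val_eq_neg
    rw [Matrix.SpecialLinearGroup.coe_mul, Matrix.SpecialLinearGroup.coe_mul, hAv, hCv]
    exact mA_mC hxy
  obtain ⟨φ, hφa, hφb, hφc⟩ := Cfsg.Agent.Helper4.S4Coxeter.exists_hom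
    (QuotientGroup.mk A : PSL) (QuotientGroup.mk B) (QuotientGroup.mk C) hsqA hsqB hsqC hab hbc hac
  have hinj : Function.Injective φ := by
    apply Cfsg.Agent.Helper4.S4Coxeter.injective_of_ne_one
    rw [map_mul, hφa, hφc, ← QuotientGroup.mk_mul]
    intro h1
    obtain ⟨t, ht⟩ := mk_eq_one_imp _ h1
    rw [Matrix.SpecialLinearGroup.coe_mul, hAv, hCv, mA, mC, Matrix.mul_fin_two] at ht
    have e01 := congrFun (congrFun ht 0) 1
    have e00 := congrFun (congrFun ht 0) 0
    have e11 := congrFun (congrFun ht 1) 1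
    simp at e01 e00 e11
    have hx : x = 0 := by linear_combination -e01 - x * hr
    have hy : y = 0 := by
      have : 2 * y = 0 := by linear_combination e00 - e11 - (2 * y) * hr
      exact (mul_eq_zero.1 this).resolve_left h2
    rw [hx, hy] at hxy
    have : (1 : F) = 0 := by linear_combination hxy
    exact one_ne_zero this
  exact ⟨φ.range, ⟨(MonoidHom.ofInjective hinj).symm⟩⟩

end Cfsg.Agent.Helper18.PSL2S4
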