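import Mathlib
import Cfsg.Agent.Helper2.SLCard

set_option autoImplicit false

/-! Centralizer of the involution `diag(1,-1,-1)` in `PSL(3,F)`. -/

namespace Cfsg.Agent.Helper18.PSL3Inv

open Matrix

variable {F : Type*} [Field F]

/-- `diag(1,-1,-1)` -/
def Dm : Matrix (Fin 3) (Fin 3) F := !![1, 0, 0; 0, -1, 0; 0, 0, -1]

theorem Dm_eq : (Dm : Matrix (Fin 3) (Fin 3) F) = Matrix.diagonal ![1, -1, -1] := by
  ext i j
  fin_cases i <;> fin_cases j <;> simp [Dm]

theorem det_Dm : (Dm : Matrix (Fin 3) (Fin 3) F).det = 1 := by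
  simp [Dm, Matrix.det_fin_three]

/-- `diag(1,-1,-1)` in `SL₃` -/
def DS : Matrix.SpecialLinearGroup (Fin 3) F := ⟨Dm, det_Dm⟩

/-- block matrix `diag(d, B)` -/
def blk (B : Matrix (Fin 2) (Fin 2) F) (d : F) : Matrix (Fin 3) (Fin 3) F :=
  !![d, 0, 0; 0, B 0 0, B 0 1; 0, B 1 0, B 1 1]

theorem blk_mul (B C : Matrix (Fin 2) (Fin 2) F) (d e : F) :
    blk B d * blk C e = blk (B * C) (d * e) := by
  ext i j
  fin_cases i <;> fin_cases j <;>
    simp [blk, Matrix.mul_apply, Fin.sum_univ_three, Fin.sum_univ_two]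

theorem det_blk (B : Matrix (Fin 2) (Fin 2) F) (d : F) : (blk B d).det = d * B.det := by
  rw [Matrix.det_fin_two B]
  simp [blk, Matrix.det_fin_three]
  ring

theorem blk_one : blk (1 : Matrix (Fin 2) (Fin 2) F) 1 = 1 := by
  ext i j
  fin_cases i <;> fin_cases j <;> simp [blk]

theorem blk_comm_Dm (B : Matrix (Fin 2) (Fin 2) F) (d : F) : blk B d * Dm = Dm * blk B d := by
  ext i j
  fin_cases i <;> fin_cases j <;>
    simp [blk, Dm, Matrix.mul_apply, Fin.sum_univ_three]

theorem blk_injective {B C : Matrix (Fin 2) (Fin 2) F} {d e : F} (h : blk B d = blk C e) :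
    B = C ∧ d = e := by
  refine ⟨?_, ?_⟩
  · ext i j
    fin_cases i <;> fin_cases j
    · simpa [blk] using congrFun (congrFun h 1) 1
    · simpa [blk] using congrFun (congrFun h 1) 2
    · simpa [blk] using congrFun (congrFun h 2) 1
    · simpa [blk] using congrFun (congrFun h 2) 2
  · simpa [blk] using congrFun (congrFun h 0) 0

/-- inverse determinant of an element of `GL₂` -/
noncomputable def idet (B : GL (Fin 2) F) : F := ((Matrix.GeneralLinearGroup.det B)⁻¹ : Fˣ)

theorem idet_mul_det (B : GL (Fin 2) F) : idet B * (B : Matrix (Fin 2) (Fin 2) F).det = 1 := by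
  have h : ((Matrix.GeneralLinearGroup.det B : Fˣ) : F) = (B : Matrix (Fin 2) (Fin 2) F).det := rfl
  rw [idet, ← h, Units.inv_mul]

theorem idet_mul (B C : GL (Fin 2) F) : idet (B * C) = idet B * idet C := by
  simp only [idet, map_mul, mul_inv, Units.val_mul]

theorem idet_one : idet (1 : GL (Fin 2) F) = 1 := by
  simp [idet]

/-- `B ↦ diag((det B)⁻¹, B)` -/
noncomputable def psi0 : GL (Fin 2) F →* Matrix.SpecialLinearGroup (Fin 3) F where
  toFun B := ⟨blk (B : Matrix (Fin 2) (Fin 2) F) (idet B), by rw [det_blk, idet_mul_det]⟩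
  map_one' := by
    apply Subtype.ext
    simp only [Units.val_one, idet_one, blk_one]
    rfl
  map_mul' B C := by
    apply Subtype.ext
    show blk ((B * C : GL (Fin 2) F) : Matrix (Fin 2) (Fin 2) F) (idet (B * C)) =
      blk (B : Matrix (Fin 2) (Fin 2) F) (idet B) * blk (C : Matrix (Fin 2) (Fin 2) F) (idet C)
    rw [blk_mul, Units.val_mul, idet_mul]

theorem psi0_val (B : GL (Fin 2) F) :
    (psi0 B : Matrix (Fin 3) (Fin 3) F) = blk (B : Matrix (Fin 2) (Fin 2) F) (idet B) := rfl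

/-- the composite `GL₂ → SL₃ → PSL₃` -/
noncomputable def psi : GL (Fin 2) F →* Matrix.ProjectiveSpecialLinearGroup (Fin 3) F :=
  (QuotientGroup.mk' _).comp psi0

theorem psi_apply (B : GL (Fin 2) F) :
    psi B = (QuotientGroup.mk (psi0 B) : Matrix.ProjectiveSpecialLinearGroup (Fin 3) F) := rfl

/-- the image of `diag(1,-1,-1)` in `PSL₃` -/
def tD : Matrix.ProjectiveSpecialLinearGroup (Fin 3) F := QuotientGroup.mk DS

theorem psi_mem_centralizer (B : GL (Fin 2) F) :
    psi B ∈ Subgroup.centralizer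
      ({tD} : Set (Matrix.ProjectiveSpecialLinearGroup (Fin 3) F)) := by
  rw [Subgroup.mem_centralizer_iff]
  intro h hh
  rw [Set.mem_singleton_iff] at hh
  subst hh
  rw [psi_apply, tD, ← QuotientGroup.mk_mul, ← QuotientGroup.mk_mul]
  congr 1
  apply Subtype.ext
  rw [Matrix.SpecialLinearGroup.coe_mul, Matrix.SpecialLinearGroup.coe_mul]
  exact (blk_comm_Dm _ _).symm

theorem exists_of_mem_centralizer (h2 : (2 : F) ≠ 0)
    {x : Matrix.ProjectiveSpecialLinearGroup (Fin 3) F}
    (hx : x ∈ Subgroup.centralizer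
      ({tD} : Set (Matrix.ProjectiveSpecialLinearGroup (Fin 3) F))) :
    ∃ B : GL (Fin 2) F, psi B = x := by
  obtain ⟨A, rfl⟩ := QuotientGroup.mk_surjective x
  rw [Subgroup.mem_centralizer_iff] at hx
  have h1 := hx tD rfl
  rw [tD, ← QuotientGroup.mk_mul, ← QuotientGroup.mk_mul, QuotientGroup.eq] at h1
  obtain ⟨z, hz⟩ : ∃ z : Matrix.SpecialLinearGroup (Fin 3) F, z = (DS * A)⁻¹ * (A * DS) := ⟨_, rfl⟩
  rw [← hz, Matrix.SpecialLinearGroup.mem_center_iff] at h1
  obtain ⟨r, -, hr⟩ := h1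
  have h3 : A * DS = DS * A * z := by rw [hz]; group
  have h4 : (A : Matrix (Fin 3) (Fin 3) F) * Dm =
      Dm * (A : Matrix (Fin 3) (Fin 3) F) * (z : Matrix (Fin 3) (Fin 3) F) := by
    have := congrArg (fun X : Matrix.SpecialLinearGroup (Fin 3) F => (X : Matrix (Fin 3) (Fin 3) F)) h3
    simp only [Matrix.SpecialLinearGroup.coe_mul] at this
    exact this
  rw [← hr] at h4
  obtain ⟨a, ha⟩ : ∃ a : Matrix (Fin 3) (Fin 3) F, a = (A : Matrix (Fin 3) (Fin 3) F) := ⟨_, rfl⟩
  rw [← ha] at h4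
  have hdet : a.det = 1 := by rw [ha]; exact A.property
  rw [Matrix.det_fin_three] at hdet
  rw [Dm_eq] at h4
  have e : ∀ i j : Fin 3, a i j * (![1, -1, -1] : Fin 3 → F) j =
      (![1, -1, -1] : Fin 3 → F) i * a i j * r := by
    intro i j
    have := congrFun (congrFun h4 i) j
    simpa only [Matrix.mul_diagonal, Matrix.diagonal_mul, Matrix.scalar_apply] using this
  have e00 : a 0 0 = a 0 0 * r := by simpa using e 0 0
  have e01 : -a 0 1 = a 0 1 * r := by simpa using e 0 1
  have e02 : -a 0 2 = a 0 2 * r := by simpa using e 0 2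
  have e10 : a 1 0 = -(a 1 0 * r) := by simpa using e 1 0
  have e11 : a 1 1 = a 1 1 * r := by simpa using e 1 1
  have e12 : a 1 2 = a 1 2 * r := by simpa using e 1 2
  have e20 : a 2 0 = -(a 2 0 * r) := by simpa using e 2 0
  have e21 : a 2 1 = a 2 1 * r := by simpa using e 2 1
  have e22 : a 2 2 = a 2 2 * r := by simpa using e 2 2
  have key : ∀ c : F, c = c * r → r ≠ 1 → c = 0 := by
    intro c hc hr1
    have : c * (1 - r) = 0 := by linear_combination hc
    rcases mul_eq_zero.mp this with h | h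
    · exact h
    · exact absurd (sub_eq_zero.mp h).symm hr1
  have hr1 : r = 1 := by
    by_contra hr1
    rw [key _ e00 hr1, key _ e11 hr1, key _ e12 hr1, key _ e21 hr1, key _ e22 hr1] at hdet
    simp at hdet
  subst hr1
  have key2 : ∀ c : F, 2 * c = 0 → c = 0 := by
    intro c hc
    rcases mul_eq_zero.mp hc with h | h
    · exact absurd h h2
    · exact h
  have h01 : a 0 1 = 0 := key2 _ (by linear_combination -e01)
  have h02 : a 0 2 = 0 := key2 _ (by linear_combination -e02)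
  have h10 : a 1 0 = 0 := key2 _ (by linear_combination e10)
  have h20 : a 2 0 = 0 := key2 _ (by linear_combination e20)
  rw [h01, h02, h10, h20] at hdet
  obtain ⟨B, hB⟩ : ∃ B : Matrix (Fin 2) (Fin 2) F, B = !![a 1 1, a 1 2; a 2 1, a 2 2] := ⟨_, rfl⟩
  have hBdet : a 0 0 * B.det = 1 := by
    rw [hB, Matrix.det_fin_two_of]
    linear_combination hdet
  have hB0 : B.det ≠ 0 := by
    intro h0
    rw [h0, mul_zero] at hBdet
    exact zero_ne_one hBdet
  refine ⟨Matrix.GeneralLinearGroup.mkOfDetNeZero B hB0, ?_⟩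
  rw [psi_apply]
  congr 1
  apply Subtype.ext
  rw [psi0_val, ← ha]
  have hv : ((Matrix.GeneralLinearGroup.mkOfDetNeZero B hB0 : GL (Fin 2) F) :
      Matrix (Fin 2) (Fin 2) F) = B := rfl
  have hid : idet (Matrix.GeneralLinearGroup.mkOfDetNeZero B hB0) = a 0 0 := by
    have := idet_mul_det (Matrix.GeneralLinearGroup.mkOfDetNeZero B hB0)
    rw [hv] at this
    exact mul_right_cancel₀ hB0 (this.trans hBdet.symm)
  rw [hv, hid, hB]
  ext i j
  fin_cases i <;> fin_cases j <;> simp [blk, h01, h02, h10, h20]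

theorem range_psi (h2 : (2 : F) ≠ 0) :
    (psi : GL (Fin 2) F →* _).range = Subgroup.centralizer
      ({tD} : Set (Matrix.ProjectiveSpecialLinearGroup (Fin 3) F)) := by
  ext x
  constructor
  · rintro ⟨B, rfl⟩
    exact psi_mem_centralizer B
  · intro hx
    obtain ⟨B, hB⟩ := exists_of_mem_centralizer h2 hx
    exact ⟨B, hB⟩

theorem psi_eq_one_iff (B : GL (Fin 2) F) :
    psi B = 1 ↔ ∃ r : F, r ^ 3 = 1 ∧ (B : Matrix (Fin 2) (Fin 2) F) = Matrix.scalar (Fin 2) r := by
  rw [psi_apply, QuotientGroup.eq_one_iff, Matrix.SpecialLinearGroup.mem_center_iff]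
  constructor
  · rintro ⟨r, hr3, hr⟩
    refine ⟨r, by simpa using hr3, ?_⟩
    rw [psi0_val] at hr
    ext i j
    fin_cases i <;> fin_cases j
    · simpa [blk, Matrix.scalar_apply, Matrix.diagonal_apply] using (congrFun (congrFun hr 1) 1).symm
    · simpa [blk, Matrix.scalar_apply, Matrix.diagonal_apply] using (congrFun (congrFun hr 1) 2).symm
    · simpa [blk, Matrix.scalar_apply, Matrix.diagonal_apply] using (congrFun (congrFun hr 2) 1).symm
    · simpa [blk, Matrix.scalar_apply, Matrix.diagonal_apply] using (congrFun (congrFun hr 2) 2).symm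
  · rintro ⟨r, hr3, hB⟩
    refine ⟨r, by simpa using hr3, ?_⟩
    rw [psi0_val, hB]
    have hd : (Matrix.scalar (Fin 2) r : Matrix (Fin 2) (Fin 2) F).det = r * r := by
      rw [Matrix.det_fin_two]
      simp [Matrix.scalar_apply, Matrix.diagonal_apply]
    have hr0 : r ≠ 0 := by
      rintro rfl
      simp at hr3
    have hid : idet B = r := by
      have := idet_mul_det B
      rw [hB, hd] at this
      have h3 : r * (r * r) = 1 := by rw [← hr3]; ring
      exact mul_right_cancel₀ (mul_ne_zero hr0 hr0) (this.trans h3.symm)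
    rw [hid]
    ext i j
    fin_cases i <;> fin_cases j <;> simp [blk, Matrix.scalar_apply, Matrix.diagonal_apply]

/-- scalar matrix in `GL₂` -/
noncomputable def scal (u : Fˣ) : GL (Fin 2) F :=
  Units.map (Matrix.scalar (Fin 2) : F →+* Matrix (Fin 2) (Fin 2) F).toMonoidHom u

theorem scal_val (u : Fˣ) :
    (scal u : Matrix (Fin 2) (Fin 2) F) = Matrix.scalar (Fin 2) (u : F) := rfl

theorem ker_le_center : (psi : GL (Fin 2) F →* _).ker ≤ Subgroup.center (GL (Fin 2) F) := by
  intro B hB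
  rw [MonoidHom.mem_ker, psi_eq_one_iff] at hB
  obtain ⟨r, -, hr⟩ := hB
  rw [Subgroup.mem_center_iff]
  intro g
  apply Units.ext
  rw [Units.val_mul, Units.val_mul, hr]
  exact ((Matrix.scalar_commute r (fun _ => Commute.all _ _) (g : Matrix (Fin 2) (Fin 2) F))).symm.eq

theorem card_ker [Fintype F] :
    Nat.card (psi : GL (Fin 2) F →* _).ker = Nat.gcd (Fintype.card F - 1) 3 := by
  rw [← Cfsg.Agent.Helper2.card_units_field,
    ← Cfsg.Agent.Helper2.card_rootsOfUnity_field]
  symm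
  have hmem : ∀ u : rootsOfUnity 3 F, scal (u : Fˣ) ∈ (psi : GL (Fin 2) F →* _).ker := by
    intro u
    rw [MonoidHom.mem_ker, psi_eq_one_iff]
    exact ⟨((u : Fˣ) : F), (mem_rootsOfUnity' 3 _).mp u.2, scal_val _⟩
  refine Nat.card_congr (Equiv.ofBijective (fun u => ⟨scal (u : Fˣ), hmem u⟩) ⟨?_, ?_⟩)
  · intro u v huv
    have h1 : (scal (u : Fˣ) : Matrix (Fin 2) (Fin 2) F) = scal (v : Fˣ) :=
      congrArg (fun X : (psi : GL (Fin 2) F →* _).ker => ((X : GL (Fin 2) F) :
        Matrix (Fin 2) (Fin 2) F)) huv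
    rw [scal_val, scal_val] at h1
    have h2 := congrFun (congrFun h1 0) 0
    simp only [Matrix.scalar_apply, Matrix.diagonal_apply_eq] at h2
    exact Subtype.ext (Units.ext h2)
  · rintro ⟨B, hB⟩
    have hB' := hB
    rw [MonoidHom.mem_ker, psi_eq_one_iff] at hB'
    obtain ⟨r, hr3, hr⟩ := hB'
    refine ⟨rootsOfUnity.mkOfPowEq r hr3, ?_⟩
    apply Subtype.ext
    apply Units.ext
    show ((scal _ : GL (Fin 2) F) : Matrix (Fin 2) (Fin 2) F) = B
    rw [scal_val, hr]
    rfl

end Cfsg.Agent.Helper18.PSL3Inv
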