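import Mathlib
import Cfsg.Agent.Helper18.PSL3Inv
import Cfsg.Agent.S2577

set_option autoImplicit false

/-! Every involution of `PSL(3,F)`, `F` of odd characteristic, is conjugate to the image of
`diag(1,-1,-1)`; the centralizer of an involution. -/

namespace Cfsg.Agent.Helper18.PSL3Inv

open Matrix Module

variable {F : Type*} [Field F]

/-- conjugation identifies centralizers -/
def centralizerConjEquiv {G : Type*} [Group G] (g t : G) :
    Subgroup.centralizer ({t} : Set G) ≃* Subgroup.centralizer ({g * t * g⁻¹} : Set G) where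
  toFun x := ⟨g * x * g⁻¹, by
    have hx := x.2
    rw [Subgroup.mem_centralizer_iff] at hx ⊢
    intro h hh
    rw [Set.mem_singleton_iff] at hh
    subst hh
    have := hx t rfl
    calc g * t * g⁻¹ * (g * x * g⁻¹) = g * (t * x) * g⁻¹ := by group
      _ = g * (x * t) * g⁻¹ := by rw [this]
      _ = g * x * g⁻¹ * (g * t * g⁻¹) := by group⟩
  invFun y := ⟨g⁻¹ * y * g, by
    have hy := y.2
    rw [Subgroup.mem_centralizer_iff] at hy ⊢
    intro h hh
    rw [Set.mem_singleton_iff] at hh
    subst hh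
    have := hy (g * h * g⁻¹) rfl
    calc h * (g⁻¹ * y * g) = g⁻¹ * ((g * h * g⁻¹) * y) * g := by group
      _ = g⁻¹ * (y * (g * h * g⁻¹)) * g := by rw [this]
      _ = g⁻¹ * y * g * h := by group⟩
  left_inv x := by
    apply Subtype.ext
    show g⁻¹ * (g * x * g⁻¹) * g = x
    group
  right_inv y := by
    apply Subtype.ext
    show g * (g⁻¹ * y * g) * g⁻¹ = y
    group
  map_mul' x y := by
    apply Subtype.ext
    show g * (x * y) * g⁻¹ = (g * x * g⁻¹) * (g * y * g⁻¹)
    group

/-- `diag(1,-1,-1)` has split type with one-dimensional `1`-eigenspace -/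
theorem RS_Dm (h2 : (2 : F) ≠ 0) : Cfsg.Agent.S2577.RS (Dm : Matrix (Fin 3) (Fin 3) F) 1 := by
  refine ⟨-1, neg_ne_zero.mpr one_ne_zero, ?_, ?_⟩
  · rw [Dm_eq, Matrix.diagonal_mul_diagonal, neg_mul_neg, one_mul, one_smul, ← Matrix.diagonal_one]
    congr 1
    funext i
    fin_cases i <;> simp
  · rw [neg_neg]
    have hsp : End.eigenspace (Cfsg.Agent.S2577.lin (Dm : Matrix (Fin 3) (Fin 3) F)) 1 =
        Submodule.span F {(Pi.single 0 1 : Fin 3 → F)} := by
      ext v
      rw [End.mem_eigenspace_iff, Cfsg.Agent.S2577.lin_apply, one_smul,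
        Submodule.mem_span_singleton, Dm_eq]
      constructor
      · intro h
        have h1 := congrFun h 1
        have h2' := congrFun h 2
        simp only [Matrix.mulVec_diagonal] at h1 h2'
        have e1 : v 1 = 0 := by
          have : 2 * v 1 = 0 := by
            have : (-1 : F) * v 1 = v 1 := by simpa using h1
            linear_combination -this
          rcases mul_eq_zero.mp this with h | h
          · exact absurd h h2
          · exact h
        have e2 : v 2 = 0 := by
          have : 2 * v 2 = 0 := by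
            have : (-1 : F) * v 2 = v 2 := by simpa using h2'
            linear_combination -this
          rcases mul_eq_zero.mp this with h | h
          · exact absurd h h2
          · exact h
        refine ⟨v 0, ?_⟩
        funext i
        fin_cases i <;> simp [e1, e2]
      · rintro ⟨c, rfl⟩
        funext i
        fin_cases i <;> simp [Matrix.mulVec_diagonal]
    rw [hsp]
    apply finrank_span_singleton
    intro h
    have := congrFun h 0
    simp at this

theorem center_pow_three {z : Matrix.SpecialLinearGroup (Fin 3) F}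
    (hz : z ∈ Subgroup.center (Matrix.SpecialLinearGroup (Fin 3) F)) : z ^ 3 = 1 := by
  rw [Matrix.SpecialLinearGroup.mem_center_iff] at hz
  obtain ⟨r, hr3, hr⟩ := hz
  rw [Fintype.card_fin] at hr3
  apply Subtype.ext
  rw [Matrix.SpecialLinearGroup.coe_pow, ← hr, ← map_pow, hr3, map_one]
  rfl

theorem exists_conj (h2 : (2 : F) ≠ 0) (t : Matrix.ProjectiveSpecialLinearGroup (Fin 3) F)
    (ht : orderOf t = 2) : ∃ g : Matrix.ProjectiveSpecialLinearGroup (Fin 3) F,
      g * t * g⁻¹ = tD := by
  obtain ⟨T0, rfl⟩ := QuotientGroup.mk_surjective t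
  have ht2 : ((T0 : Matrix.ProjectiveSpecialLinearGroup (Fin 3) F)) ^ 2 = 1 := by
    rw [← ht]; exact pow_orderOf_eq_one _
  have ht1 : ((T0 : Matrix.ProjectiveSpecialLinearGroup (Fin 3) F)) ≠ 1 := by
    intro h
    rw [h, orderOf_one] at ht
    omega
  have hz : T0 ^ 2 ∈ Subgroup.center (Matrix.SpecialLinearGroup (Fin 3) F) := by
    rw [← QuotientGroup.eq_one_iff, QuotientGroup.mk_pow]
    exact ht2
  obtain ⟨T, hTdef⟩ : ∃ T : Matrix.SpecialLinearGroup (Fin 3) F, T = T0 ^ 3 := ⟨_, rfl⟩
  have hT : ((T : Matrix.ProjectiveSpecialLinearGroup (Fin 3) F)) = T0 := by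
    rw [hTdef, QuotientGroup.mk_pow, pow_succ, ht2, one_mul]
  have hTT : T * T = 1 := by
    have := center_pow_three hz
    rw [hTdef, ← pow_add]
    rw [← pow_mul] at this
    exact this
  rw [← hT] at ht1 ⊢
  obtain ⟨M, hMdef⟩ : ∃ M : Matrix (Fin 3) (Fin 3) F, M = (T : Matrix (Fin 3) (Fin 3) F) :=
    ⟨_, rfl⟩
  have hMdet : M.det = 1 := by rw [hMdef]; exact T.property
  have hMM : M * M = 1 := by
    rw [hMdef, ← Matrix.SpecialLinearGroup.coe_mul, hTT]
    rfl
  have hM : M * M = (1 : F) • (1 : Matrix (Fin 3) (Fin 3) F) := by rw [hMM, one_smul]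
  have hu : IsUnit M := by
    rw [Matrix.isUnit_iff_isUnit_det, hMdet]
    exact isUnit_one
  have hns : ∀ b : F, M ≠ b • (1 : Matrix (Fin 3) (Fin 3) F) := by
    intro b hb
    apply ht1
    rw [QuotientGroup.eq_one_iff, Matrix.SpecialLinearGroup.mem_center_iff]
    refine ⟨b, ?_, ?_⟩
    · rw [Fintype.card_fin]
      have := hMdet
      rw [hb, Matrix.det_smul, Matrix.det_one, mul_one, Fintype.card_fin] at this
      exact this
    · rw [← hMdef, hb, Matrix.smul_one_eq_diagonal]
      rfl
  rcases Cfsg.Agent.S2577.classify (by norm_num : 1 ≤ 3) h2 hu hM hns with ⟨k, hk1, hk2, hRS⟩ | hNS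
  · have hk : k = 1 := by omega
    subst hk
    obtain ⟨Hm, c, hHu, hc, hH⟩ := Cfsg.Agent.S2577.conj_of_RS h2 hRS (RS_Dm h2)
    have hdH : Hm.det ≠ 0 := by
      have := (Matrix.isUnit_iff_isUnit_det Hm).mp hHu
      exact this.ne_zero
    have hc3 : c ^ 3 = 1 := by
      have := congrArg Matrix.det hH
      rw [Matrix.det_mul, Matrix.det_mul, Matrix.det_smul, hMdet, det_Dm, Fintype.card_fin,
        mul_one, mul_one] at this
      have h' : (c ^ 3 - 1) * Hm.det = 0 := by linear_combination -this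
      rcases mul_eq_zero.mp h' with h | h
      · exact sub_eq_zero.mp h
      · exact absurd h hdH
    have hDD : (Dm : Matrix (Fin 3) (Fin 3) F) * Dm = 1 := by
      rw [Dm_eq, Matrix.diagonal_mul_diagonal, ← Matrix.diagonal_one]
      congr 1
      funext i
      fin_cases i <;> simp
    have hcc : c * c = 1 := by
      have e1 : Hm * M * M = Hm := by rw [Matrix.mul_assoc, hMM, Matrix.mul_one]
      have e2 : Hm * M * M = (c * c) • Hm := by
        rw [hH, Matrix.mul_assoc, hH, ← Matrix.mul_assoc, Matrix.smul_mul, Matrix.mul_smul,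
          smul_smul, hDD, Matrix.smul_mul, Matrix.one_mul]
      have e3 : Hm = (c * c) • Hm := e1.symm.trans e2
      obtain ⟨u, rfl⟩ := hHu
      have e4 := congrArg (fun X : Matrix (Fin 3) (Fin 3) F => X * ((u⁻¹ : (Matrix (Fin 3) (Fin 3) F)ˣ) :
        Matrix (Fin 3) (Fin 3) F)) e3
      simp only [Matrix.smul_mul, Units.mul_inv] at e4
      have e5 : (1 : F) • (1 : Matrix (Fin 3) (Fin 3) F) = (c * c) • 1 := by rw [one_smul]; exact e4
      exact (Cfsg.Agent.S2577.smul_one_inj (by norm_num : 1 ≤ 3) e5).symm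
    have hc1 : c = 1 := by linear_combination hc3 - c * hcc
    rw [hc1, one_smul] at hH
    obtain ⟨P, hPdef⟩ : ∃ P : Matrix (Fin 3) (Fin 3) F, P = blk 1 (Hm.det)⁻¹ * Hm := ⟨_, rfl⟩
    have hPdet : P.det = 1 := by
      rw [hPdef, Matrix.det_mul, det_blk, Matrix.det_one, mul_one, inv_mul_cancel₀ hdH]
    have hPM : P * M = Dm * P := by
      rw [hPdef, Matrix.mul_assoc, hH, ← Matrix.mul_assoc, blk_comm_Dm, Matrix.mul_assoc]
    obtain ⟨PS, hPS⟩ : ∃ PS : Matrix.SpecialLinearGroup (Fin 3) F,
        (PS : Matrix (Fin 3) (Fin 3) F) = P := ⟨⟨P, hPdet⟩, rfl⟩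
    have hPT : PS * T = DS * PS := by
      apply Subtype.ext
      rw [Matrix.SpecialLinearGroup.coe_mul, Matrix.SpecialLinearGroup.coe_mul, ← hMdef, hPS]
      exact hPM
    refine ⟨(PS : Matrix.ProjectiveSpecialLinearGroup (Fin 3) F), ?_⟩
    rw [tD, ← QuotientGroup.mk_mul, hPT, QuotientGroup.mk_mul, mul_inv_cancel_right]
  · exfalso
    obtain ⟨c, hc, hMc⟩ := hNS
    have : (1 : F) • (1 : Matrix (Fin 3) (Fin 3) F) = c • 1 := hM.symm.trans hMc
    have hc1 := Cfsg.Agent.S2577.smul_one_inj (by norm_num : 1 ≤ 3) this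
    rw [← hc1] at hc
    exact hc IsSquare.one

theorem main [Fintype F] (hF : Odd (Fintype.card F))
    (t : Matrix.ProjectiveSpecialLinearGroup (Fin 3) F) (ht : orderOf t = 2) :
    ∃ (Z : Subgroup (GL (Fin 2) F)) (_ : Z.Normal), Z ≤ Subgroup.center (GL (Fin 2) F) ∧
      Nat.card Z = Nat.gcd (Fintype.card F - 1) 3 ∧
      Nonempty (↥(Subgroup.centralizer
        ({t} : Set (Matrix.ProjectiveSpecialLinearGroup (Fin 3) F))) ≃* GL (Fin 2) F ⧸ Z) := by
  have h2 : (2 : F) ≠ 0 := by
    intro h2
    have hdvd : ringChar F ∣ 2 := ringChar.dvd (by exact_mod_cast h2)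
    rcases (Nat.dvd_prime Nat.prime_two).1 hdvd with h | h
    · exact CharP.ringChar_ne_one h
    · have := FiniteField.even_card_iff_char_two.1 h
      rcases hF with ⟨m, hm⟩
      omega
  obtain ⟨g, hg⟩ := exists_conj h2 t ht
  refine ⟨(psi : GL (Fin 2) F →* _).ker, inferInstance, ker_le_center, card_ker, ⟨?_⟩⟩
  have e1 := centralizerConjEquiv g t
  rw [hg] at e1
  have e2 := MulEquiv.subgroupCongr (range_psi (F := F) h2)
  have e3 := QuotientGroup.quotientKerEquivRange (psi : GL (Fin 2) F →* _)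
  exact e1.trans (e2.symm.trans e3.symm)

end Cfsg.Agent.Helper18.PSL3Inv
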