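import Mathlib
import Cfsg.Agent.S0721
import Cfsg.Agent.Helper4.CharSimple
import Cfsg.Agent.Helper1.MinNormal

set_option autoImplicit false

/-! The socle of a finite primitive permutation group (S3680). -/

namespace Cfsg.Agent.Helper18.PrimSocle

/-- `(Fin a → T) × (Fin b → T) ≃* (Fin (a + b) → T)` -/
def appendMulEquiv (T : Type*) [Group T] (a b : ℕ) :
    ((Fin a → T) × (Fin b → T)) ≃* (Fin (a + b) → T) where
  toFun p := Fin.append p.1 p.2
  invFun f := (fun i => f (Fin.castAdd b i), fun j => f (Fin.natAdd a j))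
  left_inv p := by
    ext i <;> simp
  right_inv f := by
    funext i
    refine Fin.addCases ?_ ?_ i <;> intro j <;> simp
  map_mul' p q := by
    funext i
    refine Fin.addCases ?_ ?_ i <;> intro j <;> simp

variable {G Ω : Type*} [Group G] [MulAction G Ω]

/-- a nontrivial normal subgroup of a faithful primitive group is transitive -/
theorem pretransitive_of_normal [FaithfulSMul G Ω] [MulAction.IsPreprimitive G Ω]
    (M : Subgroup G) [M.Normal] (hM : M ≠ ⊥) : MulAction.IsPretransitive M Ω := by
  apply MulAction.IsQuasiPreprimitive.isPretransitive_of_normal (G := G)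
  intro h
  apply hM
  rw [Subgroup.eq_bot_iff_forall]
  intro m hm
  apply FaithfulSMul.eq_of_smul_eq_smul (α := Ω)
  intro ω
  have h1 : ω ∈ MulAction.fixedPoints M Ω := by rw [h]; trivial
  rw [one_smul]
  exact h1 ⟨m, hm⟩

/-- an element centralizing a transitive subgroup and fixing a point is trivial -/
theorem eq_one_of_centralizes [FaithfulSMul G Ω] (M : Subgroup G)
    [MulAction.IsPretransitive M Ω] {c : G} (hc : c ∈ Subgroup.centralizer (M : Set G))
    {ω : Ω} (hω : c • ω = ω) : c = 1 := by
  apply FaithfulSMul.eq_of_smul_eq_smul (α := Ω)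
  intro ω'
  obtain ⟨m, hm⟩ := MulAction.exists_smul_eq M ω ω'
  have hm' : (m : G) • ω = ω' := hm
  rw [one_smul, ← hm', smul_smul, ← (Subgroup.mem_centralizer_iff.mp hc) (m : G) m.2, ← smul_smul, hω]

/-- if `X, Y ≤ C(V)` with `V` and `Y` transitive, then `X ≤ Y` -/
theorem le_of_centralizer [FaithfulSMul G Ω] [Nonempty Ω] (V X Y : Subgroup G)
    [MulAction.IsPretransitive V Ω] [MulAction.IsPretransitive Y Ω]
    (hX : X ≤ Subgroup.centralizer (V : Set G)) (hY : Y ≤ Subgroup.centralizer (V : Set G)) :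
    X ≤ Y := by
  intro x hx
  obtain ⟨ω⟩ := ‹Nonempty Ω›
  obtain ⟨y, hy⟩ := MulAction.exists_smul_eq Y ω (x • ω)
  have hy' : (y : G) • ω = x • ω := hy
  have h1 : ((y : G)⁻¹ * x) • ω = ω := by
    rw [← smul_smul, ← hy', smul_smul, inv_mul_cancel, one_smul]
  have h2 : (y : G)⁻¹ * x ∈ Subgroup.centralizer (V : Set G) :=
    Subgroup.mul_mem _ (Subgroup.inv_mem _ (hY y.2)) (hX hx)
  have h3 := eq_one_of_centralizes V h2 h1
  have h4 : x = (y : G) := by
    have := congrArg (fun t => (y : G) * t) h3
    simpa using this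
  rw [h4]; exact y.2

/-- two transitive subgroups centralizing each other are isomorphic -/
theorem nonempty_mulEquiv_of_centralizing [FaithfulSMul G Ω] [Nonempty Ω] (V W : Subgroup G)
    [MulAction.IsPretransitive V Ω] [MulAction.IsPretransitive W Ω]
    (hWV : W ≤ Subgroup.centralizer (V : Set G)) : Nonempty (W ≃* V) := by
  obtain ⟨ω₀⟩ := ‹Nonempty Ω›
  have hVW : V ≤ Subgroup.centralizer (W : Set G) := by
    intro v hv
    rw [Subgroup.mem_centralizer_iff]
    intro w hw
    exact ((Subgroup.mem_centralizer_iff.mp (hWV hw)) v hv).symm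
  have hcomm : ∀ (v : V) (w : W), (v : G) * (w : G) = (w : G) * (v : G) := fun v w =>
    (Subgroup.mem_centralizer_iff.mp (hWV w.2)) (v : G) v.2
  have huniq : ∀ v v' : V, (v : G) • ω₀ = (v' : G) • ω₀ → v = v' := by
    intro v v' h
    have h1 : ((v : G)⁻¹ * (v' : G)) • ω₀ = ω₀ := by
      rw [← smul_smul, ← h, smul_smul, inv_mul_cancel, one_smul]
    have h2 : (v : G)⁻¹ * (v' : G) ∈ Subgroup.centralizer (W : Set G) :=
      hVW (Subgroup.mul_mem _ (Subgroup.inv_mem _ v.2) v'.2)
    have h3 := eq_one_of_centralizes W h2 h1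
    apply Subtype.ext
    have := congrArg (fun t => (v : G) * t) h3
    simpa using this.symm
  have hex : ∀ w : W, ∃ v : V, (v : G) • ω₀ = (w : G) • ω₀ := fun w =>
    MulAction.exists_smul_eq V ω₀ ((w : G) • ω₀)
  choose f hf using hex
  have hfmul : ∀ w₁ w₂ : W, f (w₁ * w₂) = f w₂ * f w₁ := by
    intro w₁ w₂
    apply huniq
    rw [hf]
    show ((w₁ : G) * (w₂ : G)) • ω₀ = ((f w₂ : G) * (f w₁ : G)) • ω₀
    calc ((w₁ : G) * (w₂ : G)) • ω₀ = (w₁ : G) • ((w₂ : G) • ω₀) := by rw [smul_smul]
      _ = (w₁ : G) • ((f w₂ : G) • ω₀) := by rw [hf w₂]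
      _ = ((w₁ : G) * (f w₂ : G)) • ω₀ := by rw [smul_smul]
      _ = ((f w₂ : G) * (w₁ : G)) • ω₀ := by rw [hcomm]
      _ = (f w₂ : G) • ((w₁ : G) • ω₀) := by rw [smul_smul]
      _ = (f w₂ : G) • ((f w₁ : G) • ω₀) := by rw [hf w₁]
      _ = ((f w₂ : G) * (f w₁ : G)) • ω₀ := by rw [smul_smul]
  let φ : W →* V := MonoidHom.mk' (fun w => (f w)⁻¹) (by
    intro w₁ w₂
    rw [hfmul, mul_inv_rev])
  have hφ : ∀ w, φ w = (f w)⁻¹ := fun w => rfl
  refine ⟨MulEquiv.ofBijective φ ⟨?_, ?_⟩⟩
  · rw [injective_iff_map_eq_one]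
    intro w hw
    rw [hφ, inv_eq_one] at hw
    have h1 : (w : G) • ω₀ = ω₀ := by
      rw [← hf w, hw]; exact one_smul _ _
    apply Subtype.ext
    exact eq_one_of_centralizes V (hWV w.2) h1
  · intro v
    obtain ⟨w, hw⟩ := MulAction.exists_smul_eq W ω₀ ((v : G)⁻¹ • ω₀)
    have hw' : (w : G) • ω₀ = (v : G)⁻¹ • ω₀ := hw
    refine ⟨w, ?_⟩
    rw [hφ]
    have : f w = v⁻¹ := by
      apply huniq
      rw [hf, hw']; rfl
    rw [this, inv_inv]


section main
variable [Finite G] [FaithfulSMul G Ω] [Finite Ω]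

/-- minimal normal subgroups -/
def IsMin (V : Subgroup G) : Prop :=
  V.Normal ∧ V ≠ ⊥ ∧ ∀ M : Subgroup G, M.Normal → M ≤ V → M = ⊥ ∨ M = V

omit [MulAction G Ω] [Finite G] [FaithfulSMul G Ω] [Finite Ω] in
theorem isMin_disjoint {V W : Subgroup G} (hV : IsMin V) (hW : IsMin W) (hne : V ≠ W) :
    Disjoint V W := by
  rw [disjoint_iff]
  have := hV.1
  have := hW.1
  rcases hV.2.2 (V ⊓ W) inferInstance inf_le_left with h | h
  · exact h
  · exfalso
    have hVW : V ≤ W := by rw [← h]; exact inf_le_right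
    rcases hW.2.2 V hV.1 hVW with h' | h'
    · exact hV.2.1 h'
    · exact hne h'

omit [MulAction G Ω] [Finite G] [FaithfulSMul G Ω] [Finite Ω] in
theorem isMin_le_centralizer {V W : Subgroup G} (hV : IsMin V) (hW : IsMin W) (hne : V ≠ W) :
    W ≤ Subgroup.centralizer (V : Set G) := by
  intro w hw
  rw [Subgroup.mem_centralizer_iff]
  intro v hv
  exact (Subgroup.commute_of_normal_of_disjoint V W hV.1 hW.1 (isMin_disjoint hV hW hne) v w hv hw).eq

theorem main (hprim : MulAction.IsPreprimitive G Ω) (N : Subgroup G)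
    (hN : N = sSup {V : Subgroup G | V.Normal ∧ V ≠ ⊥ ∧
      ∀ M : Subgroup G, M.Normal → M ≤ V → M = ⊥ ∨ M = V}) :
    (∃ p : ℕ, p.Prime ∧ IsMulCommutative N ∧ (∀ x : N, x ^ p = 1) ∧
      MulAction.IsPretransitive N Ω ∧ ∀ ω : Ω, MulAction.stabilizer N ω = ⊥) ∨
    (∃ (T : Type) (_ : Group T) (m : ℕ), 1 ≤ m ∧ IsSimpleGroup T ∧ ¬ IsMulCommutative T ∧
      Nonempty (N ≃* (Fin m → T))) := by
  classical
  have := hprim
  by_cases htriv : Subsingleton G
  · left
    have : Subsingleton N := inferInstance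
    refine ⟨2, Nat.prime_two, ⟨⟨fun a b => Subsingleton.elim _ _⟩⟩, fun x => Subsingleton.elim _ _,
      ⟨fun x y => ⟨1, ?_⟩⟩, fun ω => Subsingleton.elim _ _⟩
    obtain ⟨g, hg⟩ := MulAction.exists_smul_eq G x y
    rw [one_smul, ← hg, Subsingleton.elim g 1, one_smul]
  · rw [not_subsingleton_iff_nontrivial] at htriv
    have : Nonempty Ω := by
      by_contra hempty
      rw [not_nonempty_iff] at hempty
      obtain ⟨g, hg⟩ := exists_ne (1 : G)
      apply hg
      apply FaithfulSMul.eq_of_smul_eq_smul (α := Ω)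
      intro ω
      exact isEmptyElim ω
    obtain ⟨V, hV⟩ : ∃ V : Subgroup G, IsMin V := by
      let 𝒩 : Set (Subgroup G) := {K | K.Normal ∧ K ≠ ⊥}
      have h𝒩 : 𝒩.Nonempty := ⟨⊤, inferInstance, top_ne_bot⟩
      obtain ⟨V, ⟨hVn, hVne⟩, hVmin⟩ := wellFounded_lt.has_min 𝒩 h𝒩
      refine ⟨V, hVn, hVne, ?_⟩
      intro K hK hle
      by_contra hcon
      push Not at hcon
      exact hVmin K ⟨hK, hcon.1⟩ (lt_of_le_of_ne hle hcon.2)
    have := hV.1
    have hVt : MulAction.IsPretransitive V Ω := pretransitive_of_normal V hV.2.1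
    obtain ⟨T, hTg, m, hTs, hm, ⟨eV⟩⟩ := Cfsg.Agent.S0721.result V hV.2.1 hV.2.2
    by_cases hab : IsMulCommutative V
    · -- abelian: `V` is the unique minimal normal subgroup
      left
      have hVC : V ≤ Subgroup.centralizer (V : Set G) := by
        intro v hv
        rw [Subgroup.mem_centralizer_iff]
        intro h hh
        have := hab.is_comm.comm (⟨h, hh⟩ : V) ⟨v, hv⟩
        exact congrArg Subtype.val this
      have hall : ∀ U, IsMin U → U = V := by
        intro U hU
        by_contra hne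
        have h1 : U ≤ V :=
          le_of_centralizer (Ω := Ω) V U V (isMin_le_centralizer hV hU (Ne.symm hne)) hVC
        rcases hV.2.2 U hU.1 h1 with h | h
        · exact hU.2.1 h
        · exact hne h
      have hNV : N = V := by
        rw [hN]
        apply le_antisymm
        · apply sSup_le
          intro U hU
          rw [hall U hU]
        · exact le_sSup hV
      have hs : Group.IsSolvable V := Group.isSolvable_of_comm (fun a b => hab.is_comm.comm a b)
      obtain ⟨_, p, hp, hpow⟩ := Cfsg.Agent.Helper1.minNormal_elementary V hV.2.1 hs hV.2.2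
      rw [hNV]
      refine ⟨p, hp, hab, fun x => Subtype.ext (by simpa using hpow x x.2), hVt, fun ω => ?_⟩
      rw [Subgroup.eq_bot_iff_forall]
      intro v hv
      have hv' : (v : G) • ω = ω := hv
      apply Subtype.ext
      exact eq_one_of_centralizes V (hVC v.2) hv'
    · right
      have hTna : ¬ IsMulCommutative T := by
        intro hT
        apply hab
        refine ⟨⟨fun a b => ?_⟩⟩
        apply eV.injective
        rw [map_mul, map_mul]
        funext i
        exact hT.is_comm.comm _ _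
      by_cases hall : ∀ U, IsMin U → U = V
      · have hNV : N = V := by
          rw [hN]
          apply le_antisymm
          · apply sSup_le
            intro U hU
            rw [hall U hU]
          · exact le_sSup hV
        rw [hNV]
        exact ⟨T, hTg, m, hm, hTs, hTna, ⟨eV⟩⟩
      · push Not at hall
        obtain ⟨W, hW, hWV⟩ := hall
        have := hW.1
        have hWt : MulAction.IsPretransitive W Ω := pretransitive_of_normal W hW.2.1
        have hWC : W ≤ Subgroup.centralizer (V : Set G) := isMin_le_centralizer hV hW (Ne.symm hWV)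
        have hall2 : ∀ U, IsMin U → U = V ∨ U = W := by
          intro U hU
          by_cases hUV : U = V
          · exact Or.inl hUV
          · right
            have h1 : U ≤ W :=
              le_of_centralizer (Ω := Ω) V U W (isMin_le_centralizer hV hU (Ne.symm hUV)) hWC
            rcases hW.2.2 U hU.1 h1 with h | h
            · exact absurd h hU.2.1
            · exact h
        have hNVW : N = V ⊔ W := by
          rw [hN]
          apply le_antisymm
          · apply sSup_le
            intro U hU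
            rcases hall2 U hU with h | h
            · rw [h]; exact le_sup_left
            · rw [h]; exact le_sup_right
          · exact sup_le (le_sSup hV) (le_sSup hW)
        obtain ⟨e1⟩ := Cfsg.Agent.Helper4.nonempty_prod_mulEquiv_sup V W hV.1 hW.1
          (isMin_disjoint hV hW (Ne.symm hWV))
        obtain ⟨e2⟩ := nonempty_mulEquiv_of_centralizing (Ω := Ω) V W hWC
        refine ⟨T, hTg, m + m, by omega, hTs, hTna, ⟨?_⟩⟩
        exact (MulEquiv.subgroupCongr hNVW).trans (e1.symm.trans
          ((MulEquiv.prodCongr eV (e2.trans eV)).trans (appendMulEquiv T m m)))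

end main

end Cfsg.Agent.Helper18.PrimSocle
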