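import Mathlib
import Cfsg.Agent.Helper12.Mat2Comm

/-! 2×2 matrix lemmas for quaternion subgroups of `GL₂`. -/

set_option autoImplicit false

namespace Cfsg.Agent.Helper18.Q8Norm

open Cfsg Cfsg.Agent.Helper12

variable {F : Type*} [Field F]

local notation "M2" => Matrix (Fin 2) (Fin 2) F

theorem isScalar2_smul_one (c : F) : IsScalar2 (c • (1 : M2)) := by
  refine ⟨?_, ?_, ?_⟩ <;> simp

theorem smul_eq_zero_imp {A : M2} (hA : ¬ IsScalar2 A) {c d : F}
    (h : c • A = d • (1 : M2)) : c = 0 ∧ d = 0 := by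
  by_cases hc : c = 0
  · refine ⟨hc, ?_⟩
    rw [hc, zero_smul] at h
    have := congrFun (congrFun h 0) 0
    simpa using this.symm
  · exfalso
    apply hA
    have : A = (c⁻¹ * d) • (1 : M2) := by
      rw [mul_smul, ← h, smul_smul, inv_mul_cancel₀ hc, one_smul]
    rw [this]
    exact isScalar2_smul_one _

/-- `A² = -1`, `A` not scalar: trace `0`, det `1`. -/
theorem trace_det_of_sq_neg_one {A : M2} (hA : ¬ IsScalar2 A) (h : A * A = -1) :
    A.trace = 0 ∧ A.det = 1 := by
  have hc := cayley2 A
  rw [h] at hc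
  have h1 : A.trace • A = (A.det - 1) • (1 : M2) := by
    rw [sub_smul, one_smul]
    have : A.trace • A = A.det • (1 : M2) + -1 := by
      rw [hc]; abel
    rw [this]; abel
  obtain ⟨h2, h3⟩ := smul_eq_zero_imp hA h1
  exact ⟨h2, by linear_combination h3⟩

/-- `det A = 1`, `A` not scalar, `A³ = z`: then `tr A = -z`, `z² = 1`. -/
theorem trace_of_cube_scalar {A : M2} (hA : ¬ IsScalar2 A) (hdet : A.det = 1) {z : F}
    (h : A * A * A = z • (1 : M2)) : A.trace = -z ∧ z * z = 1 := by
  have hc := cayley2 A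
  rw [hdet, one_smul] at hc
  have h3 : A * A * A = (A.trace ^ 2 - 1) • A - A.trace • (1 : M2) := by
    rw [hc, Matrix.sub_mul, Matrix.smul_mul, hc, Matrix.one_mul, smul_sub, sub_smul, one_smul,
      smul_smul]
    rw [sq]
    abel
  rw [h] at h3
  have h1 : (A.trace ^ 2 - 1) • A = (z + A.trace) • (1 : M2) := by
    rw [add_smul, h3]; abel
  obtain ⟨h2, h4⟩ := smul_eq_zero_imp hA h1
  have ht : A.trace = -z := by linear_combination h4
  refine ⟨ht, ?_⟩
  rw [ht] at h2
  linear_combination h2

/-- anticommuting `U, V` with `U² = V² = -1`: `U` is not scalar. -/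
theorem not_isScalar2_of_anticomm (h2 : (2 : F) ≠ 0) {U V : M2} (hU : U * U = -1)
    (hV : V * V = -1) (hVU : V * U = -(U * V)) : ¬ IsScalar2 U := by
  intro hs
  obtain ⟨c, hc⟩ := (isScalar2_iff U).1 hs
  have h1 : V * U = U * V := by
    rw [hc]; simp
  rw [h1] at hVU
  have h3 : (2 : F) • (U * V) = 0 := by
    rw [two_smul]
    nth_rewrite 1 [hVU]
    simp
  have h4 : U * V = 0 := by
    rcases smul_eq_zero.1 h3 with h | h
    · exact absurd h h2
    · exact h
  have h5 : (U * V) * (V * U) = 1 := by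
    rw [Matrix.mul_assoc, ← Matrix.mul_assoc V V U, hV]
    simp [hU]
  rw [h4, Matrix.zero_mul] at h5
  have := congrFun (congrFun h5 0) 0
  simp at this

/-- a matrix commuting with anticommuting `U, V` (`U² = V² = -1`) is scalar -/
theorem isScalar2_of_commute (h2 : (2 : F) ≠ 0) {U V X : M2} (hU : U * U = -1)
    (hV : V * V = -1) (hVU : V * U = -(U * V)) (hXU : U * X = X * U) (hXV : V * X = X * V) :
    IsScalar2 X := by
  have hUns := not_isScalar2_of_anticomm h2 hU hV hVU
  obtain ⟨a, b, hab⟩ := exists_eq_add_smul_of_comm U X hUns hXU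
  have hb : b = 0 := by
    by_contra hb
    rw [hab] at hXV
    simp only [Matrix.mul_add, Matrix.add_mul, Matrix.mul_smul, Matrix.smul_mul, Matrix.mul_one,
      Matrix.one_mul] at hXV
    have h3 : b • (V * U) = b • (U * V) := add_left_cancel hXV
    have h4 : V * U = U * V := by
      have := congrArg (fun M : M2 => b⁻¹ • M) h3
      simpa [smul_smul, inv_mul_cancel₀ hb] using this
    rw [h4] at hVU
    have h5 : (2 : F) • (U * V) = 0 := by
      rw [two_smul]
      nth_rewrite 1 [hVU]
      simp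
    have h6 : U * V = 0 := by
      rcases smul_eq_zero.1 h5 with h | h
      · exact absurd h h2
      · exact h
    have h7 : (U * V) * (V * U) = 1 := by
      rw [Matrix.mul_assoc, ← Matrix.mul_assoc V V U, hV]
      simp [hU]
    rw [h6, Matrix.zero_mul] at h7
    have := congrFun (congrFun h7 0) 0
    simp at this
  rw [hab, hb, zero_smul, add_zero]
  exact isScalar2_smul_one a

end Cfsg.Agent.Helper18.Q8Norm
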