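import Mathlib
import Cfsg.Agent.Helper18.Q8Norm1
import Cfsg.Agent.Helper12.SL2OrderFour
import Cfsg.Prelude.Def_GeometricClasses

/-! Quaternion subgroups of `GL₂(F)`: generators and matrix relations. -/

set_option autoImplicit false

namespace Cfsg.Agent.Helper18.Q8Norm

open Cfsg Cfsg.Agent.Helper12 QuaternionGroup

variable {F : Type*} [Field F]

local notation "M2" => Matrix (Fin 2) (Fin 2) F
local notation "S2" => Matrix.SpecialLinearGroup (Fin 2) F
local notation "G2" => GL (Fin 2) F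

theorem q8_facts : (a 1 : QuaternionGroup 2) * a 1 ≠ 1 ∧
    (xa 0 : QuaternionGroup 2) * xa 0 = a 1 * a 1 ∧
    (xa 0 : QuaternionGroup 2) * a 1 * (xa 0)⁻¹ = (a 1)⁻¹ ∧
    (a 1 * a 1) * (a 1 * a 1) = (1 : QuaternionGroup 2) := by decide

theorem q8_elems : ∀ q : QuaternionGroup 2,
    ∃ i : Fin 4, q = a 1 ^ (i : ℕ) ∨ q = xa 0 * a 1 ^ (i : ℕ) := by decide

structure Gens (R : Subgroup G2) (u v : G2) : Prop where
  hu : u ∈ R
  hv : v ∈ R
  huu : u * u ≠ 1
  hvv : v * v = u * u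
  hconj : v * u * v⁻¹ = u⁻¹
  h4 : (u * u) * (u * u) = 1
  helems : ∀ r ∈ R, ∃ i : ℕ, r = u ^ i ∨ r = v * u ^ i

theorem exists_gens (R : Subgroup G2) (hR : Nonempty (↥R ≃* QuaternionGroup 2)) :
    ∃ u v : G2, Gens R u v := by
  obtain ⟨eQ⟩ := hR
  obtain ⟨f, hf⟩ : ∃ f : QuaternionGroup 2 →* G2, f = R.subtype.comp eQ.symm.toMonoidHom :=
    ⟨_, rfl⟩
  have hfinj : Function.Injective f := by
    rw [hf]
    exact R.subtype_injective.comp eQ.symm.injective
  have hfR : ∀ q, f q ∈ R := by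
    intro q; rw [hf]; exact (eQ.symm q).2
  have hsurj : ∀ r ∈ R, ∃ q, f q = r := by
    intro r hr
    refine ⟨eQ ⟨r, hr⟩, ?_⟩
    rw [hf]
    simp
  obtain ⟨h1, h2, h3, h4⟩ := q8_facts
  refine ⟨f (a 1), f (xa 0), hfR _, hfR _, ?_, ?_, ?_, ?_, ?_⟩
  · rw [← map_mul]
    intro h
    exact h1 (hfinj (h.trans (map_one f).symm))
  · rw [← map_mul, ← map_mul, h2]
  · rw [← map_inv, ← map_inv, ← map_mul, ← map_mul, h3]
  · rw [← map_mul, ← map_mul, h4, map_one]
  · intro r hr
    obtain ⟨q, rfl⟩ := hsurj r hr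
    obtain ⟨i, hi | hi⟩ := q8_elems q
    · exact ⟨i, Or.inl (by rw [hi, map_pow])⟩
    · exact ⟨i, Or.inr (by rw [hi, map_mul, map_pow])⟩

theorem matrix_facts {R : Subgroup G2} {u v : G2} (hg : Gens R u v) :
    (u : M2) * (u : M2) = -1 ∧ (v : M2) * (v : M2) = -1 ∧
      (v : M2) * (u : M2) = -((u : M2) * (v : M2)) := by
  obtain ⟨U, hU⟩ : ∃ U : M2, U = (u : M2) := ⟨_, rfl⟩
  obtain ⟨V, hV⟩ : ∃ V : M2, V = (v : M2) := ⟨_, rfl⟩
  rw [← hU, ← hV]
  have hvv : V * V = U * U := by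
    have := congrArg (fun g : G2 => (g : M2)) hg.hvv
    simpa [hU, hV] using this
  have hZZ : (U * U) * (U * U) = 1 := by
    have := congrArg (fun g : G2 => (g : M2)) hg.h4
    simpa [hU, hV] using this
  have hZ1 : U * U ≠ 1 := by
    intro h
    apply hg.huu
    apply Units.ext
    simpa [hU] using h
  have hvu : v * u = u⁻¹ * v := by
    rw [← hg.hconj]; group
  have huvu : u * (v * u) = v := by
    rw [hvu]; group
  have hUVU : U * (V * U) = V := by
    have := congrArg (fun g : G2 => (g : M2)) huvu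
    simpa [hU, hV] using this
  -- `Z = U * U` is scalar
  have hZs : IsScalar2 (U * U) := by
    by_contra hns
    have hZU : (U * U) * U = U * (U * U) := by rw [Matrix.mul_assoc]
    have hZV : (U * U) * V = V * (U * U) := by
      rw [← hvv, Matrix.mul_assoc]
    obtain ⟨a1, b1, h1⟩ := exists_eq_add_smul_of_comm (U * U) U hns hZU
    obtain ⟨a2, b2, h2'⟩ := exists_eq_add_smul_of_comm (U * U) V hns hZV
    have hcomm : U * V = V * U := by
      obtain ⟨Z, hZ⟩ : ∃ Z : M2, Z = U * U := ⟨_, rfl⟩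
      rw [← hZ] at h1 h2'
      rw [h1, h2']
      simp only [Matrix.mul_add, Matrix.add_mul, Matrix.mul_smul, Matrix.smul_mul, Matrix.mul_one,
        Matrix.one_mul, smul_add, smul_smul]
      module
    have hcomm' : u * v = v * u := by
      apply Units.ext
      simpa [hU, hV] using hcomm
    apply hg.huu
    have h5 : v * u * v⁻¹ = u := by rw [← hcomm']; group
    have h6 : u = u⁻¹ := h5.symm.trans hg.hconj
    calc u * u = u * u⁻¹ := by rw [← h6]
      _ = 1 := mul_inv_cancel u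
  obtain ⟨c, hc⟩ := (isScalar2_iff _).1 hZs
  have hc2 : c * c = 1 := by
    rw [hc] at hZZ
    have := congrFun (congrFun hZZ 0) 0
    simpa using this
  have hc1 : c = -1 := by
    have h7 : (c - 1) * (c + 1) = 0 := by linear_combination hc2
    rcases mul_eq_zero.1 h7 with h | h
    · exfalso
      apply hZ1
      rw [hc, sub_eq_zero.1 h, one_smul]
    · linear_combination h
  have hUU : U * U = -1 := by rw [hc, hc1]; simp
  refine ⟨hUU, by rw [hvv, hUU], ?_⟩
  have h8 : U * (U * (V * U)) = U * V := by rw [hUVU]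
  rw [← Matrix.mul_assoc, hUU] at h8
  have h9 : -(V * U) = U * V := by simpa using h8
  rw [← h9, neg_neg]

end Cfsg.Agent.Helper18.Q8Norm
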