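import Mathlib
import Cfsg.Agent.Helper18.Q8Norm2
import Cfsg.Agent.Helper12.SL2SylowTwoB
import Cfsg.Agent.Helper12.SL2Conj

/-! Normaliser of a quaternion subgroup of `GL₂(F)`: elements of order 3 and traces. -/

set_option autoImplicit false

namespace Cfsg.Agent.Helper18.Q8Norm

open Cfsg Cfsg.Agent.Helper12 QuaternionGroup

variable {F : Type*} [Field F]

local notation "M2" => Matrix (Fin 2) (Fin 2) F
local notation "S2" => Matrix.SpecialLinearGroup (Fin 2) F
local notation "G2" => GL (Fin 2) F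

theorem mem_normalizer_of_conj_gens {R : Subgroup G2} {u v : G2} (hg : Gens R u v) [Finite R]
    (g : G2) (hu : g * u * g⁻¹ ∈ R) (hv : g * v * g⁻¹ ∈ R) :
    g ∈ Subgroup.normalizer (R : Set G2) := by
  have hall : ∀ r ∈ R, g * r * g⁻¹ ∈ R := by
    intro r hr
    obtain ⟨i, rfl | rfl⟩ := hg.helems r hr
    · rw [← conj_pow]; exact pow_mem hu i
    · have : g * (v * u ^ i) * g⁻¹ = (g * v * g⁻¹) * (g * u * g⁻¹) ^ i := by
        rw [conj_pow]; group
      rw [this]
      exact mul_mem hv (pow_mem hu i)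
  have hle : R.map (MulAut.conj g).toMonoidHom ≤ R := by
    rintro _ ⟨r, hr, rfl⟩
    exact hall r hr
  have heq : R.map (MulAut.conj g).toMonoidHom = R := by
    apply Subgroup.eq_of_le_of_card_ge hle
    rw [Subgroup.card_map_of_injective (MulAut.conj g).injective]
  rw [Subgroup.mem_normalizer_iff]
  intro h
  constructor
  · exact hall h
  · intro hh
    rw [← heq] at hh
    obtain ⟨r, hr, hrh⟩ := hh
    have : r = h := by
      have h1 : g * r * g⁻¹ = g * h * g⁻¹ := hrh
      have h2 : r = g⁻¹ * (g * r * g⁻¹) * g := by group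
      rw [h2, h1]; group
    rw [← this]; exact hr

/-- element of `GL₂` of determinant one as element of `SL₂` -/
def toS2 (g : G2) (h : (g : M2).det = 1) : S2 := ⟨(g : M2), h⟩

theorem toGL_toS2 (g : G2) (h : (g : M2).det = 1) :
    Matrix.SpecialLinearGroup.toGL (toS2 g h) = g := Units.ext rfl

theorem coe_toS2 (g : G2) (h : (g : M2).det = 1) : ((toS2 g h : S2) : M2) = (g : M2) := rfl

theorem mem_specialLinear_iff (g : G2) :
    g ∈ Cfsg.Geo.specialLinear (Fin 2) F ↔ (g : M2).det = 1 := by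
  unfold Cfsg.Geo.specialLinear
  rw [MonoidHom.mem_ker, Units.ext_iff, Matrix.GeneralLinearGroup.val_det_apply]
  rfl

theorem toGL_mem_specialLinear (w : S2) :
    Matrix.SpecialLinearGroup.toGL w ∈ Cfsg.Geo.specialLinear (Fin 2) F := by
  rw [mem_specialLinear_iff]
  exact w.2

/-- data attached to a quaternion subgroup -/
structure Data (R : Subgroup G2) (u' v' ω : S2) : Prop where
  hu : Matrix.SpecialLinearGroup.toGL u' ∈ R
  huu : u' * u' = -1
  hvv : v' * v' = -1
  hvu : v' * u' = -(u' * v')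
  hω : Matrix.SpecialLinearGroup.toGL ω ∈ Subgroup.normalizer (R : Set G2)
  hωn : Matrix.SpecialLinearGroup.toGL (-ω) ∈ Subgroup.normalizer (R : Set G2)
  hωs : ¬ IsScalar2 (ω : M2)
  htr : (ω : M2).trace = 1 ∨ (ω : M2).trace = -1
  hcent : ∀ X : M2, (u' : M2) * X = X * (u' : M2) → (v' : M2) * X = X * (v' : M2) → IsScalar2 X
  hvR : Matrix.SpecialLinearGroup.toGL v' ∈ R

theorem exists_data (h2 : (2 : F) ≠ 0) (R : Subgroup G2)
    (hR : Nonempty (↥R ≃* QuaternionGroup 2)) : ∃ u' v' ω : S2, Data R u' v' ω := by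
  have hfin : Finite R := by
    obtain ⟨e⟩ := hR
    exact Finite.of_equiv _ e.symm.toEquiv
  obtain ⟨u, v, hg⟩ := exists_gens R hR
  obtain ⟨hUU, hVV, hVU⟩ := matrix_facts hg
  have hUV : (u : M2) * (v : M2) = -((v : M2) * (u : M2)) := by rw [hVU, neg_neg]
  have hUns := not_isScalar2_of_anticomm h2 hUU hVV hVU
  have hVns := not_isScalar2_of_anticomm h2 hVV hUU hUV
  obtain ⟨_, hdU⟩ := trace_det_of_sq_neg_one hUns hUU
  obtain ⟨_, hdV⟩ := trace_det_of_sq_neg_one hVns hVV
  obtain ⟨u', hu'⟩ : ∃ u' : S2, u' = toS2 u hdU := ⟨_, rfl⟩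
  obtain ⟨v', hv'⟩ : ∃ v' : S2, v' = toS2 v hdV := ⟨_, rfl⟩
  have hcu : (u' : M2) = (u : M2) := by rw [hu']; rfl
  have hcv : (v' : M2) = (v : M2) := by rw [hv']; rfl
  have hgu : Matrix.SpecialLinearGroup.toGL u' = u := by rw [hu']; exact toGL_toS2 u hdU
  have hgv : Matrix.SpecialLinearGroup.toGL v' = v := by rw [hv']; exact toGL_toS2 v hdV
  have huu : u' * u' = -1 := by
    apply Subtype.ext
    rw [Matrix.SpecialLinearGroup.coe_mul, sl2_neg_one_coe, hcu, hUU]
  have hvv : v' * v' = -1 := by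
    apply Subtype.ext
    rw [Matrix.SpecialLinearGroup.coe_mul, sl2_neg_one_coe, hcv, hVV]
  have hvu : v' * u' = -(u' * v') := by
    apply Subtype.ext
    rw [Matrix.SpecialLinearGroup.coe_mul, Matrix.SpecialLinearGroup.coe_neg,
      Matrix.SpecialLinearGroup.coe_mul, hcu, hcv, hVU]
  obtain ⟨ω, hω1, hω2⟩ := exists_omega h2 huu hvv hvu
  have hωN : Matrix.SpecialLinearGroup.toGL ω ∈ Subgroup.normalizer (R : Set G2) := by
    apply mem_normalizer_of_conj_gens hg
    · rw [← hgu, ← map_inv, ← map_mul, ← map_mul, hω1, hgv]; exact hg.hv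
    · rw [← hgv, ← map_inv, ← map_mul, ← map_mul, hω2, map_mul, hgu, hgv]
      exact mul_mem hg.hu hg.hv
  have hnegconj : ∀ x : S2, (-ω) * x * (-ω)⁻¹ = ω * x * ω⁻¹ := by
    intro x
    rw [inv_neg, neg_mul, neg_mul, mul_neg, neg_neg]
  have hωnN : Matrix.SpecialLinearGroup.toGL (-ω) ∈ Subgroup.normalizer (R : Set G2) := by
    apply mem_normalizer_of_conj_gens hg
    · rw [← hgu, ← map_inv, ← map_mul, ← map_mul, hnegconj, hω1, hgv]; exact hg.hv
    · rw [← hgv, ← map_inv, ← map_mul, ← map_mul, hnegconj, hω2, map_mul, hgu, hgv]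
      exact mul_mem hg.hu hg.hv
  have hcent : ∀ X : M2, (u' : M2) * X = X * (u' : M2) → (v' : M2) * X = X * (v' : M2) →
      IsScalar2 X := by
    intro X h1 h3
    rw [hcu] at h1
    rw [hcv] at h3
    exact isScalar2_of_commute h2 hUU hVV hVU h1 h3
  -- `ω` is not scalar
  have hωs : ¬ IsScalar2 (ω : M2) := by
    intro hs
    obtain ⟨c, hc⟩ := (isScalar2_iff _).1 hs
    have h1 : ω * u' = u' * ω := by
      apply Subtype.ext
      rw [Matrix.SpecialLinearGroup.coe_mul, Matrix.SpecialLinearGroup.coe_mul, hc]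
      simp
    have h3 : v' = u' := by
      rw [← hω1, h1]; group
    rw [h3, huu, neg_neg] at hvu
    exact sl2_one_ne_neg_one h2 hvu.symm
  -- `ω ^ 3` centralises `u'`, `v'`
  have hvuv : v' * (u' * v') = u' := by
    calc v' * (u' * v') = (v' * u') * v' := by group
      _ = -(u' * v') * v' := by rw [hvu]
      _ = -(u' * (v' * v')) := by rw [neg_mul, mul_assoc]
      _ = u' := by rw [hvv, mul_neg, neg_neg, mul_one]
  have hω3 : ω * (u' * v') * ω⁻¹ = u' := by
    have : ω * (u' * v') * ω⁻¹ = (ω * u' * ω⁻¹) * (ω * v' * ω⁻¹) := by group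
    rw [this, hω1, hω2, hvuv]
  have hc1 : (ω * ω * ω) * u' = u' * (ω * ω * ω) := by
    have e1 : ω * u' = v' * ω := mul_inv_eq_iff_eq_mul.1 hω1
    have e2 : ω * v' = (u' * v') * ω := mul_inv_eq_iff_eq_mul.1 hω2
    have e3 : ω * (u' * v') = u' * ω := mul_inv_eq_iff_eq_mul.1 hω3
    calc (ω * ω * ω) * u' = ω * ω * (ω * u') := by group
      _ = ω * ω * (v' * ω) := by rw [e1]
      _ = ω * (ω * v') * ω := by group
      _ = ω * ((u' * v') * ω) * ω := by rw [e2]
      _ = (ω * (u' * v')) * ω * ω := by group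
      _ = (u' * ω) * ω * ω := by rw [e3]
      _ = u' * (ω * ω * ω) := by group
  have hc2 : (ω * ω * ω) * v' = v' * (ω * ω * ω) := by
    have e1 : ω * u' = v' * ω := mul_inv_eq_iff_eq_mul.1 hω1
    have e2 : ω * v' = (u' * v') * ω := mul_inv_eq_iff_eq_mul.1 hω2
    have e3 : ω * (u' * v') = u' * ω := mul_inv_eq_iff_eq_mul.1 hω3
    calc (ω * ω * ω) * v' = ω * ω * (ω * v') := by group
      _ = ω * ω * ((u' * v') * ω) := by rw [e2]
      _ = ω * (ω * (u' * v')) * ω := by group
      _ = ω * (u' * ω) * ω := by rw [e3]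
      _ = (ω * u') * ω * ω := by group
      _ = (v' * ω) * ω * ω := by rw [e1]
      _ = v' * (ω * ω * ω) := by group
  have hX : IsScalar2 ((ω : M2) * (ω : M2) * (ω : M2)) := by
    apply hcent
    · have := congrArg (fun g : S2 => (g : M2)) hc1
      simp only [Matrix.SpecialLinearGroup.coe_mul] at this
      exact this.symm
    · have := congrArg (fun g : S2 => (g : M2)) hc2
      simp only [Matrix.SpecialLinearGroup.coe_mul] at this
      exact this.symm
  obtain ⟨z, hz⟩ := (isScalar2_iff _).1 hX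
  obtain ⟨ht, hzz⟩ := trace_of_cube_scalar hωs ω.2 hz
  have htr : (ω : M2).trace = 1 ∨ (ω : M2).trace = -1 := by
    have h7 : (z - 1) * (z + 1) = 0 := by linear_combination hzz
    rcases mul_eq_zero.1 h7 with h | h
    · right; rw [ht]; linear_combination -h
    · left; rw [ht]; linear_combination -h
  exact ⟨u', v', ω, by rw [hgu]; exact hg.hu, huu, hvv, hvu, hωN, hωnN, hωs, htr, hcent,
    by rw [hgv]; exact hg.hv⟩

end Cfsg.Agent.Helper18.Q8Norm
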