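import Mathlib
import Cfsg.Agent.Helper18.Q8Norm3
import Cfsg.Agent.Helper18.AutQ8

/-! Elements of prime order of `PSL₂(p)` and the normaliser of a quaternion subgroup (S5997). -/

set_option autoImplicit false

namespace Cfsg.Agent.Helper18.Q8Norm

open Cfsg Cfsg.Agent.Helper12 QuaternionGroup

variable {F : Type*} [Field F]

local notation "M2" => Matrix (Fin 2) (Fin 2) F
local notation "S2" => Matrix.SpecialLinearGroup (Fin 2) F
local notation "G2" => GL (Fin 2) F

theorem exists_conj_mem (N : Subgroup G2) (x : G2) (hx : (x : M2).det = 1) (w : S2)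
    (hw : Matrix.SpecialLinearGroup.toGL w ∈ N) (hconj : IsConj (toS2 x hx) w) :
    ∃ g ∈ Cfsg.Geo.specialLinear (Fin 2) F, g⁻¹ * x * g ∈ N := by
  obtain ⟨c, hc⟩ := isConj_iff.1 hconj
  refine ⟨Matrix.SpecialLinearGroup.toGL c⁻¹, toGL_mem_specialLinear _, ?_⟩
  have : (Matrix.SpecialLinearGroup.toGL c⁻¹)⁻¹ * x * Matrix.SpecialLinearGroup.toGL c⁻¹ =
      Matrix.SpecialLinearGroup.toGL w := by
    rw [← hc, map_mul, map_mul, toGL_toS2, map_inv, inv_inv]
  rw [this]
  exact hw

theorem not_isScalar2_of_forall {X : M2} (h : ∀ z : F, X ≠ z • (1 : M2)) : ¬ IsScalar2 X := by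
  intro hs
  obtain ⟨c, hc⟩ := (isScalar2_iff _).1 hs
  exact h c hc

theorem isScalar2_neg {X : M2} (h : IsScalar2 (-X)) : IsScalar2 X := by
  obtain ⟨h1, h2, h3⟩ := h
  refine ⟨?_, ?_, ?_⟩
  · simpa using h1
  · simpa using h2
  · simpa using h3

theorem three_ne_zero_of_char (p : ℕ) [Fact p.Prime] [CharP F p] (hp : 5 ≤ p) : (3 : F) ≠ 0 := by
  have hpp : p.Prime := Fact.out
  intro h
  have h' : ((3 : ℕ) : F) = 0 := by exact_mod_cast h
  have := (CharP.cast_eq_zero_iff F p 3).1 h'
  have := Nat.le_of_dvd (by norm_num) this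
  omega

theorem two_ne_zero_of_char5 (p : ℕ) [Fact p.Prime] [CharP F p] (hp : 5 ≤ p) : (2 : F) ≠ 0 := by
  have hpp : p.Prime := Fact.out
  intro h
  have h' : ((2 : ℕ) : F) = 0 := by exact_mod_cast h
  have := (CharP.cast_eq_zero_iff F p 2).1 h'
  have := Nat.le_of_dvd (by norm_num) this
  omega

theorem sq_case [Fintype F] (h2 : (2 : F) ≠ 0) {R : Subgroup G2} {u' v' ω : S2}
    (hd : Data R u' v' ω) (x : G2) (hx : (x : M2).det = 1) (z : F)
    (hz : (x : M2) * (x : M2) = z • (1 : M2)) (hns : ¬ IsScalar2 (x : M2)) :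
    ∃ g ∈ Cfsg.Geo.specialLinear (Fin 2) F, g⁻¹ * x * g ∈ Subgroup.normalizer (R : Set G2) := by
  have hzz : z * z = 1 := by
    have := congrArg Matrix.det hz
    rw [Matrix.det_mul, hx, Matrix.det_smul, Matrix.det_one, Fintype.card_fin] at this
    linear_combination -this
  have hz1 : z = 1 ∨ z = -1 := by
    have h7 : (z - 1) * (z + 1) = 0 := by linear_combination hzz
    rcases mul_eq_zero.1 h7 with h | h
    · left; linear_combination h
    · right; linear_combination h
  rcases hz1 with rfl | rfl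
  · exfalso
    have h1 : toS2 x hx * toS2 x hx = 1 := by
      apply Subtype.ext
      rw [Matrix.SpecialLinearGroup.coe_mul, coe_toS2, hz, one_smul,
        Matrix.SpecialLinearGroup.coe_one]
    apply hns
    rcases sl2_eq_of_sq_eq_one h2 _ h1 with h | h
    · have := congrArg (fun g : S2 => (g : M2)) h
      simp only [coe_toS2, Matrix.SpecialLinearGroup.coe_one] at this
      rw [this]
      have := isScalar2_smul_one (F := F) 1
      simpa using this
    · have := congrArg (fun g : S2 => (g : M2)) h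
      simp only [coe_toS2, sl2_neg_one_coe] at this
      rw [this]
      have := isScalar2_smul_one (F := F) (-1)
      simpa using this
  · have h1 : toS2 x hx * toS2 x hx = -1 := by
      apply Subtype.ext
      rw [Matrix.SpecialLinearGroup.coe_mul, coe_toS2, hz, sl2_neg_one_coe]
      simp
    have hconj := isConj_of_sq_eq_neg_one h2 _ _ h1 hd.huu
    exact exists_conj_mem _ x hx u' (Subgroup.le_normalizer hd.hu) hconj

theorem cube_case [Fintype F] (h3 : (3 : F) ≠ 0) {R : Subgroup G2} {u' v' ω : S2}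
    (hd : Data R u' v' ω) (x : G2) (hx : (x : M2).det = 1) (z : F)
    (hz : (x : M2) * (x : M2) * (x : M2) = z • (1 : M2)) (hns : ¬ IsScalar2 (x : M2)) :
    ∃ g ∈ Cfsg.Geo.specialLinear (Fin 2) F, g⁻¹ * x * g ∈ Subgroup.normalizer (R : Set G2) := by
  obtain ⟨ht, hzz⟩ := trace_of_cube_scalar hns hx hz
  have htx : (x : M2).trace = 1 ∨ (x : M2).trace = -1 := by
    have h7 : (z - 1) * (z + 1) = 0 := by linear_combination hzz
    rcases mul_eq_zero.1 h7 with h | h
    · right; rw [ht]; linear_combination -h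
    · left; rw [ht]; linear_combination -h
  have h4 : ∀ t : F, (t = 1 ∨ t = -1) → t ^ 2 ≠ 4 := by
    intro t ht' h
    apply h3
    rcases ht' with rfl | rfl <;> linear_combination -h
  -- choose `w = ω` or `-ω` with the same trace
  have hw : ∃ w : S2, Matrix.SpecialLinearGroup.toGL w ∈ Subgroup.normalizer (R : Set G2) ∧
      ¬ IsScalar2 (w : M2) ∧ (w : M2).trace = (x : M2).trace := by
    by_cases h : (ω : M2).trace = (x : M2).trace
    · exact ⟨ω, hd.hω, hd.hωs, h⟩
    · refine ⟨-ω, hd.hωn, ?_, ?_⟩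
      · rw [Matrix.SpecialLinearGroup.coe_neg]
        exact fun hs => hd.hωs (isScalar2_neg hs)
      · rw [Matrix.SpecialLinearGroup.coe_neg, Matrix.trace_neg]
        rcases hd.htr with h5 | h5 <;> rcases htx with h6 | h6
        · exact absurd (h5.trans h6.symm) h
        · rw [h5, h6]
        · rw [h5, h6, neg_neg]
        · exact absurd (h5.trans h6.symm) h
  obtain ⟨w, hwN, hws, hwt⟩ := hw
  have hconj : IsConj (toS2 x hx) w := by
    apply sl2_isConj_of_trace_eq _ _ hns hws hwt.symm
    right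
    exact h4 _ htx
  exact exists_conj_mem _ x hx w hwN hconj

theorem card_mulAut_q8 : Nat.card (MulAut (QuaternionGroup 2)) = 24 := by
  obtain ⟨e⟩ := Cfsg.Agent.Helper18.AutQ8.main
  rw [Nat.card_congr e.toEquiv, Nat.card_eq_fintype_card, Fintype.card_perm, Fintype.card_fin]
  rfl

theorem main [Fintype F] {p : ℕ} [Fact p.Prime] [CharP F p] (hp : 5 ≤ p)
    (R : Subgroup G2) (hR : Nonempty (↥R ≃* QuaternionGroup 2)) (r : ℕ) [hr : Fact r.Prime]
    (hΩ : r ∣ (Cfsg.Geo.subgroupNormalizer R).relIndex (Cfsg.Geo.specialLinear (Fin 2) F)) :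
    (∀ x ∈ Cfsg.Geo.specialLinear (Fin 2) F,
      (∃ z : F, ((x ^ r : G2) : M2) = z • (1 : M2)) → (∀ z : F, (x : M2) ≠ z • (1 : M2)) →
      ∃ g ∈ Cfsg.Geo.specialLinear (Fin 2) F, g⁻¹ * x * g ∈ Cfsg.Geo.subgroupNormalizer R) ↔
      (r = 2 ∨ r = 3) := by
  classical
  have h2 : (2 : F) ≠ 0 := two_ne_zero_of_char5 p hp
  have h3 : (3 : F) ≠ 0 := three_ne_zero_of_char p hp
  obtain ⟨u', v', ω, hd⟩ := exists_data h2 R hR
  have hN : Cfsg.Geo.subgroupNormalizer R = Subgroup.normalizer (R : Set G2) := rfl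
  constructor
  · intro h
    by_contra hne
    push Not at hne
    obtain ⟨hr2, hr3⟩ := hne
    have hfin : Finite G2 := inferInstance
    -- an element of order `r`
    have hdvd : r ∣ Nat.card (Cfsg.Geo.specialLinear (Fin 2) F) := by
      refine hΩ.trans ?_
      rw [Subgroup.relIndex]
      exact Subgroup.index_dvd_card _
    obtain ⟨⟨x, hxS⟩, hxo⟩ := exists_prime_orderOf_dvd_card' r hdvd
    have hxo' : orderOf x = r := by rw [← hxo, Subgroup.orderOf_mk]
    have hxr : x ^ r = 1 := by rw [← hxo']; exact pow_orderOf_eq_one x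
    have hdet : (x : M2).det = 1 := (mem_specialLinear_iff x).1 hxS
    have hns : ∀ z : F, (x : M2) ≠ z • (1 : M2) := by
      intro z hz
      have hzz : z * z = 1 := by
        have := congrArg Matrix.det hz
        rw [hdet, Matrix.det_smul, Matrix.det_one, Fintype.card_fin] at this
        linear_combination -this
      have hxx : x * x = 1 := by
        apply Units.ext
        rw [Units.val_mul, hz]
        simp [smul_smul, hzz]
      have : r ∣ 2 := by
        rw [← hxo']
        apply orderOf_dvd_of_pow_eq_one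
        rw [sq, hxx]
      exact hr2 ((Nat.prime_dvd_prime_iff_eq hr.out Nat.prime_two).1 this)
    obtain ⟨g, _, hy⟩ := h x hxS ⟨1, by rw [hxr]; simp⟩ hns
    rw [hN] at hy
    obtain ⟨y, hydef⟩ : ∃ y : G2, y = g⁻¹ * x * g := ⟨_, rfl⟩
    rw [← hydef] at hy
    have hyr : y ^ r = 1 := by
      rw [hydef]
      have : (g⁻¹ * x * g) ^ r = g⁻¹ * x ^ r * g := by
        have := conj_pow (a := g⁻¹) (b := x) (i := r)
        rw [inv_inv] at this
        exact this
      rw [this, hxr]; group
    -- `y` centralises `R`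
    have hcentR : y ∈ Subgroup.centralizer (R : Set G2) := by
      have hφ : (R.normalizerMonoidHom ⟨y, hy⟩) ^ r = 1 := by
        rw [← map_pow]
        have : (⟨y, hy⟩ : Subgroup.normalizer (R : Set G2)) ^ r = 1 := by
          apply Subtype.ext
          rw [SubmonoidClass.coe_pow]
          exact hyr
        rw [this, map_one]
      have h1 : orderOf (R.normalizerMonoidHom ⟨y, hy⟩) ∣ r := orderOf_dvd_of_pow_eq_one hφ
      have hcardA : Nat.card (MulAut R) = 24 := by
        obtain ⟨eQ⟩ := hR
        rw [Nat.card_congr (MulAut.congr eQ).toEquiv, card_mulAut_q8]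
      have hfinA : Finite (MulAut R) := Nat.finite_of_card_ne_zero (by rw [hcardA]; norm_num)
      have h24 : orderOf (R.normalizerMonoidHom ⟨y, hy⟩) ∣ 24 := by
        rw [← hcardA]; exact orderOf_dvd_natCard _
      have hcop : Nat.Coprime r 24 := by
        have h24' : (24 : ℕ) = 2 ^ 3 * 3 := by norm_num
        rw [h24']
        apply Nat.Coprime.mul_right
        · exact Nat.Coprime.pow_right 3 ((Nat.coprime_primes hr.out Nat.prime_two).2 hr2)
        · exact (Nat.coprime_primes hr.out Nat.prime_three).2 hr3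
      have h5 : orderOf (R.normalizerMonoidHom ⟨y, hy⟩) = 1 :=
        Nat.eq_one_of_dvd_coprimes hcop h1 h24
      have h6 : (⟨y, hy⟩ : Subgroup.normalizer (R : Set G2)) ∈ R.normalizerMonoidHom.ker :=
        MonoidHom.mem_ker.mpr (orderOf_eq_one_iff.mp h5)
      rw [Subgroup.normalizerMonoidHom_ker, Subgroup.mem_subgroupOf] at h6
      exact h6
    have hys : IsScalar2 (y : M2) := by
      apply hd.hcent
      · have := Subgroup.mem_centralizer_iff.1 hcentR _ hd.hu
        have := congrArg (fun g : G2 => (g : M2)) this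
        simpa using this
      · have := Subgroup.mem_centralizer_iff.1 hcentR _ hd.hvR
        have := congrArg (fun g : G2 => (g : M2)) this
        simpa using this
    obtain ⟨c, hc⟩ := (isScalar2_iff _).1 hys
    apply hns c
    have hxy : x = g * y * g⁻¹ := by rw [hydef]; group
    rw [hxy, Units.val_mul, Units.val_mul, hc]
    simp
  · rintro (rfl | rfl)
    · intro x hxS ⟨z, hz⟩ hns
      have hdet : (x : M2).det = 1 := (mem_specialLinear_iff x).1 hxS
      rw [hN]
      apply sq_case h2 hd x hdet z ?_ (not_isScalar2_of_forall hns)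
      rw [← hz, sq, Units.val_mul]
    · intro x hxS ⟨z, hz⟩ hns
      have hdet : (x : M2).det = 1 := (mem_specialLinear_iff x).1 hxS
      rw [hN]
      apply cube_case h3 hd x hdet z ?_ (not_isScalar2_of_forall hns)
      rw [← hz, pow_succ, pow_succ, pow_one, Units.val_mul, Units.val_mul]

end Cfsg.Agent.Helper18.Q8Norm
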