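import Mathlib
import Cfsg.Agent.Helper25.QPDefs
import Cfsg.Agent.Helper25.QPDefs2

set_option autoImplicit false

/-! S5074 / S5063 (quadratic pairs, `G = G₀ C_G(G₀)`): definitions for the board `s5074pieces`.
Math: `departures/helper18_S5074_blueprint.md`. -/

noncomputable section

namespace Cfsg.Agent.QP74

open Cfsg Cfsg.Agent.Helper25.QP Cfsg.Agent.Helper25.QuadPair Cfsg.Agent.QPP

variable {k : Type*} [Field k] {M : Type*} [AddCommGroup M] [Module k M]

/-- the subspace `𝔞` of the endomorphisms `x` with `b x b = 0` for every member `b` of `𝒬_d` -/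
def InA (G : Subgroup (LinearMap.GeneralLinearGroup k M)) (d : ℕ) (x : Module.End k M) : Prop :=
  ∀ b : Module.End k M, Qd G d b → b * x * b = 0

/-- every member `x` of `𝒬_d` has a partner `y` in `𝒬_d` with `y x y ≠ 0` (an opposite one) -/
def HOpp (G : Subgroup (LinearMap.GeneralLinearGroup k M)) (d : ℕ) : Prop :=
  ∀ x : Module.End k M, Qd G d x → ∃ y : Module.End k M, Qd G d y ∧ y * x * y ≠ 0

/-- Case 2: `a` is the nilpotent part of a member of `𝒬(G)` (or zero) and `a b` is nilpotent for
every member `b` of `𝒬_d` -/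
def Q2 (G : Subgroup (LinearMap.GeneralLinearGroup k M)) (d : ℕ) (a : Module.End k M) : Prop :=
  QFam G a ∧ ∀ b : Module.End k M, Qd G d b → IsNilpotent (a * b)

end Cfsg.Agent.QP74

end
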