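import Mathlib
import Cfsg.Agent.Helper18.QP74Defs
import Cfsg.Agent.Helper25.QPRank
import Cfsg.Agent.Helper25.QPStar

set_option autoImplicit false
set_option linter.unusedSectionVars false
set_option linter.unusedVariables false
set_option linter.unusedSimpArgs false

/-! S5074, piece BAB: in Case 2, `b a b = 0` for every member `b` of `𝒬_d`.
Math: `departures/helper18_S5074_blueprint.md`. -/

noncomputable section

universe u v

namespace Cfsg.Agent.QP74

open Cfsg Cfsg.Agent.Helper25.QP Cfsg.Agent.Helper25.QuadPair Cfsg.Agent.QPP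

variable {k : Type u} [Field k] {M : Type v} [AddCommGroup M] [Module k M]

local notation "GLkM" => LinearMap.GeneralLinearGroup k M

theorem Q2.neg {G : Subgroup GLkM} {d : ℕ} {a : Module.End k M} (ha : Q2 G d a) : Q2 G d (-a) := by
  refine ⟨ha.1.neg, fun b hb => ?_⟩
  rw [neg_mul]
  exact (ha.2 b hb).neg

/-- `(b a)` is nilpotent when `a b` is -/
theorem BAB_aux_nil {a b : Module.End k M} (h : IsNilpotent (a * b)) : IsNilpotent (b * a) := by
  obtain ⟨n, hn⟩ := h
  exact ⟨n + 1, by rw [mul_pow_succ_shift, hn, mul_zero, zero_mul]⟩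

/-- the words `b a b a b` vanish, and the commutator `[b, b']` is a member of the family -/
theorem BAB_aux_step [FiniteDimensional k M] (h2 : (2 : k) ≠ 0) {G : Subgroup GLkM} {d : ℕ}
    (hmin : MinRank G d) {a : Module.End k M} (ha : Q2 G d a) {b : Module.End k M}
    (hb : Qd G d b) :
    b * a * b * a * b = 0 ∧
      QFam G ((a * b * a * b - b * a * b * a) - (2 : k) • (b * a * b)) := by
  have haa : a * a = 0 := ha.1.1
  have hbb : b * b = 0 := hb.1.1
  obtain ⟨hq, hr⟩ := conj_one_mem hb.1 ha.1
  obtain ⟨n, hn⟩ := BAB_aux_nil (ha.2 b hb)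
  have hn' : (b * a) ^ (n + 2 + 1) = 0 := pow_eq_zero_of_le (by omega) hn
  have hz := conj_pow_eq_zero hbb (n := n + 2) (by omega) hn'
  obtain ⟨h1, h1'⟩ := star h2 hmin (n + 2) hb.1 hq hb.2 (hr.trans hb.2) hz
  have h5 : b * a * b * a * b = 0 := by
    have := h1
    rw [a_conj_a hbb, neg_eq_zero] at this
    exact this
  refine ⟨h5, ?_⟩
  have hc := QFam_comm hb.1 hq h1 h1'
  have e : b * (b + (b * a - a * b) - a * b * a) - (b + (b * a - a * b) - a * b * a) * b
      = (a * b * a * b - b * a * b * a) - (2 : k) • (b * a * b) := by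
    rw [two_smul]
    have : b * (b + (b * a - a * b) - a * b * a) - (b + (b * a - a * b) - a * b * a) * b
        = (a * b * a * b - b * a * b * a) - (b * a * b + b * a * b) + (b * b) * a + a * (b * b) := by
      noncomm_ring
    rw [this, hbb]
    simp
  rwa [e] at hc

/-- `b a b` is a member of the family -/
theorem BAB_aux_QFam [FiniteDimensional k M] (h2 : (2 : k) ≠ 0) {G : Subgroup GLkM} {d : ℕ}
    (hmin : MinRank G d) {a : Module.End k M} (ha : Q2 G d a) {b : Module.End k M}
    (hb : Qd G d b) : QFam G (b * a * b) := by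
  have haa : a * a = 0 := ha.1.1
  have hbb : b * b = 0 := hb.1.1
  obtain ⟨h5, hU⟩ := BAB_aux_step h2 hmin ha hb
  obtain ⟨-, hU'⟩ := BAB_aux_step h2 hmin ha.neg hb
  have e' : ((-a) * b * (-a) * b - b * (-a) * b * (-a)) - (2 : k) • (b * (-a) * b)
      = (a * b * a * b - b * a * b * a) + (2 : k) • (b * a * b) := by
    simp only [neg_mul, mul_neg, neg_neg, smul_neg, sub_neg_eq_add]
  rw [e'] at hU'
  -- words
  have w1 : b * a * b * (b * a * b) = 0 := by
    have : b * a * b * (b * a * b) = b * a * (b * b) * a * b := by noncomm_ring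
    rw [this, hbb]; simp
  have w2 : b * a * b * (a * b * a * b) = 0 := by
    have : b * a * b * (a * b * a * b) = (b * a * b * a * b) * a * b := by noncomm_ring
    rw [this, h5]; simp
  have w3 : b * a * b * (b * a * b * a) = 0 := by
    have : b * a * b * (b * a * b * a) = b * a * (b * b) * a * b * a := by noncomm_ring
    rw [this, hbb]; simp
  have w4 : a * b * a * b * (b * a * b) = 0 := by
    have : a * b * a * b * (b * a * b) = a * b * a * (b * b) * a * b := by noncomm_ring
    rw [this, hbb]; simp
  have w5 : a * b * a * b * (a * b * a * b) = 0 := by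
    have : a * b * a * b * (a * b * a * b) = a * (b * a * b * a * b) * a * b := by noncomm_ring
    rw [this, h5]; simp
  have w6 : a * b * a * b * (b * a * b * a) = 0 := by
    have : a * b * a * b * (b * a * b * a) = a * b * a * (b * b) * a * b * a := by noncomm_ring
    rw [this, hbb]; simp
  have w7 : b * a * b * a * (b * a * b) = 0 := by
    have : b * a * b * a * (b * a * b) = (b * a * b * a * b) * a * b := by noncomm_ring
    rw [this, h5]; simp
  have w8 : b * a * b * a * (a * b * a * b) = 0 := by
    have : b * a * b * a * (a * b * a * b) = b * a * b * (a * a) * b * a * b := by noncomm_ring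
    rw [this, haa]; simp
  have w9 : b * a * b * a * (b * a * b * a) = 0 := by
    have : b * a * b * a * (b * a * b * a) = (b * a * b * a * b) * a * b * a := by noncomm_ring
    rw [this, h5]; simp
  have hsub := hU'.sub hU
    (by simp only [mul_add, add_mul, mul_sub, sub_mul, smul_mul_assoc, mul_smul_comm,
          w1, w2, w3, w4, w5, w6, w7, w8, w9, smul_zero, sub_zero, add_zero])
    (by simp only [mul_add, add_mul, mul_sub, sub_mul, smul_mul_assoc, mul_smul_comm,
          w1, w2, w3, w4, w5, w6, w7, w8, w9, smul_zero, sub_zero, add_zero])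
  have e4 : (a * b * a * b - b * a * b * a) + (2 : k) • (b * a * b)
      - ((a * b * a * b - b * a * b * a) - (2 : k) • (b * a * b)) = (4 : k) • (b * a * b) := by
    module
  rw [e4] at hsub
  have h40 : (4 : k) ≠ 0 := by
    have : (4 : k) = 2 * 2 := by norm_num
    rw [this]; exact mul_ne_zero h2 h2
  have := hsub.smul (4 : k)⁻¹
  rwa [smul_smul, inv_mul_cancel₀ h40, one_smul] at this

/-- BAB: in Case 2, `b a b = 0` for every member `b` of `𝒬_d`. -/
theorem BAB [FiniteDimensional k M] (h2 : (2 : k) ≠ 0) {G : Subgroup GLkM} {d : ℕ}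
    (hmin : MinRank G d) {a : Module.End k M} (ha : Q2 G d a) : InA G d a := by
  intro b hb
  by_contra h0
  have hq := BAB_aux_QFam h2 hmin ha hb
  have h1 := hmin _ hq h0
  have hle : LinearMap.range (b * a * b) ≤ LinearMap.range b := by
    rintro _ ⟨m, rfl⟩
    exact ⟨a (b m), rfl⟩
  have heq : LinearMap.range (b * a * b) = LinearMap.range b := by
    apply Submodule.eq_of_le_of_finrank_le hle
    rw [hb.2]; exact h1
  -- `(b a)^n b` has the same range as `b`
  have key : ∀ n : ℕ, LinearMap.range ((b * a) ^ n * b) = LinearMap.range b := by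
    intro n
    induction n with
    | zero => simp
    | succ n ih =>
      have e : (b * a) ^ (n + 1) * b = (b * a) ^ n * (b * a * b) := by
        rw [pow_succ]; simp only [mul_assoc]
      rw [e, range_mul, heq, ← range_mul, ih]
  obtain ⟨n, hn⟩ := BAB_aux_nil (ha.2 b hb)
  have h3 := key n
  rw [hn, zero_mul] at h3
  have hb0 : b = 0 := by
    have : LinearMap.range b = ⊥ := by rw [← h3]; exact LinearMap.range_zero
    exact LinearMap.range_eq_bot.mp this
  apply h0
  rw [hb0]; simp

end Cfsg.Agent.QP74

end
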