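import Mathlib
import Cfsg.Agent.Helper18.QP74Defs
import Cfsg.Agent.Helper25.QPRank
import Cfsg.Agent.Helper25.QPAlpha
import Cfsg.Agent.Helper18.QP74BAB

set_option autoImplicit false
set_option linter.unusedSectionVars false
set_option linter.unusedVariables false

/-! S5074, pieces C and BASE: a Case 2 element commutes with every member of `𝒬_d`.
Math: `departures/helper18_S5074_blueprint.md`. -/

noncomputable section

universe u v

namespace Cfsg.Agent.QP74

open Cfsg Cfsg.Agent.Helper25.QP Cfsg.Agent.Helper25.QuadPair Cfsg.Agent.QPP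

variable {k : Type u} [Field k] {M : Type v} [AddCommGroup M] [Module k M]

local notation "GLkM" => LinearMap.GeneralLinearGroup k M

/-- C: no nonzero member of `𝔞` of rank `≤ d` has its scalar family in `G`. -/
theorem BASE_C [FiniteDimensional k M] {G : Subgroup GLkM} {d : ℕ}
    (hmin : MinRank G d) (hopp : HOpp G d) {x : Module.End k M} (hx : QFam G x)
    (hA : InA G d x) (hr : Module.finrank k (LinearMap.range x) ≤ d) : x = 0 := by
  by_contra h0
  have h1 := hmin x hx h0
  have hq : Qd G d x := ⟨hx, le_antisymm hr h1⟩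
  obtain ⟨y, hy, hne⟩ := hopp x hq
  exact hne (hA y hy)

/-! ### `𝔞` is a subspace invariant under conjugation -/

theorem InA.sub {G : Subgroup GLkM} {d : ℕ} {x y : Module.End k M} (hx : InA G d x)
    (hy : InA G d y) : InA G d (x - y) := by
  intro b hb
  rw [mul_sub, sub_mul, hx b hb, hy b hb, sub_zero]

theorem InA.smul {G : Subgroup GLkM} {d : ℕ} {x : Module.End k M} (hx : InA G d x) (c : k) :
    InA G d (c • x) := by
  intro b hb
  rw [mul_smul_comm, smul_mul_assoc, hx b hb, smul_zero]

theorem one_add_mul_one_sub {N : Module.End k M} (hN : N * N = 0) :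
    (1 + N) * (1 - N) = 1 := by
  have : (1 + N) * (1 - N) = 1 - N * N := by noncomm_ring
  rw [this, hN, sub_zero]

theorem one_sub_mul_one_add {N : Module.End k M} (hN : N * N = 0) :
    (1 - N) * (1 + N) = 1 := by
  have : (1 - N) * (1 + N) = 1 - N * N := by noncomm_ring
  rw [this, hN, sub_zero]

/-- conjugating a member of `𝒬_d` by `1 + c e`, `e` any member of the family -/
theorem Qd_conj_fam [FiniteDimensional k M] {G : Subgroup GLkM} {d : ℕ} {y e : Module.End k M}
    (hy : Qd G d y) (he : QFam G e) (c : k) : Qd G d ((1 - c • e) * y * (1 + c • e)) := by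
  refine ⟨hy.1.conj_fam he c, ?_⟩
  have hee : (c • e) * (c • e) = 0 := (he.smul c).1
  rw [finrank_range_conj (h := 1 + c • e) (h' := 1 - c • e) (one_add_mul_one_sub hee)
    (one_sub_mul_one_add hee)]
  exact hy.2

/-- `𝔞` is invariant under conjugation by `1 + c e` -/
theorem InA.conj_fam [FiniteDimensional k M] {G : Subgroup GLkM} {d : ℕ} {x e : Module.End k M}
    (hx : InA G d x) (he : QFam G e) (c : k) : InA G d ((1 + c • e) * x * (1 - c • e)) := by
  intro y hy
  have hee : (c • e) * (c • e) = 0 := (he.smul c).1
  have h1 := hx _ (Qd_conj_fam hy he c)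
  have e1 := one_sub_mul_one_add hee
  have e2 := one_add_mul_one_sub hee
  generalize (1 + c • e : Module.End k M) = P at *
  generalize (1 - c • e : Module.End k M) = Q at *
  have : y * (P * x * Q) * y = P * ((Q * y * P) * x * (Q * y * P)) * Q := by
    calc y * (P * x * Q) * y = (P * Q) * y * (P * x * Q) * y * (P * Q) := by
          rw [e2, one_mul, mul_one]
      _ = P * ((Q * y * P) * x * (Q * y * P)) * Q := by noncomm_ring
  rw [this, h1, mul_zero, zero_mul]

theorem finrank_range_mul3_le [FiniteDimensional k M] (x y z : Module.End k M) :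
    Module.finrank k (LinearMap.range (x * y * z)) ≤ Module.finrank k (LinearMap.range y) := by
  have h1 : LinearMap.range (x * y * z) ≤ Submodule.map x (LinearMap.range y) := by
    rintro _ ⟨m, rfl⟩
    exact ⟨y (z m), ⟨z m, rfl⟩, rfl⟩
  exact (Submodule.finrank_mono h1).trans (Submodule.finrank_map_le x _)

/-- BASE from `InA G d a`: a member `a` of the family lying in `𝔞` commutes with every member of
`𝒬_d`. -/
theorem BASE_of_InA [FiniteDimensional k M] (h2 : (2 : k) ≠ 0) {G : Subgroup GLkM} {d : ℕ}
    (hmin : MinRank G d) (hopp : HOpp G d) {a : Module.End k M} (ha : QFam G a)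
    (haA : InA G d a) {b : Module.End k M} (hb : Qd G d b) : a * b = b * a := by
  have haa : a * a = 0 := ha.1
  have hbb : b * b = 0 := hb.1.1
  have hbab : b * a * b = 0 := haA b hb
  -- (1) r ∈ 𝔞
  have hrA : InA G d (a * b - b * a) := by
    have h1 := haA.conj_fam hb.1 1
    have e1 : (1 + (1 : k) • b) * a * (1 - (1 : k) • b) = a - (a * b - b * a) := by
      rw [one_smul]
      have : (1 + b) * a * (1 - b) = a - (a * b - b * a) - b * a * b := by noncomm_ring
      rw [this, hbab, sub_zero]
    rw [e1] at h1
    have e2 : a * b - b * a = a - (a - (a * b - b * a)) := by abel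
    rw [e2]
    exact haA.sub h1
  -- (2) QFam (a b a)
  have h5a : a * b * a * b * a = 0 := by
    have : a * b * a * b * a = a * (b * a * b) * a := by noncomm_ring
    rw [this, hbab, mul_zero, zero_mul]
  have h5b : b * a * b * a * b = 0 := by
    have : b * a * b * a * b = (b * a * b) * a * b := by noncomm_ring
    rw [this, hbab, zero_mul, zero_mul]
  have hwQ : QFam G (a * b * a) := QFam_aba h2 ha hb.1 h5a h5b
  -- (3) a b a ∈ 𝔞
  have hwA : InA G d (a * b * a) := by
    have h1 := hrA.conj_fam ha 1
    have e1 : (1 + (1 : k) • a) * (a * b - b * a) * (1 - (1 : k) • a)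
        = (a * b - b * a) - (2 : k) • (a * b * a) := by
      rw [one_smul, two_smul]
      have : (1 + a) * (a * b - b * a) * (1 - a)
          = (a * b - b * a) - (a * b * a + a * b * a) + (a * a) * b + b * (a * a)
            - (a * a) * b * a + a * b * (a * a) := by
        noncomm_ring
      rw [this, haa]
      simp
    rw [e1] at h1
    have h3 : InA G d ((2 : k) • (a * b * a)) := by
      have e2 : (2 : k) • (a * b * a)
          = (a * b - b * a) - ((a * b - b * a) - (2 : k) • (a * b * a)) := by abel
      rw [e2]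
      exact hrA.sub h1
    have h4 := h3.smul (2 : k)⁻¹
    rwa [smul_smul, inv_mul_cancel₀ h2, one_smul] at h4
  -- (4) a b a = 0
  have hw0 : a * b * a = 0 :=
    BASE_C hmin hopp hwQ hwA ((finrank_range_mul3_le a b a).trans hb.2.le)
  -- (5) r = 0
  have hrQ : QFam G (a * b - b * a) := QFam_comm ha hb.1 hw0 hbab
  have hrr : Module.finrank k (LinearMap.range (a * b - b * a)) ≤ d := by
    have h4 := rank_sub_le (a * b) (b * a)
    have h5 := rank_mul_add_le hw0
    have h6 := hb.2
    omega
  exact sub_eq_zero.mp (BASE_C hmin hopp hrQ hrA hrr)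

/-- BASE: a Case 2 element commutes with every member of `𝒬_d`. -/
theorem BASE [FiniteDimensional k M] (h2 : (2 : k) ≠ 0) {G : Subgroup GLkM} {d : ℕ}
    (hmin : MinRank G d) (hopp : HOpp G d) {a : Module.End k M} (ha : Q2 G d a)
    {b : Module.End k M} (hb : Qd G d b) : a * b = b * a :=
  BASE_of_InA h2 hmin hopp ha.1 (BAB h2 hmin ha) hb

end Cfsg.Agent.QP74

end
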