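import Mathlib
import Cfsg.Agent.Helper18.QuadGen
import Cfsg.Agent.Helper18.QuadPS5
import Cfsg.Agent.Helper9.S4Section

/-! Failure of `p`-stability gives a section `SL(2,p)` (`p` odd). -/

set_option autoImplicit false
set_option linter.unusedSectionVars false
set_option linter.unusedVariables false
set_option linter.style.haveILetI false

namespace Cfsg.Agent.Helper18.QuadGen

open Cfsg Cfsg.Agent.Helper26 Cfsg.Agent.Helper18.QuadPS Cfsg.Agent.Helper9.S4Sec
open scoped commutatorElement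
open scoped IsMulCommutative

section MulForm

variable {p : ℕ} [hp : Fact p.Prime] {H : Type*} [Group H] [Finite H]
variable {V : Type*} [CommGroup V] [Finite V]

/-- In a group acting on an elementary abelian `p`-group (`p` odd), a quadratic element lies in a
normal subgroup acting as a `p`-group, or the group involves `SL(2,p)`. -/
theorem exists_normal_or_involves_mul (hp2 : p ≠ 2) (hV : ∀ v : V, v ^ p = 1)
    (ρ : H →* MulAut V) (a : H)
    (ha : ∀ v : V, ρ a (ρ a v / v) = ρ a v / v) :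
    (∃ D : Subgroup H, D.Normal ∧ ρ.ker ≤ D ∧ (∀ d ∈ D, ∃ k : ℕ, d ^ p ^ k ∈ ρ.ker) ∧ a ∈ D) ∨
      Cfsg.Involves (Matrix.SpecialLinearGroup (Fin 2) (ZMod p)) H := by
  classical
  let ρb : H ⧸ ρ.ker →* MulAut V := QuotientGroup.lift ρ.ker ρ le_rfl
  have hρb : ∀ x : H ⧸ ρ.ker, ρb x = 1 → x = 1 := by
    intro x hx
    induction x using QuotientGroup.induction_on with
    | H x =>
      have : ρ x = 1 := hx
      exact (QuotientGroup.eq_one_iff x).mpr this
  by_cases hmem : (QuotientGroup.mk' ρ.ker a) ∈ Cfsg.pCore p (H ⧸ ρ.ker)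
  · left
    have hIp : IsPGroup p (Cfsg.pCore p (H ⧸ ρ.ker)) := Cfsg.Agent.Helper14.pCore_isPGroup p
    have hIn : (Cfsg.pCore p (H ⧸ ρ.ker)).Normal := inferInstance
    refine ⟨(Cfsg.pCore p (H ⧸ ρ.ker)).comap (QuotientGroup.mk' ρ.ker), hIn.comap _, ?_, ?_, ?_⟩
    · intro x hx
      rw [Subgroup.mem_comap]
      have : QuotientGroup.mk' ρ.ker x = 1 := (QuotientGroup.eq_one_iff x).mpr hx
      rw [this]
      exact Subgroup.one_mem _
    · intro d hd
      rw [Subgroup.mem_comap] at hd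
      obtain ⟨k, hk⟩ := hIp ⟨_, hd⟩
      refine ⟨k, ?_⟩
      have h1 := congrArg Subtype.val hk
      simp only [Subgroup.coe_pow, Subgroup.coe_one] at h1
      rw [← map_pow] at h1
      exact (QuotientGroup.eq_one_iff _).mp h1
    · rw [Subgroup.mem_comap]
      exact hmem
  · right
    have ha' : ∀ v : V, ρb (QuotientGroup.mk' ρ.ker a) (ρb (QuotientGroup.mk' ρ.ker a) v / v) =
        ρb (QuotientGroup.mk' ρ.ker a) v / v := ha
    obtain ⟨M, N, hN, he⟩ := mul_gen hp2 hV ρb hρb _ ha' hmem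
    exact involves_of_quotient ρ.ker ⟨M, N, hN, he⟩

end MulForm

section FratSection

variable {L : Type*} [Group L] [Finite L] {p : ℕ} [hp : Fact p.Prime]

theorem exists_normal_or_involves_frat_aux (hp2 : p ≠ 2) (A : Subgroup L)
    [A.Normal]
    [IsMulCommutative (↥A ⧸ frattini ↥A)] (hAp : IsPGroup p A) (a : L)
    (hq : ∀ x ∈ A, ⁅⁅x, a⁆, a⁆ ∈ (frattini ↥A).map A.subtype) :
    (∃ D : Subgroup L, D.Normal ∧ Cfsg.Agent.Helper14.fratStab A ≤ D ∧
      (∀ d ∈ D, ∃ k : ℕ, d ^ p ^ k ∈ Cfsg.Agent.Helper14.fratStab A) ∧ a ∈ D) ∨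
      Cfsg.Involves (Matrix.SpecialLinearGroup (Fin 2) (ZMod p)) L := by
  have hV : ∀ v : ↥A ⧸ frattini ↥A, v ^ p = 1 := by
    intro v
    induction v using QuotientGroup.induction_on with
    | H x =>
      rw [← QuotientGroup.mk_pow, QuotientGroup.eq_one_iff]
      exact Cfsg.Agent.Helper1.IsPGroup.pow_mem_frattini hAp x
  have ha : ∀ v : ↥A ⧸ frattini ↥A, fratRep A a (fratRep A a v / v) = fratRep A a v / v := by
    intro v
    induction v using QuotientGroup.induction_on with
    | H x =>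
      rw [fratRep_mk, ← QuotientGroup.mk_div, fratRep_mk, QuotientGroup.eq]
      obtain ⟨y, hy, hyx⟩ := hq x x.2
      have e : (MulAut.conjNormal a (MulAut.conjNormal a x / x))⁻¹ * (MulAut.conjNormal a x / x)
          = y⁻¹ := by
        apply Subtype.ext
        simp only [Subgroup.coe_mul, Subgroup.coe_inv, MulAut.conjNormal_apply, Subgroup.coe_div]
        have : (y : L) = ⁅⁅(x : L), a⁆, a⁆ := hyx
        rw [this, commutatorElement_def, commutatorElement_def]
        simp only [div_eq_mul_inv]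
        group
      rw [e]
      exact Subgroup.inv_mem _ hy
  rcases exists_normal_or_involves_mul hp2 hV (fratRep A) a ha with ⟨D, hDn, hD1, hD2, hD3⟩ | h
  · left
    rw [fratRep_ker] at hD1 hD2
    exact ⟨D, hDn, hD1, hD2, hD3⟩
  · right
    exact h

theorem exists_normal_or_involves_frat (hp2 : p ≠ 2) (A : Subgroup L) [A.Normal]
    (hAp : IsPGroup p A) (a : L)
    (hq : ∀ x ∈ A, ⁅⁅x, a⁆, a⁆ ∈ (frattini ↥A).map A.subtype) :
    (∃ D : Subgroup L, D.Normal ∧ Cfsg.Agent.Helper14.fratStab A ≤ D ∧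
      (∀ d ∈ D, ∃ k : ℕ, d ^ p ^ k ∈ Cfsg.Agent.Helper14.fratStab A) ∧ a ∈ D) ∨
      Cfsg.Involves (Matrix.SpecialLinearGroup (Fin 2) (ZMod p)) L := by
  have hc : IsMulCommutative (↥A ⧸ frattini ↥A) := by
    refine ⟨⟨?_⟩⟩
    intro u v
    induction u using QuotientGroup.induction_on with
    | H x =>
      induction v using QuotientGroup.induction_on with
      | H y =>
        rw [← QuotientGroup.mk_mul, ← QuotientGroup.mk_mul, QuotientGroup.eq]
        have h1 : ⁅y⁻¹, x⁻¹⁆ ∈ frattini ↥A :=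
          Cfsg.Agent.Helper1.IsPGroup.commutator_le_frattini hAp
            (Subgroup.commutator_mem_commutator (Subgroup.mem_top _) (Subgroup.mem_top _))
        have e : (x * y)⁻¹ * (y * x) = ⁅y⁻¹, x⁻¹⁆ := by
          rw [commutatorElement_def]; group
        rw [e]
        exact h1
  exact exists_normal_or_involves_frat_aux hp2 A hAp a hq

/-- A quadratic element on a normal `p`-subgroup `A` lies in a normal subgroup which is a
`p`-group modulo `C(A)`, or the group involves `SL(2,p)`. -/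
theorem exists_normal_or_involves (hp2 : p ≠ 2) (A : Subgroup L) [A.Normal]
    (hAp : IsPGroup p A) (a : L)
    (hq : ∀ x ∈ A, ⁅⁅x, a⁆, a⁆ ∈ (frattini ↥A).map A.subtype) :
    (∃ D : Subgroup L, D.Normal ∧ Subgroup.centralizer (A : Set L) ≤ D ∧
      (∀ d ∈ D, ∃ k : ℕ, d ^ p ^ k ∈ Subgroup.centralizer (A : Set L)) ∧ a ∈ D) ∨
      Cfsg.Involves (Matrix.SpecialLinearGroup (Fin 2) (ZMod p)) L := by
  rcases exists_normal_or_involves_frat hp2 A hAp a hq with ⟨D, hDn, hD1, hD2, hD3⟩ | h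
  · left
    refine ⟨D, hDn, (Cfsg.Agent.Helper14.centralizer_le_fratStab A).trans hD1, ?_, hD3⟩
    intro d hd
    obtain ⟨k, hk⟩ := hD2 d hd
    obtain ⟨n, hn⟩ := Cfsg.Agent.Helper14.exists_pow_mem_centralizer_of_mem_fratStab A hAp _ hk
    refine ⟨k + n, ?_⟩
    rw [pow_add, pow_mul]
    exact hn
  · right
    exact h

end FratSection

end Cfsg.Agent.Helper18.QuadGen
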