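import Mathlib
import Cfsg.Agent.Helper18.QuadGen2

/-! Failure of `p`-stability gives a section `SL(2,p)` (`p` odd). -/

set_option autoImplicit false
set_option linter.unusedSectionVars false
set_option linter.unusedVariables false
set_option linter.style.haveILetI false

namespace Cfsg.Agent.Helper18.QuadGen

open Cfsg Cfsg.Agent.Helper26 Cfsg.Agent.Helper18.QuadPS Cfsg.Agent.Helper9.S4Sec
open scoped commutatorElement

theorem involves_of_not_isPStable {G : Type*} [Group G] [Finite G] {p : ℕ} [Fact p.Prime]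
    (hp : p ≠ 2) (hO : Cfsg.pCore p G ≠ ⊥) (hns : ¬ Cfsg.IsPStable p G) :
    Cfsg.Involves (Matrix.SpecialLinearGroup (Fin 2) (ZMod p)) G := by
  classical
  have hpp : p.Prime := Fact.out
  have hodd : Odd p := hpp.odd_of_ne_two hp
  unfold Cfsg.IsPStable at hns
  push Not at hns
  obtain ⟨A, P, hA, hP, hnorm, hPle, hPn, hquad, hnot⟩ := hns hodd hO
  rw [SetLike.not_le_iff_exists] at hnot
  obtain ⟨y, hy, hynot⟩ := hnot
  obtain ⟨a', ha', rfl⟩ := hy
  have ha'A : (a' : G) ∈ A := ha'
  -- `P` as a normal subgroup of its normalizer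
  have hPN : P ≤ Subgroup.normalizer (P : Set G) := Subgroup.le_normalizer
  haveI hPnorm : (P.subgroupOf (Subgroup.normalizer (P : Set G))).Normal :=
    Subgroup.normal_in_normalizer
  have hAp : IsPGroup p (P.subgroupOf (Subgroup.normalizer (P : Set G))) := hP.comap_subtype
  have hq : ∀ x ∈ P.subgroupOf (Subgroup.normalizer (P : Set G)), ⁅⁅x, a'⁆, a'⁆ ∈
      (frattini ↥(P.subgroupOf (Subgroup.normalizer (P : Set G)))).map
        (P.subgroupOf (Subgroup.normalizer (P : Set G))).subtype := by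
    intro x hx
    have h1 : ⁅⁅(x : G), (a' : G)⁆, (a' : G)⁆ ∈ ⁅⁅P, A⁆, A⁆ :=
      Subgroup.commutator_mem_commutator (Subgroup.commutator_mem_commutator hx ha'A) ha'A
    rw [hquad, Subgroup.mem_bot] at h1
    have h2 : ⁅⁅x, a'⁆, a'⁆ = 1 := by
      apply Subtype.ext
      simpa [commutatorElement_def] using h1
    rw [h2]
    exact Subgroup.one_mem _
  rcases exists_normal_or_involves hp (P.subgroupOf (Subgroup.normalizer (P : Set G))) hAp a' hq
    with ⟨D, hDn, hD1, hD2, hD3⟩ | h
  · exfalso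
    apply hynot
    set π := QuotientGroup.mk' ((Subgroup.centralizer (P : Set G)).subgroupOf
      (Subgroup.normalizer (P : Set G))) with hπ
    have hDmn : (D.map π).Normal := hDn.map π (QuotientGroup.mk'_surjective _)
    have hDmp : IsPGroup p (D.map π) := by
      rintro ⟨y, hy⟩
      obtain ⟨d, hd, rfl⟩ := Subgroup.mem_map.mp hy
      obtain ⟨k, hk⟩ := hD2 d hd
      refine ⟨k, ?_⟩
      apply Subtype.ext
      simp only [SubgroupClass.coe_pow, OneMemClass.coe_one]
      rw [← map_pow]
      apply (QuotientGroup.eq_one_iff _).mpr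
      rw [Subgroup.mem_subgroupOf, Subgroup.mem_centralizer_iff]
      intro z hz
      have h3 := (Subgroup.mem_centralizer_iff.1 hk) ⟨z, hPN hz⟩ (by
        rw [SetLike.mem_coe, Subgroup.mem_subgroupOf]; exact hz)
      exact congrArg Subtype.val h3
    exact Cfsg.Agent.Helper14.le_pCore p hDmn hDmp (Subgroup.mem_map_of_mem π hD3)
  · exact involves_of_subgroup _ h

/-- The `S0657` statement. -/
theorem involves_of_not_isPStable_quotient {G : Type*} [Group G] [Finite G] {p : ℕ}
    [Fact p.Prime] (hp : p ≠ 2) (hO : Cfsg.pPrimeCore p G < Cfsg.pPrimePCore p G)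
    (hns : ¬ Cfsg.IsPStable p (G ⧸ Cfsg.pPrimeCore p G)) :
    Cfsg.Involves (Matrix.SpecialLinearGroup (Fin 2) (ZMod p)) G := by
  haveI : (Cfsg.pPrimeCore p G).Normal := inferInstance
  apply involves_of_quotient (Cfsg.pPrimeCore p G)
  apply involves_of_not_isPStable hp _ hns
  intro hbot
  apply ne_of_lt hO
  unfold Cfsg.pPrimePCore
  rw [hbot]
  ext x
  rw [Subgroup.mem_comap, Subgroup.mem_bot]
  exact (QuotientGroup.eq_one_iff x).symm

end Cfsg.Agent.Helper18.QuadGen
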