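import Mathlib

/-!
# Ree piece P2 (for helper6): a self-centralising four-group Sylow forces `C = T`
-/

namespace Cfsg.Agent.Helper18.ReeP2

open Subgroup

/-- An element of odd order lies in any subgroup containing its square. -/
theorem mem_of_sq_mem {C : Type*} [Group C] (T : Subgroup C) (x : C) (hodd : Odd (orderOf x))
    (h : x ^ 2 ∈ T) : x ∈ T := by
  obtain ⟨m, hm⟩ := hodd
  have h1 : x ^ (2 * (m + 1)) = x := by
    have : 2 * (m + 1) = orderOf x + 1 := by omega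
    rw [this, pow_succ, pow_orderOf_eq_one, one_mul]
  rw [← h1, pow_mul]
  exact T.pow_mem h _

/-- The Sylow `2`-subgroup `V` is self-normalising modulo its centraliser. -/
theorem normalizer_le_centralizer_of_four {C : Type*} [Group C] [Finite C] (Q : Sylow 2 C)
    (hQ4 : Nat.card Q = 4) (hQab : ∀ a ∈ Q, ∀ b ∈ Q, Commute a b)
    (h3 : ¬ 3 ∣ Nat.card C) :
    normalizer ((Q : Subgroup C) : Set C) ≤ centralizer ((Q : Subgroup C) : Set C) := by
  have : Fact (Nat.Prime 2) := ⟨Nat.prime_two⟩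
  have key := card_dvd_of_injective _
    (QuotientGroup.kerLift_injective (Q : Subgroup C).normalizerMonoidHom)
  rw [normalizerMonoidHom_ker, ← index, ← relIndex] at key
  refine relIndex_eq_one.mp (Nat.eq_one_of_dvd_coprimes ?_ dvd_rfl key)
  -- `|Aut Q|` divides `24`
  have h24 : Nat.card (MulAut (Q : Subgroup C)) ∣ 24 := by
    have h1 := card_dvd_of_injective (MulAut.toPerm (Q : Subgroup C))
      (fun a b hab => by
        apply MulEquiv.ext
        intro x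
        exact congrArg (fun f : Equiv.Perm (Q : Subgroup C) => f x) hab)
    rw [Nat.card_perm, hQ4] at h1
    exact h1
  refine Nat.Coprime.coprime_dvd_right h24 ?_
  have hQle : (Q : Subgroup C) ≤ centralizer ((Q : Subgroup C) : Set C) := by
    intro a ha b hb
    exact (hQab a ha b hb).symm.eq
  have hdvd : (centralizer ((Q : Subgroup C) : Set C)).relIndex
      (normalizer ((Q : Subgroup C) : Set C)) ∣ (Q : Subgroup C).index :=
    (relIndex_dvd_of_le_left _ hQle).trans (relIndex_dvd_index_of_le le_normalizer)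
  refine Nat.Coprime.coprime_dvd_left hdvd ?_
  have h2 : ¬ 2 ∣ (Q : Subgroup C).index := Q.not_dvd_index
  have h3' : ¬ 3 ∣ (Q : Subgroup C).index := fun h =>
    h3 (h.trans (Q : Subgroup C).index_dvd_card)
  have : (24 : ℕ) = 2 ^ 3 * 3 := by norm_num
  rw [this]
  refine Nat.Coprime.mul_right (Nat.Coprime.pow_right _ ?_) ?_
  · exact (Nat.coprime_comm.1 ((Nat.Prime.coprime_iff_not_dvd Nat.prime_two).2 h2))
  · exact (Nat.coprime_comm.1 ((Nat.Prime.coprime_iff_not_dvd Nat.prime_three).2 h3'))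


/-- A `V`-invariant abelian subgroup of odd order lies in `T`, when the centralisers of the
involutions of the four-group `V` all lie in the abelian group `T`. -/
theorem le_of_invariant_abelian {C : Type*} [Group C] (V T P : Subgroup C)
    (hVT : V ≤ T) (hVexp : ∀ v ∈ V, v * v = 1)
    (hcent : ∀ v ∈ V, v ≠ 1 → ∀ g : C, Commute g v → g ∈ T)
    (hTcomm : ∀ a ∈ T, ∀ b ∈ T, Commute a b)
    (v₁ v₂ : C) (hv₁ : v₁ ∈ V) (hv₂ : v₂ ∈ V) (h₁ : v₁ ≠ 1) (h₂ : v₂ ≠ 1) (h₁₂ : v₁ ≠ v₂)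
    (hPcomm : ∀ a ∈ P, ∀ b ∈ P, Commute a b)
    (hnorm : ∀ v ∈ V, ∀ x ∈ P, v * x * v⁻¹ ∈ P)
    (hodd : ∀ x ∈ P, Odd (orderOf x)) : P ≤ T := by
  have hinv : ∀ v ∈ V, v⁻¹ = v := fun v hv => by
    rw [inv_eq_iff_mul_eq_one]; exact hVexp v hv
  have key : ∀ v ∈ V, v ≠ 1 → ∀ x ∈ P, x * (v * x * v⁻¹) ∈ T := by
    intro v hv hv1 x hx
    apply hcent v hv hv1
    have hvx : v * x * v⁻¹ ∈ P := hnorm v hv x hx
    have hc : Commute x (v * x * v⁻¹) := hPcomm x hx _ hvx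
    have hvv : v * v = 1 := hVexp v hv
    rw [hinv v hv] at hc ⊢
    show (x * (v * x * v)) * v = v * (x * (v * x * v))
    calc (x * (v * x * v)) * v = x * (v * x) * (v * v) := by simp only [mul_assoc]
      _ = x * (v * x) := by rw [hvv, mul_one]
      _ = (v * v) * (x * (v * x)) := by rw [hvv, one_mul]
      _ = v * ((v * x * v) * x) := by simp only [mul_assoc]
      _ = v * (x * (v * x * v)) := by rw [hc.eq]
  intro x hx
  apply mem_of_sq_mem T x (hodd x hx)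
  have hv₃ : v₁ * v₂ ∈ V := V.mul_mem hv₁ hv₂
  have h₃ : v₁ * v₂ ≠ 1 := by
    intro h
    apply h₁₂
    have := hinv v₁ hv₁
    rw [← this]
    exact (inv_eq_of_mul_eq_one_right h).symm ▸ rfl
  have t1 := key v₁ hv₁ h₁ x hx
  have t2 := key v₂ hv₂ h₂ x hx
  have t3 := key _ hv₃ h₃ x hx
  have hc12 : Commute v₁ (x * (v₂ * x * v₂⁻¹)) := hTcomm _ (hVT hv₁) _ t2
  have hca : Commute x (v₁ * x * v₁⁻¹) := hPcomm x hx _ (hnorm v₁ hv₁ x hx)
  -- `a * c = x * b`
  have hac : (v₁ * x * v₁⁻¹) * ((v₁ * v₂) * x * (v₁ * v₂)⁻¹) = x * (v₂ * x * v₂⁻¹) := by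
    have := hc12.eq
    calc (v₁ * x * v₁⁻¹) * ((v₁ * v₂) * x * (v₁ * v₂)⁻¹)
        = v₁ * (x * (v₂ * x * v₂⁻¹)) * v₁⁻¹ := by group
      _ = x * (v₂ * x * v₂⁻¹) := by rw [this]; group
  have hc : (v₁ * v₂) * x * (v₁ * v₂)⁻¹ = (v₁ * x * v₁⁻¹)⁻¹ * (x * (v₂ * x * v₂⁻¹)) :=
    eq_inv_mul_of_mul_eq hac
  have hx2 : x ^ 2 = (x * ((v₁ * v₂) * x * (v₁ * v₂)⁻¹)) * (x * (v₂ * x * v₂⁻¹))⁻¹ *
      (x * (v₁ * x * v₁⁻¹)) := by
    rw [hc]
    have h1 : x * ((v₁ * x * v₁⁻¹)⁻¹ * (x * (v₂ * x * v₂⁻¹))) * (x * (v₂ * x * v₂⁻¹))⁻¹ *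
        (x * (v₁ * x * v₁⁻¹)) = x * ((v₁ * x * v₁⁻¹)⁻¹ * x) * (v₁ * x * v₁⁻¹) := by group
    rw [h1, ← hca.inv_right.eq]
    rw [pow_two]
    group
  rw [hx2]
  exact T.mul_mem (T.mul_mem t3 (T.inv_mem t2)) t1

theorem P2_eq_top_of_four {C : Type*} [Group C] [Finite C] (V T : Subgroup C) (k : ℕ) (hk : Odd k)
    (hVT : V ≤ T) (hV4 : Nat.card V = 4) (hVexp : ∀ v ∈ V, v * v = 1) (hT : Nat.card T = 4 * k)
    (hcent : ∀ v ∈ V, v ≠ 1 → ∀ g : C, Commute g v → g ∈ T)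
    (hTcomm : ∀ a ∈ T, ∀ b ∈ T, Commute a b)
    (h3 : ¬ 3 ∣ Nat.card C)
    (h2ab : ∀ Q : Subgroup C, IsPGroup 2 Q → ∀ a ∈ Q, ∀ b ∈ Q, Commute a b)
    (hcyc : ∀ p : ℕ, p.Prime → 3 < p → ∀ P : Sylow p C, IsCyclic P) :
    T = ⊤ := by
  have : Fact (Nat.Prime 2) := ⟨Nat.prime_two⟩
  have hV2 : IsPGroup 2 V := IsPGroup.of_card (n := 2) (by rw [hV4]; norm_num)
  -- two distinct involutions of `V`
  obtain ⟨v₁, hv₁, h₁⟩ : ∃ v ∈ V, v ≠ 1 := by
    by_contra hcon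
    push Not at hcon
    have : V = ⊥ := (Subgroup.eq_bot_iff_forall V).2 hcon
    rw [this, Subgroup.card_bot] at hV4; omega
  obtain ⟨v₂, hv₂, h₂, h₁₂⟩ : ∃ v ∈ V, v ≠ 1 ∧ v₁ ≠ v := by
    by_contra hcon
    push Not at hcon
    have hle : V ≤ zpowers v₁ := by
      intro v hv
      by_cases h : v = 1
      · rw [h]; exact one_mem _
      · rw [← hcon v hv h]; exact mem_zpowers v₁
    have h1 := Subgroup.card_dvd_of_le hle
    rw [hV4, Nat.card_zpowers] at h1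
    have h2 : orderOf v₁ ∣ 2 := orderOf_dvd_of_pow_eq_one (by rw [pow_two]; exact hVexp v₁ hv₁)
    have := Nat.le_of_dvd (by norm_num) (h1.trans h2)
    omega
  -- `V` is a Sylow `2`-subgroup
  obtain ⟨Q, hVQ⟩ := hV2.exists_le_sylow
  have hQT : (Q : Subgroup C) ≤ T := fun g hg =>
    hcent v₁ hv₁ h₁ g (h2ab Q Q.2 g hg v₁ (hVQ hv₁))
  have hQ4 : Nat.card Q = 4 := by
    obtain ⟨n, hn⟩ := IsPGroup.iff_card.mp Q.2
    have h1 : Nat.card Q ∣ 4 * k := hT ▸ Subgroup.card_dvd_of_le hQT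
    have h2 : Nat.card V ∣ Nat.card Q := Subgroup.card_dvd_of_le hVQ
    have h3 : Nat.card Q ∣ 4 := by
      rw [hn] at h1 ⊢
      exact Nat.Coprime.dvd_of_dvd_mul_right
        (Nat.Coprime.pow_left n (Nat.coprime_two_left.2 hk)) h1
    exact Nat.dvd_antisymm h3 (hV4 ▸ h2)
  have hQV : (Q : Subgroup C) = V :=
    (Subgroup.eq_of_le_of_card_ge hVQ (by rw [hQ4, hV4])).symm
  -- Burnside
  have hNC := normalizer_le_centralizer_of_four Q hQ4 (h2ab Q Q.2) h3
  have hcompl := MonoidHom.ker_transferSylow_isComplement' Q hNC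
  set O : Subgroup C := (MonoidHom.transferSylow Q hNC).ker with hO
  have hOidx : O.index = 4 := by rw [hcompl.symm.index_eq_card, hQ4]
  have hOodd : ¬ 2 ∣ Nat.card O := MonoidHom.not_dvd_card_ker_transferSylow Q hNC
  have hcardC : Nat.card O * 4 = Nat.card C := by rw [← hOidx]; exact O.card_mul_index
  -- suppose not
  by_contra hne
  have hidx : T.index ≠ 1 := fun h => hne (Subgroup.index_eq_one.mp h)
  obtain ⟨p, hp, hpT⟩ := Nat.exists_prime_and_dvd hidx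
  have hTO : T.index * k = Nat.card O := by
    have h1 := T.card_mul_index
    rw [hT, ← hcardC] at h1
    nlinarith
  have hpO : p ∣ Nat.card O := hTO ▸ (hpT.mul_right k)
  have hpC : p ∣ Nat.card C := hcardC ▸ (hpO.mul_right 4)
  have hp2 : p ≠ 2 := fun h => hOodd (h ▸ hpO)
  have hp3 : p ≠ 3 := fun h => h3 (h ▸ hpC)
  have hp5 : 3 < p := by
    have := hp.two_le
    omega
  have : Fact p.Prime := ⟨hp⟩
  -- the number of Sylow `p`-subgroups is odd
  have hoddSyl : ¬ 2 ∣ Nat.card (Sylow p C) := by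
    obtain ⟨P0⟩ : Nonempty (Sylow p C) := inferInstance
    have hP0O : (P0 : Subgroup C) ≤ O := by
      rw [← relIndex_eq_one]
      obtain ⟨n, hn⟩ := IsPGroup.iff_card.mp P0.2
      refine Nat.eq_one_of_dvd_coprimes ?_ (O.relIndex_dvd_index_of_normal (P0 : Subgroup C))
        (Subgroup.relIndex_dvd_card O (P0 : Subgroup C))
      rw [hOidx, hn]
      have : (4 : ℕ) = 2 ^ 2 := by norm_num
      rw [this]
      exact Nat.Coprime.pow _ _ ((Nat.coprime_primes Nat.prime_two hp).2 (Ne.symm hp2))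
    have hsup : normalizer ((P0 : Subgroup C) : Set C) ⊔ O = ⊤ :=
      Sylow.normalizer_sup_eq_top' P0 hP0O
    have h4 : O.relIndex (normalizer ((P0 : Subgroup C) : Set C)) = 4 := by
      rw [← relIndex_sup_right, hsup, relIndex_top_right, hOidx]
    have h4N : 4 ∣ Nat.card (normalizer ((P0 : Subgroup C) : Set C)) :=
      h4 ▸ Subgroup.relIndex_dvd_card O _
    rw [Sylow.card_eq_index_normalizer P0]
    obtain ⟨m, hm⟩ := h4N
    have h5 := (normalizer ((P0 : Subgroup C) : Set C)).card_mul_index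
    rw [hm, ← hcardC] at h5
    have h6 : (normalizer ((P0 : Subgroup C) : Set C)).index ∣ Nat.card O :=
      ⟨m, by nlinarith⟩
    exact fun h => hOodd (h.trans h6)
  -- a `V`-invariant Sylow `p`-subgroup
  obtain ⟨P, hPfix⟩ := hV2.nonempty_fixed_point_of_prime_not_dvd_card (Sylow p C) hoddSyl
  have hPnorm : ∀ v ∈ V, ∀ x ∈ (P : Subgroup C), v * x * v⁻¹ ∈ (P : Subgroup C) := by
    intro v hv x hx
    have h1 : (⟨v, hv⟩ : V) • P = P := hPfix ⟨v, hv⟩
    have h2 : v ∈ normalizer ((P : Subgroup C) : Set C) := Sylow.smul_eq_iff_mem_normalizer.mp h1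
    exact (h2 x).mp hx
  have hPcyc := hcyc p hp hp5 P
  have hPcomm : ∀ a ∈ (P : Subgroup C), ∀ b ∈ (P : Subgroup C), Commute a b := by
    intro a ha b hb
    obtain ⟨g, hg⟩ := hPcyc.exists_generator
    obtain ⟨i, hi⟩ := Subgroup.mem_zpowers_iff.mp (hg ⟨a, ha⟩)
    obtain ⟨j, hj⟩ := Subgroup.mem_zpowers_iff.mp (hg ⟨b, hb⟩)
    have ha' : a = (g : C) ^ i := by rw [← Subgroup.coe_zpow, hi]
    have hb' : b = (g : C) ^ j := by rw [← Subgroup.coe_zpow, hj]
    rw [ha', hb']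
    exact ((Commute.refl (g : C)).zpow_left i).zpow_right j
  have hPodd : ∀ x ∈ (P : Subgroup C), Odd (orderOf x) := by
    intro x hx
    obtain ⟨n, hn⟩ := (IsPGroup.iff_orderOf.mp P.2) ⟨x, hx⟩
    rw [Subgroup.orderOf_mk] at hn
    rw [hn]
    exact Odd.pow (hp.odd_of_ne_two hp2)
  have hPT : (P : Subgroup C) ≤ T :=
    le_of_invariant_abelian V T P hVT hVexp hcent hTcomm v₁ v₂ hv₁ hv₂ h₁ h₂ h₁₂ hPcomm hPnorm hPodd
  -- so `p` does not divide the index of `T`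
  have : ¬ p ∣ T.index := fun h =>
    P.not_dvd_index (h.trans (Subgroup.index_dvd_of_le hPT))
  exact this hpT

end Cfsg.Agent.Helper18.ReeP2
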