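import Mathlib
import Cfsg.Agent.Helper27.S0429Defs
import Cfsg.Prelude.Def_Sporadic_a
import Cfsg.Agent.Helper23.S0429STS
import Cfsg.Agent.Helper1.S0429SISO

/-! Board `s0429pieces`, piece STEINER (assembly of STS and SISO). -/

set_option autoImplicit false

namespace Cfsg.Agent.S0429P

theorem STEINER {V α : Type*} [Fintype V] [DecidableEq V] [Fintype α] [DecidableEq α] (G : SimpleGraph V)
    [DecidableRel G.Adj] (hV : Fintype.card V = 77) (hα : Fintype.card α = 22) (β : V → Finset α)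
    (h6 : ∀ v, (β v).card = 6) (hadj : ∀ v w, G.Adj v w → Disjoint (β v) (β w))
    (hnadj : ∀ v w, v ≠ w → ¬ G.Adj v w → (β v ∩ β w).card = 2) :
    Cfsg.IsSteinerSystem 3 6 (Set.range β) ∧ Nonempty (G ≃g Cfsg.blockGraph (Set.range β)) :=
  ⟨STS G hV hα β h6 hadj hnadj, SISO G β h6 hadj hnadj⟩

end Cfsg.Agent.S0429P
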