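import Mathlib
import Cfsg.Agent.S0732
import Cfsg.Agent.Helper29.S0679D1

set_option autoImplicit false
set_option linter.unusedSectionVars false
set_option linter.unusedVariables false

/-! # S0679, step (3) (helper18 hedge of row 1-PSL): order 660 with 12 Sylow 11-subgroups gives `PSL(2,11)`

The conjugation action of `G` on its 12 Sylow 11-subgroups is transitive and faithful (its kernel is a normal
subgroup of order prime to 11 of a transitive group of degree 11, hence trivial by `D1.normal_trivial`), so
`G` is a transitive group of degree `11 + 1` and order `12 * 11 * 5`; `S0732` applies. -/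

namespace Cfsg.Agent.S0679P

open Equiv MulAction

variable {α : Type*} [Fintype α] [DecidableEq α] {G : Subgroup (Equiv.Perm α)}

/-- the kernel of the conjugation action on the Sylow 11-subgroups has order prime to 11 as soon as there are at least
two Sylow 11-subgroups -/
theorem ONE.PSL.ker_not_dvd {H : Type*} [Group H] [Finite H] {p : ℕ} [Fact p.Prime]
    (hn : 1 < Nat.card (Sylow p H)) (hP : ∀ Q : Sylow p H, Nat.card (Q : Subgroup H) = p) :
    ¬ p ∣ Nat.card (MulAction.toPermHom H (Sylow p H)).ker := by
  classical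
  intro hdvd
  obtain ⟨c, hc⟩ := exists_prime_orderOf_dvd_card' p hdvd
  -- the subgroup generated by `c` (in `H`) is a `p`-group contained in every Sylow `p`-subgroup
  have hcH : orderOf (c : H) = p := by rw [Subgroup.orderOf_coe]; exact hc
  have hpg : IsPGroup p (Subgroup.zpowers (c : H)) := by
    apply IsPGroup.of_card (n := 1)
    rw [Nat.card_zpowers, hcH, pow_one]
  have hle : ∀ Q : Sylow p H, Subgroup.zpowers (c : H) ≤ (Q : Subgroup H) := by
    intro Q
    have h1 : Subgroup.zpowers (c : H) ≤ Subgroup.normalizer (Q : Set H) := by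
      rw [Subgroup.zpowers_le]
      have hmem : (c : H) ∈ (MulAction.toPermHom H (Sylow p H)).ker := c.2
      rw [MonoidHom.mem_ker] at hmem
      have h2 : (c : H) • Q = Q := by
        have := congrArg (fun f : Equiv.Perm (Sylow p H) => f Q) hmem
        simpa using this
      rw [← Sylow.smul_eq_iff_mem_normalizer]
      exact h2
    have h3 := hpg.inf_normalizer_sylow Q
    have h4 : Subgroup.zpowers (c : H) ⊓ Subgroup.normalizer (Q : Set H)
        = Subgroup.zpowers (c : H) := inf_eq_left.mpr h1
    rw [h4] at h3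
    exact inf_eq_left.mp h3.symm
  -- hence all Sylow subgroups are equal
  have hsub : Subsingleton (Sylow p H) := by
    constructor
    intro Q₁ Q₂
    have hcard : Nat.card (Subgroup.zpowers (c : H)) = p := by rw [Nat.card_zpowers, hcH]
    have e1 : Subgroup.zpowers (c : H) = (Q₁ : Subgroup H) :=
      Subgroup.eq_of_le_of_card_ge (hle Q₁) (by rw [hcard, hP Q₁])
    have e2 : Subgroup.zpowers (c : H) = (Q₂ : Subgroup H) :=
      Subgroup.eq_of_le_of_card_ge (hle Q₂) (by rw [hcard, hP Q₂])
    exact Sylow.ext (e1.symm.trans e2)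
  have := Finite.card_le_one_iff_subsingleton.mpr hsub
  omega

/-- 1-PSL: order 660 with 12 Sylow 11-subgroups gives `PSL(2,11)` -/
theorem ONE.PSL (h11 : Fintype.card α = 11) [IsPretransitive G α] [Fact (Nat.Prime 11)]
    (hord : Nat.card G = 660) (hn : Nat.card (Sylow 11 G) = 12) :
    Nonempty (G ≃* Matrix.ProjectiveSpecialLinearGroup (Fin 2) (ZMod 11)) := by
  classical
  haveI : Finite G := Nat.finite_of_card_ne_zero (by rw [hord]; norm_num)
  haveI : Fintype (Sylow 11 G) := Fintype.ofFinite _
  -- every Sylow 11-subgroup has order 11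
  have hP : ∀ Q : Sylow 11 G, Nat.card (Q : Subgroup G) = 11 := by
    intro Q
    rw [Sylow.card_eq_multiplicity, hord]
    have h660 : (660 : ℕ) = 11 ^ 1 * 60 := by norm_num
    have hf : (660 : ℕ).factorization 11 = 1 := by
      rw [h660, Nat.factorization_mul (by norm_num) (by norm_num), Nat.Prime.factorization_pow (by norm_num)]
      simp [Nat.factorization_eq_zero_of_not_dvd (show ¬ 11 ∣ 60 by norm_num)]
    rw [hf, pow_one]
  -- the conjugation action on the Sylow 11-subgroups is faithful
  have hker : (MulAction.toPermHom G (Sylow 11 G)).ker = ⊥ :=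
    D1.normal_trivial h11 G _ (ONE.PSL.ker_not_dvd (by rw [hn]; norm_num) hP)
  have hinj : Function.Injective (MulAction.toPermHom G (Sylow 11 G)) :=
    (MonoidHom.ker_eq_bot_iff _).mp hker
  -- the image
  let G' : Subgroup (Equiv.Perm (Sylow 11 G)) := (MulAction.toPermHom G (Sylow 11 G)).range
  let e : G ≃* G' := MonoidHom.ofInjective hinj
  haveI : IsPretransitive G' (Sylow 11 G) := by
    constructor
    intro P Q
    obtain ⟨g, hg⟩ := MulAction.exists_smul_eq G P Q
    exact ⟨⟨MulAction.toPermHom G (Sylow 11 G) g, ⟨g, rfl⟩⟩, hg⟩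
  have hα' : Fintype.card (Sylow 11 G) = 11 + 1 := by
    rw [← Nat.card_eq_fintype_card, hn]
  have hG' : Nat.card G' = (11 + 1) * 11 * 5 := by
    rw [← Nat.card_congr e.toEquiv, hord]
  rcases Cfsg.Agent.S0732.result (p := 11) (d := 5) (by norm_num) hα' G' hG' (by norm_num) with h | h | h
  · exact absurd h.1 (by norm_num)
  · obtain ⟨-, ⟨f⟩⟩ := h
    exact ⟨e.trans f⟩
  · obtain ⟨q, hq, h12, -⟩ := h
    exfalso
    rcases Nat.lt_or_ge q 4 with hlt | hge
    · interval_cases q <;> omega
    · have : 2 ^ 4 ≤ 2 ^ q := Nat.pow_le_pow_right (by norm_num) hge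
      omega

end Cfsg.Agent.S0679P
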