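import Mathlib
import Cfsg.Agent.Helper7.S0679SHARP4
import Cfsg.Agent.Helper26.S0679SUPP8

set_option autoImplicit false
set_option linter.unusedSectionVars false
set_option linter.unusedVariables false

/-! # S0679, chapter (6): a 2-transitive subgroup of `A_11` of order 7920 not containing `A_11` is sharply 4-transitive. -/

namespace Cfsg.Agent.S0679P

open Equiv MulAction

variable {α : Type*} [Fintype α] [DecidableEq α] {G : Subgroup (Equiv.Perm α)}

/-- SIX.main: chapter (6). -/
theorem SIX.main (h11 : Fintype.card α = 11) (h2 : IsMultiplyPretransitive G α 2)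
    (hA : ¬ alternatingGroup α ≤ G) (heven : G ≤ alternatingGroup α) (hord : Nat.card G = 7920) :
    IsMultiplyPretransitive G α 4 ∧ ∀ x : Fin 4 ↪ α, stabilizer G x = ⊥ :=
  SHARP4 h11 hord (fun g hg hg1 => SUPP8 h11 h2 hA heven hord hg hg1)

end Cfsg.Agent.S0679P
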