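import Cfsg.Agent.Helper27.S0745Defs

/-! Board `s0745pieces`, row NTAUCONST: the number of involutions lifting a transposition of a `t`-set does not
depend on the flag. -/

set_option autoImplicit false

namespace Cfsg.Agent.S0745P

open Equiv

variable {α : Type*} [Fintype α] [DecidableEq α]

/-- conjugation by `g` maps the lifts for `(Γ, a, b)` to the lifts for `(Γ', g a, g b)` when `g Γ = Γ'` -/
theorem NTAUCONST_aux_conj {G : Subgroup (Perm α)} {Γ Γ' : Finset α} {a b : α} {g : Perm α} (hg : g ∈ G)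
    (hΓ' : ∀ z' ∈ Γ', g⁻¹ z' ∈ Γ) {u : Perm α} (hu : u ∈ swapLifts G Γ a b) :
    g * u * g⁻¹ ∈ swapLifts G Γ' (g a) (g b) := by
  rw [mem_swapLifts] at hu ⊢
  obtain ⟨huG, hu2, hab, hba, hfix⟩ := hu
  refine ⟨G.mul_mem (G.mul_mem hg huG) (G.inv_mem hg), ?_, ?_, ?_, ?_⟩
  · have : (g * u * g⁻¹) ^ 2 = g * u ^ 2 * g⁻¹ := by rw [pow_two, pow_two]; group
    rw [this, hu2]; group
  · simp [Perm.mul_apply, hab]
  · simp [Perm.mul_apply, hba]
  · intro x hx hxa hxb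
    have h1 : g⁻¹ x ∈ Γ := hΓ' x hx
    have h2 : g⁻¹ x ≠ a := by
      intro h; apply hxa; rw [← h]; simp
    have h3 : g⁻¹ x ≠ b := by
      intro h; apply hxb; rw [← h]; simp
    have h4 := hfix _ h1 h2 h3
    rw [Perm.mul_apply, Perm.mul_apply, h4]
    simp

/-- an equivalence between two finsets of the same size with two prescribed values -/
theorem NTAUCONST_aux_equiv {Γ Γ' : Finset α} (hcard : Γ.card = Γ'.card) {a b a' b' : α}
    (ha : a ∈ Γ) (hb : b ∈ Γ) (hab : a ≠ b) (ha' : a' ∈ Γ') (hb' : b' ∈ Γ') (hab' : a' ≠ b') :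
    ∃ σ : {x // x ∈ Γ} ≃ {x // x ∈ Γ'}, σ ⟨a, ha⟩ = ⟨a', ha'⟩ ∧ σ ⟨b, hb⟩ = ⟨b', hb'⟩ := by
  classical
  let σ₀ : {x // x ∈ Γ} ≃ {x // x ∈ Γ'} := Finset.equivOfCardEq hcard
  let σ₁ : {x // x ∈ Γ} ≃ {x // x ∈ Γ'} := σ₀.trans (Equiv.swap (σ₀ ⟨a, ha⟩) ⟨a', ha'⟩)
  have h1 : σ₁ ⟨a, ha⟩ = ⟨a', ha'⟩ := by simp [σ₁]
  let σ₂ : {x // x ∈ Γ} ≃ {x // x ∈ Γ'} := σ₁.trans (Equiv.swap (σ₁ ⟨b, hb⟩) ⟨b', hb'⟩)
  refine ⟨σ₂, ?_, ?_⟩
  · have hne1 : (⟨a', ha'⟩ : {x // x ∈ Γ'}) ≠ σ₁ ⟨b, hb⟩ := by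
      rw [← h1]
      intro h
      have := σ₁.injective h
      exact hab (congrArg Subtype.val this)
    have hne2 : (⟨a', ha'⟩ : {x // x ∈ Γ'}) ≠ ⟨b', hb'⟩ := by
      intro h; exact hab' (congrArg Subtype.val h)
    simp only [σ₂, Equiv.trans_apply, h1]
    exact Equiv.swap_apply_of_ne_of_ne hne1 hne2
  · simp [σ₂]

/-- NTAUCONST -/
theorem card_swapLifts_const {G : Subgroup (Perm α)} {t c r : ℕ} (h : Hyp G t c r)
    (Γ Γ' : Finset α) (hΓ : Γ.card = t) (hΓ' : Γ'.card = t) (a b a' b' : α)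
    (ha : a ∈ Γ) (hb : b ∈ Γ) (hab : a ≠ b) (ha' : a' ∈ Γ') (hb' : b' ∈ Γ') (hab' : a' ≠ b') :
    (swapLifts G Γ a b).card = (swapLifts G Γ' a' b').card := by
  classical
  obtain ⟨σ, hσa, hσb⟩ := NTAUCONST_aux_equiv (hΓ.trans hΓ'.symm) ha hb hab ha' hb' hab'
  let e : Fin t ≃ {x // x ∈ Γ} := (finCongr hΓ.symm).trans Γ.equivFin.symm
  let x : Fin t ↪ α := e.toEmbedding.trans (Function.Embedding.subtype _)
  let y : Fin t ↪ α := (e.trans σ).toEmbedding.trans (Function.Embedding.subtype _)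
  obtain ⟨g, hg, hgxy⟩ := h.trans x y
  have hgσ : ∀ z : {x // x ∈ Γ}, g (z : α) = (σ z : α) := by
    intro z
    have := hgxy (e.symm z)
    simpa [x, y] using this
  have hga : g a = a' := by
    have := hgσ ⟨a, ha⟩
    rw [hσa] at this
    exact this
  have hgb : g b = b' := by
    have := hgσ ⟨b, hb⟩
    rw [hσb] at this
    exact this
  have hmap : ∀ z ∈ Γ, g z ∈ Γ' := by
    intro z hz
    rw [hgσ ⟨z, hz⟩]
    exact (σ ⟨z, hz⟩).2
  have hmap' : ∀ z' ∈ Γ', g⁻¹ z' ∈ Γ := by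
    intro z' hz'
    have h1 := hgσ (σ.symm ⟨z', hz'⟩)
    rw [Equiv.apply_symm_apply] at h1
    have h2 : g⁻¹ z' = ((σ.symm ⟨z', hz'⟩ : {x // x ∈ Γ}) : α) := by
      rw [Perm.inv_eq_iff_eq]
      exact h1.symm
    rw [h2]
    exact (σ.symm ⟨z', hz'⟩).2
  have hga' : g⁻¹ a' = a := by rw [Perm.inv_eq_iff_eq]; exact hga.symm
  have hgb' : g⁻¹ b' = b := by rw [Perm.inv_eq_iff_eq]; exact hgb.symm
  apply Finset.card_nbij' (fun u => g * u * g⁻¹) (fun v => g⁻¹ * v * g)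
  · intro u hu
    have := NTAUCONST_aux_conj hg hmap' hu
    rwa [hga, hgb] at this
  · intro v hv
    have := NTAUCONST_aux_conj (Γ := Γ') (Γ' := Γ) (G.inv_mem hg) (by simpa using hmap) hv
    rw [hga', hgb'] at this
    simpa using this
  · intro u _
    simp only
    group
  · intro v _
    simp only
    group

end Cfsg.Agent.S0745P
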