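import Cfsg.Agent.Helper27.S0745Defs
import Cfsg.Agent.Helper18.S0745NTAUCONST

/-! Board `s0745pieces`, row NTAUODD (core): if some lift `u₀` of the transposition has exactly `t - 1` fixed points
then the `c` conjugates of `u₀` under the `t`-point stabiliser are pairwise different. -/

set_option autoImplicit false

namespace Cfsg.Agent.S0745P

open Equiv

variable {α : Type*} [Fintype α] [DecidableEq α]

/-- NTAUODD (core) -/
theorem NTAUODD_aux_core {G : Subgroup (Perm α)} {t c r : ℕ} (h : Hyp G t c r)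
    (Γ : Finset α) (hΓ : Γ.card = t) (a b : α) (ha : a ∈ Γ) (hb : b ∈ Γ) (hab : a ≠ b)
    {u₀ : Perm α} (hu₀ : u₀ ∈ swapLifts G Γ a b) (hn : nfix u₀ = t - 1) :
    c ≤ (swapLifts G Γ a b).card := by
  classical
  obtain ⟨hu₀G, hu₀2, hu₀a, hu₀b, hu₀fix⟩ := mem_swapLifts.1 hu₀
  -- `t ≥ 2`
  have ht2 : 2 ≤ t := by
    rw [← hΓ]
    have : ({a, b} : Finset α) ⊆ Γ := by
      intro z hz
      simp only [Finset.mem_insert, Finset.mem_singleton] at hz
      rcases hz with rfl | rfl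
      · exact ha
      · exact hb
    calc 2 = ({a, b} : Finset α).card := (Finset.card_pair hab).symm
      _ ≤ Γ.card := Finset.card_le_card this
  -- the fixed points of `u₀`
  set S : Finset α := Finset.univ.filter fun x => u₀ x = x with hS
  have hScard : S.card = t - 1 := hn
  set Γ₀ : Finset α := (Γ.erase a).erase b with hΓ₀
  have hΓ₀card : Γ₀.card = t - 2 := by
    rw [hΓ₀, Finset.card_erase_of_mem (Finset.mem_erase.2 ⟨hab.symm, hb⟩),
      Finset.card_erase_of_mem ha, hΓ]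
    omega
  have hΓ₀S : Γ₀ ⊆ S := by
    intro z hz
    rw [hΓ₀, Finset.mem_erase, Finset.mem_erase] at hz
    rw [hS, Finset.mem_filter]
    exact ⟨Finset.mem_univ _, hu₀fix z hz.2.2 hz.2.1 hz.1⟩
  have hdiff : (S \ Γ₀).card = 1 := by
    rw [Finset.card_sdiff_of_subset hΓ₀S, hScard, hΓ₀card]
    omega
  have hnotΓ : ∀ z ∈ S, z ∉ Γ₀ → z ∉ Γ := by
    intro z hzS hz0 hzΓ
    rw [hS, Finset.mem_filter] at hzS
    apply hz0
    rw [hΓ₀, Finset.mem_erase, Finset.mem_erase]
    refine ⟨?_, ?_, hzΓ⟩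
    · rintro rfl
      rw [hu₀b] at hzS
      exact hab hzS.2
    · rintro rfl
      rw [hu₀a] at hzS
      exact hab hzS.2.symm
  obtain ⟨x₀, hx₀⟩ := Finset.card_pos.1 (by rw [hdiff]; exact one_pos : 0 < (S \ Γ₀).card)
  rw [Finset.mem_sdiff] at hx₀
  have hx₀Γ : x₀ ∉ Γ := hnotΓ x₀ hx₀.1 hx₀.2
  have hx₀fix : u₀ x₀ = x₀ := by
    have := hx₀.1
    rw [hS, Finset.mem_filter] at this
    exact this.2
  have huniq : ∀ x₁ : α, u₀ x₁ = x₁ → x₁ ∉ Γ → x₁ = x₀ := by
    intro x₁ h1 h2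
    have hx₁ : x₁ ∈ S \ Γ₀ := by
      rw [Finset.mem_sdiff, hS, Finset.mem_filter]
      refine ⟨⟨Finset.mem_univ _, h1⟩, fun h3 => h2 ?_⟩
      rw [hΓ₀, Finset.mem_erase, Finset.mem_erase] at h3
      exact h3.2.2
    exact Finset.card_le_one.1 hdiff.le x₁ hx₁ x₀ (Finset.mem_sdiff.2 hx₀)
  -- the injection
  rw [← h.cardH Γ hΓ, Nat.card_eq_fintype_card, ← Finset.card_univ]
  apply Finset.card_le_card_of_injOn (fun k : ↥(PS G Γ) => (k : Perm α) * u₀ * (k : Perm α)⁻¹)
  · intro k _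
    have hk := mem_PS.1 k.2
    have hmap : ∀ z' ∈ Γ, (k : Perm α)⁻¹ z' ∈ Γ := by
      intro z' hz'
      have : (k : Perm α)⁻¹ z' = z' := by
        rw [Perm.inv_eq_iff_eq]; exact (hk.2 z' hz').symm
      rw [this]; exact hz'
    have := NTAUCONST_aux_conj (Γ := Γ) (Γ' := Γ) hk.1 hmap hu₀
    rw [hk.2 a ha, hk.2 b hb] at this
    exact this
  · intro k _ k' _ hkk'
    simp only at hkk'
    have hk := mem_PS.1 k.2
    have hk' := mem_PS.1 k'.2
    set m : Perm α := (k' : Perm α)⁻¹ * (k : Perm α) with hm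
    have hmPS : m ∈ PS G Γ := (PS G Γ).mul_mem ((PS G Γ).inv_mem k'.2) k.2
    have hcomm : m * u₀ = u₀ * m := by
      have h1 : (k' : Perm α)⁻¹ * ((k : Perm α) * u₀ * (k : Perm α)⁻¹) * (k : Perm α) =
          (k' : Perm α)⁻¹ * ((k' : Perm α) * u₀ * (k' : Perm α)⁻¹) * (k : Perm α) := by rw [hkk']
      rw [hm]
      calc (k' : Perm α)⁻¹ * (k : Perm α) * u₀
          = (k' : Perm α)⁻¹ * ((k : Perm α) * u₀ * (k : Perm α)⁻¹) * (k : Perm α) := by group
        _ = (k' : Perm α)⁻¹ * ((k' : Perm α) * u₀ * (k' : Perm α)⁻¹) * (k : Perm α) := h1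
        _ = u₀ * ((k' : Perm α)⁻¹ * (k : Perm α)) := by group
    have hmfix := (mem_PS.1 hmPS).2
    have hmx₀ : m x₀ = x₀ := by
      apply huniq
      · have := congrArg (fun σ : Perm α => σ x₀) hcomm
        simp only [Perm.mul_apply, hx₀fix] at this
        exact this.symm
      · intro hmem
        apply hx₀Γ
        have h2 := hmfix _ hmem
        have h3 : m x₀ = x₀ := m.injective h2
        rw [← h3]; exact hmem
    have hm1 : m = 1 := by
      apply h.semireg m (mem_PS.1 hmPS).1 (insert x₀ Γ)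
      · rw [Finset.card_insert_of_notMem hx₀Γ, hΓ]
      · intro z hz
        rw [Finset.mem_insert] at hz
        rcases hz with rfl | hz
        · exact hmx₀
        · exact hmfix z hz
    apply Subtype.ext
    have : (k : Perm α) = (k' : Perm α) * m := by rw [hm]; group
    rw [this, hm1, mul_one]

end Cfsg.Agent.S0745P
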