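import Cfsg.Agent.Helper27.S0745Defs
import Cfsg.Agent.Helper14.S0745INV
import Cfsg.Agent.Helper18.S0745NTAUODDcore

/-! Board `s0745pieces`, row NTAUODD. -/

set_option autoImplicit false

namespace Cfsg.Agent.S0745P

open Equiv

variable {α : Type*} [Fintype α] [DecidableEq α]

/-- NTAUODD -/
theorem le_card_swapLifts {G : Subgroup (Perm α)} {t c r : ℕ} (h : Hyp G t c r) (hc : Odd c)
    (hr : Odd r) (Γ : Finset α) (hΓ : Γ.card = t) (a b : α) (ha : a ∈ Γ) (hb : b ∈ Γ)
    (hab : a ≠ b) : c ≤ (swapLifts G Γ a b).card := by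
  obtain ⟨u₀, hu₀⟩ := exists_lift h hc Γ hΓ a b ha hb hab
  have hn := nfix_swapLift h hc Γ hΓ a b ha hb hab hu₀
  have ht2 : 2 ≤ t := by
    classical
    rw [← hΓ]
    have : ({a, b} : Finset α) ⊆ Γ := by
      intro z hz
      simp only [Finset.mem_insert, Finset.mem_singleton] at hz
      rcases hz with rfl | rfl
      · exact ha
      · exact hb
    calc 2 = ({a, b} : Finset α).card := (Finset.card_pair hab).symm
      _ ≤ Γ.card := Finset.card_le_card this
  have hr1 : r % 2 = 1 := Nat.odd_iff.1 hr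
  rw [hr1] at hn
  exact NTAUODD_aux_core h Γ hΓ a b ha hb hab hu₀ (by omega)

end Cfsg.Agent.S0745P
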