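import Mathlib
import Cfsg.Agent.Helper18.S0747Defs

/-! Board `s0747pieces`, row A_MAX. -/

set_option autoImplicit false

namespace Cfsg.Agent.S0747P

open MulAction

/-- A_MAX: a prime `p` and a non-trivial `p`-subgroup `P` with at least `k+1` fixed points, of maximal order among the
`p`-subgroups with at least `k+1` fixed points. -/
theorem A_MAX {α : Type*} [Fintype α] [DecidableEq α] (G : Subgroup (Equiv.Perm α)) {k : ℕ}
    (g : Equiv.Perm α) (hg : g ∈ G) (hg1 : g ≠ 1)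
    (hfix : k + 1 ≤ (Finset.univ.filter fun a => g a = a).card) :
    ∃ (p : ℕ) (_ : p.Prime) (P : Subgroup ↥G), IsPGroup p P ∧ P ≠ ⊥ ∧ k + 1 ≤ (fixedPoints ↥P α).ncard ∧
      ∀ Q : Subgroup ↥G, IsPGroup p Q → Nat.card P < Nat.card Q → (fixedPoints ↥Q α).ncard ≤ k := by
  classical
  set g' : ↥G := ⟨g, hg⟩ with hg'
  have hg'1 : g' ≠ 1 := fun h => hg1 (congrArg Subtype.val h)
  have ho1 : orderOf g' ≠ 1 := fun h => hg'1 (orderOf_eq_one_iff.mp h)
  have ho0 : orderOf g' ≠ 0 := (orderOf_pos g').ne'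
  set p := (orderOf g').minFac with hp
  have hpp : p.Prime := Nat.minFac_prime ho1
  have hpd : p ∣ orderOf g' := Nat.minFac_dvd _
  set h : ↥G := g' ^ (orderOf g' / p) with hh
  have hoh : orderOf h = p := orderOf_pow_orderOf_div ho0 hpd
  set P₀ : Subgroup ↥G := Subgroup.zpowers h with hP₀
  have hP₀card : Nat.card P₀ = p := by rw [hP₀, Nat.card_zpowers, hoh]
  have : Fact p.Prime := ⟨hpp⟩
  have hP₀p : IsPGroup p P₀ := IsPGroup.of_card (n := 1) (by rw [hP₀card, pow_one])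
  -- fixed points
  have hsub : ((Finset.univ.filter fun a => g a = a : Finset α) : Set α) ⊆ fixedPoints ↥P₀ α := by
    intro a ha
    rw [Finset.coe_filter] at ha
    have hga : g a = a := ha.2
    have hg'a : g' • a = a := hga
    have hmem : g' ∈ stabilizer ↥G a := mem_stabilizer_iff.mpr hg'a
    have hha : h ∈ stabilizer ↥G a := by
      rw [hh]
      exact Subgroup.pow_mem _ hmem _
    rw [mem_fixedPoints]
    rintro ⟨q, hq⟩
    rw [hP₀, Subgroup.mem_zpowers_iff] at hq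
    obtain ⟨z, rfl⟩ := hq
    change (h ^ z) • a = a
    exact mem_stabilizer_iff.mp (Subgroup.zpow_mem _ hha z)
  have hP₀fix : k + 1 ≤ (fixedPoints ↥P₀ α).ncard := by
    have h1 := Set.ncard_le_ncard hsub (Set.toFinite _)
    rw [Set.ncard_coe_finset] at h1
    omega
  -- maximal element
  set 𝒮 : Set (Subgroup ↥G) := {Q | IsPGroup p Q ∧ k + 1 ≤ (fixedPoints ↥Q α).ncard} with h𝒮
  have h𝒮ne : 𝒮.Nonempty := ⟨P₀, hP₀p, hP₀fix⟩
  obtain ⟨P, hP𝒮, hPmax⟩ := Set.exists_max_image 𝒮 (fun Q : Subgroup ↥G => Nat.card Q) (Set.toFinite _) h𝒮ne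
  refine ⟨p, hpp, P, hP𝒮.1, ?_, hP𝒮.2, ?_⟩
  · intro hbot
    have h1 : Nat.card P₀ ≤ Nat.card P := hPmax P₀ ⟨hP₀p, hP₀fix⟩
    rw [hP₀card, hbot, Subgroup.card_bot] at h1
    exact absurd hpp.two_le (by omega)
  · intro Q hQ hlt
    by_contra hcon
    have hQ𝒮 : Q ∈ 𝒮 := ⟨hQ, by omega⟩
    have : Nat.card Q ≤ Nat.card P := hPmax Q hQ𝒮
    omega

end Cfsg.Agent.S0747P
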