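import Mathlib
import Cfsg.Agent.Helper18.S0747Defs

/-! Board `s0747pieces`, row SUB_good. -/

set_option autoImplicit false

namespace Cfsg.Agent.S0747P

open MulAction

/-- SUB_good: `Good` for a subgroup `N` acting on an `N`-invariant subset gives `Good` for `G`. -/
theorem SUB_good {G : Type*} {α : Type*} [Group G] [MulAction G α] [Fintype α] [DecidableEq α]
    (N : Subgroup G) (Φ : SubMulAction ↥N α) [Fintype ↥Φ] [DecidableEq ↥Φ] {k : ℕ}
    (h : Good ↥N ↥Φ k) : Good G α k := by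
  obtain ⟨Δ', hΔ', h'⟩ := h
  set ι : ↥Φ ↪ α := ⟨Subtype.val, Subtype.val_injective⟩ with hι
  set Δ : Finset α := Δ'.map ι with hΔ
  refine ⟨Δ, by rw [hΔ, Finset.card_map, hΔ'], ?_⟩
  -- the equivalence Δ' ≃ Δ
  let f : ↥Δ' → ↥Δ := fun x' => ⟨ι x'.1, Finset.mem_map_of_mem ι x'.2⟩
  have hf : Function.Bijective f := by
    constructor
    · intro x y hxy
      have h1 : ι x.1 = ι y.1 := congrArg (fun z : ↥Δ => (z : α)) hxy
      exact Subtype.ext (ι.injective h1)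
    · rintro ⟨x, hx⟩
      rw [hΔ, Finset.mem_map] at hx
      obtain ⟨y, hy, rfl⟩ := hx
      exact ⟨⟨y, hy⟩, rfl⟩
  let e : ↥Δ' ≃ ↥Δ := Equiv.ofBijective f hf
  intro σ hσ
  set σ' : Equiv.Perm ↥Δ' := e.symm.permCongr σ with hσ'
  have hs : Equiv.Perm.sign σ' = Equiv.Perm.sign σ := Equiv.Perm.sign_permCongr e.symm σ
  have hσ'mem : σ' ∈ alternatingGroup ↥Δ' := by
    rw [Equiv.Perm.mem_alternatingGroup, hs]
    exact Equiv.Perm.mem_alternatingGroup.mp hσ
  obtain ⟨n, hn⟩ := h' σ' hσ'mem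
  refine ⟨(n : G), fun x => ?_⟩
  have hx := hn (e.symm x)
  have h1 : ((n • ((e.symm x : ↥Δ') : ↥Φ) : ↥Φ) : α) = (n : G) • (((e.symm x : ↥Δ') : ↥Φ) : α) := rfl
  have h2 : (((e.symm x : ↥Δ') : ↥Φ) : α) = (x : α) := by
    have := congrArg Subtype.val (e.apply_symm_apply x)
    exact this
  have h3 : σ' (e.symm x) = e.symm (σ x) := by
    rw [hσ', Equiv.permCongr_apply, Equiv.symm_symm, Equiv.apply_symm_apply]
  have h4 : (((e.symm (σ x) : ↥Δ') : ↥Φ) : α) = (σ x : α) := by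
    have := congrArg Subtype.val (e.apply_symm_apply (σ x))
    exact this
  rw [← h2, ← h1, hx, h3, h4]

end Cfsg.Agent.S0747P
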