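import Mathlib
import Cfsg.Agent.Helper18.CensusG
import Cfsg.Agent.Helper18.CensusF
import Cfsg.Agent.Helper11.Transfer
import Cfsg.Agent.Helper28.S0983FREE
import Cfsg.Agent.Helper28.S0983COPR

set_option autoImplicit false

/-! S0983 piece O5400: there is no simple group of order 5400. -/

namespace Cfsg.Agent.S0983P

open Cfsg.Agent.Helper18.Census

universe u

namespace O5400

/-- a Sylow subgroup of order `p²` lies in its centralizer -/
theorem le_centralizer_of_sq {G : Type u} [Group G] {p : ℕ} [Fact p.Prime] (P : Subgroup G)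
    (hP : Nat.card ↥P = p ^ 2) : P ≤ Subgroup.centralizer (P : Set G) := by
  have : IsMulCommutative ↥P := IsPGroup.isMulCommutative_of_card_eq_prime_sq hP
  intro x hx
  rw [Subgroup.mem_centralizer_iff]
  intro y hy
  exact congrArg Subtype.val (mul_comm' (⟨y, hy⟩ : ↥P) ⟨x, hx⟩)

/-- the number of Sylow 5-subgroups is 36 -/
theorem card_sylow5 {G : Type u} [Group G] [Finite G] [IsSimpleGroup G]
    (hG : ¬ IsMulCommutative G) (hcard : Nat.card G = 5400) [Fact (Nat.Prime 5)] :
    Nat.card (Sylow 5 G) = 36 := by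
  have hG5 : Nat.card G = 216 * 5 ^ 2 := by rw [hcard]; norm_num
  have hm5 : ¬ 5 ∣ 216 := by norm_num
  have hmem := Cfsg.Agent.Helper11.card_sylow_mem_filter 216 2 hG5 hm5
  have hbad := badCand_false hG hcard (n := 5400) (p := 5) (a := 2) (m := 216) (by norm_num) hm5
    (by norm_num)
  have hpn : 5 ∣ Nat.card G := by rw [hcard]; norm_num
  have hne1 := Cfsg.Agent.Helper11.simple_card_sylow_ne_one hG 5 hpn
  have hlist : (216 : ℕ).divisors.filter (fun d => d % 5 = 1) = {1, 6, 36, 216} := by
    decide +kernel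
  rw [hlist] at hmem
  simp only [Finset.mem_insert, Finset.mem_singleton] at hmem
  rcases hmem with h | h | h | h
  · exact absurd h hne1
  · rw [h] at hbad
    exact absurd hbad (by decide +kernel)
  · exact h
  · -- `N(P) = P` is abelian: against Burnside
    exfalso
    obtain ⟨P⟩ : Nonempty (Sylow 5 G) := inferInstance
    have hP : Nat.card ↥(P : Subgroup G) = 5 ^ 2 :=
      (Cfsg.Agent.Helper11.sylow_card_of_card_eq_pow 216 2 hG5 hm5 P).1
    have hN := Cfsg.Agent.Helper11.card_sylow_mul_card_normalizer P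
    rw [h, hcard] at hN
    have hN25 : Nat.card ↥(Subgroup.normalizer ((P : Subgroup G) : Set G)) = 25 := by omega
    have hPN : (P : Subgroup G) ≤ Subgroup.normalizer ((P : Subgroup G) : Set G) :=
      Subgroup.le_normalizer
    have heq : (P : Subgroup G) = Subgroup.normalizer ((P : Subgroup G) : Set G) :=
      Subgroup.eq_of_le_of_card_ge hPN (by rw [hN25, hP]; norm_num)
    apply Cfsg.Agent.Helper11.simple_not_normalizer_le_centralizer hG 5 P hpn
    rw [← heq]
    exact le_centralizer_of_sq (P : Subgroup G) hP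

/-- an element `y` of order 3 of `N(P)` normalizes some `D = P ⊓ R` of order 5 -/
theorem exists_inter {G : Type u} [Group G] [Finite G] [Fact (Nat.Prime 5)]
    (P : Sylow 5 G) (hP : Nat.card ↥(P : Subgroup G) = 5 ^ 2) (hn5 : Nat.card (Sylow 5 G) = 36)
    (y : G) (hy : orderOf y = 3) (hyN : y ∈ Subgroup.normalizer ((P : Subgroup G) : Set G)) :
    ∃ D : Subgroup G, D ≤ (P : Subgroup G) ∧ Nat.card ↥D = 5 ∧
      y ∈ Subgroup.normalizer (D : Set G) := by
  classical
  have : Fact (Nat.Prime 3) := ⟨by norm_num⟩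
  have : Fintype (Sylow 5 G) := Fintype.ofFinite _
  have hyP : y • P = P := Sylow.smul_eq_iff_mem_normalizer.mpr hyN
  -- the two sets
  have hfree := card_dvd_card_disjoint_sylow 5 P
  rw [hP] at hfree
  have hsplit : Nat.card {R : Sylow 5 G // (P : Subgroup G) ⊓ (R : Subgroup G) = ⊥ ∧ R ≠ P} +
      Nat.card {R : Sylow 5 G // ¬ ((P : Subgroup G) ⊓ (R : Subgroup G) = ⊥) ∧ R ≠ P} = 35 := by
    have h1 : Nat.card {R : Sylow 5 G // R ≠ P} = 35 := by
      have := Nat.card_eq_fintype_card (α := {R : Sylow 5 G // R ≠ P})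
      rw [this, Fintype.card_subtype_compl, Fintype.card_subtype_eq, ← Nat.card_eq_fintype_card,
        hn5]
    rw [← h1]
    simp only [Nat.card_eq_fintype_card]
    rw [← Fintype.card_sum]
    refine Fintype.card_congr ⟨fun x => x.elim (fun R => ⟨R.1, R.2.2⟩) (fun R => ⟨R.1, R.2.2⟩),
      fun R => if h : (P : Subgroup G) ⊓ (R.1 : Subgroup G) = ⊥ then Sum.inl ⟨R.1, h, R.2⟩
        else Sum.inr ⟨R.1, h, R.2⟩, ?_, ?_⟩
    · rintro (⟨R, h1, h2⟩ | ⟨R, h1, h2⟩)
      · simp [h1]
      · simp [h1]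
    · rintro ⟨R, h2⟩
      by_cases h : (P : Subgroup G) ⊓ (R : Subgroup G) = ⊥ <;> simp [h]
  have hX1 : ¬ 3 ∣ Nat.card {R : Sylow 5 G // ¬ ((P : Subgroup G) ⊓ (R : Subgroup G) = ⊥) ∧
      R ≠ P} := by
    obtain ⟨c, hc⟩ := hfree
    rw [hc] at hsplit
    have hc1 : c ≤ 1 := by omega
    interval_cases c <;> omega
  -- `y` permutes the second set
  have hmaps : ∀ R : Sylow 5 G, (¬ ((P : Subgroup G) ⊓ (R : Subgroup G) = ⊥) ∧ R ≠ P) →
      (¬ ((P : Subgroup G) ⊓ ((y • R : Sylow 5 G) : Subgroup G) = ⊥) ∧ y • R ≠ P) := by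
    rintro R ⟨h1, h2⟩
    refine ⟨?_, ?_⟩
    · intro h
      apply h1
      rw [eq_bot_iff] at h ⊢
      rintro x ⟨hxP, hxR⟩
      have hmem : y * x * y⁻¹ ∈ (P : Subgroup G) ⊓ ((y • R : Sylow 5 G) : Subgroup G) := by
        refine ⟨(Subgroup.mem_normalizer_iff.mp hyN x).mp hxP, ?_⟩
        rw [Sylow.coe_subgroup_smul]
        exact Subgroup.smul_mem_pointwise_smul x (MulAut.conj y) (R : Subgroup G) hxR
      have h1' := h hmem
      rw [Subgroup.mem_bot] at h1' ⊢
      have : x = y⁻¹ * (y * x * y⁻¹) * y := by group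
      rw [this, h1']
      group
    · intro h
      apply h2
      have : y • R = y • P := by rw [h, hyP]
      exact MulAction.injective y this
  let f : Function.End {R : Sylow 5 G // ¬ ((P : Subgroup G) ⊓ (R : Subgroup G) = ⊥) ∧ R ≠ P} :=
    fun R => ⟨y • R.1, hmaps R.1 R.2⟩
  have hf3 : f ^ 3 ^ 1 = 1 := by
    funext R
    apply Subtype.ext
    change y • y • y • R.1 = R.1
    rw [smul_smul, smul_smul]
    have : y * y * y = y ^ 3 := by rw [pow_succ, pow_two]
    rw [this, ← hy, pow_orderOf_eq_one, one_smul]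
  have hmod := Equiv.Perm.card_fixedPoints_modEq (p := 3) (n := 1) hf3
  have hfix : Nonempty (Function.fixedPoints f) := by
    by_contra hempty
    rw [not_nonempty_iff] at hempty
    have h0 : Fintype.card (Function.fixedPoints f) = 0 := Fintype.card_eq_zero
    rw [h0, ← Nat.card_eq_fintype_card] at hmod
    exact hX1 ((Nat.modEq_zero_iff_dvd).mp hmod)
  obtain ⟨⟨⟨R, hR1, hR2⟩, hRfix⟩⟩ := hfix
  have hyR : y • R = R := congrArg Subtype.val hRfix
  have hyNR : y ∈ Subgroup.normalizer ((R : Subgroup G) : Set G) :=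
    Sylow.smul_eq_iff_mem_normalizer.mp hyR
  refine ⟨(P : Subgroup G) ⊓ (R : Subgroup G), inf_le_left, ?_, ?_⟩
  · -- the order of `D`
    have hdvd : Nat.card ↥((P : Subgroup G) ⊓ (R : Subgroup G)) ∣ 5 ^ 2 := by
      rw [← hP]; exact Subgroup.card_dvd_of_le inf_le_left
    obtain ⟨k, hk, hkeq⟩ := (Nat.dvd_prime_pow (by norm_num : Nat.Prime 5)).mp hdvd
    interval_cases k
    · exfalso
      apply hR1
      rw [← Subgroup.card_eq_one]
      simpa using hkeq
    · simpa using hkeq
    · exfalso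
      apply hR2
      have h1 : (P : Subgroup G) ⊓ (R : Subgroup G) = (P : Subgroup G) :=
        Subgroup.eq_of_le_of_card_ge inf_le_left (by rw [hkeq, hP])
      have h2 : (P : Subgroup G) ≤ (R : Subgroup G) := by
        rw [← h1]; exact inf_le_right
      exact Sylow.ext (P.3 R.2 h2)
  · rw [Subgroup.mem_normalizer_iff]
    intro x
    rw [Subgroup.mem_inf, Subgroup.mem_inf, ← Subgroup.mem_normalizer_iff.mp hyN x,
      ← Subgroup.mem_normalizer_iff.mp hyNR x]

/-- a group of order 75 with a central element `y` of order 3 has `⟨y⟩` as its only subgroup of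
order 3 -/
theorem mem_zpowers_of_order3 {G : Type u} [Group G] [Finite G] (C : Subgroup G)
    (hC : Nat.card ↥C = 75) (y : G) (hyC : y ∈ C) (hy : orderOf y = 3)
    (hcent : C ≤ Subgroup.centralizer ({y} : Set G)) (w : G) (hwC : w ∈ C) (hw : orderOf w = 3) :
    w ∈ Subgroup.zpowers y := by
  have : Fact (Nat.Prime 3) := ⟨by norm_num⟩
  have hE : Nat.card ↥C = 25 * 3 ^ 1 := by rw [hC]; norm_num
  -- the subgroup generated by `y` in `C`
  have hyE : orderOf (⟨y, hyC⟩ : ↥C) = 3 := by rw [← hy]; exact Subgroup.orderOf_mk y hyC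
  have hwE : orderOf (⟨w, hwC⟩ : ↥C) = 3 := by rw [← hw]; exact Subgroup.orderOf_mk w hwC
  have hpg : ∀ z : ↥C, orderOf z = 3 → IsPGroup 3 ↥(Subgroup.zpowers z) := by
    intro z hz
    apply IsPGroup.of_card (n := 1)
    rw [Nat.card_zpowers, hz, pow_one]
  obtain ⟨Q, hQ⟩ := (hpg _ hyE).exists_le_sylow
  have hQcard : Nat.card ↥(Q : Subgroup ↥C) = 3 := by
    have := (Cfsg.Agent.Helper11.sylow_card_of_card_eq_pow 25 1 hE (by norm_num) Q).1
    rwa [pow_one] at this
  have hQeq : Subgroup.zpowers (⟨y, hyC⟩ : ↥C) = (Q : Subgroup ↥C) :=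
    Subgroup.eq_of_le_of_card_ge hQ (by rw [hQcard, Nat.card_zpowers, hyE])
  have hnorm : (Q : Subgroup ↥C).Normal := by
    rw [← hQeq]
    constructor
    intro n hn g
    obtain ⟨k, rfl⟩ := Subgroup.mem_zpowers_iff.mp hn
    have hcomm : g * (⟨y, hyC⟩ : ↥C) = ⟨y, hyC⟩ * g := by
      apply Subtype.ext
      have := hcent g.2
      rw [Subgroup.mem_centralizer_iff] at this
      exact (this y rfl).symm
    have : g * (⟨y, hyC⟩ : ↥C) ^ k * g⁻¹ = (⟨y, hyC⟩ : ↥C) ^ k := by
      have h1 : Commute g ((⟨y, hyC⟩ : ↥C) ^ k) := Commute.zpow_right hcomm k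
      rw [h1.eq, mul_inv_cancel_right]
    rw [this]
    exact Subgroup.zpow_mem_zpowers _ k
  have huniq := Sylow.unique_of_normal Q hnorm
  obtain ⟨Q', hQ'⟩ := (hpg _ hwE).exists_le_sylow
  have hQ'eq : Q' = Q := Subsingleton.elim _ _
  rw [hQ'eq, ← hQeq] at hQ'
  have hmem := hQ' (Subgroup.mem_zpowers (⟨w, hwC⟩ : ↥C))
  obtain ⟨k, hk⟩ := Subgroup.mem_zpowers_iff.mp hmem
  rw [Subgroup.mem_zpowers_iff]
  refine ⟨k, ?_⟩
  have := congrArg Subtype.val hk
  simpa using this

/-- the normalizer of a subgroup of order 3 has order divisible by 9 -/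
theorem nine_dvd_normalizer {G : Type u} [Group G] [Finite G] (hcard : Nat.card G = 5400)
    (y : G) (hy : orderOf y = 3) :
    9 ∣ Nat.card ↥(Subgroup.normalizer ((Subgroup.zpowers y : Subgroup G) : Set G)) := by
  have : Fact (Nat.Prime 3) := ⟨by norm_num⟩
  have hTcard : Nat.card ↥(Subgroup.zpowers y) = 3 := by rw [Nat.card_zpowers, hy]
  have hpg : IsPGroup 3 ↥(Subgroup.zpowers y) := by
    apply IsPGroup.of_card (n := 1)
    rw [hTcard, pow_one]
  obtain ⟨S, hTS⟩ := hpg.exists_le_sylow
  have hScard : Nat.card ↥(S : Subgroup G) = 27 := by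
    have := (Cfsg.Agent.Helper11.sylow_card_of_card_eq_pow 200 3 (by rw [hcard]; norm_num)
      (by norm_num) S).1
    rw [this]; norm_num
  have hnil : Group.IsNilpotent ↥(S : Subgroup G) := S.2.isNilpotent
  have hnc : NormalizerCondition ↥(S : Subgroup G) := Group.normalizerCondition_of_isNilpotent
  have hTS' : Nat.card ↥((Subgroup.zpowers y).subgroupOf (S : Subgroup G)) = 3 :=
    (Nat.card_congr (Subgroup.subgroupOfEquivOfLe hTS).toEquiv).trans hTcard
  have hlt : (Subgroup.zpowers y).subgroupOf (S : Subgroup G) < ⊤ := by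
    rw [lt_top_iff_ne_top]
    intro h
    rw [h, Subgroup.card_top, hScard] at hTS'
    omega
  have hlt2 := hnc _ hlt
  rw [← Subgroup.subgroupOf_normalizer_eq hTS] at hlt2
  -- the order of the normalizer in `S`
  have hpgN : IsPGroup 3 ↥((Subgroup.normalizer ((Subgroup.zpowers y : Subgroup G) : Set G)).subgroupOf
      (S : Subgroup G)) := S.2.to_subgroup _
  obtain ⟨k, hk⟩ := hpgN.exists_card_eq
  have hgt : 3 < 3 ^ k := by
    have h1 : Nat.card ↥((Subgroup.zpowers y).subgroupOf (S : Subgroup G)) <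
        Nat.card ↥((Subgroup.normalizer ((Subgroup.zpowers y : Subgroup G) : Set G)).subgroupOf
          (S : Subgroup G)) := Set.ncard_lt_ncard hlt2 (Set.toFinite _)
    omega
  have hk2 : 2 ≤ k := by
    by_contra h
    have : k ≤ 1 := by omega
    interval_cases k <;> omega
  have h9 : 9 ∣ Nat.card ↥((Subgroup.normalizer ((Subgroup.zpowers y : Subgroup G) : Set G)).subgroupOf
      (S : Subgroup G)) := by
    rw [hk]
    exact pow_dvd_pow 3 hk2
  have hmap : Nat.card ↥((Subgroup.normalizer ((Subgroup.zpowers y : Subgroup G) : Set G)).subgroupOf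
      (S : Subgroup G)) = Nat.card ↥(Subgroup.normalizer ((Subgroup.zpowers y : Subgroup G) : Set G) ⊓
        (S : Subgroup G)) := by
    rw [← Subgroup.subgroupOf_map_subtype]
    exact (Subgroup.card_map_of_injective (Subgroup.subtype_injective _)).symm
  rw [hmap] at h9
  exact h9.trans (Subgroup.card_dvd_of_le inf_le_left)

end O5400

/-- O5400 (uses FREE, COPR, Burnside = Helper11.simple_not_normalizer_le_centralizer,
Census.badCand_false, Helper11.simple_two_mul_card_dvd_factorial) -/
theorem no5400 : NoSimple.{u} 5400 := by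
  intro G _ _ _ hG hcard
  have : Fact (Nat.Prime 5) := ⟨by norm_num⟩
  have : Fact (Nat.Prime 3) := ⟨by norm_num⟩
  have hn5 := O5400.card_sylow5 hG hcard
  obtain ⟨P⟩ : Nonempty (Sylow 5 G) := inferInstance
  have hG5 : Nat.card G = 216 * 5 ^ 2 := by rw [hcard]; norm_num
  have hpn : 5 ∣ Nat.card G := by rw [hcard]; norm_num
  have hP : Nat.card ↥(P : Subgroup G) = 5 ^ 2 :=
    (Cfsg.Agent.Helper11.sylow_card_of_card_eq_pow 216 2 hG5 (by norm_num) P).1
  have hN : Nat.card ↥(Subgroup.normalizer ((P : Subgroup G) : Set G)) = 150 := by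
    have := Cfsg.Agent.Helper11.card_sylow_mul_card_normalizer P
    rw [hn5, hcard] at this
    omega
  -- an element of order 3 in `N(P)`
  obtain ⟨y', hy'⟩ := exists_prime_orderOf_dvd_card' (G := ↥(Subgroup.normalizer
    ((P : Subgroup G) : Set G))) 3 (by rw [hN]; norm_num)
  have hy : orderOf (y' : G) = 3 := by rw [← hy']; exact Subgroup.orderOf_coe y'
  have hyN : (y' : G) ∈ Subgroup.normalizer ((P : Subgroup G) : Set G) := y'.2
  generalize (y' : G) = y at hy hyN
  obtain ⟨D, hDP, hD, hyD⟩ := O5400.exists_inter P hP hn5 y hy hyN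
  have hyC : y ∈ Subgroup.centralizer ((P : Subgroup G) : Set G) :=
    mem_centralizer_of_normalizes_chain 5 3 (by norm_num) (by norm_num) (P : Subgroup G) D hDP hP
      (by rw [hD]) y hy hyN hyD
  -- the centralizer has order 75
  have hPC : (P : Subgroup G) ≤ Subgroup.centralizer ((P : Subgroup G) : Set G) :=
    O5400.le_centralizer_of_sq (P : Subgroup G) hP
  have hCN : Subgroup.centralizer ((P : Subgroup G) : Set G) ≤
      Subgroup.normalizer ((P : Subgroup G) : Set G) := Subgroup.centralizer_le_normalizer _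
  have hT3 : Nat.card ↥(Subgroup.zpowers y) = 3 := by rw [Nat.card_zpowers, hy]
  have hTC : Subgroup.zpowers y ≤ Subgroup.centralizer ((P : Subgroup G) : Set G) :=
    Subgroup.zpowers_le.mpr hyC
  have hC75 : Nat.card ↥(Subgroup.centralizer ((P : Subgroup G) : Set G)) = 75 := by
    have h25 : 25 ∣ Nat.card ↥(Subgroup.centralizer ((P : Subgroup G) : Set G)) := by
      have := Subgroup.card_dvd_of_le hPC
      rw [hP] at this
      exact this
    have h3 : 3 ∣ Nat.card ↥(Subgroup.centralizer ((P : Subgroup G) : Set G)) := by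
      have := Subgroup.card_dvd_of_le hTC
      rwa [hT3] at this
    have h75 : 75 ∣ Nat.card ↥(Subgroup.centralizer ((P : Subgroup G) : Set G)) :=
      Nat.Coprime.mul_dvd_of_dvd_of_dvd (by norm_num : Nat.Coprime 25 3) h25 h3
    have h150 := Subgroup.card_dvd_of_le hCN
    rw [hN] at h150
    obtain ⟨c, hc⟩ := h75
    rw [hc] at h150 ⊢
    have hc2 : c ∣ 2 := by
      have : 75 * c ∣ 75 * 2 := h150
      exact Nat.dvd_of_mul_dvd_mul_left (by norm_num) this
    have hcle : c ≤ 2 := Nat.le_of_dvd (by norm_num) hc2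
    interval_cases c
    · simp at hc2
    · rfl
    · exfalso
      apply Cfsg.Agent.Helper11.simple_not_normalizer_le_centralizer hG 5 P hpn
      have := Subgroup.eq_of_le_of_card_ge hCN (by rw [hc, hN])
      rw [this]
  -- `y` is central in `C(P)`
  have hsup : (P : Subgroup G) ⊔ Subgroup.zpowers y =
      Subgroup.centralizer ((P : Subgroup G) : Set G) := by
    apply Subgroup.eq_of_le_of_card_ge (sup_le hPC hTC)
    rw [hC75]
    have h25 : 25 ∣ Nat.card ↥((P : Subgroup G) ⊔ Subgroup.zpowers y) := by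
      have := Subgroup.card_dvd_of_le (le_sup_left : (P : Subgroup G) ≤ (P : Subgroup G) ⊔ Subgroup.zpowers y)
      rw [hP] at this
      exact this
    have h3 : 3 ∣ Nat.card ↥((P : Subgroup G) ⊔ Subgroup.zpowers y) := by
      have := Subgroup.card_dvd_of_le (le_sup_right : Subgroup.zpowers y ≤ (P : Subgroup G) ⊔ Subgroup.zpowers y)
      rwa [hT3] at this
    have h75 := Nat.Coprime.mul_dvd_of_dvd_of_dvd (by norm_num : Nat.Coprime 25 3) h25 h3
    exact Nat.le_of_dvd Nat.card_pos h75
  have hcent : Subgroup.centralizer ((P : Subgroup G) : Set G) ≤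
      Subgroup.centralizer ({y} : Set G) := by
    rw [← hsup]
    apply sup_le
    · intro x hx
      rw [Subgroup.mem_centralizer_iff]
      intro z hz
      rw [Set.mem_singleton_iff] at hz
      subst hz
      rw [Subgroup.mem_centralizer_iff] at hyC
      exact (hyC x hx).symm
    · rw [Subgroup.zpowers_le]
      rw [Subgroup.mem_centralizer_iff]
      intro z hz
      rw [Set.mem_singleton_iff] at hz
      rw [hz]
  -- `N(P)` normalizes `T = ⟨y⟩`
  have hconjC : ∀ g ∈ Subgroup.normalizer ((P : Subgroup G) : Set G),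
      ∀ c ∈ Subgroup.centralizer ((P : Subgroup G) : Set G),
      g * c * g⁻¹ ∈ Subgroup.centralizer ((P : Subgroup G) : Set G) := by
    intro g hg c hc
    rw [Subgroup.mem_centralizer_iff] at hc ⊢
    intro x hx
    have hx' : g⁻¹ * x * g ∈ (P : Subgroup G) := by
      have := (Subgroup.mem_normalizer_iff.mp (Subgroup.inv_mem _ hg) x).mp hx
      rwa [inv_inv] at this
    have h1 := hc _ hx'
    calc x * (g * c * g⁻¹) = g * ((g⁻¹ * x * g) * c) * g⁻¹ := by group
      _ = g * (c * (g⁻¹ * x * g)) * g⁻¹ := by rw [h1]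
      _ = g * c * g⁻¹ * x := by group
  have hconjT : ∀ g ∈ Subgroup.normalizer ((P : Subgroup G) : Set G),
      ∀ h ∈ Subgroup.zpowers y, g * h * g⁻¹ ∈ Subgroup.zpowers y := by
    intro g hg h hh
    obtain ⟨k, rfl⟩ := Subgroup.mem_zpowers_iff.mp hh
    have hw : g * y * g⁻¹ ∈ Subgroup.zpowers y := by
      apply O5400.mem_zpowers_of_order3 _ hC75 y hyC hy hcent _ (hconjC g hg y hyC)
      have : g * y * g⁻¹ = MulAut.conj g y := rfl
      rw [this, (MulAut.conj g).orderOf_eq y, hy]
    have : g * y ^ k * g⁻¹ = (g * y * g⁻¹) ^ k := by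
      rw [conj_zpow]
    rw [this]
    exact Subgroup.zpow_mem _ hw k
  have hNL : Subgroup.normalizer ((P : Subgroup G) : Set G) ≤
      Subgroup.normalizer ((Subgroup.zpowers y : Subgroup G) : Set G) := by
    intro g hg
    rw [Subgroup.mem_normalizer_iff]
    intro h
    refine ⟨fun hh => hconjT g hg h hh, fun hh => ?_⟩
    have := hconjT g⁻¹ (Subgroup.inv_mem _ hg) _ hh
    rw [inv_inv] at this
    have e : g⁻¹ * (g * h * g⁻¹) * g = h := by group
    rwa [e] at this
  -- the order of `L = N(T)`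
  have h9 := O5400.nine_dvd_normalizer hcard y hy
  have h150 := Subgroup.card_dvd_of_le hNL
  rw [hN] at h150
  have h450 : 450 ∣ Nat.card ↥(Subgroup.normalizer ((Subgroup.zpowers y : Subgroup G) : Set G)) := by
    have := Nat.lcm_dvd h150 h9
    have e : Nat.lcm 150 9 = 450 := by decide
    rwa [e] at this
  have hLtop : Subgroup.normalizer ((Subgroup.zpowers y : Subgroup G) : Set G) ≠ ⊤ := by
    intro htop
    have hnorm : (Subgroup.zpowers y).Normal := Subgroup.normalizer_eq_top_iff.mp htop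
    rcases hnorm.eq_bot_or_eq_top with h | h
    · rw [h, Subgroup.card_bot] at hT3
      omega
    · rw [h, Subgroup.card_top, hcard] at hT3
      omega
  have hfact := Cfsg.Agent.Helper11.simple_two_mul_card_dvd_factorial hG _ hLtop
  rw [hcard] at hfact
  have hidx := Subgroup.index_mul_card
    (Subgroup.normalizer ((Subgroup.zpowers y : Subgroup G) : Set G))
  rw [hcard] at hidx
  obtain ⟨c, hc⟩ := h450
  have hL450 : Nat.card ↥(Subgroup.normalizer ((Subgroup.zpowers y : Subgroup G) : Set G)) = 450 := by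
    rw [hc] at hidx ⊢
    have h12 : (Subgroup.normalizer ((Subgroup.zpowers y : Subgroup G) : Set G)).index * c = 12 := by
      have : (Subgroup.normalizer ((Subgroup.zpowers y : Subgroup G) : Set G)).index * c * 450 =
          12 * 450 := by linarith [hidx]
      exact Nat.eq_of_mul_eq_mul_right (by norm_num) this
    generalize (Subgroup.normalizer ((Subgroup.zpowers y : Subgroup G) : Set G)).index = i at *
    have hile : i ≤ 12 := Nat.le_of_dvd (by norm_num) (Dvd.intro _ h12)
    have hcle : c ≤ 12 := Nat.le_of_dvd (by norm_num) (Dvd.intro_left _ h12)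
    interval_cases i <;> interval_cases c <;> first | omega | (exfalso; revert hfact; decide)
  -- Sylow's theorem in `L`
  have hPL : (P : Subgroup G) ≤
      Subgroup.normalizer ((Subgroup.zpowers y : Subgroup G) : Set G) :=
    (Subgroup.le_normalizer).trans hNL
  have hsyl := Cfsg.Agent.Helper11.card_sylow_mul_card_normalizer (P.subtype hPL)
  rw [hL450] at hsyl
  have hmod := card_sylow_modEq_one 5 ↥(Subgroup.normalizer ((Subgroup.zpowers y : Subgroup G) : Set G))
  have hnormL : Nat.card ↥(Subgroup.normalizer (((P.subtype hPL : Sylow 5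
      ↥(Subgroup.normalizer ((Subgroup.zpowers y : Subgroup G) : Set G))) :
      Subgroup ↥(Subgroup.normalizer ((Subgroup.zpowers y : Subgroup G) : Set G))) :
      Set ↥(Subgroup.normalizer ((Subgroup.zpowers y : Subgroup G) : Set G)))) = 150 := by
    rw [Sylow.coe_subtype, ← Subgroup.subgroupOf_normalizer_eq hPL, ← hN]
    exact Nat.card_congr (Subgroup.subgroupOfEquivOfLe hNL).toEquiv
  rw [hnormL] at hsyl
  have h3 : Nat.card (Sylow 5 ↥(Subgroup.normalizer ((Subgroup.zpowers y : Subgroup G) : Set G))) = 3 := by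
    omega
  rw [h3] at hmod
  exact absurd hmod (by decide)

end Cfsg.Agent.S0983P
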