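import Mathlib
import Cfsg.Agent.Helper18.CensusG
import Cfsg.Agent.Helper18.CensusF
import Cfsg.Agent.S0992
import Cfsg.Agent.S1018
import Cfsg.Agent.S1019
import Cfsg.Agent.Helper19.S0983K4CLASS
import Cfsg.Agent.Helper19.S0983ORBCNT
import Cfsg.Agent.Helper8.S0983CONJP
import Cfsg.Agent.Helper8.S0983INVOL

set_option autoImplicit false

/-! S0983 piece O5460: there is no simple group of order 5460. -/

namespace Cfsg.Agent.S0983P

open Cfsg.Agent.Helper18.Census

universe u

namespace O5460

/-- the number of Sylow 13-subgroups is 105 -/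
theorem card_sylow13 {G : Type u} [Group G] [Finite G] [IsSimpleGroup G]
    (hG : ¬ IsMulCommutative G) (hcard : Nat.card G = 5460) [Fact (Nat.Prime 13)] :
    Nat.card (Sylow 13 G) = 105 := by
  have hG13 : Nat.card G = 420 * 13 ^ 1 := by rw [hcard]; norm_num
  have hm13 : ¬ 13 ∣ 420 := by norm_num
  have hmem := Cfsg.Agent.Helper11.card_sylow_mem_filter 420 1 hG13 hm13
  have hbad := badCand_false hG hcard (n := 5460) (p := 13) (a := 1) (m := 420) (by norm_num) hm13 le_rfl
  have hne1 := Cfsg.Agent.Helper11.simple_card_sylow_ne_one hG 13 (by rw [hcard]; norm_num)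
  have hlist : (420 : ℕ).divisors.filter (fun d => d % 13 = 1) = {1, 14, 105} := by decide +kernel
  rw [hlist] at hmem
  simp only [Finset.mem_insert, Finset.mem_singleton] at hmem
  rcases hmem with h | h | h
  · exact absurd h hne1
  · rw [h] at hbad
    exact absurd hbad (by decide +kernel)
  · exact h

end O5460

/-- O5460 (uses K4CLASS, ORBCNT, CONJP, INVOL, S1018, S1019, S0992, Burnside) -/
theorem no5460 : NoSimple.{u} 5460 := by
  intro G _ _ _ hG hcard
  have : Fact (Nat.Prime 13) := ⟨by norm_num⟩
  have : Fact (Nat.Prime 2) := ⟨Nat.prime_two⟩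
  have hn13 := O5460.card_sylow13 hG hcard
  obtain ⟨P⟩ : Nonempty (Sylow 13 G) := inferInstance
  have hG13 : Nat.card G = 420 * 13 ^ 1 := by rw [hcard]; norm_num
  have hP : Nat.card ↥(P : Subgroup G) = 13 := by
    have := (Cfsg.Agent.Helper11.sylow_card_of_card_eq_pow 420 1 hG13 (by norm_num) P).1
    rwa [pow_one] at this
  -- the normalizer
  have hN : Nat.card ↥(Subgroup.normalizer ((P : Subgroup G) : Set G)) = 52 := by
    have := Cfsg.Agent.Helper11.card_sylow_mul_card_normalizer P
    rw [hn13, hcard] at this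
    omega
  have hidx : (Subgroup.normalizer ((P : Subgroup G) : Set G)).index = 105 := by
    rw [← hn13]; exact (P.card_eq_index_normalizer).symm
  -- a Sylow 2-subgroup inside the normalizer
  have hG2 : Nat.card G = 1365 * 2 ^ 2 := by rw [hcard]; norm_num
  obtain ⟨Q⟩ : Nonempty (Sylow 2 ↥(Subgroup.normalizer ((P : Subgroup G) : Set G))) := inferInstance
  have hQ : Nat.card ↥(Q : Subgroup ↥(Subgroup.normalizer ((P : Subgroup G) : Set G))) = 4 := by
    have := (Cfsg.Agent.Helper11.sylow_card_of_card_eq_pow 13 2 (by rw [hN]; norm_num)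
      (by norm_num) Q).1
    rw [this]; norm_num
  have hV2 : IsPGroup 2 ↥((Q : Subgroup ↥(Subgroup.normalizer ((P : Subgroup G) : Set G))).map
      (Subgroup.normalizer ((P : Subgroup G) : Set G)).subtype) :=
    Q.2.map _
  obtain ⟨T, hVT⟩ := hV2.exists_le_sylow
  have hTcard : Nat.card ↥(T : Subgroup G) = 4 := by
    have := (Cfsg.Agent.Helper11.sylow_card_of_card_eq_pow 1365 2 hG2 (by norm_num) T).1
    rw [this]; norm_num
  have hVcard : Nat.card ↥((Q : Subgroup ↥(Subgroup.normalizer ((P : Subgroup G) : Set G))).map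
      (Subgroup.normalizer ((P : Subgroup G) : Set G)).subtype) = 4 := by
    rw [← hQ]
    exact Nat.card_congr (Subgroup.equivMapOfInjective _ _ (Subgroup.subtype_injective _)).toEquiv.symm
  have hVeq : (Q : Subgroup ↥(Subgroup.normalizer ((P : Subgroup G) : Set G))).map
      (Subgroup.normalizer ((P : Subgroup G) : Set G)).subtype = (T : Subgroup G) :=
    Subgroup.eq_of_le_of_card_ge hVT (by rw [hVcard, hTcard])
  have hTN : (T : Subgroup G) ≤ Subgroup.normalizer ((P : Subgroup G) : Set G) := by
    rw [← hVeq]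
    exact Subgroup.map_subtype_le _
  -- Klein four
  have heven : Even (Nat.card G) := by rw [hcard]; decide
  have h8 : ¬ 8 ∣ Nat.card G := by rw [hcard]; norm_num
  obtain ⟨hK4, -⟩ := Cfsg.Agent.S0992.result hG heven h8 T
  -- the involution `t` centralizing `P`
  obtain ⟨t, htT, ht1, htC⟩ := exists_mem_centralizer_of_klein 13 (by norm_num) (P : Subgroup G)
    (T : Subgroup G) hP hK4 hTN
  -- the involution `v` not centralizing `P`
  have hBurn := Cfsg.Agent.Helper11.simple_not_normalizer_le_centralizer hG 13 P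
    (by rw [hcard]; norm_num)
  have hCN : Subgroup.centralizer ((P : Subgroup G) : Set G) ≤
      Subgroup.normalizer ((P : Subgroup G) : Set G) := Subgroup.centralizer_le_normalizer _
  have hPC : (P : Subgroup G) ≤ Subgroup.centralizer ((P : Subgroup G) : Set G) :=
    Cfsg.Agent.Helper1.D1PA.le_centralizer P hP
  have hTC : ¬ (T : Subgroup G) ≤ Subgroup.centralizer ((P : Subgroup G) : Set G) := by
    intro hle
    apply hBurn
    have h4 : 4 ∣ Nat.card ↥(Subgroup.centralizer ((P : Subgroup G) : Set G)) := by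
      have := Subgroup.card_dvd_of_le hle
      rwa [hTcard] at this
    have h13 : 13 ∣ Nat.card ↥(Subgroup.centralizer ((P : Subgroup G) : Set G)) := by
      have := Subgroup.card_dvd_of_le hPC
      rwa [hP] at this
    have h52 : 52 ∣ Nat.card ↥(Subgroup.centralizer ((P : Subgroup G) : Set G)) :=
      Nat.Coprime.mul_dvd_of_dvd_of_dvd (by norm_num : Nat.Coprime 4 13) h4 h13
    have hdvd := Subgroup.card_dvd_of_le hCN
    rw [hN] at hdvd
    have heq : Nat.card ↥(Subgroup.centralizer ((P : Subgroup G) : Set G)) = 52 :=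
      Nat.dvd_antisymm hdvd h52
    have := Subgroup.eq_of_le_of_card_ge hCN (by rw [heq, hN])
    rw [this]
  obtain ⟨v, hvT, hvC⟩ := SetLike.not_le_iff_exists.mp hTC
  have hvN := hTN hvT
  -- orders
  have horder : ∀ x ∈ (T : Subgroup G), x ≠ 1 → orderOf x = 2 := by
    intro x hx hx1
    have := hK4
    have h1 : (⟨x, hx⟩ : ↥(T : Subgroup G)) * ⟨x, hx⟩ = 1 := IsKleinFour.mul_self _
    have h2 : x * x = 1 := congrArg Subtype.val h1
    exact orderOf_eq_prime (by rw [pow_two]; exact h2) hx1
  have hv1 : v ≠ 1 := by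
    rintro rfl
    exact hvC (Subgroup.one_mem _)
  have hconj : IsConj v t := isConj_of_involutions hG heven h8 v t (horder v hvT hv1)
    (horder t htT ht1)
  -- the class of `v`
  have hclass : Nat.card {g : G // IsConj v g} ≤ 105 := by
    have h1 : Nat.card {g : G // IsConj v g} = Nat.card {g : G // IsConj t g} := by
      refine Nat.card_congr (Equiv.subtypeEquivRight fun g => ?_)
      exact ⟨fun h => hconj.symm.trans h, fun h => hconj.trans h⟩
    rw [h1]
    have h2 := Cfsg.Agent.Helper11.card_isConj_mul_card_centralizer t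
    have hPt : (P : Subgroup G) ≤ Subgroup.centralizer ({t} : Set G) := by
      intro x hx
      rw [Subgroup.mem_centralizer_iff]
      intro y hy
      rw [Set.mem_singleton_iff] at hy
      subst hy
      rw [Subgroup.mem_centralizer_iff] at htC
      exact (htC x hx).symm
    have hTt : (T : Subgroup G) ≤ Subgroup.centralizer ({t} : Set G) := by
      intro x hx
      rw [Subgroup.mem_centralizer_iff]
      intro y hy
      rw [Set.mem_singleton_iff] at hy
      subst hy
      have := hK4
      have : IsMulCommutative ↥(T : Subgroup G) := IsKleinFour.isMulCommutative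
      have := mul_comm' (⟨y, htT⟩ : ↥(T : Subgroup G)) ⟨x, hx⟩
      exact congrArg Subtype.val this
    have h4 : 4 ∣ Nat.card ↥(Subgroup.centralizer ({t} : Set G)) := by
      have := Subgroup.card_dvd_of_le hTt
      rwa [hTcard] at this
    have h13 : 13 ∣ Nat.card ↥(Subgroup.centralizer ({t} : Set G)) := by
      have := Subgroup.card_dvd_of_le hPt
      rwa [hP] at this
    obtain ⟨c, hc⟩ := Nat.Coprime.mul_dvd_of_dvd_of_dvd (by norm_num : Nat.Coprime 4 13) h4 h13
    rw [hc, hcard] at h2
    have hc0 : 0 < c := by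
      rcases Nat.eq_zero_or_pos c with h | h
      · rw [h] at h2; omega
      · exact h
    nlinarith
  -- fixed points
  have hfix := (Cfsg.Agent.S1018.result 13 P hP).2 v hvN hvC
  have horb := card_orbits_sylow 13 P hP
  rw [hn13] at horb
  have horb9 : Nat.card (MulAction.orbitRel.Quotient ↥(P : Subgroup G)
      (G ⧸ Subgroup.normalizer ((P : Subgroup G) : Set G))) = 9 := by omega
  rw [horb9] at hfix
  have hcount := Cfsg.Agent.S1019.result (Subgroup.normalizer ((P : Subgroup G) : Set G)) v hvN
  rw [hidx] at hcount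
  have hconjN := le_card_conj_in_normalizer 13 P hP v hvN hvC
  have h1 : Nat.card (MulAction.fixedBy (G ⧸ Subgroup.normalizer ((P : Subgroup G) : Set G)) v) *
      Nat.card {g : G // IsConj v g} ≤ 9 * 105 := Nat.mul_le_mul hfix hclass
  have h2 : 105 * 13 ≤ 105 * Nat.card {g : G // IsConj v g ∧
      g ∈ Subgroup.normalizer ((P : Subgroup G) : Set G)} := Nat.mul_le_mul_left _ hconjN
  omega

end Cfsg.Agent.S0983P
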