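import Mathlib
import Cfsg.Agent.Helper2.CT.Defs
import Cfsg.Agent.Helper6.Chev.TablesFast

set_option autoImplicit false
set_option linter.unusedSectionVars false
set_option linter.unusedVariables false

/-! S1164 (Curtis–Tits), piece CHKSPEC: the content of the Boolean checks of `CT/Defs.lean`. -/

namespace Cfsg.Agent.S1164P

open Cfsg.Lie Cfsg.Agent.Helper6 Cfsg.Agent.Helper2.StPerf Cfsg.Agent.Helper2.Stb

namespace CHKSPEC

/-- the cheap bounded existential quantifier -/
theorem exLt_iff {n : ℕ} {p : ℕ → Bool} :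
    (!(allLt n fun j => !(p j))) = true ↔ ∃ j < n, p j = true := by
  rw [Bool.not_eq_true', ← Bool.not_eq_true, allLt_iff]
  constructor
  · intro h
    by_contra hcon
    apply h
    intro j hj
    rw [Bool.not_eq_true']
    by_contra h2
    rw [Bool.not_eq_false] at h2
    exact hcon ⟨j, hj, h2⟩
  · rintro ⟨j, hj, hp⟩ h
    have := h j hj
    rw [hp] at this
    exact Bool.noConfusion this

/-- the cheap bounded double existential quantifier -/
theorem exLt2_iff {n m : ℕ} {p : ℕ → ℕ → Bool} :
    (!(allLt n fun j => allLt m fun k => !(p j k))) = true ↔ ∃ j < n, ∃ k < m, p j k = true := by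
  rw [Bool.not_eq_true', ← Bool.not_eq_true, allLt_iff]
  constructor
  · intro h
    by_contra hcon
    apply h
    intro j hj
    rw [allLt_iff]
    intro k hk
    rw [Bool.not_eq_true']
    by_contra h2
    rw [Bool.not_eq_false] at h2
    exact hcon ⟨j, hj, k, hk, h2⟩
  · rintro ⟨j, hj, k, hk, hp⟩ h
    have h1 := h j hj
    rw [allLt_iff] at h1
    have := h1 k hk
    rw [hp] at this
    exact Bool.noConfusion this

theorem polyOK_of_polyGo (D : ChevalleyDatum) (T : CTTab) (bound γ : ℕ) :
    ∀ (n δ a b : ℕ), polyGo D T bound n δ a b = some γ → PolyOK D T.lvlE bound γ n δ a b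
  | 0, δ, a, b => by
    intro h
    simp only [polyGo, Option.some.injEq] at h
    exact h
  | n + 1, δ, a, b => by
    intro h
    simp only [polyGo] at h
    cases hb : Nat.blt (T.lvlE δ a) bound with
    | false => rw [hb] at h; simp at h
    | true =>
      rw [hb] at h
      simp only [cond_true] at h
      refine ⟨?_, polyOK_of_polyGo D T bound γ n _ _ _ h⟩
      simpa using hb

end CHKSPEC

open CHKSPEC

variable {D : ChevalleyDatum} {T : CTTab} {P : CTPairTab}

theorem inR2F_eq (hs : suppChk D T = true) (i j r : ℕ) : inR2F D T i j r = inR2 D i j r := by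
  unfold inR2F inR2
  by_cases hr : r < D.nroots
  · have key : (allLt D.rank fun k => Nat.beq k i || Nat.beq k j ||
        Nat.beq (Nat.mod (Nat.shiftRight (T.suppE r) k) 2) 0) =
        (allLt D.rank fun k => Nat.beq k i || Nat.beq k j ||
          decide ((D.coroot.getD r #[]).getD k 0 = 0)) := by
      rw [Bool.eq_iff_iff, allLt_iff, allLt_iff]
      simp only [suppChk, allLt_iff, beq_iff_eq] at hs
      constructor
      · intro h k hk
        rw [hs r hr k hk]; exact h k hk
      · intro h k hk
        rw [← hs r hr k hk]; exact h k hk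
    rw [key]
  · have : Nat.blt r D.nroots = false := by
      rw [← Bool.not_eq_true, Nat.blt_eq]; exact hr
    rw [this]
    simp

theorem inR2F_iff (hs : suppChk D T = true) {i j r : ℕ} :
    inR2F D T i j r = true ↔ D.InRankTwoSub i j r := by
  rw [inR2F_eq hs, inR2_iff]

theorem treeSpec_of_chk (hD : IsTabulated D) (hs : suppChk D T = true)
    (h : treeChk D T = true) : TreeSpec D T := by
  have hneg := negF_eq (fastOK_of_tabulated hD).chk
  simp only [treeChk, allLt_iff, Bool.and_eq_true] at h
  refine ⟨?_, ?_, ?_, ?_, ?_⟩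
  · intro γ hγ
    obtain ⟨⟨⟨⟨h1, _⟩, _⟩, _⟩, _⟩ := h γ hγ
    unfold isPmSimple at h1
    rw [exLt_iff] at h1
    obtain ⟨a, ha, hb⟩ := h1
    refine ⟨a, ha, ?_⟩
    simp only [Bool.or_eq_true, Nat.beq_eq] at hb
    rw [hneg] at hb
    exact hb
  · intro γ hγ i hi
    obtain ⟨⟨⟨⟨_, h2⟩, _⟩, _⟩, _⟩ := h γ hγ
    rw [allL_iff] at h2
    simpa using h2 i hi
  · intro γ hγ
    obtain ⟨⟨⟨⟨_, _⟩, h3⟩, _⟩, _⟩ := h γ hγ
    simpa using h3
  · intro γ hγ i L' hL
    obtain ⟨⟨⟨⟨_, _⟩, _⟩, h4⟩, _⟩ := h γ hγ
    rw [hL] at h4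
    simp only [Bool.and_eq_true, lBeq_iff, Nat.beq_eq] at h4
    exact h4
  · intro γ hγ h0
    obtain ⟨_, h5⟩ := h γ hγ
    rw [Bool.or_eq_true] at h5
    rcases h5 with h5 | h5
    · exfalso
      obtain ⟨j, k, hjk⟩ := h0
      rw [allLt_iff] at h5
      have h6 := h5 j hjk.2.1
      rw [allLt_iff] at h6
      have h7 := h6 k hjk.2.2.1
      rw [(inR2F_iff hs).2 hjk] at h7
      exact Bool.noConfusion h7
    · rw [exLt2_iff] at h5
      obtain ⟨j, hj, k, hk, h7⟩ := h5
      simp only [Bool.and_eq_true, allL_iff, Bool.or_eq_true, Nat.beq_eq] at h7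
      exact ⟨j, k, (inR2F_iff hs).1 h7.1.1, (inR2F_iff hs).1 h7.1.2, h7.2⟩

theorem edgeSpec_of_chk (hD : IsTabulated D) (hs : suppChk D T = true)
    (h : edgeChk D T = true) : EdgeSpec D T := by
  simp only [edgeChk, allLt_iff] at h
  refine ⟨?_⟩
  intro γ hγ i hi
  have h1 := h i hi γ hγ
  unfold edgeOK at h1
  cases hk0 : Nat.beq (T.kindE γ i) 0 with
  | true =>
    rw [hk0] at h1
    simp only [cond_true] at h1
    rw [exLt_iff] at h1
    obtain ⟨j, hj, h2⟩ := h1
    simp only [Bool.and_eq_true] at h2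
    exact Or.inl ⟨j, (inR2F_iff hs).1 h2.2⟩
  | false =>
    rw [hk0] at h1
    simp only [cond_false] at h1
    cases hk1 : Nat.beq (T.kindE γ i) 1 with
    | true =>
      rw [hk1] at h1
      simp only [cond_true, Bool.and_eq_true, lBeq_iff, Nat.beq_eq] at h1
      exact Or.inr (Or.inl h1)
    | false =>
      rw [hk1] at h1
      simp only [cond_false] at h1
      cases hk2 : Nat.beq (T.kindE γ i) 2 with
      | true =>
        rw [hk2] at h1
        simp only [cond_true, Bool.and_eq_true, lBeq_iff, Nat.beq_eq] at h1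
        exact Or.inr (Or.inr (Or.inl h1))
      | false =>
        rw [hk2] at h1
        simp only [cond_false] at h1
        rw [exLt_iff] at h1
        obtain ⟨j, hj, h2⟩ := h1
        simp only [Bool.and_eq_true, Bool.not_eq_true'] at h2
        obtain ⟨⟨_, hji⟩, h3⟩ := h2
        refine Or.inr (Or.inr (Or.inr ⟨j, hj, ?_, ?_⟩))
        · intro e
          rw [e] at hji
          have : Nat.beq i i = true := by simp
          rw [this] at hji
          exact Bool.noConfusion hji
        · cases hp : polyGo D T (T.lvlE γ i) (2 * mOf D j i - 1) (wD D i γ) j i with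
          | none => rw [hp] at h3; exact Bool.noConfusion h3
          | some δ =>
            rw [hp] at h3
            simp only [Nat.beq_eq] at h3
            subst h3
            exact polyOK_of_polyGo D T _ _ _ _ _ _ hp

theorem pairSpec_of_chk (hD : IsTabulated D) (hs : suppChk D T = true)
    (h : pairChk D T P = true) : PairSpec D P := by
  have hneg := negF_eq (fastOK_of_tabulated hD).chk
  simp only [pairChk, allLt_iff] at h
  refine ⟨?_⟩
  intro γ hγ δ hδ h1 h2
  have h3 := h γ hγ δ hδ
  rw [hneg] at h3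
  simp only [Bool.or_eq_true, Nat.beq_eq] at h3
  rcases h3 with (h3 | h3) | h3
  · exact absurd h3 h1
  · exact absurd h3 h2
  · unfold pairOK at h3
    cases hb : Nat.blt (P.stepE γ δ) 8 with
    | true =>
      rw [hb] at h3
      simp only [cond_true] at h3
      rw [exLt_iff] at h3
      obtain ⟨k, hk, h4⟩ := h3
      simp only [Bool.and_eq_true, Nat.blt_eq] at h4
      exact Or.inr ⟨k, hk, h4.1.2, h4.2⟩
    | false =>
      rw [hb] at h3
      simp only [cond_false, Bool.and_eq_true] at h3
      exact Or.inl ⟨_, _, (inR2F_iff hs).1 h3.1, (inR2F_iff hs).1 h3.2⟩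

end Cfsg.Agent.S1164P
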