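import Mathlib
import Cfsg.Agent.Helper2.CT.Defs
import Cfsg.Agent.Helper2.CT.TabD4
import Cfsg.Agent.Helper2.CT.TabF4
import Cfsg.Agent.Helper2.CT.TabE6
import Cfsg.Agent.Helper2.CT.TabE7
import Cfsg.Agent.Helper2.CT.TabE8
import Cfsg.Agent.Helper6.Chev.TablesConj
import Cfsg.Agent.Helper18.S1164CHKSPEC

set_option autoImplicit false
set_option linter.unusedSectionVars false
set_option linter.unusedVariables false

/-! S1164 (Curtis–Tits), piece CLOSURE: the rank two subsystems `Φ_ij` contain `p_i`, and are closed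
under negation, under the reflection `w_i` and under the terms of the commutator formula; every
node has a neighbour joined by a single bond. -/

namespace Cfsg.Agent.S1164P

open Cfsg.Lie Cfsg.Agent.Helper6 Cfsg.Agent.Helper2.StPerf Cfsg.Agent.Helper2.Stb

namespace CLOSURE

set_option maxRecDepth 100000 in
theorem suppChk_D4 : suppChk chevD4 tabD4 = true := by decide +kernel
set_option maxRecDepth 100000 in
theorem suppChk_F4 : suppChk chevF4 tabF4 = true := by decide +kernel
set_option maxRecDepth 100000 in
theorem suppChk_E6 : suppChk chevE6 tabE6 = true := by decide +kernel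
set_option maxRecDepth 100000 in
theorem suppChk_E7 : suppChk chevE7 tabE7 = true := by decide +kernel
set_option maxRecDepth 100000 in
theorem suppChk_E8 : suppChk chevE8 tabE8 = true := by decide +kernel

/-- closure of the rank two subsystems under the terms of the commutator formula, on the masks -/
def commChk (D : ChevalleyDatum) (T : CTTab) : Bool :=
  allLt D.rank fun i => allLt D.rank fun j => allLt D.nroots fun r =>
    !inR2F D T i j r || allLt D.nroots fun s =>
      !inR2F D T i j s || Nat.beq s r || Nat.beq s (negF D r) ||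
        allL (commTermsG (ceF D) r s) fun c => inR2F D T i j c.1

/-- every node has a neighbour joined by a single bond -/
def adjChk (D : ChevalleyDatum) : Bool :=
  allLt D.rank fun i => !(allLt D.rank fun j =>
    !(!Nat.beq j i && decide (cartanF D i (D.simple j) = -1) &&
      decide (cartanF D j (D.simple i) = -1)))

set_option maxRecDepth 100000 in
theorem commChk_D4 : commChk chevD4 tabD4 = true := by decide +kernel
set_option maxRecDepth 100000 in
theorem commChk_F4 : commChk chevF4 tabF4 = true := by decide +kernel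
set_option maxRecDepth 100000 in
theorem commChk_E6 : commChk chevE6 tabE6 = true := by decide +kernel
set_option maxRecDepth 100000 in
theorem commChk_E7 : commChk chevE7 tabE7 = true := by decide +kernel
set_option maxRecDepth 100000 in
theorem commChk_E8 : commChk chevE8 tabE8 = true := by decide +kernel

set_option maxRecDepth 100000 in
theorem adjChk_of_isCT {D : ChevalleyDatum} (hD : IsCT D) : adjChk D = true := by
  simp only [IsCT, List.mem_cons, List.not_mem_nil, or_false] at hD
  rcases hD with rfl | rfl | rfl | rfl | rfl <;> decide +kernel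

variable {D : ChevalleyDatum} {T : CTTab}

theorem commTerms_of_chk (hD : IsTabulated D) (hs : suppChk D T = true)
    (h : commChk D T = true) {i j r s : ℕ} (hr : D.InRankTwoSub i j r)
    (hs' : D.InRankTwoSub i j s) (h1 : s ≠ r) (h2 : s ≠ D.neg r) :
    ∀ c ∈ D.commTerms r s, D.InRankTwoSub i j c.1 := by
  have hF := fastOK_of_tabulated hD
  simp only [commChk, allLt_iff] at h
  have h3 := h i hr.2.1 j hr.2.2.1 r hr.1
  rw [(inR2F_iff hs).2 hr] at h3
  simp only [Bool.not_true, Bool.false_or, allLt_iff] at h3
  have h4 := h3 s hs'.1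
  rw [(inR2F_iff hs).2 hs', negF_eq hF.chk, ceF_eq hF.keys hF.chk, commTermsG_eq] at h4
  simp only [Bool.not_true, Bool.false_or, Bool.or_eq_true, Nat.beq_eq] at h4
  rcases h4 with (h4 | h4) | h4
  · exact absurd h4 h1
  · exact absurd h4 h2
  · rw [allL_iff] at h4
    intro c hc
    exact (inR2F_iff hs).1 (h4 c hc)

end CLOSURE

open CLOSURE

variable {D : ChevalleyDatum}

theorem inR2_symm {i j r : ℕ} (h : D.InRankTwoSub i j r) : D.InRankTwoSub j i r :=
  ⟨h.1, h.2.2.1, h.2.1, fun k hk hkj hki => h.2.2.2 k hk hki hkj⟩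

theorem inR2_simple (hD : IsCT D) {i j : ℕ} (hi : i < D.rank) (hj : j < D.rank) :
    D.InRankTwoSub i j (D.simple i) := by
  have hA := simpleAll_of_tabulated hD.tab hi
  refine ⟨hA.hS.1, hi, hj, fun k hk hki _ => ?_⟩
  have := hA.hE.1 k hk
  rw [if_neg hki] at this
  exact this

theorem inR2_neg (hD : IsCT D) {i j r : ℕ} (h : D.InRankTwoSub i j r) :
    D.InRankTwoSub i j (D.neg r) := by
  have hB := basicOK_of_tabulated hD.tab
  refine ⟨(hB.neg r h.1).1, h.2.1, h.2.2.1, fun k hk hki hkj => ?_⟩
  have := (hB.negTab r h.1).2 k hk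
  unfold corootC at this
  rw [this, h.2.2.2 k hk hki hkj, neg_zero]

theorem inR2_wR (hD : IsCT D) {i j r : ℕ} (h : D.InRankTwoSub i j r) :
    D.InRankTwoSub i j (wR D (D.simple i) r) := by
  have hB := basicOK_of_tabulated hD.tab
  have hA := simpleAll_of_tabulated hD.tab h.2.1
  refine ⟨wR_lt hB hA.hS.1 hA.hR h.1, h.2.1, h.2.2.1, fun k hk hki hkj => ?_⟩
  have := hA.hC.coroot r h.1 k hk
  rw [if_neg hki, sub_zero] at this
  unfold corootC at this
  rw [this, h.2.2.2 k hk hki hkj]

theorem inR2_commTerms (hD : IsCT D) {i j r s : ℕ} (hr : D.InRankTwoSub i j r)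
    (hs : D.InRankTwoSub i j s) (h1 : s ≠ r) (h2 : s ≠ D.neg r) :
    ∀ c ∈ D.commTerms r s, D.InRankTwoSub i j c.1 := by
  have hD' := hD
  simp only [IsCT, List.mem_cons, List.not_mem_nil, or_false] at hD'
  rcases hD' with rfl | rfl | rfl | rfl | rfl
  · exact commTerms_of_chk hD.tab suppChk_D4 commChk_D4 hr hs h1 h2
  · exact commTerms_of_chk hD.tab suppChk_F4 commChk_F4 hr hs h1 h2
  · exact commTerms_of_chk hD.tab suppChk_E6 commChk_E6 hr hs h1 h2
  · exact commTerms_of_chk hD.tab suppChk_E7 commChk_E7 hr hs h1 h2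
  · exact commTerms_of_chk hD.tab suppChk_E8 commChk_E8 hr hs h1 h2

/-- every node has a neighbour joined by a single bond -/
theorem exists_adjacent (hD : IsCT D) {i : ℕ} (hi : i < D.rank) :
    ∃ j < D.rank, j ≠ i ∧ D.cartan i (D.simple j) = -1 ∧ D.cartan j (D.simple i) = -1 := by
  have h := adjChk_of_isCT hD
  have hF := fastOK_of_tabulated hD.tab
  simp only [adjChk, allLt_iff] at h
  have h1 := h i hi
  rw [CHKSPEC.exLt_iff] at h1
  obtain ⟨j, hj, h2⟩ := h1
  rw [cartanF_eq hF.chk] at h2
  simp only [Bool.and_eq_true, Bool.not_eq_true', decide_eq_true_eq] at h2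
  refine ⟨j, hj, ?_, h2.1.2, h2.2⟩
  intro e
  have h3 := h2.1.1
  rw [e] at h3
  have : Nat.beq i i = true := by simp
  rw [this] at h3
  exact Bool.noConfusion h3

end Cfsg.Agent.S1164P
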