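import Mathlib
import Cfsg.Agent.Helper2.CT.Defs
import Cfsg.Agent.Helper2.Stb.Main
import Cfsg.Agent.Helper2.Stb.RankOne
import Cfsg.Agent.Helper18.S1164CLOSURE

set_option autoImplicit false
set_option linter.unusedSectionVars false
set_option linter.unusedVariables false

/-! S1164 (Curtis–Tits), piece I-HN (core): the subgroup `Ĥ` and the elements `n̂_i`, from (R1) and
the relation (4) inside the rank two subsystems (taken as a hypothesis `HConj`). -/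

namespace Cfsg.Agent.S1164P.IHN

open Cfsg.Lie Cfsg.Agent.Helper6 Cfsg.Agent.Helper2.StPerf Cfsg.Agent.Helper2.Stb Cfsg.Agent.S1164P

variable {D : ChevalleyDatum} {K : Type*} [Field K] {M : Type*} [Group M]
  {X : ℕ → K → M} {P : ℕ → ℕ → Prop}

/-- relation (4) inside the rank two subsystems -/
def HConj (X : ℕ → K → M) (D : ChevalleyDatum) : Prop :=
  ∀ (i j s : ℕ), D.InRankTwoSub i j s → ∀ c : K, c ≠ 0 → ∀ u : K,
    hH X D (D.simple i) c * X s u * (hH X D (D.simple i) c)⁻¹ = X s (c ^ (D.cartan i s) * u)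

/-- `n̂_p(-1) = n̂_p⁻¹` -/
theorem nH_neg_one (h : R12On D X P) (hB : BasicOK D) {r : ℕ} (hr : r < D.nroots) :
    nH X D r (-1) = (nH X D r 1)⁻¹ := by
  have hn := (hB.neg r hr).1
  rw [nH_eq, nH_eq, mul_inv_rev, mul_inv_rev, X_invP h hr, X_invP h hn, mul_assoc]
  norm_num

/-- `n̂_p(c) = ĥ_p(c) n̂_p` -/
theorem nH_eq_hH_mul (h : R12On D X P) (hB : BasicOK D) {r : ℕ} (hr : r < D.nroots) (c : K) :
    nH X D r c = hH X D r c * nH X D r 1 := by
  rw [hH_eq, nH_neg_one h hB hr, inv_mul_cancel_right]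

/-- `n̂_p² = ĥ_p(-1)⁻¹` -/
theorem nS_sq (h : R12On D X P) (hB : BasicOK D) {r : ℕ} (hr : r < D.nroots) :
    nH X D r 1 * nH X D r 1 = (hH X D r (-1))⁻¹ := by
  rw [hH_eq, nH_neg_one h hB hr, ← mul_inv_rev, inv_inv]

theorem nS_inv_eq (h : R12On D X P) (hB : BasicOK D) {r : ℕ} (hr : r < D.nroots) :
    (nH X D r 1)⁻¹ = hH X D r (-1) * nH X D r 1 := by
  rw [hH_eq, nH_neg_one h hB hr, inv_mul_cancel_right]

theorem nS_sq_mem (hD : IsCT D) (h : R12On D X P) {i : ℕ} (hi : i < D.rank) :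
    nH X D (D.simple i) 1 * nH X D (D.simple i) 1 ∈ Hh X D := by
  have hB := basicOK_of_tabulated hD.tab
  have hA := simpleAll_of_tabulated hD.tab hi
  rw [nS_sq h hB hA.hS.1]
  exact Subgroup.inv_mem _ (hH_mem_Hh X hi (by norm_num))

/-- `ĥ_q(a) n̂_p ĥ_q(a)⁻¹ = n̂_p(a^{A_{q,p}})` -/
theorem hH_conj_nS (hD : IsCT D) (h : R12On D X P) (hc : HConj X D) {i j : ℕ} (hi : i < D.rank)
    (hj : j < D.rank) {a : K} (ha : a ≠ 0) :
    hH X D (D.simple j) a * nH X D (D.simple i) 1 * (hH X D (D.simple j) a)⁻¹ =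
      nH X D (D.simple i) (a ^ (D.cartan j (D.simple i))) := by
  have hB := basicOK_of_tabulated hD.tab
  have hA := simpleAll_of_tabulated hD.tab hi
  have hp := hA.hS.1
  have hn := hB.neg _ hp
  have hin : D.InRankTwoSub j i (D.simple i) := inR2_symm (inR2_simple hD hi hj)
  have hin' : D.InRankTwoSub j i (D.neg (D.simple i)) := inR2_neg hD hin
  rw [nH_eq, nH_eq]
  have e : ∀ (g a b c : M), g * (a * b * c) * g⁻¹ = (g * a * g⁻¹) * (g * b * g⁻¹) * (g * c * g⁻¹) := by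
    intros; group
  rw [e, hc j i _ hin a ha, hc j i _ hin' a ha, (hB.negTab _ hp).1 j hj, zpow_neg]
  simp

/-- conjugation by `n̂_p` preserves `Ĥ` -/
theorem nS_conj_Hh (hD : IsCT D) (h : R12On D X P) (hc : HConj X D) {i : ℕ} (hi : i < D.rank)
    {g : M} (hg : g ∈ Hh X D) :
    nH X D (D.simple i) 1 * g * (nH X D (D.simple i) 1)⁻¹ ∈ Hh X D := by
  have hB := basicOK_of_tabulated hD.tab
  have hA := simpleAll_of_tabulated hD.tab hi
  have hp := hA.hS.1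
  refine conj_closure_mem' _ ?_ g hg
  rintro x ⟨j, hj, a, ha, rfl⟩
  have h1 := hH_conj_nS hD h hc hi hj ha
  rw [nH_eq_hH_mul h hB hp (a ^ (D.cartan j (D.simple i)))] at h1
  obtain ⟨n, hn⟩ : ∃ n, n = nH X D (D.simple i) 1 := ⟨_, rfl⟩
  obtain ⟨k, hk⟩ : ∃ k, k = hH X D (D.simple j) a := ⟨_, rfl⟩
  obtain ⟨k', hk'⟩ : ∃ k', k' = hH X D (D.simple i) (a ^ (D.cartan j (D.simple i))) := ⟨_, rfl⟩
  rw [← hn, ← hk, ← hk'] at h1
  have h2 : nH X D (D.simple i) 1 * hH X D (D.simple j) a * (nH X D (D.simple i) 1)⁻¹ =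
      (hH X D (D.simple i) (a ^ (D.cartan j (D.simple i))))⁻¹ * hH X D (D.simple j) a := by
    rw [← hn, ← hk, ← hk']
    have h3 : k' = k * n * k⁻¹ * n⁻¹ := by rw [h1]; group
    rw [h3]
    group
  rw [h2]
  exact Subgroup.mul_mem _ (Subgroup.inv_mem _ (hH_mem_Hh X hi (zpow_ne_zero _ ha)))
    (hH_mem_Hh X hj ha)

/-- conjugation by `n̂_p⁻¹` preserves `Ĥ` -/
theorem nS_inv_conj_Hh (hD : IsCT D) (h : R12On D X P) (hc : HConj X D) {i : ℕ} (hi : i < D.rank)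
    {g : M} (hg : g ∈ Hh X D) :
    (nH X D (D.simple i) 1)⁻¹ * g * nH X D (D.simple i) 1 ∈ Hh X D := by
  have hB := basicOK_of_tabulated hD.tab
  have hA := simpleAll_of_tabulated hD.tab hi
  have hp := hA.hS.1
  have h1 := nS_conj_Hh hD h hc hi hg
  have hm : hH X D (D.simple i) (-1 : K) ∈ Hh X D := hH_mem_Hh X hi (by norm_num)
  have e : (nH X D (D.simple i) 1)⁻¹ * g * nH X D (D.simple i) 1 =
      hH X D (D.simple i) (-1) * (nH X D (D.simple i) 1 * g * (nH X D (D.simple i) 1)⁻¹) *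
        (hH X D (D.simple i) (-1))⁻¹ := by
    have e1 := nS_inv_eq h hB hp
    obtain ⟨n, hn⟩ : ∃ n, n = nH X D (D.simple i) 1 := ⟨_, rfl⟩
    obtain ⟨k, hk⟩ : ∃ k, k = hH X D (D.simple i) (-1 : K) := ⟨_, rfl⟩
    rw [← hn, ← hk] at e1 ⊢
    calc n⁻¹ * g * n = n⁻¹ * g * (n⁻¹)⁻¹ := by rw [inv_inv]
      _ = (k * n) * g * (k * n)⁻¹ := by rw [e1]
      _ = k * (n * g * n⁻¹) * k⁻¹ := by group
  rw [e]
  exact Subgroup.mul_mem _ (Subgroup.mul_mem _ hm h1) (Subgroup.inv_mem _ hm)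

/-- `Ĥ` acts by scalars on the root subgroups of `±p_b` -/
theorem Hh_conj_simple (hD : IsCT D) (h : R12On D X P) (hc : HConj X D) {g : M}
    (hg : g ∈ Hh X D) {b : ℕ} (hb : b < D.rank) {p' : ℕ}
    (hp' : p' = D.simple b ∨ p' = D.neg (D.simple b)) :
    ∃ c : K, c ≠ 0 ∧ ∀ t : K, g * X p' t * g⁻¹ = X p' (c * t) := by
  unfold Hh at hg
  induction hg using Subgroup.closure_induction with
  | mem g hg =>
    obtain ⟨i, hi, a, ha, rfl⟩ := hg
    have hin : D.InRankTwoSub i b p' := by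
      rcases hp' with rfl | rfl
      · exact inR2_symm (inR2_simple hD hb hi)
      · exact inR2_neg hD (inR2_symm (inR2_simple hD hb hi))
    exact ⟨a ^ (D.cartan i p'), zpow_ne_zero _ ha, fun t => hc i b p' hin a ha t⟩
  | one => exact ⟨1, one_ne_zero, fun t => by simp⟩
  | mul g₁ g₂ _ _ ih₁ ih₂ =>
    obtain ⟨c, hc0, hc⟩ := ih₁
    obtain ⟨d, hd0, hd⟩ := ih₂
    refine ⟨c * d, mul_ne_zero hc0 hd0, fun t => ?_⟩
    have e : g₁ * g₂ * X p' t * (g₁ * g₂)⁻¹ = g₁ * (g₂ * X p' t * g₂⁻¹) * g₁⁻¹ := by group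
    rw [e, hd, hc, mul_assoc]
  | inv g _ ih =>
    obtain ⟨c, hc0, hc⟩ := ih
    refine ⟨c⁻¹, inv_ne_zero hc0, fun t => ?_⟩
    have h1 := hc (c⁻¹ * t)
    rw [← mul_assoc, mul_inv_cancel₀ hc0, one_mul] at h1
    rw [← h1]
    group

end Cfsg.Agent.S1164P.IHN
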