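import Mathlib
import Cfsg.Agent.Helper2.CT.Defs
import Cfsg.Agent.Helper2.Stb.Main
import Cfsg.Agent.Helper2.Stb.RankOne

set_option autoImplicit false
set_option linter.unusedSectionVars false
set_option linter.unusedVariables false

/-! S1164 (Curtis–Tits), piece III-IND: the relations (R2) for all pairs of roots, by strong
induction on the level of the pair. -/

namespace Cfsg.Agent.S1164P

open Cfsg.Lie Cfsg.Agent.Helper6 Cfsg.Agent.Helper2.StPerf Cfsg.Agent.Helper2.Stb

variable {D : ChevalleyDatum} {K : Type*} [Field K] {M : Type*} [Group M] {P : CTPairTab}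

theorem r12_of_pairSpec (hD : IsTabulated D) (hP : PairSpec D P) {Y : ℕ → K → M}
    (hadd : ∀ r < D.nroots, ∀ t u : K, Y r t * Y r u = Y r (t + u))
    (hbase : ∀ i j γ δ : ℕ, D.InRankTwoSub i j γ → D.InRankTwoSub i j δ → δ ≠ γ → δ ≠ D.neg γ →
      R2At D Y γ δ)
    (hstep : ∀ k < D.rank, ∀ γ < D.nroots, ∀ δ < D.nroots, twOK D k γ δ = true →
      R2At D Y γ δ → R2At D Y (wD D k γ) (wD D k δ)) : R12 D Y := by
  have hB := basicOK_of_tabulated hD
  have hF := fastOK_of_tabulated hD
  have hn := nroots_le_of_tabulated hD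
  have key : ∀ n : ℕ, ∀ γ < D.nroots, ∀ δ < D.nroots, δ ≠ γ → δ ≠ D.neg γ → P.lvlE γ δ = n →
      R2At D Y γ δ := by
    intro n
    induction n using Nat.strong_induction_on with
    | _ n ih =>
      intro γ hγ δ hδ h1 h2 hlvl
      rcases hP.ok γ hγ δ hδ h1 h2 with ⟨i, j, hi, hj⟩ | ⟨k, hk, hlt, htw⟩
      · exact hbase i j γ δ hi hj h1 h2
      · have hA := simpleAll_of_tabulated hD hk
        have hp := hA.hS.1
        have hwlt : ∀ s < D.nroots, wR D (D.simple k) s < D.nroots :=
          fun s hs => wR_lt hB hp hA.hR hs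
        have hw : ∀ s < D.nroots, wD D k s = wR D (D.simple k) s :=
          fun s hs => wD_eq hF hn hwlt hs
        have hγ' : wD D k γ < D.nroots := by rw [hw γ hγ]; exact hwlt γ hγ
        have hδ' : wD D k δ < D.nroots := by rw [hw δ hδ]; exact hwlt δ hδ
        have h1' : wD D k δ ≠ wD D k γ := by
          rw [hw γ hγ, hw δ hδ]
          intro e
          exact h1 (wR_inj hB hA hδ hγ e)
        have h2' : wD D k δ ≠ D.neg (wD D k γ) := by
          rw [hw γ hγ, hw δ hδ, ← hA.hC.negw γ hγ]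
          intro e
          exact h2 (wR_inj hB hA hδ (hB.neg γ hγ).1 e)
        have h3 := ih (P.lvlE (wD D k γ) (wD D k δ)) (by rw [← hlvl]; exact hlt)
          (wD D k γ) hγ' (wD D k δ) hδ' h1' h2' rfl
        have h4 := hstep k hk (wD D k γ) hγ' (wD D k δ) hδ' htw h3
        have eγ : wD D k (wD D k γ) = γ := by
          rw [hw _ hγ', hw γ hγ]; exact wR_wR hB hA hγ
        have eδ : wD D k (wD D k δ) = δ := by
          rw [hw _ hδ', hw δ hδ]; exact wR_wR hB hA hδ
        rw [eγ, eδ] at h4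
        exact h4
  refine ⟨hadd, ?_⟩
  intro r hr s hs h1 h2 t u
  exact key _ r hr s hs h1 h2 rfl t u

end Cfsg.Agent.S1164P
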