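import Mathlib
import Cfsg.Agent.Helper2.CT.Defs
import Cfsg.Agent.Helper2.Stb.Main
import Cfsg.Agent.Helper2.Stb.RankOne

set_option autoImplicit false
set_option linter.unusedSectionVars false
set_option linter.unusedVariables false

/-! S1164 (Curtis–Tits), piece III-STEP: conjugating the relation (R2) at a pair of roots by an
element acting as `n_k`. -/

namespace Cfsg.Agent.S1164P

open Cfsg.Lie Cfsg.Agent.Helper6 Cfsg.Agent.Helper2.StPerf Cfsg.Agent.Helper2.Stb

namespace IIISTEP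

variable {D : ChevalleyDatum}

theorem chainRoot_lt (hB : BasicOK D) {r : ℕ} (hr : r < D.nroots) {s i c : ℕ}
    (h : D.chainRoot r s i = some c) : c < D.nroots := by
  unfold ChevalleyDatum.chainRoot at h
  rw [Option.map_eq_some_iff] at h
  obtain ⟨q, hq, rfl⟩ := h
  have hmem : q ∈ D.chainEntry r s := List.mem_of_getElem? hq
  exact (chainRel_mem (chainRel_chainEntry hB.chain hr s) q hmem).1

/-- the roots of the terms of the commutator formula are in range -/
theorem commTerms_lt (hB : BasicOK D) {r s : ℕ} (hr : r < D.nroots) (hs : s < D.nroots) :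
    ∀ c ∈ D.commTerms r s, c.1 < D.nroots := by
  intro c hc
  unfold ChevalleyDatum.commTerms at hc
  simp only [List.mem_filterMap, List.mem_cons, List.not_mem_nil, or_false] at hc
  obtain ⟨a, ha, hac⟩ := hc
  rw [Option.map_eq_some_iff] at hac
  obtain ⟨k, hk, rfl⟩ := hac
  simp only
  rcases ha with rfl | rfl | rfl | rfl | rfl | rfl | rfl
  · exact chainRoot_lt hB hr hk
  · exact chainRoot_lt hB hr hk
  · exact chainRoot_lt hB hs hk
  · exact chainRoot_lt hB hr hk
  · exact chainRoot_lt hB hs hk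
  · simp only at hk
    rw [Option.bind_eq_some_iff] at hk
    obtain ⟨m, hm, hk'⟩ := hk
    exact chainRoot_lt hB (chainRoot_lt hB hr hm) hk'
  · simp only at hk
    rw [Option.bind_eq_some_iff] at hk
    obtain ⟨m, hm, hk'⟩ := hk
    exact chainRoot_lt hB (chainRoot_lt hB hs hm) hk'

end IIISTEP

open IIISTEP

variable {D : ChevalleyDatum} {K : Type*} [Field K] {M : Type*} [Group M]

theorem r2At_step (hD : IsTabulated D) {Y : ℕ → K → M} {k : ℕ} (hk : k < D.rank) (g : M)
    (hconj : ∀ γ < D.nroots, ∀ t : K, g * Y γ t * g⁻¹ =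
      Y (wR D (D.simple k) γ) (((etaR D (D.simple k) γ : ℤ) : K) * t))
    {γ δ : ℕ} (hγ : γ < D.nroots) (hδ : δ < D.nroots)
    (htw : twOK D k γ δ = true) (hP : R2At D Y γ δ) : R2At D Y (wD D k γ) (wD D k δ) := by
  have hB := basicOK_of_tabulated hD
  have hF := fastOK_of_tabulated hD
  have hn := nroots_le_of_tabulated hD
  have hA := simpleAll_of_tabulated hD hk
  have hp := hA.hS.1
  have hwlt : ∀ s < D.nroots, wR D (D.simple k) s < D.nroots := fun s hs => wR_lt hB hp hA.hR hs
  have hw : ∀ s < D.nroots, wD D k s = wR D (D.simple k) s := fun s hs => wD_eq hF hn hwlt hs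
  have hη : ∀ s < D.nroots, etaD D k s = etaR D (D.simple k) s := fun s hs =>
    etaD_eq hF (fun s hs => etaR_pm hB hp hA.hR hs) hs
  have hlt := commTerms_lt hB hγ hδ
  -- the twist identity
  unfold twOK at htw
  rw [tBeq_iff, ceF_eq hF.keys hF.chk, commTermsG_eq, hw γ hγ, hw δ hδ] at htw
  have htw' : D.commTerms (wR D (D.simple k) γ) (wR D (D.simple k) δ) =
      (D.commTerms γ δ).map fun c => (wR D (D.simple k) c.1,
        etaR D (D.simple k) c.1 * c.2.1 * etaR D (D.simple k) γ ^ c.2.2.1 *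
          etaR D (D.simple k) δ ^ c.2.2.2, c.2.2.1, c.2.2.2) := by
    rw [htw]
    apply List.map_congr_left
    intro c hc
    rw [hw c.1 (hlt c hc), hη c.1 (hlt c hc), hη γ hγ, hη δ hδ]
  rw [hw γ hγ, hw δ hδ]
  intro t u
  obtain ⟨A, hAdef⟩ : ∃ A : K, A = ((etaR D (D.simple k) γ : ℤ) : K) := ⟨_, rfl⟩
  obtain ⟨B, hBdef⟩ : ∃ B : K, B = ((etaR D (D.simple k) δ : ℤ) : K) := ⟨_, rfl⟩
  have hA2 : A * A = 1 := by rw [hAdef]; exact etaR_sq (F := K) hB hA hγ
  have hB2 : B * B = 1 := by rw [hBdef]; exact etaR_sq (F := K) hB hA hδ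
  have e1 := hP (A * t) (B * u)
  have e2 : g * ((Y δ (B * u))⁻¹ * (Y γ (A * t))⁻¹ * Y δ (B * u) * Y γ (A * t)) * g⁻¹ =
      (Y (wR D (D.simple k) δ) u)⁻¹ * (Y (wR D (D.simple k) γ) t)⁻¹ *
        Y (wR D (D.simple k) δ) u * Y (wR D (D.simple k) γ) t := by
    have kγ := hconj γ hγ (A * t)
    have kδ := hconj δ hδ (B * u)
    rw [← hAdef, ← mul_assoc, hA2, one_mul] at kγ
    rw [← hBdef, ← mul_assoc, hB2, one_mul] at kδ
    rw [← kγ, ← kδ]
    group
  rw [e1] at e2
  rw [← e2]
  rw [conj_wordX g (wR D (D.simple k)) (fun ρ => ((etaR D (D.simple k) ρ : ℤ) : K))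
    (D.commWord K γ δ (A * t) (B * u))]
  · congr 1
    unfold ChevalleyDatum.commWord
    rw [htw', List.map_map, List.map_map]
    apply List.map_congr_left
    intro c hc
    simp only [Function.comp]
    congr 1
    push_cast
    rw [← hAdef, ← hBdef]
    have e3 : (-(A * t)) ^ c.2.2.1 = A ^ c.2.2.1 * (-t) ^ c.2.2.1 := by
      rw [← mul_pow]; congr 1; ring
    rw [e3, mul_pow]
    ring
  · intro q hq
    unfold ChevalleyDatum.commWord at hq
    rw [List.mem_map] at hq
    obtain ⟨c, hc, rfl⟩ := hq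
    exact hconj c.1 (hlt c hc) _

end Cfsg.Agent.S1164P
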