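import Mathlib
import Cfsg.Agent.Helper2.CT.Defs
import Cfsg.Agent.Helper2.Stb.Main
import Cfsg.Agent.Helper2.Stb.RankOne
import Cfsg.Agent.Helper18.S1164CLOSURE
import Cfsg.Agent.Helper18.S1164IHNcore

set_option autoImplicit false
set_option linter.unusedSectionVars false
set_option linter.unusedVariables false

/-! S1164 (Curtis–Tits), piece II-STDIAG (core): the root elements `Xt γ` of the roots of `Φ₀` are
the standard ones up to the sign `sgnW`; `Ĥ` acts by scalars on all the `Xt γ`.  The relations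
(3), (4) inside the rank two subsystems are hypotheses (`NConj`, `IHN.HConj`). -/

namespace Cfsg.Agent.S1164P.IISTD

open Cfsg.Lie Cfsg.Agent.Helper6 Cfsg.Agent.Helper2.StPerf Cfsg.Agent.Helper2.Stb Cfsg.Agent.S1164P

variable {D : ChevalleyDatum} {K : Type*} [Field K] {M : Type*} [Group M]
  {X : ℕ → K → M} {P : ℕ → ℕ → Prop} {T : CTTab}

/-- relation (3) inside the rank two subsystems -/
def NConj (X : ℕ → K → M) (D : ChevalleyDatum) : Prop :=
  ∀ (i j s : ℕ), D.InRankTwoSub i j s → ∀ u : K,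
    nH X D (D.simple i) 1 * X s u * (nH X D (D.simple i) 1)⁻¹ =
      X (wR D (D.simple i) s) (((etaR D (D.simple i) s : ℤ) : K) * u)

theorem wFold_cons (i : ℕ) (L : List ℕ) (s : ℕ) :
    wFold D (i :: L) s = wR D (D.simple i) (wFold D L s) := rfl

theorem sgnW_cons (i : ℕ) (L : List ℕ) (b : ℕ) :
    sgnW D (i :: L) b = etaR D (D.simple i) (wFold D L b) * sgnW D L b := rfl

/-- the sign of a word is `±1` -/
theorem sgnW_sq (hD : IsTabulated D) : ∀ (L : List ℕ), (∀ i ∈ L, i < D.rank) → ∀ {b : ℕ},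
    b < D.nroots → ((sgnW D L b : ℤ) : K) * ((sgnW D L b : ℤ) : K) = 1 := by
  have hB := basicOK_of_tabulated hD
  intro L
  induction L with
  | nil => intro _ b _; simp [sgnW]
  | cons i L ih =>
    intro hL b hb
    have hi := hL i List.mem_cons_self
    have hL' : ∀ j ∈ L, j < D.rank := fun j hj => hL j (List.mem_cons_of_mem _ hj)
    have hA := simpleAll_of_tabulated hD hi
    have h1 := etaR_sq (F := K) hB hA
      (wFold_lt hB (fun i hi => simpleAll_of_tabulated hD hi) hL' hb)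
    have h2 := ih hL' hb
    rw [sgnW_cons]
    push_cast
    calc ((etaR D (D.simple i) (wFold D L b) : ℤ) : K) * ((sgnW D L b : ℤ) : K) *
          (((etaR D (D.simple i) (wFold D L b) : ℤ) : K) * ((sgnW D L b : ℤ) : K))
        = (((etaR D (D.simple i) (wFold D L b) : ℤ) : K) *
            ((etaR D (D.simple i) (wFold D L b) : ℤ) : K)) *
          (((sgnW D L b : ℤ) : K) * ((sgnW D L b : ℤ) : K)) := by ring
      _ = 1 := by rw [h1, h2, one_mul]

theorem sgnW_ne_zero (hD : IsTabulated D) {L : List ℕ} (hL : ∀ i ∈ L, i < D.rank) {b : ℕ}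
    (hb : b < D.nroots) : ((sgnW D L b : ℤ) : K) ≠ 0 := by
  intro h
  have := sgnW_sq (K := K) hD L hL hb
  rw [h, mul_zero] at this
  exact zero_ne_one this

/-- conjugation by a word in `n̂_j`, `n̂_k` inside `Φ_jk` -/
theorem nWd_conj_std (hD : IsCT D) (hn : NConj X D) {j k : ℕ} : ∀ (L : List ℕ),
    (∀ i ∈ L, i = j ∨ i = k) → ∀ {s : ℕ}, D.InRankTwoSub j k s →
      D.InRankTwoSub j k (wFold D L s) ∧ ∀ t : K, nWd X D L * X s t * (nWd X D L)⁻¹ =
        X (wFold D L s) (((sgnW D L s : ℤ) : K) * t) := by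
  intro L
  induction L with
  | nil =>
    intro _ s hs
    refine ⟨hs, fun t => ?_⟩
    simp [nWd_nil, wFold, sgnW]
  | cons i L ih =>
    intro hL s hs
    have hL' : ∀ a ∈ L, a = j ∨ a = k := fun a ha => hL a (List.mem_cons_of_mem _ ha)
    obtain ⟨h1, h2⟩ := ih hL' hs
    have hin : D.InRankTwoSub i (if i = j then k else j) (wFold D L s) := by
      rcases hL i List.mem_cons_self with rfl | rfl
      · rw [if_pos rfl]; exact h1
      · by_cases hkj : i = j
        · rw [if_pos hkj]; subst hkj; exact h1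
        · rw [if_neg hkj]; exact inR2_symm h1
    refine ⟨?_, fun t => ?_⟩
    · rw [wFold_cons]
      rcases hL i List.mem_cons_self with rfl | rfl
      · exact inR2_wR hD h1
      · exact inR2_symm (inR2_wR hD (inR2_symm h1))
    · rw [nWd_cons, wFold_cons, sgnW_cons]
      have e : nH X D (D.simple i) 1 * nWd X D L * X s t * (nH X D (D.simple i) 1 * nWd X D L)⁻¹ =
          nH X D (D.simple i) 1 * (nWd X D L * X s t * (nWd X D L)⁻¹) *
            (nH X D (D.simple i) 1)⁻¹ := by group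
      rw [e, h2 t, hn i _ _ hin]
      congr 1
      push_cast
      ring

variable (hD : IsCT D) (hT : TreeSpec D T)
include hD hT

theorem base_lt {γ : ℕ} (hγ : γ < D.nroots) : T.baseE γ < D.nroots := by
  have hB := basicOK_of_tabulated hD.tab
  obtain ⟨a, ha, hb⟩ := hT.base γ hγ
  have hA := simpleAll_of_tabulated hD.tab ha
  rcases hb with hb | hb
  · rw [hb]; exact hA.hS.1
  · rw [hb]; exact (hB.neg _ hA.hS.1).1

theorem wFold_path {γ : ℕ} (hγ : γ < D.nroots) : wFold D (T.pathE γ) (T.baseE γ) = γ := by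
  have hB := basicOK_of_tabulated hD.tab
  have hF := fastOK_of_tabulated hD.tab
  have hn := nroots_le_of_tabulated hD.tab
  rw [← wFoldD_eq hB hF hn (fun i hi => simpleAll_of_tabulated hD.tab hi) (hT.lt γ hγ)
    (base_lt hD hT hγ)]
  exact hT.fold γ hγ

/-- the root elements of the roots of `Φ₀` are the standard ones, up to the sign of the word -/
theorem Xt_std' (hn : NConj X D) {γ : ℕ} (hγ : γ < D.nroots) (h0 : InPhi0 D γ) (t : K) :
    Xt X D T γ t = X γ (((sgnW D (T.pathE γ) (T.baseE γ) : ℤ) : K) * t) := by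
  obtain ⟨j, k, h1, h2, h3⟩ := hT.std γ hγ h0
  unfold Xt
  rw [(nWd_conj_std hD hn _ h3 h2).2 t, wFold_path hD hT hγ]

theorem Xt_std (hn : NConj X D) {γ : ℕ} (hγ : γ < D.nroots) (h0 : InPhi0 D γ) :
    ∃ c : K, c ≠ 0 ∧ ∀ t : K, Xt X D T γ t = X γ (c * t) :=
  ⟨_, sgnW_ne_zero hD.tab (hT.lt γ hγ) (base_lt hD hT hγ), fun t => Xt_std' hD hT hn hγ h0 t⟩

omit hT in
theorem nWd_inv_conj_Hh (h : R12On D X P) (hc : IHN.HConj X D) : ∀ (L : List ℕ),
    (∀ i ∈ L, i < D.rank) → ∀ g ∈ Hh X D, (nWd X D L)⁻¹ * g * nWd X D L ∈ Hh X D := by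
  intro L
  induction L with
  | nil => intro _ g hg; simpa [nWd_nil] using hg
  | cons i L ih =>
    intro hL g hg
    have hi := hL i List.mem_cons_self
    have hL' : ∀ j ∈ L, j < D.rank := fun j hj => hL j (List.mem_cons_of_mem _ hj)
    rw [nWd_cons]
    have e : (nH X D (D.simple i) 1 * nWd X D L)⁻¹ * g * (nH X D (D.simple i) 1 * nWd X D L) =
        (nWd X D L)⁻¹ * ((nH X D (D.simple i) 1)⁻¹ * g * nH X D (D.simple i) 1) * nWd X D L := by
      group
    rw [e]
    exact ih hL' _ (IHN.nS_inv_conj_Hh hD h hc hi hg)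

/-- `Ĥ` acts by scalars on the root elements of all roots -/
theorem monoP_Hh (h : R12On D X P) (hc : IHN.HConj X D) {g : M} (hg : g ∈ Hh X D) {γ : ℕ}
    (hγ : γ < D.nroots) : MonoP X D T g γ γ := by
  obtain ⟨a, ha, hb⟩ := hT.base γ hγ
  have hg' := nWd_inv_conj_Hh hD h hc (T.pathE γ) (hT.lt γ hγ) g hg
  obtain ⟨c, hc0, hc'⟩ := IHN.Hh_conj_simple hD h hc hg' ha hb
  refine ⟨c, hc0, fun t => ?_⟩
  unfold Xt
  rw [← hc' t]
  group

end Cfsg.Agent.S1164P.IISTD
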