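import Mathlib
import Cfsg.Agent.Helper2.CT.Defs
import Cfsg.Agent.Helper2.Stb.Main
import Cfsg.Agent.Helper2.Stb.RankOne
import Cfsg.Agent.Helper18.S1164CLOSURE
import Cfsg.Agent.Helper18.S1164IISTDcore

set_option autoImplicit false
set_option linter.unusedSectionVars false
set_option linter.unusedVariables false

/-! S1164 (Curtis–Tits), piece II-NORM (first part): the normalised root elements `Xn γ` map to the
standard matrices under `π` (`map_Xn`), are additive (`Xn_add`); cores of `Xn_std` (from relation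
(3), hypothesis `NConj`) and of `nS_conj_Xn` (from `MonoP`). -/

namespace Cfsg.Agent.S1164P

open Cfsg.Lie Cfsg.Agent.Helper6 Cfsg.Agent.Helper2.StPerf Cfsg.Agent.Helper2.Stb

variable {D : ChevalleyDatum} {K : Type*} [Field K] {M : Type*} [Group M]
  {X : ℕ → K → M} {π : M →* GL D.Idx K} {T : CTTab}

namespace IINORM

/-- the image of `n̂_i` -/
theorem map_nS (hD : IsCT D) (S : CTS hD.tab X π) {i : ℕ} (hi : i < D.rank) :
    π (nH X D (D.simple i) 1) =
      nU (basicOK_of_tabulated hD.tab) (D.simple i) (one_ne_zero (α := K)) := by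
  have hB := basicOK_of_tabulated hD.tab
  have h1 : InPhi0 D (D.simple i) := ⟨i, i, inR2_simple hD hi hi⟩
  have h2 : InPhi0 D (D.neg (D.simple i)) := ⟨i, i, inR2_neg hD (inR2_simple hD hi hi)⟩
  rw [nH_eq, map_mul, map_mul, S.hπ _ h1, S.hπ _ h2]
  apply Units.ext
  simp only [Units.val_mul, xU_val, nU_val]
  unfold ChevalleyDatum.nMat ChevalleyDatum.nWord ChevalleyDatum.wordMat
  simp [mul_assoc]

/-- the image of a word in the `n̂_i` -/
theorem map_nWd (hD : IsCT D) (S : CTS hD.tab X π) : ∀ (L : List ℕ), (∀ i ∈ L, i < D.rank) →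
    π (nWd X D L) = nW (basicOK_of_tabulated hD.tab) K L := by
  intro L
  induction L with
  | nil => intro _; simp [nWd_nil, nW]
  | cons i L ih =>
    intro hL
    have hi := hL i List.mem_cons_self
    have hL' : ∀ j ∈ L, j < D.rank := fun j hj => hL j (List.mem_cons_of_mem _ hj)
    rw [nWd_cons, map_mul, map_nS hD S hi, ih hL']
    simp [nW]

/-- conjugation of the matrices `x_s(t)` by a word in the `n_i`, with the sign -/
theorem nW_conj_sgn (hD : IsTabulated D) : ∀ (L : List ℕ), (∀ i ∈ L, i < D.rank) → ∀ {s : ℕ},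
    s < D.nroots → ∀ t : K,
      nW (basicOK_of_tabulated hD) K L * xU (basicOK_of_tabulated hD) s t *
          (nW (basicOK_of_tabulated hD) K L)⁻¹ =
        xU (basicOK_of_tabulated hD) (wFold D L s) (((sgnW D L s : ℤ) : K) * t) := by
  have hB := basicOK_of_tabulated hD
  intro L
  induction L with
  | nil => intro _ s _ t; simp [nW, wFold, sgnW]
  | cons i L ih =>
    intro hL s hs t
    have hi := hL i List.mem_cons_self
    have hL' : ∀ j ∈ L, j < D.rank := fun j hj => hL j (List.mem_cons_of_mem _ hj)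
    have hA := simpleAll_of_tabulated hD hi
    have hlt := wFold_lt hB (fun i hi => simpleAll_of_tabulated hD hi) hL' hs
    have e : nW hB K (i :: L) = nU hB (D.simple i) (one_ne_zero (α := K)) * nW hB K L := by
      simp [nW]
    rw [e, IISTD.wFold_cons, IISTD.sgnW_cons]
    have e2 : nU hB (D.simple i) (one_ne_zero (α := K)) * nW hB K L * xU hB s t *
        (nU hB (D.simple i) (one_ne_zero (α := K)) * nW hB K L)⁻¹ =
        nU hB (D.simple i) (one_ne_zero (α := K)) * (nW hB K L * xU hB s t * (nW hB K L)⁻¹) *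
          (nU hB (D.simple i) (one_ne_zero (α := K)))⁻¹ := by group
    rw [e2, ih hL' hs t, nU_conj_xU hB hA hlt]
    congr 1
    push_cast
    ring

/-- the image of the unnormalised root elements -/
theorem map_Xt (hD : IsCT D) (S : CTS hD.tab X π) (hT : TreeSpec D T) {γ : ℕ}
    (hγ : γ < D.nroots) (t : K) :
    π (Xt X D T γ t) = xU (basicOK_of_tabulated hD.tab) γ
      (((sgnW D (T.pathE γ) (T.baseE γ) : ℤ) : K) * t) := by
  have hB := basicOK_of_tabulated hD.tab
  obtain ⟨a, ha, hb⟩ := hT.base γ hγ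
  have h0 : InPhi0 D (T.baseE γ) := by
    rcases hb with hb | hb
    · rw [hb]; exact ⟨a, a, inR2_simple hD ha ha⟩
    · rw [hb]; exact ⟨a, a, inR2_neg hD (inR2_simple hD ha ha)⟩
  unfold Xt
  rw [map_mul, map_mul, map_inv, map_nWd hD S _ (hT.lt γ hγ), S.hπ _ h0,
    nW_conj_sgn hD.tab _ (hT.lt γ hγ) (IISTD.base_lt hD hT hγ), IISTD.wFold_path hD hT hγ]

/-- `Xt` through `Xn` -/
theorem Xt_eq_Xn (hD : IsCT D) (hT : TreeSpec D T) {γ : ℕ} (hγ : γ < D.nroots) (t : K) :
    Xt X D T γ t = Xn X D T γ (((sgnW D (T.pathE γ) (T.baseE γ) : ℤ) : K) * t) := by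
  unfold Xn
  rw [← mul_assoc, IISTD.sgnW_sq hD.tab _ (hT.lt γ hγ) (IISTD.base_lt hD hT hγ), one_mul]

/-- core of `Xn_std` -/
theorem Xn_std_core (hD : IsCT D) (hT : TreeSpec D T) (hn : IISTD.NConj X D) {γ : ℕ}
    (hγ : γ < D.nroots) (h0 : InPhi0 D γ) (t : K) : Xn X D T γ t = X γ t := by
  unfold Xn
  rw [IISTD.Xt_std' hD hT hn hγ h0, ← mul_assoc,
    IISTD.sgnW_sq hD.tab _ (hT.lt γ hγ) (IISTD.base_lt hD hT hγ), one_mul]

end IINORM

open IINORM

theorem map_Xn (hD : IsCT D) (S : CTS hD.tab X π) (hT : TreeSpec D T) {γ : ℕ}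
    (hγ : γ < D.nroots) (t : K) :
    π (Xn X D T γ t) = xU (basicOK_of_tabulated hD.tab) γ t := by
  unfold Xn
  rw [map_Xt hD S hT hγ, ← mul_assoc,
    IISTD.sgnW_sq hD.tab _ (hT.lt γ hγ) (IISTD.base_lt hD hT hγ), one_mul]

theorem Xn_add (hD : IsCT D) (S : CTS hD.tab X π) (hT : TreeSpec D T) {γ : ℕ}
    (hγ : γ < D.nroots) (t u : K) : Xn X D T γ t * Xn X D T γ u = Xn X D T γ (t + u) := by
  unfold Xn Xt
  rw [mul_add, ← S.r12.add _ (IISTD.base_lt hD hT hγ)]
  group

namespace IINORM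

/-- core of `nS_conj_Xn`: from `MonoP`, the scalar is pinned by `π` -/
theorem nS_conj_Xn_core (hD : IsCT D) (S : CTS hD.tab X π) (hT : TreeSpec D T)
    {γ : ℕ} (hγ : γ < D.nroots) {i : ℕ} (hi : i < D.rank)
    (hmono : MonoP X D T (nH X D (D.simple i) 1) γ (wD D i γ)) (t : K) :
    nH X D (D.simple i) 1 * Xn X D T γ t * (nH X D (D.simple i) 1)⁻¹ =
      Xn X D T (wR D (D.simple i) γ) (((etaR D (D.simple i) γ : ℤ) : K) * t) := by
  have hB := basicOK_of_tabulated hD.tab
  have hF := fastOK_of_tabulated hD.tab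
  have hn := nroots_le_of_tabulated hD.tab
  have hA := simpleAll_of_tabulated hD.tab hi
  have hp := hA.hS.1
  have hwlt : ∀ s < D.nroots, wR D (D.simple i) s < D.nroots := fun s hs => wR_lt hB hp hA.hR hs
  have hw : wD D i γ = wR D (D.simple i) γ := wD_eq hF hn hwlt hγ
  rw [hw] at hmono
  have hγ' := hwlt γ hγ
  obtain ⟨c, hc0, hc⟩ := hmono
  -- all in terms of `Xn`
  have key : ∀ u : K, nH X D (D.simple i) 1 * Xn X D T γ u * (nH X D (D.simple i) 1)⁻¹ =
      Xn X D T (wR D (D.simple i) γ)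
        (((sgnW D (T.pathE (wR D (D.simple i) γ)) (T.baseE (wR D (D.simple i) γ)) : ℤ) : K) *
          (c * (((sgnW D (T.pathE γ) (T.baseE γ) : ℤ) : K) * u))) := by
    intro u
    rw [← Xt_eq_Xn hD hT hγ']
    conv_lhs => rw [Xn]
    exact hc _
  -- the scalar
  have h1 := congrArg π (key 1)
  rw [map_mul, map_mul, map_inv, map_nS hD S hi, map_Xn hD S hT hγ, map_Xn hD S hT hγ',
    nU_conj_xU hB hA hγ] at h1
  have h2 := xU_inj hB hγ' h1
  rw [key t]
  congr 1
  rw [mul_one] at h2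
  rw [h2]
  ring

end IINORM

end Cfsg.Agent.S1164P
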