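import Mathlib
import Cfsg.Agent.Helper13.ThUPPER

/-!
# S1237 board, piece IDX16 (Chevalley–Warning): `P` central in `M`, all squares of `M` in `P`,
all involutions of `T` in the four-group `V ≤ P`  ⟹  `|M : P| ≤ 16`.
-/

set_option autoImplicit false

namespace Cfsg.Agent.S1237P

open Cfsg.Agent.Helper13.Th

/-- the index of the subgroup of squares of a finite commutative group is the number of elements
of square one -/
theorem IDX16_aux_index {A : Type*} [Group A] [Finite A] (hcomm : ∀ a b : A, a * b = b * a)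
    (Bsq : Subgroup A) (hB : ∀ y : A, y ∈ Bsq ↔ ∃ v : A, y = v ^ 2) :
    Bsq.index = Nat.card {a : A // a ^ 2 = 1} := by
  classical
  let sq : A →* A :=
    { toFun := fun a => a ^ 2
      map_one' := one_pow 2
      map_mul' := fun a b => by
        rw [pow_two, pow_two, pow_two]
        calc a * b * (a * b) = a * (b * a) * b := by group
          _ = a * (a * b) * b := by rw [hcomm b a]
          _ = a * a * (b * b) := by group }
  have hrange : sq.range = Bsq := by
    ext y
    rw [hB y, MonoidHom.mem_range]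
    constructor
    · rintro ⟨v, hv⟩; exact ⟨v, hv.symm⟩
    · rintro ⟨v, hv⟩; exact ⟨v, hv.symm⟩
  have hker : Nat.card sq.ker = Nat.card {a : A // a ^ 2 = 1} := by
    apply Nat.card_congr
    exact Equiv.subtypeEquivRight (fun a => by rw [MonoidHom.mem_ker]; rfl)
  have h1 : Nat.card A = Nat.card sq.ker * Nat.card sq.range := by
    have := Subgroup.card_mul_index sq.ker
    rw [Subgroup.index_ker] at this
    exact this.symm
  have h2 : Nat.card A = Nat.card Bsq * Bsq.index := (Subgroup.card_mul_index Bsq).symm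
  rw [hrange] at h1
  have hpos : 0 < Nat.card Bsq := Nat.card_pos
  have : Nat.card Bsq * Bsq.index = Nat.card Bsq * Nat.card sq.ker := by
    rw [← h2, h1, mul_comm]
  rw [← hker]
  exact Nat.eq_of_mul_eq_mul_left hpos this

/-- IDX16 (Chevalley–Warning). -/
theorem IDX16 {T : Type*} [Group T] [Finite T] (hT : IsPGroup 2 T) (V M P : Subgroup T)
    (hV : ∀ x : T, x ∈ V ↔ x * x = 1) (hVc : Nat.card V = 4) (hPM : P ≤ M) (hVP : V ≤ P)
    (hcent : ∀ p ∈ P, ∀ x ∈ M, p * x = x * p) (hsq : ∀ x ∈ M, x * x ∈ P) :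
    P.relIndex M ≤ 16 := by
  classical
  have hsq' : ∀ x ∈ M, x ^ 2 ∈ P := fun x hx => by rw [pow_two]; exact hsq x hx
  have hinv : ∀ x ∈ M, x ^ 2 = 1 → x ∈ P := fun x _ hx2 => by
    apply hVP
    rw [hV, ← pow_two]
    exact hx2
  -- coordinates on M / P
  haveI hBUn : (P.subgroupOf M).Normal := by
    refine ⟨fun v hv g => ?_⟩
    have hc := hcent (v : T) (Subgroup.mem_subgroupOf.mp hv) (g : T) g.2
    have : g * v * g⁻¹ = v := by
      apply Subtype.ext
      simp only [Subgroup.coe_mul, Subgroup.coe_inv]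
      rw [← hc, mul_inv_cancel_right]
    rw [this]
    exact hv
  obtain ⟨k, cU0, hcU0s, hcU0k⟩ := exists_coord (P.subgroupOf M) (fun a => by
    rw [Subgroup.mem_subgroupOf]
    simpa using hsq' (a : T) a.2)
  have hidx : P.relIndex M = 2 ^ k := by
    show (P.subgroupOf M).index = 2 ^ k
    rw [← hcU0k, Subgroup.index_ker, MonoidHom.range_eq_top.mpr hcU0s, Subgroup.card_top,
      Nat.card_congr Multiplicative.toAdd, Nat.card_eq_fintype_card, Fintype.card_fun, ZMod.card,
      Fintype.card_fin]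
  -- coordinates on P / P^2
  have hPcomm : ∀ a b : ↥P, a * b = b * a := by
    intro a b
    apply Subtype.ext
    simp only [Subgroup.coe_mul]
    exact hcent a a.2 b (hPM b.2)
  let Bsq : Subgroup ↥P :=
    { carrier := {y | ∃ v : ↥P, y = v ^ 2}
      mul_mem' := by
        rintro _ _ ⟨v, rfl⟩ ⟨w, rfl⟩
        refine ⟨v * w, ?_⟩
        rw [pow_two, pow_two, pow_two]
        calc v * v * (w * w) = v * (v * w) * w := by group
          _ = v * (w * v) * w := by rw [hPcomm v w]
          _ = v * w * (v * w) := by group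
      one_mem' := ⟨1, by simp⟩
      inv_mem' := by
        rintro _ ⟨v, rfl⟩
        exact ⟨v⁻¹, by simp⟩ }
  haveI hBsqn : Bsq.Normal := by
    refine ⟨fun y hy g => ?_⟩
    have : g * y * g⁻¹ = y := by rw [hPcomm g y, mul_inv_cancel_right]
    rw [this]
    exact hy
  obtain ⟨m, cM0, hcM0s, hcM0k⟩ := exists_coord Bsq (fun a => ⟨a, rfl⟩)
  have hm2 : m = 2 := by
    have h1 : Bsq.index = 2 ^ m := by
      rw [← hcM0k, Subgroup.index_ker, MonoidHom.range_eq_top.mpr hcM0s, Subgroup.card_top,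
        Nat.card_congr Multiplicative.toAdd, Nat.card_eq_fintype_card, Fintype.card_fun, ZMod.card,
        Fintype.card_fin]
    have h2 : Bsq.index = Nat.card {a : ↥P // a ^ 2 = 1} :=
      IDX16_aux_index hPcomm Bsq (fun y => Iff.rfl)
    have h3 : Nat.card {a : ↥P // a ^ 2 = 1} = Nat.card V := by
      apply Nat.card_congr
      refine ⟨fun a => ⟨(a.1 : T), ?_⟩, fun v => ⟨⟨(v : T), hVP v.2⟩, ?_⟩, ?_, ?_⟩
      · rw [hV, ← pow_two]
        have := congrArg (fun y : ↥P => (y : T)) a.2
        simpa using this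
      · apply Subtype.ext
        have := (hV (v : T)).1 v.2
        simp only [Subgroup.coe_pow, Subgroup.coe_one]
        rw [pow_two]; exact this
      · intro a; rfl
      · intro v; rfl
    rw [h1, h3, hVc] at h2
    have : (2 : ℕ) ^ m = 2 ^ 2 := by rw [h2]; norm_num
    exact Nat.pow_right_injective (le_refl 2) this
  -- extend the coordinates to functions on T
  let cU : T → (Fin k → ZMod 2) := fun x =>
    if hx : x ∈ M then Multiplicative.toAdd (cU0 ⟨x, hx⟩) else 0
  let cM : T → (Fin m → ZMod 2) := fun x =>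
    if hx : x ∈ P then Multiplicative.toAdd (cM0 ⟨x, hx⟩) else 0
  have hcUval : ∀ x (hx : x ∈ M), cU x = Multiplicative.toAdd (cU0 ⟨x, hx⟩) := fun x hx => dif_pos hx
  have hcMval : ∀ x (hx : x ∈ P), cM x = Multiplicative.toAdd (cM0 ⟨x, hx⟩) := fun x hx => dif_pos hx
  have hkm : k ≤ 2 * m := by
    apply k_le_two_m M P hPM hcent hsq' hinv k m cU ?_ ?_ ?_ cM ?_ ?_
    · intro x hx y hy
      rw [hcUval x hx, hcUval y hy, hcUval _ (M.mul_mem hx hy)]
      have : (⟨x * y, M.mul_mem hx hy⟩ : ↥M) = ⟨x, hx⟩ * ⟨y, hy⟩ := rfl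
      rw [this, map_mul, toAdd_mul]
    · intro x hx
      rw [hcUval x hx]
      have h1 : Multiplicative.toAdd (cU0 ⟨x, hx⟩) = 0 ↔ (⟨x, hx⟩ : ↥M) ∈ cU0.ker := by
        rw [MonoidHom.mem_ker]
        exact Iff.rfl
      rw [h1, hcU0k, Subgroup.mem_subgroupOf]
    · intro ε
      obtain ⟨x, hx⟩ := hcU0s (Multiplicative.ofAdd ε)
      refine ⟨(x : T), x.2, ?_⟩
      rw [hcUval _ x.2]
      have : (⟨(x : T), x.2⟩ : ↥M) = x := rfl
      rw [this, hx]
      rfl
    · intro x hx y hy
      rw [hcMval x hx, hcMval y hy, hcMval _ (P.mul_mem hx hy)]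
      have : (⟨x * y, P.mul_mem hx hy⟩ : ↥P) = ⟨x, hx⟩ * ⟨y, hy⟩ := rfl
      rw [this, map_mul, toAdd_mul]
    · intro x hx
      rw [hcMval x hx]
      have h1 : Multiplicative.toAdd (cM0 ⟨x, hx⟩) = 0 ↔ (⟨x, hx⟩ : ↥P) ∈ cM0.ker := by
        rw [MonoidHom.mem_ker]
        exact Iff.rfl
      rw [h1, hcM0k]
      constructor
      · rintro ⟨v, hv⟩
        refine ⟨(v : T), v.2, ?_⟩
        have := congrArg (fun y : ↥P => (y : T)) hv
        simpa using this
      · rintro ⟨v, hv, hxv⟩
        exact ⟨⟨v, hv⟩, Subtype.ext (by simpa using hxv)⟩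
  rw [hidx]
  calc 2 ^ k ≤ 2 ^ 4 := Nat.pow_le_pow_right (by norm_num) (by omega)
    _ = 16 := by norm_num

end Cfsg.Agent.S1237P
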