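import Mathlib
import Cfsg.Prelude.Def_LieRecognition
import Cfsg.Agent.Helper26.S1237Defs
import Cfsg.Agent.Helper19.Suz2B0

/-!
# S1237 board, piece SUZ: in the non-abelian case `T` is a Suzuki 2-group with centre `V`.
-/

set_option autoImplicit false

namespace Cfsg.Agent.S1237P

open Cfsg.Agent.Helper17.Suz2 Cfsg.Agent.SUZ2P

/-- `V` has two distinct non-identity elements. -/
theorem SUZ_aux_two {T : Type*} [Group T] [Finite T] {V : Subgroup T} {ρ : MulAut T}
    (c : Ctx V ρ) : ∃ x y : T, x ≠ y ∧ x ≠ 1 ∧ x * x = 1 ∧ y ≠ 1 ∧ y * y = 1 := by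
  classical
  have h4 : Nat.card V = 4 := c.card
  have h1 : 1 < Nat.card V := by omega
  haveI : Finite V := inferInstance
  haveI : Nontrivial V := (Finite.one_lt_card_iff_nontrivial).1 h1
  obtain ⟨x, hx⟩ := exists_ne (1 : V)
  -- a third element
  have h2 : ∃ y : V, y ≠ 1 ∧ y ≠ x := by
    by_contra hcon
    push Not at hcon
    have hsub : ∀ y : V, y = 1 ∨ y = x := by
      intro y
      by_cases hy : y = 1
      · exact Or.inl hy
      · exact Or.inr (hcon y hy)
    haveI : Fintype V := Fintype.ofFinite V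
    have hle : Fintype.card V ≤ 2 := by
      have : (Finset.univ : Finset V) ⊆ {1, x} := by
        intro y _
        rcases hsub y with h | h
        · rw [h]; simp
        · rw [h]; simp
      calc Fintype.card V = (Finset.univ : Finset V).card := rfl
        _ ≤ ({1, x} : Finset V).card := Finset.card_le_card this
        _ ≤ 2 := Finset.card_le_two
    rw [← Nat.card_eq_fintype_card] at hle
    omega
  obtain ⟨y, hy1, hyx⟩ := h2
  refine ⟨x, y, ?_, ?_, (c.mem x).1 x.2, ?_, (c.mem y).1 y.2⟩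
  · intro h; exact hyx (Subtype.ext h.symm)
  · intro h; exact hx (Subtype.ext h)
  · intro h; exact hy1 (Subtype.ext h)

/-- an element of `zpowers ρ`, `ρ` of order 3, fixing a non-identity element of `V` is trivial. -/
theorem SUZ_aux_fix {T : Type*} [Group T] [Finite T] {V : Subgroup T} {ρ : MulAut T}
    (c : Ctx V ρ) (hρ : orderOf ρ = 3) {x : T} (hx1 : x ≠ 1) (hx2 : x * x = 1)
    (k : MulAut T) (hk : k ∈ Subgroup.zpowers ρ) (hfix : k x = x) : k = 1 := by
  have hρ3 : ρ ^ 3 = 1 := by rw [← hρ]; exact pow_orderOf_eq_one ρ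
  have hxV : x ∈ V := (c.mem x).2 hx2
  -- `ρ` does not fix `x`
  have hρx : ρ x ≠ x := by
    intro hfx
    have hall : ∀ n : ℕ, (ρ ^ n) x = x := by
      intro n
      induction n with
      | zero => simp
      | succ n ih => rw [pow_succ, MulAut.mul_apply, hfx, ih]
    obtain ⟨a, b, hab, ha1, ha2, hb1, hb2⟩ := SUZ_aux_two c
    have haV : a ∈ V := (c.mem a).2 ha2
    have hbV : b ∈ V := (c.mem b).2 hb2
    obtain ⟨n, hn⟩ := c.trans x hxV a haV hx1 ha1
    obtain ⟨m, hm⟩ := c.trans x hxV b hbV hx1 hb1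
    rw [hall] at hn hm
    exact hab (hn.symm.trans hm)
  obtain ⟨n, rfl⟩ := Subgroup.mem_zpowers_iff.1 hk
  -- reduce the exponent mod 3
  have hmod : ρ ^ n = ρ ^ (n % 3) := by
    conv_lhs => rw [← Int.mul_ediv_add_emod n 3]
    rw [zpow_add, zpow_mul]
    have : ρ ^ (3 : ℤ) = 1 := by
      have := hρ3
      exact_mod_cast this
    rw [this, one_zpow, one_mul]
  have hlt : n % 3 < 3 := Int.emod_lt_of_pos n (by norm_num)
  have hge : 0 ≤ n % 3 := Int.emod_nonneg n (by norm_num)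
  rw [hmod] at hfix ⊢
  have hcases : n % 3 = 0 ∨ n % 3 = 1 ∨ n % 3 = 2 := by omega
  rcases hcases with h | h | h
  · rw [h, zpow_zero]
  · exfalso
    rw [h, zpow_one] at hfix
    exact hρx hfix
  · exfalso
    rw [h] at hfix
    have h2 : (ρ ^ (2 : ℤ)) x = ρ (ρ x) := by
      have : ρ ^ (2 : ℤ) = ρ * ρ := by
        rw [show (2 : ℤ) = 1 + 1 from rfl, zpow_add, zpow_one]
      rw [this, MulAut.mul_apply]
    rw [h2] at hfix
    apply hρx
    have h3 : ρ (ρ (ρ x)) = x := by
      have := congrArg (fun f : MulAut T => f x) hρ3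
      simpa [pow_succ, MulAut.mul_apply] using this
    rw [hfix] at h3
    exact h3

/-- SUZ: in the non-abelian case `T` is a Suzuki 2-group with centre `V`. -/
theorem SUZ {T : Type*} [Group T] [Finite T] (hT : IsPGroup 2 T) {V : Subgroup T} {ρ : MulAut T}
    (c : Ctx V ρ) (hρ : orderOf ρ = 3) (hna : ∃ x y : T, x * y ≠ y * x) :
    Cfsg.IsSuzukiTwoGroup T ∧ Subgroup.center T = V := by
  have htwo := SUZ_aux_two c
  have hreg : ∀ x y : T, x ≠ 1 → x * x = 1 → y ≠ 1 → y * y = 1 →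
      ∃! k : Subgroup.zpowers ρ, (k : MulAut T) x = y := by
    intro x y hx1 hx2 hy1 hy2
    have hxV : x ∈ V := (c.mem x).2 hx2
    have hyV : y ∈ V := (c.mem y).2 hy2
    obtain ⟨n, hn⟩ := c.trans x hxV y hyV hx1 hy1
    refine ⟨⟨ρ ^ n, Subgroup.pow_mem _ (Subgroup.mem_zpowers ρ) n⟩, hn, ?_⟩
    intro k hk
    have hk' : (k : MulAut T) x = y := hk
    have hfix : ((ρ ^ n)⁻¹ * (k : MulAut T)) x = x := by
      rw [MulAut.mul_apply, hk', ← hn, ← MulAut.mul_apply, inv_mul_cancel, MulAut.one_apply]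
    have hmem : (ρ ^ n)⁻¹ * (k : MulAut T) ∈ Subgroup.zpowers ρ :=
      Subgroup.mul_mem _ (Subgroup.inv_mem _ (Subgroup.pow_mem _ (Subgroup.mem_zpowers ρ) n)) k.2
    have h1 := SUZ_aux_fix c hρ hx1 hx2 _ hmem hfix
    apply Subtype.ext
    show (k : MulAut T) = ρ ^ n
    have := inv_mul_eq_one.1 h1
    exact this.symm
  have hsuz : Cfsg.IsSuzukiTwoGroup T :=
    ⟨inferInstance, hT, hna, htwo, Subgroup.zpowers ρ, inferInstance, hreg⟩
  refine ⟨hsuz, ?_⟩
  -- the centre
  have hS : Star (Subgroup.zpowers ρ) T := by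
    refine ⟨inferInstance, hT, ?_, ?_, htwo⟩
    · intro a b
      obtain ⟨m, hm⟩ := Subgroup.mem_zpowers_iff.1 a.2
      obtain ⟨n, hn⟩ := Subgroup.mem_zpowers_iff.1 b.2
      apply Subtype.ext
      show (a : MulAut T) * (b : MulAut T) = (b : MulAut T) * (a : MulAut T)
      rw [← hm, ← hn, ← zpow_add, ← zpow_add, add_comm]
    · intro x y hx1 hx2 hy1 hy2
      exact hreg x y hx1 hx2 hy1 hy2
  have hcen : Subgroup.center T = Om T := B0_center hS hna
  rw [hcen]
  ext x
  constructor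
  · intro hx
    exact (c.mem x).2 hx.2
  · intro hx
    exact ⟨c.central hx, (c.mem x).1 hx⟩

end Cfsg.Agent.S1237P
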