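import Mathlib
import Cfsg.Agent.Helper22.S1615Defs

/-! S1615 piece COUNT: double counting `k (k - 1) = l * m`. -/

set_option autoImplicit false

namespace Cfsg.Agent.S1615P

namespace COUNT

theorem ncard_setOf {α : Type*} [Fintype α] (p : α → Prop) [DecidablePred p] :
    {y | p y}.ncard = (Finset.univ.filter p).card := by
  rw [Set.ncard_eq_toFinset_card', Set.toFinset_ofPred]

end COUNT

theorem count_edges {G : Type*} [Group G] [Finite G] {D : Set G} (h0 : L0 D) {d : G} (hd : d ∈ D)
    (k m : ℕ) (hk : ∀ e ∈ D, {y : G | y ∈ D ∧ y ≠ e ∧ Commute e y}.ncard = k)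
    (hm : ∀ a ∈ D, ¬ Commute d a → {e : G | e ∈ D ∧ Commute d e ∧ Commute a e}.ncard = m) :
    k * (k - 1) = {a : G | a ∈ D ∧ ¬ Commute d a}.ncard * m := by
  classical
  letI : Fintype G := Fintype.ofFinite G
  set s : Finset G := Finset.univ.filter (fun e => e ∈ D ∧ e ≠ d ∧ Commute d e) with hs
  set t : Finset G := Finset.univ.filter (fun a => a ∈ D ∧ ¬ Commute d a) with ht
  have hscard : s.card = k := by
    rw [hs, ← COUNT.ncard_setOf]; exact hk d hd
  have htcard : {a : G | a ∈ D ∧ ¬ Commute d a}.ncard = t.card := by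
    rw [ht, ← COUNT.ncard_setOf]
  have key := Finset.sum_card_bipartiteAbove_eq_sum_card_bipartiteBelow
    (s := s) (t := t) (fun e a => Commute e a)
  have hleft : ∀ e ∈ s, (t.bipartiteAbove (fun e a => Commute e a) e).card = k - 1 := by
    intro e he
    rw [hs, Finset.mem_filter] at he
    obtain ⟨-, heD, hed, hcde⟩ := he
    have heq : t.bipartiteAbove (fun e a => Commute e a) e =
        (Finset.univ.filter (fun y => y ∈ D ∧ y ≠ e ∧ Commute e y)).erase d := by
      ext a
      simp only [Finset.bipartiteAbove, ht, Finset.mem_filter, Finset.mem_univ, true_and,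
        Finset.mem_erase]
      constructor
      · rintro ⟨⟨haD, hnda⟩, hcea⟩
        refine ⟨?_, haD, ?_, hcea⟩
        · rintro rfl
          exact hnda (Commute.refl _)
        · rintro rfl
          exact hnda hcde
      · rintro ⟨had, haD, hae, hcea⟩
        refine ⟨⟨haD, ?_⟩, hcea⟩
        intro hcda
        -- d, a ∈ D_e commute, so d = a
        have := h0 e heD d hd a haD (fun hh => hed hh.symm) hae hcde.symm hcea hcda
        exact had this.symm
    rw [heq, Finset.card_erase_of_mem, ← COUNT.ncard_setOf, hk e heD]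
    simp only [Finset.mem_filter, Finset.mem_univ, true_and]
    exact ⟨hd, fun hh => hed hh.symm, hcde.symm⟩
  have hright : ∀ a ∈ t, (s.bipartiteBelow (fun e a => Commute e a) a).card = m := by
    intro a ha
    rw [ht, Finset.mem_filter] at ha
    obtain ⟨-, haD, hnda⟩ := ha
    have heq : s.bipartiteBelow (fun e a => Commute e a) a =
        Finset.univ.filter (fun e => e ∈ D ∧ Commute d e ∧ Commute a e) := by
      ext e
      simp only [Finset.bipartiteBelow, hs, Finset.mem_filter, Finset.mem_univ, true_and]
      constructor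
      · rintro ⟨⟨heD, -, hcde⟩, hcea⟩
        exact ⟨heD, hcde, hcea.symm⟩
      · rintro ⟨heD, hcde, hcae⟩
        refine ⟨⟨heD, ?_, hcde⟩, hcae.symm⟩
        rintro rfl
        exact hnda hcae.symm
    rw [heq, ← COUNT.ncard_setOf, hm a haD hnda]
  rw [Finset.sum_congr rfl hleft, Finset.sum_congr rfl hright, Finset.sum_const, Finset.sum_const,
    smul_eq_mul, smul_eq_mul, hscard] at key
  rw [htcard, key]

end Cfsg.Agent.S1615P
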