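import Mathlib

/-! S1615 piece MOORE: a Moore graph of diameter 2 and valency `k ≥ 3` has `4k - 3` a perfect
square. -/

set_option autoImplicit false

namespace Cfsg.Agent.S1615P

namespace MOORE

open Matrix

variable {V : Type*} [Fintype V] [DecidableEq V]

/-- `α • 1 + β • A + γ • J` -/
def comb (A J : Matrix V V ℝ) (α β γ : ℝ) : Matrix V V ℝ := α • (1 : Matrix V V ℝ) + β • A + γ • J

theorem comb_mul (A J : Matrix V V ℝ) (k n : ℝ)
    (hAA : A * A = J - A + (k - 1) • (1 : Matrix V V ℝ))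
    (hAJ : A * J = k • J) (hJA : J * A = k • J) (hJJ : J * J = n • J)
    (α β γ α' β' γ' : ℝ) :
    comb A J α β γ * comb A J α' β' γ' =
      comb A J (α * α' + β * β' * (k - 1)) (α * β' + β * α' - β * β')
        (α * γ' + γ * α' + (β * γ' + γ * β') * k + γ * γ' * n + β * β') := by
  unfold comb
  simp only [add_mul, mul_add, smul_mul_assoc, mul_smul_comm, Matrix.one_mul, Matrix.mul_one,
    hAA, hAJ, hJA, hJJ, smul_add, smul_sub, smul_smul]
  module

theorem trace_comb (A J : Matrix V V ℝ) (n : ℝ) (hA : A.trace = 0) (hJ : J.trace = n)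
    (h1 : (1 : Matrix V V ℝ).trace = n) (α β γ : ℝ) :
    (comb A J α β γ).trace = α * n + γ * n := by
  unfold comb
  rw [Matrix.trace_add, Matrix.trace_add, Matrix.trace_smul, Matrix.trace_smul, Matrix.trace_smul,
    hA, hJ, h1]
  simp

/-- the trace of an idempotent real matrix is a natural number -/
theorem trace_idem (E : Matrix V V ℝ) (hE : E * E = E) : ∃ f : ℕ, E.trace = f := by
  have hidem : IsIdempotentElem (Matrix.toLin' E) := by
    unfold IsIdempotentElem
    rw [Module.End.mul_eq_comp, ← Matrix.toLin'_mul, hE]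
  have hproj := LinearMap.IsIdempotentElem.isProj_range _ hidem
  refine ⟨Module.finrank ℝ (LinearMap.range (Matrix.toLin' E)), ?_⟩
  rw [← Matrix.trace_toLin'_eq]
  exact hproj.trace

/-- the real-number algebra -/
theorem exists_idem_coeffs (k n s : ℝ) (hs : s ≠ 0) (hs2 : s ^ 2 = 4 * k - 3)
    (hnk : n = k ^ 2 + 1) (hn0 : n ≠ 0) :
    ∃ α β γ : ℝ, α * α + β * β * (k - 1) = α ∧ α * β + β * α - β * β = β ∧
      α * γ + γ * α + (β * γ + γ * β) * k + γ * γ * n + β * β = γ ∧
      ∀ f : ℝ, α * n + γ * n = f → s * (2 * f - n - 1) = k ^ 2 - 2 * k := by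
  obtain ⟨u, hu⟩ : ∃ u : ℝ, s * u = 1 := ⟨s⁻¹, mul_inv_cancel₀ hs⟩
  obtain ⟨θ, hθ⟩ : ∃ θ : ℝ, θ = (-1 + s) / 2 := ⟨_, rfl⟩
  obtain ⟨τ, hτ⟩ : ∃ τ : ℝ, τ = (-1 - s) / 2 := ⟨_, rfl⟩
  obtain ⟨c, hc⟩ : ∃ c : ℝ, c = (k - θ) / n := ⟨_, rfl⟩
  have hτ' : 2 * τ + 1 + s = 0 := by rw [hτ]; ring
  have hθ' : 2 * θ + 1 - s = 0 := by rw [hθ]; ring
  have hθ2 : θ ^ 2 + θ = k - 1 := by rw [hθ]; linear_combination (1 / 4 : ℝ) * hs2
  have hτ2 : τ ^ 2 + (k - 1) = -τ * s := by rw [hτ]; linear_combination (-1 / 4 : ℝ) * hs2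
  have hcn : c * n = k - θ := by rw [hc]; field_simp
  have hc2 : n * c ^ 2 - (2 * k + 1) * c + 1 = 0 := by
    have h4 : n * (n * c ^ 2 - (2 * k + 1) * c + 1) = 0 := by
      linear_combination (c * n + (k - θ) - (2 * k + 1)) * hcn + hθ2 + hnk
    rcases mul_eq_zero.mp h4 with h | h
    · exact absurd h hn0
    · exact h
  refine ⟨-τ * u, u, -c * u, ?_, ?_, ?_, ?_⟩
  · linear_combination (u ^ 2) * hτ2 + (-τ * u) * hu
  · linear_combination u * hu + (-(u ^ 2)) * hτ'
  · linear_combination (u ^ 2) * hc2 + (c * u ^ 2) * hτ' + (-(c * u)) * hu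
  · intro f hf
    have h5 : f * s = -τ * n - c * n := by
      rw [← hf]; linear_combination (-(τ * n + c * n)) * hu
    linear_combination 2 * h5 - 2 * hcn - n * hτ' + hθ' + hnk

end MOORE

open MOORE in
theorem moore_sq {V : Type*} [Fintype V] [DecidableEq V] [Nonempty V] (adj : V → V → Prop)
    [DecidableRel adj] (hsymm : ∀ x y, adj x y → adj y x) (hirr : ∀ x, ¬ adj x x) (k : ℕ)
    (hk : 3 ≤ k) (hreg : ∀ x, (Finset.univ.filter (fun y => adj x y)).card = k)
    (h0 : ∀ x y, adj x y → ∀ z, ¬ (adj x z ∧ adj y z))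
    (h1 : ∀ x y, x ≠ y → ¬ adj x y → ∃! z, adj x z ∧ adj y z) :
    IsSquare (4 * k - 3) := by
  classical
  set A : Matrix V V ℝ := Matrix.of fun x y => if adj x y then (1 : ℝ) else 0 with hA
  set J : Matrix V V ℝ := Matrix.of fun _ _ => (1 : ℝ) with hJ
  set n : ℝ := (Fintype.card V : ℝ) with hn
  have hadj_symm : ∀ x y, adj x y ↔ adj y x := fun x y => ⟨hsymm x y, hsymm y x⟩
  -- row sums
  have hrow : ∀ x, ∑ z, (if adj x z then (1 : ℝ) else 0) = k := by
    intro x
    rw [Finset.sum_boole, hreg]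
  have hcol : ∀ y, ∑ z, (if adj z y then (1 : ℝ) else 0) = k := by
    intro y
    rw [← hrow y]
    apply Finset.sum_congr rfl
    intro z _
    simp only [hadj_symm z y]
  have hAJ : A * J = (k : ℝ) • J := by
    ext x y
    simp only [Matrix.mul_apply, hA, hJ, Matrix.of_apply, mul_one, Matrix.smul_apply, smul_eq_mul]
    exact hrow x
  have hJA : J * A = (k : ℝ) • J := by
    ext x y
    simp only [Matrix.mul_apply, hA, hJ, Matrix.of_apply, one_mul, Matrix.smul_apply, smul_eq_mul,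
      mul_one]
    exact hcol y
  have hJJ : J * J = n • J := by
    ext x y
    simp only [Matrix.mul_apply, hJ, Matrix.of_apply, mul_one, Matrix.smul_apply, smul_eq_mul,
      Finset.sum_const, Finset.card_univ, nsmul_eq_mul, hn]
  have hAA : A * A = J - A + ((k : ℝ) - 1) • (1 : Matrix V V ℝ) := by
    ext x y
    simp only [Matrix.mul_apply, hA, hJ, Matrix.of_apply, Matrix.add_apply, Matrix.sub_apply,
      Matrix.smul_apply, smul_eq_mul, Matrix.one_apply]
    have hprod : ∀ z, (if adj x z then (1 : ℝ) else 0) * (if adj z y then (1 : ℝ) else 0) =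
        if (adj x z ∧ adj y z) then (1 : ℝ) else 0 := by
      intro z
      have hzy : adj z y ↔ adj y z := hadj_symm z y
      by_cases h1' : adj x z <;> by_cases h2' : adj y z <;> simp [h1', h2', hzy]
    simp only [hprod]
    rw [Finset.sum_boole]
    by_cases hxy : x = y
    · subst hxy
      have : (Finset.univ.filter (fun z => adj x z ∧ adj x z)) =
          Finset.univ.filter (fun z => adj x z) := by
        ext z; simp
      rw [this, hreg, if_neg (hirr x), if_pos rfl]
      ring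
    · rw [if_neg hxy]
      by_cases ha : adj x y
      · rw [if_pos ha]
        have : (Finset.univ.filter (fun z => adj x z ∧ adj y z)) = ∅ := by
          ext z
          simp only [Finset.mem_filter, Finset.mem_univ, true_and, Finset.notMem_empty, iff_false]
          exact h0 x y ha z
        rw [this]
        simp
      · rw [if_neg ha]
        obtain ⟨z0, hz0, huniq⟩ := h1 x y hxy ha
        have : (Finset.univ.filter (fun z => adj x z ∧ adj y z)) = {z0} := by
          ext z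
          simp only [Finset.mem_filter, Finset.mem_univ, true_and, Finset.mem_singleton]
          exact ⟨fun h => huniq z h, fun h => h ▸ hz0⟩
        rw [this]
        simp
  -- J ≠ 0
  obtain ⟨v0⟩ : Nonempty V := inferInstance
  have hJ00 : J v0 v0 = 1 := by simp [hJ]
  -- n = k^2 + 1
  have hnk : n = (k : ℝ) ^ 2 + 1 := by
    have h2 : A * (A * J) = (A * A) * J := (Matrix.mul_assoc A A J).symm
    rw [hAJ, hAA, Matrix.mul_smul, hAJ, Matrix.add_mul, Matrix.sub_mul, hJJ, hAJ, Matrix.smul_mul,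
      Matrix.one_mul] at h2
    have h3 := congrFun (congrFun h2 v0) v0
    simp only [Matrix.smul_apply, Matrix.add_apply, Matrix.sub_apply, hJ00, smul_eq_mul,
      mul_one] at h3
    linarith
  have hAtr : A.trace = 0 := by
    simp only [Matrix.trace, Matrix.diag, hA, Matrix.of_apply]
    apply Finset.sum_eq_zero
    intro x _
    rw [if_neg (hirr x)]
  have hJtr : J.trace = n := by
    simp only [Matrix.trace, Matrix.diag, hJ, Matrix.of_apply, Finset.sum_const, Finset.card_univ,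
      nsmul_eq_mul, mul_one, hn]
  have h1tr : (1 : Matrix V V ℝ).trace = n := by
    rw [Matrix.trace_one, hn]
  -- the real numbers
  have hk3 : (3 : ℝ) ≤ k := by exact_mod_cast hk
  have hs2 : (Real.sqrt (4 * (k : ℝ) - 3)) ^ 2 = 4 * (k : ℝ) - 3 := Real.sq_sqrt (by linarith)
  have hspos : 0 < Real.sqrt (4 * (k : ℝ) - 3) := Real.sqrt_pos.mpr (by linarith)
  have hnpos : 0 < n := by rw [hnk]; positivity
  obtain ⟨α, β, γ, e1, e2, e3, hfin⟩ :=
    exists_idem_coeffs (k : ℝ) n (Real.sqrt (4 * (k : ℝ) - 3)) hspos.ne' hs2 hnk hnpos.ne'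
  have hEE : comb A J α β γ * comb A J α β γ = comb A J α β γ := by
    rw [comb_mul A J (k : ℝ) n hAA hAJ hJA hJJ, e1, e2, e3]
  obtain ⟨f, hf⟩ := trace_idem _ hEE
  rw [trace_comb A J n hAtr hJtr h1tr] at hf
  have hkey := hfin (f : ℝ) hf
  by_contra hns
  have hirrat : Irrational (Real.sqrt ((4 * k - 3 : ℕ) : ℝ)) := irrational_sqrt_natCast_iff.mpr hns
  have hcast : ((4 * k - 3 : ℕ) : ℝ) = 4 * (k : ℝ) - 3 := by
    rw [Nat.cast_sub (by omega)]; push_cast; ring
  rw [hcast] at hirrat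
  have hkk : ((k : ℝ) ^ 2 - 2 * k) ≠ 0 := by
    have : (k : ℝ) ^ 2 - 2 * k = k * (k - 2) := by ring
    rw [this]
    apply mul_ne_zero <;> linarith
  have hmr : (((2 * (f : ℤ) - (k : ℤ) ^ 2 - 2 : ℤ)) : ℝ) = 2 * (f : ℝ) - n - 1 := by
    rw [hnk]; push_cast; ring
  have hm0 : (2 * (f : ℤ) - (k : ℤ) ^ 2 - 2 : ℤ) ≠ 0 := by
    intro h
    rw [← hmr, h] at hkey
    simp at hkey
    exact hkk hkey.symm
  have := hirrat.mul_intCast hm0
  rw [hmr, hkey] at this
  have h6 : ((k : ℝ) ^ 2 - 2 * k) = (((k : ℤ) ^ 2 - 2 * (k : ℤ) : ℤ) : ℝ) := by push_cast; ring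
  rw [h6] at this
  exact Int.not_irrational _ this

end Cfsg.Agent.S1615P
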