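import Mathlib
import Cfsg.Agent.Helper22.S1615Defs
import Cfsg.Agent.Helper16.F3Glue
import Cfsg.Agent.Helper18.S1615MOORE

/-! S1615 piece K3: `|D_d| = 3`. -/

set_option autoImplicit false

namespace Cfsg.Agent.S1615P

open Cfsg.Agent.Helper16.F3 (Prim)

namespace K3

/-- `4 * 3^a - 3` is a square only for `a = 1` (`a ≥ 1`). -/
theorem pow_eq_one_of_sq {a : ℕ} (ha : 1 ≤ a) (h : IsSquare (4 * 3 ^ a - 3)) : a = 1 := by
  by_contra hne
  obtain ⟨b, rfl⟩ : ∃ b, a = b + 2 := ⟨a - 2, by omega⟩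
  obtain ⟨r, hr⟩ := h
  have hpow : 3 ^ (b + 2) = 9 * 3 ^ b := by rw [pow_add]; ring
  have hpos : 0 < 3 ^ b := by positivity
  have h1 : r * r = 36 * 3 ^ b - 3 := by rw [← hr, hpow]; omega
  have h3 : 3 ∣ r * r := by rw [h1]; omega
  have h3r : 3 ∣ r := by
    rcases (Nat.Prime.dvd_mul Nat.prime_three).mp h3 with h | h <;> exact h
  obtain ⟨t, rfl⟩ := h3r
  have : 9 * (t * t) = 36 * 3 ^ b - 3 := by rw [← h1]; ring
  omega

/-- conjugation transports `D_d` -/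
theorem ncard_conj {G : Type*} [Group G] {D : Set G} (hconj : ∀ g : G, ∀ x ∈ D, g * x * g⁻¹ ∈ D)
    (g d : G) :
    {y : G | y ∈ D ∧ y ≠ g * d * g⁻¹ ∧ Commute (g * d * g⁻¹) y}.ncard =
      {y : G | y ∈ D ∧ y ≠ d ∧ Commute d y}.ncard := by
  have hinj : Function.Injective (fun y : G => g * y * g⁻¹) := by
    intro u v huv
    exact mul_left_cancel (mul_right_cancel huv)
  have himg : {y : G | y ∈ D ∧ y ≠ g * d * g⁻¹ ∧ Commute (g * d * g⁻¹) y} =
      (fun y : G => g * y * g⁻¹) '' {y : G | y ∈ D ∧ y ≠ d ∧ Commute d y} := by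
    ext y
    simp only [Set.mem_ofPred_eq, Set.mem_image]
    constructor
    · rintro ⟨hy, hne, hc⟩
      refine ⟨g⁻¹ * y * g, ⟨?_, ?_, ?_⟩, by group⟩
      · have := hconj g⁻¹ y hy
        rwa [inv_inv] at this
      · intro h
        apply hne
        rw [← h]; group
      · have : y = g * (g⁻¹ * y * g) * g⁻¹ := by group
        rw [this] at hc
        exact (Commute.conj_iff g).mp hc
    · rintro ⟨z, ⟨hz, hne, hc⟩, rfl⟩
      exact ⟨hconj g z hz, fun h => hne (hinj h), (Commute.conj_iff g).mpr hc⟩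
  rw [himg, Set.ncard_image_of_injective _ hinj]

end K3

theorem card_Dd_three {G : Type*} [Group G] [Finite G] {D : Set G} (h : Prim D) (h0 : L0 D)
    (hk : ∀ d ∈ D, ∃ a : ℕ, 1 ≤ a ∧ {y : G | y ∈ D ∧ y ≠ d ∧ Commute d y}.ncard = 3 ^ a)
    (hmu : ∀ d ∈ D, ∀ a ∈ D, ¬ Commute d a → ∃! e, e ∈ D ∧ Commute d e ∧ Commute a e) :
    ∀ d ∈ D, {y : G | y ∈ D ∧ y ≠ d ∧ Commute d y}.ncard = 3 := by
  classical
  intro d hd
  obtain ⟨a, ha1, ha⟩ := hk d hd
  have hD := h.tt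
  have hconj : ∀ g : G, ∀ x ∈ D, g * x * g⁻¹ ∈ D := fun g x hx => Cfsg.Agent.Helper16.F3.conj_mem hD g hx
  -- constant valency
  have hconst : ∀ x ∈ D, {y : G | y ∈ D ∧ y ≠ x ∧ Commute x y}.ncard = 3 ^ a := by
    intro x hx
    obtain ⟨g, hg⟩ := Cfsg.Agent.Helper16.F3.exists_conj h hd hx
    rw [← hg, K3.ncard_conj hconj g d, ha]
  -- the graph
  letI : Fintype ↥D := Fintype.ofFinite ↥D
  have : Nonempty ↥D := ⟨⟨d, hd⟩⟩
  let adj : ↥D → ↥D → Prop := fun x y => x ≠ y ∧ Commute (x : G) (y : G)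
  have hreg : ∀ x : ↥D, (Finset.univ.filter (fun y => adj x y)).card = 3 ^ a := by
    intro x
    rw [← hconst x.1 x.2, ← Set.ncard_coe_finset,
      ← Set.ncard_image_of_injective _ Subtype.val_injective]
    congr 1
    ext y
    simp only [Set.mem_image, Finset.coe_filter, Finset.mem_univ, true_and, Set.mem_ofPred_eq,
      Subtype.exists, exists_and_right, exists_eq_right]
    constructor
    · rintro ⟨hy, hne, hc⟩
      exact ⟨hy, fun hh => hne (Subtype.ext hh.symm), hc⟩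
    · rintro ⟨hy, hne, hc⟩
      exact ⟨hy, fun hh => hne (congrArg Subtype.val hh).symm, hc⟩
  have h3 : 3 ≤ 3 ^ a := by
    calc 3 = 3 ^ 1 := by norm_num
      _ ≤ 3 ^ a := Nat.pow_le_pow_right (by norm_num) ha1
  have hsq := moore_sq adj
    (fun x y hxy => ⟨fun hh => hxy.1 hh.symm, hxy.2.symm⟩)
    (fun x hx => hx.1 rfl) (3 ^ a) h3 hreg
    (by
      rintro x y ⟨hxy, hcxy⟩ z ⟨⟨hxz, hcxz⟩, ⟨hyz, hcyz⟩⟩
      -- y, z ∈ D_x commute and differ
      have := h0 x.1 x.2 y.1 y.2 z.1 z.2 (fun hh => hxy (Subtype.ext hh.symm))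
        (fun hh => hxz (Subtype.ext hh.symm)) hcxy hcxz hcyz
      exact hyz (Subtype.ext this))
    (by
      intro x y hxy hnadj
      have hnc : ¬ Commute (x : G) (y : G) := fun hc => hnadj ⟨hxy, hc⟩
      obtain ⟨e, ⟨heD, hcxe, hcye⟩, huniq⟩ := hmu x.1 x.2 y.1 y.2 hnc
      refine ⟨⟨e, heD⟩, ⟨⟨?_, hcxe⟩, ⟨?_, hcye⟩⟩, ?_⟩
      · intro hh
        apply hnc
        have : (x : G) = e := congrArg Subtype.val hh
        rw [this]; exact hcye.symm
      · intro hh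
        apply hnc
        have : (y : G) = e := congrArg Subtype.val hh
        rw [this]; exact hcxe
      · rintro z ⟨⟨-, hcxz⟩, ⟨-, hcyz⟩⟩
        apply Subtype.ext
        exact huniq z.1 ⟨z.2, hcxz, hcyz⟩)
  have ha1' := K3.pow_eq_one_of_sq ha1 hsq
  rw [ha, ha1']
  norm_num

end Cfsg.Agent.S1615P
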