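import Mathlib
import Cfsg.Agent.Helper12.S1786Defs

/-! Board `s1786pieces`, rows ZQ1 and ZQV: cores (all the row dependencies are hypotheses).
`[Z(Q_B), P] ≤ Z(Q)` and `Z(Q) = V`. -/

set_option autoImplicit false

namespace Cfsg.Agent.S1786P

variable {G : Type*} [Group G] [Finite G] {V Q : Subgroup G}

/-- `Z(Q) ≤ V` (from ZP). -/
theorem ZQ_aux_le (S : Setup V Q)
    (hZP : ∀ z ∈ PP V Q, (∀ x ∈ PP V Q, z * x = x * z) → z ∈ V) : ZQ Q ≤ V := by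
  intro z hz
  rw [mem_ZQ] at hz
  apply hZP z
  · rw [mem_PP]
    exact ⟨hz.1, fun v hv => hz.2 v (S.VQ hv)⟩
  · intro x hx
    exact hz.2 x (PP_le_Q V Q hx)

/-- an element normalizing `Q` normalizes `Z(Q)`. -/
theorem ZQ_aux_cj_ZQ {m : G} (hm : m ∈ Subgroup.normalizer (Q : Set G)) : cj m (ZQ Q) = ZQ Q := by
  unfold ZQ
  rw [cj_inf, ← cj_centralizer, cj_of_mem_normalizer hm]

/-- core of row ZQ1 -/
theorem ZQ1_core (S : Setup V Q) (g : G)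
    (hZP : ∀ z ∈ PP V Q, (∀ x ∈ PP V Q, z * x = x * z) → z ∈ V)
    (hBP : cj g V ≤ PP V Q)
    (hL2 : ∀ x ∈ PP V Q, ∀ b ∈ cj g V, x * b * x⁻¹ * b⁻¹ ∈ V)
    (hSJ : ∀ b ∈ cj g⁻¹ V, b ≠ 1 → ∀ a ∈ V, ∃ x ∈ PP V Q, x * b * x⁻¹ * b⁻¹ = a) :
    ∀ b ∈ cj g (ZQ Q), ∀ x ∈ PP V Q, x * b * x⁻¹ * b⁻¹ ∈ ZQ Q := by
  intro b hb x hx
  have hZV : ZQ Q ≤ V := ZQ_aux_le S hZP
  have hbB : b ∈ cj g V := cj_mono hZV hb
  set a : G := x * b * x⁻¹ * b⁻¹ with ha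
  have haV : a ∈ V := hL2 x hx b hbB
  by_cases ha1 : a = 1
  · rw [ha1]; exact Subgroup.one_mem _
  -- `z := g⁻¹ b g ∈ Z(Q)`
  have hz : g⁻¹ * b * g ∈ ZQ Q := mem_cj.1 hb
  have hzV : g⁻¹ * b * g ∈ V := hZV hz
  -- `a₋ := g⁻¹ a g ∈ cj g⁻¹ V`
  have ham : g⁻¹ * a * g ∈ cj g⁻¹ V := by
    have := conj_mem_cj (x := g⁻¹) haV
    rwa [inv_inv] at this
  have ham1 : g⁻¹ * a * g ≠ 1 := by
    intro h
    apply ha1
    have : a = g * (g⁻¹ * a * g) * g⁻¹ := by group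
    rw [this, h]; group
  have htarget : g⁻¹ * b⁻¹ * g ∈ V := by
    have := V.inv_mem hzV
    have e : (g⁻¹ * b * g)⁻¹ = g⁻¹ * b⁻¹ * g := by group
    rwa [e] at this
  obtain ⟨xm, hxm, hxeq⟩ := hSJ _ ham ham1 _ htarget
  set y : G := g * xm * g⁻¹ with hy
  -- `y a y⁻¹ a⁻¹ = b⁻¹`
  have h1 : y * a * y⁻¹ * a⁻¹ = b⁻¹ := by
    have e : y * a * y⁻¹ * a⁻¹ = g * (xm * (g⁻¹ * a * g) * xm⁻¹ * (g⁻¹ * a * g)⁻¹) * g⁻¹ := by
      rw [hy]; group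
    rw [e, hxeq]; group
  -- `y` commutes with `b`
  have hxmQ : xm ∈ Q := PP_le_Q V Q hxm
  have h2 : y * b = b * y := by
    have hc := (mem_ZQ.1 hz).2 xm hxmQ
    -- (g⁻¹ b g) xm = xm (g⁻¹ b g)
    calc y * b = g * (xm * (g⁻¹ * b * g)) * g⁻¹ := by rw [hy]; group
      _ = g * ((g⁻¹ * b * g) * xm) * g⁻¹ := by rw [hc]
      _ = b * y := by rw [hy]; group
  -- `b` commutes with `a`
  have hbP : b ∈ PP V Q := hBP hbB
  have h3 : b * a = a * b := (mem_PP.1 hbP).2 a haV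
  -- `(y x) b (y x)⁻¹ = a`
  have h4 : (y * x) * b * (y * x)⁻¹ = a := by
    have e1 : x * b * x⁻¹ = a * b := by rw [ha]; group
    have e2 : y * a * y⁻¹ = b⁻¹ * a := by
      have : y * a * y⁻¹ = (y * a * y⁻¹ * a⁻¹) * a := by group
      rw [this, h1]
    have e3 : y * b * y⁻¹ = b := by rw [h2]; group
    calc (y * x) * b * (y * x)⁻¹ = y * (x * b * x⁻¹) * y⁻¹ := by group
      _ = y * (a * b) * y⁻¹ := by rw [e1]
      _ = (y * a * y⁻¹) * (y * b * y⁻¹) := by group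
      _ = b⁻¹ * a * b := by rw [e2, e3]
      _ = b⁻¹ * (a * b) := by group
      _ = b⁻¹ * (b * a) := by rw [h3]
      _ = a := by group
  -- hence `a ∈ cj (y x g) Z(Q)`
  have h5 : a ∈ cj (y * x * g) (ZQ Q) := by
    rw [cj_mul, ← h4]
    exact conj_mem_cj hb
  have h6 : a ∈ cj (y * x * g) V := cj_mono hZV h5
  have h7 : cj (y * x * g) V = V := by
    rcases S.ti (y * x * g) with h | h
    · exact h
    · exfalso
      apply ha1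
      have : a ∈ cj (y * x * g) V ⊓ V := Subgroup.mem_inf.2 ⟨h6, haV⟩
      rw [h] at this
      exact Subgroup.mem_bot.1 this
  have h8 : y * x * g ∈ Subgroup.normalizer (V : Set G) := mem_normalizer_iff_cj.2 h7
  have h9 : cj (y * x * g) (ZQ Q) = ZQ Q := ZQ_aux_cj_ZQ (S.MQ h8)
  rw [h9] at h5
  exact h5

/-- core of row ZQV -/
theorem ZQV_core (S : Setup V Q) (g : G) (hne : cj g V ≠ V)
    (hZP : ∀ z ∈ PP V Q, (∀ x ∈ PP V Q, z * x = x * z) → z ∈ V)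
    (hSJ : ∀ b ∈ cj g⁻¹ V, b ≠ 1 → ∀ a ∈ V, ∃ x ∈ PP V Q, x * b * x⁻¹ * b⁻¹ = a)
    (hZQ1 : ∀ b ∈ cj g⁻¹ (ZQ Q), ∀ x ∈ PP V Q, x * b * x⁻¹ * b⁻¹ ∈ ZQ Q) :
    ZQ Q = V := by
  have hZV : ZQ Q ≤ V := ZQ_aux_le S hZP
  apply le_antisymm hZV
  -- `Q ≠ ⊥`
  have hVne : V ≠ ⊥ := by
    intro h
    apply hne
    rw [h, cj_bot]
  have hQne : Q ≠ ⊥ := by
    intro h
    apply hVne
    have := S.VQ
    rw [h] at this
    exact le_bot_iff.1 this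
  have : Nontrivial ↥Q := (Subgroup.nontrivial_iff_ne_bot Q).2 hQne
  have : Fact (Nat.Prime 2) := ⟨Nat.prime_two⟩
  have : Nontrivial (Subgroup.center ↥Q) := S.pQ.center_nontrivial
  obtain ⟨⟨z, hzc⟩, hz1⟩ := exists_ne (1 : Subgroup.center ↥Q)
  have hzZ : (z : G) ∈ ZQ Q := by
    rw [mem_ZQ]
    refine ⟨z.2, fun y hy => ?_⟩
    have := Subgroup.mem_center_iff.1 hzc ⟨y, hy⟩
    have h2 := congrArg Subtype.val this
    simpa using h2.symm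
  have hzne : (z : G) ≠ 1 := by
    intro h
    apply hz1
    apply Subtype.ext
    apply Subtype.ext
    simpa using h
  -- `z₋ := g⁻¹ z g`
  have hzm : g⁻¹ * (z : G) * g ∈ cj g⁻¹ (ZQ Q) := by
    have := conj_mem_cj (x := g⁻¹) hzZ
    rwa [inv_inv] at this
  have hzmV : g⁻¹ * (z : G) * g ∈ cj g⁻¹ V := cj_mono hZV hzm
  have hzm1 : g⁻¹ * (z : G) * g ≠ 1 := by
    intro h
    apply hzne
    have : (z : G) = g * (g⁻¹ * (z : G) * g) * g⁻¹ := by group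
    rw [this, h]; group
  intro v hv
  obtain ⟨xm, hxm, hxeq⟩ := hSJ _ hzmV hzm1 v hv
  rw [← hxeq]
  exact hZQ1 _ hzm xm hxm

end Cfsg.Agent.S1786P
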