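import Mathlib
import Cfsg.Prelude.Def_Transfer
import Cfsg.Agent.Helper8.S1904Defs

/-! Board `s1904pieces`, row S3: exactly three involutions, all central. -/

set_option autoImplicit false

namespace Cfsg.Agent.S1904P

variable {X : Type*} [Group X] [Finite X] {A : Subgroup (MulAut X)} {B : Subgroup X}

/-- S3: exactly three involutions, all central. -/
theorem S3 (hZ : ∀ z ∈ Subgroup.center X, z * z = 1)
    (h4 : Nat.card (Subgroup.center X) = 4) (hinv : ∀ t : X, t * t = 1 → t ∈ Subgroup.center X) :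
    Nat.card {x : X // orderOf x = 2} = 3 ∧ ∀ x : X, orderOf x = 2 → x ∈ Subgroup.center X := by
  have : Fact (Nat.Prime 2) := ⟨Nat.prime_two⟩
  have key : ∀ x : X, orderOf x = 2 ↔ x ∈ Subgroup.center X ∧ x ≠ 1 := by
    intro x
    rw [orderOf_eq_prime_iff]
    constructor
    · rintro ⟨h1, h2⟩
      exact ⟨hinv x (by rw [← pow_two]; exact h1), h2⟩
    · rintro ⟨h1, h2⟩
      exact ⟨by rw [pow_two]; exact hZ x h1, h2⟩
  refine ⟨?_, fun x hx => ((key x).1 hx).1⟩
  have e : {x : X // orderOf x = 2} ≃ {z : Subgroup.center X // z ≠ 1} :=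
    { toFun := fun x => ⟨⟨x.1, ((key x.1).1 x.2).1⟩,
        fun h => ((key x.1).1 x.2).2 (by simpa using congrArg Subtype.val h)⟩
      invFun := fun z => ⟨z.1.1, (key _).2 ⟨z.1.2, fun h => z.2 (Subtype.ext h)⟩⟩
      left_inv := fun x => rfl
      right_inv := fun z => rfl }
  rw [Nat.card_congr e]
  classical
  have : Fintype (Subgroup.center X) := Fintype.ofFinite _
  rw [Nat.card_eq_fintype_card, Fintype.card_subtype_compl, Fintype.card_subtype_eq,
    ← Nat.card_eq_fintype_card, h4]

end Cfsg.Agent.S1904P
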