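import Mathlib
import Cfsg.Agent.Helper10.S2092.DefsP
import Cfsg.Agent.Helper18.S2092INJPOS
import Cfsg.Agent.Helper23.S2092UNITRI
import Cfsg.Agent.Helper29.S2092MODELW
import Cfsg.Agent.Helper3.S2092TORINJ

set_option autoImplicit false
set_option linter.unusedSectionVars false
set_option linter.unusedVariables false

/-! S2092, part P, piece SPLIT: `π (u t) = 1` with `u ∈ Û`, `t ∈ T` forces `u = 1`, `t = 1`. -/

namespace Cfsg.Agent.S2092P

open scoped commutatorElement
open Matrix Cfsg.Agent.S3352P Cfsg.Agent.S2096P Cfsg.Agent.S2094P Cfsg.Agent.RGD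

variable {n : ℕ} {F : Type*} [Field F] {M : Type*} [Group M] {Ys : J n → J n → F → M}
  {Yl : J n → F → M} {π : M →* Matrix (J n) (J n) F}

theorem split_c [Fintype F] (hn : 2 ≤ n) (h : PHyp Ys Yl π) {u t : M} (hu : u ∈ (datumC Ys Yl).Uh)
    (ht : t ∈ (datumC Ys Yl).T) (h1 : π (u * t) = 1) : u = 1 ∧ t = 1 := by
  obtain ⟨hdiag, -⟩ := unitri_of_mem_Uh h hu
  obtain ⟨d, hd0, hd⟩ := diag_of_mem_T h ht
  rw [map_mul, hd] at h1
  have hd1 : d = fun _ => 1 := by
    funext x
    have e := congrFun (congrFun h1 x) x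
    rw [Matrix.mul_diagonal, hdiag x, one_mul, Matrix.one_apply_eq] at e
    exact e
  have hpt : π t = 1 := by
    rw [hd, hd1]
    exact Matrix.diagonal_one
  have ht1 : t = 1 := eq_one_of_mem_T hn h ht hpt
  rw [← hd, hpt, mul_one] at h1
  exact ⟨eq_one_of_mem_Uh_c hn h hu h1, ht1⟩

end Cfsg.Agent.S2092P
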