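import Mathlib
import Cfsg.Agent.Helper2.S2094.DefsR
import Cfsg.Agent.Helper20.S2094INJD
import Cfsg.Agent.Helper4.S2094UDECB

set_option autoImplicit false
set_option linter.unusedSectionVars false
set_option linter.unusedVariables false

/-! S2094 chapter K, piece INJPOSB: the natural representation is injective on `Û`. -/

namespace Cfsg.Agent.S2094P

open Matrix Cfsg.Agent.S3352P Cfsg.Agent.S3351P Cfsg.Agent.S2096P Cfsg.Agent.RGD

variable {n : ℕ} {F : Type*} [Field F] {M : Type*} [Group M] {X : J n → J n → F → M}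
  {Ys : J n → F → M}

namespace INJPOSB

/-- the vector with `0`-coordinate `1`, `e`-coordinates `c` and `f`-coordinates `0` -/
def vec (c : Fin n → F) : I n → F := Sum.elim (fun _ => 1) (Sum.elim c (fun _ => 0))

theorem vec_injective : Function.Injective (vec (n := n) (F := F)) := by
  intro c c' h
  funext i
  have := congrFun h (Sum.inr (Sum.inl i))
  exact this

/-- the long root matrices fix `vec 0` -/
theorem xmB_mulVec {a b : J n} (t : F) : xmB a b t *ᵥ vec (0 : Fin n → F) = vec 0 := by
  unfold xmB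
  rw [Matrix.add_mulVec, Matrix.one_mulVec, Matrix.smul_mulVec, Matrix.sub_mulVec,
    Matrix.single_mulVec_eq, Matrix.single_mulVec_eq]
  have h1 : vec (0 : Fin n → F) (Sum.inr b) = 0 := by
    cases b <;> rfl
  have h2 : vec (0 : Fin n → F) (Sum.inr (ng a)) = 0 := by
    cases a <;> rfl
  rw [h1, h2, mul_zero, zero_smul, zero_smul, sub_zero, smul_zero, add_zero]

/-- the positive short root matrices move `vec c` -/
theorem ymB_mulVec (c : Fin n → F) (i : Fin n) (t : F) :
    ymB (Sum.inl i) t *ᵥ vec c = vec (c + Pi.single i (2 * t)) := by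
  classical
  unfold ymB
  rw [Matrix.sub_mulVec, Matrix.sub_mulVec, Matrix.add_mulVec, Matrix.one_mulVec,
    Matrix.smul_mulVec, Matrix.smul_mulVec, Matrix.smul_mulVec,
    Matrix.single_mulVec_eq, Matrix.single_mulVec_eq, Matrix.single_mulVec_eq]
  have h1 : vec c (o0 : I n) = 1 := rfl
  have h2 : vec c (Sum.inr (ng (Sum.inl i : J n))) = 0 := rfl
  rw [h1, h2, mul_zero, zero_smul, zero_smul, smul_zero, smul_zero, sub_zero, sub_zero, mul_one, one_smul]
  funext k
  rcases k with u | (j | j)
  · simp [vec]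
  · by_cases hji : j = i
    · subst hji
      simp [vec]
    · have : (Sum.inr (Sum.inl j) : I n) ≠ Sum.inr (Sum.inl i) := by
        intro h
        exact hji (Sum.inl_injective (Sum.inr_injective h))
      simp [vec, hji, this]
  · simp [vec]

/-- the image of `vec 0` under a product of positive short root matrices -/
theorem prod_mulVec (l : List (Fin n × F)) (c : Fin n → F) :
    (l.map (fun p => ymB (Sum.inl p.1 : J n) p.2)).prod *ᵥ vec c =
      vec (c + (l.map (fun p => (Pi.single p.1 (2 * p.2) : Fin n → F))).sum) := by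
  classical
  induction l with
  | nil => simp
  | cons p l ih =>
    rw [List.map_cons, List.prod_cons, ← Matrix.mulVec_mulVec, ih, ymB_mulVec, List.map_cons,
      List.sum_cons]
    congr 1
    abel

theorem ofFn_mulVec (t : Fin n → F) :
    (List.ofFn (fun i : Fin n => ymB (Sum.inl i : J n) (t i))).prod *ᵥ vec (0 : Fin n → F) =
      vec (fun i => 2 * t i) := by
  classical
  have h := prod_mulVec (List.ofFn (fun i : Fin n => (i, t i))) (0 : Fin n → F)
  rw [List.map_ofFn, List.map_ofFn, List.sum_ofFn, zero_add] at h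
  have e : ((fun p : Fin n × F => ymB (Sum.inl p.1 : J n) p.2) ∘ fun i : Fin n => (i, t i)) =
      fun i : Fin n => ymB (Sum.inl i : J n) (t i) := rfl
  rw [e] at h
  rw [h]
  congr 1
  funext j
  rw [Finset.sum_apply]
  simp [Pi.single_apply]

/-- the matrices of the elements of `Û_D` fix `vec 0` -/
theorem mulVec_of_mem_Uh (π : M →* Matrix (I n) (I n) F)
    (hπX : ∀ a b, IsRoot a b → ∀ t : F, π (X a b t) = xmB a b t) {d : M} (hd : d ∈ Uh X) :
    π d *ᵥ vec (0 : Fin n → F) = vec 0 := by
  unfold Uh at hd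
  induction hd using Subgroup.closure_induction with
  | mem x hx =>
    obtain ⟨a, b, t, hab, rfl⟩ := hx
    rw [hπX a b hab.1, xmB_mulVec]
  | one => rw [map_one, Matrix.one_mulVec]
  | mul x y _ _ hx hy => rw [map_mul, ← Matrix.mulVec_mulVec, hy, hx]
  | inv x _ hx =>
    have h1 : π x⁻¹ * π x = 1 := by rw [← map_mul, inv_mul_cancel, map_one]
    calc π x⁻¹ *ᵥ vec 0 = π x⁻¹ *ᵥ (π x *ᵥ vec 0) := by rw [hx]
      _ = vec 0 := by rw [Matrix.mulVec_mulVec, h1, Matrix.one_mulVec]

end INJPOSB

open INJPOSB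

/-- INJPOSB: the representation is injective on `Û` -/
theorem eq_one_of_mem_UhB [Finite F] (π : M →* Matrix (I n) (I n) F)
    (hπX : ∀ a b, IsRoot a b → ∀ t : F, π (X a b t) = xmB a b t)
    (hπY : ∀ a, ∀ t : F, π (Ys a t) = ymB a t) (hn : 3 ≤ n) (h2 : (2 : F) ≠ 0) (hB : BRel X Ys)
    {u : M} (hu : u ∈ (datumB X Ys).Uh) (hπu : π u = 1) : u = 1 := by
  obtain ⟨d, hd, t, rfl⟩ := exists_UhD_mul_prod hn hB hu
  -- the matrix of the product of the short root elements
  have hP : π (List.ofFn (fun i : Fin n => Ys (Sum.inl i) (t i))).prod =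
      (List.ofFn (fun i : Fin n => ymB (Sum.inl i : J n) (t i))).prod := by
    rw [map_list_prod, List.map_ofFn]
    congr 1
    congr 1
    funext i
    exact hπY _ _
  -- it is the matrix of `d⁻¹`
  have hP' : π (List.ofFn (fun i : Fin n => Ys (Sum.inl i) (t i))).prod = π d⁻¹ := by
    rw [map_mul] at hπu
    calc π (List.ofFn (fun i : Fin n => Ys (Sum.inl i) (t i))).prod
        = π d⁻¹ * (π d * π (List.ofFn (fun i : Fin n => Ys (Sum.inl i) (t i))).prod) := by
          rw [← mul_assoc, ← map_mul, inv_mul_cancel, map_one, one_mul]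
      _ = π d⁻¹ := by rw [hπu, mul_one]
  have h3 := mulVec_of_mem_Uh π hπX ((Uh X).inv_mem hd)
  rw [← hP', hP, ofFn_mulVec] at h3
  have h4 := vec_injective h3
  have ht : t = 0 := by
    funext i
    have := congrFun h4 i
    simp only [Pi.zero_apply, mul_eq_zero] at this
    rcases this with h | h
    · exact absurd h h2
    · exact h
  subst ht
  have h5 : (List.ofFn (fun i : Fin n => Ys (Sum.inl i) ((0 : Fin n → F) i))).prod = (1 : M) := by
    apply List.prod_eq_one
    intro x hx
    rw [List.mem_ofFn] at hx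
    obtain ⟨i, rfl⟩ := hx
    exact Ys_zero hB _
  rw [h5, mul_one] at hπu ⊢
  exact eq_one_of_mem_UhD π hπX hn hB.dX hd hπu

end Cfsg.Agent.S2094P
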