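import Mathlib
import Cfsg.Agent.Helper2.S2094.DefsR
import Cfsg.Agent.Helper25.S3352XMAT
import Cfsg.Agent.Helper5.S2094XMATB

set_option autoImplicit false
set_option linter.unusedSectionVars false
set_option linter.unusedVariables false

/-! S2094 chapter M, piece MDRELB: root elements with the model matrices satisfy the relations of
type `B_n`. -/

namespace Cfsg.Agent.S2094P

open Matrix Cfsg.Agent.S3352P Cfsg.Agent.S3351P Cfsg.Agent.S2096P

variable {n : ℕ} {F : Type*} [Field F]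

namespace MDRELB

theorem xmB_zero' (a b : J n) : xmB a b (0 : F) = 1 := by
  rw [xmB_eq_blkB, xm_zero, blkB_one]

theorem xmB_add' {a b : J n} (hab : IsRoot a b) (s t : F) :
    xmB a b (s + t) = xmB a b s * xmB a b t := by
  rw [xmB_eq_blkB, xmB_eq_blkB, xmB_eq_blkB, xm_add hab, blkB_mul]

theorem xmB_flip' (a b : J n) (t : F) : xmB (ng b) (ng a) t = xmB a b (-t) := by
  rw [xmB_eq_blkB, xmB_eq_blkB, xm_flip]

theorem xmB_cm' {a b c : J n} (hab : IsRoot a b) (hbc : IsRoot b c) (hac : IsRoot a c) (s t : F) :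
    xmB a b s * xmB b c t * xmB a b (-s) * xmB b c (-t) = xmB a c (s * t) := by
  rw [xmB_eq_blkB, xmB_eq_blkB, xmB_eq_blkB, xmB_eq_blkB, xmB_eq_blkB, ← blkB_mul, ← blkB_mul,
    ← blkB_mul, xm_cm hab hbc hac]

theorem xmB_comm' {a b c d : J n} (hab : IsRoot a b) (hcd : IsRoot c d) (h1 : b ≠ c) (h2 : a ≠ d)
    (h3 : a ≠ ng c) (h4 : a ≠ ng d) (h5 : b ≠ ng c) (h6 : b ≠ ng d) (s t : F) :
    xmB a b s * xmB c d t = xmB c d t * xmB a b s := by
  rw [xmB_eq_blkB, xmB_eq_blkB, ← blkB_mul, ← blkB_mul, xm_comm hab hcd h1 h2 h3 h4 h5 h6]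

theorem xmB_orth' {a b : J n} (hab : IsRoot a b) (s t : F) :
    xmB a b s * xmB a (ng b) t = xmB a (ng b) t * xmB a b s := by
  rw [xmB_eq_blkB, xmB_eq_blkB, ← blkB_mul, ← blkB_mul, xm_orth hab]

end MDRELB

open MDRELB

theorem bRel_of_coe {M : Type*} [Group M] (ρ : M →* Matrix (I n) (I n) F)
    (hρ : Function.Injective ρ) {Y : J n → J n → F → M} {Z : J n → F → M}
    (hY : ∀ a b, IsRoot a b → ∀ t : F, ρ (Y a b t) = xmB a b t)
    (hZ : ∀ a, ∀ t : F, ρ (Z a t) = ymB a t) : BRel Y Z := by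
  have hadd : ∀ a b, IsRoot a b → ∀ s t : F, Y a b (s + t) = Y a b s * Y a b t := by
    intro a b hab s t
    apply hρ
    rw [map_mul, hY a b hab, hY a b hab, hY a b hab, xmB_add' hab]
  have hzero : ∀ a b, IsRoot a b → Y a b (0 : F) = 1 := by
    intro a b hab
    apply hρ
    rw [hY a b hab, xmB_zero', map_one]
  have hinv : ∀ a b, IsRoot a b → ∀ s : F, (Y a b s)⁻¹ = Y a b (-s) := by
    intro a b hab s
    rw [inv_eq_iff_mul_eq_one, ← hadd a b hab, add_neg_cancel, hzero a b hab]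
  have hzadd : ∀ a, ∀ s t : F, Z a (s + t) = Z a s * Z a t := by
    intro a s t
    apply hρ
    rw [map_mul, hZ, hZ, hZ, ymB_add]
  have hzzero : ∀ a, Z a (0 : F) = 1 := by
    intro a
    apply hρ
    rw [hZ, ymB_zero, map_one]
  have hzinv : ∀ a, ∀ s : F, (Z a s)⁻¹ = Z a (-s) := by
    intro a s
    rw [inv_eq_iff_mul_eq_one, ← hzadd a, add_neg_cancel, hzzero a]
  have hroot' : ∀ {a b : J n}, IsRoot a b → IsRoot a (ng b) := fun {a b} hab =>
    ⟨hab.2, by rw [ng_ng]; exact hab.1⟩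
  refine ⟨⟨?_, hadd, ?_, ?_, ?_⟩, hzadd, ?_, ?_, ?_⟩
  · intro a b hab t
    apply hρ
    rw [hY _ _ hab.flip, hY a b hab, xmB_flip']
  · intro a b c hab hbc hac s t
    apply hρ
    rw [cm_def, hinv a b hab, hinv b c hbc, map_mul, map_mul, map_mul, hY a b hab, hY b c hbc,
      hY a b hab, hY b c hbc, hY a c hac, xmB_cm' hab hbc hac]
  · intro a b c d hab hcd h1 h2 h3 h4 h5 h6 s t
    apply hρ
    rw [map_mul, map_mul, hY a b hab, hY c d hcd, xmB_comm' hab hcd h1 h2 h3 h4 h5 h6]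
  · intro a b hab s t
    apply hρ
    rw [map_mul, map_mul, hY a b hab, hY a (ng b) (hroot' hab), xmB_orth' hab]
  · intro a b hab s t
    apply hρ
    rw [cm_def, hzinv a, hzinv b, map_mul, map_mul, map_mul, hZ, hZ, hZ, hZ,
      hY a (ng b) (hroot' hab), ymB_yy hab]
  · intro a b hab s t
    apply hρ
    rw [cm_def, hinv a b hab, hzinv b, map_mul, map_mul, map_mul, map_mul, hY a b hab, hZ,
      hY a b hab, hZ, hZ, hY a (ng b) (hroot' hab), xmB_ymB_xy hab]
  · intro a c d hcd h1 h2 s t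
    apply hρ
    rw [map_mul, map_mul, hZ, hY c d hcd, ymB_comm_xmB hcd h1 h2]

end Cfsg.Agent.S2094P
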