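import Mathlib
import Cfsg.Agent.Helper2.S2094.DefsR
import Cfsg.Agent.Helper25.S2096WXID
import Cfsg.Agent.Helper16.S2094NSCONJB
import Cfsg.Agent.Helper16.S2094TCONJB

set_option autoImplicit false
set_option linter.unusedSectionVars false
set_option linter.unusedVariables false

/-! S2094 chapter K, piece ROOTPB: the elements of `N̂` permute the root subgroups through a
permutation of the signed indices. -/

namespace Cfsg.Agent.S2094P

open Matrix Cfsg.Agent.S3352P Cfsg.Agent.S3351P Cfsg.Agent.S2096P Cfsg.Agent.RGD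

variable {n : ℕ} {F : Type*} [Field F] {M : Type*} [Group M] {X : J n → J n → F → M}
  {Ys : J n → F → M}

namespace ROOTPB

/-- `g` maps the root subgroup of `r` into that of `r.map σ` -/
def P (X : J n → J n → F → M) (Ys : J n → F → M) (g : M) (σ : Equiv.Perm (J n)) : Prop :=
  ∀ r : RB n, r.Valid → ∀ x ∈ r.U X Ys, g * x * g⁻¹ ∈ (r.map σ).U X Ys

/-- the two-sided property carried through the induction -/
def Q (X : J n → J n → F → M) (Ys : J n → F → M) (g : M) : Prop :=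
  ∃ σ : Equiv.Perm (J n), NgEquivariant σ ∧ P X Ys g σ ∧ P X Ys g⁻¹ σ⁻¹

theorem map_one' (r : RB n) : r.map (1 : Equiv.Perm (J n)) = r := by
  cases r <;> rfl

theorem map_mul' (σ τ : Equiv.Perm (J n)) (r : RB n) : (r.map τ).map σ = r.map (σ * τ) := by
  cases r <;> rfl

theorem ngEquivariant_one : NgEquivariant (1 : Equiv.Perm (J n)) := fun a => rfl

theorem ngEquivariant_mul {σ τ : Equiv.Perm (J n)} (hσ : NgEquivariant σ) (hτ : NgEquivariant τ) :
    NgEquivariant (σ * τ) := by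
  intro a
  rw [Equiv.Perm.mul_apply, Equiv.Perm.mul_apply, hτ, hσ]

theorem ngEquivariant_inv {σ : Equiv.Perm (J n)} (hσ : NgEquivariant σ) :
    NgEquivariant (σ⁻¹ : Equiv.Perm (J n)) := by
  intro a
  apply σ.injective
  have e : ∀ x, σ ((σ⁻¹ : Equiv.Perm (J n)) x) = x := fun x => σ.apply_symm_apply x
  rw [hσ, e, e]

theorem P_one : P X Ys (1 : M) 1 := by
  intro r hr x hx
  rw [map_one', one_mul, inv_one, mul_one]
  exact hx

theorem P_mul {g g' : M} {σ σ' : Equiv.Perm (J n)} (hσ' : NgEquivariant σ') (hg : P X Ys g σ)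
    (hg' : P X Ys g' σ') : P X Ys (g * g') (σ * σ') := by
  intro r hr x hx
  have e : g * g' * x * (g * g')⁻¹ = g * (g' * x * g'⁻¹) * g⁻¹ := by group
  rw [e, ← map_mul']
  exact hg _ (RB.valid_map hσ' hr) _ (hg' r hr x hx)

theorem Q_one : Q X Ys (1 : M) := by
  refine ⟨1, ngEquivariant_one, P_one, ?_⟩
  rw [inv_one, inv_one]
  exact P_one

theorem Q_mul {g g' : M} (hg : Q X Ys g) (hg' : Q X Ys g') : Q X Ys (g * g') := by
  obtain ⟨σ, hσ, h1, h2⟩ := hg
  obtain ⟨σ', hσ', h1', h2'⟩ := hg'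
  refine ⟨σ * σ', ngEquivariant_mul hσ hσ', P_mul hσ' h1 h1', ?_⟩
  rw [_root_.mul_inv_rev, _root_.mul_inv_rev]
  exact P_mul (ngEquivariant_inv hσ) h2' h2

theorem Q_inv {g : M} (hg : Q X Ys g) : Q X Ys g⁻¹ := by
  obtain ⟨σ, hσ, h1, h2⟩ := hg
  refine ⟨σ⁻¹, ngEquivariant_inv hσ, h2, ?_⟩
  rw [inv_inv, inv_inv]
  exact h1

/-- the inverse of a short Weyl element (formal) -/
theorem wY_inv_aux (hB : BRel X Ys) (a : J n) (t : F) : (wY Ys a t)⁻¹ = wY Ys a (-t) := by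
  unfold wY
  rw [_root_.mul_inv_rev, _root_.mul_inv_rev, Ys_inv hB, Ys_inv hB, inv_neg, mul_assoc]

theorem P_torus [Finite F] (hn : 3 ≤ n) (hB : BRel X Ys) {h : M} (hh : h ∈ HhB X Ys) :
    P X Ys h 1 := by
  intro r hr x hx
  rw [map_one']
  cases r with
  | lg c d =>
    have hcd : IsRoot c d := hr
    obtain ⟨u, rfl⟩ := (mem_U_lg hB hcd).1 hx
    exact (mem_U_lg hB hcd).2 (HhB_conj_X hn hB hh hcd u)
  | sh c =>
    obtain ⟨u, rfl⟩ := (mem_U_sh hB c).1 hx
    exact (mem_U_sh hB c).2 (HhB_conj_Ys hn hB hh c u)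

theorem Q_torus [Finite F] (hn : 3 ≤ n) (hB : BRel X Ys) {h : M} (hh : h ∈ HhB X Ys) :
    Q X Ys h := by
  refine ⟨1, ngEquivariant_one, P_torus hn hB hh, ?_⟩
  rw [inv_one]
  exact P_torus hn hB ((HhB X Ys).inv_mem hh)

theorem sw_inv' (a b : J n) : (sw a b)⁻¹ = sw a b := by
  apply inv_eq_of_mul_eq_one_left
  ext c
  rw [Equiv.Perm.mul_apply, sw_sw]
  rfl

theorem sc_inv' (a : J n) : (sc a)⁻¹ = sc a := by
  unfold sc
  exact Equiv.swap_inv a (ng a)

theorem Q_wX [Finite F] (hn : 3 ≤ n) (hB : BRel X Ys) {a b : J n} (hab : IsRoot a b) {t : F}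
    (ht : t ≠ 0) : Q X Ys (wX X a b t) := by
  have : Fintype F := Fintype.ofFinite F
  refine ⟨sw a b, sw_ngEquivariant a b, fun r hr x hx => wX_conj_mem_U hn hB hab ht hr hx, ?_⟩
  rw [sw_inv', wX_inv' hB.dX hab]
  exact fun r hr x hx => wX_conj_mem_U hn hB hab (neg_ne_zero.mpr ht) hr hx

theorem Q_wY (hn : 3 ≤ n) (hB : BRel X Ys) (a : J n) {t : F} (ht : t ≠ 0) :
    Q X Ys (wY Ys a t) := by
  refine ⟨sc a, sc_ngEquivariant a, fun r hr x hx => wY_conj_mem_U hn hB a ht hr hx, ?_⟩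
  rw [sc_inv', wY_inv_aux hB]
  exact fun r hr x hx => wY_conj_mem_U hn hB a (neg_ne_zero.mpr ht) hr hx

theorem Q_of_mem_Nh [Finite F] (hn : 3 ≤ n) (hB : BRel X Ys) {g : M}
    (hg : g ∈ (datumB X Ys).Nh) : Q X Ys g := by
  unfold Datum.Nh at hg
  induction hg using Subgroup.closure_induction with
  | mem g hg =>
    rcases hg with ht | ⟨s, hs, hm⟩
    · exact Q_torus hn hB ht
    · obtain ⟨r, hr⟩ := s
      cases r with
      | lg a b =>
        obtain ⟨t, ht, rfl⟩ := hm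
        exact Q_wX hn hB hr ht
      | sh a =>
        obtain ⟨t, ht, rfl⟩ := hm
        exact Q_wY hn hB a ht
  | one => exact Q_one
  | mul a b _ _ iha ihb => exact Q_mul iha ihb
  | inv a _ iha => exact Q_inv iha

end ROOTPB

/-- ROOTPB: the elements of `N̂` permute the root subgroups through a permutation of the signed
indices -/
theorem rootPB_of_mem_Nh [Finite F] (hn : 3 ≤ n) (hB : BRel X Ys) {g : M}
    (hg : g ∈ (datumB X Ys).Nh) : RootPB X Ys g := by
  obtain ⟨σ, hσ, h1, -⟩ := ROOTPB.Q_of_mem_Nh hn hB hg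
  refine ⟨σ, hσ, fun a b hab t => ?_, fun a t => ?_⟩
  · have hv : (RB.lg a b : RB n).Valid := hab
    have h2 := h1 (RB.lg a b) hv (X a b t) ((mem_U_lg hB hab).2 ⟨t, rfl⟩)
    have hv' : IsRoot (σ a) (σ b) := RB.valid_map hσ hv
    exact (mem_U_lg hB hv').1 h2
  · have h2 := h1 (RB.sh a) trivial (Ys a t) ((mem_U_sh hB a).2 ⟨t, rfl⟩)
    exact (mem_U_sh hB (σ a)).1 h2

end Cfsg.Agent.S2094P
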