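import Mathlib
import Cfsg.Agent.Helper2.S2096.Defs
import Cfsg.Agent.Helper2.S2096.DefsC

set_option autoImplicit false
set_option linter.unusedSectionVars false
set_option linter.unusedVariables false

/-! S2096/S2097 piece CLUNIT (helper18): `Xc ψ a b t` is the unit `xc ψ a b t`.
Also general lemmas on anticommuting elements of a ring, used by CLREL1 and CLPQ. -/

namespace Cfsg.Agent.S2096P

open Cfsg.Agent.S3352P Cfsg.Agent.S3351P

universe u

namespace CLUNIT

section ring

variable {A : Type*} [Ring A]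

/-- products of two pairs commute when all four cross pairs anticommute -/
theorem swap4 (x y z w : A) (h1 : y * z = -(z * y)) (h2 : x * z = -(z * x))
    (h3 : y * w = -(w * y)) (h4 : x * w = -(w * x)) : (x * y) * (z * w) = (z * w) * (x * y) := by
  calc (x * y) * (z * w) = x * (y * z) * w := by noncomm_ring
    _ = x * (-(z * y)) * w := by rw [h1]
    _ = -((x * z) * y * w) := by noncomm_ring
    _ = -((-(z * x)) * y * w) := by rw [h2]
    _ = z * x * (y * w) := by noncomm_ring
    _ = z * x * (-(w * y)) := by rw [h3]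
    _ = -(z * (x * w) * y) := by noncomm_ring
    _ = -(z * (-(w * x)) * y) := by rw [h4]
    _ = (z * w) * (x * y) := by noncomm_ring

/-- `(x y)(x z) = 0` when `x² = 0` and `y x = - x y` -/
theorem prod_zero (x y z : A) (hx : x * x = 0) (hyx : y * x = -(x * y)) :
    (x * y) * (x * z) = 0 := by
  calc (x * y) * (x * z) = x * (y * x) * z := by noncomm_ring
    _ = x * (-(x * y)) * z := by rw [hyx]
    _ = -((x * x) * y * z) := by noncomm_ring
    _ = 0 := by rw [hx]; simp

end ring

variable {n : ℕ} {F : Type*} [Field F] {A : Type*} [Ring A] [Algebra F A] {ψ : J n → A}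

/-- `ψ_{-b} ψ_a = - ψ_a ψ_{-b}` for a root `(a, b)` -/
theorem anti_ng (hψ : CAR ψ) {a b : J n} (hab : IsRoot a b) :
    ψ (ng b) * ψ a = -(ψ a * ψ (ng b)) := by
  apply hψ.anti
  rw [ng_ng]
  exact hab.1

/-- `N² = 0` for `N = ψ_a ψ_{-b}` -/
theorem N_sq (hψ : CAR ψ) {a b : J n} (hab : IsRoot a b) :
    (ψ a * ψ (ng b)) * (ψ a * ψ (ng b)) = 0 :=
  prod_zero _ _ _ (hψ.sq a) (anti_ng hψ hab)

theorem xc_mul_xc (hψ : CAR ψ) {a b : J n} (hab : IsRoot a b) (s t : F) :
    xc ψ a b s * xc ψ a b t = xc ψ a b (s + t) := by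
  unfold xc
  have hN := N_sq hψ hab
  simp only [mul_add, add_mul, mul_one, one_mul, smul_mul_assoc, mul_smul_comm, hN, smul_zero,
    add_zero, add_smul]
  abel

theorem xc_zero (a b : J n) : xc ψ a b (0 : F) = 1 := by
  unfold xc
  rw [zero_smul, add_zero]

theorem isUnit_xc (hψ : CAR ψ) {a b : J n} (hab : IsRoot a b) (t : F) : IsUnit (xc ψ a b t) := by
  refine ⟨⟨xc ψ a b t, xc ψ a b (-t), ?_, ?_⟩, rfl⟩
  · rw [xc_mul_xc hψ hab, add_neg_cancel, xc_zero]
  · rw [xc_mul_xc hψ hab, neg_add_cancel, xc_zero]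

end CLUNIT

variable {n : ℕ} {F : Type*} [Field F] {A : Type*} [Ring A] [Algebra F A] {ψ : J n → A}

/-- CLUNIT -/
theorem coe_Xc (hψ : CAR ψ) {a b : J n} (hab : IsRoot a b) (t : F) :
    ((Xc ψ a b t : Aˣ) : A) = xc ψ a b t := by
  have h := CLUNIT.isUnit_xc hψ hab t
  unfold Xc
  rw [dif_pos h]
  exact IsUnit.unit_spec h

end Cfsg.Agent.S2096P
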