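import Mathlib
import Cfsg.Agent.Helper2.S2096.Defs
import Cfsg.Agent.Helper2.S2096.DefsC
import Cfsg.Agent.Helper18.S2096CLUNIT

set_option autoImplicit false
set_option linter.unusedSectionVars false
set_option linter.unusedVariables false

/-! S2096/S2097 piece CLPQ (helper18): the idempotents `pp ψ a = ψ_a ψ_{-a}`. -/

namespace Cfsg.Agent.S2096P

open Cfsg.Agent.S3352P Cfsg.Agent.S3351P

universe u

variable {n : ℕ} {F : Type*} [Field F] {A : Type*} [Ring A] [Algebra F A] {ψ : J n → A}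

/-- CLPQ -/
theorem pp_add_ng (hψ : CAR ψ) (a : J n) : pp ψ a + pp ψ (ng a) = 1 := by
  unfold pp
  rw [ng_ng]
  exact hψ.pair a

theorem pp_mul_self (hψ : CAR ψ) (a : J n) : pp ψ a * pp ψ a = pp ψ a := by
  unfold pp
  have h1 : ψ (ng a) * ψ a = 1 - ψ a * ψ (ng a) := by
    rw [eq_sub_iff_add_eq, add_comm]
    exact hψ.pair a
  calc ψ a * ψ (ng a) * (ψ a * ψ (ng a)) = ψ a * (ψ (ng a) * ψ a) * ψ (ng a) := by noncomm_ring
    _ = ψ a * (1 - ψ a * ψ (ng a)) * ψ (ng a) := by rw [h1]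
    _ = ψ a * ψ (ng a) - (ψ a * ψ a) * ψ (ng a) * ψ (ng a) := by noncomm_ring
    _ = ψ a * ψ (ng a) := by rw [hψ.sq a]; simp

theorem pp_mul_ng (hψ : CAR ψ) (a : J n) : pp ψ a * pp ψ (ng a) = 0 := by
  unfold pp
  rw [ng_ng]
  calc ψ a * ψ (ng a) * (ψ (ng a) * ψ a) = ψ a * (ψ (ng a) * ψ (ng a)) * ψ a := by noncomm_ring
    _ = 0 := by rw [hψ.sq (ng a)]; simp

theorem pp_mul_comm (hψ : CAR ψ) {a b : J n} (hab : IsRoot a b) :
    pp ψ a * pp ψ b = pp ψ b * pp ψ a := by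
  unfold pp
  apply CLUNIT.swap4
  · -- ψ (ng a) * ψ b
    apply hψ.anti
    rw [ng_ng]
    exact hab.1.symm
  · -- ψ a * ψ b
    apply hψ.anti
    intro h
    apply hab.2
    rw [h, ng_ng]
  · -- ψ (ng a) * ψ (ng b)
    apply hψ.anti
    rw [ng_ng]
    exact fun h => hab.2 h.symm
  · -- ψ a * ψ (ng b)
    apply hψ.anti
    intro h
    exact hab.1 (ng_injective h).symm

end Cfsg.Agent.S2096P
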