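import Mathlib
import Cfsg.Agent.Helper2.S2096.Defs
import Cfsg.Agent.Helper2.S2096.DefsC
import Cfsg.Agent.Helper18.S2096CLUNIT

set_option autoImplicit false
set_option linter.unusedSectionVars false
set_option linter.unusedVariables false

/-! S2096/S2097 piece CLREL1 (helper18): the relations flip, add, comm, orth for `xc`. -/

namespace Cfsg.Agent.S2096P

open Cfsg.Agent.S3352P Cfsg.Agent.S3351P

universe u

variable {n : ℕ} {F : Type*} [Field F] {A : Type*} [Ring A] [Algebra F A] {ψ : J n → A}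

/-- CLREL1 -/
theorem xc_flip (hψ : CAR ψ) {a b : J n} (hab : IsRoot a b) (t : F) :
    xc ψ (ng b) (ng a) t = xc ψ a b (-t) := by
  unfold xc
  rw [ng_ng, CLUNIT.anti_ng hψ hab, smul_neg, neg_smul]

theorem xc_add (hψ : CAR ψ) {a b : J n} (hab : IsRoot a b) (s t : F) :
    xc ψ a b (s + t) = xc ψ a b s * xc ψ a b t :=
  (CLUNIT.xc_mul_xc hψ hab s t).symm

theorem xc_comm (hψ : CAR ψ) {a b c d : J n} (hab : IsRoot a b) (hcd : IsRoot c d)
    (h1 : b ≠ c) (h2 : a ≠ d) (h3 : a ≠ ng c) (h4 : a ≠ ng d) (h5 : b ≠ ng c) (h6 : b ≠ ng d)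
    (s t : F) : xc ψ a b s * xc ψ c d t = xc ψ c d t * xc ψ a b s := by
  have hbc : ψ (ng b) * ψ c = -(ψ c * ψ (ng b)) := by
    apply hψ.anti
    rw [ng_ng]
    exact h1.symm
  have hac : ψ a * ψ c = -(ψ c * ψ a) := by
    apply hψ.anti
    intro h
    apply h3
    rw [h, ng_ng]
  have hbd : ψ (ng b) * ψ (ng d) = -(ψ (ng d) * ψ (ng b)) := by
    apply hψ.anti
    rw [ng_ng]
    exact fun h => h6 h.symm
  have had : ψ a * ψ (ng d) = -(ψ (ng d) * ψ a) := by
    apply hψ.anti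
    intro h
    exact h2 (ng_injective h).symm
  have hN := CLUNIT.swap4 (ψ a) (ψ (ng b)) (ψ c) (ψ (ng d)) hbc hac hbd had
  unfold xc
  simp only [mul_add, add_mul, mul_one, one_mul, smul_mul_assoc, mul_smul_comm, hN, smul_add]
  rw [smul_comm s t]
  abel

theorem xc_orth (hψ : CAR ψ) {a b : J n} (hab : IsRoot a b) (s t : F) :
    xc ψ a b s * xc ψ a (ng b) t = xc ψ a (ng b) t * xc ψ a b s := by
  have h1 : (ψ a * ψ (ng b)) * (ψ a * ψ (ng (ng b))) = 0 :=
    CLUNIT.prod_zero _ _ _ (hψ.sq a) (CLUNIT.anti_ng hψ hab)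
  have hab' : IsRoot a (ng b) := ⟨hab.2, by rw [ng_ng]; exact hab.1⟩
  have h2 : (ψ a * ψ (ng (ng b))) * (ψ a * ψ (ng b)) = 0 :=
    CLUNIT.prod_zero _ _ _ (hψ.sq a) (CLUNIT.anti_ng hψ hab')
  unfold xc
  simp only [mul_add, add_mul, mul_one, one_mul, smul_mul_assoc, mul_smul_comm, h1, h2, smul_zero,
    add_zero]
  abel

end Cfsg.Agent.S2096P
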