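import Mathlib
import Cfsg.Agent.Helper2.S2096.Defs

set_option autoImplicit false
set_option linter.unusedSectionVars false
set_option linter.unusedVariables false

/-! S2096/S2097 piece ZCENT (helper18): an element of a perfect group whose image is central,
for a map with central kernel, is central. -/

namespace Cfsg.Agent.S2096P

open Matrix Cfsg.Agent.S3352P Cfsg.Agent.S3351P Cfsg.Agent.S2086P

variable {n : ℕ} {F : Type*} [Field F] [Fintype F] {M : Type*} [Group M] {X : J n → J n → F → M}

/-- ZCENT -/
theorem mem_center_of_map_comm {N : Type*} [Monoid N] (π : M →* N)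
    (hker : π.ker ≤ Subgroup.center M) (hperf : commutator M = ⊤) {y : M}
    (hy : ∀ g : M, π y * π g = π g * π y) : y ∈ Subgroup.center M := by
  have hz : ∀ g : M, y * g * (g * y)⁻¹ ∈ Subgroup.center M := by
    intro g
    apply hker
    rw [MonoidHom.mem_ker, map_mul, map_mul, hy g, ← map_mul, ← map_mul, mul_inv_cancel, map_one]
  obtain ⟨f, hfdef⟩ : ∃ f : M →* M, ∀ g, f g = y * g * (g * y)⁻¹ := by
    refine ⟨
    { toFun := fun g => y * g * (g * y)⁻¹
      map_one' := by simp
      map_mul' := by
        intro g h
        have hc := Subgroup.mem_center_iff.mp (hz h) g⁻¹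
        calc y * (g * h) * (g * h * y)⁻¹
            = y * g * y⁻¹ * ((y * h * (h * y)⁻¹) * g⁻¹) := by group
          _ = y * g * y⁻¹ * (g⁻¹ * (y * h * (h * y)⁻¹)) := by rw [hc]
          _ = y * g * (g * y)⁻¹ * (y * h * (h * y)⁻¹) := by group }, fun g => rfl⟩
  have hcomm : commutator M ≤ f.ker := by
    rw [commutator_eq_closure, Subgroup.closure_le]
    rintro x ⟨p, q, rfl⟩
    rw [SetLike.mem_coe, MonoidHom.mem_ker, commutatorElement_def, map_mul, map_mul, map_mul,
      map_inv, map_inv]
    have hpq : f q * f p = f p * f q := by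
      have := Subgroup.mem_center_iff.mp (hz p) (f q)
      rw [← hfdef p] at this
      exact this
    rw [← hpq, mul_inv_cancel_right, mul_inv_cancel]
  have hf : ∀ g : M, f g = 1 := by
    intro g
    rw [hperf] at hcomm
    exact hcomm (Subgroup.mem_top g)
  rw [Subgroup.mem_center_iff]
  intro g
  have h2 := hf g
  rw [hfdef g, mul_inv_eq_one] at h2
  exact h2.symm

end Cfsg.Agent.S2096P
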