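import Mathlib
import Cfsg.Agent.Helper2.S2099.DefsA
import Cfsg.Agent.Helper2.S2099.DefsZ

set_option autoImplicit false
set_option linter.unusedSectionVars false
set_option linter.unusedVariables false

/-! S2099 chapter A, piece C2Q: the lifts of commuting long root elements commute. -/

namespace Cfsg.Agent.S2099P

open Matrix Cfsg.Agent.S3352P Cfsg.Agent.S3351P Cfsg.Agent.S2096P Cfsg.Agent.S2086P
open Cfsg.Agent.S2094P (LongOK isRoot_ng_right' isRoot_ng_left')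
open scoped commutatorElement

section general

variable {n : ℕ} {F : Type*} [Field F] [Fintype F] {P : Type*} [AddCommGroup P] [Module F P]
  {G : Type*} [Group G] {E : Type*} [Group E] {Q0 : QuadraticForm F P}
  {X : J n → J n → F → G} {Ys : J n → P → G} {h₀ : G} {R D : P →ₗ[F] P}

/-- C2Q: the lifts of commuting long root elements commute -/
theorem cl_X_X (hn : 3 ≤ n) (hB : QRel Q0 X Ys)
    (hnd : ∃ w v : P, QuadraticMap.polar Q0 w v ≠ 0) (ψ : E →* G)
    (hψ : Function.Surjective ψ) (hc : ψ.ker ≤ Subgroup.center E) {a b c d : J n}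
    (hab : IsRoot a b) (hcd : IsRoot c d) (h1 : b ≠ c) (h2 : a ≠ d) (h3 : a ≠ ng c)
    (h4 : a ≠ ng d) (h5 : b ≠ ng c) (h6 : b ≠ ng d) (s t : F) : CL ψ (X a b s) (X c d t) := by
  obtain ⟨w₀, v, hp⟩ := hnd
  obtain ⟨x, hx⟩ := hψ (X a b s)
  have hcd' : IsRoot c (ng d) := isRoot_ng_right' hcd
  -- `X c d t` is a commutator of short root elements
  have hpol : -(QuadraticMap.polar Q0 ((-t * (QuadraticMap.polar Q0 w₀ v)⁻¹) • w₀) v) = t := by
    rw [QuadraticMap.polar_smul_left, smul_eq_mul, mul_assoc, inv_mul_cancel₀ hp, mul_one, neg_neg]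
  have hyy : ⁅Ys c ((-t * (QuadraticMap.polar Q0 w₀ v)⁻¹) • w₀), Ys (ng d) v⁆ = X c d t := by
    have h := hB.yy c (ng d) hcd' ((-t * (QuadraticMap.polar Q0 w₀ v)⁻¹) • w₀) v
    rw [cm_def, ng_ng, hpol] at h
    rw [commutatorElement_def]
    exact h
  have hlift : ψ (cl ψ hψ (Ys c ((-t * (QuadraticMap.polar Q0 w₀ v)⁻¹) • w₀)) (Ys (ng d) v)) =
      X c d t := by
    rw [map_cl, hyy]
  have e1 : ∀ u : P, ψ x * Ys c u * (ψ x)⁻¹ = Ys c u := by
    intro u
    rw [hx, ← hB.ycomm c a b hab h1 h3 u s, mul_inv_cancel_right]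
  have e2 : ∀ u : P, ψ x * Ys (ng d) u * (ψ x)⁻¹ = Ys (ng d) u := by
    intro u
    have h2' : a ≠ ng (ng d) := by rw [ng_ng]; exact h2
    rw [hx, ← hB.ycomm (ng d) a b hab h6 h2' u s, mul_inv_cancel_right]
  have hconj := Cfsg.Agent.S2094P.conj_cl ψ hψ hc x
    (Ys c ((-t * (QuadraticMap.polar Q0 w₀ v)⁻¹) • w₀)) (Ys (ng d) v)
  rw [e1, e2] at hconj
  have hcomm : Commute x
      (cl ψ hψ (Ys c ((-t * (QuadraticMap.polar Q0 w₀ v)⁻¹) • w₀)) (Ys (ng d) v)) := by
    show x * _ = _ * x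
    exact mul_inv_eq_iff_eq_mul.1 hconj
  exact Cfsg.Agent.S2094P.CL_of_commute ψ hc hx hlift hcomm

end general

end Cfsg.Agent.S2099P
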