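import Mathlib
import Cfsg.Agent.Helper2.S2099.DefsR
import Cfsg.Agent.Helper2.S2099.DefsN
import Cfsg.Agent.Helper25.S2096WXID
import Cfsg.Agent.Helper23.S2099WYIDQ
import Cfsg.Agent.Helper23.S2099WCONJWQ
import Cfsg.Agent.Helper22.S2099DTRANSQ

set_option autoImplicit false
set_option linter.unusedSectionVars false
set_option linter.unusedVariables false

/-! S2099 chapter N, piece HNORMQ: the Weyl elements `wX`, `wY` normalize the torus `HhQ`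
(port of S2094 HNORMB). -/

namespace Cfsg.Agent.S2099P

open Matrix Cfsg.Agent.S3352P Cfsg.Agent.S3351P Cfsg.Agent.S2096P Cfsg.Agent.S2086P Cfsg.Agent.RGD
open Cfsg.Agent.S2094P (RB RootB sc NgEquivariant mapB reflB MD XD XD_coe isRoot_ng_right'
  isRoot_ng_left' sw_ngEquivariant sc_ngEquivariant)

namespace HNORMQ

section formal

variable {n : ℕ} {F : Type*} [Field F] {P : Type*} [AddCommGroup P] [Module F P]
  {M : Type*} [Group M] {Q0 : QuadraticForm F P} {X : J n → J n → F → M} {Ys : J n → P → M}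

theorem cj_mul (g x y : M) : g * (x * y) * g⁻¹ = (g * x * g⁻¹) * (g * y * g⁻¹) := by group

theorem cj_inv (g x : M) : g * x⁻¹ * g⁻¹ = (g * x * g⁻¹)⁻¹ := by group

theorem Hh_le_HhQ : Hh X ≤ HhQ Q0 X Ys :=
  Subgroup.closure_mono Set.subset_union_left

theorem gY_mem (c : J n) {w v : P} (hw : w ≠ 0) (hv : v ≠ 0) :
    wY Q0 Ys c w * (wY Q0 Ys c v)⁻¹ ∈ HhQ Q0 X Ys :=
  Subgroup.subset_closure (Or.inr ⟨c, w, v, hw, hv, rfl⟩)

theorem tX_mem {c d : J n} (hcd : IsRoot c d) {v : F} (hv : v ≠ 0) :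
    tX X c d v ∈ HhQ Q0 X Ys :=
  Subgroup.subset_closure (Or.inl ⟨c, d, v, hcd, hv, rfl⟩)

theorem Q0_ne_zero (hQ : QuadraticMap.Anisotropic Q0) {w : P} (hw : w ≠ 0) : Q0 w ≠ 0 :=
  fun h => hw (hQ w h)

theorem rfl0_ne_zero (hQ : QuadraticMap.Anisotropic Q0) {w u : P} (hw : Q0 w ≠ 0) (hu : u ≠ 0) :
    rfl0 Q0 w u ≠ 0 := by
  intro h
  have h1 := Q0_rfl0 (Q0 := Q0) w u hw
  rw [h, QuadraticMap.map_zero] at h1
  exact Q0_ne_zero hQ hu h1.symm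

/-- `wX c d v * wX c d w` lies in the torus -/
theorem wX_mul_wX_mem [Fintype F] (hX : DRel X) {c d : J n} (hcd : IsRoot c d) {v w : F} (hv : v ≠ 0)
    (hw : w ≠ 0) : wX X c d v * wX X c d w ∈ HhQ Q0 X Ys := by
  have e0 : wX X c d w = (wX X c d (-w))⁻¹ := by rw [wX_inv' hX hcd, neg_neg]
  rw [e0, wX_eq_tX_mul hX hcd v, wX_eq_tX_mul hX hcd (-w), _root_.mul_inv_rev]
  have e : tX X c d v * wX X c d 1 * ((wX X c d 1)⁻¹ * (tX X c d (-w))⁻¹) =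
      tX X c d v * (tX X c d (-w))⁻¹ := by group
  rw [e]
  exact Subgroup.mul_mem _ (tX_mem hcd hv) (Subgroup.inv_mem _ (tX_mem hcd (neg_ne_zero.2 hw)))

/-- `wX a b t` maps `wY c u` to `wY c' (η • u)` -/
theorem wX_conj_wY_exists (hB : QRel Q0 X Ys) {a b : J n} (hab : IsRoot a b) {t : F}
    (ht : t ≠ 0) (c : J n) :
    ∃ c' : J n, ∃ η : F, η ≠ 0 ∧ ∀ u : P,
      wX X a b t * wY Q0 Ys c u * (wX X a b t)⁻¹ = wY Q0 Ys c' (η • u) := by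
  by_cases h1 : c = a
  · subst h1
    refine ⟨b, -t⁻¹, neg_ne_zero.2 (inv_ne_zero ht), fun u => ?_⟩
    rw [wX_conj_wY_fst hB hab ht, neg_smul]
  by_cases h2 : c = b
  · subst h2
    exact ⟨a, t, ht, fun u => wX_conj_wY_snd hB hab ht u⟩
  by_cases h3 : c = ng a
  · subst h3
    refine ⟨ng b, -t, neg_ne_zero.2 ht, fun u => ?_⟩
    rw [wX_conj_wY_ng_fst hB hab ht, neg_smul]
  by_cases h4 : c = ng b
  · subst h4
    exact ⟨ng a, t⁻¹, inv_ne_zero ht, fun u => wX_conj_wY_ng_snd hB hab ht u⟩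
  · exact ⟨c, 1, one_ne_zero, fun u => by
      rw [wX_conj_wY_of_ne hB hab t h1 h2 h3 h4 u, one_smul]⟩

/-- `wY a w` maps `wX c d u` to `wX c' d' (η u)` -/
theorem wY_conj_wX_exists (hB : QRel Q0 X Ys) (a : J n) {w : P} (hw : Q0 w ≠ 0)
    {c d : J n} (hcd : IsRoot c d) :
    ∃ c' d' : J n, IsRoot c' d' ∧ ∃ η : F, η ≠ 0 ∧ ∀ u : F, u ≠ 0 →
      wY Q0 Ys a w * wX X c d u * (wY Q0 Ys a w)⁻¹ = wX X c' d' (η * u) := by
  have hw' : (Q0 w)⁻¹ ≠ 0 := inv_ne_zero hw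
  by_cases h1 : c = a
  · subst h1
    refine ⟨ng c, d, isRoot_ng_left' hcd, -(Q0 w)⁻¹, neg_ne_zero.2 hw', fun u hu => ?_⟩
    rw [wY_conj_wX_fst hB hcd hw hu, neg_mul]
  by_cases h2 : d = a
  · subst h2
    refine ⟨c, ng d, isRoot_ng_right' hcd, -(Q0 w), neg_ne_zero.2 hw, fun u hu => ?_⟩
    rw [wY_conj_wX_snd hB hcd hw hu, neg_mul]
  by_cases h3 : c = ng a
  · subst h3
    have had : IsRoot a d := by
      have := isRoot_ng_left' hcd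
      rwa [ng_ng] at this
    refine ⟨a, d, had, -(Q0 w), neg_ne_zero.2 hw, fun u hu => ?_⟩
    rw [wY_conj_wX_ng_fst hB had hw hu, neg_mul]
  by_cases h4 : d = ng a
  · subst h4
    have hca : IsRoot c a := by
      have := isRoot_ng_right' hcd
      rwa [ng_ng] at this
    refine ⟨c, a, hca, -(Q0 w)⁻¹, neg_ne_zero.2 hw', fun u hu => ?_⟩
    rw [wY_conj_wX_ng_snd hB hca hw hu, neg_mul]
  · exact ⟨c, d, hcd, 1, one_ne_zero, fun u hu => by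
      rw [wY_conj_wX_of_ne hB a w hcd h1 h3 h2 h4 u, one_mul]⟩

theorem wX_conj_gY_mem (hB : QRel Q0 X Ys) {a b : J n} (hab : IsRoot a b) {t : F}
    (ht : t ≠ 0) (c : J n) {w v : P} (hw : w ≠ 0) (hv : v ≠ 0) :
    wX X a b t * (wY Q0 Ys c w * (wY Q0 Ys c v)⁻¹) * (wX X a b t)⁻¹ ∈ HhQ Q0 X Ys := by
  obtain ⟨c', η, hη, h⟩ := wX_conj_wY_exists hB hab ht c
  rw [cj_mul, cj_inv, h w, h v]
  exact gY_mem c' (smul_ne_zero hη hw) (smul_ne_zero hη hv)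

theorem wY_conj_tX_mem [Fintype F] (hB : QRel Q0 X Ys) (a : J n) {w : P} (hw : Q0 w ≠ 0)
    {c d : J n} (hcd : IsRoot c d) {u : F} (hu : u ≠ 0) :
    wY Q0 Ys a w * tX X c d u * (wY Q0 Ys a w)⁻¹ ∈ HhQ Q0 X Ys := by
  obtain ⟨c', d', hcd', η, hη, h⟩ := wY_conj_wX_exists hB a hw hcd
  unfold tX
  rw [cj_mul, h u hu, h (-1) (neg_ne_zero.2 one_ne_zero)]
  exact wX_mul_wX_mem hB.dX hcd' (mul_ne_zero hη hu)
    (mul_ne_zero hη (neg_ne_zero.2 one_ne_zero))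

theorem wY_conj_gY_self_mem (hn : 3 ≤ n) (hQ : QuadraticMap.Anisotropic Q0) (hB : QRel Q0 X Ys)
    (a : J n) {w : P} (hw : Q0 w ≠ 0) {u v : P} (hu : u ≠ 0) (hv : v ≠ 0) :
    wY Q0 Ys a w * (wY Q0 Ys a u * (wY Q0 Ys a v)⁻¹) * (wY Q0 Ys a w)⁻¹ ∈ HhQ Q0 X Ys := by
  have hu' := Q0_ne_zero hQ hu
  have hv' := Q0_ne_zero hQ hv
  rw [cj_mul, cj_inv, wY_conj_wY_self hn hB a hw hu', wY_conj_wY_self hn hB a hw hv']
  exact gY_mem a
    (neg_ne_zero.2 (smul_ne_zero (mul_ne_zero hw (inv_ne_zero hu')) (rfl0_ne_zero hQ hw hu)))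
    (neg_ne_zero.2 (smul_ne_zero (mul_ne_zero hw (inv_ne_zero hv')) (rfl0_ne_zero hQ hw hv)))

theorem wY_conj_gY_mem (hn : 3 ≤ n) (hQ : QuadraticMap.Anisotropic Q0) (hB : QRel Q0 X Ys)
    (a : J n) {w : P} (hw : Q0 w ≠ 0) (c : J n) {u v : P} (hu : u ≠ 0) (hv : v ≠ 0) :
    wY Q0 Ys a w * (wY Q0 Ys c u * (wY Q0 Ys c v)⁻¹) * (wY Q0 Ys a w)⁻¹ ∈ HhQ Q0 X Ys := by
  by_cases h1 : c = a
  · subst h1
    exact wY_conj_gY_self_mem hn hQ hB c hw hu hv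
  by_cases h2 : c = ng a
  · subst h2
    have hsw : wY Q0 Ys a w = wY Q0 Ys (ng a) ((Q0 w)⁻¹ • w) := by
      have := wY_swap hn hB (ng a) hw
      rwa [ng_ng] at this
    rw [hsw]
    have hw2 : Q0 ((Q0 w)⁻¹ • w) ≠ 0 := by
      rw [QuadraticMap.map_smul, smul_eq_mul]
      exact mul_ne_zero (mul_ne_zero (inv_ne_zero hw) (inv_ne_zero hw)) hw
    exact wY_conj_gY_self_mem hn hQ hB (ng a) hw2 hu hv
  · have hac : IsRoot a c := by
      refine ⟨fun h => h1 h.symm, fun h => h2 ?_⟩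
      rw [h, ng_ng]
    rw [cj_mul, cj_inv, wY_conj_wY_of_ne hB hac hw, wY_conj_wY_of_ne hB hac hw]
    exact gY_mem c (rfl0_ne_zero hQ hw hu) (rfl0_ne_zero hQ hw hv)

end formal

end HNORMQ

open HNORMQ

section pi

variable {n : ℕ} {F : Type*} [Field F] {κ : Type} [Fintype κ] [DecidableEq κ]
  {M : Type*} [Group M] {Q0 : QuadraticForm F (κ → F)} {X : J n → J n → F → M}
  {Ys : J n → (κ → F) → M}

theorem wX_conj_HhQ_mem [Fintype F] (π : M →* Matrix (IQ n κ) (IQ n κ) F)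
    (hπX : ∀ a b, IsRoot a b → ∀ t : F, π (X a b t) = xmQ a b t) (hn : 3 ≤ n)
    (hQ : QuadraticMap.Anisotropic Q0) (hB : QRel Q0 X Ys)
    {a b : J n} (hab : IsRoot a b) {t : F} (ht : t ≠ 0) {h : M} (hh : h ∈ HhQ Q0 X Ys) :
    wX X a b t * h * (wX X a b t)⁻¹ ∈ HhQ Q0 X Ys := by
  induction hh using Subgroup.closure_induction with
  | mem x hx =>
    rcases hx with ⟨c, d, u, hcd, hu, rfl⟩ | ⟨c, w, v, hw, hv, rfl⟩
    · apply Hh_le_HhQ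
      exact Hh_conj_mem_Q π hπX hn hB.dX
        (Subgroup.subset_closure ⟨a, b, t, hab, ht, rfl⟩)
        (Subgroup.subset_closure ⟨c, d, u, hcd, hu, rfl⟩)
    · exact wX_conj_gY_mem hB hab ht c hw hv
  | one => simp
  | mul x y _ _ hx hy =>
    rw [cj_mul]
    exact Subgroup.mul_mem _ hx hy
  | inv x _ hx =>
    rw [cj_inv]
    exact Subgroup.inv_mem _ hx

theorem wY_conj_HhQ_mem [Fintype F] (hn : 3 ≤ n) (hQ : QuadraticMap.Anisotropic Q0)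
    (hB : QRel Q0 X Ys) (a : J n) {w : κ → F} (hw : w ≠ 0)
    {h : M} (hh : h ∈ HhQ Q0 X Ys) :
    wY Q0 Ys a w * h * (wY Q0 Ys a w)⁻¹ ∈ HhQ Q0 X Ys := by
  have hw' := Q0_ne_zero hQ hw
  induction hh using Subgroup.closure_induction with
  | mem x hx =>
    rcases hx with ⟨c, d, u, hcd, hu, rfl⟩ | ⟨c, u, v, hu, hv, rfl⟩
    · exact wY_conj_tX_mem hB a hw' hcd hu
    · exact wY_conj_gY_mem hn hQ hB a hw' c hu hv
  | one => simp
  | mul x y _ _ hx hy =>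
    rw [cj_mul]
    exact Subgroup.mul_mem _ hx hy
  | inv x _ hx =>
    rw [cj_inv]
    exact Subgroup.inv_mem _ hx

end pi

end Cfsg.Agent.S2099P
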