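import Mathlib
import Cfsg.Agent.Helper2.S2099.DefsR
import Cfsg.Agent.Helper20.S2099INJDQ
import Cfsg.Agent.Helper26.S2099UDECQ

set_option autoImplicit false
set_option linter.unusedSectionVars false
set_option linter.unusedVariables false

/-! S2099 chapter K, piece INJPOSQ: the natural representation is injective on `Û`
(port of S2094 INJPOSB; row vectors instead of column vectors, no division by `2`). -/

namespace Cfsg.Agent.S2099P

open Matrix Cfsg.Agent.S3352P Cfsg.Agent.S3351P Cfsg.Agent.S2096P Cfsg.Agent.RGD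
open Cfsg.Agent.S2094P (RB RootB sc NgEquivariant mapB reflB MD XD XD_coe isRoot_ng_right'
  isRoot_ng_left' sw_ngEquivariant sc_ngEquivariant)

variable {n : ℕ} {F : Type*} [Field F] {κ : Type} [Fintype κ] [DecidableEq κ]
  {M : Type*} [Group M] {Q0 : QuadraticForm F (κ → F)} {X : J n → J n → F → M}
  {Ys : J n → (κ → F) → M}

namespace INJPOSQ

/-- the row vector with `κ`-coordinates the unit vector at `k`, `e`-coordinates `0` and
`f`-coordinates `c` -/
def rowv (k : κ) (c : Fin n → F) : IQ n κ → F :=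
  Sum.elim (Sum.elim (fun _ => 0) c) (Pi.single k 1)

theorem rowv_injective (k : κ) : Function.Injective (rowv (n := n) (F := F) k) := by
  intro c c' h
  funext i
  have := congrFun h (Sum.inl (Sum.inr i))
  exact this

/-- the long root matrices fix `rowv k 0` -/
theorem vecMul_xmQ (k : κ) {a b : J n} (t : F) :
    rowv k (0 : Fin n → F) ᵥ* xmQ (κ := κ) a b t = rowv k 0 := by
  unfold xmQ blkQ
  rw [Matrix.vecMul_fromBlocks]
  have h1 : (rowv k (0 : Fin n → F) ∘ Sum.inl : J n → F) = 0 := by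
    funext j
    rcases j with j | j <;> rfl
  have h2 : (rowv k (0 : Fin n → F) ∘ Sum.inr : κ → F) = Pi.single k 1 := rfl
  rw [h1, h2, Matrix.zero_vecMul, Matrix.zero_vecMul, Matrix.vecMul_zero, Matrix.vecMul_one,
    zero_add, zero_add]
  funext j
  rcases j with (j | j) | j <;> rfl

/-- the positive short root matrices move `rowv k c` -/
theorem vecMul_ymQ (k : κ) (c : Fin n → F) (i : Fin n) (w : κ → F) :
    rowv k c ᵥ* ymQ Q0 (Sum.inl i : J n) w = rowv k (c - Pi.single i (w k)) := by
  classical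
  unfold ymQ
  rw [Matrix.vecMul_fromBlocks]
  have h2 : (rowv k c ∘ Sum.inr : κ → F) = Pi.single k 1 := rfl
  have h3 : (rowv k c ∘ Sum.inl : J n → F) (Sum.inl i) = 0 := rfl
  rw [h2, Matrix.vecMul_one, Matrix.vecMul_vecMulVec, Matrix.vecMul_neg, Matrix.vecMul_vecMulVec,
    Matrix.vecMul_sub, Matrix.vecMul_one, Matrix.vecMul_smul, dotProduct_single, h3,
    single_dotProduct, one_mul, mul_one, zero_smul, zero_add]
  funext j
  rcases j with (j | j) | j
  · simp [rowv, Matrix.vecMul, dotProduct, Matrix.single_apply]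
  · by_cases hji : j = i
    · subst hji
      simp [rowv, Matrix.vecMul, dotProduct, Matrix.single_apply, sub_eq_add_neg]
    · have : (Sum.inr j : J n) ≠ Sum.inr i := fun h => hji (Sum.inr_injective h)
      simp [rowv, Matrix.vecMul, dotProduct, Matrix.single_apply, hji, this]
  · simp [rowv]

/-- the image of `rowv k c` under a product of positive short root matrices -/
theorem vecMul_prod (k : κ) (l : List (Fin n × (κ → F))) (c : Fin n → F) :
    rowv k c ᵥ* (l.map (fun p => ymQ Q0 (Sum.inl p.1 : J n) p.2)).prod =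
      rowv k (c - (l.map (fun p => (Pi.single p.1 (p.2 k) : Fin n → F))).sum) := by
  classical
  induction l generalizing c with
  | nil => simp
  | cons p l ih =>
    rw [List.map_cons, List.prod_cons, ← Matrix.vecMul_vecMul, vecMul_ymQ, ih, List.map_cons,
      List.sum_cons]
    congr 1
    abel

theorem vecMul_ofFn (k : κ) (w : Fin n → κ → F) :
    rowv k (0 : Fin n → F) ᵥ*
      (List.ofFn (fun i : Fin n => ymQ Q0 (Sum.inl i : J n) (w i))).prod =
      rowv k (fun i => -(w i k)) := by
  classical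
  have h := vecMul_prod (Q0 := Q0) k (List.ofFn (fun i : Fin n => (i, w i))) (0 : Fin n → F)
  rw [List.map_ofFn, List.map_ofFn, List.sum_ofFn, zero_sub] at h
  have e : ((fun p : Fin n × (κ → F) => ymQ Q0 (Sum.inl p.1 : J n) p.2) ∘
      fun i : Fin n => (i, w i)) = fun i : Fin n => ymQ Q0 (Sum.inl i : J n) (w i) := rfl
  rw [e] at h
  rw [h]
  congr 1
  funext j
  rw [Pi.neg_apply, Finset.sum_apply]
  simp [Pi.single_apply]

/-- the matrices of the elements of `Û_D` fix `rowv k 0` -/
theorem vecMul_of_mem_Uh (π : M →* Matrix (IQ n κ) (IQ n κ) F)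
    (hπX : ∀ a b, IsRoot a b → ∀ t : F, π (X a b t) = xmQ a b t) (k : κ) {d : M}
    (hd : d ∈ Uh X) : rowv k (0 : Fin n → F) ᵥ* π d = rowv k 0 := by
  unfold Uh at hd
  induction hd using Subgroup.closure_induction with
  | mem x hx =>
    obtain ⟨a, b, t, hab, rfl⟩ := hx
    rw [hπX a b hab.1, vecMul_xmQ]
  | one => rw [map_one, Matrix.vecMul_one]
  | mul x y _ _ hx hy => rw [map_mul, ← Matrix.vecMul_vecMul, hx, hy]
  | inv x _ hx =>
    have h1 : π x * π x⁻¹ = 1 := by rw [← map_mul, mul_inv_cancel, map_one]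
    calc rowv k 0 ᵥ* π x⁻¹ = (rowv k 0 ᵥ* π x) ᵥ* π x⁻¹ := by rw [hx]
      _ = rowv k 0 := by rw [Matrix.vecMul_vecMul, h1, Matrix.vecMul_one]

end INJPOSQ

open INJPOSQ

/-- INJPOSQ: the representation is injective on `Û` -/
theorem eq_one_of_mem_UhQ [Finite F] (π : M →* Matrix (IQ n κ) (IQ n κ) F)
    (hπX : ∀ a b, IsRoot a b → ∀ t : F, π (X a b t) = xmQ a b t)
    (hπY : ∀ a, ∀ w : κ → F, π (Ys a w) = ymQ Q0 a w) (hn : 3 ≤ n) (hB : QRel Q0 X Ys)
    {u : M} (hu : u ∈ (datumQ Q0 X Ys).Uh) (hπu : π u = 1) : u = 1 := by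
  obtain ⟨d, hd, w, rfl⟩ := exists_UhD_mul_prod hn hB hu
  -- the matrix of the product of the short root elements
  have hP : π (List.ofFn (fun i : Fin n => Ys (Sum.inl i) (w i))).prod =
      (List.ofFn (fun i : Fin n => ymQ Q0 (Sum.inl i : J n) (w i))).prod := by
    rw [map_list_prod, List.map_ofFn]
    congr 1
    congr 1
    funext i
    exact hπY _ _
  have hw : w = 0 := by
    funext i
    funext k
    have h3 : rowv k (0 : Fin n → F) ᵥ*
        π (d * (List.ofFn (fun i : Fin n => Ys (Sum.inl i) (w i))).prod) = rowv k 0 := by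
      rw [hπu, Matrix.vecMul_one]
    rw [map_mul, ← Matrix.vecMul_vecMul, vecMul_of_mem_Uh π hπX k hd, hP, vecMul_ofFn] at h3
    have h4 := congrFun (rowv_injective k h3) i
    simpa using h4
  subst hw
  have h5 : (List.ofFn (fun i : Fin n => Ys (Sum.inl i) ((0 : Fin n → κ → F) i))).prod =
      (1 : M) := by
    apply List.prod_eq_one
    intro x hx
    rw [List.mem_ofFn] at hx
    obtain ⟨i, rfl⟩ := hx
    exact Ys_zero hB _
  rw [h5, mul_one] at hπu ⊢
  exact eq_one_of_mem_UhD π hπX hn hB.dX hd hπu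

end Cfsg.Agent.S2099P
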