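import Mathlib
import Cfsg.Agent.Helper2.S2099.DefsM
import Cfsg.Agent.Helper25.S3352XMAT
import Cfsg.Agent.Helper24.S2099XMATQ

set_option autoImplicit false
set_option linter.unusedSectionVars false
set_option linter.unusedVariables false

/-! S2099 chapter M, piece MDRELQ: root elements with the model matrices satisfy the relations
`QRel` (port of S2094 MDRELB). -/

namespace Cfsg.Agent.S2099P

open Matrix Cfsg.Agent.S3352P Cfsg.Agent.S3351P Cfsg.Agent.S2096P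

variable {n : ℕ} {F : Type*} [Field F] {κ : Type} [Fintype κ] [DecidableEq κ]

namespace MDRELQ

theorem xmQ_zero' (a b : J n) : xmQ (κ := κ) a b (0 : F) = 1 := by
  unfold xmQ
  rw [xm_zero, blkQ_one]

theorem xmQ_add' {a b : J n} (hab : IsRoot a b) (s t : F) :
    xmQ (κ := κ) a b (s + t) = xmQ a b s * xmQ a b t := by
  unfold xmQ
  rw [xm_add hab, blkQ_mul]

theorem xmQ_flip' (a b : J n) (t : F) : xmQ (κ := κ) (ng b) (ng a) t = xmQ a b (-t) := by
  unfold xmQ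
  rw [xm_flip]

theorem xmQ_cm' {a b c : J n} (hab : IsRoot a b) (hbc : IsRoot b c) (hac : IsRoot a c) (s t : F) :
    xmQ (κ := κ) a b s * xmQ b c t * xmQ a b (-s) * xmQ b c (-t) = xmQ a c (s * t) := by
  unfold xmQ
  rw [← blkQ_mul, ← blkQ_mul, ← blkQ_mul, xm_cm hab hbc hac]

theorem xmQ_comm' {a b c d : J n} (hab : IsRoot a b) (hcd : IsRoot c d) (h1 : b ≠ c) (h2 : a ≠ d)
    (h3 : a ≠ ng c) (h4 : a ≠ ng d) (h5 : b ≠ ng c) (h6 : b ≠ ng d) (s t : F) :
    xmQ (κ := κ) a b s * xmQ c d t = xmQ c d t * xmQ a b s := by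
  unfold xmQ
  rw [← blkQ_mul, ← blkQ_mul, xm_comm hab hcd h1 h2 h3 h4 h5 h6]

theorem xmQ_orth' {a b : J n} (hab : IsRoot a b) (s t : F) :
    xmQ (κ := κ) a b s * xmQ a (ng b) t = xmQ a (ng b) t * xmQ a b s := by
  unfold xmQ
  rw [← blkQ_mul, ← blkQ_mul, xm_orth hab]

end MDRELQ

open MDRELQ

theorem qRel_of_coe {M : Type*} [Group M] (Q0 : QuadraticForm F (κ → F))
    (ρ : M →* Matrix (IQ n κ) (IQ n κ) F)
    (hρ : Function.Injective ρ) {Y : J n → J n → F → M} {Z : J n → (κ → F) → M}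
    (hY : ∀ a b, IsRoot a b → ∀ t : F, ρ (Y a b t) = xmQ a b t)
    (hZ : ∀ a, ∀ w : κ → F, ρ (Z a w) = ymQ Q0 a w) : QRel Q0 Y Z := by
  have hadd : ∀ a b, IsRoot a b → ∀ s t : F, Y a b (s + t) = Y a b s * Y a b t := by
    intro a b hab s t
    apply hρ
    rw [map_mul, hY a b hab, hY a b hab, hY a b hab, xmQ_add' hab]
  have hzero : ∀ a b, IsRoot a b → Y a b (0 : F) = 1 := by
    intro a b hab
    apply hρ
    rw [hY a b hab, xmQ_zero', map_one]
  have hinv : ∀ a b, IsRoot a b → ∀ s : F, (Y a b s)⁻¹ = Y a b (-s) := by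
    intro a b hab s
    rw [inv_eq_iff_mul_eq_one, ← hadd a b hab, add_neg_cancel, hzero a b hab]
  have hzadd : ∀ a, ∀ w v : κ → F, Z a (w + v) = Z a w * Z a v := by
    intro a s t
    apply hρ
    rw [map_mul, hZ, hZ, hZ, ymQ_add]
  have hzzero : ∀ a, Z a (0 : κ → F) = 1 := by
    intro a
    apply hρ
    rw [hZ, ymQ_zero, map_one]
  have hzinv : ∀ a, ∀ w : κ → F, (Z a w)⁻¹ = Z a (-w) := by
    intro a s
    rw [inv_eq_iff_mul_eq_one, ← hzadd a, add_neg_cancel, hzzero a]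
  have hroot' : ∀ {a b : J n}, IsRoot a b → IsRoot a (ng b) := fun {a b} hab =>
    ⟨hab.2, by rw [ng_ng]; exact hab.1⟩
  refine ⟨⟨?_, hadd, ?_, ?_, ?_⟩, hzadd, ?_, ?_, ?_⟩
  · intro a b hab t
    apply hρ
    rw [hY _ _ hab.flip, hY a b hab, xmQ_flip']
  · intro a b c hab hbc hac s t
    apply hρ
    rw [cm_def, hinv a b hab, hinv b c hbc, map_mul, map_mul, map_mul, hY a b hab, hY b c hbc,
      hY a b hab, hY b c hbc, hY a c hac, xmQ_cm' hab hbc hac]
  · intro a b c d hab hcd h1 h2 h3 h4 h5 h6 s t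
    apply hρ
    rw [map_mul, map_mul, hY a b hab, hY c d hcd, xmQ_comm' hab hcd h1 h2 h3 h4 h5 h6]
  · intro a b hab s t
    apply hρ
    rw [map_mul, map_mul, hY a b hab, hY a (ng b) (hroot' hab), xmQ_orth' hab]
  · intro a b hab s t
    apply hρ
    rw [cm_def, hzinv a, hzinv b, map_mul, map_mul, map_mul, hZ, hZ, hZ, hZ,
      hY a (ng b) (hroot' hab), ymQ_yy Q0 hab]
  · intro a b hab s t
    apply hρ
    rw [cm_def, hinv a b hab, hzinv b, map_mul, map_mul, map_mul, map_mul, hY a b hab, hZ,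
      hY a b hab, hZ, hZ, hY a (ng b) (hroot' hab), xmQ_ymQ_xy Q0 hab]
  · intro a c d hcd h1 h2 s t
    apply hρ
    rw [map_mul, map_mul, hZ, hY c d hcd, ymQ_comm_xmQ Q0 hcd h1 h2]

end Cfsg.Agent.S2099P
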