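import Mathlib
import Cfsg.Agent.Helper2.S2099.DefsR
import Cfsg.Agent.Helper2.S2099.DefsN
import Cfsg.Agent.Helper25.S2096WXID
import Cfsg.Agent.Helper23.S2099WCONJWQ
import Cfsg.Agent.Helper18.S2099HNORMQ

set_option autoImplicit false
set_option linter.unusedSectionVars false
set_option linter.unusedVariables false

/-! S2099 chapter N, piece NACONJQ: `NA X` normalizes `CSQ Q0 Ys e₁ ⊔ HhQ Q0 X Ys`
(port of S2094 NACONJB). -/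

namespace Cfsg.Agent.S2099P

open Matrix Cfsg.Agent.S3352P Cfsg.Agent.S3351P Cfsg.Agent.S2096P Cfsg.Agent.S2086P Cfsg.Agent.RGD
open Cfsg.Agent.S2094P (RB RootB sc NgEquivariant mapB reflB MD XD XD_coe isRoot_ng_right'
  isRoot_ng_left' sw_ngEquivariant sc_ngEquivariant)

section pi

variable {n : ℕ} {F : Type*} [Field F] {κ : Type} [Fintype κ] [DecidableEq κ]
  {M : Type*} [Group M] {Q0 : QuadraticForm F (κ → F)} {X : J n → J n → F → M}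
  {Ys : J n → (κ → F) → M}

namespace NACONJQ

theorem isRoot_inl {i j : Fin n} (hij : i ≠ j) : IsRoot (Sum.inl i : J n) (Sum.inl j) := by
  refine ⟨?_, ?_⟩
  · intro h
    exact hij (Sum.inl.inj h)
  · intro h
    rw [ng_inl] at h
    exact Sum.inl_ne_inr h

theorem e₁_ne_zero {e₁ : κ → F} (he₁ : Q0 e₁ = 1) : e₁ ≠ 0 := by
  intro h
  rw [h, QuadraticMap.map_zero] at he₁
  exact zero_ne_one he₁

/-- `wY a w = tY e₁ a w * wY a e₁` (formal) -/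
theorem wY_eq_tY_mul_aux (e₁ : κ → F) (a : J n) (w : κ → F) :
    wY Q0 Ys a w = tY Q0 Ys e₁ a w * wY Q0 Ys a e₁ := by
  unfold tY
  rw [inv_mul_cancel_right]

theorem cQ_mem_CSQ (e₁ : κ → F) (j : Fin n) : cQ Q0 Ys e₁ j ∈ CSQ Q0 Ys e₁ :=
  Subgroup.subset_closure ⟨j, rfl⟩

/-- a short Weyl element of a positive short root lies in `CSQ ⊔ HhQ` -/
theorem wY_mem_sup {e₁ : κ → F} (he₁ : Q0 e₁ = 1) (j : Fin n) {w : κ → F} (hw : w ≠ 0) :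
    wY Q0 Ys (Sum.inl j) w ∈ CSQ Q0 Ys e₁ ⊔ HhQ Q0 X Ys := by
  rw [wY_eq_tY_mul_aux e₁]
  exact Subgroup.mul_mem _
    ((le_sup_right : HhQ Q0 X Ys ≤ CSQ Q0 Ys e₁ ⊔ HhQ Q0 X Ys)
      (tY_mem_HhQ e₁ (e₁_ne_zero he₁) _ hw))
    ((le_sup_left : CSQ Q0 Ys e₁ ≤ CSQ Q0 Ys e₁ ⊔ HhQ Q0 X Ys) (cQ_mem_CSQ e₁ j))

/-- conjugation stabilizes `CSQ ⊔ HhQ` as soon as it does so on the generators -/
theorem conj_mem_sup {e₁ : κ → F} (g : M)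
    (hgen : ∀ j : Fin n, g * cQ Q0 Ys e₁ j * g⁻¹ ∈ CSQ Q0 Ys e₁ ⊔ HhQ Q0 X Ys)
    (hH : ∀ h ∈ HhQ Q0 X Ys, g * h * g⁻¹ ∈ HhQ Q0 X Ys) {y : M}
    (hy : y ∈ CSQ Q0 Ys e₁ ⊔ HhQ Q0 X Ys) :
    g * y * g⁻¹ ∈ CSQ Q0 Ys e₁ ⊔ HhQ Q0 X Ys := by
  have hle : (CSQ Q0 Ys e₁ ⊔ HhQ Q0 X Ys).map (MulAut.conj g).toMonoidHom ≤
      CSQ Q0 Ys e₁ ⊔ HhQ Q0 X Ys := by
    rw [Subgroup.map_sup]
    apply sup_le
    · unfold CSQ
      rw [MonoidHom.map_closure, Subgroup.closure_le]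
      rintro _ ⟨_, ⟨j, rfl⟩, rfl⟩
      exact hgen j
    · rintro _ ⟨h, hh, rfl⟩
      exact (le_sup_right : HhQ Q0 X Ys ≤ CSQ Q0 Ys e₁ ⊔ HhQ Q0 X Ys) (hH h hh)
  exact hle ⟨y, hy, rfl⟩

/-- the generators of `NA X` -/
theorem conj_gen [Fintype F] (π : M →* Matrix (IQ n κ) (IQ n κ) F)
    (hπX : ∀ a b, IsRoot a b → ∀ t : F, π (X a b t) = xmQ a b t) (hn : 3 ≤ n)
    (hQ : QuadraticMap.Anisotropic Q0) (hB : QRel Q0 X Ys) {e₁ : κ → F} (he₁ : Q0 e₁ = 1)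
    {i j : Fin n} (hij : i ≠ j) {t : F} (ht : t ≠ 0) {y : M}
    (hy : y ∈ CSQ Q0 Ys e₁ ⊔ HhQ Q0 X Ys) :
    wX X (Sum.inl i) (Sum.inl j) t * y * (wX X (Sum.inl i) (Sum.inl j) t)⁻¹ ∈
      CSQ Q0 Ys e₁ ⊔ HhQ Q0 X Ys := by
  have hab := isRoot_inl (n := n) hij
  have he0 := e₁_ne_zero he₁
  apply conj_mem_sup _ _ _ hy
  · intro k
    unfold cQ
    by_cases hki : k = i
    · subst hki
      rw [wX_conj_wY_fst hB hab ht]
      exact wY_mem_sup he₁ j (neg_ne_zero.2 (smul_ne_zero (inv_ne_zero ht) he0))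
    · by_cases hkj : k = j
      · subst hkj
        rw [wX_conj_wY_snd hB hab ht]
        exact wY_mem_sup he₁ i (smul_ne_zero ht he0)
      · have h1 : (Sum.inl k : J n) ≠ Sum.inl i := fun h => hki (Sum.inl.inj h)
        have h2 : (Sum.inl k : J n) ≠ Sum.inl j := fun h => hkj (Sum.inl.inj h)
        have h3 : (Sum.inl k : J n) ≠ ng (Sum.inl i) := by
          rw [ng_inl]; exact Sum.inl_ne_inr
        have h4 : (Sum.inl k : J n) ≠ ng (Sum.inl j) := by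
          rw [ng_inl]; exact Sum.inl_ne_inr
        rw [wX_conj_wY_of_ne hB hab t h1 h2 h3 h4]
        exact wY_mem_sup he₁ k he0
  · intro h hh
    exact wX_conj_HhQ_mem π hπX hn hQ hB hab ht hh

end NACONJQ

open NACONJQ in
/-- NACONJQ -/
theorem NA_conj_mem_Q [Fintype F] (π : M →* Matrix (IQ n κ) (IQ n κ) F)
    (hπX : ∀ a b, IsRoot a b → ∀ t : F, π (X a b t) = xmQ a b t) (hn : 3 ≤ n)
    (hQ : QuadraticMap.Anisotropic Q0) (hB : QRel Q0 X Ys) {e₁ : κ → F} (he₁ : Q0 e₁ = 1)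
    {ν y : M} (hν : ν ∈ NA X) (hy : y ∈ CSQ Q0 Ys e₁ ⊔ HhQ Q0 X Ys) :
    ν * y * ν⁻¹ ∈ CSQ Q0 Ys e₁ ⊔ HhQ Q0 X Ys := by
  have key : ∀ ν ∈ NA X,
      (∀ y ∈ CSQ Q0 Ys e₁ ⊔ HhQ Q0 X Ys, ν * y * ν⁻¹ ∈ CSQ Q0 Ys e₁ ⊔ HhQ Q0 X Ys) ∧
      (∀ y ∈ CSQ Q0 Ys e₁ ⊔ HhQ Q0 X Ys, ν⁻¹ * y * ν ∈ CSQ Q0 Ys e₁ ⊔ HhQ Q0 X Ys) := by
    intro ν hν
    unfold NA at hν
    induction hν using Subgroup.closure_induction with
    | mem g hg =>
      obtain ⟨i, j, t, hij, ht, rfl⟩ := hg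
      refine ⟨fun y hy => conj_gen π hπX hn hQ hB he₁ hij ht hy, fun y hy => ?_⟩
      have h1 := wX_inv' hB.dX (isRoot_inl hij) t
      have h2 := conj_gen π hπX hn hQ hB he₁ hij (neg_ne_zero.2 ht) hy
      rw [← h1, inv_inv] at h2
      exact h2
    | one =>
      refine ⟨fun y hy => ?_, fun y hy => ?_⟩
      · rw [one_mul, inv_one, mul_one]
        exact hy
      · rw [inv_one, one_mul, mul_one]
        exact hy
    | mul a b _ _ iha ihb =>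
      refine ⟨fun y hy => ?_, fun y hy => ?_⟩
      · have e : a * b * y * (a * b)⁻¹ = a * (b * y * b⁻¹) * a⁻¹ := by group
        rw [e]
        exact iha.1 _ (ihb.1 y hy)
      · have e : (a * b)⁻¹ * y * (a * b) = b⁻¹ * (a⁻¹ * y * a) * b := by group
        rw [e]
        exact ihb.2 _ (iha.2 y hy)
    | inv a _ iha =>
      refine ⟨fun y hy => ?_, fun y hy => ?_⟩
      · rw [inv_inv]
        exact iha.2 y hy
      · rw [inv_inv]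
        exact iha.1 y hy
  exact (key ν hν).1 y hy

end pi

end Cfsg.Agent.S2099P
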