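import Mathlib
import Cfsg.Agent.Helper2.S2099.DefsA
import Cfsg.Agent.Helper2.S2099.DefsZ

set_option autoImplicit false
set_option linter.unusedSectionVars false
set_option linter.unusedVariables false

/-! S2099 chapter A, piece NORM1: the quadratic extension `QK a b` contains an element of norm one
whose square is not one. -/

namespace Cfsg.Agent.S2099P

open Matrix Cfsg.Agent.S3352P Cfsg.Agent.S3351P Cfsg.Agent.S2096P Cfsg.Agent.S2086P
open Cfsg.Agent.S2094P (LongOK isRoot_ng_right' isRoot_ng_left')
open scoped commutatorElement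

section field

variable {n : ℕ} {F : Type*} [Field F] [Fintype F] {a b : F} {G : Type*} [Group G]
  {X : J n → J n → F → G} {Ys : J n → (Fin 2 → F) → G}

namespace NORM1

theorem nrm_inv [Aniso a b] {x : QK a b} (hx : x ≠ 0) : QK.nrm x⁻¹ = (QK.nrm x)⁻¹ := by
  have h := QK.nrm_mul x x⁻¹
  rw [mul_inv_cancel₀ hx, QK.nrm_one] at h
  exact eq_inv_of_mul_eq_one_right h.symm

/-- in characteristic 2 the coefficient `a` of an anisotropic form over a finite field is not 0 -/
theorem two_ne_zero_of_a_zero [Aniso a b] (ha : a = 0) : (2 : F) ≠ 0 := by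
  intro h2
  have hchar : ringChar F = 2 := CharP.ringChar_of_prime_eq_zero Nat.prime_two h2
  obtain ⟨s, hs⟩ := FiniteField.isSquare_of_char_two hchar b
  have h := Aniso.out (a := a) (b := b) s 1 (by
    rw [ha, hs]
    linear_combination (s * s) * h2)
  exact one_ne_zero h.2

theorem key [Aniso a b] (m : QK a b) (h1 : m - QK.conj m ≠ 0) (h2 : m + QK.conj m ≠ 0) :
    ∃ l : QK a b, QK.nrm l = 1 ∧ l * l ≠ 1 := by
  have hm : m ≠ 0 := by
    intro h0
    apply h2
    rw [h0]
    ext <;> simp
  have hcm : QK.conj m ≠ 0 := by
    intro h0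
    apply hm
    rw [← QK.conj_conj m, h0]
    ext <;> simp
  refine ⟨m * (QK.conj m)⁻¹, ?_, ?_⟩
  · rw [QK.nrm_mul, nrm_inv hcm, QK.nrm_conj, mul_inv_cancel₀]
    intro h
    exact hm (QK.nrm_eq_zero h)
  · intro h
    have h3 : m * m = QK.conj m * QK.conj m := by
      calc m * m = (m * (QK.conj m)⁻¹ * (m * (QK.conj m)⁻¹)) * (QK.conj m * QK.conj m) := by
            field_simp
        _ = QK.conj m * QK.conj m := by rw [h, one_mul]
    have h4 : (m - QK.conj m) * (m + QK.conj m) = 0 := by
      have : (m - QK.conj m) * (m + QK.conj m) = m * m - QK.conj m * QK.conj m := by ring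
      rw [this, h3, sub_self]
    rcases mul_eq_zero.1 h4 with h5 | h5
    · exact h1 h5
    · exact h2 h5

end NORM1

open NORM1

/-- NORM1: an element of norm one whose square is not one -/
theorem exists_nrm_one [Aniso a b] : ∃ l : QK a b, QK.nrm l = 1 ∧ l * l ≠ 1 := by
  by_cases ha : a = 0
  · have h2 := two_ne_zero_of_a_zero (a := a) (b := b) ha
    apply key (⟨1, 1⟩ : QK a b)
    · intro h
      have := congrArg QK.im h
      simp only [QK.sub_im, QK.conj_im, QK.zero_im] at this
      apply h2
      linear_combination this
    · intro h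
      have := congrArg QK.re h
      simp only [QK.add_re, QK.conj_re, QK.zero_re, ha] at this
      apply h2
      linear_combination this
  · apply key (⟨0, 1⟩ : QK a b)
    · intro h
      have := congrArg QK.re h
      simp only [QK.sub_re, QK.conj_re, QK.zero_re] at this
      apply ha
      linear_combination -this
    · intro h
      have := congrArg QK.re h
      simp only [QK.add_re, QK.conj_re, QK.zero_re] at this
      apply ha
      linear_combination this

end field

end Cfsg.Agent.S2099P
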