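import Mathlib
import Cfsg.Agent.Helper2.S2099.DefsA
import Cfsg.Agent.Helper2.S2099.DefsZ

set_option autoImplicit false
set_option linter.unusedSectionVars false
set_option linter.unusedVariables false

/-! S2099 chapter A, piece NORMSURJ: the anisotropic binary form over a finite field represents
every nonzero element. -/

namespace Cfsg.Agent.S2099P

open Matrix Cfsg.Agent.S3352P Cfsg.Agent.S3351P Cfsg.Agent.S2096P Cfsg.Agent.S2086P
open Cfsg.Agent.S2094P (LongOK isRoot_ng_right' isRoot_ng_left')
open scoped commutatorElement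

section field

variable {n : ℕ} {F : Type*} [Field F] [Fintype F] {a b : F} {G : Type*} [Group G]
  {X : J n → J n → F → G} {Ys : J n → (Fin 2 → F) → G}

namespace NORMSURJ

open Polynomial in
/-- odd characteristic: `u² + c v² = μ` has a solution for `c ≠ 0` -/
theorem exists_sq_add (h2 : (2 : F) ≠ 0) {c : F} (hc : c ≠ 0) (μ : F) :
    ∃ u v : F, u ^ 2 + c * v ^ 2 = μ := by
  have hchar : ringChar F ≠ 2 := by
    intro h
    apply h2
    have := ringChar.Nat.cast_ringChar (R := F)
    rw [h] at this
    exact_mod_cast this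
  have hodd := FiniteField.odd_card_of_char_ne_two hchar
  have hf : degree ((Polynomial.X : F[X]) ^ 2 : F[X]) = 2 := degree_X_pow 2
  have hg : degree (C c * (Polynomial.X : F[X]) ^ 2 - C μ : F[X]) = 2 := by
    have h1 : degree (C c * (Polynomial.X : F[X]) ^ 2 : F[X]) = 2 := by
      rw [degree_C_mul hc, degree_X_pow]
      rfl
    rw [degree_sub_eq_left_of_degree_lt, h1]
    rw [h1]
    exact lt_of_le_of_lt degree_C_le (by norm_num)
  obtain ⟨u, v, huv⟩ := FiniteField.exists_root_sum_quadratic hf hg hodd
  refine ⟨u, v, ?_⟩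
  simp only [eval_pow, eval_X, eval_sub, eval_mul, eval_C] at huv
  linear_combination huv

end NORMSURJ

open NORMSURJ

/-- NORMSURJ: the anisotropic binary form represents every nonzero element -/
theorem exists_qf2_eq
    (hab : ∀ z₁ z₂ : F, z₁ ^ 2 + a * z₁ * z₂ + b * z₂ ^ 2 = 0 → z₁ = 0 ∧ z₂ = 0) {μ : F}
    (hμ : μ ≠ 0) : ∃ w : Fin 2 → F, qf2 a b w = μ := by
  by_cases h2 : (2 : F) = 0
  · -- characteristic 2: every element is a square
    have hchar : ringChar F = 2 := CharP.ringChar_of_prime_eq_zero Nat.prime_two h2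
    obtain ⟨s, hs⟩ := FiniteField.isSquare_of_char_two hchar μ
    refine ⟨![s, 0], ?_⟩
    rw [qf2_apply]
    simp only [Matrix.cons_val_zero, Matrix.cons_val_one, Matrix.cons_val_fin_one]
    rw [hs]
    ring
  · -- odd characteristic: complete the square
    have h4 : (4 : F) ≠ 0 := by
      have : (4 : F) = 2 * 2 := by norm_num
      rw [this]
      exact mul_ne_zero h2 h2
    have hc : b - a ^ 2 / 4 ≠ 0 := by
      intro h0
      have h1 := hab (-a / 2) 1 (by
        have hb : b = a ^ 2 / 4 := sub_eq_zero.1 h0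
        rw [hb]
        field_simp
        ring)
      exact one_ne_zero h1.2
    obtain ⟨u, v, huv⟩ := exists_sq_add h2 hc μ
    refine ⟨![u - a * v / 2, v], ?_⟩
    rw [qf2_apply]
    simp only [Matrix.cons_val_zero, Matrix.cons_val_one, Matrix.cons_val_fin_one]
    rw [← huv]
    field_simp
    ring

end field

end Cfsg.Agent.S2099P
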