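import Mathlib
import Cfsg.Prelude.Def_TwoFusion
import Cfsg.Agent.Helper29.S2221Defs

/-! S2221 pieces CARDWR, CARDW, PGROUPW (helper18): the order of the wreath product `B ≀ C₂` and of
the iterated wreath products `W k`. -/

set_option autoImplicit false

namespace Cfsg.Agent.S2221P

open Equiv

section wreath

variable {α : Type*}

/-- W1a CARDWR (M). -/
theorem card_wr [Finite α] [Nonempty α] (B : Subgroup (Perm α)) :
    Nat.card ↥(wr B) = 2 * Nat.card ↥B ^ 2 := by
  classical
  let f : Bool × ↥B × ↥B → ↥(wr B) := fun x =>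
    ⟨pr (x.2.1 : Perm α) (x.2.2 : Perm α) * (if x.1 then tau else 1), by
      rcases x with ⟨ε, a, b⟩
      cases ε
      · exact ⟨a, a.2, b, b.2, Or.inl (by simp)⟩
      · exact ⟨a, a.2, b, b.2, Or.inr (by simp)⟩⟩
  have hf : Function.Bijective f := by
    constructor
    · rintro ⟨ε, a, b⟩ ⟨ε', a', b'⟩ h
      have h1 : pr (a : Perm α) (b : Perm α) * (if ε then tau else 1) =
          pr (a' : Perm α) (b' : Perm α) * (if ε' then tau else 1) := congrArg Subtype.val h
      cases ε <;> cases ε'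
      · simp only [Bool.false_eq_true, if_false, mul_one] at h1
        obtain ⟨e1, e2⟩ := pr_injective h1
        rw [Subtype.ext e1, Subtype.ext e2]
      · simp only [Bool.false_eq_true, if_false, if_true, mul_one] at h1
        exact absurd h1 (pr_ne_pr_mul_tau _ _ _ _)
      · simp only [Bool.false_eq_true, if_false, if_true, mul_one] at h1
        exact absurd h1.symm (pr_ne_pr_mul_tau _ _ _ _)
      · simp only [if_true] at h1
        obtain ⟨e1, e2⟩ := pr_injective (mul_right_cancel h1)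
        rw [Subtype.ext e1, Subtype.ext e2]
    · rintro ⟨σ, a, ha, b, hb, h1 | h1⟩
      · exact ⟨(false, ⟨a, ha⟩, ⟨b, hb⟩), Subtype.ext (by simp [f, h1])⟩
      · exact ⟨(true, ⟨a, ha⟩, ⟨b, hb⟩), Subtype.ext (by simp [f, h1])⟩
  rw [← Nat.card_congr (Equiv.ofBijective f hf), Nat.card_prod, Nat.card_prod,
    Nat.card_eq_fintype_card (α := Bool), Fintype.card_bool, sq]

end wreath

/-- W1b CARDW (S; dep CARDWR). -/
theorem card_W (k : ℕ) : Nat.card ↥(W k) = 2 ^ (2 ^ k - 1) := by
  induction k with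
  | zero =>
    show Nat.card ↥(⊥ : Subgroup (Perm (Om 0))) = _
    simp
  | succ k ih =>
    show Nat.card ↥(wr (W k)) = _
    rw [card_wr, ih, ← pow_mul, ← pow_succ']
    congr 1
    have h1 : 1 ≤ 2 ^ k := Nat.one_le_two_pow
    rw [pow_succ]
    omega

/-- W9 PGROUPW (S; dep CARDW). -/
theorem isPGroup_W (k : ℕ) : IsPGroup 2 ↥(W k) :=
  IsPGroup.of_card (card_W k)

end Cfsg.Agent.S2221P
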