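import Mathlib
import Cfsg.Prelude.Def_TwoFusion
import Cfsg.Agent.Helper29.S2221Defs
import Cfsg.Agent.Helper18.S2221CARDWR

/-! S2221 piece CARDPW (helper18): the order of `PW n = Π_{k ∈ bits n} W k`. -/

set_option autoImplicit false

namespace Cfsg.Agent.S2221P

open Equiv

/-- S4 CARDPW (M; dep CARDW, `∑_{k ∈ bitsF n} 2^k = n`). -/
theorem card_PW (n : ℕ) : Nat.card (PW n) = 2 ^ (n - (bitsF n).card) := by
  classical
  rw [Nat.card_pi]
  simp only [card_W]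
  rw [Finset.prod_pow_eq_pow_sum]
  congr 1
  have h1 : ∑ k ∈ bitsF n, 2 ^ k = n := Finset.sum_toFinset_bitIndices_two_pow n
  have h2 : ∑ k : Idx n, (2 ^ (k : ℕ) - 1) = ∑ k ∈ bitsF n, (2 ^ k - 1) :=
    Finset.sum_coe_sort (bitsF n) (fun k => 2 ^ k - 1)
  rw [h2]
  have h3 : ∑ k ∈ bitsF n, (2 ^ k - 1) + (bitsF n).card = ∑ k ∈ bitsF n, 2 ^ k := by
    rw [Finset.card_eq_sum_ones, ← Finset.sum_add_distrib]
    apply Finset.sum_congr rfl
    intro k _
    have : 1 ≤ 2 ^ k := Nat.one_le_two_pow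
    omega
  omega

end Cfsg.Agent.S2221P
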