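import Cfsg.Agent.Helper28.S2258Defs
import Cfsg.Agent.Helper18.Dickson45
import Cfsg.Agent.Helper28.S2258NOEIG4
import Cfsg.Agent.Helper9.S2258NFC

/-! S2258 piece NF4 (helper18): normal form of an element of order dividing `q + 1`. -/

set_option autoImplicit false

namespace Cfsg.Agent.S2258P

open Cfsg.Agent.Helper18.Dickson

variable {F : Type*} [Field F] [Fintype F] {p : ℕ}

local notation "SF" => Matrix.SpecialLinearGroup (Fin 2) F
local notation "MF" => Matrix (Fin 2) (Fin 2) F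
local notation "PF" => Matrix.ProjectiveSpecialLinearGroup (Fin 2) F
local notation "π" => QuotientGroup.mk' (Subgroup.center SF)
local notation "q" => Fintype.card F

/-- NF4 (S; NOEIG4 + NFC). -/
theorem nf_nonsplit (h : Hyp F p) (x : PF) (h1 : x ≠ 1) (h2 : orderOf x ≠ 2)
    (hd : orderOf x ∣ 3 ^ p + 1) :
    ∃ (g : PF) (τ : F), τ ≠ 0 ∧ ¬ IsSquare (τ ^ 2 - 4) ∧ g * x * g⁻¹ = π (cM τ) := by
  obtain ⟨X, rfl⟩ := QuotientGroup.mk'_surjective (Subgroup.center SF) x
  obtain ⟨htr, hno⟩ := noEig_of_dvd_succ h X h1 h2 hd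
  obtain ⟨hsq, g, hg⟩ := exists_conj_cM h X hno
  refine ⟨π g, tr X, htr, hsq, ?_⟩
  rw [← hg, map_mul, map_mul, map_inv]

end Cfsg.Agent.S2258P
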