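import Mathlib
import Cfsg.Agent.Helper21.S2286DEFS

/-! S2286 piece FIELD2 (helper18): `ev_span`, `mcoef_facts`, `mdeg_intCast`, `exists_pow_eq_two`. -/

namespace Cfsg.Agent.Helper21.S2286

open Polynomial Multiplicative

namespace FIELD2

/-- `ev lam` of the coefficient vector of `f` is `aeval lam f` -/
theorem ev_coeff (p : ℕ) [Fact p.Prime] {F : Type*} [Field F] [CharP F p] (lam : F)
    (f : (ZMod p)[X]) :
    letI := ZMod.algebra F p
    ev lam (fun i => (f.coeff i).val) (f.natDegree + 1) = aeval lam f := by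
  letI := ZMod.algebra F p
  show ev lam (fun i => (f.coeff i).val) (f.natDegree + 1) = aeval lam f
  rw [aeval_eq_sum_range]
  unfold ev
  apply Finset.sum_congr rfl
  intro i _
  rw [Algebra.smul_def]
  congr 1
  have : algebraMap (ZMod p) F (f.coeff i) = ZMod.cast (f.coeff i) := rfl
  rw [this, ZMod.natCast_val]

end FIELD2

theorem ev_span (p : ℕ) [Fact p.Prime] {F : Type*} [Field F] [Finite F] [CharP F p] (lam : F)
    (hadj : letI := ZMod.algebra F p; Algebra.adjoin (ZMod p) {lam} = ⊤) (a : F) :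
    ∃ (c : ℕ → ℕ) (n : ℕ), ev lam c n = a := by
  letI := ZMod.algebra F p
  have ha : a ∈ Algebra.adjoin (ZMod p) {lam} := by
    rw [hadj]; exact Algebra.mem_top
  rw [Algebra.adjoin_singleton_eq_range_aeval] at ha
  obtain ⟨f, hf⟩ := ha
  refine ⟨fun i => (f.coeff i).val, f.natDegree + 1, ?_⟩
  rw [← hf]
  exact FIELD2.ev_coeff p lam f

theorem mcoef_facts (p : ℕ) [Fact p.Prime] {F : Type*} [Field F] [Finite F] [CharP F p] (lam : F) :
    mcoef p lam (mdeg p lam) = 1 ∧ 1 ≤ mdeg p lam ∧ ev lam (mcoef p lam) (mdeg p lam + 1) = 0 := by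
  letI := ZMod.algebra F p
  have hint : IsIntegral (ZMod p) lam := Algebra.IsIntegral.isIntegral lam
  have hmonic : (minpoly (ZMod p) lam).Monic := minpoly.monic hint
  haveI : Fact (1 < p) := ⟨(Fact.out : p.Prime).one_lt⟩
  refine ⟨?_, ?_, ?_⟩
  · show ((minpoly (ZMod p) lam).coeff (minpoly (ZMod p) lam).natDegree).val = 1
    rw [Polynomial.coeff_natDegree, hmonic.leadingCoeff, ZMod.val_one]
  · exact minpoly.natDegree_pos hint
  · have h := FIELD2.ev_coeff p lam (minpoly (ZMod p) lam)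
    rw [minpoly.aeval] at h
    exact h

theorem mdeg_intCast (p : ℕ) [Fact p.Prime] {F : Type*} [Field F] [Finite F] [CharP F p] (n : ℤ) :
    mdeg p (n : F) = 1 := by
  letI := ZMod.algebra F p
  show (minpoly (ZMod p) (n : F)).natDegree = 1
  have h : (n : F) = algebraMap (ZMod p) F (n : ZMod p) := by
    rw [map_intCast]
  rw [h, minpoly.eq_X_sub_C, natDegree_X_sub_C]

theorem exists_pow_eq_two {F : Type*} [Field F] [Finite F] [CharP F 2] (ω : Fˣ)
    (hω : ∀ y : Fˣ, y ∈ Subgroup.zpowers ω) (a : F) (ha : a ≠ 0) :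
    ∃ k : ℕ, ((ω : F) ^ 2) ^ k = a := by
  cases nonempty_fintype F
  classical
  obtain ⟨n, _, hcard⟩ := FiniteField.card F 2
  have hy := hω (Units.mk0 a ha)
  rw [← mem_powers_iff_mem_zpowers, Submonoid.mem_powers_iff] at hy
  obtain ⟨j, hj⟩ := hy
  have hdvd : orderOf ω ∣ Fintype.card Fˣ := orderOf_dvd_card
  rw [Fintype.card_units, hcard] at hdvd
  have hpos : 1 ≤ 2 ^ (n : ℕ) := Nat.one_le_pow _ _ (by norm_num)
  have hodd : Odd (orderOf ω) := by
    rcases Nat.even_or_odd (orderOf ω) with he | ho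
    · exfalso
      have h2 : 2 ∣ 2 ^ (n : ℕ) - 1 := dvd_trans he.two_dvd hdvd
      have h3 : 2 ∣ 2 ^ (n : ℕ) := dvd_pow_self 2 n.pos.ne'
      omega
    · exact ho
  obtain ⟨M, hM⟩ := hodd
  refine ⟨j * (M + 1), ?_⟩
  have h1 : (ω ^ 2) ^ (j * (M + 1)) = ω ^ j := by
    rw [← pow_mul]
    have : 2 * (j * (M + 1)) = j + orderOf ω * j := by rw [hM]; ring
    rw [this, pow_add, pow_mul, pow_orderOf_eq_one, one_pow, mul_one]
  have h2 := congrArg (fun y : Fˣ => (y : F)) (h1.trans hj)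
  simpa using h2

end Cfsg.Agent.Helper21.S2286
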