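import Mathlib
import Cfsg.Agent.Helper21.S2286DEFS
import Cfsg.Agent.Helper19.S2286PW

/-! S2286 piece PHI (helper18): the homomorphism `φ : Multiplicative F →* G`. -/

namespace Cfsg.Agent.Helper21.S2286

open Polynomial Multiplicative

variable {G : Type*} [Group G]

namespace PHI

/-- a polynomial is the sum of its coefficients' natural representatives -/
theorem poly_eq_sum (p : ℕ) [Fact p.Prime] (f : (ZMod p)[X]) :
    f = ∑ i ∈ Finset.range (f.natDegree + 1), C (((f.coeff i).val : ℕ) : ZMod p) * X ^ i := by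
  conv_lhs => rw [f.as_sum_range_C_mul_X_pow]
  apply Finset.sum_congr rfl
  intro i _
  rw [ZMod.natCast_zmod_val]

end PHI

theorem exists_phi (p : ℕ) [Fact p.Prime] {F : Type*} [Field F] [Finite F] [CharP F p] (lam : F)
    (hadj : letI := ZMod.algebra F p; Algebra.adjoin (ZMod p) {lam} = ⊤)
    (h u : G) (hup : u ^ p = 1) (hcomm : ∀ i j : ℤ, Commute (cj h u i) (cj h u j))
    (hm : prodA h u (mcoef p lam) (mdeg p lam + 1) = 1) :
    ∃ φ : Multiplicative F →* G, φ (ofAdd 1) = u ∧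
      (∀ a : F, h * φ (ofAdd a) * h⁻¹ = φ (ofAdd (lam * a))) ∧
      (∀ (c : ℕ → ℕ) (n : ℕ), φ (ofAdd (ev lam c n)) = prodA h u c n) := by
  letI := ZMod.algebra F p
  obtain ⟨ψ, hψ1, hψX, hψc, hψk⟩ := exists_pw p h u hup hcomm
  -- the evaluation map
  let A : Multiplicative (ZMod p)[X] →* Multiplicative F :=
    AddMonoidHom.toMultiplicative (aeval lam : (ZMod p)[X] →ₐ[ZMod p] F).toLinearMap.toAddMonoidHom
  have hA : ∀ f : (ZMod p)[X], A (ofAdd f) = ofAdd (aeval lam f) := fun f => rfl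
  have hsurjA : ∀ a : F, ∃ f : (ZMod p)[X], aeval lam f = a := by
    intro a
    have ha : a ∈ Algebra.adjoin (ZMod p) {lam} := by
      rw [hadj]; exact Algebra.mem_top
    rw [Algebra.adjoin_singleton_eq_range_aeval] at ha
    exact ha
  have hsurj : Function.Surjective A := by
    intro a
    obtain ⟨f, hf⟩ := hsurjA (toAdd a)
    exact ⟨ofAdd f, by rw [hA, hf]; rfl⟩
  -- ψ kills the minimal polynomial
  have hmin : ψ (ofAdd (minpoly (ZMod p) lam)) = 1 := by
    rw [PHI.poly_eq_sum p (minpoly (ZMod p) lam), hψc]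
    exact hm
  have hker : A.ker ≤ ψ.ker := by
    intro x hx
    rw [MonoidHom.mem_ker] at hx ⊢
    have hx' : aeval lam (toAdd x) = 0 := by
      have := hA (toAdd x)
      rw [ofAdd_toAdd, hx] at this
      exact (congrArg toAdd this).symm
    obtain ⟨g, hg⟩ := minpoly.dvd (ZMod p) lam hx'
    have h1 := hψk _ g hmin
    rw [mul_comm, ← hg, ofAdd_toAdd] at h1
    exact h1
  let φ : Multiplicative F →* G := MonoidHom.liftOfSurjective A hsurj ⟨ψ, hker⟩
  have hφ : ∀ f : (ZMod p)[X], φ (ofAdd (aeval lam f)) = ψ (ofAdd f) := by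
    intro f
    rw [← hA]
    exact MonoidHom.liftOfRightInverse_comp_apply A _ _ ⟨ψ, hker⟩ (ofAdd f)
  refine ⟨φ, ?_, ?_, ?_⟩
  · have := hφ 1
    rw [map_one, hψ1] at this
    exact this
  · intro a
    obtain ⟨f, rfl⟩ := hsurjA a
    rw [hφ f, ← hψX, ← hφ (X * f), map_mul, aeval_X]
  · intro c n
    rw [← hψc c n, ← hφ]
    congr 2
    unfold ev
    rw [map_sum]
    apply Finset.sum_congr rfl
    intro i _
    rw [map_mul, map_pow, aeval_X, aeval_C, map_natCast]

end Cfsg.Agent.Helper21.S2286
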