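import Mathlib
import Cfsg.Agent.Helper14.S2481.Defs
import Cfsg.Agent.Helper14.S2481.DefsM
import Cfsg.Agent.Helper18.S2481TILDE
import Cfsg.Agent.Helper18.S2481SIGEX
import Cfsg.Agent.Helper10.S2481FORMHYP
import Cfsg.Agent.Helper24.S2481ROOTMOD
import Cfsg.Agent.Helper20.S2481CENT

set_option autoImplicit false
set_option linter.unusedVariables false

/-! S2481 (driver helper14), piece BLOCKHYP: the hyperbolic block
`F[X]/(ρ^m) × F[X]/(ρ'^m)`, `ρ' = tilde σ ρ`. -/

namespace Cfsg.Agent.S2481P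

open Polynomial DirectSum Matrix Cfsg.Agent.S2478P Cfsg.Agent.S2479P

universe u

variable {F : Type u} [Field F] {σ : F →+* F}

namespace BLOCKHYP

theorem pow_coeff_zero_ne {f : F[X]} (hf : f.coeff 0 ≠ 0) (m : ℕ) : (f ^ m).coeff 0 ≠ 0 := by
  rw [coeff_zero_eq_eval_zero, eval_pow, ← coeff_zero_eq_eval_zero]
  exact pow_ne_zero _ hf

/-- `tilde` of a power -/
theorem tilde_pow (σ : F →+* F) {f : F[X]} (hf : f.coeff 0 ≠ 0) (m : ℕ) :
    tilde σ (f ^ m) = tilde σ f ^ m := by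
  induction m with
  | zero => rw [pow_zero, pow_zero, tilde_one]
  | succ k ih => rw [pow_succ, pow_succ, tilde_mul σ (pow_coeff_zero_ne hf k) hf, ih]

/-- the module of a product map -/
noncomputable def aevalProd {V1 V2 : Type*} [AddCommGroup V1] [Module F V1] [AddCommGroup V2]
    [Module F V2] (g1 : V1 →ₗ[F] V1) (g2 : V2 →ₗ[F] V2) :
    Module.AEval' (g1.prodMap g2) ≃ₗ[F[X]] (Module.AEval' g1 × Module.AEval' g2) :=
  LinearEquiv.ofAEval (g1.prodMap g2)
    ((Module.AEval'.of g1).prodCongr (Module.AEval'.of g2)) (fun v => by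
      show ((Module.AEval'.of g1) (g1 v.1), (Module.AEval'.of g2) (g2 v.2)) =
        (X : F[X]) • ((Module.AEval'.of g1) v.1, (Module.AEval'.of g2) v.2)
      rw [Prod.smul_mk, Module.AEval'.X_smul_of, Module.AEval'.X_smul_of])

/-- a direct sum over a two element type -/
noncomputable def dsumTwo {R : Type*} [Semiring R] (N : PUnit.{u + 1} ⊕ PUnit.{u + 1} → Type*)
    [∀ i, AddCommMonoid (N i)] [∀ i, Module R (N i)] :
    (⨁ i, N i) ≃ₗ[R] (N (Sum.inl PUnit.unit) × N (Sum.inr PUnit.unit)) :=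
  (DirectSum.linearEquivFunOnFintype R _ N).trans
    ((LinearEquiv.sumPiEquivProdPi R PUnit PUnit N).trans
      ((LinearEquiv.piUnique R _).prodCongr (LinearEquiv.piUnique R _)))

end BLOCKHYP

open BLOCKHYP in
-- piece BLOCKHYP (uses SIGEX, FORMHYP, CENTHYP, ROOTMOD, TILDE; `V = AdjoinRoot (ρ^m) × AdjoinRoot (ρ'^m)`,
-- `g = (lmul root).prodMap (lmul root)`, `ι = PUnit ⊕ PUnit`)
theorem realA_hyp [Fintype F] (hσ : IsInvol σ) {ρ : F[X]} (hρm : ρ.Monic) (hρ : Irreducible ρ)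
    (hρX : ρ ≠ X) {m : ℕ} (hm : 1 ≤ m) :
    RealA σ (m * (ρ * tilde σ ρ).natDegree) (tsingle m (ρ * tilde σ ρ)) := by
  classical
  have hρ0 : ρ.coeff 0 ≠ 0 := by
    intro h0
    have hdvd : X ∣ ρ := X_dvd_iff.mpr h0
    have hass : Associated X ρ := Irreducible.associated_of_dvd irreducible_X hρ hdvd
    exact hρX (eq_of_monic_of_associated monic_X hρm hass).symm
  set ρ' := tilde σ ρ with hρ'def
  have hρ'm : ρ'.Monic := tilde_monic σ hρ0
  have hρ'irr : Irreducible ρ' := tilde_irreducible hσ hρm hρ0 hρ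
  have hρ'0 : ρ'.coeff 0 ≠ 0 := TILDE.tilde_coeff_zero_ne σ hρ0
  have hρ'X : ρ' ≠ X := by
    rintro h
    rw [h] at hρ'0
    simp at hρ'0
  have hdeg' : ρ'.natDegree = ρ.natDegree := tilde_natDegree σ hρ0
  have hdegpos : 1 ≤ ρ.natDegree := hρ.natDegree_pos
  have hfm : (ρ ^ m).Monic := hρm.pow m
  have hfm' : (ρ' ^ m).Monic := hρ'm.pow m
  haveI : Module.Finite F (AdjoinRoot (ρ ^ m)) := hfm.finite_adjoinRoot
  haveI : Module.Finite F (AdjoinRoot (ρ' ^ m)) := hfm'.finite_adjoinRoot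
  obtain ⟨S, hS1, hS2, hSb⟩ := exists_sig hσ hfm (pow_coeff_zero_ne hρ0 m)
    (tilde_pow σ hρ0 m : tilde σ (ρ ^ m) = ρ' ^ m)
  obtain ⟨B, hBs, hBn, hBinv⟩ := exists_form_hyp hσ hρ hm S hS1 hSb
  obtain ⟨⟨Φ1⟩, hcp1, hfr1⟩ := aeval_lmul_root hfm
  obtain ⟨⟨Φ2⟩, hcp2, hfr2⟩ := aeval_lmul_root hfm'
  set g1 := Algebra.lmul F (AdjoinRoot (ρ ^ m)) (AdjoinRoot.root (ρ ^ m)) with hg1
  set g2 := Algebra.lmul F (AdjoinRoot (ρ' ^ m)) (AdjoinRoot.root (ρ' ^ m)) with hg2
  have hnat : (ρ * ρ').natDegree = ρ.natDegree + ρ'.natDegree := hρm.natDegree_mul hρ'm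
  refine ⟨AdjoinRoot (ρ ^ m) × AdjoinRoot (ρ' ^ m), inferInstance, inferInstance, inferInstance,
    B, g1.prodMap g2, hBs, hBn, ?_, ?_, ?_, ?_, ?_⟩
  · -- the dimension
    rw [Module.finrank_prod, hfr1, hfr2, natDegree_pow, natDegree_pow, hnat]
    ring
  · -- isometry
    intro v w
    exact hBinv _ _ hS2 v w
  · -- the type
    refine ⟨PUnit.{u + 1} ⊕ PUnit.{u + 1}, inferInstance, Sum.elim (fun _ => ρ) (fun _ => ρ'),
      fun _ => m, ?_, ?_, ?_, ?_⟩
    · rintro (i | i)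
      · exact ⟨hρm, hρ, hρX, hm⟩
      · exact ⟨hρ'm, hρ'irr, hρ'X, hm⟩
    · rw [Fintype.sum_sum_type]
      simp only [Sum.elim_inl, Sum.elim_inr, Finset.univ_unique, Finset.sum_singleton, hnat]
      ring
    · exact ⟨(aevalProd g1 g2).trans ((Φ1.prodCongr Φ2).trans
        (dsumTwo (R := F[X]) (fun i : PUnit.{u + 1} ⊕ PUnit.{u + 1} =>
          F[X] ⧸ Submodule.span F[X] {Sum.elim (fun _ => ρ) (fun _ => ρ') i ^ m})).symm)⟩
    · funext k
      by_cases hk : k = m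
      · subst hk
        simp only [tsingle, if_true]
        rw [Finset.filter_true_of_mem (fun _ _ => trivial), Fintype.prod_sum_type]
        simp
      · simp only [tsingle, if_neg hk]
        rw [Finset.filter_false_of_mem (fun _ _ h => hk h.symm), Finset.prod_empty]
  · -- the characteristic polynomial
    rw [LinearMap.charpoly_prodMap, hcp1, hcp2]
    have hmn : m ∈ Finset.range (m * (ρ * ρ').natDegree + 1) := by
      rw [Finset.mem_range, hnat]
      have : m * 1 ≤ m * (ρ.natDegree + ρ'.natDegree) := Nat.mul_le_mul_left m (by omega)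
      omega
    rw [Finset.prod_eq_single_of_mem m hmn]
    · simp only [tsingle, if_true]
      rw [mul_pow]
    · intro k _ hk
      simp only [tsingle, if_neg hk, one_pow]
  · -- the centraliser
    intro k hk z hz
    have hkm : k = m := by
      by_contra hne
      have : (tsingle m (ρ * ρ') k).natDegree = 0 := by
        simp only [tsingle, if_neg hne, natDegree_one]
      have hk' : 1 ≤ (tsingle m (ρ * ρ') k).natDegree := hk
      omega
    subst hkm
    obtain ⟨y, y', hyy, hnorm⟩ := exists_cent_hyp hσ hρm hρ hρ'm hm S hS1 hSb hz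
    refine ⟨(Algebra.lmul F (AdjoinRoot (ρ ^ k)) y).prodMap (Algebra.lmul F (AdjoinRoot (ρ' ^ k)) y'),
      fun v w => hBinv y y' hyy v w, ?_, ?_⟩
    · apply LinearMap.ext
      rintro ⟨a, b⟩
      show (y * (AdjoinRoot.root (ρ ^ k) * a), y' * (AdjoinRoot.root (ρ' ^ k) * b)) =
        (AdjoinRoot.root (ρ ^ k) * (y * a), AdjoinRoot.root (ρ' ^ k) * (y' * b))
      rw [mul_left_comm y, mul_left_comm y']
    · rw [LinearMap.det_prodMap, ← hnorm, Algebra.norm_apply, Algebra.norm_apply]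

end Cfsg.Agent.S2481P
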