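import Mathlib
import Cfsg.Agent.Helper14.S2481.Defs
import Cfsg.Agent.Helper14.S2481.DefsM
import Cfsg.Agent.Helper18.S2481TILDE
import Cfsg.Agent.Helper21.S2481RZERO
import Cfsg.Agent.Helper21.S2481RMUL
import Cfsg.Agent.Helper18.S2481BLOCKHYP
import Cfsg.Agent.Helper1.S2481BLOCKSD

set_option autoImplicit false
set_option linter.unusedVariables false

/-! S2481 (driver helper14), piece RIND: every self dual tuple is realised (strong induction). -/

namespace Cfsg.Agent.S2481P

open Polynomial DirectSum Matrix Cfsg.Agent.S2478P Cfsg.Agent.S2479P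

universe u

variable {F : Type u} [Field F] {σ : F →+* F}

namespace RIND

/-- the weight `∑ m * deg (t m)` -/
def wt (r : ℕ) (t : ℕ → F[X]) : ℕ := ∑ m ∈ Finset.range (r + 1), m * (t m).natDegree

/-- self dual tuples with entries `1` off `1..r` -/
structure Good (σ : F →+* F) (r : ℕ) (t : ℕ → F[X]) : Prop where
  monic : ∀ m, (t m).Monic
  c0 : ∀ m, (t m).coeff 0 ≠ 0
  one : ∀ m, (m = 0 ∨ r < m) → t m = 1
  sd : ∀ m, tilde σ (t m) = t m

theorem wt_mul {r : ℕ} {a b : ℕ → F[X]} (ha : ∀ m, (a m).Monic) (hb : ∀ m, (b m).Monic) :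
    wt r (a * b) = wt r a + wt r b := by
  unfold wt
  rw [← Finset.sum_add_distrib]
  apply Finset.sum_congr rfl
  intro m _
  rw [Pi.mul_apply, (ha m).natDegree_mul (hb m), mul_add]

theorem wt_tsingle {r m : ℕ} (hm : m ≤ r) (u : F[X]) : wt r (tsingle m u) = m * u.natDegree := by
  unfold wt
  rw [Finset.sum_eq_single m]
  · simp [tsingle]
  · intro k _ hk
    simp [tsingle, hk]
  · intro h
    exfalso
    exact h (Finset.mem_range.mpr (by omega))

/-- a divisor of a polynomial with nonzero constant term has a nonzero constant term -/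
theorem coeff_zero_ne_of_dvd {a p : F[X]} (hp : p.coeff 0 ≠ 0) (h : a ∣ p) : a.coeff 0 ≠ 0 := by
  obtain ⟨b, rfl⟩ := h
  rw [mul_coeff_zero] at hp
  exact left_ne_zero_of_mul hp

theorem ne_X_of_coeff {a : F[X]} (h : a.coeff 0 ≠ 0) : a ≠ X := by
  rintro rfl
  simp at h

/-- the self dual block split off from a self dual polynomial -/
theorem exists_block [Fintype F] (hσ : IsInvol σ) {p : F[X]} (hpm : p.Monic) (hp0 : p.coeff 0 ≠ 0)
    (hpt : tilde σ p = p) (hp1 : p ≠ 1) {m : ℕ} (hm : 1 ≤ m) :
    ∃ u : F[X], u.Monic ∧ u.coeff 0 ≠ 0 ∧ tilde σ u = u ∧ u ∣ p ∧ 1 ≤ u.natDegree ∧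
      RealA σ (m * u.natDegree) (tsingle m u) := by
  classical
  have hpu : ¬ IsUnit p := fun h => hp1 (hpm.eq_one_of_isUnit h)
  obtain ⟨ρ0, hρ0irr, hρ0dvd⟩ := WfDvdMonoid.exists_irreducible_factor hpu hpm.ne_zero
  have hρ00 : ρ0 ≠ 0 := hρ0irr.ne_zero
  set ρ := normalize ρ0 with hρdef
  have hρm : ρ.Monic := Polynomial.monic_normalize hρ00
  have hρirr : Irreducible ρ := (normalize_associated ρ0).symm.irreducible hρ0irr
  have hρdvd : ρ ∣ p := normalize_dvd_iff.mpr hρ0dvd
  have hρ0 : ρ.coeff 0 ≠ 0 := coeff_zero_ne_of_dvd hp0 hρdvd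
  have hρX : ρ ≠ X := ne_X_of_coeff hρ0
  have hρdeg : 1 ≤ ρ.natDegree := hρirr.natDegree_pos
  by_cases hsd : tilde σ ρ = ρ
  · exact ⟨ρ, hρm, hρ0, hsd, hρdvd, hρdeg, realA_sd hσ hρm hρirr hρX hsd hm⟩
  · have hρ'm : (tilde σ ρ).Monic := tilde_monic σ hρ0
    have hρ'irr : Irreducible (tilde σ ρ) := tilde_irreducible hσ hρm hρ0 hρirr
    have hρ'0 : (tilde σ ρ).coeff 0 ≠ 0 := TILDE.tilde_coeff_zero_ne σ hρ0
    have hρ'dvd : tilde σ ρ ∣ p := by
      obtain ⟨g, hg⟩ := hρdvd
      have hg0 : g.coeff 0 ≠ 0 := by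
        rw [hg, mul_coeff_zero] at hp0
        exact right_ne_zero_of_mul hp0
      refine ⟨tilde σ g, ?_⟩
      rw [← tilde_mul σ hρ0 hg0, ← hg, hpt]
    have hcop : IsCoprime ρ (tilde σ ρ) := by
      rw [hρirr.coprime_iff_not_dvd]
      intro hd
      have hass : Associated ρ (tilde σ ρ) := hρirr.associated_of_dvd hρ'irr hd
      exact hsd (eq_of_monic_of_associated hρm hρ'm hass).symm
    refine ⟨ρ * tilde σ ρ, hρm.mul hρ'm, ?_, ?_, hcop.mul_dvd hρdvd hρ'dvd, ?_,
      realA_hyp hσ hρm hρirr hρX hm⟩
    · rw [mul_coeff_zero]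
      exact mul_ne_zero hρ0 hρ'0
    · rw [tilde_mul σ hρ0 hρ'0, tilde_tilde hσ hρm hρ0, mul_comm]
    · rw [hρm.natDegree_mul hρ'm]
      omega

theorem main [Fintype F] (hσ : IsInvol σ) :
    ∀ (N r : ℕ) (t : ℕ → F[X]), Good σ r t → wt r t = N → RealA σ N t := by
  intro N
  induction N using Nat.strong_induction_on with
  | _ N ih =>
    intro r t hG hw
    by_cases hall : ∀ m, t m = 1
    · have ht1 : t = fun _ => 1 := funext hall
      subst ht1
      have hN : N = 0 := by
        rw [← hw]
        unfold wt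
        simp
      subst hN
      exact realA_zero σ
    · push Not at hall
      obtain ⟨m, hm⟩ := hall
      have hm1 : 1 ≤ m ∧ m ≤ r := by
        by_contra h
        apply hm
        apply hG.one
        omega
      obtain ⟨u, hum, hu0, husd, ⟨h, hh⟩, hudeg, hureal⟩ :=
        exists_block hσ (hG.monic m) (hG.c0 m) (hG.sd m) hm hm1.1
      have hhm : h.Monic := hum.of_mul_monic_left (hh ▸ hG.monic m)
      have hh0 : h.coeff 0 ≠ 0 := by
        have := hG.c0 m
        rw [hh, mul_coeff_zero] at this
        exact right_ne_zero_of_mul this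
      have hhsd : tilde σ h = h := tilde_of_mul_eq σ (hG.c0 m) hh (hG.sd m) husd
      have ht : t = tsingle m u * Function.update t m h := by
        funext k
        rw [Pi.mul_apply]
        by_cases hk : k = m
        · subst hk
          rw [Function.update_self]
          simp only [tsingle, if_true]
          exact hh
        · rw [Function.update_of_ne hk]
          simp only [tsingle, if_neg hk, one_mul]
      have hG' : Good σ r (Function.update t m h) := by
        refine ⟨fun k => ?_, fun k => ?_, fun k hk => ?_, fun k => ?_⟩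
        · by_cases hk : k = m
          · subst hk; rw [Function.update_self]; exact hhm
          · rw [Function.update_of_ne hk]; exact hG.monic k
        · by_cases hk : k = m
          · subst hk; rw [Function.update_self]; exact hh0
          · rw [Function.update_of_ne hk]; exact hG.c0 k
        · have hkm : k ≠ m := by omega
          rw [Function.update_of_ne hkm]
          exact hG.one k hk
        · by_cases hk : k = m
          · subst hk; rw [Function.update_self]; exact hhsd
          · rw [Function.update_of_ne hk]; exact hG.sd k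
      have hts : ∀ k, (tsingle m u k).Monic := by
        intro k
        by_cases hk : k = m
        · simp only [tsingle, if_pos hk]; exact hum
        · simp only [tsingle, if_neg hk]; exact monic_one
      have hw' : wt r t = m * u.natDegree + wt r (Function.update t m h) := by
        conv_lhs => rw [ht]
        rw [wt_mul hts hG'.monic, wt_tsingle hm1.2]
      have hlt : wt r (Function.update t m h) < N := by
        have : 1 ≤ m * u.natDegree := Nat.mul_pos hm1.1 hudeg
        omega
      have h1 := ih _ hlt r _ hG' rfl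
      have h2 := RealA.mul hureal h1
      rw [← ht] at h2
      have hN : m * u.natDegree + wt r (Function.update t m h) = N := by omega
      rw [hN] at h2
      exact h2

end RIND

-- piece RIND (strong induction on `n`; uses RZERO, RMUL, BLOCKSD, BLOCKHYP, TILDE: split off
-- `tsingle m ρ` (`tilde σ ρ = ρ`) or `tsingle m (ρ * tilde σ ρ)` for a monic irreducible factor `ρ` of `t m`)
theorem realA_of_mem_TU [Fintype F] (hσ : IsInvol σ) (n : ℕ) {t : ℕ → F[X]} (ht : t ∈ TU σ n n) :
    RealA σ n t := by
  obtain ⟨⟨h1, h2, h3⟩, h4⟩ := ht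
  exact RIND.main hσ n n t ⟨fun m => (h1 m).1, fun m => (h1 m).2, h2, h4⟩ h3

end Cfsg.Agent.S2481P
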