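import Cfsg.Agent.Helper28.S2510Defs

/-! S2510 piece CHARP. -/

set_option autoImplicit false

namespace Cfsg.Agent.S2510P

open Polynomial

variable {F : Type*} [Field F] [Fintype F] {n : ℕ} {p : ℕ}

local notation "q" => Fintype.card F

/-- CHARP (S). -/
theorem charP_of_card (hp : p.Prime) (a : ℕ) (hF : Fintype.card F = p ^ a) : CharP F p := by
  obtain ⟨p', hp'⟩ := CharP.exists F
  obtain ⟨m, hp'prime, hcard⟩ := FiniteField.card F p'
  have h1 : p' ∣ p ^ a := by
    rw [← hF, hcard]
    exact dvd_pow_self p' m.ne_zero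
  have h2 : p' = p := (Nat.prime_dvd_prime_iff_eq hp'prime hp).mp (hp'prime.dvd_of_dvd_pow h1)
  rw [← h2]
  exact hp'

end Cfsg.Agent.S2510P
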