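import Cfsg.Agent.Helper28.S2510Defs

/-! S2510 piece UFD. -/

set_option autoImplicit false

namespace Cfsg.Agent.S2510P

open Polynomial

/-- UFD (S–M): a monic polynomial `≠ 1` over a field is a power of an irreducible or a product of two
coprime non-units (`UniqueFactorizationMonoid.induction_on_coprime`). -/
theorem prime_pow_or_coprime {K : Type*} [Field K] (μ : K[X]) (hμ : μ.Monic) (h1 : μ ≠ 1) :
    (∃ (f : K[X]) (e : ℕ), f.Monic ∧ Irreducible f ∧ 1 ≤ e ∧ μ = f ^ e) ∨
    (∃ g h : K[X], ¬ IsUnit g ∧ ¬ IsUnit h ∧ IsCoprime g h ∧ μ = g * h) := by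
  classical
  have hμ0 : μ ≠ 0 := hμ.ne_zero
  have hμu : ¬ IsUnit μ := fun h => h1 (hμ.eq_one_of_isUnit h)
  obtain ⟨f0, hf0irr, hf0dvd⟩ := WfDvdMonoid.exists_irreducible_factor hμu hμ0
  have hf00 : f0 ≠ 0 := hf0irr.ne_zero
  set f := normalize f0 with hf
  have hfm : f.Monic := Polynomial.monic_normalize hf00
  have hfirr : Irreducible f := (normalize_associated f0).symm.irreducible hf0irr
  have hfdvd : f ∣ μ := normalize_dvd_iff.mpr hf0dvd
  have hfin : FiniteMultiplicity f μ := FiniteMultiplicity.of_not_isUnit hfirr.not_isUnit hμ0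
  obtain ⟨g, hg, hng⟩ := hfin.exists_eq_pow_mul_and_not_dvd
  set e := multiplicity f μ with he
  have he1 : 1 ≤ e := by
    rcases Nat.eq_zero_or_pos e with h0 | h0
    · exfalso
      rw [h0, pow_zero, one_mul] at hg
      exact hng (hg ▸ hfdvd)
    · exact h0
  by_cases hgu : IsUnit g
  · left
    refine ⟨f, e, hfm, hfirr, he1, ?_⟩
    obtain ⟨c, hc, rfl⟩ := Polynomial.isUnit_iff.mp hgu
    have hlc := congrArg Polynomial.leadingCoeff hg
    rw [hμ.leadingCoeff, Polynomial.leadingCoeff_mul, (hfm.pow e).leadingCoeff, one_mul,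
      Polynomial.leadingCoeff_C] at hlc
    rw [hg, ← hlc, Polynomial.C_1, mul_one]
  · right
    refine ⟨f ^ e, g, ?_, hgu, ?_, hg⟩
    · intro hu
      exact hfirr.not_isUnit (isUnit_of_dvd_unit (dvd_pow_self f (by omega)) hu)
    · exact ((hfirr.coprime_iff_not_dvd).mpr hng).pow_left

end Cfsg.Agent.S2510P
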