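import Mathlib
import Cfsg.Prelude.Def_Classical
import Cfsg.Agent.Helper13.S2511Defs
import Cfsg.Agent.Helper23.S2263UPFACTS

/-! S2511 piece ARITHWQ (helper18): `wq q (s m) = wq q s * R` with `R ≡ ± m (mod q + 1)`. -/

set_option autoImplicit false

namespace Cfsg.Agent.S2511P

open Cfsg.Agent.S2263P

namespace ARITHWQ

/-- `(q + 1) wq q t = q^t - (-1)^t` in `ℤ` -/
theorem wq_int {q : ℕ} (hq : 2 ≤ q) (t : ℕ) :
    ((q : ℤ) + 1) * (wq q t : ℤ) = (q : ℤ) ^ t - (-1) ^ t := by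
  have h := wq_mul hq t
  have hqt : 1 ≤ q ^ t := Nat.one_le_pow _ _ (by omega)
  by_cases ht : Even t
  · rw [if_pos ht] at h
    rw [ht.neg_one_pow]
    have h2 : (((q + 1) * wq q t : ℕ) : ℤ) = ((q ^ t - 1 : ℕ) : ℤ) := by rw [h]
    rw [Nat.cast_sub hqt] at h2
    push_cast at h2
    exact h2
  · rw [if_neg ht] at h
    rw [(Nat.not_even_iff_odd.mp ht).neg_one_pow]
    have h2 : (((q + 1) * wq q t : ℕ) : ℤ) = ((q ^ t + 1 : ℕ) : ℤ) := by rw [h]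
    push_cast at h2
    rw [h2]
    ring

/-- the cofactor, in `ℤ` -/
def G (q s m : ℕ) : ℤ :=
  ∑ i ∈ Finset.range m, ((q : ℤ) ^ s) ^ i * ((-1 : ℤ) ^ s) ^ (m - 1 - i)

theorem wq_eq_G {q : ℕ} (hq : 2 ≤ q) (s m : ℕ) :
    (wq q (s * m) : ℤ) = G q s m * (wq q s : ℤ) := by
  have h1 := wq_int hq (s * m)
  have h2 := wq_int hq s
  have h3 : G q s m * ((q : ℤ) ^ s - (-1) ^ s) = ((q : ℤ) ^ s) ^ m - ((-1 : ℤ) ^ s) ^ m := by
    unfold G
    exact geom_sum₂_mul _ _ _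
  rw [← pow_mul, ← pow_mul, ← h1, ← h2] at h3
  have hq1 : ((q : ℤ) + 1) ≠ 0 := by positivity
  apply mul_left_cancel₀ hq1
  rw [← h3]
  ring

theorem G_pos {q : ℕ} (hq : 2 ≤ q) (s m : ℕ) (hs : 1 ≤ s) (hm : 1 ≤ m) : 0 < G q s m := by
  have h := wq_eq_G hq s m
  have h1 : 1 ≤ wq q (s * m) := wq_pos hq (Nat.mul_pos (by omega) (by omega))
  have h2 : 1 ≤ wq q s := wq_pos hq hs
  have h1' : (0 : ℤ) < (wq q (s * m) : ℤ) := by exact_mod_cast h1
  have h2' : (0 : ℤ) < (wq q s : ℤ) := by exact_mod_cast h2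
  rw [h] at h1'
  by_contra hcon
  have hle : G q s m ≤ 0 := not_lt.mp hcon
  have := mul_nonpos_of_nonpos_of_nonneg hle h2'.le
  linarith

theorem G_zmod (q s m : ℕ) (hm : 1 ≤ m) :
    ((G q s m : ℤ) : ZMod (q + 1)) = (m : ZMod (q + 1)) * ((-1) ^ s) ^ (m - 1) := by
  have hq : ((q : ℕ) : ZMod (q + 1)) = -1 := by
    have h : ((q + 1 : ℕ) : ZMod (q + 1)) = 0 := ZMod.natCast_self (q + 1)
    push_cast at h
    exact eq_neg_of_add_eq_zero_left h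
  unfold G
  push_cast
  rw [hq]
  have h1 : ∀ i ∈ Finset.range m,
      (((-1 : ZMod (q + 1)) ^ s) ^ i * ((-1) ^ s) ^ (m - 1 - i)) = ((-1) ^ s) ^ (m - 1) := by
    intro i hi
    rw [Finset.mem_range] at hi
    rw [← pow_add]
    congr 1
    omega
  rw [Finset.sum_congr rfl h1, Finset.sum_const, Finset.card_range, nsmul_eq_mul]

end ARITHWQ

/-- ARITHWQ (M): `q^(s m) - ε^m = (q^s - ε) Σ_{i<m} q^(s(m-1-i)) ε^i`, `ε = (-1)^s`; mod `q + 1`: `q ≡ -1`. -/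
theorem wq_mul_right {q : ℕ} (hq : 2 ≤ q) (s m : ℕ) (hs : 1 ≤ s) (hm : 1 ≤ m) :
    ∃ R : ℕ, wq q (s * m) = wq q s * R ∧
      (R % (q + 1) = m % (q + 1) ∨ (R + m) % (q + 1) = 0) := by
  have hpos := ARITHWQ.G_pos hq s m hs hm
  have hR : ((ARITHWQ.G q s m).toNat : ℤ) = ARITHWQ.G q s m := Int.toNat_of_nonneg hpos.le
  refine ⟨(ARITHWQ.G q s m).toNat, ?_, ?_⟩
  · have h := ARITHWQ.wq_eq_G hq s m
    rw [← hR] at h
    have h' : (wq q (s * m) : ℤ) = ((wq q s * (ARITHWQ.G q s m).toNat : ℕ) : ℤ) := by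
      rw [h]; push_cast; ring
    exact_mod_cast h'
  · have hz := ARITHWQ.G_zmod q s m hm
    rw [← hR] at hz
    have hz' : (((ARITHWQ.G q s m).toNat : ℕ) : ZMod (q + 1)) =
        (m : ZMod (q + 1)) * ((-1) ^ s) ^ (m - 1) := by
      rw [← hz]; push_cast; rfl
    rw [← pow_mul] at hz'
    rcases neg_one_pow_eq_or (ZMod (q + 1)) (s * (m - 1)) with h1 | h1
    · left
      rw [h1, mul_one] at hz'
      exact (ZMod.natCast_eq_natCast_iff' _ _ _).mp hz'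
    · right
      rw [h1, mul_neg_one] at hz'
      have h0 : (((ARITHWQ.G q s m).toNat + m : ℕ) : ZMod (q + 1)) = 0 := by
        push_cast
        rw [hz']
        ring
      exact Nat.mod_eq_zero_of_dvd ((ZMod.natCast_eq_zero_iff _ _).mp h0)

end Cfsg.Agent.S2511P
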