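import Mathlib
import Cfsg.Prelude.Def_Classical
import Cfsg.Agent.Helper13.S2511Defs
import Cfsg.Agent.Helper29.S2264Defs

/-! S2511 piece CHARINV (helper18): the characteristic polynomial of `A⁻¹` is the normalized
reciprocal of the characteristic polynomial of `A`. -/

set_option autoImplicit false

namespace Cfsg.Agent.S2511P

open Polynomial Matrix
open Cfsg.Agent.S2263P Cfsg.Agent.S2264P

namespace CHARINV

theorem charmatrix_inv_mul {K : Type*} [Field K] {n : ℕ} (A : Matrix (Fin n) (Fin n) K)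
    (hA : IsUnit A.det) :
    charmatrix A⁻¹ * (C : K →+* K[X]).mapMatrix A = -(1 - (X : K[X]) • A.map C) := by
  have h1 : (C : K →+* K[X]).mapMatrix A⁻¹ * (C : K →+* K[X]).mapMatrix A = 1 := by
    rw [← map_mul, Matrix.nonsing_inv_mul A hA, map_one]
  unfold charmatrix
  rw [sub_mul, h1]
  have h2 : (Matrix.scalar (Fin n)) (X : K[X]) * (C : K →+* K[X]).mapMatrix A
      = (X : K[X]) • A.map C := by
    ext i j
    simp [Matrix.scalar_apply, Matrix.diagonal_mul, Matrix.smul_apply]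
  rw [h2]
  abel

theorem key {K : Type*} [Field K] {n : ℕ} (A : Matrix (Fin n) (Fin n) K)
    (hA : IsUnit A.det) :
    A⁻¹.charpoly * C A.det = (-1) ^ n * A.charpoly.reverse := by
  have h := congrArg Matrix.det (charmatrix_inv_mul A hA)
  rw [Matrix.det_mul, Matrix.det_neg, Fintype.card_fin, ← RingHom.map_det] at h
  rw [Matrix.reverse_charpoly]
  exact h

end CHARINV

/-- CHARINV (M): `det (X - A⁻¹) = det A⁻¹ * det (X A - 1)`; `Matrix.reverse_charpoly`, `Matrix.charpolyRev`,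
`Matrix.det_eq_sign_charpoly_coeff`. -/
theorem charpoly_inv {K : Type*} [Field K] {n : ℕ} (A : Matrix (Fin n) (Fin n) K)
    (hA : IsUnit A.det) : A⁻¹.charpoly = recip A.charpoly := by
  have hk := CHARINV.key A hA
  have hd : A.det ≠ 0 := hA.ne_zero
  have hdet := Matrix.det_eq_sign_charpoly_coeff A
  rw [Fintype.card_fin] at hdet
  have hc0 : A.charpoly.coeff 0 ≠ 0 := by
    intro h0
    rw [h0, mul_zero] at hdet
    exact hd hdet
  have hs : ((-1 : K) ^ n) * ((-1 : K) ^ n) = 1 := by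
    rw [← mul_pow]; norm_num
  unfold recip
  have h1 : A⁻¹.charpoly = A⁻¹.charpoly * C A.det * C (A.det)⁻¹ := by
    rw [mul_assoc, ← C_mul, mul_inv_cancel₀ hd, C_1, mul_one]
  rw [h1, hk]
  have h2 : (A.det)⁻¹ = (-1 : K) ^ n * (A.charpoly.coeff 0)⁻¹ := by
    rw [hdet, mul_inv]
    congr 1
    exact inv_eq_of_mul_eq_one_left hs
  rw [h2, C_mul, C_pow, C_neg, C_1]
  have h3 : ((-1 : K[X]) ^ n) * ((-1 : K[X]) ^ n) = 1 := by
    rw [← mul_pow]; norm_num
  calc (-1 : K[X]) ^ n * A.charpoly.reverse * ((-1) ^ n * C (A.charpoly.coeff 0)⁻¹)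
      = ((-1 : K[X]) ^ n * (-1) ^ n) * (C (A.charpoly.coeff 0)⁻¹ * A.charpoly.reverse) := by ring
    _ = C (A.charpoly.coeff 0)⁻¹ * A.charpoly.reverse := by rw [h3, one_mul]

end Cfsg.Agent.S2511P
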