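import Mathlib
import Cfsg.Prelude.Def_Classical
import Cfsg.Agent.Helper28.S2512Defs

/-! S2512 piece BANTI (helper18): the antidiagonal alternating form on `F^(2c)` is symplectic. -/

set_option autoImplicit false

universe u

namespace Cfsg.Agent.S2512P

open Polynomial Matrix
open Cfsg.Agent.S2264P

namespace BANTI

theorem neg_one_pow_rev {F : Type*} [Field F] (c : ℕ) (j : Fin (2 * c)) :
    (-1 : F) ^ ((Fin.rev j : Fin (2 * c)) : ℕ) = -(-1) ^ (j : ℕ) := by
  rw [Fin.val_rev]
  have hj : (j : ℕ) < 2 * c := j.2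
  rcases Nat.even_or_odd (j : ℕ) with he | ho
  · have ho' : Odd (2 * c - ((j : ℕ) + 1)) := by
      obtain ⟨m, hm⟩ := he
      exact ⟨c - m - 1, by omega⟩
    rw [he.neg_one_pow, ho'.neg_one_pow]
  · have he' : Even (2 * c - ((j : ℕ) + 1)) := by
      obtain ⟨m, hm⟩ := ho
      exact ⟨c - m - 1, by omega⟩
    rw [ho.neg_one_pow, he'.neg_one_pow, neg_neg]

end BANTI

/-- BANTI (M): skew: reindex the sum by `Fin.rev` (`(-1)^(2c-1-i) = -(-1)^i`); nondegenerate: test against
`Pi.single (Fin.rev i) 1`. -/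
theorem isSymp_Banti {F : Type*} [Field F] (c : ℕ) : IsSymp (Banti F (2 * c)) := by
  refine ⟨?_, ?_, ?_, ?_⟩
  · intro u u' v
    rw [Banti_apply, Banti_apply, Banti_apply, ← Finset.sum_add_distrib]
    refine Finset.sum_congr rfl (fun i _ => ?_)
    rw [Pi.add_apply]
    ring
  · intro a u v
    rw [Banti_apply, Banti_apply, Finset.mul_sum]
    refine Finset.sum_congr rfl (fun i _ => ?_)
    rw [Pi.smul_apply, smul_eq_mul]
    ring
  · intro u v
    rw [Banti_apply, Banti_apply, ← Finset.sum_neg_distrib, ← Equiv.sum_comp Fin.revPerm]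
    refine Finset.sum_congr rfl (fun j _ => ?_)
    rw [Fin.revPerm_apply, Fin.rev_rev, BANTI.neg_one_pow_rev]
    ring
  · intro u hu
    funext k
    have h := hu (Pi.single (Fin.rev k) 1)
    rw [Banti_apply] at h
    rw [Finset.sum_eq_single k] at h
    · rw [Pi.single_eq_same, mul_one] at h
      rcases mul_eq_zero.mp h with h1 | h1
      · exfalso
        exact pow_ne_zero _ (neg_ne_zero.mpr one_ne_zero) h1
      · exact h1
    · intro j _ hjk
      have hne : Fin.rev j ≠ Fin.rev k := fun h => hjk (Fin.rev_injective h)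
      rw [Pi.single_eq_of_ne hne, mul_zero]
    · intro hk
      exact absurd (Finset.mem_univ k) hk

end Cfsg.Agent.S2512P
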