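import Mathlib
import Cfsg.Prelude.Def_Classical
import Cfsg.Agent.Helper28.S2512Defs

/-! S2512 piece GENORD (helper18): an element of a finite field of prescribed multiplicative order. -/

set_option autoImplicit false

universe u

namespace Cfsg.Agent.S2512P

open Polynomial Matrix
open Cfsg.Agent.S2264P

namespace GENORD

theorem exists_unit_orderOf {K : Type*} [Field K] [Fintype K] (M : ℕ)
    (hM : M ∣ Fintype.card K - 1) : ∃ s : Kˣ, orderOf s = M := by
  classical
  obtain ⟨g, hg⟩ := IsCyclic.exists_generator (α := Kˣ)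
  have hord : orderOf g = Fintype.card K - 1 := by
    rw [orderOf_eq_card_of_forall_mem_zpowers hg, Nat.card_eq_fintype_card, Fintype.card_units]
  have hN : 1 ≤ Fintype.card K - 1 := by
    have := Fintype.one_lt_card (α := K)
    omega
  obtain ⟨e, he⟩ := hM
  have he0 : e ≠ 0 := by
    rintro rfl
    rw [mul_zero] at he
    omega
  refine ⟨g ^ e, ?_⟩
  rw [orderOf_pow' g he0, hord, he, Nat.gcd_mul_left_left, Nat.mul_div_cancel _ (Nat.pos_of_ne_zero he0)]

end GENORD

/-- GENORD (S-M): `Kˣ` is cyclic of order `card K - 1`; `s` of order `M`; `s ^ j = -1 ↔ (s ^ j) ^ 2 = 1 ∧ s ^ j ≠ 1`. -/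
theorem exists_pow_eq_one_iff {K : Type*} [Field K] [Fintype K] (h2 : (2 : K) ≠ 0) (M : ℕ)
    (hM : M ∣ Fintype.card K - 1) :
    ∃ s : K, s ≠ 0 ∧ (∀ j : ℕ, s ^ j = 1 ↔ M ∣ j) ∧
      (∀ j : ℕ, s ^ j = -1 ↔ (M ∣ 2 * j ∧ ¬ M ∣ j)) := by
  obtain ⟨s, hs⟩ := GENORD.exists_unit_orderOf (K := K) M hM
  have h1 : ∀ j : ℕ, (s : K) ^ j = 1 ↔ M ∣ j := by
    intro j
    rw [← hs, orderOf_dvd_iff_pow_eq_one, ← Units.val_pow_eq_pow_val, Units.val_eq_one]
  have hne : (-1 : K) ≠ 1 := by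
    intro h
    apply h2
    have : (2 : K) = 1 - (-1) := by ring
    rw [this, h, sub_self]
  refine ⟨(s : K), s.ne_zero, h1, ?_⟩
  intro j
  constructor
  · intro h
    refine ⟨?_, ?_⟩
    · rw [← h1, mul_comm, pow_mul, h]
      ring
    · rw [← h1, h]
      exact hne
  · rintro ⟨ha, hb⟩
    rw [← h1, mul_comm, pow_mul, sq] at ha
    rw [← h1] at hb
    rcases mul_self_eq_one_iff.mp ha with h | h
    · exact absurd h hb
    · exact h

end Cfsg.Agent.S2512P
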