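import Mathlib
import Cfsg.Prelude.Def_Classical
import Cfsg.Agent.Helper28.S2512Defs
import Cfsg.Agent.Helper18.S2512GENORD

/-! S2512 piece ZETA (helper18): `ζ ≠ 0` with `ζ ^ Q = -ζ` in a field with `Q ^ 2` elements, `Q` odd. -/

set_option autoImplicit false

universe u

namespace Cfsg.Agent.S2512P

open Polynomial Matrix
open Cfsg.Agent.S2264P

/-- ZETA (S-M): `g` a generator of `Kˣ` (order `Q ^ 2 - 1`), `ζ := g ^ ((Q + 1) / 2)`: `ζ ^ (Q - 1) = g ^ ((Q^2 - 1) / 2) = -1`. -/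
theorem exists_zeta {K : Type*} [Field K] [Fintype K] (Q : ℕ) (hK : Fintype.card K = Q ^ 2)
    (hQ : Odd Q) : ∃ ζ : K, ζ ≠ 0 ∧ ζ ^ Q = -ζ := by
  obtain ⟨k, hk⟩ := hQ
  have h2 : (2 : K) ≠ 0 := by
    intro h
    have hc : ((Fintype.card K : ℕ) : K) = 0 := Nat.cast_card_eq_zero K
    have hodd : Q ^ 2 = 2 * (2 * k ^ 2 + 2 * k) + 1 := by rw [hk]; ring
    rw [hK, hodd] at hc
    push_cast at hc
    rw [h, zero_mul, zero_add] at hc
    exact one_ne_zero hc
  have hk1 : 1 ≤ k := by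
    rcases Nat.eq_zero_or_pos k with h0 | h0
    · exfalso
      rw [h0] at hk
      have : Q = 1 := by omega
      rw [this] at hK
      have := Fintype.one_lt_card (α := K)
      omega
    · exact h0
  have hM : 2 * (Q - 1) ∣ Fintype.card K - 1 := by
    rw [hK, hk]
    have h1 : (2 * k + 1) ^ 2 - 1 = 2 * (2 * k + 1 - 1) * (k + 1) := by
      have : 2 * k + 1 - 1 = 2 * k := by omega
      rw [this]
      have h3 : (2 * k + 1) ^ 2 = 2 * (2 * k) * (k + 1) + 1 := by ring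
      rw [h3]
      omega
    rw [h1]
    exact Dvd.intro _ rfl
  obtain ⟨s, hs0, -, hs⟩ := exists_pow_eq_one_iff h2 (2 * (Q - 1)) hM
  refine ⟨s, hs0, ?_⟩
  have h3 : s ^ (Q - 1) = -1 := by
    rw [hs]
    refine ⟨dvd_refl _, ?_⟩
    intro hd
    have := Nat.le_of_dvd (by omega) hd
    omega
  have hQ1 : Q = (Q - 1) + 1 := by omega
  rw [hQ1, pow_succ, h3]
  ring

end Cfsg.Agent.S2512P
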