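import Mathlib
import Cfsg.Agent.Helper4.S2522.Defs

/-! S2522 piece DETCOMP (helper18): the compression has the same determinant as `g`. -/

set_option autoImplicit false

namespace Cfsg.Agent.S2522P

open Module

namespace DETCOMP
variable {K : Type*} [Field K] {V : Type*} [AddCommGroup V] [Module K V]

/-- the projection `v ↦ v - φ v • e` onto `ker φ` -/
def projW (e : V) (φ : Module.Dual K V) (h1 : φ e = 1) : V →ₗ[K] LinearMap.ker φ :=
  LinearMap.codRestrict (LinearMap.ker φ) (LinearMap.id - φ.smulRight e) (by
    intro v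
    rw [LinearMap.mem_ker, LinearMap.sub_apply, LinearMap.id_apply, LinearMap.smulRight_apply,
      map_sub, map_smul, h1, smul_eq_mul, mul_one, sub_self])

theorem projW_coe (e : V) (φ : Module.Dual K V) (h1 : φ e = 1) (v : V) :
    ((projW e φ h1 v : LinearMap.ker φ) : V) = v - φ v • e := rfl

/-- `V ≃ K × ker φ` -/
def isoE (e : V) (φ : Module.Dual K V) (h1 : φ e = 1) : V ≃ₗ[K] K × LinearMap.ker φ :=
  LinearEquiv.ofLinearMap (LinearMap.prod φ (projW e φ h1))
    (LinearMap.coprod (LinearMap.toSpanSingleton K V e) (LinearMap.ker φ).subtype)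
    (by
      apply LinearMap.ext
      rintro ⟨a, w⟩
      have hw : φ (w : V) = 0 := w.2
      apply Prod.ext
      · simp [LinearMap.toSpanSingleton_apply, h1, hw]
      · apply Subtype.ext
        simp [LinearMap.toSpanSingleton_apply, projW_coe, h1, hw])
    (by
      apply LinearMap.ext
      intro v
      simp [LinearMap.toSpanSingleton_apply, projW_coe])

theorem isoE_apply (e : V) (φ : Module.Dual K V) (h1 : φ e = 1) (v : V) :
    isoE e φ h1 v = (φ v, projW e φ h1 v) := rfl

theorem isoE_symm_apply (e : V) (φ : Module.Dual K V) (h1 : φ e = 1) (x : K × LinearMap.ker φ) :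
    (isoE e φ h1).symm x = x.1 • e + (x.2 : V) := by
  rfl

theorem det_comp [FiniteDimensional K V] (g : Module.End K V) (e : V) (φ : Module.Dual K V)
    (h1 : φ e = 1) (h : φ (g e) = 1) : LinearMap.det (comp g e φ h) = LinearMap.det g := by
  set E := isoE e φ h1 with hE
  set A' := comp g e φ h with hA'
  set ξ := xiv g φ with hξ
  set y := yv g e φ h1 h with hy
  let T : Module.End K (K × LinearMap.ker φ) :=
    LinearMap.transvection (ξ ∘ₗ LinearMap.snd K K (LinearMap.ker φ)) ((1 : K), (0 : LinearMap.ker φ))
  let S : Module.End K (K × LinearMap.ker φ) :=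
    LinearMap.transvection (LinearMap.fst K K (LinearMap.ker φ)) ((0 : K), y)
  let P : Module.End K (K × LinearMap.ker φ) := LinearMap.prodMap (LinearMap.id : K →ₗ[K] K) A'
  have hT : LinearMap.det T = 1 := by
    rw [LinearMap.transvection.det]
    simp
  have hS : LinearMap.det S = 1 := by
    rw [LinearMap.transvection.det]
    simp
  have hP : LinearMap.det P = LinearMap.det A' := by
    show LinearMap.det (LinearMap.prodMap (LinearMap.id : K →ₗ[K] K) A') = _
    rw [LinearMap.det_prodMap, LinearMap.det_id, one_mul]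
  have hconj : (E : V →ₗ[K] K × LinearMap.ker φ) ∘ₗ g ∘ₗ (E.symm : K × LinearMap.ker φ →ₗ[K] V) =
      S * (P * T) := by
    apply LinearMap.ext
    rintro ⟨a, w⟩
    have hw : φ (w : V) = 0 := w.2
    simp only [LinearMap.coe_comp, LinearEquiv.coe_coe, Function.comp_apply, Module.End.mul_apply]
    rw [hE, isoE_symm_apply, isoE_apply]
    simp only [T, S, P, LinearMap.transvection.apply, LinearMap.coe_comp, LinearMap.snd_apply,
      LinearMap.fst_apply, Function.comp_apply, LinearMap.prodMap_apply, LinearMap.id_apply,
      Prod.smul_mk, Prod.mk_add_mk, smul_eq_mul, mul_one, smul_zero, add_zero, mul_zero,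
      map_add, map_smul, h]
    apply Prod.ext
    · simp [hξ]
    · apply Subtype.ext
      simp only [projW_coe, Submodule.coe_add, Submodule.coe_smul, hA', comp_coe, hy, yv_coe,
        h, hξ, xiv_apply]
      module
  rw [← LinearMap.det_conj g E, hconj, map_mul, map_mul, hS, hT, hP, one_mul, mul_one]

end DETCOMP

end Cfsg.Agent.S2522P
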