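import Mathlib
import Cfsg.Agent.Helper4.S2522.Defs

/-! S2522 piece N1K1 (helper18): the compression is not a scalar when `dim ker (g - 1) ≥ 2` and
`rank (comp - 1) ≥ 2`. -/

set_option autoImplicit false

namespace Cfsg.Agent.S2522P

open Module

namespace N1K1
variable {K : Type*} [Field K] {V : Type*} [AddCommGroup V] [Module K V]

/-- own copy of SCALAREQ -/
theorem scalar_eq (g : Module.End K V) (e : V) (φ : Module.Dual K V) (h1 : φ e = 1)
    (h : φ (g e) = 1) (c : K) (hc : comp g e φ h = c • (1 : Module.End K (LinearMap.ker φ))) (v : V) :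
    g v - c • v = φ (g v) • g e - (c * φ v) • e := by
  have hp : v - φ v • e ∈ LinearMap.ker φ := by
    rw [LinearMap.mem_ker, map_sub, map_smul, h1, smul_eq_mul, mul_one, sub_self]
  have h2 := congrArg (fun f : Module.End K (LinearMap.ker φ) =>
    ((f ⟨v - φ v • e, hp⟩ : LinearMap.ker φ) : V)) hc
  simp only [comp_coe, LinearMap.smul_apply, Module.End.one_apply, Submodule.coe_smul] at h2
  rw [map_sub, map_smul, map_sub, map_smul, h, smul_eq_mul, mul_one] at h2
  have h3 : g v - c • v = (g v - φ v • g e - (φ (g v) - φ v) • g e) + φ (g v) • g e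
      - c • v := by
    rw [sub_smul]; abel
  rw [h3, h2, smul_sub, smul_smul]
  abel

theorem not_scalar_of_ker [FiniteDimensional K V] (g : Module.End K V) (e : V)
    (φ : Module.Dual K V) (h1 : φ e = 1) (h : φ (g e) = 1)
    (hK1 : 2 ≤ Module.finrank K (LinearMap.ker (g - 1)))
    (hN2 : 2 ≤ Module.finrank K (LinearMap.range (comp g e φ h - 1))) :
    ¬ ∃ c : K, comp g e φ h = c • (1 : Module.End K (LinearMap.ker φ)) := by
  rintro ⟨c, hc⟩
  by_cases hc1 : c = 1
  · rw [hc1, one_smul] at hc
    rw [hc, sub_self, LinearMap.range_zero, finrank_bot] at hN2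
    omega
  · have hle : LinearMap.ker (g - 1) ≤ Submodule.span K {g e - c • e} := by
      intro k hk
      rw [LinearMap.mem_ker, LinearMap.sub_apply, Module.End.one_apply, sub_eq_zero] at hk
      have h2 := scalar_eq g e φ h1 h c hc k
      rw [hk] at h2
      have h1c : (1 - c) ≠ 0 := sub_ne_zero.mpr (Ne.symm hc1)
      have h3 : k = ((1 - c)⁻¹ * φ k) • (g e - c • e) := by
        have h4 : (1 - c) • k = φ k • (g e - c • e) := by
          rw [sub_smul, one_smul, h2, smul_sub, smul_smul, mul_comm]
        rw [mul_smul, ← h4, smul_smul, inv_mul_cancel₀ h1c, one_smul]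
      rw [h3]
      exact Submodule.smul_mem _ _ (Submodule.mem_span_singleton_self _)
    have hfin := Submodule.finrank_mono hle
    have h5 : Module.finrank K (Submodule.span K {g e - c • e}) ≤ 1 := by
      have := finrank_span_le_card (R := K) ({g e - c • e} : Set V)
      simpa using this
    omega

end N1K1

end Cfsg.Agent.S2522P
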