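import Mathlib
import Cfsg.Prelude.Def_Classical
import Cfsg.Agent.Helper8.MatBNDefs
import Cfsg.Agent.Helper8.S2546Defs
import Cfsg.Agent.Helper21.S2549Defs
import Cfsg.Agent.Helper18.S2549PRESJ

set_option autoImplicit false
open scoped Matrix

/-! S2549 piece DIAG (helper18): the diagonal part of a triangular rational isometry. -/

namespace Cfsg.Agent.S2549P

open Cfsg.Agent.MatBN

variable {K : Type*} [Field K]

theorem pres_diag (σ : K →+* K) (m : ℕ) (M : Matrix (Fin (2 * m + 2)) (Fin (2 * m + 2)) K)
    (hP : PresQ (2 * m + 2) M) (hR : Rat σ m M) (hT : IsTri M) :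
    PresQ (2 * m + 2) (Matrix.diagonal fun i => M i i) ∧ Rat σ m (Matrix.diagonal fun i => M i i) := by
  constructor
  · intro x
    unfold QJ
    apply Finset.sum_congr rfl
    intro i _
    split_ifs
    · rw [Matrix.mulVec_diagonal, Matrix.mulVec_diagonal]
      have h1 := presQ_diag m M hP hT i
      calc M i i * x i * (M i.rev i.rev * x i.rev)
          = (M i i * M i.rev i.rev) * (x i * x i.rev) := by ring
        _ = x i * x i.rev := by rw [h1, one_mul]
    · rfl
  · intro a c
    by_cases hac : a = c
    · subst hac
      rw [Matrix.diagonal_apply_eq, Matrix.diagonal_apply_eq]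
      exact hR a a
    · rw [Matrix.diagonal_apply_ne _ hac,
        Matrix.diagonal_apply_ne _ (fun h => hac ((swapM m).injective h)), map_zero]

end Cfsg.Agent.S2549P
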