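import Mathlib
import Cfsg.Prelude.Def_Classical
import Cfsg.Agent.Helper8.MatBNDefs
import Cfsg.Agent.Helper8.S2546Defs
import Cfsg.Agent.Helper21.S2549Defs
import Cfsg.Agent.Helper18.S2549PRESJ

set_option autoImplicit false
open scoped Matrix

/-! S2549 piece MONREV (helper18): the permutation of a monomial rational isometry commutes with `rev`
and with the middle transposition. -/

namespace Cfsg.Agent.S2549P

open Cfsg.Agent.MatBN

variable {K : Type*} [Field K]

theorem mon_rev_swap (σ : K →+* K) (m : ℕ)
    (M : Matrix (Fin (2 * m + 2)) (Fin (2 * m + 2)) K)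
    (hP : PresQ (2 * m + 2) M) (hR : Rat σ m M) (π : Equiv.Perm (Fin (2 * m + 2))) (hg : Mon M π) :
    (∀ i, π i.rev = (π i).rev) ∧ ∀ i, π (swapM m i) = swapM m (π i) := by
  constructor
  · intro c
    have hJ := presJ_of_presQ m M hP c c.rev
    simp only [RingHom.id_apply, if_true] at hJ
    have hsum : (∑ i : Fin (2 * m + 2), M i c * M i.rev c.rev) =
        M (π c) c * M (π c).rev c.rev := by
      apply Finset.sum_eq_single_of_mem (π c) (Finset.mem_univ _)
      intro i _ hi
      have h0 : M i c = 0 := by
        by_contra h1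
        exact hi ((hg i c).mp h1)
      rw [h0, zero_mul]
    rw [hsum] at hJ
    have h2 : M (π c).rev c.rev ≠ 0 := by
      intro h0
      rw [h0, mul_zero] at hJ
      exact zero_ne_one hJ
    exact ((hg _ _).mp h2).symm
  · intro i
    have h1 : M (π i) i ≠ 0 := (hg (π i) i).mpr rfl
    have h2 : σ (M (π i) i) ≠ 0 := by
      intro h0
      exact h1 ((map_eq_zero σ).mp h0)
    rw [hR] at h2
    exact ((hg _ _).mp h2).symm

end Cfsg.Agent.S2549P
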