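import Mathlib
import Cfsg.Prelude.Def_Classical
import Cfsg.Agent.Helper8.MatBNDefs
import Cfsg.Agent.Helper8.S2546Defs
import Cfsg.Agent.Helper21.S2549Defs
import Cfsg.Agent.Helper18.S2549PRESJ
import Cfsg.Agent.Helper18.S2548RMAT

set_option autoImplicit false
open scoped Matrix

/-! S2549 piece REFL (helper18): the permutation matrix of the middle transposition is a rational isometry. -/

namespace Cfsg.Agent.S2549P

open Cfsg.Agent.MatBN

variable {K : Type*} [Field K]

namespace REFL

theorem swapM_val (m : ℕ) (c : Fin (2 * m + 2)) : (swapM m c).val =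
    if c.val = m then m + 1 else if c.val = m + 1 then m else c.val := by
  unfold swapM
  rw [Equiv.swap_apply_def]
  by_cases h1 : c.val = m
  · rw [if_pos (Fin.ext h1), if_pos h1]
  · rw [if_neg (fun h => h1 (congrArg Fin.val h)), if_neg h1]
    by_cases h2 : c.val = m + 1
    · rw [if_pos (Fin.ext h2), if_pos h2]
    · rw [if_neg (fun h => h2 (congrArg Fin.val h)), if_neg h2]

theorem swapM_rev (m : ℕ) (c : Fin (2 * m + 2)) : swapM m c.rev = (swapM m c).rev := by
  apply Fin.ext
  rw [Fin.val_rev, swapM_val, swapM_val, Fin.val_rev]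
  have hc := c.2
  split_ifs <;> omega

theorem swapM_swapM (m : ℕ) (c : Fin (2 * m + 2)) : swapM m (swapM m c) = c := by
  unfold swapM
  exact Equiv.swap_apply_self _ _ c

end REFL

theorem pres_swapM (σ : K →+* K) (m : ℕ) :
    PresQ (2 * m + 2) (Cfsg.Agent.S2546P.pMat (2 * m + 2) (swapM m) : Matrix _ _ K) ∧
      Rat σ m (Cfsg.Agent.S2546P.pMat (2 * m + 2) (swapM m) : Matrix _ _ K) := by
  constructor
  · apply PRESJ.presQ_of_presQ48 (by omega)
    exact Cfsg.Agent.S2548P.RMAT.presQ_of_perm (by omega) _ (swapM m) (fun a c => rfl)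
      (REFL.swapM_rev m)
  · intro a c
    show σ (if a = swapM m c then 1 else 0) = if swapM m a = swapM m (swapM m c) then 1 else 0
    have h1 : (swapM m a = swapM m (swapM m c)) ↔ (a = swapM m c) :=
      (swapM m).injective.eq_iff
    rw [if_congr h1 rfl rfl]
    split_ifs
    · exact map_one σ
    · exact map_zero σ

end Cfsg.Agent.S2549P
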