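import Mathlib
import Cfsg.Agent.Lead.S2787Defs
import Cfsg.Agent.Helper18.Dickson36
import Cfsg.Agent.Helper18.PSL27b

set_option autoImplicit false

/-! S2787, piece DIHPSL: the `2`-subgroups of `PSL₂(q)`, `q` odd, lie in dihedral groups. -/

namespace Cfsg.Agent.S2787P

namespace DIHPSL

/-- a subgroup of odd index contains a conjugate of every `2`-subgroup -/
theorem exists_conj_mem {G : Type*} [Group G] [Finite G] (M : Subgroup G) (hM : ¬ 2 ∣ M.index)
    (S : Subgroup G) (hS : IsPGroup 2 S) : ∃ g : G, ∀ x ∈ S, g⁻¹ * x * g ∈ M := by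
  haveI : Fact (Nat.Prime 2) := ⟨Nat.prime_two⟩
  obtain ⟨P0⟩ : Nonempty (Sylow 2 M) := inferInstance
  have hPp : IsPGroup 2 ((P0 : Subgroup M).map M.subtype) := P0.2.map _
  have hidx : ¬ 2 ∣ ((P0 : Subgroup M).map M.subtype).index := by
    rw [Subgroup.index_map_subtype]
    intro h
    rcases (Nat.Prime.dvd_mul Nat.prime_two).mp h with h | h
    · exact P0.not_dvd_index h
    · exact hM h
  obtain ⟨Q, hQ⟩ := hS.exists_le_sylow
  obtain ⟨g, hg⟩ := MulAction.exists_smul_eq G (hPp.toSylow hidx) Q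
  refine ⟨g, fun x hx => ?_⟩
  have hx' : x ∈ (Q : Subgroup G) := hQ hx
  rw [← hg, Sylow.coe_subgroup_smul, Subgroup.mem_pointwise_smul_iff_inv_smul_mem] at hx'
  have hx'' : g⁻¹ * x * g ∈ (P0 : Subgroup M).map M.subtype := by
    simpa [MulAut.smul_def] using hx'
  obtain ⟨y, -, hy⟩ := hx''
  rw [← hy]
  exact y.2

/-- a group all of whose `2`-subgroups lie in conjugates of a dihedral subgroup is `DihLike` -/
theorem dihLike_of_dihedral {G : Type*} [Group G] [Finite G] (M : Subgroup G) (k : ℕ)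
    (e : M ≃* DihedralGroup k) (hM : ¬ 2 ∣ M.index) : DihLike G := by
  intro S hS
  obtain ⟨g, hg⟩ := exists_conj_mem M hM S hS
  refine ⟨g * ((e.symm (DihedralGroup.r 1) : M) : G) * g⁻¹, fun x hx hxc => ?_⟩
  have hxM := hg x hx
  rcases h : e ⟨_, hxM⟩ with i | i
  · exfalso
    apply hxc
    have h1 : (⟨_, hxM⟩ : M) = e.symm (DihedralGroup.r i) := by
      rw [← h, MulEquiv.symm_apply_apply]
    have h2 : (DihedralGroup.r i : DihedralGroup k) = (DihedralGroup.r 1) ^ (i.cast : ℤ) := by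
      rw [DihedralGroup.r_one_zpow]
      simp
    have h3 : g⁻¹ * x * g = ((e.symm (DihedralGroup.r 1) : M) : G) ^ (i.cast : ℤ) := by
      have := congrArg (Subtype.val) h1
      rw [h2, map_zpow] at this
      simpa using this
    rw [Subgroup.mem_zpowers_iff]
    refine ⟨(i.cast : ℤ), ?_⟩
    rw [conj_zpow, ← h3]
    group
  · have h1 : (⟨_, hxM⟩ : M) * ⟨_, hxM⟩ = 1 := by
      apply e.injective
      rw [map_mul, h, map_one, DihedralGroup.sr_mul_sr, sub_self]
      rfl
    have h2 := congrArg Subtype.val h1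
    have h3 : g⁻¹ * x * g * (g⁻¹ * x * g) = 1 := h2
    have h4 : x * x = g * (g⁻¹ * x * g * (g⁻¹ * x * g)) * g⁻¹ := by group
    rw [h4, h3]
    group

end DIHPSL

open DIHPSL

/-- DIHPSL -/
theorem dihLike_psl2 {F : Type*} [Field F] [Fintype F] (hodd : Odd (Fintype.card F)) :
    DihLike (Matrix.ProjectiveSpecialLinearGroup (Fin 2) F) := by
  obtain ⟨p, hchar⟩ := CharP.exists F
  haveI : Fact p.Prime := ⟨CharP.char_is_prime F p⟩
  obtain ⟨n, -, hcard⟩ := FiniteField.card F p
  have hp : p ≠ 2 := by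
    intro h
    rw [hcard, h] at hodd
    have hn : (n : ℕ) ≠ 0 := n.ne_zero
    exact (Nat.not_even_iff_odd.mpr hodd) ((Nat.even_pow' hn).mpr even_two)
  set q := Fintype.card F with hq
  have hq2 : 2 ≤ q := Fintype.one_lt_card
  have hcardP := Cfsg.Agent.Helper18.PSL27.card_psl2 (F := F) q hq.symm hq2
  obtain ⟨m, hm⟩ := hodd
  have hq1 : q - 1 = 2 * m := by omega
  have hgcd : Nat.gcd 2 (q - 1) = 2 := by
    rw [hq1]
    exact Nat.gcd_eq_left (Dvd.intro m rfl)
  rw [hgcd] at hcardP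
  have hm1 : 1 ≤ m := by omega
  -- `|PSL₂| * 2 = (q - 1) * q * (q + 1)`
  have hP : Nat.card (Matrix.ProjectiveSpecialLinearGroup (Fin 2) F) * 2 =
      (q - 1) * q * (q + 1) := by
    have h1 : q ^ 2 - 1 = (q - 1) * (q + 1) := by
      rw [hm]
      have : (2 * m + 1) ^ 2 - 1 = (2 * m + 1 - 1) * (2 * m + 1 + 1) := by
        have e : (2 * m + 1) ^ 2 = (2 * m + 1 - 1) * (2 * m + 1 + 1) + 1 := by
          simp only [Nat.add_sub_cancel]
          ring
        omega
      exact this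
    have h2 : q ^ 2 - q = q * (q - 1) := by
      rw [pow_two, Nat.mul_sub_one]
    rw [h1, h2] at hcardP
    have hpos : 0 < q - 1 := by omega
    apply Nat.eq_of_mul_eq_mul_right hpos
    rw [hcardP]
    ring
  rcases Nat.even_or_odd m with hme | hmo
  · -- `q ≡ 1 mod 4`: the dihedral group of order `q - 1`
    obtain ⟨c, hc⟩ := hme
    have h5 : 5 ≤ q := by omega
    obtain ⟨M, hMc, ⟨e⟩⟩ := Cfsg.Agent.Helper18.Dickson.exists_dihedral_minus (F := F) p hp h5
    refine dihLike_of_dihedral M _ e ?_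
    intro h2
    have hci := M.card_mul_index
    rw [hMc] at hci
    obtain ⟨d, hd⟩ := h2
    rw [hd, ← hq] at hci
    rw [← hci] at hP
    -- `(q-1) * (2 d) * 2 = (q-1) * q * (q+1)`
    have hpos : 0 < q - 1 := by omega
    have h3 : 2 * d * 2 = q * (q + 1) := by
      apply Nat.eq_of_mul_eq_mul_left hpos
      calc (q - 1) * (2 * d * 2) = (q - 1) * (2 * d) * 2 := by ring
        _ = (q - 1) * q * (q + 1) := hP
        _ = (q - 1) * (q * (q + 1)) := by ring
    rw [hm, hc] at h3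
    have h4 : 2 * d * 2 = 4 * (2 * c * (2 * c) + 3 * c) + 2 := by
      rw [h3]; ring
    omega
  · -- `q ≡ 3 mod 4`: the dihedral group of order `q + 1`
    obtain ⟨c, hc⟩ := hmo
    obtain ⟨M, hMc, ⟨e⟩⟩ := Cfsg.Agent.Helper18.Dickson.exists_dihedral_plus (F := F) p hp
    refine dihLike_of_dihedral M _ e ?_
    intro h2
    have hci := M.card_mul_index
    rw [hMc] at hci
    obtain ⟨d, hd⟩ := h2
    rw [hd, ← hq] at hci
    rw [← hci] at hP
    have hpos : 0 < q + 1 := by omega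
    have h3 : 2 * d * 2 = (q - 1) * q := by
      apply Nat.eq_of_mul_eq_mul_left hpos
      calc (q + 1) * (2 * d * 2) = (q + 1) * (2 * d) * 2 := by ring
        _ = (q - 1) * q * (q + 1) := hP
        _ = (q + 1) * ((q - 1) * q) := by ring
    rw [hq1, hm, hc] at h3
    have h4 : 2 * d * 2 = 4 * (4 * c * c + 5 * c + 1) + 2 := by
      rw [h3]; ring
    omega

end Cfsg.Agent.S2787P
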