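import Mathlib
import Cfsg.Prelude.Def_Solvable
import Cfsg.Agent.Helper11.PSL2AutC
import Cfsg.Agent.Helper14.PCore

set_option autoImplicit false

/-! S2787, piece OPPSL: `O_p(PSL₂(F)) = 1` for a field `F` of order `p ^ n`. -/

namespace Cfsg.Agent.S2787P

open Cfsg.Agent.Helper11.PSL2Aut

/-- OPPSL. -/
theorem pCore_psl2 {F : Type*} [Field F] [Fintype F] (p : ℕ) [Fact p.Prime] (n : ℕ)
    (hF : Fintype.card F = p ^ n) (hodd : Odd (Fintype.card F)) :
    Cfsg.pCore p (Matrix.ProjectiveSpecialLinearGroup (Fin 2) F) = ⊥ := by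
  have hn : 1 ≤ n := by
    rcases Nat.eq_zero_or_pos n with h | h
    · rw [h, pow_zero] at hF
      have := Fintype.one_lt_card (α := F)
      omega
    · exact h
  have hle : Cfsg.pCore p (Matrix.ProjectiveSpecialLinearGroup (Fin 2) F) ≤ UL F := by
    have := Cfsg.Agent.Helper14.pCore_le_sylow p (ULSylow hn hF)
    rwa [ULSylow_coe] at this
  rw [eq_bot_iff]
  intro x hx
  rw [Subgroup.mem_bot]
  obtain ⟨a, rfl⟩ := hle hx
  have hnorm : (Cfsg.pCore p (Matrix.ProjectiveSpecialLinearGroup (Fin 2) F)).Normal :=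
    Cfsg.Agent.Helper14.pCore_normal p
  obtain ⟨b, hb⟩ := hle (hnorm.conj_mem _ hx wL)
  rw [wL_conj_uL] at hb
  by_cases ha : a = 0
  · rw [ha, uL_zero]
  · exact absurd hb (vL_ne_uL (neg_ne_zero.mpr ha))

end Cfsg.Agent.S2787P
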