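import Mathlib
import Cfsg.Prelude
import Cfsg.Agent.Helper7.S2788Defs

/-! S2788 piece CONJ2 (helper18): nonscalar elements of `SL₂(F)` with the same trace are `GL₂`-conjugate. -/

set_option autoImplicit false

namespace Cfsg.Agent.S2788P

open Matrix

namespace CONJ2

variable {F : Type*} [Field F]

/-- the companion matrix of `X² - t X + 1` -/
def comp (t : F) : Matrix (Fin 2) (Fin 2) F := !![0, -1; 1, t]

theorem det_comp (t : F) : (comp t).det = 1 := by
  simp [comp, Matrix.det_fin_two]

/-- a nonscalar matrix of determinant one is similar to the companion matrix of its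
characteristic polynomial -/
theorem exists_companion (N : Matrix (Fin 2) (Fin 2) F) (hdet : N.det = 1)
    (hN : ∀ c : F, N ≠ c • (1 : Matrix (Fin 2) (Fin 2) F)) :
    ∃ P : Matrix (Fin 2) (Fin 2) F, P.det ≠ 0 ∧ N * P = P * comp N.trace := by
  have hN' : N = !![N 0 0, N 0 1; N 1 0, N 1 1] := by
    ext i j; fin_cases i <;> fin_cases j <;> rfl
  generalize N 0 0 = a at hN'
  generalize N 0 1 = b at hN'
  generalize N 1 0 = c at hN'
  generalize N 1 1 = d at hN'
  subst hN'
  have hdet' : a * d - b * c = 1 := by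
    rw [Matrix.det_fin_two_of] at hdet
    exact hdet
  have htr : (!![a, b; c, d] : Matrix (Fin 2) (Fin 2) F).trace = a + d := by
    simp [Matrix.trace_fin_two]
  rw [htr]
  by_cases hc : c = 0
  · by_cases hb : b = 0
    · -- diagonal, `a ≠ d`
      subst hc hb
      have had : a ≠ d := by
        intro h
        apply hN a
        subst h
        ext i j; fin_cases i <;> fin_cases j <;> simp
      refine ⟨!![1, a; 1, d], ?_, ?_⟩
      · rw [Matrix.det_fin_two_of]
        intro h
        apply had
        linear_combination -h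
      · simp only [comp]
        ext i j
        fin_cases i <;> fin_cases j <;> simp [Matrix.mul_apply, Fin.sum_univ_two]
        · linear_combination (-1 : F) * hdet'
        · linear_combination (-1 : F) * hdet'
    · refine ⟨!![0, b; 1, d], ?_, ?_⟩
      · rw [Matrix.det_fin_two_of]
        simpa using hb
      · simp only [comp]
        ext i j
        fin_cases i <;> fin_cases j <;> simp [Matrix.mul_apply, Fin.sum_univ_two]
        · ring
        · linear_combination (-1 : F) * hdet'
  · refine ⟨!![1, a; 0, c], ?_, ?_⟩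
    · rw [Matrix.det_fin_two_of]
      simpa using hc
    · simp only [comp]
      ext i j
      fin_cases i <;> fin_cases j <;> simp [Matrix.mul_apply, Fin.sum_univ_two]
      · linear_combination (-1 : F) * hdet'
      · ring

theorem conj_of_trace_eq {F : Type*} [Field F] (M M' : SpecialLinearGroup (Fin 2) F)
    (hM : ∀ c : F, (M : Matrix (Fin 2) (Fin 2) F) ≠ c • (1 : Matrix (Fin 2) (Fin 2) F))
    (hM' : ∀ c : F, (M' : Matrix (Fin 2) (Fin 2) F) ≠ c • (1 : Matrix (Fin 2) (Fin 2) F))
    (ht : (M : Matrix (Fin 2) (Fin 2) F).trace = (M' : Matrix (Fin 2) (Fin 2) F).trace) :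
    ∃ g : GL (Fin 2) F, SpecialLinearGroup.toGL M' = g * SpecialLinearGroup.toGL M * g⁻¹ := by
  obtain ⟨P, hP, hPM⟩ := exists_companion (M : Matrix (Fin 2) (Fin 2) F) M.2 hM
  obtain ⟨P', hP', hPM'⟩ := exists_companion (M' : Matrix (Fin 2) (Fin 2) F) M'.2 hM'
  rw [← ht] at hPM'
  set t := (M : Matrix (Fin 2) (Fin 2) F).trace with htdef
  let p : GL (Fin 2) F := Matrix.GeneralLinearGroup.mkOfDetNeZero P hP
  let p' : GL (Fin 2) F := Matrix.GeneralLinearGroup.mkOfDetNeZero P' hP'
  let c : GL (Fin 2) F := Matrix.GeneralLinearGroup.mkOfDetNeZero (comp t)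
    (by rw [det_comp]; exact one_ne_zero)
  have h1 : SpecialLinearGroup.toGL M * p = p * c := Units.ext hPM
  have h2 : SpecialLinearGroup.toGL M' * p' = p' * c := Units.ext hPM'
  refine ⟨p' * p⁻¹, ?_⟩
  have h3 : c = p⁻¹ * SpecialLinearGroup.toGL M * p := by
    rw [mul_assoc, h1, inv_mul_cancel_left]
  have h4 : SpecialLinearGroup.toGL M' = p' * c * p'⁻¹ := by
    rw [← h2, mul_inv_cancel_right]
  rw [h4, h3]
  group

end CONJ2

end Cfsg.Agent.S2788P
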