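import Mathlib
import Cfsg.Prelude
import Cfsg.Agent.Helper7.S2788IDX1

/-! S2788 piece FIXP (helper18): a `p`-element normalizing but not centralizing an elementary abelian
`p`-group `V` forces `p² ≤ |V|`. -/

set_option autoImplicit false

namespace Cfsg.Agent.S2788P

namespace FIXP

theorem sq_le_card {G : Type*} [Group G] [Finite G] {p : ℕ} [Fact p.Prime] (V : Subgroup G)
    (hV : Cfsg.IsElementaryAbelian p V) (s : G) (hs : s ∈ Subgroup.normalizer (V : Set G))
    (k : ℕ) (hsk : s ^ (p ^ k) = 1) (hsV : s ∉ Subgroup.centralizer (V : Set G)) :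
    p ^ 2 ≤ Nat.card V := by
  classical
  have hp : p.Prime := Fact.out
  have hVp : IsPGroup p V := IDX1.isPGroup_of_elementary V hV
  obtain ⟨a, ha⟩ := hVp.exists_card_eq
  by_contra hlt
  push Not at hlt
  have ha1 : a ≤ 1 := by
    by_contra h
    push Not at h
    have h1 : p ^ 2 ≤ p ^ a := Nat.pow_le_pow_right hp.pos h
    omega
  -- the conjugation action of `⟨s⟩` on `V`
  have hle : Subgroup.zpowers s ≤ Subgroup.normalizer (V : Set G) := Subgroup.zpowers_le.mpr hs
  let _ : MulAction (Subgroup.zpowers s) V :=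
    { smul := fun g v => ⟨(g : G) * v * (g : G)⁻¹,
        (Subgroup.mem_normalizer_iff.mp (hle g.2) v).mp v.2⟩
      one_smul := fun v => Subtype.ext (by
        show ((1 : Subgroup.zpowers s) : G) * v * ((1 : Subgroup.zpowers s) : G)⁻¹ = v
        simp)
      mul_smul := fun g h v => Subtype.ext (by
        show ((g * h : Subgroup.zpowers s) : G) * v * ((g * h : Subgroup.zpowers s) : G)⁻¹ =
          (g : G) * ((h : G) * v * (h : G)⁻¹) * (g : G)⁻¹
        simp [mul_assoc]) }
  have hsmul : ∀ (g : Subgroup.zpowers s) (v : V), ((g • v : V) : G) = (g : G) * v * (g : G)⁻¹ :=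
    fun _ _ => rfl
  have hP : IsPGroup p (Subgroup.zpowers s) := by
    rintro ⟨g, hg⟩
    obtain ⟨n, rfl⟩ := Subgroup.mem_zpowers_iff.mp hg
    refine ⟨k, Subtype.ext ?_⟩
    show (s ^ n) ^ (p ^ k) = 1
    rw [← zpow_natCast, ← zpow_mul, mul_comm, zpow_mul, zpow_natCast, hsk, one_zpow]
  have hmod := hP.card_modEq_card_fixedPoints V
  -- `1` is a fixed point
  have h1fix : (1 : V) ∈ MulAction.fixedPoints (Subgroup.zpowers s) V := by
    intro g
    apply Subtype.ext
    rw [hsmul]
    simp
  -- not every point is fixed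
  have hnot : ∃ v : V, v ∉ MulAction.fixedPoints (Subgroup.zpowers s) V := by
    by_contra hall
    push Not at hall
    apply hsV
    rw [Subgroup.mem_centralizer_iff]
    intro v hv
    have h2 := hall ⟨v, hv⟩ ⟨s, Subgroup.mem_zpowers s⟩
    have h3 := congrArg Subtype.val h2
    rw [hsmul] at h3
    simp only at h3
    rw [mul_inv_eq_iff_eq_mul] at h3
    exact h3.symm
  obtain ⟨v₀, hv₀⟩ := hnot
  have hlt2 : Nat.card (MulAction.fixedPoints (Subgroup.zpowers s) V) < Nat.card V := by
    have : Nat.card (MulAction.fixedPoints (Subgroup.zpowers s) V) <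
        Nat.card V := by
      apply Finite.card_subtype_lt (x := v₀)
      exact hv₀
    exact this
  have hpos : 0 < Nat.card (MulAction.fixedPoints (Subgroup.zpowers s) V) := by
    have : Nonempty (MulAction.fixedPoints (Subgroup.zpowers s) V) := ⟨⟨1, h1fix⟩⟩
    exact Nat.card_pos
  rw [ha] at hmod hlt2
  interval_cases a
  · rw [pow_zero] at hlt2
    omega
  · rw [pow_one] at hmod hlt2
    have h4 : Nat.card (MulAction.fixedPoints (Subgroup.zpowers s) V) % p = 0 := by
      have := hmod.symm
      rw [Nat.ModEq, Nat.mod_self] at this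
      exact this
    have h5 : p ∣ Nat.card (MulAction.fixedPoints (Subgroup.zpowers s) V) :=
      Nat.dvd_of_mod_eq_zero h4
    have := Nat.le_of_dvd hpos h5
    omega

end FIXP

end Cfsg.Agent.S2788P
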