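import Mathlib
import Cfsg.Prelude
import Cfsg.Agent.Helper7.S2788Defs
import Cfsg.Agent.Helper18.S2788CONJ2

/-! S2788 piece PRODODD (helper18): in odd characteristic, a power of the product of `upr l` with a
suitable conjugate of it has any prescribed odd order `m > 1` of an element of `SL₂(F)`. -/

set_option autoImplicit false

namespace Cfsg.Agent.S2788P

open Matrix

namespace PRODODD

variable {F : Type*} [Field F]

/-- Cayley–Hamilton for `2 × 2` matrices of determinant one -/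
theorem sq_eq (A : Matrix (Fin 2) (Fin 2) F) (hdet : A.det = 1) :
    A * A = A.trace • A - 1 := by
  have hA : A = !![A 0 0, A 0 1; A 1 0, A 1 1] := by
    ext i j; fin_cases i <;> fin_cases j <;> rfl
  generalize A 0 0 = a at hA
  generalize A 0 1 = b at hA
  generalize A 1 0 = c at hA
  generalize A 1 1 = d at hA
  subst hA
  rw [Matrix.det_fin_two_of] at hdet
  rw [Matrix.trace_fin_two_of, Matrix.mul_fin_two]
  ext i j
  fin_cases i <;> fin_cases j <;> simp
  · linear_combination (-1 : F) * hdet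
  · ring
  · ring
  · linear_combination (-1 : F) * hdet

theorem trace_sq (A : Matrix (Fin 2) (Fin 2) F) (hdet : A.det = 1) :
    (A * A).trace = A.trace ^ 2 - 2 := by
  rw [sq_eq A hdet, Matrix.trace_sub, Matrix.trace_smul, Matrix.trace_one, Fintype.card_fin]
  simp only [smul_eq_mul]
  push_cast
  ring

/-- an element of odd order `> 1` is not scalar -/
theorem not_scalar (x : SpecialLinearGroup (Fin 2) F) (m : ℕ)
    (hx : orderOf x = m) (hm : Odd m) (hm1 : 1 < m) (e : F) :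
    (x : Matrix (Fin 2) (Fin 2) F) ≠ e • (1 : Matrix (Fin 2) (Fin 2) F) := by
  intro h
  have hdet := x.2
  rw [h, Matrix.det_smul, Matrix.det_one, Fintype.card_fin, mul_one] at hdet
  have hx2 : x ^ 2 = 1 := by
    apply Subtype.ext
    show (x : Matrix (Fin 2) (Fin 2) F) ^ 2 = 1
    rw [h, smul_pow, one_pow, hdet, one_smul]
  have hdvd : m ∣ 2 := by
    rw [← hx]
    exact orderOf_dvd_of_pow_eq_one hx2
  have hle := Nat.le_of_dvd (by norm_num) hdvd
  obtain ⟨t, ht⟩ := hm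
  omega

/-- the statement holds in every characteristic -/
theorem prod_any {F : Type*} [Field F] (l : F) (hl : l ≠ 0)
    (x : SpecialLinearGroup (Fin 2) F) (m : ℕ) (hx : orderOf x = m) (hm : Odd m) (hm1 : 1 < m) :
    ∃ (σ : SpecialLinearGroup (Fin 2) F) (k : ℕ),
      orderOf ((upr l * (σ * upr l * σ⁻¹)) ^ k) = m := by
  obtain ⟨j, hj⟩ := hm
  -- the square root of `x`
  set x' : SpecialLinearGroup (Fin 2) F := x ^ (j + 1) with hx'
  have hxx : x' * x' = x := by
    rw [hx', ← pow_add]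
    have h1 : j + 1 + (j + 1) = m + 1 := by omega
    rw [h1, pow_succ, ← hx, pow_orderOf_eq_one, one_mul]
  set s : F := (x' : Matrix (Fin 2) (Fin 2) F).trace with hs
  have hxmat : (x : Matrix (Fin 2) (Fin 2) F) =
      (x' : Matrix (Fin 2) (Fin 2) F) * (x' : Matrix (Fin 2) (Fin 2) F) := by
    rw [← hxx]; rfl
  have htrx : (x : Matrix (Fin 2) (Fin 2) F).trace = s ^ 2 - 2 := by
    rw [hxmat, trace_sq _ x'.2]
  have hs0 : s ≠ 0 := by
    intro h0
    have h1 := sq_eq (x' : Matrix (Fin 2) (Fin 2) F) x'.2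
    rw [← hs, h0, zero_smul, zero_sub, ← hxmat] at h1
    refine not_scalar x m hx ⟨j, hj⟩ hm1 (-1) ?_
    rw [h1, neg_smul, one_smul]
  -- the conjugating element
  let σ : SpecialLinearGroup (Fin 2) F :=
    ⟨!![0, l / s; -s / l, 0], by rw [Matrix.det_fin_two_of]; field_simp; ring⟩
  have hσ : σ * upr l * σ⁻¹ = lwr (-s ^ 2 / l) := by
    apply mul_inv_eq_of_eq_mul
    apply Subtype.ext
    show (σ : Matrix (Fin 2) (Fin 2) F) * (upr l : Matrix (Fin 2) (Fin 2) F) =
      (lwr (-s ^ 2 / l) : Matrix (Fin 2) (Fin 2) F) * (σ : Matrix (Fin 2) (Fin 2) F)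
    rw [upr_val, lwr_val]
    show !![0, l / s; -s / l, 0] * !![1, l; 0, 1] = !![1, 0; -s ^ 2 / l, 1] * !![0, l / s; -s / l, 0]
    rw [Matrix.mul_fin_two, Matrix.mul_fin_two]
    have e1 : (0 : F) * 1 + l / s * 0 = 1 * 0 + 0 * (-s / l) := by ring
    have e2 : (0 : F) * l + l / s * 1 = 1 * (l / s) + 0 * 0 := by ring
    have e3 : -s / l * 1 + 0 * 0 = -s ^ 2 / l * 0 + 1 * (-s / l) := by ring
    have e4 : -s / l * l + 0 * 1 = -s ^ 2 / l * (l / s) + 1 * 0 := by
      field_simp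
    rw [e1, e2, e3, e4]
  refine ⟨σ, 2, ?_⟩
  rw [hσ]
  set y : SpecialLinearGroup (Fin 2) F := upr l * lwr (-s ^ 2 / l) with hy
  have hymat : (y : Matrix (Fin 2) (Fin 2) F) = !![1 + l * (-s ^ 2 / l), l; -s ^ 2 / l, 1] := by
    show (upr l : Matrix (Fin 2) (Fin 2) F) * (lwr (-s ^ 2 / l) : Matrix (Fin 2) (Fin 2) F) = _
    rw [upr_val, lwr_val, Matrix.mul_fin_two]
    have e1 : (1 : F) * 1 + l * (-s ^ 2 / l) = 1 + l * (-s ^ 2 / l) := by ring
    have e2 : (1 : F) * 0 + l * 1 = l := by ring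
    have e3 : (0 : F) * 1 + 1 * (-s ^ 2 / l) = -s ^ 2 / l := by ring
    have e4 : (0 : F) * 0 + 1 * 1 = 1 := by ring
    rw [e1, e2, e3, e4]
  have hynon : ∀ c : F, (y : Matrix (Fin 2) (Fin 2) F) ≠ c • (1 : Matrix (Fin 2) (Fin 2) F) := by
    intro c h
    have h1 := congrFun (congrFun h 0) 1
    rw [hymat] at h1
    simp at h1
    exact hl h1
  have hnxnon : ∀ c : F, ((-x : SpecialLinearGroup (Fin 2) F) : Matrix (Fin 2) (Fin 2) F) ≠
      c • (1 : Matrix (Fin 2) (Fin 2) F) := by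
    intro c h
    rw [SpecialLinearGroup.coe_neg] at h
    refine not_scalar x m hx ⟨j, hj⟩ hm1 (-c) ?_
    rw [neg_smul, ← h, neg_neg]
  have htr : ((-x : SpecialLinearGroup (Fin 2) F) : Matrix (Fin 2) (Fin 2) F).trace =
      (y : Matrix (Fin 2) (Fin 2) F).trace := by
    rw [SpecialLinearGroup.coe_neg, Matrix.trace_neg, htrx, hymat, Matrix.trace_fin_two_of]
    field_simp
    ring
  obtain ⟨g, hg⟩ := CONJ2.conj_of_trace_eq (-x) y hnxnon hynon htr
  have h1 : SpecialLinearGroup.toGL (y ^ 2) =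
      MulAut.conj g (SpecialLinearGroup.toGL (x ^ 2)) := by
    rw [MulAut.conj_apply, map_pow, hg, conj_pow, ← map_pow, neg_sq]
  have h3 : orderOf (y ^ 2) = orderOf (x ^ 2) := by
    rw [← orderOf_injective (SpecialLinearGroup.toGL : SpecialLinearGroup (Fin 2) F →* _)
      SpecialLinearGroup.toGL_injective (y ^ 2), h1,
      MulEquiv.orderOf_eq,
      orderOf_injective (SpecialLinearGroup.toGL : SpecialLinearGroup (Fin 2) F →* _)
      SpecialLinearGroup.toGL_injective (x ^ 2)]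
  rw [h3, orderOf_pow' x (by norm_num : (2 : ℕ) ≠ 0), hx]
  have h4 : Nat.gcd m 2 = 1 := by
    rw [hj]
    simp
  rw [h4, Nat.div_one]

theorem prod_odd {F : Type*} [Field F] (h2 : (2 : F) ≠ 0) (l : F) (hl : l ≠ 0)
    (x : SpecialLinearGroup (Fin 2) F) (m : ℕ) (hx : orderOf x = m) (hm : Odd m) (hm1 : 1 < m) :
    ∃ (σ : SpecialLinearGroup (Fin 2) F) (k : ℕ),
      orderOf ((upr l * (σ * upr l * σ⁻¹)) ^ k) = m :=
  prod_any l hl x m hx hm hm1

end PRODODD

end Cfsg.Agent.S2788P
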