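import Mathlib
import Cfsg.Prelude
import Cfsg.Agent.Helper7.S2788Defs

/-! S2788 piece PSLKER (helper18): the quotient map `SL₂(F) → PSL₂(F)` is onto with kernel `{±1}`. -/

set_option autoImplicit false

namespace Cfsg.Agent.S2788P

open Matrix

namespace PSLKER

theorem mk_surjective {F : Type*} [Field F] :
    Function.Surjective
      (QuotientGroup.mk' (Subgroup.center (SpecialLinearGroup (Fin 2) F))) :=
  QuotientGroup.mk'_surjective _

theorem ker_mk {F : Type*} [Field F] (g : SpecialLinearGroup (Fin 2) F)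
    (hg : QuotientGroup.mk' (Subgroup.center (SpecialLinearGroup (Fin 2) F)) g = 1) :
    g = 1 ∨ g = -1 := by
  have hmem : g ∈ Subgroup.center (SpecialLinearGroup (Fin 2) F) := by
    rw [QuotientGroup.mk'_apply, QuotientGroup.eq_one_iff] at hg
    exact hg
  obtain ⟨r, hr, hrg⟩ := Matrix.SpecialLinearGroup.mem_center_iff.mp hmem
  rw [Fintype.card_fin] at hr
  have hr' : r = 1 ∨ r = -1 := sq_eq_one_iff.mp hr
  rcases hr' with rfl | rfl
  · left
    apply Subtype.ext
    rw [← hrg]
    simp
  · right
    apply Subtype.ext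
    rw [← hrg]
    show (Matrix.scalar (Fin 2)) (-1 : F) = -(1 : Matrix (Fin 2) (Fin 2) F)
    ext i j
    fin_cases i <;> fin_cases j <;> simp

end PSLKER

end Cfsg.Agent.S2788P
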