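import Mathlib
import Cfsg.Prelude
import Cfsg.Agent.Helper7.S2788Defs

/-! S2788 piece UNIP (helper18): a nontrivial `p`-element of `SL₂(F)`, `char F = p`, is conjugate to
an upper unitriangular matrix. -/

set_option autoImplicit false

namespace Cfsg.Agent.S2788P

open Matrix

namespace UNIP

/-- a `p`-element of `SL₂(F)` has trace `2` -/
theorem trace_eq_two {F : Type*} [Field F] (p : ℕ) [Fact p.Prime] [CharP F p]
    (a b c d : F) (hdet : a * d - b * c = 1) (k : ℕ)
    (hu : (!![a, b; c, d] : Matrix (Fin 2) (Fin 2) F) ^ (p ^ k) = 1) : a + d = 2 := by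
  set A : Matrix (Fin 2) (Fin 2) F := !![a, b; c, d] with hA
  have h1 : (A - 1) ^ (p ^ k) = 0 := by
    rw [sub_pow_char_pow_of_commute p k (Commute.one_right A), hu, one_pow, sub_self]
  have h2 : (A - 1) ^ 2 = (a + d - 2) • A := by
    rw [hA, pow_two]
    ext i j
    fin_cases i <;> fin_cases j <;>
      simp [Matrix.mul_apply, Fin.sum_univ_two, Matrix.one_apply]
    · linear_combination (-1 : F) * hdet
    · ring
    · ring
    · linear_combination (-1 : F) * hdet
  have h3 : ((A - 1) ^ 2) ^ (p ^ k) = 0 := by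
    rw [← pow_mul, mul_comm, pow_mul, h1, zero_pow (by norm_num)]
  rw [h2, smul_pow, hu] at h3
  have h4 : (a + d - 2) ^ (p ^ k) = 0 := by
    have h5 := congrFun (congrFun h3 0) 0
    simpa using h5
  have h6 : a + d - 2 = 0 := pow_eq_zero_iff (pow_ne_zero _ (Fact.out : p.Prime).ne_zero) |>.mp h4
  linear_combination h6

theorem unip_conj {F : Type*} [Field F] (p : ℕ) [Fact p.Prime] [CharP F p]
    (u : SpecialLinearGroup (Fin 2) F) (hu1 : u ≠ 1) (k : ℕ) (hu : u ^ (p ^ k) = 1) :
    ∃ (τ : SpecialLinearGroup (Fin 2) F) (l : F), l ≠ 0 ∧ u = τ * upr l * τ⁻¹ := by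
  have hN' : (u : Matrix (Fin 2) (Fin 2) F) = !![u 0 0, u 0 1; u 1 0, u 1 1] := by
    ext i j; fin_cases i <;> fin_cases j <;> rfl
  have hdet := u.2
  have hpow : (u : Matrix (Fin 2) (Fin 2) F) ^ (p ^ k) = 1 := by
    have h0 := congrArg (fun x : SpecialLinearGroup (Fin 2) F => (x : Matrix (Fin 2) (Fin 2) F)) hu
    simpa using h0
  generalize u 0 0 = a at hN'
  generalize u 0 1 = b at hN'
  generalize u 1 0 = c at hN'
  generalize u 1 1 = d at hN'
  rw [hN'] at hdet hpow
  rw [Matrix.det_fin_two_of] at hdet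
  have htr := trace_eq_two p a b c d hdet k hpow
  have hd : d = 2 - a := by linear_combination htr
  subst hd
  by_cases hc : c = 0
  · subst hc
    have ha : a = 1 := by
      have h1 : (a - 1) ^ 2 = 0 := by linear_combination (-1 : F) * hdet
      have h2 : a - 1 = 0 := pow_eq_zero_iff (by norm_num) |>.mp h1
      linear_combination h2
    subst ha
    have hb : b ≠ 0 := by
      rintro rfl
      apply hu1
      apply Subtype.ext
      show (u : Matrix (Fin 2) (Fin 2) F) = (1 : Matrix (Fin 2) (Fin 2) F)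
      rw [hN']
      ext i j; fin_cases i <;> fin_cases j <;> simp <;> norm_num
    refine ⟨1, b, hb, ?_⟩
    rw [one_mul, inv_one, mul_one]
    apply Subtype.ext
    show (u : Matrix (Fin 2) (Fin 2) F) = (upr b : Matrix (Fin 2) (Fin 2) F)
    rw [hN', upr_val]
    ext i j; fin_cases i <;> fin_cases j <;> simp <;> norm_num
  · let τ : SpecialLinearGroup (Fin 2) F :=
      ⟨!![(1 - a) / c, 1; -1, 0], by rw [Matrix.det_fin_two_of]; ring⟩
    refine ⟨τ, -c, neg_ne_zero.mpr hc, ?_⟩
    apply eq_mul_inv_of_mul_eq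
    apply Subtype.ext
    show (u : Matrix (Fin 2) (Fin 2) F) * (τ : Matrix (Fin 2) (Fin 2) F) =
      (τ : Matrix (Fin 2) (Fin 2) F) * (upr (-c) : Matrix (Fin 2) (Fin 2) F)
    rw [hN', upr_val]
    have e1 : a * ((1 - a) / c) + b * -1 = (1 - a) / c * 1 + 1 * 0 := by
      field_simp
      linear_combination hdet
    have e2 : a * 1 + b * 0 = (1 - a) / c * -c + 1 * 1 := by
      field_simp
      ring
    have e3 : c * ((1 - a) / c) + (2 - a) * -1 = -1 * 1 + 0 * 0 := by
      field_simp
      ring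
    have e4 : c * 1 + (2 - a) * 0 = -1 * -c + 0 * 1 := by ring
    rw [Matrix.mul_fin_two, Matrix.mul_fin_two, e1, e2, e3, e4]

end UNIP

end Cfsg.Agent.S2788P
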