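import Mathlib
import Cfsg.Agent.Helper14.S2863Defs
import Cfsg.Agent.Helper20.S2861TWO

/-! Board `s2863pieces`, row XFTWO: `|Yb| = 2` (`X` is dihedral of order `2n`, `n` odd). -/

set_option autoImplicit false

namespace Cfsg.Agent.S2863P

open Cfsg Subgroup
open Cfsg.Agent.Helper14 (cj)
open Cfsg.Agent.S2861P (Hyp)

/-- the dihedral structure behind `Cfsg.Agent.S2861P.TWO` -/
theorem XFTWO_aux_struct {X : Type*} [Group X] [Finite X] (Yb Nb : Subgroup X) (h : Hyp Yb Nb)
    (h2 : Nat.card Yb = 2) :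
    ∃ t s : X, ∃ k : ℤ, t ≠ 1 ∧ t * t = 1 ∧ s * s = 1 ∧ (∀ x : X, x ∈ Yb ↔ x = 1 ∨ x = t) ∧
      Subgroup.closure ({t, s} : Set X) = ⊤ ∧ (t * s) ^ (2 * k + 1) = 1 := by
  have hne : Yb ≠ ⊥ := by
    intro hbot
    rw [hbot, Subgroup.card_bot] at h2
    exact absurd h2 (by norm_num)
  have hex0 : ∃ t : X, t ∈ Yb ∧ t ≠ 1 := by
    obtain ⟨a, ha⟩ := Subgroup.ne_bot_iff_exists_ne_one.1 hne
    exact ⟨(a : X), a.2, fun h1 => ha (Subtype.ext h1)⟩
  obtain ⟨t, htY, ht1⟩ := hex0
  have hzle : Subgroup.zpowers t ≤ Yb := Subgroup.zpowers_le.2 htY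
  have hord : orderOf t = 2 := by
    have hd : orderOf t ∣ 2 := by
      rw [← h2]
      exact Subgroup.orderOf_dvd_natCard Yb htY
    rcases (Nat.dvd_prime Nat.prime_two).1 hd with h1 | h1
    · exact absurd (orderOf_eq_one_iff.1 h1) ht1
    · exact h1
  have hYz : Subgroup.zpowers t = Yb := by
    apply Subgroup.eq_of_le_of_card_ge hzle
    rw [h2, Nat.card_zpowers, hord]
  have ht : t * t = 1 := by
    have := pow_orderOf_eq_one t
    rwa [hord, pow_two] at this
  have htinv : t⁻¹ = t := inv_eq_of_mul_eq_one_right ht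
  have hmemY : ∀ x : X, x ∈ Yb ↔ x = 1 ∨ x = t := by
    intro x
    constructor
    · intro hx
      rw [← hYz] at hx
      obtain ⟨k, rfl⟩ := hx
      show t ^ k = 1 ∨ t ^ k = t
      rcases Int.even_or_odd k with ⟨m, rfl⟩ | ⟨m, rfl⟩
      · left
        rw [← two_mul, zpow_mul, zpow_two, ht, one_zpow]
      · right
        rw [zpow_add, zpow_one, zpow_mul, zpow_two, ht, one_zpow, one_mul]
    · rintro (rfl | rfl)
      · exact one_mem _
      · exact htY
  have hex : ∃ g : X, Subgroup.closure ({t, g * t * g⁻¹} : Set X) = ⊤ := by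
    by_contra hall0
    have hall : ∀ g : X, Subgroup.closure ({t, g * t * g⁻¹} : Set X) ≠ ⊤ :=
      fun g hg => hall0 ⟨g, hg⟩
    have hconjN : ∀ g : X, g * t * g⁻¹ ∈ Nb := by
      intro g
      have hle : Yb ≤ Subgroup.closure ({t, g * t * g⁻¹} : Set X) := by
        rw [← hYz, Subgroup.zpowers_le]
        exact Subgroup.subset_closure (Set.mem_insert _ _)
      exact h.max _ hle (hall g) (Subgroup.subset_closure (Set.mem_insert_of_mem _ rfl))
    apply h.ne_top
    rw [eq_top_iff, ← h.gen, Subgroup.normalClosure, Subgroup.closure_le]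
    intro x hx
    rw [Group.mem_conjugatesOfSet_iff] at hx
    obtain ⟨a, ha, hax⟩ := hx
    rw [isConj_iff] at hax
    obtain ⟨c, rfl⟩ := hax
    rcases (hmemY a).1 ha with rfl | rfl
    · simp
    · exact hconjN c
  obtain ⟨g, hg⟩ := hex
  obtain ⟨s, hs_def⟩ : ∃ s : X, s = g * t * g⁻¹ := ⟨_, rfl⟩
  rw [← hs_def] at hg
  have hs : s * s = 1 := by
    rw [hs_def]
    calc g * t * g⁻¹ * (g * t * g⁻¹) = g * (t * t) * g⁻¹ := by group
      _ = 1 := by rw [ht]; group
  have hsinv : s⁻¹ = s := inv_eq_of_mul_eq_one_right hs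
  have hdih := Cfsg.Agent.S2861P.TWO.aux_dih t s ht hs hg
  have hcomm := Cfsg.Agent.S2861P.TWO.aux_comm t s ht hs
  have hodd : ∃ k : ℤ, (t * s) ^ (2 * k + 1) = 1 := by
    have hsk : ∀ k : ℤ, (t * s) ^ k * t * ((t * s) ^ k)⁻¹ = (t * s) ^ (2 * k) * t := by
      intro k
      rw [← zpow_neg, mul_assoc, hcomm (-k), neg_neg, ← mul_assoc, ← zpow_add, two_mul]
    have hs2 : s = (t * s)⁻¹ * t := by
      rw [mul_inv_rev, htinv, hsinv, mul_assoc, ht, mul_one]
    have hsg : ∃ k : ℤ, s = (t * s) ^ k * t * ((t * s) ^ k)⁻¹ := by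
      rcases hdih g with ⟨k, hk⟩ | ⟨k, hk⟩
      · exact ⟨k, by rw [← hk]; exact hs_def⟩
      · refine ⟨k, ?_⟩
        calc s = g * t * g⁻¹ := hs_def
          _ = ((t * s) ^ k * t) * t * ((t * s) ^ k * t)⁻¹ := by rw [← hk]
          _ = (t * s) ^ k * t * ((t * s) ^ k)⁻¹ := by
            rw [mul_inv_rev, htinv]
            simp only [mul_assoc]
            rw [← mul_assoc t t, ht, one_mul]
    obtain ⟨k, hk⟩ := hsg
    refine ⟨k, ?_⟩
    rw [hsk k] at hk
    have h3 : (t * s)⁻¹ = (t * s) ^ (2 * k) := by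
      have h4 : (t * s)⁻¹ * t = (t * s) ^ (2 * k) * t := by rw [← hs2]; exact hk
      exact mul_right_cancel h4
    rw [zpow_add, zpow_one, ← h3, inv_mul_cancel]
  obtain ⟨k, hk⟩ := hodd
  exact ⟨t, s, k, ht1, ht, hs, hmemY, hg, hk⟩

/-- XFTWO : `|Yb| = 2`. -/
theorem XF_two {X : Type*} [Group X] [Finite X] (Yb Nb : Subgroup X) (h : Hyp Yb Nb)
    (h2 : Nat.card Yb = 2) : XFacts 2 Yb Nb := by
  obtain ⟨t, s, k, ht1, ht, hs, hmemY, hg, hk⟩ := XFTWO_aux_struct Yb Nb h h2
  have htinv : t⁻¹ = t := inv_eq_of_mul_eq_one_right ht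
  have hdih := Cfsg.Agent.S2861P.TWO.aux_dih t s ht hs hg
  have hcomm := Cfsg.Agent.S2861P.TWO.aux_comm t s ht hs
  set ρ : X := t * s with hρ
  have hkill : ∀ j : ℤ, ρ ^ (2 * j) = 1 → ρ ^ j = 1 := by
    intro j hj
    have : j = (2 * k + 1) * j + (2 * j) * (-k) := by ring
    rw [this, zpow_add, zpow_mul, zpow_mul, hk, hj, one_zpow, one_zpow, one_mul]
  have htY : t ∈ Yb := (hmemY t).2 (Or.inr rfl)
  -- the centralizer of `t` is `Yb`
  have hcent : ∀ x : X, x * t * x⁻¹ = t → x ∈ Yb := by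
    intro x hxt
    rw [hmemY]
    rcases hdih x with ⟨j, rfl⟩ | ⟨j, rfl⟩
    · left
      apply hkill
      rw [← zpow_neg, mul_assoc, hcomm (-j), neg_neg, ← mul_assoc, ← zpow_add] at hxt
      have : ρ ^ (j + j) = 1 := by
        have h5 : ρ ^ (j + j) * t = 1 * t := by rw [one_mul]; exact hxt
        exact mul_right_cancel h5
      rwa [two_mul]
    · right
      have h6 : ρ ^ j = 1 := by
        apply hkill
        have h7 : ρ ^ j * t * t * (ρ ^ j * t)⁻¹ = ρ ^ (j + j) * t := by
          rw [mul_inv_rev, htinv, ← zpow_neg]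
          simp only [mul_assoc]
          rw [← mul_assoc t t, ht, one_mul, hcomm (-j), neg_neg, ← mul_assoc, ← zpow_add]
        rw [h7] at hxt
        have h5 : ρ ^ (j + j) * t = 1 * t := by rw [one_mul]; exact hxt
        rw [two_mul]
        exact mul_right_cancel h5
      rw [h6, one_mul]
  -- an involution commuting with `t` is `t`
  have hinv : ∀ u : X, u ≠ 1 → u * u = 1 → t * u = u * t → u = t := by
    intro u hu1 huu hcu
    rcases hdih u with ⟨j, rfl⟩ | ⟨j, rfl⟩
    · exfalso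
      apply hu1
      apply hkill
      rw [two_mul, zpow_add]
      exact huu
    · -- t ρ^j t = ρ^j t t
      have e1 : t * (ρ ^ j * t) = ρ ^ (-j) := by
        rw [← mul_assoc, hcomm j, mul_assoc, ht, mul_one]
      have e2 : ρ ^ j * t * t = ρ ^ j := by rw [mul_assoc, ht, mul_one]
      rw [e1, e2] at hcu
      have e3 : ρ ^ (2 * j) = 1 := by
        have : ρ ^ (2 * j) = ρ ^ j * (ρ ^ (-j))⁻¹ := by
          rw [← zpow_neg, neg_neg, ← zpow_add, two_mul]
        rw [this, hcu, mul_inv_cancel]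
      rw [hkill j e3, one_mul]
  refine ⟨?_, ?_⟩
  · -- semireg
    intro t' ht' ht'1 x hx
    have htt : t' = t := by
      rcases (hmemY t').1 ht' with h1 | h1
      · exact absurd h1 ht'1
      · exact h1
    subst htt
    apply h.le
    apply hcent
    set u : X := x * t' * x⁻¹ with hu
    have huY : u ∈ Yb.map (cj x) := ⟨t', htY, rfl⟩
    have hu1 : u ≠ 1 := by
      intro h1
      apply ht1
      have : t' = x⁻¹ * u * x := by rw [hu]; group
      rw [this, h1]; group
    have huu : u * u = 1 := by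
      rw [hu]
      calc x * t' * x⁻¹ * (x * t' * x⁻¹) = x * (t' * t') * x⁻¹ := by group
        _ = 1 := by rw [ht]; group
    -- members of the conjugate
    have hmemC : ∀ y : X, y ∈ Yb.map (cj x) → y = 1 ∨ y = u := by
      intro y hy
      rw [Cfsg.Agent.Helper14.mem_map_cj] at hy
      rcases (hmemY _).1 hy with h1 | h1
      · left
        have : y = x * (x⁻¹ * y * x) * x⁻¹ := by group
        rw [this, h1]; group
      · right
        have : y = x * (x⁻¹ * y * x) * x⁻¹ := by group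
        rw [this, h1]
    have hconj : t' * u * t'⁻¹ ∈ Yb.map (cj x) :=
      (Subgroup.mem_normalizer_iff.1 hx u).1 huY
    have hcu : t' * u = u * t' := by
      rcases hmemC _ hconj with h1 | h1
      · exfalso
        apply hu1
        have : u = t'⁻¹ * (t' * u * t'⁻¹) * t' := by group
        rw [this, h1]; group
      · calc t' * u = (t' * u * t'⁻¹) * t' := by group
          _ = u * t' := by rw [h1]
    exact hinv u hu1 huu hcu
  · -- factor
    intro g hgord
    have hg1 : g ≠ 1 := by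
      intro h1
      apply hgord
      exact ⟨0, by rw [h1, orderOf_one, pow_zero]⟩
    rcases hdih g with ⟨j, hj⟩ | ⟨j, hj⟩
    · -- g = ρ^j
      set m : ℤ := k * j with hm
      have hρ1 : ρ ^ (-(2 * k)) = ρ := by
        have : ρ = ρ ^ (2 * k + 1) * ρ ^ (-(2 * k)) := by
          rw [← zpow_add]
          have : 2 * k + 1 + -(2 * k) = 1 := by ring
          rw [this, zpow_one]
        rw [hk, one_mul] at this
        exact this.symm
      have hgm : g = ρ ^ (-(2 * m)) := by
        have : -(2 * m) = (-(2 * k)) * j := by rw [hm]; ring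
        rw [this, zpow_mul, hρ1, hj]
      set s' : X := ρ ^ m * t * (ρ ^ m)⁻¹ with hs'
      have hs'eq : s' = ρ ^ (2 * m) * t := by
        rw [hs', ← zpow_neg, mul_assoc, hcomm (-m), neg_neg, ← mul_assoc, ← zpow_add, two_mul]
      have hts : g = t * s' := by
        rw [hs'eq, ← mul_assoc, hcomm (2 * m), mul_assoc, ht, mul_one, hgm]
      have hs'1 : s' ≠ 1 := by
        intro h1
        apply ht1
        have : t = (ρ ^ m)⁻¹ * s' * ρ ^ m := by rw [hs']; group
        rw [this, h1]; group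
      refine ⟨1, ρ ^ m, t, s', ?_, ⟨t, htY, rfl⟩, ht1, hs'1, ?_, Or.inl hts⟩
      · rw [Cfsg.Agent.Helper14.map_cj_one]; exact htY
      · intro heq
        rw [Cfsg.Agent.Helper14.map_cj_one] at heq
        have hs'Y : s' ∈ Yb := by rw [heq]; exact ⟨t, htY, rfl⟩
        rcases (hmemY s').1 hs'Y with h1 | h1
        · exact hs'1 h1
        · apply hg1
          rw [hts, h1, ht]
    · -- g = ρ^j t has order dividing 2
      exfalso
      apply hgord
      have hgg : g * g = 1 := by
        rw [hj]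
        calc ρ ^ j * t * (ρ ^ j * t) = ρ ^ j * (t * ρ ^ j) * t := by group
          _ = ρ ^ j * (ρ ^ (-j) * t) * t := by rw [hcomm j]
          _ = (ρ ^ j * ρ ^ (-j)) * (t * t) := by group
          _ = 1 := by rw [← zpow_add, ht]; simp
      have hd : orderOf g ∣ 2 := by
        apply orderOf_dvd_of_pow_eq_one
        rw [pow_two]; exact hgg
      rcases (Nat.dvd_prime Nat.prime_two).1 hd with h1 | h1
      · exact ⟨0, by rw [h1, pow_zero]⟩
      · exact ⟨1, by rw [h1, pow_one]⟩

end Cfsg.Agent.S2863P
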