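import Mathlib
import Cfsg.Agent.Helper14.S2863Defs
import Cfsg.Agent.Helper14.S2863SZ
import Cfsg.Agent.Helper14.S2863XFTR
import Cfsg.Agent.Helper18.S2863XFTWO
import Cfsg.Agent.Helper6.S2861GLUE

/-! Board `s2863pieces`, row XFCORE: core, with the `SL₂` row (`XF_SL2`) as a hypothesis. -/

set_option autoImplicit false

namespace Cfsg.Agent.S2863P

open Cfsg Subgroup
open Cfsg.Agent.Helper14 (cj)
open Cfsg.Agent.S2861P (Hyp)

/-- XFCORE, with the statement of row SL2 (at `F : Type`) as a hypothesis. -/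
theorem XFCORE_aux_core {X : Type*} [Group X] [Finite X] (p : ℕ) [Fact p.Prime] (Yb Nb : Subgroup X)
    (hSL2 : ∀ (F : Type) [Field F] [Fintype F]
      (Yb' Nb' : Subgroup (Matrix.SpecialLinearGroup (Fin 2) F)), Hyp Yb' Nb' →
      IsPGroup p ↥Yb' → Nat.card Yb' = Fintype.card F → XFacts p Yb' Nb')
    (h : Hyp Yb Nb) (hY : IsElementaryAbelian p Yb)
    (htri : (∃ (F : Type) (_ : Field F) (_ : Fintype F), Fintype.card F = Nat.card Yb ∧
        Nonempty (X ≃* Matrix.SpecialLinearGroup (Fin 2) F)) ∨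
      (p = 2 ∧ ∃ (F : Type) (_ : Field F) (_ : Fintype F) (m : ℕ),
        Fintype.card F = 2 ^ (2 * m + 1) ∧ Fintype.card F = Nat.card Yb ∧
          Nonempty (X ≃* ↥(Lie.Sz F (2 ^ (m + 1))))) ∨
      (p = 2 ∧ ∃ r : ℕ, r.Prime ∧ r ≠ 2 ∧ Nonempty (X ≃* DihedralGroup r))) :
    XFacts p Yb Nb := by
  rcases htri with ⟨F, iF, iFt, hcard, ⟨e⟩⟩ | ⟨rfl, F, iF, iFt, m, hF, hcard, ⟨e⟩⟩ |
    ⟨rfl, r, hr, hr2, ⟨e⟩⟩
  · obtain ⟨t1, t2, t3, t4⟩ := Cfsg.Agent.S2861P.TRANSPORT e p Yb Nb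
    apply XFacts.of_equiv e
    apply hSL2 F _ _ (t1 h)
    · exact Cfsg.Agent.Helper14.isPGroup_of_isElementaryAbelian (t4 hY)
    · rw [t3, hcard]
  · rcases Nat.eq_zero_or_pos m with hm | hm
    · subst hm
      apply XF_two Yb Nb h
      rw [← hcard, hF]; norm_num
    · let e' : X ≃* ↥(Cfsg.Sz F m) := e.trans (Cfsg.Agent.Helper11.SzBridge.szEquiv hF hm).symm
      obtain ⟨t1, t2, t3, t4⟩ := Cfsg.Agent.S2861P.TRANSPORT e' 2 Yb Nb
      apply XFacts.of_equiv e'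
      exact XF_SZ hm hF _ _ (t1 h) (t4 hY)
  · apply XF_two Yb Nb h
    have hX : Nat.card X = 2 * r := by
      rw [Nat.card_congr e.toEquiv, DihedralGroup.nat_card]
    have hYp : IsPGroup 2 Yb := Cfsg.Agent.Helper14.isPGroup_of_isElementaryAbelian hY
    obtain ⟨k, hk⟩ := hYp.exists_card_eq
    have hdvd : Nat.card Yb ∣ Nat.card X := Subgroup.card_subgroup_dvd_card Yb
    rw [hk, hX] at hdvd
    have hne : Nat.card Yb ≠ 1 := by
      intro h1
      exact Cfsg.Agent.S2861P.GLUE.aux_ne_bot h (Subgroup.card_eq_one.1 h1)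
    rw [hk] at hne ⊢
    have hk1 : k ≠ 0 := by
      rintro rfl
      exact hne (pow_zero 2)
    have hk2 : k < 2 := by
      by_contra hk2
      push Not at hk2
      have h4 : 2 ^ 2 ∣ 2 * r := (pow_dvd_pow 2 hk2).trans hdvd
      have h2r : 2 ∣ r := by
        have : 2 * 2 ∣ 2 * r := by simpa using h4
        exact (Nat.mul_dvd_mul_iff_left (by norm_num)).1 this
      rcases (Nat.dvd_prime hr).1 h2r with h | h
      · omega
      · exact hr2 h.symm
    have : k = 1 := by omega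
    rw [this, pow_one]

end Cfsg.Agent.S2863P
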