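import Mathlib
import Cfsg.Agent.Helper18.S2863XFCOREaux
import Cfsg.Agent.Helper27.S2863SL2CORE

/-! Board `s2863pieces`, row XFCORE. -/

set_option autoImplicit false

namespace Cfsg.Agent.S2863P

open Cfsg Subgroup
open Cfsg.Agent.Helper14 (cj)
open Cfsg.Agent.S2861P (Hyp)

/-- XFCORE : the trichotomy gives `XFacts` (as `Cfsg.Agent.S2861P.GLUE.aux_core`). -/
theorem XF_core {X : Type*} [Group X] [Finite X] (p : ℕ) [Fact p.Prime] (Yb Nb : Subgroup X)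
    (h : Hyp Yb Nb) (hY : IsElementaryAbelian p Yb)
    (htri : (∃ (F : Type) (_ : Field F) (_ : Fintype F), Fintype.card F = Nat.card Yb ∧
        Nonempty (X ≃* Matrix.SpecialLinearGroup (Fin 2) F)) ∨
      (p = 2 ∧ ∃ (F : Type) (_ : Field F) (_ : Fintype F) (m : ℕ),
        Fintype.card F = 2 ^ (2 * m + 1) ∧ Fintype.card F = Nat.card Yb ∧
          Nonempty (X ≃* ↥(Lie.Sz F (2 ^ (m + 1))))) ∨
      (p = 2 ∧ ∃ r : ℕ, r.Prime ∧ r ≠ 2 ∧ Nonempty (X ≃* DihedralGroup r))) :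
    XFacts p Yb Nb :=
  XFCORE_aux_core p Yb Nb (fun _ _ _ Yb' Nb' h1 h2 h3 => XF_SL2 p Yb' Nb' h1 h2 h3) h hY htri

end Cfsg.Agent.S2863P
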