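import Mathlib
import Cfsg.Agent.Helper29.TV2Basic
import Cfsg.Agent.Helper24.TV2_DE
import Cfsg.Agent.Helper8.TV2_SYMM
import Cfsg.Agent.Helper11.TV2_TRANS
import Cfsg.Agent.Helper24.TV2_KCARD

/-! Board `s2981pieces`, row `Q2_LIN` (helper18): the centres of the members of `D1` are linearly independent (over `ZMod 2`: no nonempty
finite set of them sums to `0`). Parity count in the clique `K` of a member `y₁` of the set `S`: `φ_{y₀}(∑_{y ∈ S} c_y)` is the number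
of `y ∈ S` in the clique of `y₀` other than `y₀`; `y₀ := y₁` shows `#(S ∩ K)` is odd; as `|K|` is even some `y₀ ∈ K` is not in `S`,
and it gives `#(S ∩ K)` even. -/

set_option autoImplicit false
set_option linter.unusedSectionVars false

namespace Cfsg.Agent.TV2

variable {P : Type*} [Group P] [Finite P] {W : Type*} [AddCommGroup W] [Module (ZMod 2) W] [Finite W] [DistribMulAction P W]

open Classical in
/-- `B y₀ y = 1` iff `y` is in the clique of `y₀` and `y ≠ y₀` -/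
theorem LIN_aux_B_eq (C : Ctx P W) {y₀ y : P} (hy₀ : y₀ ∈ C.D1) (hy : y ∈ C.D1) :
    B W y₀ y = if (y ∈ C.K y₀ ∧ y ≠ y₀) then 1 else 0 := by
  classical
  have hs := SYMM C hy₀.1 hy.1
  by_cases h : y ∈ C.K y₀ ∧ y ≠ y₀
  · rw [if_pos h, hs]
    rcases h.1.2 with h1 | h1
    · exact absurd h1 h.2
    · exact h1
  · rw [if_neg h]
    by_cases hyy : y = y₀
    · rw [hyy]; exact B_self (DE_tv C hy₀.1)
    · have h2 : B W y y₀ ≠ 1 := fun h1 => h ⟨⟨hy, Or.inr h1⟩, hyy⟩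
      rw [hs]
      have h3 : ∀ t : ZMod 2, t ≠ 1 → t = 0 := by decide
      exact h3 _ h2

open Classical in
/-- the value of `φ_{y₀}` on the sum of the centres -/
theorem LIN_aux_fn_sum (C : Ctx P W) (S : Finset P) (hS : ∀ y ∈ S, y ∈ C.D1) {y₀ : P} (hy₀ : y₀ ∈ C.D1) :
    fn W y₀ (∑ y ∈ S, cen W y) = ((S.filter (fun y => y ∈ C.K y₀ ∧ y ≠ y₀)).card : ZMod 2) := by
  classical
  rw [map_sum, Finset.card_filter, Nat.cast_sum]
  apply Finset.sum_congr rfl
  intro y hy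
  have := LIN_aux_B_eq C hy₀ (hS y hy)
  unfold B at this
  rw [this]
  split_ifs <;> simp

theorem LIN (C : Ctx P W) (S : Finset P) (hS : ∀ y ∈ S, y ∈ C.D1) (hne : S.Nonempty) : ∑ y ∈ S, cen W y ≠ 0 := by
  classical
  intro hsum
  obtain ⟨y₁, hy₁⟩ := hne
  have hy₁D := hS y₁ hy₁
  -- every `y₀ ∈ D1` gives an even count
  have hev : ∀ y₀ ∈ C.D1, ((S.filter (fun y => y ∈ C.K y₀ ∧ y ≠ y₀)).card : ZMod 2) = 0 := by
    intro y₀ hy₀
    rw [← LIN_aux_fn_sum C S hS hy₀, hsum, map_zero]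
  set SK : Finset P := S.filter (fun y => y ∈ C.K y₁) with hSK
  have hy₁K : y₁ ∈ C.K y₁ := ⟨hy₁D, Or.inl rfl⟩
  have hy₁SK : y₁ ∈ SK := by rw [hSK, Finset.mem_filter]; exact ⟨hy₁, hy₁K⟩
  -- `#SK` is odd
  have h1 : S.filter (fun y => y ∈ C.K y₁ ∧ y ≠ y₁) = SK.erase y₁ := by
    ext y
    simp only [Finset.mem_filter, Finset.mem_erase, hSK]
    tauto
  have h2 := hev y₁ hy₁D
  rw [h1, Finset.card_erase_of_mem hy₁SK] at h2
  have hpos : 0 < SK.card := Finset.card_pos.mpr ⟨y₁, hy₁SK⟩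
  have hodd : ((SK.card : ℕ) : ZMod 2) = 1 := by
    have : ((SK.card - 1 : ℕ) : ZMod 2) + 1 = ((SK.card : ℕ) : ZMod 2) := by
      rw [← Nat.cast_one (R := ZMod 2), ← Nat.cast_add, Nat.sub_add_cancel hpos]
    rw [← this, h2, zero_add]
  -- some member of `K` is not in `S`
  obtain ⟨n, hn, hK⟩ := KCARD C
  have hKc := hK y₁ hy₁D
  have hex : ∃ y₀ ∈ C.K y₁, y₀ ∉ S := by
    by_contra hcon
    push Not at hcon
    have hset : (SK : Set P) = C.K y₁ := by
      ext y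
      simp only [hSK, Finset.coe_filter, Set.mem_ofPred_eq]
      exact ⟨fun h => h.2, fun h => ⟨hcon y h, h⟩⟩
    rw [← hset, Set.ncard_coe_finset] at hKc
    rw [hKc] at hodd
    have : ((2 ^ n : ℕ) : ZMod 2) = 0 := by
      rw [Nat.cast_pow]
      have h20 : ((2 : ℕ) : ZMod 2) = 0 := by decide
      rw [h20, zero_pow (by omega)]
    rw [this] at hodd
    exact zero_ne_one hodd
  obtain ⟨y₀, hy₀K, hy₀S⟩ := hex
  have hKeq : C.K y₀ = C.K y₁ := TRANS_K_eq C hy₁D hy₀K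
  have h3 : S.filter (fun y => y ∈ C.K y₀ ∧ y ≠ y₀) = SK := by
    ext y
    simp only [Finset.mem_filter, hSK, hKeq]
    constructor
    · exact fun h => ⟨h.1, h.2.1⟩
    · exact fun h => ⟨h.1, h.2, fun hyy => hy₀S (hyy ▸ h.1)⟩
  have h4 := hev y₀ hy₀K.1
  rw [h3, hodd] at h4
  exact one_ne_zero h4

end Cfsg.Agent.TV2
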