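import Mathlib
import Cfsg.Prelude.Def_BaumannBlocks
import Cfsg.Agent.Helper12.S3000PKGco

/-! S3001, case (b), the core `BLINE` for one component `E ≅ SL₂(F)`, `|F| = 2ⁿ ≥ 4`, acting on `Ut / U₀` as on the natural module, the
elements of odd order of `E` centralising `U₀`, and `T₁` a `2`-subgroup of `E` of maximal order: (1) every element of `T₁` is a product
of two elements of odd order of `E` (`u(b) = d · (u(c) d⁻¹ u(c)⁻¹)`, `d = diag(λ, λ⁻¹)`); (2) some `h ∈ E` of odd order normalises `T₁`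
and moves some `v ∈ Ut` that `T₁` centralises (the full preimage of the fixed line of `T₁` is centralised by `T₁`). -/

set_option autoImplicit false

namespace Cfsg.Agent.S3001P

open Matrix
open scoped commutatorElement
open Cfsg.Agent.S3000P (unipU diagT unipU_mul unipU_zero unipU_coe diagT_coe unipU_mulVec diagT_mulVec diagT_mul diagT_one
  diagT_conj_unipU unipU_injective PKG_aux_sl2_trans PKG_aux_sl2_stab)

/-! ### matrices -/

section mat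

variable {F : Type} [Field F]

theorem BLINE18_aux_char2 [Fintype F] {n : ℕ} (hn : 1 ≤ n) (hF : Fintype.card F = 2 ^ n) : CharP F 2 := by
  apply CharTwo.of_one_ne_zero_of_two_eq_zero one_ne_zero
  have h := FiniteField.cast_card_eq_zero F
  rw [hF] at h
  push_cast at h
  exact pow_eq_zero_iff (by omega) |>.mp h

theorem BLINE18_aux_unip_inv (t : F) : (unipU t : SpecialLinearGroup (Fin 2) F)⁻¹ = unipU (-t) := by
  apply inv_eq_of_mul_eq_one_right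
  rw [unipU_mul, add_neg_cancel, unipU_zero]

theorem BLINE18_aux_diag_pow (l : Fˣ) (k : ℕ) : (diagT l : SpecialLinearGroup (Fin 2) F) ^ k = diagT (l ^ k) := by
  induction k with
  | zero => rw [pow_zero, pow_zero, diagT_one]
  | succ k ih => rw [pow_succ, pow_succ, ih, diagT_mul]

theorem BLINE18_aux_diag_pow_card [Fintype F] (l : Fˣ) : (diagT l : SpecialLinearGroup (Fin 2) F) ^ (Fintype.card F - 1) = 1 := by
  classical
  rw [BLINE18_aux_diag_pow, ← Fintype.card_units, pow_card_eq_one, diagT_one]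

/-- `u(b) = d (u(c) d⁻¹ u(c)⁻¹)` -/
theorem BLINE18_aux_unip_eq (l : Fˣ) {b c : F} (h : (l : F) ^ 2 * c - c = b) :
    (unipU b : SpecialLinearGroup (Fin 2) F) = diagT l * (unipU c * (diagT l)⁻¹ * (unipU c)⁻¹) := by
  have h1 := diagT_conj_unipU l c
  calc (unipU b : SpecialLinearGroup (Fin 2) F) = unipU ((l : F) ^ 2 * c) * unipU (-c) := by
        rw [unipU_mul, ← h, sub_eq_add_neg]
    _ = (diagT l * unipU c * (diagT l)⁻¹) * (unipU c)⁻¹ := by rw [h1, BLINE18_aux_unip_inv]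
    _ = _ := by group

theorem BLINE18_aux_exists_unit [Fintype F] {n : ℕ} (hn : 2 ≤ n) (hF : Fintype.card F = 2 ^ n) : ∃ l : Fˣ, (l : F) ≠ 1 := by
  classical
  have h4 : 2 < Fintype.card F := by
    rw [hF]
    calc 2 < 2 ^ 2 := by norm_num
      _ ≤ 2 ^ n := Nat.pow_le_pow_right (by norm_num) hn
  have hc : ({0, 1} : Finset F).card < (Finset.univ : Finset F).card := by
    rw [Finset.card_univ]
    exact lt_of_le_of_lt Finset.card_le_two h4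
  obtain ⟨x, -, hx⟩ := Finset.exists_mem_notMem_of_card_lt_card hc
  simp only [Finset.mem_insert, Finset.mem_singleton, not_or] at hx
  exact ⟨Units.mk0 x hx.1, hx.2⟩

theorem BLINE18_aux_sq_ne_one [CharP F 2] {x : F} (hx : x ≠ 1) : x ^ 2 - 1 ≠ 0 := by
  intro h
  apply hx
  have h1 : (x - 1) ^ 2 = 0 := by
    have h2 : (2 : F) = 0 := CharTwo.two_eq_zero
    calc (x - 1) ^ 2 = (x ^ 2 - 1) - 2 * x + 2 := by ring
      _ = 0 := by rw [h, h2]; ring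
  exact sub_eq_zero.mp (pow_eq_zero_iff (by norm_num) |>.mp h1)

theorem BLINE18_aux_mulVec_inj (g : SpecialLinearGroup (Fin 2) F) {x y : Fin 2 → F}
    (h : (g : Matrix (Fin 2) (Fin 2) F).mulVec x = (g : Matrix (Fin 2) (Fin 2) F).mulVec y) : x = y := by
  have h1 := congrArg ((g⁻¹ : SpecialLinearGroup (Fin 2) F) : Matrix (Fin 2) (Fin 2) F).mulVec h
  rwa [Matrix.mulVec_mulVec, Matrix.mulVec_mulVec, ← Matrix.SpecialLinearGroup.coe_mul, inv_mul_cancel,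
    Matrix.SpecialLinearGroup.coe_one, Matrix.one_mulVec, Matrix.one_mulVec] at h1

theorem BLINE18_aux_conj_mulVec (g u : SpecialLinearGroup (Fin 2) F) (x : Fin 2 → F) :
    ((g * u * g⁻¹ : SpecialLinearGroup (Fin 2) F) : Matrix (Fin 2) (Fin 2) F).mulVec
      ((g : Matrix (Fin 2) (Fin 2) F).mulVec x) =
      (g : Matrix (Fin 2) (Fin 2) F).mulVec ((u : Matrix (Fin 2) (Fin 2) F).mulVec x) := by
  have h : g * u * g⁻¹ * g = g * u := by group
  rw [Matrix.mulVec_mulVec, Matrix.mulVec_mulVec, ← Matrix.SpecialLinearGroup.coe_mul,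
    ← Matrix.SpecialLinearGroup.coe_mul, h]

end mat

/-! ### the data -/

/-- the data of `BLINE` -/
structure BLD {G : Type*} [Group G] (F : Type) [Field F] [Fintype F] (E Ut U₀ : Subgroup G) where
  ρ : ↥E →* SpecialLinearGroup (Fin 2) F
  ψ : ↥Ut →* Multiplicative (Fin 2 → F)
  n : ℕ
  hn : 2 ≤ n
  hF : Fintype.card F = 2 ^ n
  hab : ∀ u ∈ Ut, ∀ v ∈ Ut, u * v = v * u
  hexp : ∀ u ∈ Ut, u * u = 1
  hEN : E ≤ Subgroup.normalizer (Ut : Set G)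
  hρ : Function.Bijective ρ
  hψ : Function.Surjective ψ
  hker : ∀ u : ↥Ut, ψ u = 1 ↔ (u : G) ∈ U₀
  heq : ∀ (e : ↥E) (u : ↥Ut), ∃ w : ↥Ut, (w : G) = (e : G) * (u : G) * (e : G)⁻¹ ∧
    Multiplicative.toAdd (ψ w) =
      ((ρ e : SpecialLinearGroup (Fin 2) F) : Matrix (Fin 2) (Fin 2) F).mulVec (Multiplicative.toAdd (ψ u))
  hcen : ∀ x ∈ E, Odd (orderOf x) → ∀ u ∈ U₀, x * u = u * x

namespace BLD

variable {G : Type*} [Group G] {F : Type} [Field F] [Fintype F] {E Ut U₀ : Subgroup G}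

theorem charP (S : BLD F E Ut U₀) : CharP F 2 := BLINE18_aux_char2 (by have := S.hn; omega) S.hF

/-- the coordinates of `u ∈ Ut` -/
def φ (S : BLD F E Ut U₀) (u : ↥Ut) : Fin 2 → F := Multiplicative.toAdd (S.ψ u)

theorem φ_mul (S : BLD F E Ut U₀) (u v : ↥Ut) : S.φ (u * v) = S.φ u + S.φ v := by
  unfold φ; rw [map_mul]; rfl

theorem φ_one (S : BLD F E Ut U₀) : S.φ 1 = 0 := by
  unfold φ; rw [map_one]; rfl

theorem φ_eq_zero_iff (S : BLD F E Ut U₀) (u : ↥Ut) : S.φ u = 0 ↔ (u : G) ∈ U₀ := by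
  rw [← S.hker]
  unfold φ
  constructor
  · intro h
    exact Multiplicative.toAdd.injective h
  · intro h
    rw [h]; rfl

theorem φ_surj (S : BLD F E Ut U₀) (x : Fin 2 → F) : ∃ u : ↥Ut, S.φ u = x := by
  obtain ⟨u, hu⟩ := S.hψ (Multiplicative.ofAdd x)
  exact ⟨u, by unfold φ; rw [hu]; rfl⟩

theorem comm (S : BLD F E Ut U₀) (u v : ↥Ut) : u * v = v * u := Subtype.ext (S.hab u u.2 v v.2)

theorem mul_self (S : BLD F E Ut U₀) (u : ↥Ut) : u * u = 1 := Subtype.ext (S.hexp u u.2)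

theorem inv_eq (S : BLD F E Ut U₀) (u : ↥Ut) : u⁻¹ = u := inv_eq_of_mul_eq_one_left (S.mul_self u)

/-- the conjugation action of `E` on `Ut` -/
def cj (S : BLD F E Ut U₀) (x : ↥E) (u : ↥Ut) : ↥Ut :=
  ⟨(x : G) * (u : G) * (x : G)⁻¹, (Subgroup.mem_normalizer_iff.mp (S.hEN x.2) u).mp u.2⟩

@[simp] theorem coe_cj (S : BLD F E Ut U₀) (x : ↥E) (u : ↥Ut) :
    ((S.cj x u : ↥Ut) : G) = (x : G) * (u : G) * (x : G)⁻¹ := rfl

theorem φ_cj (S : BLD F E Ut U₀) (x : ↥E) (u : ↥Ut) :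
    S.φ (S.cj x u) = ((S.ρ x : SpecialLinearGroup (Fin 2) F) : Matrix (Fin 2) (Fin 2) F).mulVec (S.φ u) := by
  obtain ⟨w, hw, h⟩ := S.heq x u
  have : w = S.cj x u := Subtype.ext hw
  rw [← this]
  exact h

/-- the preimage of a matrix -/
noncomputable def pel (S : BLD F E Ut U₀) (g : SpecialLinearGroup (Fin 2) F) : ↥E :=
  (Equiv.ofBijective S.ρ S.hρ).symm g

theorem ρ_pel (S : BLD F E Ut U₀) (g : SpecialLinearGroup (Fin 2) F) : S.ρ (S.pel g) = g :=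
  (Equiv.ofBijective S.ρ S.hρ).apply_symm_apply _

theorem pel_ρ (S : BLD F E Ut U₀) (e : ↥E) : S.pel (S.ρ e) = e :=
  (Equiv.ofBijective S.ρ S.hρ).symm_apply_apply _

theorem pel_mul (S : BLD F E Ut U₀) (g h : SpecialLinearGroup (Fin 2) F) : S.pel (g * h) = S.pel g * S.pel h := by
  apply S.hρ.1
  rw [map_mul, ρ_pel, ρ_pel, ρ_pel]

theorem odd_orderOf_pel (S : BLD F E Ut U₀) {g : SpecialLinearGroup (Fin 2) F} {k : ℕ} (hk : Odd k) (h : g ^ k = 1) :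
    Odd (orderOf ((S.pel g : ↥E) : G)) := by
  rw [Subgroup.orderOf_coe]
  have h1 : (S.pel g) ^ k = 1 := by
    apply S.hρ.1
    rw [map_pow, ρ_pel, h, map_one]
  exact Odd.of_dvd_nat hk (orderOf_dvd_of_pow_eq_one h1)

theorem odd_card_sub_one (S : BLD F E Ut U₀) : Odd (Fintype.card F - 1) := by
  rw [S.hF]
  have h1 : 1 ≤ S.n := by have := S.hn; omega
  have h2 : Even (2 ^ S.n) := (Nat.even_pow' (by omega)).mpr (by norm_num)
  have h3 : 1 ≤ 2 ^ S.n := Nat.one_le_two_pow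
  exact Nat.Even.sub_odd h3 h2 (by norm_num)

/-- part 1 for an element mapping to a conjugate of `u(b)` -/
theorem part1 (S : BLD F E Ut U₀) {g₀ : SpecialLinearGroup (Fin 2) F} {e : ↥E} {b : F}
    (h : S.ρ e = g₀ * unipU b * g₀⁻¹) :
    ∃ x ∈ E, ∃ y ∈ E, Odd (orderOf x) ∧ Odd (orderOf y) ∧ (e : G) = x * y := by
  have := S.charP
  obtain ⟨l, hl⟩ := BLINE18_aux_exists_unit S.hn S.hF
  have hne := BLINE18_aux_sq_ne_one hl
  set c : F := b / ((l : F) ^ 2 - 1) with hc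
  have hcb : (l : F) ^ 2 * c - c = b := by
    rw [hc]; field_simp
  have hu := BLINE18_aux_unip_eq l hcb
  set d : SpecialLinearGroup (Fin 2) F := diagT l with hd
  have hdk : d ^ (Fintype.card F - 1) = 1 := BLINE18_aux_diag_pow_card l
  set x : SpecialLinearGroup (Fin 2) F := g₀ * d * g₀⁻¹ with hx
  set y : SpecialLinearGroup (Fin 2) F := (g₀ * unipU c) * d⁻¹ * (g₀ * unipU c)⁻¹ with hy
  have hxk : x ^ (Fintype.card F - 1) = 1 := by
    rw [hx, conj_pow, hdk]; group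
  have hyk : y ^ (Fintype.card F - 1) = 1 := by
    rw [hy, conj_pow, inv_pow, hdk]; group
  refine ⟨S.pel x, (S.pel x).2, S.pel y, (S.pel y).2, S.odd_orderOf_pel S.odd_card_sub_one hxk,
    S.odd_orderOf_pel S.odd_card_sub_one hyk, ?_⟩
  rw [← Subgroup.coe_mul, ← pel_mul]
  congr 1
  apply S.hρ.1
  rw [ρ_pel, h, hu, hx, hy]
  group

theorem finite_E (S : BLD F E Ut U₀) : Finite ↥E := Finite.of_injective S.ρ S.hρ.1

/-- the subgroup of `E` mapping onto `g₀ U⁺ g₀⁻¹` -/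
def Q (S : BLD F E Ut U₀) (g₀ : SpecialLinearGroup (Fin 2) F) : Subgroup G where
  carrier := {e | ∃ (he : e ∈ E) (t : F), S.ρ ⟨e, he⟩ = g₀ * unipU t * g₀⁻¹}
  one_mem' := by
    refine ⟨E.one_mem, 0, ?_⟩
    have : (⟨1, E.one_mem⟩ : ↥E) = 1 := rfl
    rw [this, map_one, unipU_zero]; group
  mul_mem' := by
    rintro a b ⟨ha, t, hta⟩ ⟨hb, t', htb⟩
    refine ⟨E.mul_mem ha hb, t + t', ?_⟩
    have : (⟨a * b, E.mul_mem ha hb⟩ : ↥E) = ⟨a, ha⟩ * ⟨b, hb⟩ := rfl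
    rw [this, map_mul, hta, htb, ← unipU_mul]; group
  inv_mem' := by
    rintro a ⟨ha, t, hta⟩
    refine ⟨E.inv_mem ha, -t, ?_⟩
    have : (⟨a⁻¹, E.inv_mem ha⟩ : ↥E) = ⟨a, ha⟩⁻¹ := rfl
    rw [this, map_inv, hta, ← BLINE18_aux_unip_inv]; group

theorem mem_Q (S : BLD F E Ut U₀) (g₀ : SpecialLinearGroup (Fin 2) F) (e : G) :
    e ∈ S.Q g₀ ↔ ∃ (he : e ∈ E) (t : F), S.ρ ⟨e, he⟩ = g₀ * unipU t * g₀⁻¹ := Iff.rfl

theorem Q_le (S : BLD F E Ut U₀) (g₀ : SpecialLinearGroup (Fin 2) F) : S.Q g₀ ≤ E := fun _ h => h.1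

theorem pel_mem_Q (S : BLD F E Ut U₀) (g₀ : SpecialLinearGroup (Fin 2) F) (t : F) :
    ((S.pel (g₀ * unipU t * g₀⁻¹) : ↥E) : G) ∈ S.Q g₀ :=
  ⟨(S.pel _).2, t, by rw [Subtype.coe_eta, ρ_pel]⟩

theorem Q_pgroup (S : BLD F E Ut U₀) (g₀ : SpecialLinearGroup (Fin 2) F) : IsPGroup 2 ↥(S.Q g₀) := by
  have := S.charP
  intro a
  refine ⟨1, ?_⟩
  obtain ⟨ha, t, hta⟩ := a.2
  apply Subtype.ext
  rw [pow_one, Subgroup.coe_pow, Subgroup.coe_one]
  have h1 : (⟨(a : G), ha⟩ : ↥E) ^ 2 = 1 := by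
    apply S.hρ.1
    rw [map_pow, hta, conj_pow, pow_two, unipU_mul, CharTwo.add_self_eq_zero, unipU_zero, map_one]; group
  exact congrArg Subtype.val h1

/-- a `2`-subgroup of `E` of maximal order is the preimage of a conjugate of the unitriangular group -/
theorem exists_g0 (S : BLD F E Ut U₀) {T₁ : Subgroup G} (hT₁E : T₁ ≤ E) (hT₁ : IsPGroup 2 ↥T₁)
    (hmax : ∀ Q : Subgroup G, Q ≤ E → IsPGroup 2 ↥Q → Nat.card ↥Q ≤ Nat.card ↥T₁) :
    ∃ g₀ : SpecialLinearGroup (Fin 2) F, T₁ = S.Q g₀ := by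
  have := S.charP
  let f : ↥T₁ →* SpecialLinearGroup (Fin 2) F := S.ρ.comp (Subgroup.inclusion hT₁E)
  let _ : DistribMulAction ↥T₁ (Fin 2 → F) := DistribMulAction.compHom (Fin 2 → F) f
  have hfix0 : (0 : Fin 2 → F) ∈ MulAction.fixedPoints ↥T₁ (Fin 2 → F) := fun a => smul_zero a
  have hdvd : 2 ∣ Nat.card (Fin 2 → F) := by
    rw [Nat.card_eq_fintype_card, Fintype.card_fun, Fintype.card_fin, S.hF, ← pow_mul]
    exact dvd_pow_self 2 (by have := S.hn; positivity)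
  have : Fact (Nat.Prime 2) := ⟨Nat.prime_two⟩
  obtain ⟨x₀, hx₀, hne⟩ := hT₁.exists_fixed_point_of_prime_dvd_card_of_fixed_point (Fin 2 → F) hdvd hfix0
  obtain ⟨g₁, hg₁⟩ := PKG_aux_sl2_trans x₀ (Ne.symm hne)
  refine ⟨g₁⁻¹, ?_⟩
  have hg₁' : ((g₁⁻¹ : SpecialLinearGroup (Fin 2) F) : Matrix (Fin 2) (Fin 2) F).mulVec ![1, 0] = x₀ := by
    rw [← hg₁, Matrix.mulVec_mulVec, ← Matrix.SpecialLinearGroup.coe_mul, inv_mul_cancel, Matrix.SpecialLinearGroup.coe_one,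
      Matrix.one_mulVec]
  have hle : T₁ ≤ S.Q g₁⁻¹ := by
    intro a ha
    refine ⟨hT₁E ha, ?_⟩
    have h1 : ((S.ρ ⟨a, hT₁E ha⟩ : SpecialLinearGroup (Fin 2) F) : Matrix (Fin 2) (Fin 2) F).mulVec x₀ = x₀ :=
      hx₀ ⟨a, ha⟩
    have h2 : ((g₁ * S.ρ ⟨a, hT₁E ha⟩ * g₁⁻¹ : SpecialLinearGroup (Fin 2) F) :
        Matrix (Fin 2) (Fin 2) F).mulVec ![1, 0] = ![1, 0] := by
      rw [Matrix.SpecialLinearGroup.coe_mul, Matrix.SpecialLinearGroup.coe_mul, ← Matrix.mulVec_mulVec, ← Matrix.mulVec_mulVec,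
        hg₁', h1, hg₁]
    obtain ⟨t, ht⟩ := PKG_aux_sl2_stab _ h2
    refine ⟨t, ?_⟩
    have h4 : g₁ * S.ρ ⟨a, hT₁E ha⟩ * g₁⁻¹ = unipU t := Subtype.ext (by rw [ht, unipU_coe])
    rw [inv_inv, ← h4]; group
  have hcard := hmax (S.Q g₁⁻¹) (S.Q_le g₁⁻¹) (S.Q_pgroup g₁⁻¹)
  have hfE := S.finite_E
  have : Finite ↥(S.Q g₁⁻¹) :=
    Finite.of_injective (Subgroup.inclusion (S.Q_le g₁⁻¹)) (Subgroup.inclusion_injective _)
  exact Subgroup.eq_of_le_of_card_ge hle hcard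

theorem cj_mul (S : BLD F E Ut U₀) (x y : ↥E) (u : ↥Ut) : S.cj (x * y) u = S.cj x (S.cj y u) := by
  apply Subtype.ext
  simp only [coe_cj, Subgroup.coe_mul]
  group

theorem cj_one (S : BLD F E Ut U₀) (u : ↥Ut) : S.cj 1 u = u := by
  apply Subtype.ext
  simp

theorem cj_mul_right (S : BLD F E Ut U₀) (x : ↥E) (u v : ↥Ut) : S.cj x (u * v) = S.cj x u * S.cj x v := by
  apply Subtype.ext
  simp only [coe_cj, Subgroup.coe_mul]
  group

/-- the elements of `Q g₀` centralise `U₀` -/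
theorem Q_cent_U0 (S : BLD F E Ut U₀) (g₀ : SpecialLinearGroup (Fin 2) F) {a : G} (ha : a ∈ S.Q g₀) {z : G}
    (hz : z ∈ U₀) : a * z = z * a := by
  obtain ⟨haE, t, hta⟩ := ha
  obtain ⟨x, hx, y, hy, hox, hoy, hxy⟩ := S.part1 hta
  have h1 := S.hcen x hx hox z hz
  have h2 := S.hcen y hy hoy z hz
  change a = x * y at hxy
  rw [hxy, mul_assoc, h2, ← mul_assoc, h1, mul_assoc]

/-- `Q g₀` centralises the full preimage of the line `F · g₀ e₁` -/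
theorem Q_centralises (S : BLD F E Ut U₀) (g₀ : SpecialLinearGroup (Fin 2) F) {a : G} (ha : a ∈ S.Q g₀) {v : ↥Ut}
    (hv : S.φ v = (g₀ : Matrix (Fin 2) (Fin 2) F).mulVec ![1, 0]) : a * (v : G) = (v : G) * a := by
  have := S.charP
  have ha' := ha
  obtain ⟨haE, t, hta⟩ := ha
  by_cases ht : t = 0
  · have h1 : (⟨a, haE⟩ : ↥E) = 1 := by
      apply S.hρ.1
      rw [hta, ht, unipU_zero, map_one]; group
    have h2 : a = 1 := congrArg Subtype.val h1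
    rw [h2, one_mul, mul_one]
  set ae : ↥E := ⟨a, haE⟩ with hae
  obtain ⟨w, hw⟩ := S.φ_surj ((g₀ : Matrix (Fin 2) (Fin 2) F).mulVec ![0, t⁻¹])
  set c : ↥Ut := S.cj ae w * w with hc
  have hφc : S.φ c = (g₀ : Matrix (Fin 2) (Fin 2) F).mulVec ![1, 0] := by
    rw [hc, φ_mul, φ_cj, hw, hta, BLINE18_aux_conj_mulVec, unipU_mulVec, ← Matrix.mulVec_add]
    congr 1
    funext i
    fin_cases i
    · simp [ht]
    · simp only [Fin.mk_one, Fin.isValue, Pi.add_apply, Matrix.cons_val_one, Matrix.cons_val_zero]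
      exact CharTwo.add_self_eq_zero _
  -- `a * a = 1`
  have haa : ae * ae = 1 := by
    apply S.hρ.1
    rw [map_mul, hta, map_one]
    calc g₀ * unipU t * g₀⁻¹ * (g₀ * unipU t * g₀⁻¹) = g₀ * (unipU t * unipU t) * g₀⁻¹ := by group
      _ = 1 := by rw [unipU_mul, CharTwo.add_self_eq_zero, unipU_zero]; group
  have hcc : S.cj ae c = c := by
    rw [hc, cj_mul_right, ← cj_mul, haa, cj_one, S.comm]
  set z : ↥Ut := c * v with hz
  have hzU : (z : G) ∈ U₀ := by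
    rw [← S.φ_eq_zero_iff, hz, φ_mul, hφc, hv]
    funext i
    exact CharTwo.add_self_eq_zero _
  have hvz : v = c * z := by
    rw [hz, ← mul_assoc, S.mul_self, one_mul]
  have hzc : S.cj ae z = z := by
    apply Subtype.ext
    rw [coe_cj]
    have := S.Q_cent_U0 g₀ ha' hzU
    change a * (z : G) * a⁻¹ = z
    rw [this]; group
  have hvc : S.cj ae v = v := by
    rw [hvz, cj_mul_right, hcc, hzc]
  have h3 := congrArg Subtype.val hvc
  rw [coe_cj] at h3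
  change a * (v : G) * a⁻¹ = v at h3
  calc a * (v : G) = (a * (v : G) * a⁻¹) * a := by group
    _ = (v : G) * a := by rw [h3]

/-- part 2 for `Q g₀` -/
theorem part2 (S : BLD F E Ut U₀) (g₀ : SpecialLinearGroup (Fin 2) F) :
    ∃ h ∈ E, Odd (orderOf h) ∧ (∀ a ∈ S.Q g₀, h * a * h⁻¹ ∈ S.Q g₀) ∧
      ∃ v ∈ Ut, (∀ a ∈ S.Q g₀, a * v = v * a) ∧ h * v * h⁻¹ ≠ v := by
  have := S.charP
  obtain ⟨l, hl⟩ := BLINE18_aux_exists_unit S.hn S.hF
  set d : SpecialLinearGroup (Fin 2) F := diagT l with hd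
  have hdk : d ^ (Fintype.card F - 1) = 1 := BLINE18_aux_diag_pow_card l
  set x : SpecialLinearGroup (Fin 2) F := g₀ * d * g₀⁻¹ with hx
  have hxk : x ^ (Fintype.card F - 1) = 1 := by
    rw [hx, conj_pow, hdk]; group
  refine ⟨S.pel x, (S.pel x).2, S.odd_orderOf_pel S.odd_card_sub_one hxk, ?_, ?_⟩
  · rintro a ⟨haE, t, hta⟩
    have hmem : ((S.pel x : ↥E) : G) * a * ((S.pel x : ↥E) : G)⁻¹ ∈ E :=
      E.mul_mem (E.mul_mem (S.pel x).2 haE) (E.inv_mem (S.pel x).2)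
    refine ⟨hmem, (l : F) ^ 2 * t, ?_⟩
    have e1 : (⟨((S.pel x : ↥E) : G) * a * ((S.pel x : ↥E) : G)⁻¹, hmem⟩ : ↥E) = S.pel x * ⟨a, haE⟩ * (S.pel x)⁻¹ := rfl
    rw [e1, map_mul, map_mul, map_inv, ρ_pel, hta, ← diagT_conj_unipU, hx, ← hd]
    group
  · obtain ⟨v, hv⟩ := S.φ_surj ((g₀ : Matrix (Fin 2) (Fin 2) F).mulVec ![1, 0])
    refine ⟨(v : G), v.2, fun a ha => S.Q_centralises g₀ ha hv, ?_⟩
    intro hcon
    have h1 : S.cj (S.pel x) v = v := Subtype.ext hcon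
    have h2 := congrArg S.φ h1
    rw [φ_cj, ρ_pel, hv, hx, BLINE18_aux_conj_mulVec] at h2
    have h3 := BLINE18_aux_mulVec_inj g₀ h2
    rw [hd, diagT_mulVec] at h3
    have h4 := congrFun h3 0
    simp at h4
    exact hl (by rw [h4]; rfl)

end BLD

/-- **BLINE**, second proof (the canonical `Cfsg.Agent.S3001P.BLINE` is in `Cfsg.Agent.Helper27.S3001BLINE`, landed first; this one is kept
under another name as an independent backup) -/
theorem BLINE_h18 {G : Type*} [Group G] [Finite G] {E₁ Ut U₀ T₁ : Subgroup G} {F : Type} [Field F] [Fintype F] {n : ℕ}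
    (hn : 2 ≤ n) (hF : Fintype.card F = 2 ^ n)
    (hab : ∀ u ∈ Ut, ∀ v ∈ Ut, u * v = v * u) (hexp : ∀ u ∈ Ut, u * u = 1)
    (hiso : Nonempty (↥E₁ ≃* Matrix.SpecialLinearGroup (Fin 2) F)) (hact : Cfsg.ActsAsSL2OnSection F ⊤ E₁ Ut U₀)
    (hcen : ∀ x ∈ E₁, Odd (orderOf x) → ∀ u ∈ U₀, x * u = u * x) (hT₁E : T₁ ≤ E₁) (hT₁ : IsPGroup 2 ↥T₁)
    (hmax : ∀ Q : Subgroup G, Q ≤ E₁ → IsPGroup 2 ↥Q → Nat.card ↥Q ≤ Nat.card ↥T₁) :
    (∀ a ∈ T₁, ∃ x ∈ E₁, ∃ y ∈ E₁, Odd (orderOf x) ∧ Odd (orderOf y) ∧ a = x * y) ∧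
      ∃ h ∈ E₁, Odd (orderOf h) ∧ (∀ a ∈ T₁, h * a * h⁻¹ ∈ T₁) ∧
        ∃ v ∈ Ut, (∀ a ∈ T₁, a * v = v * a) ∧ h * v * h⁻¹ ≠ v := by
  obtain ⟨hEN, -, ρ, ψ, hρ, hψ, hker, heq⟩ := hact
  obtain ⟨e⟩ := hiso
  have hsur : Function.Surjective ρ := MonoidHom.range_eq_top.mp hρ
  have hcard : Nat.card ↥E₁ = Nat.card (Matrix.SpecialLinearGroup (Fin 2) F) := Nat.card_congr e.toEquiv
  have hbij : Function.Bijective ρ := by
    rw [Nat.bijective_iff_surjective_and_card]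
    exact ⟨hsur, hcard⟩
  let S : BLD F E₁ Ut U₀ := ⟨ρ, ψ, n, hn, hF, hab, hexp, hEN, hbij, hψ, hker, heq, hcen⟩
  obtain ⟨g₀, hg₀⟩ := S.exists_g0 hT₁E hT₁ hmax
  rw [hg₀]
  refine ⟨?_, S.part2 g₀⟩
  rintro a ⟨haE, t, hta⟩
  exact S.part1 (e := ⟨a, haE⟩) hta

end Cfsg.Agent.S3001P
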