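import Mathlib
import Cfsg.Agent.Helper26.S3050Defs

set_option autoImplicit false
set_option linter.unusedSectionVars false
set_option linter.unusedVariables false

/-! Board `s3050pieces`, piece D5 (`quot_hyp`): the hypotheses "order 3, fixed-point-free on `Q`"
pass to `G ⧸ M` for a normal subgroup `M ≤ Q` (blueprint `departures/helper26_S3050_blueprint.md`). -/

namespace Cfsg.Agent.S3050P

open Cfsg.Agent.Helper18.NatMod Cfsg.Agent.S3050P
open scoped IsMulCommutative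

section groups

variable {F : Type*} [Field F] [CharP F 2]

local notation "SF" => Matrix.SpecialLinearGroup (Fin 2) F
local notation "MF" => Matrix (Fin 2) (Fin 2) F

variable {G : Type*} [Group G] (Q : Subgroup G) [Q.Normal]
  (e : G ⧸ Q ≃* Matrix.SpecialLinearGroup (Fin 2) F)

/-- `n ↦ n (x n x⁻¹)⁻¹` is onto `M` when `x` has no fixed points on `M` -/
theorem quot_hyp_aux_surj [Finite G] (M : Subgroup G) [M.Normal] (hMQ : M ≤ Q)
    (x : G) (hfpf : ∀ q ∈ Q, x * q * x⁻¹ = q → q = 1) (m : G) (hm : m ∈ M) :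
    ∃ n ∈ M, n * (x * n * x⁻¹)⁻¹ = m := by
  let f : ↥M → ↥M := fun n => ⟨(n : G) * (x * (n : G) * x⁻¹)⁻¹,
    M.mul_mem n.2 (M.inv_mem (Subgroup.Normal.conj_mem inferInstance _ n.2 x))⟩
  have hinj : Function.Injective f := by
    intro n n' h
    have h' : (n : G) * (x * (n : G) * x⁻¹)⁻¹ = (n' : G) * (x * (n' : G) * x⁻¹)⁻¹ :=
      congrArg Subtype.val h
    have hk : x * ((n' : G)⁻¹ * (n : G)) * x⁻¹ = (n' : G)⁻¹ * (n : G) := by
      have e1 : (n' : G)⁻¹ * (n : G) = (x * (n' : G) * x⁻¹)⁻¹ * (x * (n : G) * x⁻¹) := by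
        have := congrArg (fun t => (n' : G)⁻¹ * t * (x * (n : G) * x⁻¹)) h'
        simp only [mul_assoc, inv_mul_cancel_left, inv_mul_cancel, mul_one] at this
        rw [this]
        simp [mul_assoc]
      calc x * ((n' : G)⁻¹ * (n : G)) * x⁻¹
          = (x * (n' : G) * x⁻¹)⁻¹ * (x * (n : G) * x⁻¹) := by group
        _ = (n' : G)⁻¹ * (n : G) := e1.symm
    have h1 := hfpf _ (hMQ (M.mul_mem (M.inv_mem n'.2) n.2)) hk
    apply Subtype.ext
    exact (inv_mul_eq_one.mp h1).symm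
  have hsurj : Function.Surjective f := Finite.injective_iff_surjective.mp hinj
  obtain ⟨n, hn⟩ := hsurj ⟨m, hm⟩
  exact ⟨n, n.2, congrArg Subtype.val hn⟩

/-- D5 -/
theorem quot_hyp [Finite G] (M : Subgroup G) [M.Normal] (hMQ : M ≤ Q)
    (hMab : ∀ a ∈ M, ∀ b ∈ M, a * b = b * a)
    (x : G) (hx : orderOf x = 3) (hfpf : ∀ q ∈ Q, x * q * x⁻¹ = q → q = 1) :
    orderOf (x : G ⧸ M) = 3 ∧
      ∀ q' ∈ Q.map (QuotientGroup.mk' M), (x : G ⧸ M) * q' * (x : G ⧸ M)⁻¹ = q' → q' = 1 := by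
  constructor
  · have h3 : ((x : G ⧸ M)) ^ 3 = 1 := by
      rw [← QuotientGroup.mk_pow, ← hx, pow_orderOf_eq_one]
      rfl
    have hne : (x : G ⧸ M) ≠ 1 := by
      intro h1
      have hxM : x ∈ M := (QuotientGroup.eq_one_iff x).1 h1
      have : x = 1 := hfpf x (hMQ hxM) (by group)
      rw [this, orderOf_one] at hx
      omega
    exact orderOf_eq_prime h3 hne
  · rintro q' ⟨q, hq, rfl⟩ hfix
    have hmem : q⁻¹ * (x * q * x⁻¹) ∈ M := by
      have : ((x * q * x⁻¹ : G) : G ⧸ M) = (q : G ⧸ M) := by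
        simpa using hfix
      exact QuotientGroup.eq.1 this.symm
    obtain ⟨n, hn, hnm⟩ := quot_hyp_aux_surj Q M hMQ x hfpf _ hmem
    have hfixqn : x * (q * n) * x⁻¹ = q * n := by
      have e1 : x * q * x⁻¹ = q * (n * (x * n * x⁻¹)⁻¹) := by
        rw [hnm]; group
      have : x * (q * n) * x⁻¹ = (x * q * x⁻¹) * (x * n * x⁻¹) := by group
      rw [this, e1]
      group
    have h1 := hfpf _ (Q.mul_mem hq (hMQ hn)) hfixqn
    have hqM : q ∈ M := by
      have : q = n⁻¹ := eq_inv_of_mul_eq_one_left h1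
      rw [this]; exact M.inv_mem hn
    exact (QuotientGroup.eq_one_iff q).2 hqM

end groups

end Cfsg.Agent.S3050P
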