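import Mathlib
import Cfsg.Agent.Helper26.S3050Defs
import Cfsg.Agent.Helper26.S3050NS

set_option autoImplicit false
set_option linter.unusedSectionVars false
set_option linter.unusedVariables false

/-! Board `s3050pieces`, piece D8a (`iota_of_natStr`): a natural structure on a finite module `M`
gives a decomposition of `M` into copies of the natural module `F²`
(blueprint `departures/helper26_S3050_blueprint.md`). -/

namespace Cfsg.Agent.S3050P

open Cfsg.Agent.Helper18.NatMod Cfsg.Agent.S3050P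
open scoped IsMulCommutative

section modules

variable {F : Type*} [Field F] [CharP F 2]
variable {M : Type*} [AddCommGroup M] [DistribMulAction (Matrix.SpecialLinearGroup (Fin 2) F) M]

local notation "SF" => Matrix.SpecialLinearGroup (Fin 2) F
local notation "MF" => Matrix (Fin 2) (Fin 2) F

/-- the `F`-vector space structure on `W = C_M(u)` given by `κ` -/
@[reducible] def D8a_module (ns : NatStr F M) : Module F ↥(fixu F M) where
  smul c a := ⟨ka F c (a : M), ns.ka_mem c a.2⟩
  one_smul a := Subtype.ext (ns.ka_one (a : M))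
  mul_smul c d a := Subtype.ext (ns.ka_mul c d (a : M))
  smul_zero c := Subtype.ext (ns.ka_map_zero c)
  smul_add c a b := Subtype.ext (ns.ka_map_add c (a : M) (b : M))
  add_smul c d a := Subtype.ext (ns.ka_add c d (a : M))
  zero_smul a := Subtype.ext (ns.ka_zero (a : M))

/-- the embedding of `F²` attached to `a ∈ W` -/
def D8a_iota (ns : NatStr F M) (a : M) : (Fin 2 → F) →+ M where
  toFun v := ka F (v 0) a + (ww : SF) • ka F (v 1) a
  map_zero' := by
    show ka F ((0 : Fin 2 → F) 0) a + (ww : SF) • ka F ((0 : Fin 2 → F) 1) a = 0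
    rw [Pi.zero_apply, Pi.zero_apply, ns.ka_zero, smul_zero, add_zero]
  map_add' v v' := by
    show ka F ((v + v') 0) a + (ww : SF) • ka F ((v + v') 1) a
      = ka F (v 0) a + (ww : SF) • ka F (v 1) a + (ka F (v' 0) a + (ww : SF) • ka F (v' 1) a)
    rw [Pi.add_apply, Pi.add_apply, ns.ka_add, ns.ka_add, smul_add]
    abel

theorem D8a_iota_apply (ns : NatStr F M) (a : M) (v : Fin 2 → F) :
    D8a_iota ns a v = ka F (v 0) a + (ww : SF) • ka F (v 1) a := rfl

theorem D8a_iota_equiv (ns : NatStr F M) {a : M} (ha : a ∈ fixu F M) (g : SF) (v : Fin 2 → F) :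
    D8a_iota ns a ((g : MF).mulVec v) = g • D8a_iota ns a v := by
  rw [D8a_iota_apply, D8a_iota_apply,
    ns.act_full g (ns.ka_mem (v 0) ha) (ns.ka_mem (v 1) ha)]
  simp only [Matrix.mulVec, dotProduct, Fin.sum_univ_two]
  rw [ns.ka_add, ns.ka_add, ns.ka_mul, ns.ka_mul, ns.ka_mul, ns.ka_mul]

theorem iota_of_natStr [Finite F] [Finite M] (ns : NatStr F M) (h2 : Exp2 M) :
    ∃ (k : ℕ) (ι : Fin k → ((Fin 2 → F) →+ M)),
      (∀ (i : Fin k) (g : SF) (v : Fin 2 → F), ι i ((g : MF).mulVec v) = g • ι i v) ∧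
      Function.Bijective (fun f : Fin k → (Fin 2 → F) => ∑ i, ι i (f i)) := by
  classical
  let _ : Module F ↥(fixu F M) := D8a_module ns
  have : Finite ↥(fixu F M) := inferInstance
  have : Module.Finite F ↥(fixu F M) := Module.Finite.of_finite
  let b := Module.finBasis F ↥(fixu F M)
  have hsm : ∀ (c : F) (a : ↥(fixu F M)), ((c • a : ↥(fixu F M)) : M) = ka F c (a : M) :=
    fun c a => rfl
  have hsum : ∀ f : Fin (Module.finrank F ↥(fixu F M)) → (Fin 2 → F),
      ∑ i, D8a_iota ns ((b i : ↥(fixu F M)) : M) (f i)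
        = ((∑ i, f i 0 • b i : ↥(fixu F M)) : M)
          + (ww : SF) • ((∑ i, f i 1 • b i : ↥(fixu F M)) : M) := by
    intro f
    rw [AddSubmonoidClass.coe_finsetSum, AddSubmonoidClass.coe_finsetSum, Finset.smul_sum,
      ← Finset.sum_add_distrib]
    refine Finset.sum_congr rfl (fun i _ => ?_)
    rw [D8a_iota_apply, hsm, hsm]
  refine ⟨Module.finrank F ↥(fixu F M), fun i => D8a_iota ns ((b i : ↥(fixu F M)) : M),
    fun i g v => D8a_iota_equiv ns (b i).2 g v, ?_, ?_⟩
  · -- injective
    intro f f' hff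
    simp only at hff
    rw [hsum, hsum] at hff
    have h0 : (((∑ i, f i 0 • b i : ↥(fixu F M)) - (∑ i, f' i 0 • b i : ↥(fixu F M)) :
          ↥(fixu F M)) : M)
        + (ww : SF) • (((∑ i, f i 1 • b i : ↥(fixu F M)) - (∑ i, f' i 1 • b i : ↥(fixu F M)) :
          ↥(fixu F M)) : M) = 0 := by
      rw [AddSubgroup.coe_sub, AddSubgroup.coe_sub, smul_sub]
      have := sub_eq_zero.mpr hff
      rw [← this]; abel
    obtain ⟨hA, hB⟩ := ns.uniq _ (SetLike.coe_mem _) _ (SetLike.coe_mem _) h0
    have hA' : (∑ i, f i 0 • b i : ↥(fixu F M)) = ∑ i, f' i 0 • b i :=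
      sub_eq_zero.mp (Subtype.ext hA)
    have hB' : (∑ i, f i 1 • b i : ↥(fixu F M)) = ∑ i, f' i 1 • b i :=
      sub_eq_zero.mp (Subtype.ext hB)
    have e0 : ∀ i, f i 0 = f' i 0 := by
      intro i
      have h1 := congrFun (b.repr_sum_self (fun i => f i 0)) i
      have h2 := congrFun (b.repr_sum_self (fun i => f' i 0)) i
      rw [← h1, ← h2, hA']
    have e1 : ∀ i, f i 1 = f' i 1 := by
      intro i
      have h1 := congrFun (b.repr_sum_self (fun i => f i 1)) i
      have h2 := congrFun (b.repr_sum_self (fun i => f' i 1)) i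
      rw [← h1, ← h2, hB']
    funext i j
    fin_cases j
    · exact e0 i
    · exact e1 i
  · -- surjective
    intro m
    obtain ⟨h1, h2', h3⟩ := ns.dec m
    refine ⟨fun i => ![b.repr ⟨pr1 F m, h1⟩ i, b.repr ⟨pr2 F m, h2'⟩ i], ?_⟩
    simp only
    rw [hsum]
    simp only [Matrix.cons_val_zero, Matrix.cons_val_one, Matrix.cons_val_fin_one]
    rw [b.sum_repr, b.sum_repr]
    exact h3.symm

end modules

end Cfsg.Agent.S3050P
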