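import Mathlib
import Cfsg.Agent.Helper16.S3161Defs
import Cfsg.Agent.Helper21.S3161BAER

set_option autoImplicit false

/-! Board `s3161pieces`, piece HEISISO: a group with coordinates `CData` whose discriminant `D` is of
the form `s² + s` is isomorphic to the Heisenberg group `Heis F` (via BAER). -/

namespace Cfsg.Agent.S3161P

open Cfsg.Agent.Helper16.S64

theorem HEISISO_aux_add_self {F : Type*} [Field F] [CharP F 2] (x : F) : x + x = 0 := by
  have h2 : (2 : F) = 0 := by
    have := CharP.cast_eq_zero F 2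
    exact_mod_cast this
  rw [← two_mul, h2, zero_mul]

theorem HEISISO_aux_sq_add {F : Type*} [Field F] [CharP F 2] (x y : F) :
    (x + y) ^ 2 = x ^ 2 + y ^ 2 := by
  have := HEISISO_aux_add_self (x * y)
  linear_combination this

theorem HEISISO_aux_sqrt {F : Type*} [Field F] [Fintype F] [CharP F 2] (c : F) :
    ∃ r : F, r ^ 2 = c := by
  have hinj : Function.Injective (fun x : F => x ^ 2) := by
    intro x y hxy
    have h0 : (x + y) ^ 2 = 0 := by
      rw [HEISISO_aux_sq_add]
      have : x ^ 2 = y ^ 2 := hxy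
      rw [this]; exact HEISISO_aux_add_self _
    have h1 : x + y = 0 := by
      rcases mul_eq_zero.mp (by rw [← pow_two]; exact h0 : (x + y) * (x + y) = 0) with h | h <;>
        exact h
    have : x = -y := eq_neg_of_add_eq_zero_left h1
    rw [this]
    have hy := HEISISO_aux_add_self y
    exact neg_eq_of_add_eq_zero_left hy
  exact (Finite.injective_iff_surjective.mp hinj) c

/-- the homomorphism `Heis F → F × F` -/
def HEISISO_aux_pi' {F : Type*} [Field F] : Heis F →* Multiplicative (F × F) where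
  toFun p := Multiplicative.ofAdd (p.a, p.b)
  map_one' := rfl
  map_mul' _ _ := rfl

theorem HEISISO_aux_mem_ker' {F : Type*} [Field F] (p : Heis F) :
    p ∈ (HEISISO_aux_pi' (F := F)).ker ↔ p.a = 0 ∧ p.b = 0 := by
  rw [MonoidHom.mem_ker]
  show Multiplicative.ofAdd (p.a, p.b) = 1 ↔ _
  rw [show (1 : Multiplicative (F × F)) = Multiplicative.ofAdd (0, 0) from rfl]
  rw [Multiplicative.ofAdd.injective.eq_iff, Prod.mk.injEq]

/-- HEISISO: the isotropic case. -/
theorem HEISISO {T : Type*} [Group T] {F : Type*} [Field F] [Fintype F] [CharP F 2]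
    {C : Subgroup T} {θ x₁ x₂ : T → F} {l D : F} (h : CData C θ x₁ x₂ l D)
    (hD : ∃ t : F, D = t ^ 2 + t) : Nonempty (T ≃* Heis F) := by
  obtain ⟨s, hs⟩ := hD
  -- the projection of `T`
  let π : T →* Multiplicative (F × F) :=
    { toFun := fun t => Multiplicative.ofAdd (x₁ t + s * x₂ t, x₁ t + (s + 1) * x₂ t)
      map_one' := by
        have h1 := h.x1_mul 1 1
        have h2 := h.x2_mul 1 1
        rw [mul_one] at h1 h2
        have e1 : x₁ (1 : T) = 0 := by linear_combination (-1 : F) * h1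
        have e2 : x₂ (1 : T) = 0 := by linear_combination (-1 : F) * h2
        rw [e1, e2]
        simp
      map_mul' := by
        intro a b
        rw [h.x1_mul, h.x2_mul, ← ofAdd_add]
        congr 1
        ext <;> simp <;> ring }
  have hπ_apply : ∀ t, π t = Multiplicative.ofAdd (x₁ t + s * x₂ t, x₁ t + (s + 1) * x₂ t) :=
    fun t => rfl
  have hker : ∀ t : T, t ∈ π.ker ↔ t ∈ C := by
    intro t
    rw [MonoidHom.mem_ker, hπ_apply]
    rw [show (1 : Multiplicative (F × F)) = Multiplicative.ofAdd (0, 0) from rfl]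
    rw [Multiplicative.ofAdd.injective.eq_iff, Prod.mk.injEq]
    constructor
    · rintro ⟨e1, e2⟩
      have hx2 : x₂ t = 0 := by
        have := HEISISO_aux_add_self (x₁ t)
        have h3 := HEISISO_aux_add_self (s * x₂ t)
        linear_combination e1 + e2 - this - h3
      have hx1 : x₁ t = 0 := by rw [hx2] at e1; linear_combination e1
      exact h.ker t hx1 hx2
    · intro ht
      obtain ⟨e1, e2⟩ := h.x_C t ht
      rw [e1, e2]; simp
  have hkerle : π.ker ≤ C := fun t ht => (hker t).1 ht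
  -- the map `γ`
  let γ : T → Heis F := fun t => ⟨0, 0, θ t ^ 2 / l ^ 2⟩
  have hl2 : l ^ 2 ≠ 0 := pow_ne_zero _ h.l_ne
  refine BAER π (HEISISO_aux_pi' (F := F)) ?_ ?_ ?_ ?_ ?_ γ ?_ ?_ ?_ ?_ ?_
  · -- π surjective
    intro m
    obtain ⟨t, ht1, ht2⟩ := h.surj (m.toAdd.1 + s * (m.toAdd.1 + m.toAdd.2)) (m.toAdd.1 + m.toAdd.2)
    refine ⟨t, ?_⟩
    rw [hπ_apply, ht1, ht2]
    apply Multiplicative.toAdd.injective
    rw [toAdd_ofAdd]
    ext
    · have := HEISISO_aux_add_self (s * (m.toAdd.1 + m.toAdd.2))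
      simp only
      linear_combination this
    · have h1 := HEISISO_aux_add_self (s * (m.toAdd.1 + m.toAdd.2))
      have h2 := HEISISO_aux_add_self (m.toAdd.1)
      simp only
      linear_combination h1 + h2
  · -- π' surjective
    intro m
    exact ⟨⟨m.toAdd.1, m.toAdd.2, 0⟩, rfl⟩
  · -- ker π central
    exact fun t ht => h.central (hkerle ht)
  · -- ker π' central
    intro p hp
    rw [HEISISO_aux_mem_ker'] at hp
    rw [Subgroup.mem_center_iff]
    intro g
    ext
    · simp [hp.1]
    · simp [hp.2]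
    · simp [hp.1, hp.2]; ring
  · exact fun c hc => h.exp c (hkerle hc)
  · -- γ multiplicative on the kernel
    intro a ha b hb
    have := h.theta_mul a (hkerle ha) b (hkerle hb)
    ext
    · simp [γ]
    · simp [γ]
    · show θ (a * b) ^ 2 / l ^ 2 = θ a ^ 2 / l ^ 2 + θ b ^ 2 / l ^ 2 + 0 * 0
      rw [this, HEISISO_aux_sq_add]
      ring
  · intro a _
    rw [HEISISO_aux_mem_ker']
    exact ⟨rfl, rfl⟩
  · -- γ injective on the kernel
    intro a ha hγ
    have h1 : (γ a).c = 0 := by rw [hγ]; rfl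
    have h2 : θ a ^ 2 / l ^ 2 = 0 := h1
    have h3 : θ a ^ 2 = 0 := by
      rcases div_eq_zero_iff.mp h2 with h | h
      · exact h
      · exact absurd h hl2
    have h4 : θ a = 0 := pow_eq_zero_iff (n := 2) (by norm_num) |>.mp h3
    exact h.theta_inj a (hkerle ha) h4
  · -- γ onto the kernel
    intro p hp
    rw [HEISISO_aux_mem_ker'] at hp
    obtain ⟨r, hr⟩ := HEISISO_aux_sqrt (p.c * l ^ 2)
    obtain ⟨c, hc, hθ⟩ := h.theta_surj r
    refine ⟨c, (hker c).2 hc, ?_⟩
    ext
    · exact hp.1.symm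
    · exact hp.2.symm
    · show θ c ^ 2 / l ^ 2 = p.c
      rw [hθ, hr, mul_div_assoc, div_self hl2, mul_one]
  · -- the squaring maps agree
    intro t g htg
    refine ⟨(hker _).2 (h.sq_mem t), ?_⟩
    have hg : g.a = x₁ t + s * x₂ t ∧ g.b = x₁ t + (s + 1) * x₂ t := by
      have := htg
      rw [hπ_apply] at this
      have h2 : (x₁ t + s * x₂ t, x₁ t + (s + 1) * x₂ t) = (g.a, g.b) :=
        Multiplicative.ofAdd.injective this
      rw [Prod.mk.injEq] at h2
      exact ⟨h2.1.symm, h2.2.symm⟩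
    have hsq := h.sq t
    ext
    · show (0 : F) = g.a + g.a
      rw [HEISISO_aux_add_self]
    · show (0 : F) = g.b + g.b
      rw [HEISISO_aux_add_self]
    · show θ (t * t) ^ 2 / l ^ 2 = g.c + g.c + g.a * g.b
      rw [HEISISO_aux_add_self, zero_add, hsq, hg.1, hg.2, hs]
      have e := HEISISO_aux_add_self (s * x₁ t * x₂ t)
      rw [mul_div_cancel_left₀ _ hl2]
      linear_combination (-1 : F) * e

end Cfsg.Agent.S3161P
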