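import Mathlib
import Cfsg.Agent.Helper16.S3161Defs
import Cfsg.Agent.Helper18.S64G
import Cfsg.Agent.Helper12.SteinN

set_option autoImplicit false

/-! Board `s3161pieces`, piece HEISSYL: `Heis F` is a Sylow 2-subgroup of `PSL₃(F)` for a field of
order `2^n`. -/

namespace Cfsg.Agent.S3161P

open Cfsg.Agent.Helper16.S64 Cfsg.Agent.Helper18.S64 Matrix

theorem HEISSYL_aux_card (F : Type*) [Field F] [Fintype F] :
    Nat.card (Heis F) = Fintype.card F ^ 3 := by
  have e : Heis F ≃ F × F × F :=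
    { toFun := fun p => (p.a, p.b, p.c)
      invFun := fun t => ⟨t.1, t.2.1, t.2.2⟩
      left_inv := fun p => rfl
      right_inv := fun t => rfl }
  rw [Nat.card_congr e, Nat.card_prod, Nat.card_prod, Nat.card_eq_fintype_card]
  ring

theorem HEISSYL_aux_charP {F : Type*} [Field F] [Fintype F] {n : ℕ}
    (hF : Fintype.card F = 2 ^ n) : CharP F 2 := by
  obtain ⟨p, hp⟩ := CharP.exists F
  have := hp
  have hpp : p.Prime := CharP.char_is_prime F p
  have : Fact p.Prime := ⟨hpp⟩
  have hdvd : p ∣ Fintype.card F := by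
    obtain ⟨m, -, hm⟩ := FiniteField.card F p
    rw [hm]
    exact dvd_pow_self p m.ne_zero
  rw [hF] at hdvd
  have := (Nat.prime_dvd_prime_iff_eq hpp Nat.prime_two).mp (hpp.dvd_of_dvd_pow hdvd)
  rw [← this]
  exact hp

/-- HEISSYL: `Heis F` is a Sylow 2-subgroup of `PSL₃(F)`. -/
theorem HEISSYL {F : Type*} [Field F] [Fintype F] {n : ℕ} (hF : Fintype.card F = 2 ^ n) :
    ∃ S : Sylow 2 (Matrix.ProjectiveSpecialLinearGroup (Fin 3) F),
      Nonempty (Heis F ≃* ↥(S : Subgroup (Matrix.ProjectiveSpecialLinearGroup (Fin 3) F))) := by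
  classical
  have : CharP F 2 := HEISSYL_aux_charP hF
  have : Fact (Nat.Prime 2) := ⟨Nat.prime_two⟩
  set φ : Heis F →* Matrix.ProjectiveSpecialLinearGroup (Fin 3) F :=
    (QuotientGroup.mk' (Subgroup.center (SpecialLinearGroup (Fin 3) F))).comp heisSL with hφ
  have hinj : Function.Injective φ := heisPSL_injective
  have hrange : Nat.card φ.range = Fintype.card F ^ 3 := by
    rw [← HEISSYL_aux_card F]
    exact (Nat.card_congr (MonoidHom.ofInjective hinj).toEquiv).symm
  have hp : IsPGroup 2 φ.range := by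
    apply IsPGroup.of_card (n := 3 * n)
    rw [hrange, hF, ← pow_mul, mul_comm]
  obtain ⟨S, hS⟩ := hp.exists_le_sylow
  have hcS : Nat.card S = Fintype.card F ^ 3 := by
    have := Cfsg.Agent.Helper12.Stein.card_sylow_PSL (F := F) 2 3 (by norm_num) S
    simpa using this
  have heq : φ.range = (S : Subgroup _) := by
    have : Finite (S : Subgroup (Matrix.ProjectiveSpecialLinearGroup (Fin 3) F)) :=
      Nat.finite_of_card_ne_zero (by rw [hcS]; positivity)
    apply Subgroup.eq_of_le_of_card_ge hS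
    rw [hrange]
    exact hcS.le
  refine ⟨S, ⟨?_⟩⟩
  exact (MonoidHom.ofInjective hinj).trans (MulEquiv.subgroupCongr heq)

end Cfsg.Agent.S3161P
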