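import Mathlib
import Cfsg.Agent.Helper16.S3161Defs

set_option autoImplicit false

/-! Board `s3161pieces`, piece KQ: the fixed field `Kq H` of `x ↦ x^q` in a field of order `q²`
(`H : FqSq F q` of `Cfsg.Agent.Helper18.SuzU`). -/

namespace Cfsg.Agent.S3161P

open Cfsg.Agent.Helper18.SuzU

/-- the fixed field of `x ↦ x^q` -/
def Kq {F' : Type*} [Field F'] [Fintype F'] {q : ℕ} (H : FqSq F' q) : Subfield F' where
  carrier := H.Fix
  mul_mem' := fun ha hb => H.mul_mem_Fix ha hb
  one_mem' := H.one_mem_Fix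
  add_mem' := fun ha hb => H.add_mem_Fix ha hb
  zero_mem' := H.zero_mem_Fix
  neg_mem' := by
    intro x hx
    have h2 : (2 : F') = 0 := H.two
    have hneg : -x = x := by
      have : x + x = 0 := by rw [← two_mul, h2, zero_mul]
      exact neg_eq_of_add_eq_zero_left this
    rw [hneg]; exact hx
  inv_mem' := by
    intro x hx
    show x⁻¹ ^ q = x⁻¹
    rw [inv_pow]
    congr 1

theorem mem_Kq {F' : Type*} [Field F'] [Fintype F'] {q : ℕ} (H : FqSq F' q) (x : F') :
    x ∈ Kq H ↔ x ^ q = x := Iff.rfl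

theorem card_Kq {F' : Type*} [Field F'] [Fintype F'] {q : ℕ} (H : FqSq F' q) :
    Nat.card ↥(Kq H) = q := by
  have e : ↥(Kq H) ≃ H.Fix :=
    { toFun := fun x => ⟨x.1, x.2⟩
      invFun := fun x => ⟨x.1, x.2⟩
      left_inv := fun x => rfl
      right_inv := fun x => rfl }
  rw [Nat.card_congr e]
  exact H.card_Fix

end Cfsg.Agent.S3161P
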