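import Mathlib
import Cfsg.Agent.Helper16.S3161Defs
import Cfsg.Agent.Helper18.S3161KQ

set_option autoImplicit false

/-! Board `s3161pieces`, piece UISO, part a (field theory): for `D ∈ K = Kq H` not of the form
`s² + s` (`s ∈ K`) there is `ω ∈ F'` with `ω + ω^q = 1` and `ω^(q+1) = D`. -/

namespace Cfsg.Agent.S3161P

open Cfsg.Agent.Helper18.SuzU

variable {F' : Type*} [Field F'] [Fintype F'] {q : ℕ}

theorem UISO_aux_two (H : FqSq F' q) : (2 : ↥(Kq H)) = 0 := by
  apply Subtype.ext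
  push_cast
  exact H.two

theorem UISO_aux_add_self (H : FqSq F' q) (x : ↥(Kq H)) : x + x = 0 := by
  rw [← two_mul, UISO_aux_two H, zero_mul]

/-- the Artin-Schreier map of `K` -/
def UISO_aux_wp (H : FqSq F' q) : ↥(Kq H) →+ ↥(Kq H) where
  toFun x := x ^ 2 + x
  map_zero' := by simp
  map_add' x y := by
    have := UISO_aux_add_self H (x * y)
    linear_combination this

theorem UISO_aux_wp_apply (H : FqSq F' q) (x : ↥(Kq H)) : UISO_aux_wp H x = x ^ 2 + x := rfl

theorem UISO_aux_mem_ker (H : FqSq F' q) (x : ↥(Kq H)) :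
    x ∈ (UISO_aux_wp H).ker ↔ x = 0 ∨ x = 1 := by
  rw [AddMonoidHom.mem_ker, UISO_aux_wp_apply]
  constructor
  · intro h
    have h1 : x * (x + 1) = 0 := by linear_combination h
    rcases mul_eq_zero.mp h1 with h2 | h2
    · exact Or.inl h2
    · right
      have := UISO_aux_add_self H (1 : ↥(Kq H))
      linear_combination h2 - this
  · rintro (rfl | rfl)
    · simp
    · have := UISO_aux_add_self H (1 : ↥(Kq H))
      linear_combination this

theorem UISO_aux_card_ker (H : FqSq F' q) : Nat.card (UISO_aux_wp H).ker = 2 := by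
  rw [Nat.card_eq_two_iff]
  refine ⟨⟨0, (UISO_aux_mem_ker H 0).2 (Or.inl rfl)⟩, ⟨1, (UISO_aux_mem_ker H 1).2 (Or.inr rfl)⟩,
    ?_, ?_⟩
  · intro h
    have : (0 : ↥(Kq H)) = 1 := congrArg Subtype.val h
    exact zero_ne_one this
  · ext x
    simp only [Set.mem_insert_iff, Set.mem_singleton_iff, Set.mem_univ, iff_true]
    rcases (UISO_aux_mem_ker H x.1).1 x.2 with h | h
    · left; exact Subtype.ext h
    · right; exact Subtype.ext h

theorem UISO_aux_index (H : FqSq F' q) : (UISO_aux_wp H).range.index = 2 := by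
  have h1 := AddSubgroup.card_mul_index (UISO_aux_wp H).ker
  rw [AddSubgroup.index_ker, UISO_aux_card_ker, card_Kq] at h1
  have h2 := AddSubgroup.card_mul_index (UISO_aux_wp H).range
  rw [card_Kq] at h2
  have hq := H.two_le
  have hpos : 0 < Nat.card (UISO_aux_wp H).range := by
    rcases Nat.eq_zero_or_pos (Nat.card (UISO_aux_wp H).range) with h | h
    · rw [h] at h1; omega
    · exact h
  have : Nat.card (UISO_aux_wp H).range * (UISO_aux_wp H).range.index =
      Nat.card (UISO_aux_wp H).range * 2 := by omega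
  exact Nat.eq_of_mul_eq_mul_left hpos this

/-- the element `ω` -/
theorem UISO_aux_omega (H : FqSq F' q) {D : ↥(Kq H)}
    (hD : ¬ ∃ t : ↥(Kq H), D = t ^ 2 + t) :
    ∃ ω : F', ω + ω ^ q = 1 ∧ ω ^ (q + 1) = (D : F') ∧ ω ∉ Kq H := by
  obtain ⟨ω₁, hω₁⟩ := H.exists_trace H.one_mem_Fix
  -- `ω₁ ∉ K`
  have hω₁K : ω₁ ∉ Kq H := by
    intro hmem
    rw [mem_Kq] at hmem
    rw [hmem, H.add_self] at hω₁
    exact zero_ne_one hω₁
  have hω₁q : ω₁ ^ q = ω₁ + 1 := by
    have := H.add_self ω₁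
    linear_combination hω₁ - this
  -- `D₁ = ω₁² + ω₁ ∈ K`
  have hD₁K : ω₁ ^ 2 + ω₁ ∈ Kq H := by
    have hn := H.norm_mem_Fix ω₁
    have e : ω₁ ^ (q + 1) = ω₁ ^ 2 + ω₁ := by
      rw [pow_succ, hω₁q]; ring
    rw [e] at hn
    exact hn
  set D₁ : ↥(Kq H) := ⟨ω₁ ^ 2 + ω₁, hD₁K⟩ with hD₁
  have hD₁not : D₁ ∉ (UISO_aux_wp H).range := by
    rintro ⟨s, hs⟩
    rw [UISO_aux_wp_apply] at hs
    have hs' : (s : F') ^ 2 + (s : F') = ω₁ ^ 2 + ω₁ := by
      have := congrArg Subtype.val hs
      simpa using this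
    have h0 : (ω₁ + s) * (ω₁ + s + 1) = 0 := by
      have e1 := H.add_self (ω₁ * s)
      have e2 := H.add_self ((s : F') ^ 2 + s)
      linear_combination e1 + e2 - hs'
    rcases mul_eq_zero.mp h0 with h2 | h2
    · apply hω₁K
      have : ω₁ = (s : F') := by
        have := H.add_self (s : F')
        linear_combination h2 - this
      rw [this]; exact s.2
    · apply hω₁K
      have : ω₁ = (s : F') + 1 := by
        have e1 := H.add_self (s : F')
        have e2 := H.add_self (1 : F')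
        linear_combination h2 - e1 - e2
      rw [this]
      exact (Kq H).add_mem s.2 (Kq H).one_mem
  have hDnot : D ∉ (UISO_aux_wp H).range := by
    rintro ⟨s, hs⟩
    exact hD ⟨s, hs.symm⟩
  have hsum : D + D₁ ∈ (UISO_aux_wp H).range := by
    rw [AddSubgroup.add_mem_iff_of_index_two (UISO_aux_index H)]
    exact ⟨fun h => absurd h hDnot, fun h => absurd h hD₁not⟩
  obtain ⟨s, hs⟩ := hsum
  rw [UISO_aux_wp_apply] at hs
  have hs' : (s : F') ^ 2 + (s : F') = (D : F') + (ω₁ ^ 2 + ω₁) := by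
    have := congrArg Subtype.val hs
    simpa [hD₁] using this
  have hsq : (s : F') ^ q = s := (mem_Kq H _).1 s.2
  refine ⟨ω₁ + s, ?_, ?_, ?_⟩
  · rw [H.frob_add, hsq]
    have := H.add_self (s : F')
    linear_combination hω₁ + this
  · rw [pow_succ, H.frob_add, hsq, hω₁q]
    have e1 := H.add_self (ω₁ * s)
    have e2 := H.add_self (ω₁ ^ 2 + ω₁)
    linear_combination hs' + e1 + e2
  · intro hmem
    apply hω₁K
    have : ω₁ = (ω₁ + s) + s := by
      have := H.add_self (s : F')
      linear_combination -this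
    rw [this]
    exact (Kq H).add_mem hmem s.2

end Cfsg.Agent.S3161P
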