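import Mathlib
import Cfsg.Agent.Helper16.S3161Defs
import Cfsg.Agent.Helper18.S3161KQ
import Cfsg.Agent.Helper18.S3161UISOa
import Cfsg.Agent.Helper18.SuzU7
import Cfsg.Agent.Helper21.S3161BAER

set_option autoImplicit false

/-! Board `s3161pieces`, piece UISO: a group with coordinates `CData` over `K = Kq H` whose
discriminant is not of the form `s² + s` is isomorphic to any group with `UCoord F' q` coordinates
(the Sylow 2-subgroup of `PSU₃(q)`), via BAER. -/

namespace Cfsg.Agent.S3161P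

open Cfsg.Agent.Helper18.SuzU

variable {F' : Type*} [Field F'] [Fintype F'] {q : ℕ}

/-- the first coordinate as a homomorphism -/
noncomputable def UISO_aux_fstHom (H : FqSq F' q) {G : Type*} [Group G] (U : UCoord F' q G) :
    G →* Multiplicative F' where
  toFun g := Multiplicative.ofAdd (U.fst g)
  map_one' := by
    have h1 : U.fst (1 : G) = 0 := by
      rw [← H.u_one U]
      exact U.fst_u H.valid_zero
    rw [h1]; rfl
  map_mul' g g' := by
    have hv := U.valid_coord g
    have hv' := U.valid_coord g'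
    have hmul : g * g' = U.u (U.fst g + U.fst g') (U.snd g + U.snd g' + U.fst g ^ q * U.fst g') := by
      rw [← U.mul _ _ _ _ hv hv', U.u_coord, U.u_coord]
    rw [hmul, U.fst_u (H.valid_mul hv hv')]
    rfl

theorem UISO_aux_fstHom_apply (H : FqSq F' q) {G : Type*} [Group G] (U : UCoord F' q G) (g : G) :
    UISO_aux_fstHom H U g = Multiplicative.ofAdd (U.fst g) := rfl

theorem UISO_aux_mem_kerU (H : FqSq F' q) {G : Type*} [Group G] (U : UCoord F' q G) (g : G) :
    g ∈ (UISO_aux_fstHom H U).ker ↔ U.fst g = 0 := by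
  rw [MonoidHom.mem_ker, UISO_aux_fstHom_apply]
  rw [show (1 : Multiplicative F') = Multiplicative.ofAdd 0 from rfl]
  rw [Multiplicative.ofAdd.injective.eq_iff]

/-- `(a, b) ↦ a + ω b` is injective on `K × K` -/
theorem UISO_aux_inj (H : FqSq F' q) {ω : F'} (hω : ω ∉ Kq H) {a b a' b' : ↥(Kq H)}
    (he : (a : F') + ω * b = a' + ω * b') : a = a' ∧ b = b' := by
  have hb : b = b' := by
    by_contra hne
    have hne' : (b : F') + b' ≠ 0 := by
      intro h0
      apply hne
      apply Subtype.ext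
      have := H.add_self (b' : F')
      linear_combination h0 - this
    apply hω
    have e : ω = ((a : F') + a') / ((b : F') + b') := by
      rw [eq_div_iff hne']
      have e1 := H.add_self (a : F')
      have e2 := H.add_self (ω * b')
      linear_combination he + e2 - e1
    rw [e]
    exact (Kq H).div_mem ((Kq H).add_mem a.2 a'.2) ((Kq H).add_mem b.2 b'.2)
  refine ⟨?_, hb⟩
  apply Subtype.ext
  rw [hb] at he
  linear_combination he

/-- `(a, b) ↦ a + ω b` is onto `F'` -/
theorem UISO_aux_surj (H : FqSq F' q) {ω : F'} (hω : ω ∉ Kq H) (f : F') :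
    ∃ a b : ↥(Kq H), (a : F') + ω * b = f := by
  let φ : ↥(Kq H) × ↥(Kq H) → F' := fun p => (p.1 : F') + ω * p.2
  have hinj : Function.Injective φ := by
    rintro ⟨a, b⟩ ⟨a', b'⟩ he
    obtain ⟨h1, h2⟩ := UISO_aux_inj H hω (a := a) (b := b) (a' := a') (b' := b') he
    rw [h1, h2]
  have hcard : Nat.card F' ≤ Nat.card (↥(Kq H) × ↥(Kq H)) := by
    rw [Nat.card_prod, card_Kq, Nat.card_eq_fintype_card, H.card, pow_two]
  obtain ⟨⟨a, b⟩, hab⟩ := (hinj.bijective_of_nat_card_le hcard).2 f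
  exact ⟨a, b, hab⟩

/-- square roots in `K` -/
theorem UISO_aux_sqrt (H : FqSq F' q) (y : ↥(Kq H)) : ∃ r : ↥(Kq H), r ^ 2 = y := by
  obtain ⟨m, hm⟩ := H.even
  refine ⟨y ^ m, ?_⟩
  apply Subtype.ext
  have hy : (y : F') ^ q = y := (mem_Kq H _).1 y.2
  push_cast
  rw [← pow_mul, mul_comm, two_mul, ← hm, hy]

/-- UISO: the anisotropic case. -/
theorem UISO {T : Type*} [Group T] {F' : Type*} [Field F'] [Fintype F'] {q : ℕ} (H : FqSq F' q)
    {C : Subgroup T} {θ x₁ x₂ : T → ↥(Kq H)} {l D : ↥(Kq H)} (h : CData C θ x₁ x₂ l D)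
    (hD : ¬ ∃ t : ↥(Kq H), D = t ^ 2 + t) {G : Type*} [Group G] (U : UCoord F' q G) :
    Nonempty (T ≃* G) := by
  obtain ⟨ω, hω1, hω2, hωK⟩ := UISO_aux_omega H hD
  have hωq : ω ^ q = ω + 1 := by
    have := H.add_self ω
    linear_combination hω1 - this
  have hx1_one : x₁ (1 : T) = 0 := by
    have h1 := h.x1_mul 1 1
    rw [mul_one] at h1
    linear_combination (-1 : ↥(Kq H)) * h1
  have hx2_one : x₂ (1 : T) = 0 := by
    have h1 := h.x2_mul 1 1
    rw [mul_one] at h1
    linear_combination (-1 : ↥(Kq H)) * h1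
  -- the projection of `T`
  let π : T →* Multiplicative F' :=
    { toFun := fun t => Multiplicative.ofAdd ((x₁ t : F') + ω * (x₂ t : F'))
      map_one' := by
        rw [hx1_one, hx2_one]
        simp
      map_mul' := by
        intro a b
        rw [h.x1_mul, h.x2_mul, ← ofAdd_add]
        congr 1
        push_cast
        ring }
  have hπ_apply : ∀ t, π t = Multiplicative.ofAdd ((x₁ t : F') + ω * (x₂ t : F')) := fun t => rfl
  have hker : ∀ t : T, t ∈ π.ker ↔ t ∈ C := by
    intro t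
    rw [MonoidHom.mem_ker, hπ_apply]
    rw [show (1 : Multiplicative F') = Multiplicative.ofAdd 0 from rfl]
    rw [Multiplicative.ofAdd.injective.eq_iff]
    constructor
    · intro e
      have e' : ((x₁ t : ↥(Kq H)) : F') + ω * (x₂ t : ↥(Kq H)) =
          ((0 : ↥(Kq H)) : F') + ω * ((0 : ↥(Kq H)) : F') := by
        rw [e]; push_cast; ring
      obtain ⟨h1, h2⟩ := UISO_aux_inj H hωK e'
      exact h.ker t h1 h2
    · intro ht
      obtain ⟨e1, e2⟩ := h.x_C t ht
      rw [e1, e2]; push_cast; ring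
  have hkerle : π.ker ≤ C := fun t ht => (hker t).1 ht
  -- the map `γ`
  let γ : T → G := fun t => U.u 0 (((θ t ^ 2 / l ^ 2 : ↥(Kq H)) : F'))
  have hγ_apply : ∀ t, γ t = U.u 0 (((θ t ^ 2 / l ^ 2 : ↥(Kq H)) : F')) := fun t => rfl
  have hvalid : ∀ k : ↥(Kq H), Valid q (0 : F') (k : F') := fun k =>
    (H.valid_zero_iff).2 ((mem_Kq H _).1 k.2)
  have hl2 : l ^ 2 ≠ 0 := pow_ne_zero _ h.l_ne
  have haddK : ∀ x : ↥(Kq H), x + x = 0 := UISO_aux_add_self H
  refine BAER π (UISO_aux_fstHom H U) ?_ ?_ ?_ ?_ ?_ γ ?_ ?_ ?_ ?_ ?_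
  · -- π surjective
    intro m
    obtain ⟨a, b, hab⟩ := UISO_aux_surj H hωK m.toAdd
    obtain ⟨t, ht1, ht2⟩ := h.surj a b
    refine ⟨t, ?_⟩
    rw [hπ_apply, ht1, ht2, hab]
    rfl
  · -- π' surjective
    intro m
    obtain ⟨b, hb⟩ := H.exists_valid m.toAdd
    refine ⟨U.u m.toAdd b, ?_⟩
    rw [UISO_aux_fstHom_apply, U.fst_u hb]
    rfl
  · exact fun t ht => h.central (hkerle ht)
  · -- ker π' central
    intro g hg
    rw [UISO_aux_mem_kerU] at hg
    have hv := U.valid_coord g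
    rw [← U.u_coord g]
    exact (H.mem_center_iff U hv).2 hg
  · exact fun c hc => h.exp c (hkerle hc)
  · -- γ multiplicative on the kernel
    intro a ha b hb
    have hθ := h.theta_mul a (hkerle ha) b (hkerle hb)
    have e : θ (a * b) ^ 2 / l ^ 2 = θ a ^ 2 / l ^ 2 + θ b ^ 2 / l ^ 2 := by
      rw [hθ]
      have e0 : (θ a + θ b) ^ 2 = θ a ^ 2 + θ b ^ 2 := by
        have := haddK (θ a * θ b)
        linear_combination this
      rw [e0, add_div]
    rw [hγ_apply, hγ_apply, hγ_apply, U.mul _ _ _ _ (hvalid _) (hvalid _), e, add_zero,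
      H.frob_zero, zero_mul, add_zero]
    push_cast
    rfl
  · -- γ maps the kernel into the kernel
    intro a _
    rw [UISO_aux_mem_kerU, hγ_apply, U.fst_u (hvalid _)]
  · -- γ injective on the kernel
    intro a ha hγ
    rw [hγ_apply, H.u_eq_one_iff U (hvalid _)] at hγ
    have h2 : (θ a ^ 2 / l ^ 2 : ↥(Kq H)) = 0 := Subtype.ext hγ.2
    have h3 : θ a ^ 2 = 0 := by
      rcases div_eq_zero_iff.mp h2 with h | h
      · exact h
      · exact absurd h hl2
    have h4 : θ a = 0 := pow_eq_zero_iff (n := 2) (by norm_num) |>.mp h3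
    exact h.theta_inj a (hkerle ha) h4
  · -- γ onto the kernel
    intro g hg
    rw [UISO_aux_mem_kerU] at hg
    have hv := U.valid_coord g
    rw [hg] at hv
    have hcK : U.snd g ∈ Kq H := (mem_Kq H _).2 ((H.valid_zero_iff).1 hv)
    obtain ⟨r, hr⟩ := UISO_aux_sqrt H ((⟨U.snd g, hcK⟩ : ↥(Kq H)) * l ^ 2)
    obtain ⟨c, hc, hθ⟩ := h.theta_surj r
    refine ⟨c, (hker c).2 hc, ?_⟩
    rw [hγ_apply, hθ, hr, mul_div_assoc, div_self hl2, mul_one]
    have := U.u_coord g
    rw [hg] at this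
    exact this
  · -- the squaring maps agree
    intro t g htg
    refine ⟨(hker _).2 (h.sq_mem t), ?_⟩
    have hfst : U.fst g = (x₁ t : F') + ω * (x₂ t : F') := by
      have := htg
      rw [hπ_apply, UISO_aux_fstHom_apply] at this
      exact (Multiplicative.ofAdd.injective this).symm
    have hv := U.valid_coord g
    have hgg : g * g = U.u 0 (U.fst g ^ (q + 1)) := by
      rw [← pow_two]
      conv_lhs => rw [← U.u_coord g]
      exact H.u_sq U hv
    rw [hgg, hγ_apply]
    congr 1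
    -- the norm computation
    have hsq := h.sq t
    have e1 : (θ (t * t) ^ 2 / l ^ 2 : ↥(Kq H)) = x₁ t ^ 2 + x₁ t * x₂ t + D * x₂ t ^ 2 := by
      rw [hsq, mul_div_cancel_left₀ _ hl2]
    rw [e1, hfst]
    have hx1q : (x₁ t : F') ^ q = x₁ t := (mem_Kq H _).1 (x₁ t).2
    have hx2q : (x₂ t : F') ^ q = x₂ t := (mem_Kq H _).1 (x₂ t).2
    have e2 : ((x₁ t : F') + ω * (x₂ t : F')) ^ (q + 1) =
        ((x₁ t : F') + (ω + 1) * (x₂ t : F')) * ((x₁ t : F') + ω * (x₂ t : F')) := by
      rw [pow_succ, H.frob_add, mul_pow, hx1q, hx2q, hωq]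
    rw [e2]
    have hD' : (D : F') = ω * (ω + 1) := by
      rw [← hω2, pow_succ, hωq]; ring
    push_cast
    rw [hD']
    have e3 := H.add_self (ω * (x₁ t : F') * (x₂ t : F'))
    linear_combination -e3

end Cfsg.Agent.S3161P
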