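import Mathlib

/-!
# S3265 (odd-product graph on an involution class of `Sym(n)`): shared definitions

`Q x y`   : the involutions `x`, `y` have a "common odd neighbour" `z` (an involution with as many
            moved points as `x`, with `x * z` and `z * y` of odd order).
`Exc x y` : the exceptional configuration (four points, `x ≠ y` both fixed-point-free).
`Adm x y` : `x`, `y` are involutions (or `1`) with equally many moved points.
`GoodTriple N₁ N₂ x₀ y₀ z₀` : a decidable certificate for `Q x₀ y₀` on `Fin m`.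
`c4x`, `c4y` : the standard exceptional pair on `Fin 4`; `ext4 x₀ c` : `x₀` on the first `m` points,
            `c` on the last four.
-/

set_option autoImplicit false

namespace Cfsg.Agent.S3265P

open Equiv

section Defs

variable {Ω : Type*} [Fintype Ω] [DecidableEq Ω]

/-- `x` and `y` have a common odd neighbour -/
def Q (x y : Perm Ω) : Prop :=
  ∃ z : Perm Ω, z * z = 1 ∧ z.support.card = x.support.card ∧
    Odd (orderOf (x * z)) ∧ Odd (orderOf (z * y))

/-- the exceptional configuration: four points, `x ≠ y`, both fixed-point-free -/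
def Exc (x y : Perm Ω) : Prop :=
  Fintype.card Ω = 4 ∧ x ≠ y ∧ (∀ ω, x ω ≠ ω) ∧ (∀ ω, y ω ≠ ω)

/-- admissible pairs: both square to one, equally many moved points -/
structure Adm (x y : Perm Ω) : Prop where
  x2 : x * x = 1
  y2 : y * y = 1
  card : x.support.card = y.support.card

/-- restriction of a permutation to the points satisfying an invariant predicate -/
abbrev res {Ω : Type*} (x : Perm Ω) (p : Ω → Prop) (hx : ∀ ω, p (x ω) ↔ p ω) : Perm {ω // p ω} :=
  x.subtypePerm hx

end Defs

/-- a decidable certificate for `Q x₀ y₀` -/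
def GoodTriple {m : ℕ} (N₁ N₂ : ℕ) (x₀ y₀ z₀ : Perm (Fin m)) : Prop :=
  Odd N₁ ∧ Odd N₂ ∧ z₀ * z₀ = 1 ∧ z₀.support.card = x₀.support.card ∧
    (x₀ * z₀) ^ N₁ = 1 ∧ (z₀ * y₀) ^ N₂ = 1

instance {m : ℕ} (N₁ N₂ : ℕ) (x₀ y₀ z₀ : Perm (Fin m)) : Decidable (GoodTriple N₁ N₂ x₀ y₀ z₀) := by
  unfold GoodTriple
  infer_instance

/-- the standard exceptional pair on four points: `c4x = (0 1)(2 3)`, `c4y = (1 2)(3 0)` -/
def c4x : Perm (Fin 4) := swap 0 1 * swap 2 3
/-- the standard exceptional pair on four points: `c4x = (0 1)(2 3)`, `c4y = (1 2)(3 0)` -/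
def c4y : Perm (Fin 4) := swap 1 2 * swap 3 0

/-- `x₀` on the first `m` points and `c` on the last four -/
def ext4 {m : ℕ} (x₀ : Perm (Fin m)) (c : Perm (Fin 4)) : Perm (Fin (m + 4)) :=
  finSumFinEquiv.permCongr (Equiv.Perm.sumCongr x₀ c)

/-- the complement of four points (the points surviving a contraction) -/
def Rem {Ω : Type*} (b c d e : Ω) (ω : Ω) : Prop := ω ≠ b ∧ ω ≠ c ∧ ω ≠ d ∧ ω ≠ e

instance {Ω : Type*} [DecidableEq Ω] (b c d e : Ω) : DecidablePred (Rem b c d e) := by
  intro ω
  unfold Rem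
  infer_instance

/-- the contracted involution: `x` with the cycles `(a b)`, `(c d)`, `(e f)` replaced by `(a f)`
(it fixes `b`, `c`, `d`, `e`) -/
def xt {Ω : Type*} [DecidableEq Ω] (x : Perm Ω) (a b c d e f : Ω) : Perm Ω :=
  swap a f * swap a b * swap c d * swap e f * x

/-- the induction hypothesis -/
def IHyp (N : ℕ) : Prop :=
  ∀ (Ω' : Type) [Fintype Ω'] [DecidableEq Ω'], Fintype.card Ω' < N →
    ∀ x' y' : Perm Ω', Adm x' y' → Q x' y' ∨ Exc x' y'

end Cfsg.Agent.S3265P
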