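import Mathlib
import Cfsg.Agent.Helper18.S3265Defs

/-!
# S3265: basic facts about `Q`, `Exc`, `Adm`
-/

set_option autoImplicit false

namespace Cfsg.Agent.S3265P

open Equiv

section

variable {Ω : Type*} [Fintype Ω] [DecidableEq Ω]

omit [Fintype Ω] [DecidableEq Ω] in
theorem inv_eq_of_mul_self {z : Perm Ω} (hz : z * z = 1) : z⁻¹ = z :=
  inv_eq_of_mul_eq_one_right hz

theorem Adm.symm {x y : Perm Ω} (h : Adm x y) : Adm y x := ⟨h.y2, h.x2, h.card.symm⟩

omit [DecidableEq Ω] in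
theorem Exc.symm {x y : Perm Ω} (h : Exc x y) : Exc y x := ⟨h.1, h.2.1.symm, h.2.2.2, h.2.2.1⟩

/-- `Q` is symmetric on admissible pairs -/
theorem Q_symm {x y : Perm Ω} (hA : Adm x y) (h : Q y x) : Q x y := by
  obtain ⟨z, hz, hc, h1, h2⟩ := h
  refine ⟨z, hz, hc.trans hA.card.symm, ?_, ?_⟩
  · have : x * z = (z * x)⁻¹ := by
      rw [mul_inv_rev, inv_eq_of_mul_self hA.x2, inv_eq_of_mul_self hz]
    rw [this, orderOf_inv]
    exact h2
  · have : z * y = (y * z)⁻¹ := by
      rw [mul_inv_rev, inv_eq_of_mul_self hA.y2, inv_eq_of_mul_self hz]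
    rw [this, orderOf_inv]
    exact h1

/-- `Q x x` for an involution -/
theorem Q_self {x : Perm Ω} (hx : x * x = 1) : Q x x :=
  ⟨x, hx, rfl, by rw [hx, orderOf_one]; exact odd_one, by rw [hx, orderOf_one]; exact odd_one⟩

/-- on an empty type `Q` holds -/
theorem Q_of_isEmpty [IsEmpty Ω] (x y : Perm Ω) : Q x y := by
  have hx : x = 1 := Subsingleton.elim _ _
  have hy : y = 1 := Subsingleton.elim _ _
  rw [hx, hy]
  exact Q_self (one_mul 1)

theorem odd_orderOf_of_pow_eq_one {G : Type*} [Monoid G] {g : G} {N : ℕ} (hN : Odd N)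
    (h : g ^ N = 1) : Odd (orderOf g) := by
  obtain ⟨k, hk⟩ := orderOf_dvd_of_pow_eq_one h
  rw [hk] at hN
  exact (Nat.odd_mul.1 hN).1

end

/-- a decidable certificate gives `Q` -/
theorem Q_of_goodTriple {m : ℕ} {N₁ N₂ : ℕ} {x₀ y₀ z₀ : Perm (Fin m)}
    (h : GoodTriple N₁ N₂ x₀ y₀ z₀) : Q x₀ y₀ := by
  obtain ⟨h1, h2, h3, h4, h5, h6⟩ := h
  exact ⟨z₀, h3, h4, odd_orderOf_of_pow_eq_one h1 h5, odd_orderOf_of_pow_eq_one h2 h6⟩

section Transport

variable {Ω₁ Ω₂ : Type*} [Fintype Ω₁] [DecidableEq Ω₁] [Fintype Ω₂] [DecidableEq Ω₂]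

theorem card_support_permCongr (e : Ω₁ ≃ Ω₂) (x : Perm Ω₁) :
    (e.permCongr x).support.card = x.support.card := by
  have h : (e.permCongr x).support = x.support.map e.toEmbedding := by
    ext b
    simp only [Perm.mem_support, Finset.mem_map_equiv, Equiv.permCongr_apply, ne_eq]
    constructor
    · intro hb h2
      apply hb
      rw [h2, Equiv.apply_symm_apply]
    · intro hb h2
      apply hb
      have := congrArg e.symm h2
      rwa [Equiv.symm_apply_apply] at this
  rw [h, Finset.card_map]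

/-- `Q` is transported by a bijection -/
theorem Q_congr (e : Ω₁ ≃ Ω₂) {x y : Perm Ω₁} (h : Q x y) : Q (e.permCongr x) (e.permCongr y) := by
  obtain ⟨z, hz, hc, h1, h2⟩ := h
  have hmul : ∀ a b : Perm Ω₁, e.permCongr a * e.permCongr b = e.permCongr (a * b) := by
    intro a b
    ext w
    simp [Equiv.permCongr_apply]
  have hord : ∀ a : Perm Ω₁, orderOf (e.permCongr a) = orderOf a := by
    intro a
    have : e.permCongr a = (e.permCongrHom : Perm Ω₁ ≃* Perm Ω₂) a := rfl
    rw [this]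
    exact MulEquiv.orderOf_eq _ a
  refine ⟨e.permCongr z, ?_, ?_, ?_, ?_⟩
  · rw [hmul, hz]
    ext w
    simp [Equiv.permCongr_apply]
  · rw [card_support_permCongr, card_support_permCongr, hc]
  · rw [hmul, hord]; exact h1
  · rw [hmul, hord]; exact h2

end Transport

end Cfsg.Agent.S3265P
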