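import Mathlib
import Cfsg.Agent.Helper18.S3265Defs

/-!
# S3265: the explicit small configurations ("atoms") and their certificates

For each atom `a`: `ax`, `ay` the standard pair on `Fin m`, `az` a common odd neighbour, `az₁` a common
odd neighbour of the pair extended by the exceptional four-point configuration.
-/

set_option autoImplicit false

namespace Cfsg.Agent.S3265P

open Equiv

set_option maxRecDepth 100000

/-- atom `a1` -/
def a1x : Perm (Fin 1) := 1
/-- atom `a1` -/
def a1y : Perm (Fin 1) := 1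
/-- atom `a1` -/
def a1z : Perm (Fin 1) := 1
theorem a1_card : a1x.support.card = a1y.support.card := by decide
theorem a1_good : GoodTriple 1 1 a1x a1y a1z := by decide
/-- atom `a1` extended by the exceptional configuration -/
def a1z₁ : Perm (Fin (1 + 4)) := swap 0 1 * swap 3 4
theorem a1_good₁ : GoodTriple 3 5 (ext4 a1x c4x) (ext4 a1y c4y) a1z₁ := by decide

/-- atom `a2` -/
def a2x : Perm (Fin 2) := swap 0 1
/-- atom `a2` -/
def a2y : Perm (Fin 2) := swap 0 1
/-- atom `a2` -/
def a2z : Perm (Fin 2) := swap 0 1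
theorem a2_card : a2x.support.card = a2y.support.card := by decide
theorem a2_good : GoodTriple 1 1 a2x a2y a2z := by decide
/-- atom `a2` extended by the exceptional configuration -/
def a2z₁ : Perm (Fin (2 + 4)) := swap 0 2 * swap 1 4 * swap 3 5
theorem a2_good₁ : GoodTriple 3 3 (ext4 a2x c4x) (ext4 a2y c4y) a2z₁ := by decide

/-- atom `a3` -/
def a3x : Perm (Fin 3) := swap 1 2
/-- atom `a3` -/
def a3y : Perm (Fin 3) := swap 0 1
/-- atom `a3` -/
def a3z : Perm (Fin 3) := swap 1 2
theorem a3_card : a3x.support.card = a3y.support.card := by decide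
theorem a3_good : GoodTriple 1 3 a3x a3y a3z := by decide
/-- atom `a3` extended by the exceptional configuration -/
def a3z₁ : Perm (Fin (3 + 4)) := swap 0 1 * swap 2 3 * swap 5 6
theorem a3_good₁ : GoodTriple 5 5 (ext4 a3x c4x) (ext4 a3y c4y) a3z₁ := by decide

/-- atom `a5` -/
def a5x : Perm (Fin 5) := swap 1 2 * swap 3 4
/-- atom `a5` -/
def a5y : Perm (Fin 5) := swap 0 1 * swap 2 3
/-- atom `a5` -/
def a5z : Perm (Fin 5) := swap 0 1 * swap 3 4
theorem a5_card : a5x.support.card = a5y.support.card := by decide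
theorem a5_good : GoodTriple 3 3 a5x a5y a5z := by decide
/-- atom `a5` extended by the exceptional configuration -/
def a5z₁ : Perm (Fin (5 + 4)) := swap 1 4 * swap 2 5 * swap 3 6 * swap 7 8
theorem a5_good₁ : GoodTriple 3 3 (ext4 a5x c4x) (ext4 a5y c4y) a5z₁ := by decide

/-- atom `a22` -/
def a22x : Perm (Fin 4) := swap 2 3
/-- atom `a22` -/
def a22y : Perm (Fin 4) := swap 0 1
/-- atom `a22` -/
def a22z : Perm (Fin 4) := swap 1 2
theorem a22_card : a22x.support.card = a22y.support.card := by decide
theorem a22_good : GoodTriple 3 3 a22x a22y a22z := by decide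
/-- atom `a22` extended by the exceptional configuration -/
def a22z₁ : Perm (Fin (4 + 4)) := swap 1 4 * swap 3 5 * swap 6 7
theorem a22_good₁ : GoodTriple 5 7 (ext4 a22x c4x) (ext4 a22y c4y) a22z₁ := by decide

/-- atom `a24` -/
def a24x : Perm (Fin 6) := swap 2 3 * swap 4 5
/-- atom `a24` -/
def a24y : Perm (Fin 6) := swap 0 1 * swap 3 4
/-- atom `a24` -/
def a24z : Perm (Fin 6) := swap 1 2 * swap 4 5
theorem a24_card : a24x.support.card = a24y.support.card := by decide
theorem a24_good : GoodTriple 3 3 a24x a24y a24z := by decide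
/-- atom `a24` extended by the exceptional configuration -/
def a24z₁ : Perm (Fin (6 + 4)) := swap 1 3 * swap 2 6 * swap 4 5 * swap 8 9
theorem a24_good₁ : GoodTriple 5 5 (ext4 a24x c4x) (ext4 a24y c4y) a24z₁ := by decide

/-- atom `a42` -/
def a42x : Perm (Fin 6) := swap 1 2 * swap 4 5
/-- atom `a42` -/
def a42y : Perm (Fin 6) := swap 0 1 * swap 2 3
/-- atom `a42` -/
def a42z : Perm (Fin 6) := swap 0 1 * swap 3 4
theorem a42_card : a42x.support.card = a42y.support.card := by decide
theorem a42_good : GoodTriple 3 3 a42x a42y a42z := by decide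
/-- atom `a42` extended by the exceptional configuration -/
def a42z₁ : Perm (Fin (6 + 4)) := swap 1 2 * swap 3 4 * swap 5 6 * swap 8 9
theorem a42_good₁ : GoodTriple 5 5 (ext4 a42x c4x) (ext4 a42y c4y) a42z₁ := by decide

/-- atom `a44` -/
def a44x : Perm (Fin 8) := swap 1 2 * swap 4 5 * swap 6 7
/-- atom `a44` -/
def a44y : Perm (Fin 8) := swap 0 1 * swap 2 3 * swap 5 6
/-- atom `a44` -/
def a44z : Perm (Fin 8) := swap 1 4 * swap 2 7 * swap 5 6
theorem a44_card : a44x.support.card = a44y.support.card := by decide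
theorem a44_good : GoodTriple 3 3 a44x a44y a44z := by decide
/-- atom `a44` extended by the exceptional configuration -/
def a44z₁ : Perm (Fin (8 + 4)) := swap 1 2 * swap 3 4 * swap 6 8 * swap 7 11 * swap 9 10
theorem a44_good₁ : GoodTriple 3 5 (ext4 a44x c4x) (ext4 a44y c4y) a44z₁ := by decide

/-- atom `acc` -/
def accx : Perm (Fin 8) := swap 0 1 * swap 2 3 * swap 4 5 * swap 6 7
/-- atom `acc` -/
def accy : Perm (Fin 8) := swap 0 3 * swap 1 2 * swap 4 7 * swap 5 6
/-- atom `acc` -/
def accz : Perm (Fin 8) := swap 0 1 * swap 2 4 * swap 3 7 * swap 5 6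
theorem acc_card : accx.support.card = accy.support.card := by decide
theorem acc_good : GoodTriple 3 3 accx accy accz := by decide
/-- atom `acc` extended by the exceptional configuration -/
def accz₁ : Perm (Fin (8 + 4)) := swap 0 1 * swap 2 4 * swap 3 6 * swap 5 8 * swap 7 11 * swap 9 10
theorem acc_good₁ : GoodTriple 5 5 (ext4 accx c4x) (ext4 accy c4y) accz₁ := by decide

/-- atom `c8` -/
def c8x : Perm (Fin 8) := swap 0 1 * swap 2 3 * swap 4 5 * swap 6 7
/-- atom `c8` -/
def c8y : Perm (Fin 8) := swap 0 7 * swap 1 2 * swap 3 4 * swap 5 6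
/-- atom `c8` -/
def c8z : Perm (Fin 8) := swap 0 1 * swap 2 4 * swap 3 7 * swap 5 6
theorem c8_card : c8x.support.card = c8y.support.card := by decide
theorem c8_good : GoodTriple 3 3 c8x c8y c8z := by decide

end Cfsg.Agent.S3265P
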