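import Mathlib
import Cfsg.Agent.Helper18.S3265Defs
import Cfsg.Agent.Helper18.S3265Basic

/-!
# S3265, piece SPLIT: gluing common neighbours along an invariant predicate
-/

set_option autoImplicit false

namespace Cfsg.Agent.S3265P

open Equiv

section

variable {Ω : Type*} [Fintype Ω] [DecidableEq Ω]

theorem split_card_support_res (x : Perm Ω) (p : Ω → Prop) [DecidablePred p]
    (hx : ∀ ω, p (x ω) ↔ p ω) : (res x p hx).support.card = (x.support.filter p).card := by
  rw [← Finset.card_map (Function.Embedding.subtype p)]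
  congr 1
  ext ω
  simp only [Finset.mem_map, Perm.mem_support, Finset.mem_filter, Function.Embedding.subtype_apply]
  constructor
  · rintro ⟨⟨a, ha⟩, h, rfl⟩
    refine ⟨?_, ha⟩
    intro h'
    apply h
    ext
    exact h'
  · rintro ⟨h, hp⟩
    exact ⟨⟨ω, hp⟩, fun h' => h (congrArg Subtype.val h'), rfl⟩

theorem card_support_split (x : Perm Ω) (p : Ω → Prop)
    [DecidablePred p] (hx : ∀ ω, p (x ω) ↔ p ω) (hxn : ∀ ω, ¬ p (x ω) ↔ ¬ p ω) :
    x.support.card = (res x p hx).support.card + (res x (fun ω => ¬ p ω) hxn).support.card := by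
  rw [split_card_support_res, split_card_support_res]
  exact (Finset.card_filter_add_card_filter_not (s := x.support) p).symm

theorem split_eq_subtypeCongr (x : Perm Ω) (p : Ω → Prop)
    [DecidablePred p] (hx : ∀ ω, p (x ω) ↔ p ω) (hxn : ∀ ω, ¬ p (x ω) ↔ ¬ p ω) :
    x = Perm.subtypeCongr (res x p hx) (res x (fun ω => ¬ p ω) hxn) := by
  ext ω
  by_cases h : p ω
  · rw [Perm.subtypeCongr.left_apply _ _ h]
    rfl
  · rw [Perm.subtypeCongr.right_apply _ _ h]
    rfl

theorem split_res_subtypeCongr_left (p : Ω → Prop) [DecidablePred p] (a : Perm {ω // p ω})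
    (b : Perm {ω // ¬ p ω}) (h : ∀ ω, p (Perm.subtypeCongr a b ω) ↔ p ω) :
    res (Perm.subtypeCongr a b) p h = a := by
  ext ⟨ω, hω⟩
  simp only [res, Perm.subtypePerm_apply]
  rw [Perm.subtypeCongr.left_apply _ _ hω]

theorem split_res_subtypeCongr_right (p : Ω → Prop) [DecidablePred p] (a : Perm {ω // p ω})
    (b : Perm {ω // ¬ p ω}) (h : ∀ ω, ¬ p (Perm.subtypeCongr a b ω) ↔ ¬ p ω) :
    res (Perm.subtypeCongr a b) (fun ω => ¬ p ω) h = b := by
  ext ⟨ω, hω⟩
  simp only [res, Perm.subtypePerm_apply]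
  rw [Perm.subtypeCongr.right_apply _ _ hω]

theorem split_subtypeCongr_mem (p : Ω → Prop) [DecidablePred p] (a : Perm {ω // p ω})
    (b : Perm {ω // ¬ p ω}) (ω : Ω) : p (Perm.subtypeCongr a b ω) ↔ p ω := by
  by_cases h : p ω
  · rw [Perm.subtypeCongr.left_apply _ _ h]
    exact ⟨fun _ => h, fun _ => (a ⟨ω, h⟩).2⟩
  · rw [Perm.subtypeCongr.right_apply _ _ h]
    exact ⟨fun h' => absurd h' (b ⟨ω, h⟩).2, fun h' => absurd h' h⟩

theorem split_card_support_subtypeCongr (p : Ω → Prop) [DecidablePred p] (a : Perm {ω // p ω})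
    (b : Perm {ω // ¬ p ω}) :
    (Perm.subtypeCongr a b).support.card = a.support.card + b.support.card := by
  have h1 : ∀ ω, p (Perm.subtypeCongr a b ω) ↔ p ω := split_subtypeCongr_mem p a b
  have h2 : ∀ ω, ¬ p (Perm.subtypeCongr a b ω) ↔ ¬ p ω := fun ω => not_congr (h1 ω)
  rw [card_support_split _ p h1 h2, split_res_subtypeCongr_left, split_res_subtypeCongr_right]

theorem split_odd_orderOf (p : Ω → Prop) [DecidablePred p] (a : Perm {ω // p ω})
    (b : Perm {ω // ¬ p ω}) (ha : Odd (orderOf a)) (hb : Odd (orderOf b)) :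
    Odd (orderOf (Perm.subtypeCongr a b)) := by
  have h : orderOf (Perm.subtypeCongrHom p (a, b)) = orderOf (a, b) :=
    orderOf_injective _ (Perm.subtypeCongrHom_injective p) _
  have h' : Perm.subtypeCongrHom p (a, b) = Perm.subtypeCongr a b := rfl
  rw [← h', h, Prod.orderOf_mk]
  exact Odd.of_dvd_nat (ha.mul hb) (Nat.lcm_dvd_mul _ _)

theorem split_mul (p : Ω → Prop) [DecidablePred p] (a c : Perm {ω // p ω})
    (b d : Perm {ω // ¬ p ω}) :
    Perm.subtypeCongr a b * Perm.subtypeCongr c d = Perm.subtypeCongr (a * c) (b * d) :=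
  (map_mul (Perm.subtypeCongrHom p) (a, b) (c, d)).symm

theorem Q_of_split (x y : Perm Ω) (p : Ω → Prop)
    [DecidablePred p] (hx : ∀ ω, p (x ω) ↔ p ω) (hy : ∀ ω, p (y ω) ↔ p ω)
    (hxn : ∀ ω, ¬ p (x ω) ↔ ¬ p ω) (hyn : ∀ ω, ¬ p (y ω) ↔ ¬ p ω)
    (h1 : Q (res x p hx) (res y p hy))
    (h2 : Q (res x (fun ω => ¬ p ω) hxn) (res y (fun ω => ¬ p ω) hyn)) : Q x y := by
  obtain ⟨z1, hz1, hc1, ho1, ho1'⟩ := h1
  obtain ⟨z2, hz2, hc2, ho2, ho2'⟩ := h2
  refine ⟨Perm.subtypeCongr z1 z2, ?_, ?_, ?_, ?_⟩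
  · rw [split_mul, hz1, hz2]
    exact Perm.subtypeCongr.refl
  · rw [split_card_support_subtypeCongr, hc1, hc2, ← card_support_split]
  · have hxe := split_eq_subtypeCongr x p hx hxn
    have : x * Perm.subtypeCongr z1 z2
        = Perm.subtypeCongr (res x p hx * z1) (res x (fun ω => ¬ p ω) hxn * z2) := by
      conv_lhs => rw [hxe]
      exact split_mul p _ _ _ _
    rw [this]
    exact split_odd_orderOf p _ _ ho1 ho2
  · have hye := split_eq_subtypeCongr y p hy hyn
    have : Perm.subtypeCongr z1 z2 * y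
        = Perm.subtypeCongr (z1 * res y p hy) (z2 * res y (fun ω => ¬ p ω) hyn) := by
      conv_lhs => rw [hye]
      exact split_mul p _ _ _ _
    rw [this]
    exact split_odd_orderOf p _ _ ho1' ho2'

end

end Cfsg.Agent.S3265P
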