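import Mathlib
import Cfsg.Agent.Helper18.S3265Defs
import Cfsg.Agent.Helper18.S3265Basic
import Cfsg.Agent.Helper18.S3265Data
import Cfsg.Agent.Helper20.S3265ATOM

/-!
# S3265, piece CEXC: a contraction landing in the exceptional configuration

If contracting the alternating walk `a -x- b -y- c -x- d -y- e -x- f` yields the exceptional pair on
four points then `x`, `y` form the alternating 8-cycle, which is the atom `c8`.
-/

set_option autoImplicit false

namespace Cfsg.Agent.S3265P

open Equiv

section

variable {Ω : Type*} [Fintype Ω] [DecidableEq Ω]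

omit [Fintype Ω] [DecidableEq Ω] in
theorem cexc_sq_apply {x : Perm Ω} (hx : x * x = 1) (ω : Ω) : x (x ω) = ω := by
  have := congrArg (fun σ : Perm Ω => σ ω) hx
  simpa using this

omit [Fintype Ω] [DecidableEq Ω] in
theorem cexc_not_mem_of_closed {x : Perm Ω} (hx2 : x * x = 1) (l : List Ω)
    (hcl : ∀ u ∈ l, x u ∈ l) {ω : Ω} (h : ω ∉ l) : x ω ∉ l := by
  intro h'
  apply h
  have := hcl _ h'
  rwa [cexc_sq_apply hx2] at this

omit [Fintype Ω] in
theorem cexc_xt_of_not_mem (x : Perm Ω) (a b c d e f v : Ω) (hv : x v ∉ [a, b, c, d, e, f]) :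
    xt x a b c d e f v = x v := by
  simp only [List.mem_cons, List.not_mem_nil, or_false, not_or] at hv
  obtain ⟨h1, h2, h3, h4, h5, h6⟩ := hv
  simp only [xt, Perm.mul_apply]
  rw [swap_apply_of_ne_of_ne h5 h6, swap_apply_of_ne_of_ne h3 h4, swap_apply_of_ne_of_ne h1 h2,
    swap_apply_of_ne_of_ne h1 h6]

/-- on a four-point set, four distinct points are all the points -/
theorem cexc_four (b c d e : Ω) (hcard : Fintype.card {ω // Rem b c d e ω} = 4) (l : List Ω)
    (hl : l.Nodup) (hlen : l.length = 4) (hR : ∀ ω ∈ l, Rem b c d e ω) :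
    ∀ ω, Rem b c d e ω → ω ∈ l := by
  have h1 : l.toFinset ⊆ Finset.univ.filter (Rem b c d e) := by
    intro ω hω
    simp only [List.mem_toFinset] at hω
    simp only [Finset.mem_filter, Finset.mem_univ, true_and]
    exact hR ω hω
  have h2 : (Finset.univ.filter (Rem b c d e)).card = 4 := by
    rw [← Fintype.card_subtype]; exact hcard
  have h3 : l.toFinset.card = 4 := by rw [List.toFinset_card_of_nodup hl, hlen]
  have h4 := Finset.eq_of_subset_of_card_le h1 (by rw [h2, h3])
  intro ω hω
  have : ω ∈ Finset.univ.filter (Rem b c d e) := by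
    simp only [Finset.mem_filter, Finset.mem_univ, true_and]; exact hω
  rw [← h4] at this
  simpa using this

/-- on a four-point set there is a point different from two given ones -/
theorem cexc_third (b c d e : Ω) (hcard : Fintype.card {ω // Rem b c d e ω} = 4) (a f : Ω) :
    ∃ g, Rem b c d e g ∧ g ≠ a ∧ g ≠ f := by
  by_contra hcon
  push Not at hcon
  have h2 : (Finset.univ.filter (Rem b c d e)).card = 4 := by
    rw [← Fintype.card_subtype]; exact hcard
  have h3 : Finset.univ.filter (Rem b c d e) ⊆ {a, f} := by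
    intro ω hω
    simp only [Finset.mem_filter, Finset.mem_univ, true_and] at hω
    simp only [Finset.mem_insert, Finset.mem_singleton]
    by_contra h'
    push Not at h'
    exact h'.2 (hcon ω hω h'.1)
  have h4 := Finset.card_le_card h3
  have h5 : ({a, f} : Finset Ω).card ≤ 2 := Finset.card_le_two
  omega

theorem contract_exc (x y : Perm Ω) (hA : Adm x y)
    (a b c d e f : Ω) (hab : x a = b) (hbc : y b = c) (hcd : x c = d) (hde : y d = e)
    (hef : x e = f) (hnd : [a, b, c, d, e, f].Nodup)
    (hx' : ∀ ω, Rem b c d e (xt x a b c d e f ω) ↔ Rem b c d e ω)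
    (hy' : ∀ ω, Rem b c d e (y ω) ↔ Rem b c d e ω)
    (h : Exc (res (xt x a b c d e f) (Rem b c d e) hx') (res y (Rem b c d e) hy')) : Q x y := by
  have hxx := cexc_sq_apply hA.x2
  have hyy := cexc_sq_apply hA.y2
  have hnd6 := hnd
  simp only [List.nodup_cons, List.mem_cons, List.not_mem_nil, or_false, not_or, List.nodup_nil,
    not_false_eq_true, and_true] at hnd
  obtain ⟨⟨nab, nac, nad, nae, naf⟩, ⟨nbc, nbd, nbe, nbf⟩, ⟨ncd, nce, ncf⟩, ⟨nde, ndf⟩, nef⟩ := hnd
  have nab : a ≠ b := nab
  have nac : a ≠ c := nac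
  have nad : a ≠ d := nad
  have nae : a ≠ e := nae
  have naf : a ≠ f := naf
  have nbc : b ≠ c := nbc
  have nbd : b ≠ d := nbd
  have nbe : b ≠ e := nbe
  have nbf : b ≠ f := nbf
  have ncd : c ≠ d := ncd
  have nce : c ≠ e := nce
  have ncf : c ≠ f := ncf
  have nde : d ≠ e := nde
  have ndf : d ≠ f := ndf
  have nef : e ≠ f := nef
  have hba : x b = a := by rw [← hab, hxx]
  have hdc : x d = c := by rw [← hcd, hxx]
  have hfe : x f = e := by rw [← hef, hxx]
  have hcb : y c = b := by rw [← hbc, hyy]
  have hed : y e = d := by rw [← hde, hyy]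
  obtain ⟨hcard, hne, hfx0, hfy0⟩ := h
  -- translation of the fixed-point-freeness
  have hfx : ∀ ω, Rem b c d e ω → xt x a b c d e f ω ≠ ω := by
    intro ω hω heq
    exact hfx0 ⟨ω, hω⟩ (Subtype.ext heq)
  have hfy : ∀ ω, Rem b c d e ω → y ω ≠ ω := by
    intro ω hω heq
    exact hfy0 ⟨ω, hω⟩ (Subtype.ext heq)
  have hRa : Rem b c d e a := ⟨nab, nac, nad, nae⟩
  have hRf : Rem b c d e f := ⟨nbf.symm, ncf.symm, ndf.symm, nef.symm⟩
  have hxa : xt x a b c d e f a = f := by
    simp only [xt, Perm.mul_apply, hab]
    rw [swap_apply_of_ne_of_ne nbe nbf, swap_apply_of_ne_of_ne nbc nbd, swap_apply_right,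
      swap_apply_left]
  have hxf : xt x a b c d e f f = a := by
    simp only [xt, Perm.mul_apply, hfe]
    rw [swap_apply_left, swap_apply_of_ne_of_ne ncf.symm ndf.symm,
      swap_apply_of_ne_of_ne naf.symm nbf.symm, swap_apply_right]
  have hcl6 : ∀ u ∈ [a, b, c, d, e, f], x u ∈ [a, b, c, d, e, f] := by
    intro u hu
    simp only [List.mem_cons, List.not_mem_nil, or_false] at hu ⊢
    rcases hu with rfl | rfl | rfl | rfl | rfl | rfl
    · right; left; exact hab
    · left; exact hba
    · right; right; right; left; exact hcd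
    · right; right; left; exact hdc
    · right; right; right; right; right; exact hef
    · right; right; right; right; left; exact hfe
  have hout : ∀ ω, Rem b c d e ω → ω ≠ a → ω ≠ f → ω ∉ [a, b, c, d, e, f] := by
    intro ω hω h1 h2
    simp only [List.mem_cons, List.not_mem_nil, or_false, not_or]
    exact ⟨h1, hω.1, hω.2.1, hω.2.2.1, hω.2.2.2, h2⟩
  have hxt_out : ∀ ω, ω ∉ [a, b, c, d, e, f] → xt x a b c d e f ω = x ω := by
    intro ω hω
    exact cexc_xt_of_not_mem x a b c d e f ω (cexc_not_mem_of_closed hA.x2 _ hcl6 hω)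
  have hxtinj : ∀ u v, xt x a b c d e f u = xt x a b c d e f v → u = v :=
    fun u v huv => (xt x a b c d e f).injective huv
  -- `g = y a`
  have hRg : Rem b c d e (y a) := (hy' a).2 hRa
  have hga : y a ≠ a := hfy a hRa
  have hgf : y a ≠ f := by
    intro hyaf
    have hyfa : y f = a := by rw [← hyaf, hyy]
    obtain ⟨k, hRk, hka, hkf⟩ := cexc_third b c d e hcard a f
    have hk6 := hout k hRk hka hkf
    have hxk : xt x a b c d e f k = x k := hxt_out k hk6
    have hm6 : x k ∉ [a, b, c, d, e, f] := cexc_not_mem_of_closed hA.x2 _ hcl6 hk6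
    have hRm : Rem b c d e (x k) := by
      have := (hx' k).2 hRk
      rwa [hxk] at this
    have hmk : x k ≠ k := by
      have := hfx k hRk
      rwa [hxk] at this
    have hm6' := hm6
    simp only [List.mem_cons, List.not_mem_nil, or_false, not_or] at hm6'
    have hl : [a, f, k, x k].Nodup := by
      simp only [List.nodup_cons, List.mem_cons, List.not_mem_nil, or_false, not_or,
        List.nodup_nil, not_false_eq_true, and_true]
      exact ⟨⟨naf, hka.symm, fun h => hm6'.1 h.symm⟩, ⟨hkf.symm, fun h => hm6'.2.2.2.2.2 h.symm⟩,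
        hmk.symm⟩
    have hall := cexc_four b c d e hcard [a, f, k, x k] hl rfl (by
      intro ω hω
      simp only [List.mem_cons, List.not_mem_nil, or_false] at hω
      rcases hω with rfl | rfl | rfl | rfl
      · exact hRa
      · exact hRf
      · exact hRk
      · exact hRm)
    have hyk : y k = x k := by
      have h1 := hall (y k) ((hy' k).2 hRk)
      simp only [List.mem_cons, List.not_mem_nil, or_false] at h1
      rcases h1 with h1 | h1 | h1 | h1
      · exfalso
        have : k = f := by rw [← hyy k, h1, hyaf]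
        exact hkf this
      · exfalso
        have : k = a := by rw [← hyy k, h1, hyfa]
        exact hka this
      · exact absurd h1 (hfy k hRk)
      · exact h1
    apply hne
    ext ⟨ω, hω⟩
    show xt x a b c d e f ω = y ω
    have h1 := hall ω hω
    simp only [List.mem_cons, List.not_mem_nil, or_false] at h1
    rcases h1 with rfl | rfl | rfl | rfl
    · rw [hxa, hyaf]
    · rw [hxf, hyfa]
    · rw [hxk, hyk]
    · rw [hxt_out _ hm6, hxx, ← hyk, hyy]
  -- `h = y f`
  have hRh : Rem b c d e (y f) := (hy' f).2 hRf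
  have hhf : y f ≠ f := hfy f hRf
  have hha : y f ≠ a := by
    intro hyfa
    apply hgf
    rw [← hyfa, hyy]
  have hhg : y f ≠ y a := fun hh => naf (y.injective hh).symm
  have hl : [a, f, y a, y f].Nodup := by
    simp only [List.nodup_cons, List.mem_cons, List.not_mem_nil, or_false, not_or,
      List.nodup_nil, not_false_eq_true, and_true]
    exact ⟨⟨naf, hga.symm, hha.symm⟩, ⟨hgf.symm, hhf.symm⟩, hhg.symm⟩
  have hall := cexc_four b c d e hcard [a, f, y a, y f] hl rfl (by
    intro ω hω
    simp only [List.mem_cons, List.not_mem_nil, or_false] at hω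
    rcases hω with rfl | rfl | rfl | rfl
    · exact hRa
    · exact hRf
    · exact hRg
    · exact hRh)
  have hg6 := hout (y a) hRg hga hgf
  have hh6 := hout (y f) hRh hha hhf
  have hxg : x (y a) = y f := by
    have hxtg : xt x a b c d e f (y a) = x (y a) := hxt_out _ hg6
    have h1 := hall (xt x a b c d e f (y a)) ((hx' (y a)).2 hRg)
    simp only [List.mem_cons, List.not_mem_nil, or_false] at h1
    rcases h1 with h1 | h1 | h1 | h1
    · exfalso
      exact hgf (hxtinj _ _ (h1.trans hxf.symm))
    · exfalso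
      exact hga (hxtinj _ _ (h1.trans hxa.symm))
    · exact absurd h1 (hfx _ hRg)
    · rw [← hxtg]; exact h1
  have hxh : x (y f) = y a := by rw [← hxg, hxx]
  -- the atom
  have hg6' := hg6
  have hh6' := hh6
  simp only [List.mem_cons, List.not_mem_nil, or_false, not_or] at hg6' hh6'
  have hnd8 : [a, b, c, d, e, f, y f, y a].Nodup := by
    simp only [List.nodup_cons, List.mem_cons, List.not_mem_nil, or_false, not_or,
      List.nodup_nil, not_false_eq_true, and_true]
    refine ⟨⟨nab, nac, nad, nae, naf, hha.symm, hga.symm⟩,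
      ⟨nbc, nbd, nbe, nbf, Ne.symm hh6'.2.1, Ne.symm hg6'.2.1⟩,
      ⟨ncd, nce, ncf, Ne.symm hh6'.2.2.1, Ne.symm hg6'.2.2.1⟩,
      ⟨nde, ndf, Ne.symm hh6'.2.2.2.1, Ne.symm hg6'.2.2.2.1⟩,
      ⟨nef, Ne.symm hh6'.2.2.2.2.1, Ne.symm hg6'.2.2.2.2.1⟩,
      ⟨hhf.symm, hgf.symm⟩, hhg⟩
  have hrange : ∀ ω, ω ∈ Set.range (fun i => [a, b, c, d, e, f, y f, y a].get i) := by
    intro ω
    have hmem : ω ∈ [a, b, c, d, e, f, y f, y a] := by
      by_cases hω : Rem b c d e ω
      · have h1 := hall ω hω
        simp only [List.mem_cons, List.not_mem_nil, or_false] at h1 ⊢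
        rcases h1 with h1 | h1 | h1 | h1
        · left; exact h1
        · right; right; right; right; right; left; exact h1
        · right; right; right; right; right; right; right; exact h1
        · right; right; right; right; right; right; left; exact h1
      · simp only [Rem, not_and_or, not_not] at hω
        simp only [List.mem_cons, List.not_mem_nil, or_false]
        rcases hω with h1 | h1 | h1 | h1
        · right; left; exact h1
        · right; right; left; exact h1
        · right; right; right; left; exact h1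
        · right; right; right; right; left; exact h1
    obtain ⟨n, hn⟩ := List.mem_iff_get.1 hmem
    exact ⟨n, hn⟩
  refine Q_of_atom x y hA (m := 8) (fun i => [a, b, c, d, e, f, y f, y a].get i)
    (List.nodup_iff_injective_get.1 hnd8) c8x c8y c8z ?_ ?_ 3 3 c8_good ?_
  · intro i
    fin_cases i
    · exact hab
    · exact hba
    · exact hcd
    · exact hdc
    · exact hef
    · exact hfe
    · exact hxh
    · exact hxg
  · intro i
    fin_cases i
    · exact rfl
    · exact hbc
    · exact hcb
    · exact hde
    · exact hed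
    · exact rfl
    · exact hyy f
    · exact hyy a
  · intro hxn hyn
    have : IsEmpty {ω // ω ∉ Set.range (fun i => [a, b, c, d, e, f, y f, y a].get i)} :=
      ⟨fun ω => ω.2 (hrange ω.1)⟩
    exact Q_of_isEmpty _ _

end

end Cfsg.Agent.S3265P
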