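import Mathlib
import Cfsg.Agent.Helper18.S3265Defs
import Cfsg.Agent.Helper18.S3265Basic
import Cfsg.Agent.Helper18.S3265Split
import Cfsg.Agent.Helper18.S3265CExc
import Cfsg.Agent.Helper3.S3265CLIFT

/-!
# S3265, piece CASM (backup version by helper18): the contraction step
-/

set_option autoImplicit false

namespace Cfsg.Agent.S3265P

open Equiv

section

variable {Ω : Type} [Fintype Ω] [DecidableEq Ω]

/-- removing four moved points from the support -/
theorem casmb_card_filter (z : Perm Ω) (b c d e : Ω) (hnd : [b, c, d, e].Nodup)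
    (hb : z b ≠ b) (hc : z c ≠ c) (hd : z d ≠ d) (he : z e ≠ e) :
    (z.support.filter (Rem b c d e)).card + 4 = z.support.card := by
  have h1 : z.support.filter (Rem b c d e) = z.support \ [b, c, d, e].toFinset := by
    ext ω
    simp only [Finset.mem_filter, Finset.mem_sdiff, List.mem_toFinset, List.mem_cons,
      List.not_mem_nil, or_false, not_or, Rem]
  have h2 : [b, c, d, e].toFinset ⊆ z.support := by
    intro ω hω
    simp only [List.mem_toFinset, List.mem_cons, List.not_mem_nil, or_false] at hω
    rw [Perm.mem_support]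
    rcases hω with rfl | rfl | rfl | rfl
    · exact hb
    · exact hc
    · exact hd
    · exact he
  have h3 : [b, c, d, e].toFinset.card = 4 := by
    rw [List.toFinset_card_of_nodup hnd]
    rfl
  rw [h1, Finset.card_sdiff_of_subset h2, h3]
  have := Finset.card_le_card h2
  omega

theorem step_contract_b (IH : IHyp (Fintype.card Ω))
    (x y : Perm Ω) (hA : Adm x y) (a b c d e f : Ω)
    (hab : x a = b) (hbc : y b = c) (hcd : x c = d) (hde : y d = e) (hef : x e = f)
    (hnd : [a, b, c, d, e, f].Nodup) : Q x y := by
  have hxx := cexc_sq_apply hA.x2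
  have hyy := cexc_sq_apply hA.y2
  have hnd6 := hnd
  simp only [List.nodup_cons, List.mem_cons, List.not_mem_nil, or_false, not_or, List.nodup_nil,
    not_false_eq_true, and_true] at hnd
  obtain ⟨⟨nab, nac, nad, nae, naf⟩, ⟨nbc, nbd, nbe, nbf⟩, ⟨ncd, nce, ncf⟩, ⟨nde, ndf⟩, nef⟩ := hnd
  have nab : a ≠ b := nab
  have nac : a ≠ c := nac
  have nad : a ≠ d := nad
  have nae : a ≠ e := nae
  have naf : a ≠ f := naf
  have nbc : b ≠ c := nbc
  have nbd : b ≠ d := nbd
  have nbe : b ≠ e := nbe
  have nbf : b ≠ f := nbf
  have ncd : c ≠ d := ncd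
  have nce : c ≠ e := nce
  have ncf : c ≠ f := ncf
  have nde : d ≠ e := nde
  have ndf : d ≠ f := ndf
  have nef : e ≠ f := nef
  have hba : x b = a := by rw [← hab, hxx]
  have hdc : x d = c := by rw [← hcd, hxx]
  have hfe : x f = e := by rw [← hef, hxx]
  have hcb : y c = b := by rw [← hbc, hyy]
  have hed : y e = d := by rw [← hde, hyy]
  -- values of the contracted involution
  have hXa : xt x a b c d e f a = f := by
    simp only [xt, Perm.mul_apply, hab]
    rw [swap_apply_of_ne_of_ne nbe nbf, swap_apply_of_ne_of_ne nbc nbd, swap_apply_right,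
      swap_apply_left]
  have hXf : xt x a b c d e f f = a := by
    simp only [xt, Perm.mul_apply, hfe]
    rw [swap_apply_left, swap_apply_of_ne_of_ne ncf.symm ndf.symm,
      swap_apply_of_ne_of_ne naf.symm nbf.symm, swap_apply_right]
  have hXb : xt x a b c d e f b = b := by
    simp only [xt, Perm.mul_apply, hba]
    rw [swap_apply_of_ne_of_ne nae naf, swap_apply_of_ne_of_ne nac nad, swap_apply_left,
      swap_apply_of_ne_of_ne nab.symm nbf]
  have hXc : xt x a b c d e f c = c := by
    simp only [xt, Perm.mul_apply, hcd]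
    rw [swap_apply_of_ne_of_ne nde ndf, swap_apply_right, swap_apply_of_ne_of_ne nac.symm nbc.symm,
      swap_apply_of_ne_of_ne nac.symm ncf]
  have hXd : xt x a b c d e f d = d := by
    simp only [xt, Perm.mul_apply, hdc]
    rw [swap_apply_of_ne_of_ne nce ncf, swap_apply_left, swap_apply_of_ne_of_ne nad.symm nbd.symm,
      swap_apply_of_ne_of_ne nad.symm ndf]
  have hXe : xt x a b c d e f e = e := by
    simp only [xt, Perm.mul_apply, hef]
    rw [swap_apply_right, swap_apply_of_ne_of_ne nce.symm nde.symm,
      swap_apply_of_ne_of_ne nae.symm nbe.symm, swap_apply_of_ne_of_ne nae.symm nef]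
  have hcl6 : ∀ u ∈ [a, b, c, d, e, f], x u ∈ [a, b, c, d, e, f] := by
    intro u hu
    simp only [List.mem_cons, List.not_mem_nil, or_false] at hu ⊢
    rcases hu with rfl | rfl | rfl | rfl | rfl | rfl
    · right; left; exact hab
    · left; exact hba
    · right; right; right; left; exact hcd
    · right; right; left; exact hdc
    · right; right; right; right; right; exact hef
    · right; right; right; right; left; exact hfe
  have hXout : ∀ ω, ω ∉ [a, b, c, d, e, f] → xt x a b c d e f ω = x ω := by
    intro ω hω
    exact cexc_xt_of_not_mem x a b c d e f ω (cexc_not_mem_of_closed hA.x2 _ hcl6 hω)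
  have hout : ∀ ω, Rem b c d e ω → ω ≠ a → ω ≠ f → ω ∉ [a, b, c, d, e, f] := by
    intro ω hω h1 h2
    simp only [List.mem_cons, List.not_mem_nil, or_false, not_or]
    exact ⟨h1, hω.1, hω.2.1, hω.2.2.1, hω.2.2.2, h2⟩
  -- the contracted permutation is an involution
  have hX2 : xt x a b c d e f * xt x a b c d e f = 1 := by
    ext ω
    rw [Perm.mul_apply, Perm.one_apply]
    by_cases hω : ω ∈ [a, b, c, d, e, f]
    · simp only [List.mem_cons, List.not_mem_nil, or_false] at hω
      rcases hω with rfl | rfl | rfl | rfl | rfl | rfl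
      · rw [hXa, hXf]
      · rw [hXb, hXb]
      · rw [hXc, hXc]
      · rw [hXd, hXd]
      · rw [hXe, hXe]
      · rw [hXf, hXa]
    · rw [hXout ω hω, hXout _ (cexc_not_mem_of_closed hA.x2 _ hcl6 hω), hxx]
  -- invariance of `Rem`
  have hRemfix : ∀ (z : Perm Ω), z b = b → z c = c → z d = d → z e = e →
      ∀ ω, Rem b c d e (z ω) ↔ Rem b c d e ω := by
    intro z hb hc hd he ω
    unfold Rem
    constructor
    · rintro ⟨h1, h2, h3, h4⟩
      refine ⟨?_, ?_, ?_, ?_⟩
      · rintro rfl; exact h1 hb
      · rintro rfl; exact h2 hc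
      · rintro rfl; exact h3 hd
      · rintro rfl; exact h4 he
    · rintro ⟨h1, h2, h3, h4⟩
      refine ⟨?_, ?_, ?_, ?_⟩
      · intro h; apply h1; apply z.injective; rw [h, hb]
      · intro h; apply h2; apply z.injective; rw [h, hc]
      · intro h; apply h3; apply z.injective; rw [h, hd]
      · intro h; apply h4; apply z.injective; rw [h, he]
  have hx' : ∀ ω, Rem b c d e (xt x a b c d e f ω) ↔ Rem b c d e ω :=
    hRemfix _ hXb hXc hXd hXe
  have hy' : ∀ ω, Rem b c d e (y ω) ↔ Rem b c d e ω := by
    intro ω
    unfold Rem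
    constructor
    · rintro ⟨h1, h2, h3, h4⟩
      refine ⟨?_, ?_, ?_, ?_⟩
      · rintro rfl; exact h2 hbc
      · rintro rfl; exact h1 hcb
      · rintro rfl; exact h4 hde
      · rintro rfl; exact h3 hed
    · rintro ⟨h1, h2, h3, h4⟩
      refine ⟨?_, ?_, ?_, ?_⟩
      · intro h; apply h2; apply y.injective; rw [h, hcb]
      · intro h; apply h1; apply y.injective; rw [h, hbc]
      · intro h; apply h4; apply y.injective; rw [h, hed]
      · intro h; apply h3; apply y.injective; rw [h, hde]
  -- admissibility of the contracted pair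
  have hnd4 : [b, c, d, e].Nodup := by
    simp only [List.nodup_cons, List.mem_cons, List.not_mem_nil, or_false, not_or, List.nodup_nil,
      not_false_eq_true, and_true]
    exact ⟨⟨nbc, nbd, nbe⟩, ⟨ncd, nce⟩, nde⟩
  have hAdm : Adm (res (xt x a b c d e f) (Rem b c d e) hx') (res y (Rem b c d e) hy') := by
    refine ⟨?_, ?_, ?_⟩
    · ext ⟨ω, hω⟩
      show xt x a b c d e f (xt x a b c d e f ω) = ω
      have := congrArg (fun σ : Perm Ω => σ ω) hX2
      simpa using this
    · ext ⟨ω, hω⟩
      show y (y ω) = ω
      exact hyy ω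
    · rw [split_card_support_res, split_card_support_res]
      have h1 : (xt x a b c d e f).support.filter (Rem b c d e) =
          x.support.filter (Rem b c d e) := by
        ext ω
        simp only [Finset.mem_filter, Perm.mem_support]
        constructor
        · rintro ⟨h1, h2⟩
          refine ⟨?_, h2⟩
          by_cases h3 : ω = a
          · rw [h3, hab]; exact nab.symm
          by_cases h4 : ω = f
          · rw [h4, hfe]; exact nef
          rwa [hXout ω (hout ω h2 h3 h4)] at h1
        · rintro ⟨h1, h2⟩
          refine ⟨?_, h2⟩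
          by_cases h3 : ω = a
          · rw [h3, hXa]; exact naf.symm
          by_cases h4 : ω = f
          · rw [h4, hXf]; exact naf
          rwa [hXout ω (hout ω h2 h3 h4)]
      rw [h1]
      have h2 := casmb_card_filter x b c d e hnd4 (by rw [hba]; exact nab) (by rw [hcd]; exact ncd.symm)
        (by rw [hdc]; exact ncd) (by rw [hef]; exact nef.symm)
      have h3 := casmb_card_filter y b c d e hnd4 (by rw [hbc]; exact nbc.symm) (by rw [hcb]; exact nbc)
        (by rw [hde]; exact nde.symm) (by rw [hed]; exact nde)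
      have := hA.card
      omega
  -- the induction hypothesis
  have hlt : Fintype.card {ω // Rem b c d e ω} < Fintype.card Ω :=
    Fintype.card_subtype_lt (x := b) (fun h => h.1 rfl)
  rcases IH {ω // Rem b c d e ω} hlt _ _ hAdm with hQ | hE
  · exact contract_lift x y hA a b c d e f hab hbc hcd hde hef hnd6 hx' hy' hQ
  · exact contract_exc x y hA a b c d e f hab hbc hcd hde hef hnd6 hx' hy' hE

end

end Cfsg.Agent.S3265P
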