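import Mathlib
import Cfsg.Agent.Helper18.S3265Defs
import Cfsg.Agent.Helper18.S3265Basic
import Cfsg.Agent.Helper18.S3265Data
import Cfsg.Agent.Helper23.S3265GEN
import Cfsg.Agent.Helper18.S3265CasmB

/-!
# S3265: the case analysis and the induction
-/

set_option autoImplicit false

namespace Cfsg.Agent.S3265P

open Equiv

section

variable {Ω : Type} [Fintype Ω] [DecidableEq Ω]

omit [Fintype Ω] [DecidableEq Ω] in
theorem struct_sq_apply {x : Perm Ω} (hx : x * x = 1) (ω : Ω) : x (x ω) = ω := by
  have := congrArg (fun σ : Perm Ω => σ ω) hx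
  simpa using this

omit [Fintype Ω] [DecidableEq Ω] in
theorem struct_eq_of_apply_eq {x : Perm Ω} (hx : x * x = 1) {u v : Ω} (h : x u = v) : x v = u := by
  rw [← h, struct_sq_apply hx]

/-- if `x` has a fixed point so does `y` -/
theorem struct_exists_fixed {x y : Perm Ω} (hA : Adm x y) (h : ∃ p, x p = p) : ∃ q, y q = q := by
  by_contra hcon
  push Not at hcon
  obtain ⟨p, hp⟩ := h
  have h1 : y.support = Finset.univ := by
    ext q
    simp [hcon q]
  have h2 : p ∉ x.support := by simp [hp]
  have h3 : x.support.card < Fintype.card Ω := by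
    calc x.support.card < (Finset.univ : Finset Ω).card :=
          Finset.card_lt_card (Finset.ssubset_univ_iff.2 (fun h => h2 (h ▸ Finset.mem_univ p)))
      _ = Fintype.card Ω := Finset.card_univ
  rw [hA.card, h1, Finset.card_univ] at h3
  exact lt_irrefl _ h3

omit [Fintype Ω] [DecidableEq Ω] in
/-- five consecutive points of an alternating walk are distinct -/
theorem struct_nodup_five {x y : Perm Ω} (hx2 : x * x = 1) (hy2 : y * y = 1) (a b c d e : Ω)
    (hab : x a = b) (hbc : y b = c) (hcd : x c = d) (hde : y d = e)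
    (h1 : b ≠ a) (h2 : c ≠ b) (hac : c ≠ a) (h3 : d ≠ c) (h4 : e ≠ d) (hae : e ≠ a) :
    [a, b, c, d, e].Nodup := by
  have hba : x b = a := struct_eq_of_apply_eq hx2 hab
  have hcb : y c = b := struct_eq_of_apply_eq hy2 hbc
  have hdc : x d = c := struct_eq_of_apply_eq hx2 hcd
  have hed : y e = d := struct_eq_of_apply_eq hy2 hde
  have had : a ≠ d := by
    intro h; rw [← h] at hdc; exact h2 (hdc.symm.trans hab)
  have hbd : b ≠ d := by
    intro h; rw [← h] at hdc; exact hac (hdc.symm.trans hba)
  have hbe : b ≠ e := by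
    intro h; rw [← h] at hed; exact h3 (hed.symm.trans hbc)
  have hce : c ≠ e := by
    intro h; rw [← h] at hed; exact hbd (hed.symm.trans hcb).symm
  simp only [List.nodup_cons, List.mem_cons, List.not_mem_nil, or_false, not_or, List.nodup_nil,
    not_false_eq_true,
    and_true]
  exact ⟨⟨h1.symm, hac.symm, had, hae.symm⟩, ⟨h2.symm, hbd, hbe⟩, ⟨h3.symm, hce⟩, h4.symm⟩

omit [Fintype Ω] [DecidableEq Ω] in
/-- six consecutive points of an alternating walk are distinct -/
theorem struct_nodup_six {x y : Perm Ω} (hx2 : x * x = 1) (hy2 : y * y = 1) (a b c d e f : Ω)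
    (hab : x a = b) (hbc : y b = c) (hcd : x c = d) (hde : y d = e) (hef : x e = f)
    (h1 : b ≠ a) (h2 : c ≠ b) (hac : c ≠ a) (h3 : d ≠ c) (h4 : e ≠ d) (hae : e ≠ a)
    (h5 : f ≠ e) : [a, b, c, d, e, f].Nodup := by
  have h5' := struct_nodup_five hx2 hy2 a b c d e hab hbc hcd hde h1 h2 hac h3 h4 hae
  simp only [List.nodup_cons, List.mem_cons, List.not_mem_nil, or_false, not_or, List.nodup_nil,
    not_false_eq_true,
    and_true] at h5'
  obtain ⟨⟨hab', hac', had', hae'⟩, ⟨hbc', hbd', hbe'⟩, ⟨hcd', hce'⟩, hde'⟩ := h5'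
  have hba : x b = a := struct_eq_of_apply_eq hx2 hab
  have hdc : x d = c := struct_eq_of_apply_eq hx2 hcd
  have hfe : x f = e := struct_eq_of_apply_eq hx2 hef
  have haf : a ≠ f := by
    intro h; rw [← h] at hfe; exact hbe' (hab.symm.trans hfe)
  have hbf : b ≠ f := by
    intro h; rw [← h] at hfe; exact hae' (hba.symm.trans hfe)
  have hcf : c ≠ f := by
    intro h; rw [← h] at hfe; exact hde' (hcd.symm.trans hfe)
  have hdf : d ≠ f := by
    intro h; rw [← h] at hfe; exact hce' (hdc.symm.trans hfe)
  simp only [List.nodup_cons, List.mem_cons, List.not_mem_nil, or_false, not_or, List.nodup_nil,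
    not_false_eq_true,
    and_true]
  exact ⟨⟨hab', hac', had', hae', haf⟩, ⟨hbc', hbd', hbe', hbf⟩, ⟨hcd', hce', hcf⟩,
    ⟨hde', hdf⟩, h5.symm⟩

/-- the 3-vertex path `p0 -y- p1 -x- p2` -/
theorem struct_atom3 (IH : IHyp (Fintype.card Ω)) {x y : Perm Ω} (hA : Adm x y) (p0 p1 p2 : Ω)
    (h0 : x p0 = p0) (h01 : y p0 = p1) (h12 : x p1 = p2) (h2 : y p2 = p2)
    (hnd : [p0, p1, p2].Nodup) : Q x y := by
  have h10 : y p1 = p0 := struct_eq_of_apply_eq hA.y2 h01
  have h21 : x p2 = p1 := struct_eq_of_apply_eq hA.x2 h12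
  refine step_atom IH x y hA (m := 3) (by norm_num) (fun i => [p0, p1, p2].get i)
    (List.nodup_iff_injective_get.1 hnd) a3x a3y a3z ?_ ?_ a3_card 1 3 a3_good a3z₁ 5 5 a3_good₁
  · intro i
    fin_cases i
    · exact h0
    · exact h12
    · exact h21
  · intro i
    fin_cases i
    · exact h01
    · exact h10
    · exact h2

/-- a common fixed point -/
theorem struct_atom1 (IH : IHyp (Fintype.card Ω)) {x y : Perm Ω} (hA : Adm x y) (p0 : Ω)
    (h0 : x p0 = p0) (h0' : y p0 = p0) : Q x y := by
  refine step_atom IH x y hA (m := 1) (by norm_num) (fun i => [p0].get i)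
    (List.nodup_iff_injective_get.1 (List.nodup_singleton p0)) a1x a1y a1z ?_ ?_ a1_card 1 1
    a1_good a1z₁ 3 5 a1_good₁
  · intro i
    fin_cases i
    exact h0
  · intro i
    fin_cases i
    exact h0'

/-- a common 2-cycle -/
theorem struct_atom2 (IH : IHyp (Fintype.card Ω)) {x y : Perm Ω} (hA : Adm x y) (p0 p1 : Ω)
    (h01 : x p0 = p1) (h01' : y p0 = p1) (hne : p1 ≠ p0) : Q x y := by
  have h10 : x p1 = p0 := struct_eq_of_apply_eq hA.x2 h01
  have h10' : y p1 = p0 := struct_eq_of_apply_eq hA.y2 h01'
  have hnd : [p0, p1].Nodup := by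
    simp only [List.nodup_cons, List.mem_cons, List.not_mem_nil, or_false, List.nodup_nil,
      not_false_eq_true, and_true]
    exact hne.symm
  refine step_atom IH x y hA (m := 2) (by norm_num) (fun i => [p0, p1].get i)
    (List.nodup_iff_injective_get.1 hnd) a2x a2y a2z ?_ ?_ a2_card 1 1 a2_good a2z₁ 3 3 a2_good₁
  · intro i
    fin_cases i
    · exact h01
    · exact h10
  · intro i
    fin_cases i
    · exact h01'
    · exact h10'

/-- the 5-vertex path `p0 -y- p1 -x- p2 -y- p3 -x- p4` -/
theorem struct_atom5 (IH : IHyp (Fintype.card Ω)) {x y : Perm Ω} (hA : Adm x y)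
    (p0 p1 p2 p3 p4 : Ω) (h0 : x p0 = p0) (h01 : y p0 = p1) (h12 : x p1 = p2) (h23 : y p2 = p3)
    (h34 : x p3 = p4) (h4 : y p4 = p4) (hnd : [p0, p1, p2, p3, p4].Nodup) : Q x y := by
  have h10 : y p1 = p0 := struct_eq_of_apply_eq hA.y2 h01
  have h21 : x p2 = p1 := struct_eq_of_apply_eq hA.x2 h12
  have h32 : y p3 = p2 := struct_eq_of_apply_eq hA.y2 h23
  have h43 : x p4 = p3 := struct_eq_of_apply_eq hA.x2 h34
  refine step_atom IH x y hA (m := 5) (by norm_num) (fun i => [p0, p1, p2, p3, p4].get i)
    (List.nodup_iff_injective_get.1 hnd) a5x a5y a5z ?_ ?_ a5_card 3 3 a5_good a5z₁ 3 3 a5_good₁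
  · intro i
    fin_cases i
    · exact h0
    · exact h12
    · exact h21
    · exact h34
    · exact h43
  · intro i
    fin_cases i
    · exact h01
    · exact h10
    · exact h23
    · exact h32
    · exact h4

/-- a `y`-heavy path with 2 vertices and an `x`-heavy path with 2 vertices -/
theorem struct_pair22 (IH : IHyp (Fintype.card Ω)) {x y : Perm Ω} (hA : Adm x y)
    (p0 p1 q0 q1 : Ω) (hp0 : x p0 = p0) (hp01 : y p0 = p1) (hp1 : x p1 = p1) (hq0 : y q0 = q0) (hq01 : x q0 = q1) (hq1 : y q1 = q1)
    (hnd : [p0, p1, q0, q1].Nodup) : Q x y := by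
  have hp10 : y p1 = p0 := struct_eq_of_apply_eq hA.y2 hp01
  have hq10 : x q1 = q0 := struct_eq_of_apply_eq hA.x2 hq01
  refine step_atom IH x y hA (m := 4) (by norm_num) (fun i => [p0, p1, q0, q1].get i)
    (List.nodup_iff_injective_get.1 hnd) a22x a22y a22z ?_ ?_ a22_card 3 3 a22_good
    a22z₁ 5 7 a22_good₁
  · intro i
    fin_cases i
    · exact hp0
    · exact hp1
    · exact hq01
    · exact hq10
  · intro i
    fin_cases i
    · exact hp01
    · exact hp10
    · exact hq0
    · exact hq1

/-- a `y`-heavy path with 2 vertices and an `x`-heavy path with 4 vertices -/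
theorem struct_pair24 (IH : IHyp (Fintype.card Ω)) {x y : Perm Ω} (hA : Adm x y)
    (p0 p1 q0 q1 q2 q3 : Ω) (hp0 : x p0 = p0) (hp01 : y p0 = p1) (hp1 : x p1 = p1) (hq0 : y q0 = q0) (hq01 : x q0 = q1) (hq12 : y q1 = q2) (hq23 : x q2 = q3) (hq3 : y q3 = q3)
    (hnd : [p0, p1, q0, q1, q2, q3].Nodup) : Q x y := by
  have hp10 : y p1 = p0 := struct_eq_of_apply_eq hA.y2 hp01
  have hq10 : x q1 = q0 := struct_eq_of_apply_eq hA.x2 hq01
  have hq21 : y q2 = q1 := struct_eq_of_apply_eq hA.y2 hq12
  have hq32 : x q3 = q2 := struct_eq_of_apply_eq hA.x2 hq23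
  refine step_atom IH x y hA (m := 6) (by norm_num) (fun i => [p0, p1, q0, q1, q2, q3].get i)
    (List.nodup_iff_injective_get.1 hnd) a24x a24y a24z ?_ ?_ a24_card 3 3 a24_good
    a24z₁ 5 5 a24_good₁
  · intro i
    fin_cases i
    · exact hp0
    · exact hp1
    · exact hq01
    · exact hq10
    · exact hq23
    · exact hq32
  · intro i
    fin_cases i
    · exact hp01
    · exact hp10
    · exact hq0
    · exact hq12
    · exact hq21
    · exact hq3

/-- a `y`-heavy path with 4 vertices and an `x`-heavy path with 2 vertices -/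
theorem struct_pair42 (IH : IHyp (Fintype.card Ω)) {x y : Perm Ω} (hA : Adm x y)
    (p0 p1 p2 p3 q0 q1 : Ω) (hp0 : x p0 = p0) (hp01 : y p0 = p1) (hp12 : x p1 = p2) (hp23 : y p2 = p3) (hp3 : x p3 = p3) (hq0 : y q0 = q0) (hq01 : x q0 = q1) (hq1 : y q1 = q1)
    (hnd : [p0, p1, p2, p3, q0, q1].Nodup) : Q x y := by
  have hp10 : y p1 = p0 := struct_eq_of_apply_eq hA.y2 hp01
  have hp21 : x p2 = p1 := struct_eq_of_apply_eq hA.x2 hp12
  have hp32 : y p3 = p2 := struct_eq_of_apply_eq hA.y2 hp23
  have hq10 : x q1 = q0 := struct_eq_of_apply_eq hA.x2 hq01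
  refine step_atom IH x y hA (m := 6) (by norm_num) (fun i => [p0, p1, p2, p3, q0, q1].get i)
    (List.nodup_iff_injective_get.1 hnd) a42x a42y a42z ?_ ?_ a42_card 3 3 a42_good
    a42z₁ 5 5 a42_good₁
  · intro i
    fin_cases i
    · exact hp0
    · exact hp12
    · exact hp21
    · exact hp3
    · exact hq01
    · exact hq10
  · intro i
    fin_cases i
    · exact hp01
    · exact hp10
    · exact hp23
    · exact hp32
    · exact hq0
    · exact hq1

/-- a `y`-heavy path with 4 vertices and an `x`-heavy path with 4 vertices -/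
theorem struct_pair44 (IH : IHyp (Fintype.card Ω)) {x y : Perm Ω} (hA : Adm x y)
    (p0 p1 p2 p3 q0 q1 q2 q3 : Ω) (hp0 : x p0 = p0) (hp01 : y p0 = p1) (hp12 : x p1 = p2) (hp23 : y p2 = p3) (hp3 : x p3 = p3) (hq0 : y q0 = q0) (hq01 : x q0 = q1) (hq12 : y q1 = q2) (hq23 : x q2 = q3) (hq3 : y q3 = q3)
    (hnd : [p0, p1, p2, p3, q0, q1, q2, q3].Nodup) : Q x y := by
  have hp10 : y p1 = p0 := struct_eq_of_apply_eq hA.y2 hp01
  have hp21 : x p2 = p1 := struct_eq_of_apply_eq hA.x2 hp12
  have hp32 : y p3 = p2 := struct_eq_of_apply_eq hA.y2 hp23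
  have hq10 : x q1 = q0 := struct_eq_of_apply_eq hA.x2 hq01
  have hq21 : y q2 = q1 := struct_eq_of_apply_eq hA.y2 hq12
  have hq32 : x q3 = q2 := struct_eq_of_apply_eq hA.x2 hq23
  refine step_atom IH x y hA (m := 8) (by norm_num) (fun i => [p0, p1, p2, p3, q0, q1, q2, q3].get i)
    (List.nodup_iff_injective_get.1 hnd) a44x a44y a44z ?_ ?_ a44_card 3 3 a44_good
    a44z₁ 3 5 a44_good₁
  · intro i
    fin_cases i
    · exact hp0
    · exact hp12
    · exact hp21
    · exact hp3
    · exact hq01
    · exact hq10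
    · exact hq23
    · exact hq32
  · intro i
    fin_cases i
    · exact hp01
    · exact hp10
    · exact hp23
    · exact hp32
    · exact hq0
    · exact hq12
    · exact hq21
    · exact hq3

/-- two 4-cycles -/
theorem struct_paircc (IH : IHyp (Fintype.card Ω)) {x y : Perm Ω} (hA : Adm x y)
    (a b c d a' b' c' d' : Ω) (hab : x a = b) (hbc : y b = c) (hcd : x c = d) (hda : y d = a)
    (hab' : x a' = b') (hbc' : y b' = c') (hcd' : x c' = d') (hda' : y d' = a')
    (hnd : [a, b, c, d, a', b', c', d'].Nodup) : Q x y := by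
  have hba : x b = a := struct_eq_of_apply_eq hA.x2 hab
  have hcb : y c = b := struct_eq_of_apply_eq hA.y2 hbc
  have hdc : x d = c := struct_eq_of_apply_eq hA.x2 hcd
  have had : y a = d := struct_eq_of_apply_eq hA.y2 hda
  have hba' : x b' = a' := struct_eq_of_apply_eq hA.x2 hab'
  have hcb' : y c' = b' := struct_eq_of_apply_eq hA.y2 hbc'
  have hdc' : x d' = c' := struct_eq_of_apply_eq hA.x2 hcd'
  have had' : y a' = d' := struct_eq_of_apply_eq hA.y2 hda'
  refine step_atom IH x y hA (m := 8) (by norm_num) (fun i => [a, b, c, d, a', b', c', d'].get i)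
    (List.nodup_iff_injective_get.1 hnd) accx accy accz ?_ ?_ acc_card 3 3 acc_good
    accz₁ 5 5 acc_good₁
  · intro i
    fin_cases i
    · exact hab
    · exact hba
    · exact hcd
    · exact hdc
    · exact hab'
    · exact hba'
    · exact hcd'
    · exact hdc'
  · intro i
    fin_cases i
    · exact had
    · exact hbc
    · exact hcb
    · exact hda
    · exact had'
    · exact hbc'
    · exact hcb'
    · exact hda'

/-- the walk from a point `q0` fixed by `y` and moved by `x` -/
theorem struct_walk (IH : IHyp (Fintype.card Ω)) {x y : Perm Ω} (hA : Adm x y) (q0 : Ω)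
    (hq0 : y q0 = q0) (hq0x : x q0 ≠ q0) :
    Q x y ∨ y (x q0) = x q0 ∨
      (y (x q0) ≠ x q0 ∧ x (y (x q0)) ≠ y (x q0) ∧ y (x (y (x q0))) = x (y (x q0))) := by
  have hxx := struct_sq_apply hA.x2
  have hyy := struct_sq_apply hA.y2
  by_cases h1 : y (x q0) = x q0
  · exact Or.inr (Or.inl h1)
  by_cases h2 : x (y (x q0)) = y (x q0)
  · -- a 3-vertex path
    left
    have hac : y (x q0) ≠ q0 := by
      intro h
      have := hyy (x q0)
      rw [h, hq0] at this
      exact hq0x this.symm
    refine struct_atom3 IH hA (y (x q0)) (x q0) q0 h2 (hyy _) (hxx _) hq0 ?_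
    simp only [List.nodup_cons, List.mem_cons, List.not_mem_nil, or_false, not_or, List.nodup_nil,
      not_false_eq_true, and_true]
    exact ⟨⟨h1, hac⟩, hq0x⟩
  by_cases h3 : y (x (y (x q0))) = x (y (x q0))
  · exact Or.inr (Or.inr ⟨h1, h2, h3⟩)
  left
  have hac : y (x q0) ≠ q0 := by
    intro h
    have := hyy (x q0)
    rw [h, hq0] at this
    exact hq0x this.symm
  have hae : y (x (y (x q0))) ≠ q0 := by
    intro h
    have e1 := hyy (x (y (x q0)))
    rw [h, hq0] at e1
    -- q0 = x (y (x q0))
    have e2 := hxx (y (x q0))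
    rw [← e1] at e2
    -- x q0 = y (x q0)
    exact h1 e2.symm
  by_cases h4 : x (y (x (y (x q0)))) = y (x (y (x q0)))
  · -- a 5-vertex path
    have hnd := struct_nodup_five hA.x2 hA.y2 q0 (x q0) (y (x q0)) (x (y (x q0)))
      (y (x (y (x q0)))) rfl rfl rfl rfl hq0x h1 hac h2 h3 hae
    refine struct_atom5 IH hA (y (x (y (x q0)))) (x (y (x q0))) (y (x q0)) (x q0) q0 h4 (hyy _)
      (hxx _) (hyy _) (hxx _) hq0 ?_
    have := List.nodup_reverse.2 hnd
    exact this
  · -- a contraction
    have hnd := struct_nodup_six hA.x2 hA.y2 q0 (x q0) (y (x q0)) (x (y (x q0)))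
      (y (x (y (x q0)))) (x (y (x (y (x q0))))) rfl rfl rfl rfl rfl hq0x h1 hac h2 h3 hae h4
    exact step_contract_b IH x y hA _ _ _ _ _ _ rfl rfl rfl rfl rfl hnd

/-- the walk from a point of a fixed-point-free configuration -/
theorem struct_cyc (IH : IHyp (Fintype.card Ω)) {x y : Perm Ω} (hA : Adm x y)
    (NC : ∀ ω, x ω ≠ y ω) (hfx : ∀ ω, x ω ≠ ω) (hfy : ∀ ω, y ω ≠ ω) (a : Ω) :
    Q x y ∨ y (x (y (x a))) = a := by
  have hxx := struct_sq_apply hA.x2
  have hyy := struct_sq_apply hA.y2
  by_cases he : y (x (y (x a))) = a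
  · exact Or.inr he
  left
  have hac : y (x a) ≠ a := by
    intro h
    have := hyy (x a)
    rw [h] at this
    exact NC a this.symm
  have hnd := struct_nodup_six hA.x2 hA.y2 a (x a) (y (x a)) (x (y (x a)))
    (y (x (y (x a)))) (x (y (x (y (x a))))) rfl rfl rfl rfl rfl (hfx _) (hfy _) hac (hfx _)
    (hfy _) he (hfx _)
  exact step_contract_b IH x y hA _ _ _ _ _ _ rfl rfl rfl rfl rfl hnd

omit [Fintype Ω] [DecidableEq Ω] in
theorem struct_not_mem_of_closed {x : Perm Ω} (hx2 : x * x = 1) (l : List Ω)
    (hcl : ∀ u ∈ l, x u ∈ l) {ω : Ω} (h : ω ∉ l) : x ω ∉ l := by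
  intro h'
  apply h
  have := hcl _ h'
  rwa [struct_sq_apply hx2] at this

omit [Fintype Ω] [DecidableEq Ω] in
/-- four consecutive points of an alternating walk are distinct -/
theorem struct_nodup_four {x : Perm Ω} (hx2 : x * x = 1) (a b c d : Ω)
    (hab : x a = b) (hcd : x c = d)
    (h1 : b ≠ a) (h2 : c ≠ b) (hac : c ≠ a) (h3 : d ≠ c) : [a, b, c, d].Nodup := by
  have hba : x b = a := struct_eq_of_apply_eq hx2 hab
  have hdc : x d = c := struct_eq_of_apply_eq hx2 hcd
  have had : a ≠ d := by
    intro h; rw [← h] at hdc; exact h2 (hdc.symm.trans hab)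
  have hbd : b ≠ d := by
    intro h; rw [← h] at hdc; exact hac (hdc.symm.trans hba)
  simp only [List.nodup_cons, List.mem_cons, List.not_mem_nil, or_false, not_or, List.nodup_nil,
    not_false_eq_true, and_true]
  exact ⟨⟨h1.symm, hac.symm, had⟩, ⟨h2.symm, hbd⟩, h3.symm⟩

omit [Fintype Ω] [DecidableEq Ω] in
theorem struct_nodup_append (l₁ l₂ : List Ω) (h1 : l₁.Nodup) (h2 : l₂.Nodup)
    (h : ∀ b ∈ l₂, b ∉ l₁) : (l₁ ++ l₂).Nodup := by
  rw [List.nodup_append]
  refine ⟨h1, h2, ?_⟩
  intro a ha b hb hab
  exact h b hb (hab ▸ ha)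

/-- the induction step -/
theorem struct_step (IH : IHyp (Fintype.card Ω)) (x y : Perm Ω) (hA : Adm x y) :
    Q x y ∨ Exc x y := by
  classical
  have hxx := struct_sq_apply hA.x2
  have hyy := struct_sq_apply hA.y2
  -- a common fixed point
  by_cases h0 : ∃ ω, x ω = ω ∧ y ω = ω
  · obtain ⟨ω, h1, h2⟩ := h0
    exact Or.inl (struct_atom1 IH hA ω h1 h2)
  push Not at h0
  -- a common 2-cycle
  by_cases h1 : ∃ ω, x ω = y ω
  · obtain ⟨ω, hω⟩ := h1
    have hne : x ω ≠ ω := fun h => h0 ω h (hω ▸ h)
    exact Or.inl (struct_atom2 IH hA ω (x ω) rfl hω.symm hne)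
  push Not at h1
  by_cases hfix : ∃ p, x p = p
  · -- paths
    left
    obtain ⟨p0, hp0⟩ := hfix
    obtain ⟨q0, hq0⟩ := struct_exists_fixed hA ⟨p0, hp0⟩
    have hp0y : y p0 ≠ p0 := fun h => h0 p0 hp0 h
    have hq0x : x q0 ≠ q0 := fun h => h0 q0 h hq0
    rcases struct_walk IH hA.symm p0 hp0 hp0y with hQ | hP
    · exact Q_symm hA hQ
    rcases struct_walk IH hA q0 hq0 hq0x with hQ | hQx
    · exact hQ
    -- the `y`-heavy path at `p0`: a list `lp`, closed under `x`, all of whose points are moved by `y`
    -- the `x`-heavy path at `q0`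
    rcases hP with hP2 | ⟨hP41, hP42, hP43⟩
    · -- `lp = [p0, y p0]`
      have hlp : [p0, y p0].Nodup := by
        simp only [List.nodup_cons, List.mem_cons, List.not_mem_nil, or_false, List.nodup_nil,
          not_false_eq_true, and_true]
        exact hp0y.symm
      have hclx : ∀ u ∈ [p0, y p0], x u ∈ [p0, y p0] := by
        intro u hu
        simp only [List.mem_cons, List.not_mem_nil, or_false] at hu ⊢
        rcases hu with rfl | rfl
        · left; exact hp0
        · right; exact hP2
      have hmv : ∀ u ∈ [p0, y p0], y u ≠ u := by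
        intro u hu
        simp only [List.mem_cons, List.not_mem_nil, or_false] at hu
        rcases hu with rfl | rfl
        · exact hp0y
        · rw [hyy]; exact hp0y.symm
      have hfixnot : ∀ q, y q = q → q ∉ [p0, y p0] := fun q hq hmem => hmv q hmem hq
      rcases hQx with hQ2 | ⟨hQ41, hQ42, hQ43⟩
      · -- `lq = [q0, x q0]`
        have hlq : [q0, x q0].Nodup := by
          simp only [List.nodup_cons, List.mem_cons, List.not_mem_nil, or_false, List.nodup_nil,
            not_false_eq_true, and_true]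
          exact hq0x.symm
        have hdisj : ∀ b ∈ [q0, x q0], b ∉ [p0, y p0] := by
          intro b hb
          simp only [List.mem_cons, List.not_mem_nil, or_false] at hb
          rcases hb with rfl | rfl
          · exact hfixnot _ hq0
          · exact hfixnot _ hQ2
        exact struct_pair22 IH hA p0 (y p0) q0 (x q0) hp0 rfl hP2 hq0 rfl hQ2
          (struct_nodup_append _ _ hlp hlq hdisj)
      · -- `lq = [q0, x q0, y (x q0), x (y (x q0))]`
        have hacq : y (x q0) ≠ q0 := by
          intro h
          have := hyy (x q0)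
          rw [h, hq0] at this
          exact hq0x this.symm
        have hlq : [q0, x q0, y (x q0), x (y (x q0))].Nodup :=
          struct_nodup_four hA.x2 q0 (x q0) (y (x q0)) (x (y (x q0))) rfl rfl hq0x hQ41 hacq hQ42
        have hdisj : ∀ b ∈ [q0, x q0, y (x q0), x (y (x q0))], b ∉ [p0, y p0] := by
          have e0 : q0 ∉ [p0, y p0] := hfixnot _ hq0
          have e3 : x (y (x q0)) ∉ [p0, y p0] := hfixnot _ hQ43
          have e1 : x q0 ∉ [p0, y p0] := struct_not_mem_of_closed hA.x2 _ hclx e0
          have e2 : y (x q0) ∉ [p0, y p0] := by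
            have := struct_not_mem_of_closed hA.x2 _ hclx e3
            rwa [hxx] at this
          intro b hb
          simp only [List.mem_cons, List.not_mem_nil, or_false] at hb
          rcases hb with rfl | rfl | rfl | rfl
          · exact e0
          · exact e1
          · exact e2
          · exact e3
        exact struct_pair24 IH hA p0 (y p0) q0 (x q0) (y (x q0)) (x (y (x q0))) hp0 rfl hP2 hq0
          rfl rfl rfl hQ43 (struct_nodup_append _ _ hlp hlq hdisj)
    · -- `lp = [p0, y p0, x (y p0), y (x (y p0))]`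
      have hacp : x (y p0) ≠ p0 := by
        intro h
        have := hxx (y p0)
        rw [h, hp0] at this
        exact hp0y this.symm
      have hlp : [p0, y p0, x (y p0), y (x (y p0))].Nodup :=
        struct_nodup_four hA.y2 p0 (y p0) (x (y p0)) (y (x (y p0))) rfl rfl hp0y hP41 hacp hP42
      have hclx : ∀ u ∈ [p0, y p0, x (y p0), y (x (y p0))],
          x u ∈ [p0, y p0, x (y p0), y (x (y p0))] := by
        intro u hu
        simp only [List.mem_cons, List.not_mem_nil, or_false] at hu ⊢
        rcases hu with rfl | rfl | rfl | rfl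
        · left; exact hp0
        · right; right; left; rfl
        · right; left; exact hxx _
        · right; right; right; exact hP43
      have hmv : ∀ u ∈ [p0, y p0, x (y p0), y (x (y p0))], y u ≠ u := by
        intro u hu
        simp only [List.mem_cons, List.not_mem_nil, or_false] at hu
        rcases hu with rfl | rfl | rfl | rfl
        · exact hp0y
        · rw [hyy]; exact hp0y.symm
        · exact hP42
        · rw [hyy]; exact hP42.symm
      have hfixnot : ∀ q, y q = q → q ∉ [p0, y p0, x (y p0), y (x (y p0))] :=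
        fun q hq hmem => hmv q hmem hq
      rcases hQx with hQ2 | ⟨hQ41, hQ42, hQ43⟩
      · have hlq : [q0, x q0].Nodup := by
          simp only [List.nodup_cons, List.mem_cons, List.not_mem_nil, or_false, List.nodup_nil,
            not_false_eq_true, and_true]
          exact hq0x.symm
        have hdisj : ∀ b ∈ [q0, x q0], b ∉ [p0, y p0, x (y p0), y (x (y p0))] := by
          intro b hb
          simp only [List.mem_cons, List.not_mem_nil, or_false] at hb
          rcases hb with rfl | rfl
          · exact hfixnot _ hq0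
          · exact hfixnot _ hQ2
        exact struct_pair42 IH hA p0 (y p0) (x (y p0)) (y (x (y p0))) q0 (x q0) hp0 rfl rfl rfl
          hP43 hq0 rfl hQ2 (struct_nodup_append _ _ hlp hlq hdisj)
      · have hacq : y (x q0) ≠ q0 := by
          intro h
          have := hyy (x q0)
          rw [h, hq0] at this
          exact hq0x this.symm
        have hlq : [q0, x q0, y (x q0), x (y (x q0))].Nodup :=
          struct_nodup_four hA.x2 q0 (x q0) (y (x q0)) (x (y (x q0))) rfl rfl hq0x hQ41 hacq hQ42
        have hdisj : ∀ b ∈ [q0, x q0, y (x q0), x (y (x q0))],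
            b ∉ [p0, y p0, x (y p0), y (x (y p0))] := by
          have e0 : q0 ∉ [p0, y p0, x (y p0), y (x (y p0))] := hfixnot _ hq0
          have e3 : x (y (x q0)) ∉ [p0, y p0, x (y p0), y (x (y p0))] := hfixnot _ hQ43
          have e1 : x q0 ∉ [p0, y p0, x (y p0), y (x (y p0))] :=
            struct_not_mem_of_closed hA.x2 _ hclx e0
          have e2 : y (x q0) ∉ [p0, y p0, x (y p0), y (x (y p0))] := by
            have := struct_not_mem_of_closed hA.x2 _ hclx e3
            rwa [hxx] at this
          intro b hb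
          simp only [List.mem_cons, List.not_mem_nil, or_false] at hb
          rcases hb with rfl | rfl | rfl | rfl
          · exact e0
          · exact e1
          · exact e2
          · exact e3
        exact struct_pair44 IH hA p0 (y p0) (x (y p0)) (y (x (y p0))) q0 (x q0) (y (x q0))
          (x (y (x q0))) hp0 rfl rfl rfl hP43 hq0 rfl rfl rfl hQ43
          (struct_nodup_append _ _ hlp hlq hdisj)
  · -- cycles only
    push Not at hfix
    have hfixy : ∀ q, y q ≠ q := by
      intro q hq
      obtain ⟨p, hp⟩ := struct_exists_fixed hA.symm ⟨q, hq⟩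
      exact hfix p hp
    by_cases hemp : IsEmpty Ω
    · exact Or.inl (Q_of_isEmpty x y)
    rw [not_isEmpty_iff] at hemp
    obtain ⟨a⟩ := hemp
    rcases struct_cyc IH hA h1 hfix hfixy a with hQ | hC
    · exact Or.inl hQ
    have hac : y (x a) ≠ a := by
      intro h
      have := hyy (x a)
      rw [h] at this
      exact h1 a this.symm
    have hl : [a, x a, y (x a), x (y (x a))].Nodup :=
      struct_nodup_four hA.x2 a (x a) (y (x a)) (x (y (x a))) rfl rfl (hfix _) (hfixy _) hac
        (hfix _)
    by_cases hall : ∀ ω, ω ∈ [a, x a, y (x a), x (y (x a))]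
    · right
      refine ⟨?_, fun h => h1 a (by rw [h]), hfix, hfixy⟩
      have h1' : (Finset.univ : Finset Ω) = [a, x a, y (x a), x (y (x a))].toFinset := by
        ext ω
        simp only [Finset.mem_univ, List.mem_toFinset, true_iff]
        exact hall ω
      rw [← Finset.card_univ, h1', List.toFinset_card_of_nodup hl]
      rfl
    · left
      push Not at hall
      obtain ⟨a', ha'⟩ := hall
      rcases struct_cyc IH hA h1 hfix hfixy a' with hQ | hC'
      · exact hQ
      have hac' : y (x a') ≠ a' := by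
        intro h
        have := hyy (x a')
        rw [h] at this
        exact h1 a' this.symm
      have hl' : [a', x a', y (x a'), x (y (x a'))].Nodup :=
        struct_nodup_four hA.x2 a' (x a') (y (x a')) (x (y (x a'))) rfl rfl (hfix _) (hfixy _) hac'
          (hfix _)
      have hclx : ∀ u ∈ [a, x a, y (x a), x (y (x a))], x u ∈ [a, x a, y (x a), x (y (x a))] := by
        intro u hu
        simp only [List.mem_cons, List.not_mem_nil, or_false] at hu ⊢
        rcases hu with rfl | rfl | rfl | rfl
        · right; left; rfl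
        · left; exact hxx _
        · right; right; right; rfl
        · right; right; left; exact hxx _
      have hcly : ∀ u ∈ [a, x a, y (x a), x (y (x a))], y u ∈ [a, x a, y (x a), x (y (x a))] := by
        intro u hu
        simp only [List.mem_cons, List.not_mem_nil, or_false] at hu ⊢
        rcases hu with rfl | rfl | rfl | rfl
        · right; right; right
          have := hyy (x (y (x u)))
          rw [hC] at this
          exact this
        · right; right; left; rfl
        · right; left; exact hyy _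
        · left; exact hC
      have e0 := ha'
      have e1 := struct_not_mem_of_closed hA.x2 _ hclx e0
      have e2 := struct_not_mem_of_closed hA.y2 _ hcly e1
      have e3 := struct_not_mem_of_closed hA.x2 _ hclx e2
      have hdisj : ∀ b ∈ [a', x a', y (x a'), x (y (x a'))],
          b ∉ [a, x a, y (x a), x (y (x a))] := by
        intro b hb
        simp only [List.mem_cons, List.not_mem_nil, or_false] at hb
        rcases hb with rfl | rfl | rfl | rfl
        · exact e0
        · exact e1
        · exact e2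
        · exact e3
      exact struct_paircc IH hA a (x a) (y (x a)) (x (y (x a))) a' (x a') (y (x a'))
        (x (y (x a'))) rfl rfl rfl hC rfl rfl rfl hC' (struct_nodup_append _ _ hl hl' hdisj)

/-- **Main combinatorial theorem**: two involutions with equally many moved points have a common
odd neighbour, unless they are distinct fixed-point-free involutions on four points. -/
theorem main_QE : ∀ (n : ℕ) (Ω : Type) [Fintype Ω] [DecidableEq Ω], Fintype.card Ω = n →
    ∀ x y : Perm Ω, Adm x y → Q x y ∨ Exc x y := by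
  intro n
  induction n using Nat.strong_induction_on with
  | _ n ih =>
    intro Ω _ _ hn x y hA
    have IH : IHyp (Fintype.card Ω) := by
      intro Ω' _ _ hlt x' y' hA'
      exact ih (Fintype.card Ω') (hn ▸ hlt) Ω' rfl x' y' hA'
    exact struct_step IH x y hA

end

end Cfsg.Agent.S3265P
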