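import Mathlib
import Cfsg.Agent.Helper16.OPGraph
import Cfsg.Agent.Helper18.S3265Struct
import Cfsg.Agent.Helper23.S3265CONJ
import Cfsg.Agent.Helper23.S3265NADJ

/-!
# S3265: final assembly

From the main combinatorial theorem `main_QE` (any two involutions with equally many moved points
have a common odd neighbour, except on four points), the conjugacy criterion and a non-adjacent
pair, deduce that the odd-product graph on a class of involutions of `Sym(n)`, `n ≥ 5`, is connected
of diameter two.
-/

set_option autoImplicit false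

namespace Cfsg.Agent.S3265P

open Equiv

/-- two conjugates of the involution `t` in `Sym(n)`, `n ≥ 5`, have a common odd neighbour in the
class of `t` -/
theorem final_common_nbr {n : ℕ} (hn : 5 ≤ n) (t : Perm (Fin n)) (ht : orderOf t = 2)
    (x y : Perm (Fin n)) (hx : IsConj t x) (hy : IsConj t y) :
    ∃ z : Perm (Fin n), IsConj t z ∧ Odd (orderOf (x * z)) ∧ Odd (orderOf (z * y)) := by
  have hA : Adm x y := adm_of_isConj t x y ht hx hy
  have hAt : Adm t x := adm_of_isConj t t x ht (IsConj.refl t) hx
  rcases main_QE n (Fin n) (by simp) x y hA with hQ | hE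
  · obtain ⟨z, hz2, hzc, h1, h2⟩ := hQ
    refine ⟨z, ?_, h1, h2⟩
    exact isConj_of_card_support t z hAt.x2 hz2 (hzc.trans hAt.card.symm)
  · exfalso
    have := hE.1
    simp only [Fintype.card_fin] at this
    omega

/-- the odd-product graph on the class of the involution `t` of `Sym(n)`, `n ≥ 5`, is connected of
diameter two -/
theorem final_graph (n : ℕ) (hn : 5 ≤ n) (t : Perm (Fin n)) (ht : orderOf t = 2) :
    (SimpleGraph.fromRel fun x y : {x : Perm (Fin n) // IsConj t x} =>
        Odd (orderOf (x.1 * y.1))).Connected ∧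
      (SimpleGraph.fromRel fun x y : {x : Perm (Fin n) // IsConj t x} =>
        Odd (orderOf (x.1 * y.1))).diam = 2 := by
  apply Cfsg.Agent.Helper16.OPG.connected_diam_two
  · intro u v huv hnadj
    rw [SimpleGraph.fromRel_adj] at hnadj
    have hno : ¬ Odd (orderOf (u.1 * v.1)) := fun h => hnadj ⟨huv, Or.inl h⟩
    obtain ⟨z, hz, h1, h2⟩ := final_common_nbr hn t ht u.1 v.1 u.2 v.2
    refine ⟨⟨z, hz⟩, ?_, ?_⟩
    · rw [SimpleGraph.fromRel_adj]
      refine ⟨?_, Or.inl h1⟩
      intro h
      apply hno
      have : u.1 = z := congrArg Subtype.val h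
      rw [this]
      exact h2
    · rw [SimpleGraph.fromRel_adj]
      refine ⟨?_, Or.inl h2⟩
      intro h
      apply hno
      have : z = v.1 := congrArg Subtype.val h
      rw [← this]
      exact h1
  · obtain ⟨v, hv, hvt, h1, h2⟩ := exists_nonadj n hn t ht
    refine ⟨⟨t, IsConj.refl t⟩, ⟨v, hv⟩, ?_, ?_⟩
    · intro h
      exact hvt (congrArg Subtype.val h).symm
    · rw [SimpleGraph.fromRel_adj]
      rintro ⟨-, h | h⟩
      · exact h1 h
      · exact h2 h

end Cfsg.Agent.S3265P
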