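import Mathlib

/-!
# S3493, Lemma X, part 1: the block lemmas [I] and [II] and the even-order case

`XHyp A T`: a group `A` acts on the *set* of a group `T` by automorphisms or anti-automorphisms,
all inner automorphisms occur, no proper nontrivial subgroup is invariant, `T` is not commutative
and `A` is primitive on each of its orbits.
-/

set_option autoImplicit false

open scoped Pointwise

namespace Cfsg.Agent.S3493P

/-- On a primitive `G`-set an equivariant map is injective at `x` or constant. -/
theorem inj_or_const {G X Y : Type*} [Group G] [MulAction G X] [MulAction G Y]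
    [MulAction.IsPreprimitive G X] (j : X →ₑ[@id G] Y) (x : X) :
    (∀ y, j y = j x → y = x) ∨ (∀ y, j y = j x) := by
  have hB : MulAction.IsBlock G (j ⁻¹' ({j x} : Set Y)) :=
    MulAction.IsBlock.preimage j MulAction.IsBlock.singleton
  rcases MulAction.IsPreprimitive.isTrivialBlock_of_isBlock hB with h | h
  · left
    intro y hy
    exact h (by simpa using hy) (by simp)
  · right
    intro y
    have : y ∈ j ⁻¹' ({j x} : Set Y) := by rw [h]; trivial
    simpa using this

/-- The hypotheses of Lemma X. -/
structure XHyp (A T : Type*) [Group T] [Group A] [MulAction A T] : Prop where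
  auto : ∀ g : A, (∀ x y : T, g • (x * y) = g • x * g • y) ∨
    (∀ x y : T, g • (x * y) = g • y * g • x)
  inn : ∀ t : T, ∃ g : A, ∀ x : T, g • x = t * x * t⁻¹
  inv : ∀ H : Subgroup T, (∀ g : A, ∀ x ∈ H, g • x ∈ H) → H = ⊥ ∨ H = ⊤
  prim : ∀ x : T, MulAction.IsPreprimitive A (MulAction.orbit A x)
  nc : ∃ x y : T, x * y ≠ y * x

namespace XHyp

variable {A T : Type*} [Group T] [Group A] [MulAction A T] (h : XHyp A T)
include h

theorem smul_one' (g : A) : g • (1 : T) = 1 := by
  rcases h.auto g with ha | ha
  · have := ha 1 1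
    rw [mul_one] at this
    exact (left_eq_mul.mp this)
  · have := ha 1 1
    rw [mul_one] at this
    exact (left_eq_mul.mp this)

theorem smul_pow' (g : A) (x : T) (k : ℕ) : g • (x ^ k) = (g • x) ^ k := by
  induction k with
  | zero => simpa using h.smul_one' g
  | succ k ih =>
    rcases h.auto g with ha | ha
    · rw [pow_succ, ha, ih, pow_succ]
    · rw [pow_succ, ha, ih, pow_succ']

theorem smul_inv'' (g : A) (x : T) : g • x⁻¹ = (g • x)⁻¹ := by
  rcases h.auto g with ha | ha
  · have := ha x x⁻¹
    rw [mul_inv_cancel, h.smul_one'] at this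
    exact (eq_inv_of_mul_eq_one_right this.symm)
  · have := ha x⁻¹ x
    rw [inv_mul_cancel, h.smul_one'] at this
    exact (eq_inv_of_mul_eq_one_right this.symm)

theorem smul_zpow' (g : A) (x : T) (k : ℤ) : g • (x ^ k) = (g • x) ^ k := by
  cases k with
  | ofNat n => simpa using h.smul_pow' g x n
  | negSucc n =>
    rw [zpow_negSucc, zpow_negSucc, h.smul_inv'', h.smul_pow']

theorem smul_eq_one_iff' (g : A) (x : T) : g • x = 1 ↔ x = 1 := by
  constructor
  · intro hx
    have : g • x = g • (1 : T) := by rw [hx, h.smul_one']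
    exact MulAction.injective g this
  · rintro rfl
    exact h.smul_one' g

/-- the centre is trivial -/
theorem center_eq_bot : Subgroup.center T = ⊥ := by
  have hinv : ∀ g : A, ∀ x ∈ Subgroup.center T, g • x ∈ Subgroup.center T := by
    intro g x hx
    rw [Subgroup.mem_center_iff] at hx ⊢
    intro y
    obtain ⟨y', rfl⟩ := MulAction.surjective g y
    rcases h.auto g with ha | ha
    · rw [← ha, ← ha, hx y']
    · rw [← ha, ← ha, hx y']
  rcases h.inv (Subgroup.center T) hinv with h1 | h1
  · exact h1
  · exfalso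
    obtain ⟨x, y, hxy⟩ := h.nc
    have hx : x ∈ Subgroup.center T := by rw [h1]; trivial
    exact hxy ((Subgroup.mem_center_iff.mp hx y).symm)

/-- a point of `T` fixed by all of `A` is trivial -/
theorem eq_one_of_fixed {c : T} (hc : ∀ g : A, g • c = c) : c = 1 := by
  have hcz : c ∈ Subgroup.center T := by
    rw [Subgroup.mem_center_iff]
    intro t
    obtain ⟨g, hg⟩ := h.inn t
    have := hc g
    rw [hg] at this
    calc t * c = t * c * t⁻¹ * t := by group
      _ = c * t := by rw [this]
  rw [h.center_eq_bot] at hcz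
  exact Subgroup.mem_bot.mp hcz

/-- **[I]**: if `x ^ k ≠ 1` and `g` fixes `x ^ k` then `g` fixes `x`. -/
theorem fix_of_fix_pow {x : T} {k : ℕ} (hk : x ^ k ≠ 1) {g : A} (hg : g • x ^ k = x ^ k) :
    g • x = x := by
  have := h.prim x
  let j : MulAction.orbit A x →ₑ[@id A] T :=
    { toFun := fun y => (y : T) ^ k
      map_smul' := fun a y => by
        change ((a • y : MulAction.orbit A x) : T) ^ k = a • ((y : T) ^ k)
        rw [h.smul_pow']
        rfl }
  let x0 : MulAction.orbit A x := ⟨x, MulAction.mem_orbit_self x⟩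
  rcases inj_or_const j x0 with h1 | h1
  · have := h1 (g • x0) (by
      change ((g • x0 : MulAction.orbit A x) : T) ^ k = x ^ k
      change (g • x) ^ k = x ^ k
      rw [← h.smul_pow', hg])
    exact congrArg Subtype.val this
  · exfalso
    apply hk
    apply h.eq_one_of_fixed
    intro a
    have := h1 (a • x0)
    change (a • x) ^ k = x ^ k at this
    rw [h.smul_pow', this]

/-- **[I]** for centralisers. -/
theorem commute_of_commute_pow {x : T} {k : ℕ} (hk : x ^ k ≠ 1) {t : T}
    (ht : Commute t (x ^ k)) : Commute t x := by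
  obtain ⟨g, hg⟩ := h.inn t
  have h1 : g • x ^ k = x ^ k := by
    rw [hg, ht.eq]; group
  have h2 := h.fix_of_fix_pow hk h1
  rw [hg] at h2
  change t * x = x * t
  calc t * x = t * x * t⁻¹ * t := by group
    _ = x * t := by rw [h2]

theorem smul_zpowers_eq (g : A) (x : T) :
    g • (Subgroup.zpowers x : Set T) = (Subgroup.zpowers (g • x) : Set T) := by
  ext y
  constructor
  · rintro ⟨z, ⟨n, rfl⟩, rfl⟩
    exact ⟨n, (h.smul_zpow' g x n).symm⟩
  · rintro ⟨n, rfl⟩
    exact ⟨x ^ n, ⟨n, rfl⟩, h.smul_zpow' g x n⟩

/-- **[II]**: if `x ≠ 1` and `g • x` generates the same cyclic subgroup as `x` then `g • x = x`. -/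
theorem fix_of_zpowers_eq {x : T} (hx : x ≠ 1) {g : A}
    (hg : Subgroup.zpowers (g • x) = Subgroup.zpowers x) : g • x = x := by
  have := h.prim x
  let j : MulAction.orbit A x →ₑ[@id A] Set T :=
    { toFun := fun y => (Subgroup.zpowers (y : T) : Set T)
      map_smul' := fun a y => by
        change (Subgroup.zpowers ((a • y : MulAction.orbit A x) : T) : Set T) =
          a • (Subgroup.zpowers (y : T) : Set T)
        rw [h.smul_zpowers_eq]
        rfl }
  let x0 : MulAction.orbit A x := ⟨x, MulAction.mem_orbit_self x⟩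
  rcases inj_or_const j x0 with h1 | h1
  · have := h1 (g • x0) (by
      change (Subgroup.zpowers (g • x) : Set T) = (Subgroup.zpowers x : Set T)
      rw [hg])
    exact congrArg Subtype.val this
  · exfalso
    have hinv : ∀ a : A, ∀ y ∈ Subgroup.zpowers x, a • y ∈ Subgroup.zpowers x := by
      intro a y hy
      have h2 := h1 (a • x0)
      change (Subgroup.zpowers (a • x) : Set T) = (Subgroup.zpowers x : Set T) at h2
      have : a • y ∈ a • (Subgroup.zpowers x : Set T) := Set.smul_mem_smul_set hy
      rw [h.smul_zpowers_eq, h2] at this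
      exact this
    rcases h.inv _ hinv with h3 | h3
    · exact hx (Subgroup.zpowers_eq_bot.mp h3)
    · obtain ⟨a, b, hab⟩ := h.nc
      have ha : a ∈ Subgroup.zpowers x := by rw [h3]; trivial
      have hb : b ∈ Subgroup.zpowers x := by rw [h3]; trivial
      obtain ⟨m, rfl⟩ := ha
      obtain ⟨n, rfl⟩ := hb
      exact hab ((Commute.refl x).zpow_zpow m n).eq

end XHyp

end Cfsg.Agent.S3493P
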