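import Mathlib
import Cfsg.Agent.Helper18.S3493X1

/-!
# S3493, Lemma X, part 2: the order of `T` is odd
-/

set_option autoImplicit false

open scoped Pointwise

namespace Cfsg.Agent.S3493P

namespace XHyp

variable {A T : Type*} [Group T] [Group A] [MulAction A T] (h : XHyp A T)
include h

/-- two elements of square one commute -/
theorem sq_one_commute {s t : T} (hs : s ^ 2 = 1) (ht : t ^ 2 = 1) : s * t = t * s := by
  by_contra hst
  have hs' : s⁻¹ = s := by
    rw [inv_eq_iff_mul_eq_one, ← pow_two, hs]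
  have ht' : t⁻¹ = t := by
    rw [inv_eq_iff_mul_eq_one, ← pow_two, ht]
  have hw1 : s * t ≠ 1 := by
    intro h1
    apply hst
    have : s = t⁻¹ := eq_inv_of_mul_eq_one_left h1
    rw [ht'] at this
    rw [this]
  obtain ⟨g, hg⟩ := h.inn s
  have hgw : g • (s * t) = (s * t)⁻¹ := by
    rw [hg, mul_inv_rev, hs', ht']
    calc s * (s * t) * s = s ^ 2 * t * s := by rw [pow_two]; simp only [mul_assoc]
      _ = t * s := by rw [hs, one_mul]
  have hz : Subgroup.zpowers (g • (s * t)) = Subgroup.zpowers (s * t) := by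
    rw [hgw, Subgroup.zpowers_inv]
  have hfix := h.fix_of_zpowers_eq hw1 hz
  rw [hgw] at hfix
  -- `w⁻¹ = w`
  apply hst
  rw [mul_inv_rev, hs', ht'] at hfix
  exact hfix.symm

theorem not_two_dvd_card [Finite T] : ¬ 2 ∣ Nat.card T := by
  intro h2
  have : Fact (Nat.Prime 2) := ⟨Nat.prime_two⟩
  obtain ⟨s, hs⟩ := exists_prime_orderOf_dvd_card' (G := T) 2 h2
  let E : Subgroup T :=
    { carrier := {x | x ^ 2 = 1}
      one_mem' := by simp
      mul_mem' := by
        intro a b ha hb
        have hab := h.sq_one_commute ha hb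
        change (a * b) ^ 2 = 1
        have hc : Commute a b := hab
        rw [hc.mul_pow, show a ^ 2 = 1 from ha, show b ^ 2 = 1 from hb, one_mul]
      inv_mem' := by
        intro a ha
        change (a⁻¹) ^ 2 = 1
        rw [inv_pow, show a ^ 2 = 1 from ha, inv_one] }
  have hinv : ∀ g : A, ∀ x ∈ E, g • x ∈ E := by
    intro g x hx
    change (g • x) ^ 2 = 1
    rw [← h.smul_pow', show x ^ 2 = 1 from hx, h.smul_one']
  have hsE : s ∈ E := by
    change s ^ 2 = 1
    rw [← hs, pow_orderOf_eq_one]
  rcases h.inv E hinv with h1 | h1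
  · rw [h1, Subgroup.mem_bot] at hsE
    rw [hsE, orderOf_one] at hs
    omega
  · obtain ⟨a, b, hab⟩ := h.nc
    have ha : a ∈ E := by rw [h1]; trivial
    have hb : b ∈ E := by rw [h1]; trivial
    exact hab (h.sq_one_commute ha hb)

end XHyp

end Cfsg.Agent.S3493P
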