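import Mathlib
import Cfsg.Agent.Helper18.S3493X2

/-!
# S3493, Lemma X, part 3: centralisers of commuting elements of coprime prime orders agree
-/

set_option autoImplicit false

open scoped Pointwise

namespace Cfsg.Agent.S3493P

namespace XHyp

variable {A T : Type*} [Group T] [Group A] [MulAction A T] (h : XHyp A T)
include h

theorem centralizer_pow_eq {x : T} {k : ℕ} (hk : x ^ k ≠ 1) :
    Subgroup.centralizer ({x ^ k} : Set T) = Subgroup.centralizer ({x} : Set T) := by
  ext t
  rw [Subgroup.mem_centralizer_singleton_iff, Subgroup.mem_centralizer_singleton_iff]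
  constructor
  · intro ht
    exact (h.commute_of_commute_pow hk (show Commute t (x ^ k) from ht)).eq
  · intro ht
    exact ((show Commute t x from ht).pow_right k).eq

/-- commuting elements of distinct prime orders have the same centraliser -/
theorem centralizer_eq_of_commute {x y : T} {p q : ℕ} (hp : p.Prime) (hq : q.Prime) (hpq : p ≠ q)
    (hx : orderOf x = p) (hy : orderOf y = q) (hxy : Commute x y) :
    Subgroup.centralizer ({x} : Set T) = Subgroup.centralizer ({y} : Set T) := by
  have hcop : Nat.Coprime p q := (Nat.coprime_primes hp hq).mpr hpq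
  have hxq : x ^ q ≠ 1 := by
    intro h1
    have := orderOf_dvd_of_pow_eq_one h1
    rw [hx] at this
    exact hpq ((Nat.prime_dvd_prime_iff_eq hp hq).mp this)
  have hyp : y ^ p ≠ 1 := by
    intro h1
    have := orderOf_dvd_of_pow_eq_one h1
    rw [hy] at this
    exact hpq ((Nat.prime_dvd_prime_iff_eq hq hp).mp this).symm
  have hzq : (x * y) ^ q = x ^ q := by
    rw [hxy.mul_pow, ← hy, pow_orderOf_eq_one, mul_one]
  have hzp : (x * y) ^ p = y ^ p := by
    rw [hxy.mul_pow, ← hx, pow_orderOf_eq_one, one_mul]
  have e1 : Subgroup.centralizer ({x * y} : Set T) = Subgroup.centralizer ({x} : Set T) := by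
    rw [← h.centralizer_pow_eq (x := x * y) (k := q) (by rw [hzq]; exact hxq), hzq,
      h.centralizer_pow_eq hxq]
  have e2 : Subgroup.centralizer ({x * y} : Set T) = Subgroup.centralizer ({y} : Set T) := by
    rw [← h.centralizer_pow_eq (x := x * y) (k := p) (by rw [hzp]; exact hyp), hzp,
      h.centralizer_pow_eq hyp]
  rw [← e1, e2]

/-- the centraliser of an element of prime order `p`: if it is not a `p`-group, then every one
of its elements of prime order has the same centraliser -/
theorem centralizer_eq_of_mem [Finite T] {x : T} {p : ℕ} (hp : p.Prime) (hx : orderOf x = p)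
    {q : ℕ} (hq : q.Prime) (hpq : p ≠ q)
    (hqM : q ∣ Nat.card (Subgroup.centralizer ({x} : Set T)))
    {y : T} (hy : y ∈ Subgroup.centralizer ({x} : Set T)) {r : ℕ} (hr : r.Prime)
    (hyr : orderOf y = r) :
    Subgroup.centralizer ({y} : Set T) = Subgroup.centralizer ({x} : Set T) := by
  have hyx : Commute y x := Subgroup.mem_centralizer_singleton_iff.mp hy
  by_cases hrp : r = p
  · -- use an element of order `q`
    have : Fact q.Prime := ⟨hq⟩
    obtain ⟨y', hy'⟩ := exists_prime_orderOf_dvd_card' (G := Subgroup.centralizer ({x} : Set T)) q hqM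
    have hy'o : orderOf (y' : T) = q := by rw [Subgroup.orderOf_coe]; exact hy'
    have hy'x : Commute (y' : T) x := Subgroup.mem_centralizer_singleton_iff.mp y'.2
    have e1 : Subgroup.centralizer ({x} : Set T) = Subgroup.centralizer ({(y' : T)} : Set T) :=
      h.centralizer_eq_of_commute hp hq hpq hx hy'o hy'x.symm
    have hyy' : Commute y (y' : T) := by
      have : y ∈ Subgroup.centralizer ({(y' : T)} : Set T) := by rw [← e1]; exact hy
      exact Subgroup.mem_centralizer_singleton_iff.mp this
    have e2 : Subgroup.centralizer ({y} : Set T) = Subgroup.centralizer ({(y' : T)} : Set T) :=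
      h.centralizer_eq_of_commute hr hq (by rw [hrp]; exact hpq) hyr hy'o hyy'
    rw [e2, ← e1]
  · exact h.centralizer_eq_of_commute hr hp hrp hyr hx hyx

end XHyp

end Cfsg.Agent.S3493P
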