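import Mathlib
import Cfsg.Agent.S0071
import Cfsg.Agent.S0120
import Cfsg.Agent.Helper23.NilpotentCrit

/-!
# S3493, Lemma Y: a finite group of odd order whose elements of prime order are central is nilpotent
-/

set_option autoImplicit false

namespace Cfsg.Agent.S3493P

theorem nilpotent_of_prime_order_central {M : Type*} [Group M] [Finite M]
    (hodd : Odd (Nat.card M))
    (hc : ∀ y : M, (orderOf y).Prime → y ∈ Subgroup.center M) : Group.IsNilpotent M := by
  classical
  apply Cfsg.Agent.Helper23.isNilpotent_of_forall_normal_complement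
  intro r hr R
  rw [Cfsg.Agent.S0071.result R]
  intro Q hQR g hg hcop
  have hQp : IsPGroup r Q := R.isPGroup'.to_le hQR
  by_cases hr2 : r = 2
  · -- `Q` is trivial
    subst hr2
    have hQ1 : Q = ⊥ := by
      obtain ⟨n, hn⟩ := IsPGroup.iff_card.mp hQp
      have hdvd : Nat.card Q ∣ Nat.card M := Subgroup.card_subgroup_dvd_card Q
      rcases Nat.eq_zero_or_pos n with h0 | h0
      · rw [h0, pow_zero] at hn
        exact Subgroup.eq_bot_of_card_eq Q hn
      · exfalso
        have h2 : 2 ∣ Nat.card M := dvd_trans (hn ▸ dvd_pow_self 2 (by omega)) hdvd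
        exact (Nat.not_even_iff_odd.mpr hodd) (even_iff_two_dvd.mpr h2)
    rw [hQ1, Subgroup.mem_centralizer_iff]
    intro q hq
    have : q = 1 := by simpa using hq
    rw [this, one_mul, mul_one]
  · -- the main case
    let N : Subgroup M := Subgroup.normalizer (Q : Set M)
    let H : Subgroup N := Q.subgroupOf N
    have : H.Normal := Subgroup.normal_in_normalizer
    have hHp : IsPGroup r H := hQp.comap_subtype
    let gN : N := ⟨g, hg⟩
    let a : MulAut H := MulAut.conjNormal gN
    have ha : Nat.Coprime (orderOf a) r := by
      have h1 : orderOf a ∣ orderOf gN := orderOf_map_dvd (MulAut.conjNormal (H := H)) gN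
      have h2 : orderOf gN = orderOf g := Subgroup.orderOf_mk g hg
      rw [h2] at h1
      exact Nat.Coprime.coprime_dvd_left h1 hcop
    have hfix : ∀ x : H, x ^ r = 1 → a x = x := by
      intro x hx
      by_cases hx1 : x = 1
      · rw [hx1, map_one]
      · have ho : orderOf x = r := by
          have hd := orderOf_dvd_of_pow_eq_one hx
          rcases (Nat.dvd_prime hr.out).mp hd with h1 | h1
          · exact absurd (orderOf_eq_one_iff.mp h1) hx1
          · exact h1
        have ho' : orderOf (((x : N) : M)) = r := by
          rw [Subgroup.orderOf_coe, Subgroup.orderOf_coe, ho]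
        have hcen := hc (((x : N) : M)) (by rw [ho']; exact hr.out)
        apply Subtype.ext
        apply Subtype.ext
        rw [MulAut.conjNormal_apply]
        change g * ((x : N) : M) * g⁻¹ = ((x : N) : M)
        rw [Subgroup.mem_center_iff] at hcen
        rw [hcen g, mul_inv_cancel_right]
    have ha1 : a = 1 := Cfsg.Agent.S0120.result hr2 hHp a ha hfix
    rw [Subgroup.mem_centralizer_iff]
    intro q hq
    have hqN : q ∈ N := Subgroup.le_normalizer hq
    let x : H := ⟨⟨q, hqN⟩, by
      change (⟨q, hqN⟩ : N) ∈ Q.subgroupOf N
      rw [Subgroup.mem_subgroupOf]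
      exact hq⟩
    have hax : a x = x := by rw [ha1]; rfl
    have := congrArg (fun y : H => ((y : N) : M)) hax
    simp only [a] at this
    rw [MulAut.conjNormal_apply] at this
    change g * q * g⁻¹ = q at this
    calc q * g = g * q * g⁻¹ * g := by rw [this]
      _ = g * q := by group

end Cfsg.Agent.S3493P
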