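import Mathlib
import Cfsg.Agent.Helper18.S3493X3
import Cfsg.Agent.Helper18.S3493Y

/-!
# S3493, Lemma X, part 4: `T` is a CN-group
-/

set_option autoImplicit false

open scoped Pointwise

namespace Cfsg.Agent.S3493P

namespace XHyp

variable {A T : Type*} [Group T] [Group A] [MulAction A T] (h : XHyp A T)
include h

theorem odd_card [Finite T] : Odd (Nat.card T) := by
  rw [← Nat.not_even_iff_odd, even_iff_two_dvd]
  exact h.not_two_dvd_card

/-- the centraliser of an element of prime order is nilpotent -/
theorem nilpotent_centralizer_of_prime [Finite T] {x : T} {p : ℕ} (hp : p.Prime)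
    (hx : orderOf x = p) : Group.IsNilpotent (Subgroup.centralizer ({x} : Set T)) := by
  classical
  set M := Subgroup.centralizer ({x} : Set T) with hM
  by_cases hpg : IsPGroup p M
  · have : Fact p.Prime := ⟨hp⟩
    exact hpg.isNilpotent
  · -- there is a prime `q ≠ p` dividing `|M|`
    have hex : ∃ q : ℕ, q.Prime ∧ p ≠ q ∧ q ∣ Nat.card M := by
      by_contra hcon
      push Not at hcon
      apply hpg
      have : Fact p.Prime := ⟨hp⟩
      rw [IsPGroup.iff_card]
      have hpos : Nat.card M ≠ 0 := Nat.card_pos.ne'
      refine ⟨(Nat.card M).primeFactorsList.length, ?_⟩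
      refine (Nat.eq_prime_pow_of_unique_prime_dvd hpos ?_)
      intro q hq hqd
      by_contra hne
      exact hcon q hq (fun h' => hne h'.symm) hqd
    obtain ⟨q, hq, hpq, hqM⟩ := hex
    apply nilpotent_of_prime_order_central
    · have : Nat.card M ∣ Nat.card T := Subgroup.card_subgroup_dvd_card M
      exact (h.odd_card).of_dvd_nat this
    · intro y hy
      have hyo : orderOf (y : T) = orderOf y := Subgroup.orderOf_coe y
      have e := h.centralizer_eq_of_mem hp hx hq hpq hqM y.2 (hyo ▸ hy) rfl
      rw [Subgroup.mem_center_iff]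
      intro z
      have hz : (z : T) ∈ Subgroup.centralizer ({(y : T)} : Set T) := by rw [e]; exact z.2
      have := Subgroup.mem_centralizer_singleton_iff.mp hz
      apply Subtype.ext
      exact this

/-- **`T` is a CN-group.** -/
theorem nilpotent_centralizer [Finite T] {x : T} (hx : x ≠ 1) :
    Group.IsNilpotent (Subgroup.centralizer ({x} : Set T)) := by
  have hn : orderOf x ≠ 1 := fun h1 => hx (orderOf_eq_one_iff.mp h1)
  set p := (orderOf x).minFac with hpdef
  have hp : p.Prime := Nat.minFac_prime hn
  have hpd : p ∣ orderOf x := Nat.minFac_dvd _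
  obtain ⟨k, hk⟩ := hpd
  have hpos : 0 < orderOf x := orderOf_pos x
  have hkpos : 0 < k := by
    rcases Nat.eq_zero_or_pos k with h0 | h0
    · rw [h0, mul_zero] at hk; omega
    · exact h0
  have ho : orderOf (x ^ k) = p := by
    rw [orderOf_pow' x hkpos.ne', hk, Nat.gcd_mul_left_left, Nat.mul_div_cancel _ hkpos]
  have hne : x ^ k ≠ 1 := by
    intro h1
    rw [h1, orderOf_one] at ho
    exact hp.one_lt.ne ho
  rw [← h.centralizer_pow_eq hne]
  exact h.nilpotent_centralizer_of_prime hp ho

end XHyp

end Cfsg.Agent.S3493P
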