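import Mathlib
import Cfsg.Agent.Helper18.S3493X4
import Cfsg.Agent.S0183

/-!
# S3493, Lemma X: the hypotheses `XHyp A T` are contradictory for finite `T`
-/

set_option autoImplicit false

open scoped Pointwise commutatorElement

namespace Cfsg.Agent.S3493P

namespace XHyp

variable {A T : Type*} [Group T] [Group A] [MulAction A T] (h : XHyp A T)
include h

theorem smul_mem_commutator (g : A) {x : T} (hx : x ∈ commutator T) : g • x ∈ commutator T := by
  rw [commutator_eq_closure] at hx ⊢
  induction hx using Subgroup.closure_induction with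
  | mem x hx =>
    obtain ⟨a, b, rfl⟩ := hx
    apply Subgroup.subset_closure
    rcases h.auto g with ha | ha
    · refine ⟨g • a, g • b, ?_⟩
      rw [commutatorElement_def, commutatorElement_def, ha, ha, ha, h.smul_inv'', h.smul_inv'']
    · refine ⟨(g • b)⁻¹, (g • a)⁻¹, ?_⟩
      rw [commutatorElement_def, commutatorElement_def, ha, ha, ha, h.smul_inv'', h.smul_inv'',
        inv_inv, inv_inv]
      simp only [mul_assoc]
  | one => rw [h.smul_one']; exact Subgroup.one_mem _
  | mul x y _ _ hx hy =>
    rcases h.auto g with ha | ha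
    · rw [ha]; exact Subgroup.mul_mem _ hx hy
    · rw [ha]; exact Subgroup.mul_mem _ hy hx
  | inv x _ hx => rw [h.smul_inv'']; exact Subgroup.inv_mem _ hx

/-- **Lemma X.** -/
theorem false [Finite T] : False := by
  have hCN : Cfsg.IsCNGroup T := fun g hg => h.nilpotent_centralizer hg
  have hsol : Group.IsSolvable T := Cfsg.Agent.S0183.result h.odd_card hCN
  obtain ⟨a, b, hab⟩ := h.nc
  have hnt : Nontrivial T := ⟨⟨a * b, b * a, hab⟩⟩
  rcases h.inv (commutator T) (fun g x hx => h.smul_mem_commutator g hx) with h1 | h1
  · apply hab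
    have : ⁅a, b⁆ ∈ commutator T := by
      rw [commutator_eq_closure]
      exact Subgroup.subset_closure ⟨a, b, rfl⟩
    rw [h1, Subgroup.mem_bot, commutatorElement_eq_one_iff_mul_comm] at this
    exact this
  · exact (Group.IsSolvable.commutator_lt_top_of_nontrivial T).ne h1

end XHyp

end Cfsg.Agent.S3493P
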