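import Mathlib
import Cfsg.Agent.Helper18.S3493X5
import Cfsg.Agent.Lead.S3556CENT

/-!
# S3493, piece HS: a non-abelian minimal normal subgroup with non-trivial centraliser
-/

set_option autoImplicit false

namespace Cfsg.Agent.S3493P

/-- the conjugation action of a point stabiliser on a normal subgroup -/
@[reducible] def HS.conjAct {G Ω : Type*} [Group G] [MulAction G Ω] (a : Ω) (N : Subgroup G)
    [N.Normal] : MulAction (MulAction.stabilizer G a) N :=
  MulAction.compHom N ((MulAut.conjNormal (H := N)).comp (MulAction.stabilizer G a).subtype)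

theorem HS {G Ω : Type*} [Group G] [Finite G] [MulAction G Ω] [FaithfulSMul G Ω] [Finite Ω]
    (hprim : MulAction.IsPreprimitive G Ω)
    (hep : ∀ (α : Ω) (ω : Ω), MulAction.IsPreprimitive (MulAction.stabilizer G α)
      (MulAction.orbit (MulAction.stabilizer G α) ω))
    (N : Subgroup G) [N.Normal] (hN : N ≠ ⊥)
    (hmin : ∀ M : Subgroup G, M.Normal → M ≤ N → M = ⊥ ∨ M = N)
    (hnab : ¬ IsMulCommutative N)
    (hC : Subgroup.centralizer (N : Set G) ≠ ⊥) (a : Ω) : False := by
  classical
  have : MulAction.IsPreprimitive G Ω := hprim
  have hCt : MulAction.IsPretransitive (Subgroup.centralizer (N : Set G)) Ω :=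
    Cfsg.Agent.S3501P.DER.normal_transitive _ hC
  have hNt : MulAction.IsPretransitive N Ω := Cfsg.Agent.S3501P.DER.normal_transitive N hN
  -- `N` is semiregular
  have hsemi : ∀ (n : N) (ω : Ω), (n : G) • ω = ω → n = 1 := by
    intro n ω hfix
    apply Subtype.ext
    refine Cfsg.Agent.S3556P.CENT.semiregular (Subgroup.centralizer (N : Set G)) (n : G) ?_ ω hfix
    intro c hc
    exact ((Subgroup.mem_centralizer_iff.mp hc) n n.2).symm
  let inst : MulAction (MulAction.stabilizer G a) N := HS.conjAct a N
  have hsm : ∀ (g : MulAction.stabilizer G a) (x : N),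
      ((g • x : N) : G) = (g : G) * x * (g : G)⁻¹ := fun g x => rfl
  have hginv : ∀ g : MulAction.stabilizer G a, ((g : G))⁻¹ • a = a := by
    intro g
    have := g.2
    rw [MulAction.mem_stabilizer_iff] at this
    rw [inv_smul_eq_iff, this]
  have hinn : ∀ t : N, ∃ g : MulAction.stabilizer G a, ∀ x : N, g • x = t * x * t⁻¹ := by
    intro t
    obtain ⟨c, hc⟩ := MulAction.exists_smul_eq (Subgroup.centralizer (N : Set G)) a
      ((t : G)⁻¹ • a)
    have hc' : (c : G) • a = (t : G)⁻¹ • a := hc
    refine ⟨⟨(t : G) * c, ?_⟩, ?_⟩
    · rw [MulAction.mem_stabilizer_iff, mul_smul, hc', smul_inv_smul]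
    · intro x
      apply Subtype.ext
      rw [hsm]
      have hcx : (x : G) * c = c * x := (Subgroup.mem_centralizer_iff.mp c.2) x x.2
      change (t : G) * c * x * ((t : G) * c)⁻¹ = t * x * (t : G)⁻¹
      rw [mul_inv_rev, mul_assoc (t : G) c x, ← hcx]
      group
  have hx : XHyp (MulAction.stabilizer G a) N :=
    { auto := fun g => Or.inl (fun x y => by
        apply Subtype.ext
        rw [Subgroup.coe_mul, hsm, hsm, hsm, Subgroup.coe_mul]
        group)
      inn := hinn
      inv := by
        intro H hH
        have hnorm : (H.map N.subtype).Normal := by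
          constructor
          intro n hn g
          obtain ⟨n', hn', rfl⟩ := hn
          obtain ⟨m, hm⟩ := MulAction.exists_smul_eq N (g • a) a
          have hm' : (m : G) • (g • a) = a := hm
          let s : MulAction.stabilizer G a := ⟨(m : G) * g, by
            rw [MulAction.mem_stabilizer_iff, mul_smul, hm']⟩
          have h1 : s • n' ∈ H := hH s n' hn'
          obtain ⟨g', hg'⟩ := hinn m⁻¹
          have h2 : g' • (s • n') ∈ H := hH g' _ h1
          refine ⟨g' • (s • n'), h2, ?_⟩
          rw [hg']
          change ((m⁻¹ * (s • n') * m⁻¹⁻¹ : N) : G) = g * (n' : G) * g⁻¹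
          rw [Subgroup.coe_mul, Subgroup.coe_mul, hsm]
          change ((m⁻¹ : N) : G) * ((m : G) * g * n' * ((m : G) * g)⁻¹) * ((m⁻¹⁻¹ : N) : G) = _
          rw [inv_inv, Subgroup.coe_inv]
          group
        rcases hmin _ hnorm (Subgroup.map_subtype_le H) with h1 | h1
        · left
          exact (Subgroup.map_eq_bot_iff_of_injective H N.subtype_injective).mp h1
        · right
          apply Subgroup.map_injective N.subtype_injective
          rw [h1, ← MonoidHom.range_eq_map, Subgroup.range_subtype]
      prim := by
        intro x
        let f : MulAction.orbit (MulAction.stabilizer G a) x →ₑ[@id (MulAction.stabilizer G a)]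
            MulAction.orbit (MulAction.stabilizer G a) ((x : G) • a) :=
          { toFun := fun y => ⟨((y : N) : G) • a, by
              obtain ⟨g, hg⟩ := y.2
              have hg' : g • x = (y : N) := hg
              refine ⟨g, ?_⟩
              change (g : G) • ((x : G) • a) = ((y : N) : G) • a
              rw [← hg', hsm, mul_smul, mul_smul, hginv g]⟩
            map_smul' := by
              intro g y
              apply Subtype.ext
              change (((g • (y : N) : N)) : G) • a = (g : G) • (((y : N) : G) • a)
              rw [hsm, mul_smul, mul_smul, hginv g] }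
        have hbij : Function.Bijective f := by
          constructor
          · intro y y' hyy'
            have h1 : ((y : N) : G) • a = ((y' : N) : G) • a := congrArg Subtype.val hyy'
            have h2 : ((((y' : N))⁻¹ * (y : N) : N) : G) • a = a := by
              rw [Subgroup.coe_mul, Subgroup.coe_inv, mul_smul, h1, inv_smul_smul]
            have h3 := hsemi _ _ h2
            apply Subtype.ext
            exact (inv_mul_eq_one.mp h3).symm
          · rintro ⟨ω, g, hg⟩
            have hg' : (g : G) • ((x : G) • a) = ω := hg
            refine ⟨⟨g • x, MulAction.mem_orbit _ _⟩, ?_⟩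
            apply Subtype.ext
            change (((g • x : N)) : G) • a = ω
            rw [hsm, mul_smul, mul_smul, ← hg', hginv g]
        exact (MulAction.isPreprimitive_congr (f := f) Function.surjective_id hbij).mpr
          (hep a ((x : G) • a))
      nc := by
        by_contra hcon
        push Not at hcon
        exact hnab ⟨⟨hcon⟩⟩ }
  exact hx.false

end Cfsg.Agent.S3493P
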