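import Mathlib
import Cfsg.Prelude.Def_Classical
import Cfsg.Agent.Helper28.S3589Defs
import Cfsg.Agent.Helper13.S5973HCANCEL
import Cfsg.Agent.Helper19.S2512TORMBLOCK
import Cfsg.Agent.Helper22.S3589TRANSP

/-! S3589 piece TPLUS (driver helper28): the block `T⁺_d`: the split torus on `K × K`, `K = F_{q^d}`,
with the quadratic form `Tr_{K/F} (x y)`. -/

set_option autoImplicit false

namespace Cfsg.Agent.S3589P

open Module Polynomial
open Cfsg.Agent.S5973P
open scoped Classical

noncomputable section

namespace TPLUS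

variable (F K : Type*) [Field F] [Field K] [Algebra F K]

/-- the bilinear form `((x, y), (x', y')) ↦ Tr (x y')` on `K × K` -/
def bT : LinearMap.BilinForm F (K × K) :=
  (Algebra.traceForm F K).compl₁₂ (LinearMap.fst F K K) (LinearMap.snd F K K)

theorem bT_apply (u v : K × K) : bT F K u v = Algebra.trace F K (u.1 * v.2) := rfl

/-- the quadratic form `(x, y) ↦ Tr (x y)` on `K × K` -/
def qT : QuadraticForm F (K × K) := LinearMap.BilinMap.toQuadraticMap (bT F K)

theorem qT_apply (u : K × K) : qT F K u = Algebra.trace F K (u.1 * u.2) := rfl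

theorem polar_qT (u v : K × K) :
    QuadraticMap.polar (qT F K) u v = Algebra.trace F K (u.1 * v.2) + Algebra.trace F K (v.1 * u.2) := by
  unfold qT
  rw [LinearMap.BilinMap.polar_toQuadraticMap, bT_apply, bT_apply]

/-- the trace form of a finite extension of finite fields is nondegenerate -/
theorem eq_zero_of_trace [Finite F] [Finite K] (x : K) (h : ∀ y : K, Algebra.trace F K (x * y) = 0) :
    x = 0 := by
  have := Fintype.ofFinite F
  have := Fintype.ofFinite K
  have hfd : FiniteDimensional F K := Module.Finite.of_finite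
  have hnd := traceForm_nondegenerate F K
  exact hnd.1 x (fun y => by rw [Algebra.traceForm_apply]; exact h y)

theorem nd_qT [Finite F] [Finite K] : ND (qT F K) := by
  apply HCANCEL.nd_of_left
  rintro ⟨x, y⟩ hv
  have e1 : x = 0 := by
    apply eq_zero_of_trace F K
    intro w
    have := hv (0, w)
    rw [polar_qT] at this
    simpa using this
  have e2 : y = 0 := by
    apply eq_zero_of_trace F K
    intro w
    have := hv (w, 0)
    rw [polar_qT] at this
    rw [mul_comm]
    simpa using this
  rw [e1, e2]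
  rfl

theorem isHyp_qT [FiniteDimensional F K] : IsHyp (qT F K) := by
  refine ⟨LinearMap.range (LinearMap.inl F K K), ?_, ?_⟩
  · rintro w ⟨x, rfl⟩
    rw [qT_apply]
    simp
  · rw [LinearMap.finrank_range_of_inj LinearMap.inl_injective, Module.finrank_prod]
    ring

theorem iso_torM {t : K} (ht : t ≠ 0) (v : K × K) :
    qT F K (Cfsg.Agent.S2512P.torM F K t v) = qT F K v := by
  rw [qT_apply, qT_apply, Cfsg.Agent.S2512P.torM_apply]
  congr 1
  show t * v.1 * (t⁻¹ * v.2) = v.1 * v.2
  field_simp

end TPLUS

open TPLUS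

theorem hasBlock_torus_plus {F : Type*} [Field F] [Fintype F] [CharP F 2] (d : ℕ) (hd : 1 ≤ d) :
    HasBlock F d true (Fintype.card F ^ d - 1) := by
  have : NeZero d := ⟨by omega⟩
  have : Fact (Nat.Prime 2) := ⟨Nat.prime_two⟩
  let K := FiniteField.Extension F 2 d
  have : Fintype K := Fintype.ofFinite K
  have hcard : Fintype.card K = Fintype.card F ^ d := by
    rw [← Nat.card_eq_fintype_card, FiniteField.natCard_extension, Nat.card_eq_fintype_card]
  obtain ⟨s, hs⟩ := Cfsg.Agent.S2512P.GENORD.exists_unit_orderOf (K := K) (Fintype.card K - 1)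
    (dvd_refl _)
  have hs0 : (s : K) ≠ 0 := s.ne_zero
  apply hasBlock_of_space (qT F K) (Cfsg.Agent.S2512P.torM F K (s : K)) d true
    (Fintype.card F ^ d - 1) (nd_qT F K)
  · rw [Module.finrank_prod, FiniteField.finrank_extension]
    ring
  · exact ⟨fun _ => rfl, fun _ => isHyp_qT F K⟩
  · exact iso_torM F K hs0
  · intro j
    rw [Cfsg.Agent.S2512P.TORMBLOCK.torM_pow, Cfsg.Agent.S2512P.TORMBLOCK.torM_eq_one_iff, ← hcard, ← hs,
      orderOf_dvd_iff_pow_eq_one, ← Units.val_pow_eq_pow_val, Units.val_eq_one]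

end

end Cfsg.Agent.S3589P
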