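import Mathlib
import Cfsg.Prelude.Def_Classical
import Cfsg.Agent.Helper28.S3589Defs
import Cfsg.Agent.Helper1.S5973STD
import Cfsg.Agent.Helper28.LocBal23
import Cfsg.Agent.Helper28.Spin6
import Cfsg.Agent.Helper22.S3589TRANSP

/-! S3589 piece U2M (driver helper28): the block `U2⁻`: an involution of the anisotropic plane. -/

set_option autoImplicit false

namespace Cfsg.Agent.S3589P

open Module Polynomial
open Cfsg.Agent.S5973P
open scoped Classical

noncomputable section

namespace U2M

/-- the index type of the anisotropic plane -/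
abbrev Idx : Type := (Fin 0 ⊕ Fin 0) ⊕ Fin 2

/-- `(z₁, z₂) ↦ (z₁ + a z₂, z₂)` -/
def yU {F : Type*} [Field F] (a : F) : Module.End F (Idx → F) where
  toFun v := fun k => v k + (if k = Sum.inr 0 then a * v (Sum.inr 1) else 0)
  map_add' u v := by
    funext k
    by_cases hk : k = Sum.inr 0
    · simp only [Pi.add_apply, if_pos hk]; ring
    · simp only [Pi.add_apply, if_neg hk]; ring
  map_smul' c v := by
    funext k
    by_cases hk : k = Sum.inr 0
    · simp only [Pi.smul_apply, smul_eq_mul, RingHom.id_apply, if_pos hk]; ring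
    · simp only [Pi.smul_apply, smul_eq_mul, RingHom.id_apply, if_neg hk]; ring

theorem yU_apply0 {F : Type*} [Field F] (a : F) (v : Idx → F) :
    yU a v (Sum.inr 0) = v (Sum.inr 0) + a * v (Sum.inr 1) := by
  show v (Sum.inr 0) + (if (Sum.inr 0 : Idx) = Sum.inr 0 then a * v (Sum.inr 1) else 0) = _
  rw [if_pos rfl]

theorem yU_apply1 {F : Type*} [Field F] (a : F) (v : Idx → F) :
    yU a v (Sum.inr 1) = v (Sum.inr 1) := by
  show v (Sum.inr 1) + (if (Sum.inr 1 : Idx) = Sum.inr 0 then a * v (Sum.inr 1) else 0) = _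
  rw [if_neg (by decide), add_zero]

theorem two_eq_zero' {F : Type*} [Field F] [CharP F 2] : (2 : F) = 0 := by
  have := CharP.cast_eq_zero F 2
  exact_mod_cast this

theorem yU_sq {F : Type*} [Field F] [CharP F 2] (a : F) : yU a ^ 2 = 1 := by
  apply LinearMap.ext
  intro v
  funext k
  rw [pow_two, Module.End.mul_apply, Module.End.one_apply]
  rcases k with k | k
  · rcases k with k | k <;> exact k.elim0
  · fin_cases k
    · show yU a (yU a v) (Sum.inr 0) = v (Sum.inr 0)
      rw [yU_apply0, yU_apply0, yU_apply1]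
      have h2 : (2 : F) = 0 := two_eq_zero'
      linear_combination (a * v (Sum.inr 1)) * h2
    · show yU a (yU a v) (Sum.inr 1) = v (Sum.inr 1)
      rw [yU_apply1, yU_apply1]

theorem yU_ne_one {F : Type*} [Field F] {a : F} (ha : a ≠ 0) : yU a ≠ 1 := by
  intro h
  have h1 := congrFun (LinearMap.congr_fun h (Pi.single (Sum.inr 1) 1)) (Sum.inr 0)
  rw [yU_apply0, Module.End.one_apply, Pi.single_eq_same] at h1
  have h2 : (Pi.single (Sum.inr 1 : Idx) (1 : F) : Idx → F) (Sum.inr 0) = 0 :=
    Pi.single_eq_of_ne (by decide) _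
  rw [h2, zero_add, mul_one] at h1
  exact ha h1

theorem yU_iso {F : Type*} [Field F] [CharP F 2] (a b : F) (v : Idx → F) :
    Cfsg.Agent.Helper28.Spin.QfMinus 0 F a b (yU a v) =
      Cfsg.Agent.Helper28.Spin.QfMinus 0 F a b v := by
  rw [Cfsg.Agent.Helper28.Spin.QfMinus_coe]
  unfold Cfsg.quadFormMinus
  rw [yU_apply0, yU_apply1]
  have h2 : (2 : F) = 0 := two_eq_zero'
  simp only [Finset.univ_eq_empty, Finset.sum_empty, zero_add]
  linear_combination (a * v (Sum.inr 0) * v (Sum.inr 1) + a ^ 2 * v (Sum.inr 1) ^ 2) * h2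

end U2M

open U2M

theorem hasBlock_u2_minus {F : Type*} [Field F] [Fintype F] [CharP F 2] : HasBlock F 1 false 2 := by
  obtain ⟨a, b, hab⟩ := Cfsg.Agent.Helper28.LB.exists_aniso_binary (K := F)
  have h2 : (2 : F) = 0 := two_eq_zero'
  -- `a ≠ 0`
  have ha : a ≠ 0 := by
    intro ha
    obtain ⟨s, hs⟩ := FiniteField.isSquare_of_char_two (CharP.ringChar_of_prime_eq_zero Nat.prime_two h2) b
    have h := hab s 1 (by rw [ha, hs]; linear_combination (s * s) * h2)
    exact one_ne_zero h.2
  obtain ⟨hnd, hnh⟩ := std_minus (F := F) 0 a b hab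
  apply hasBlock_of_space (Cfsg.Agent.Helper28.Spin.QfMinus 0 F a b) (yU a) 1 false 2 hnd
  · rw [Module.finrank_pi]
    simp
  · constructor
    · intro h; exact absurd h hnh
    · intro h; exact absurd h (by decide)
  · exact yU_iso a b
  · intro j
    have ho : orderOf (yU a) = 2 := orderOf_eq_prime (yU_sq a) (yU_ne_one ha)
    have h := orderOf_dvd_iff_pow_eq_one (x := yU a) (n := j)
    rw [ho] at h
    exact h.symm

end

end Cfsg.Agent.S3589P
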