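import Mathlib
import Cfsg.Agent.Helper6.S3626.Defs

/-! S3626 piece E9 (helper18): an element of order `9` in `Y`. -/

set_option autoImplicit false

namespace Cfsg.Agent.S3626P

open Matrix

namespace E9

variable {K : Type*} [Field K]

/-- the unipotent element `!![1,1;0,1]` -/
def u : Matrix.SpecialLinearGroup (Fin 2) K :=
  ⟨!![1, 1; 0, 1], by simp [Matrix.det_fin_two]⟩

theorem u_coe : ((u : Matrix.SpecialLinearGroup (Fin 2) K) : Matrix (Fin 2) (Fin 2) K) =
    !![1, 1; 0, 1] := rfl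

theorem u_map (φ : K →+* K) : (!![1, 1; 0, 1] : Matrix (Fin 2) (Fin 2) K).map φ = !![1, 1; 0, 1] := by
  ext i j
  fin_cases i <;> fin_cases j <;> simp

/-- explicit formula for `lin φ e u` -/
theorem lin_u (φ : K →+* K) (e : K) (X : Matrix (Fin 2) (Fin 2) K) :
    lin φ e ((u : Matrix.SpecialLinearGroup (Fin 2) K) : Matrix (Fin 2) (Fin 2) K) X =
      !![e * (X 0 0 + X 0 1 + X 1 0 + X 1 1), e * (X 0 1 + X 1 1);
         e * (X 1 0 + X 1 1), e * X 1 1] := by
  rw [lin_apply, u_coe, u_map]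
  ext i j
  fin_cases i <;> fin_cases j <;>
    simp only [Matrix.smul_apply, Matrix.mul_apply, Fin.sum_univ_two, Matrix.transpose_apply,
      smul_eq_mul]
  all_goals simp only [Matrix.of_apply, Matrix.cons_val', Matrix.cons_val_zero, Matrix.cons_val_one,
    Matrix.cons_val_fin_one, Fin.zero_eta, Fin.mk_one, Fin.isValue]
  all_goals ring

theorem three_eq_zero [CharP K 3] : (3 : K) = 0 := by
  have h := CharP.cast_eq_zero K 3
  exact_mod_cast h

theorem two_ne_zero' [CharP K 3] : (2 : K) ≠ 0 := by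
  intro h
  have h2 : ((2 : ℕ) : K) = 0 := by exact_mod_cast h
  rw [CharP.cast_eq_zero_iff K 3 2] at h2
  omega

/-- the element of order `9` -/
def s9 (φ : K →+* K) : Equiv.Perm (Matrix (Fin 2) (Fin 2) K) :=
  affPerm φ 1 (Or.inl rfl) u (Matrix.single 1 1 1)

theorem s9_apply (φ : K →+* K) (X : Matrix (Fin 2) (Fin 2) K) :
    s9 φ X = !![X 0 0 + X 0 1 + X 1 0 + X 1 1, X 0 1 + X 1 1; X 1 0 + X 1 1, X 1 1 + 1] := by
  unfold s9
  rw [affPerm_apply, aff_apply, lin_u]
  ext i j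
  fin_cases i <;> fin_cases j <;> simp

theorem s9_pow_three [CharP K 3] (φ : K →+* K) (X : Matrix (Fin 2) (Fin 2) K) :
    (s9 φ ^ 3) X = X + !![2, 0; 0, 0] := by
  have h3 : (3 : K) = 0 := three_eq_zero
  have hp : (s9 φ ^ 3) X = s9 φ (s9 φ (s9 φ X)) := by
    rw [pow_succ, pow_succ, pow_one, Equiv.Perm.mul_apply, Equiv.Perm.mul_apply]
  rw [hp, s9_apply, s9_apply, s9_apply]
  ext i j
  fin_cases i <;> fin_cases j <;> simp
  · linear_combination (X 0 1 + X 1 0 + 3 * X 1 1 + 1) * h3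
  · linear_combination (X 1 1 + 1) * h3
  · linear_combination (X 1 1 + 1) * h3
  · linear_combination h3

theorem s9_pow_nine [CharP K 3] (φ : K →+* K) : s9 φ ^ 9 = 1 := by
  have h3 : (3 : K) = 0 := three_eq_zero
  apply Equiv.ext
  intro X
  have hp : (s9 φ ^ 9) X = (s9 φ ^ 3) ((s9 φ ^ 3) ((s9 φ ^ 3) X)) := by
    rw [show (9 : ℕ) = 3 + 3 + 3 by norm_num, pow_add, pow_add, Equiv.Perm.mul_apply,
      Equiv.Perm.mul_apply]
  rw [hp, s9_pow_three, s9_pow_three, s9_pow_three, Equiv.Perm.one_apply]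
  ext i j
  fin_cases i <;> fin_cases j <;> simp
  linear_combination 2 * h3

theorem s9_pow_three_ne [CharP K 3] (φ : K →+* K) : ¬ s9 φ ^ 3 = 1 := by
  intro h
  have h1 := s9_pow_three φ (0 : Matrix (Fin 2) (Fin 2) K)
  rw [h, Equiv.Perm.one_apply, zero_add] at h1
  have h2 := congrFun (congrFun h1 0) 0
  simp at h2
  exact two_ne_zero' h2.symm

end E9

section finite

variable {K : Type*} [Field K] [Fintype K] {m : ℕ}

/-- E9 -/
theorem exists_orderOf_nine [CharP K 3] (hK : Fintype.card K = 3 ^ (2 * m + 1)) :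
    ∃ σ : ↥(Y (frobS K m)), orderOf σ = 9 := by
  have : Fact (Nat.Prime 3) := ⟨Nat.prime_three⟩
  refine ⟨⟨E9.s9 (frobS K m), affPerm_mem _ _ _ _ _⟩, ?_⟩
  rw [← Subgroup.orderOf_coe]
  have h := orderOf_eq_prime_pow (x := E9.s9 (frobS K m)) (p := 3) (n := 1)
    (by rw [pow_one]; exact E9.s9_pow_three_ne _)
    (by norm_num; exact E9.s9_pow_nine _)
  rw [h]
  norm_num

end finite

end Cfsg.Agent.S3626P
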