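import Mathlib
import Cfsg.Agent.Helper6.S3626.Defs
import Cfsg.Agent.Helper18.S3626E9

/-! S3626 piece E6 (helper18): an element of order `6` in `Y`. -/

set_option autoImplicit false

namespace Cfsg.Agent.S3626P

open Matrix

namespace E6

variable {K : Type*} [Field K]

/-- the element of order `6` -/
def s6 (φ : K →+* K) : Equiv.Perm (Matrix (Fin 2) (Fin 2) K) :=
  affPerm φ (-1) (Or.inr rfl) E9.u 0

theorem s6_apply (φ : K →+* K) (X : Matrix (Fin 2) (Fin 2) K) :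
    s6 φ X = !![-(X 0 0 + X 0 1 + X 1 0 + X 1 1), -(X 0 1 + X 1 1); -(X 1 0 + X 1 1), -X 1 1] := by
  unfold s6
  rw [affPerm_apply, aff_apply, E9.lin_u, add_zero]
  ext i j
  fin_cases i <;> fin_cases j <;> simp

theorem s6_pow_two (φ : K →+* K) (X : Matrix (Fin 2) (Fin 2) K) :
    (s6 φ ^ 2) X = !![X 0 0 + 2 * X 0 1 + 2 * X 1 0 + 4 * X 1 1, X 0 1 + 2 * X 1 1;
      X 1 0 + 2 * X 1 1, X 1 1] := by
  have hp : (s6 φ ^ 2) X = s6 φ (s6 φ X) := by
    rw [pow_succ, pow_one, Equiv.Perm.mul_apply]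
  rw [hp, s6_apply, s6_apply]
  ext i j
  fin_cases i <;> fin_cases j <;> simp <;> ring

theorem s6_pow_three [CharP K 3] (φ : K →+* K) (X : Matrix (Fin 2) (Fin 2) K) :
    (s6 φ ^ 3) X = -X := by
  have h3 : (3 : K) = 0 := E9.three_eq_zero
  have hp : (s6 φ ^ 3) X = s6 φ ((s6 φ ^ 2) X) := by
    rw [pow_succ', Equiv.Perm.mul_apply]
  rw [hp, s6_pow_two, s6_apply]
  ext i j
  fin_cases i <;> fin_cases j <;> simp
  · linear_combination (-X 0 1 - X 1 0 - 3 * X 1 1) * h3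
  · linear_combination (-X 1 1) * h3
  · linear_combination (-X 1 1) * h3

theorem s6_pow_six [CharP K 3] (φ : K →+* K) : s6 φ ^ 6 = 1 := by
  apply Equiv.ext
  intro X
  have hp : (s6 φ ^ 6) X = (s6 φ ^ 3) ((s6 φ ^ 3) X) := by
    rw [show (6 : ℕ) = 3 + 3 by norm_num, pow_add, Equiv.Perm.mul_apply]
  rw [hp, s6_pow_three, s6_pow_three, neg_neg, Equiv.Perm.one_apply]

theorem s6_pow_two_ne [CharP K 3] (φ : K →+* K) : ¬ s6 φ ^ 2 = 1 := by
  intro h
  have h1 := s6_pow_two φ (Matrix.single 1 1 1 : Matrix (Fin 2) (Fin 2) K)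
  rw [h, Equiv.Perm.one_apply] at h1
  have h2 := congrFun (congrFun h1 0) 1
  simp at h2
  exact E9.two_ne_zero' h2.symm

theorem s6_pow_three_ne [CharP K 3] (φ : K →+* K) : ¬ s6 φ ^ 3 = 1 := by
  intro h
  have h1 := s6_pow_three φ (Matrix.single 0 0 1 : Matrix (Fin 2) (Fin 2) K)
  rw [h, Equiv.Perm.one_apply] at h1
  have h2 := congrFun (congrFun h1 0) 0
  simp at h2
  have h3 : (2 : K) = 0 := by linear_combination h2
  exact E9.two_ne_zero' h3

theorem orderOf_s6 [CharP K 3] (φ : K →+* K) : orderOf (s6 φ) = 6 := by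
  have hd : orderOf (s6 φ) ∣ 6 := orderOf_dvd_of_pow_eq_one (s6_pow_six φ)
  have hmem : orderOf (s6 φ) ∈ Nat.divisors 6 := Nat.mem_divisors.mpr ⟨hd, by norm_num⟩
  have hdiv : Nat.divisors 6 = {1, 2, 3, 6} := by decide
  rw [hdiv] at hmem
  simp only [Finset.mem_insert, Finset.mem_singleton] at hmem
  rcases hmem with h | h | h | h
  · exfalso
    apply s6_pow_two_ne φ
    rw [orderOf_eq_one_iff] at h
    rw [h, one_pow]
  · exfalso
    apply s6_pow_two_ne φ
    have := pow_orderOf_eq_one (s6 φ)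
    rwa [h] at this
  · exfalso
    apply s6_pow_three_ne φ
    have := pow_orderOf_eq_one (s6 φ)
    rwa [h] at this
  · exact h

end E6

section finite

variable {K : Type*} [Field K] [Fintype K] {m : ℕ}

/-- E6 -/
theorem exists_orderOf_six [CharP K 3] (hK : Fintype.card K = 3 ^ (2 * m + 1)) :
    ∃ σ : ↥(Y (frobS K m)), orderOf σ = 6 := by
  refine ⟨⟨E6.s6 (frobS K m), affPerm_mem _ _ _ _ _⟩, ?_⟩
  rw [← Subgroup.orderOf_coe]
  exact E6.orderOf_s6 _

end finite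

end Cfsg.Agent.S3626P
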