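import Mathlib
import Cfsg.Agent.Helper6.S3626.Defs

/-! S3626 piece NORMAL (helper18): the translations form a nontrivial abelian normal subgroup of `Y φ`. -/

set_option autoImplicit false

namespace Cfsg.Agent.S3626P

open Matrix

section generic

variable {K : Type*} [Field K]

/-- NORMAL -/
theorem T_normal (φ : K →+* K) : (T φ).Normal := by
  constructor
  rintro τ ⟨w, hτ⟩ g
  obtain ⟨e, g0, v, he, hg⟩ := (mem_Y_iff φ (g : Equiv.Perm _)).mp g.2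
  refine ⟨lin φ e (g0 : Matrix (Fin 2) (Fin 2) K) w, fun X => ?_⟩
  have hcoe : ((g * τ * g⁻¹ : ↥(Y φ)) : Equiv.Perm (Matrix (Fin 2) (Fin 2) K)) X =
      (g : Equiv.Perm _) ((τ : Equiv.Perm _) ((g : Equiv.Perm _)⁻¹ X)) := by
    rw [Subgroup.coe_mul, Subgroup.coe_mul, Subgroup.coe_inv, Equiv.Perm.mul_apply,
      Equiv.Perm.mul_apply]
  rw [hcoe]
  set Z := (g : Equiv.Perm (Matrix (Fin 2) (Fin 2) K))⁻¹ X with hZ
  have hX : (g : Equiv.Perm (Matrix (Fin 2) (Fin 2) K)) Z = X := by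
    rw [hZ, Equiv.Perm.inv_def, Equiv.apply_symm_apply]
  rw [hτ Z, hg (Z + w), aff_apply, lin_add, ← hX, hg Z, aff_apply]
  abel

/-- NORMAL -/
theorem T_ne_bot (φ : K →+* K) : T φ ≠ ⊥ := by
  intro h
  let E : Matrix (Fin 2) (Fin 2) K := Matrix.single 0 0 1
  let t : ↥(Y φ) := ⟨affPerm φ 1 (Or.inl rfl) 1 E, affPerm_mem φ 1 (Or.inl rfl) 1 E⟩
  have ht : t ∈ T φ := by
    refine ⟨E, fun X => ?_⟩
    show affPerm φ 1 (Or.inl rfl) 1 E X = X + E
    rw [affPerm_apply, aff_apply, Matrix.SpecialLinearGroup.coe_one, lin_one]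
  rw [h, Subgroup.mem_bot] at ht
  have h0 : (t : Equiv.Perm (Matrix (Fin 2) (Fin 2) K)) 0 = 0 := by
    rw [ht]; rfl
  have h1 : (t : Equiv.Perm (Matrix (Fin 2) (Fin 2) K)) 0 = E := by
    show affPerm φ 1 (Or.inl rfl) 1 E 0 = E
    rw [affPerm_apply, aff_apply, lin_zero, zero_add]
  rw [h1] at h0
  have h2 := congrFun (congrFun h0 0) 0
  simp [E] at h2

/-- NORMAL -/
theorem T_comm (φ : K →+* K) (a b : ↥(T φ)) : a * b = b * a := by
  obtain ⟨v, hv⟩ := a.2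
  obtain ⟨w, hw⟩ := b.2
  apply Subtype.ext
  apply Subtype.ext
  apply Equiv.ext
  intro X
  show ((a : ↥(Y φ)) : Equiv.Perm _) (((b : ↥(Y φ)) : Equiv.Perm _) X) =
    ((b : ↥(Y φ)) : Equiv.Perm _) (((a : ↥(Y φ)) : Equiv.Perm _) X)
  rw [hw X, hv (X + w), hv X, hw (X + v)]
  abel

end generic

end Cfsg.Agent.S3626P
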