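import Mathlib
import Cfsg.Agent.Helper11.S3786Defs
import Cfsg.Agent.Lead.PLength
import Cfsg.Agent.Helper1.PLenSeries
import Cfsg.Agent.Lead.PSolvHall

/-! Board `s3786pieces`, row IND2 (core): the induction for part (b), with the key step STEP2' as a hypothesis. -/

set_option autoImplicit false

namespace Cfsg.Agent.S3786P

open Subgroup

universe u

/-- `l_p(G) ≤ l_p(G / O_{p',p,p',p}(G)) + 2`. -/
theorem IND2_aux_of_quotient_four {p : ℕ} {G : Type*} [Group G] {k : ℕ}
    (h : Cfsg.PLengthLE p k (G ⧸ (Cfsg.upperPSeries p G 4).1)) : Cfsg.PLengthLE p (k + 2) G := by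
  have h1 : (Cfsg.upperPSeries p (G ⧸ (Cfsg.upperPSeries p G 4).1) (2 * k + 1)).1 = ⊤ := h
  have h2 := Cfsg.Agent.Lead.upperPSeries_add p G (m := 4) (by decide) (2 * k + 1)
  rw [h1, comap_top] at h2
  have e : 2 * (k + 2) + 1 = 4 + (2 * k + 1) := by ring
  change (Cfsg.upperPSeries p G (2 * (k + 2) + 1)).1 = ⊤
  rw [e]; exact h2

/-- the exponent condition passes to quotients. -/
theorem IND2_aux_ExpLE_of_surjective {p : ℕ} [Fact p.Prime] {G H : Type*} [Group G] [Group H] [Finite G]
    {n : ℕ} (h : ExpLE p n G) (f : G →* H) (hf : Function.Surjective f) : ExpLE p n H := by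
  intro P'
  obtain ⟨P, rfl⟩ := Sylow.mapSurjective_surjective hf p P'
  rw [Sylow.coe_mapSurjective]
  rintro _ ⟨x, hx, rfl⟩
  rw [← map_pow, h P x hx, map_one]

/-- the induction for part (b), with STEP2' as a hypothesis. -/
theorem IND2_aux_core {p : ℕ} [hp : Fact p.Prime]
    (hstep : ∀ (G : Type u) [Group G] [Finite G], Cfsg.IsPSolvable p G → ∀ {n : ℕ}, ExpLE p (n + 1) G →
      ∀ (P : Sylow p G) (x : G), x ∈ (P : Subgroup G) → x ^ p ^ n ∈ (Cfsg.upperPSeries p G 4).1) :
    ∀ (n : ℕ) (G : Type u) [Group G] [Finite G],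
      Cfsg.IsPSolvable p G → ExpLE p n G → Cfsg.PLengthLE p (2 * n) G := by
  intro n
  induction n with
  | zero =>
    intro G _ _ hsol hexp
    apply Cfsg.Agent.Helper1.PLen.pLengthLE_zero_of_coprime
    obtain ⟨S⟩ : Nonempty (Sylow p G) := inferInstance
    have hS1 : Nat.card (S : Subgroup G) = 1 := by
      rw [Nat.card_eq_one_iff_unique]
      refine ⟨⟨fun a b => ?_⟩, ⟨1⟩⟩
      apply Subtype.ext
      have ha := hexp S a a.2
      have hb := hexp S b b.2
      simp only [pow_zero, pow_one] at ha hb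
      rw [ha, hb]
    have h2 := (S : Subgroup G).card_mul_index
    rw [hS1, one_mul] at h2
    rw [← h2]
    exact ((Nat.Prime.coprime_iff_not_dvd hp.out).mpr S.not_dvd_index).symm
  | succ n ih =>
    intro G _ _ hsol hexp
    set B := (Cfsg.upperPSeries p G 4).1 with hB
    have hBn : B.Normal := (Cfsg.upperPSeries p G 4).2
    have hf : Function.Surjective (QuotientGroup.mk' B) := QuotientGroup.mk'_surjective B
    have e : 2 * (n + 1) = 2 * n + 2 := by ring
    rw [e]
    apply IND2_aux_of_quotient_four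
    apply ih (G ⧸ B) (Cfsg.Agent.Lead.isPSolvable_quotient hsol B)
    intro P'
    obtain ⟨P, rfl⟩ := Sylow.mapSurjective_surjective hf p P'
    rw [Sylow.coe_mapSurjective]
    rintro _ ⟨x, hx, rfl⟩
    rw [← map_pow, QuotientGroup.mk'_apply, QuotientGroup.eq_one_iff]
    exact hstep G hsol hexp P x hx

end Cfsg.Agent.S3786P
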