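import Mathlib
import Cfsg.Agent.Helper11.S3786Defs
import Cfsg.Agent.Helper18.S3786IND2core
import Cfsg.Agent.Helper15.S3786STEP2p
import Cfsg.Agent.Helper11.S3786STEP2

/-! Board `s3786pieces`, row IND2: the induction for part (b) (from `IND2_aux_core`, helper15's `STEP2'_aux_core` and the
landed `STEP2`). -/

set_option autoImplicit false

namespace Cfsg.Agent.S3786P

open Subgroup

universe u

/-- E4. Induction for part (b) (`Lead.upperPSeries_add` with `m = 4`, or `Lead.PLengthLE.of_quotient_two` twice). -/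
theorem IND2 {p : ℕ} [Fact p.Prime] (hp2 : p ≠ 2) : ∀ (n : ℕ) (G : Type u) [Group G] [Finite G],
    Cfsg.IsPSolvable p G → ExpLE p n G → Cfsg.PLengthLE p (2 * n) G :=
  IND2_aux_core (fun _ _ _ hsol _ hexp P x hx =>
    STEP2'_aux_core hsol hexp P x hx
      (fun _ _ _ hs hO he P' x' hx' => STEP2 hp2 hs hO he P' x' hx'))

end Cfsg.Agent.S3786P
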