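import Mathlib
import Cfsg.Agent.Helper2.S4130Defs

/-!
# S4130 piece B, from A0 and B1 as hypotheses (helper18)

`|Uset| * |P| ≤ p * |G|`: `|G| = |Pall|` (A0) is the sum over the `p'`-elements `y` of the number
of `p`-elements commuting with `y`, each at least `|P| / p` (B1 + `Core.cls`).
-/

set_option autoImplicit false

namespace Cfsg.Agent.S4130P

open Subgroup

/-- `Pall` as a sigma type over the `p'`-elements. -/
noncomputable def pallEquivSigma (p : ℕ) (G : Type*) [Group G] :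
    Pall p G ≃ Σ y : Uset p G, {z : G // IsPEl p z ∧ z * y.1 = y.1 * z} where
  toFun q := ⟨⟨q.1.2, q.2.2.1⟩, ⟨q.1.1, q.2.1, q.2.2.2⟩⟩
  invFun s := ⟨(s.2.1, s.1.1), s.2.2.1, s.1.2, s.2.2.2⟩
  left_inv := by rintro ⟨⟨z, y⟩, h1, h2, h3⟩; rfl
  right_inv := by rintro ⟨⟨y, hy⟩, ⟨z, h1, h2⟩⟩; rfl

/-- B from A0 and B1. -/
theorem B_of {G : Type*} [Group G] [Finite G] {p : ℕ} [Fact p.Prime] (P : Sylow p G)
    (hc : Core G p P)
    (hA0 : Nat.card (Pall p G) = Nat.card G)
    (hB1 : ∀ y : G, ¬ p ^ 2 ∣ (centralizer ({y} : Set G)).index →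
      Nat.card (P : Subgroup G) ≤ p * Nat.card {z : G // IsPEl p z ∧ z * y = y * z}) :
    Nat.card (Uset p G) * Nat.card (P : Subgroup G) ≤ p * Nat.card G := by
  classical
  have : Fintype (Uset p G) := Fintype.ofFinite _
  rw [← hA0, Nat.card_congr (pallEquivSigma p G), Nat.card_sigma, Finset.mul_sum]
  have h1 : ∀ y ∈ (Finset.univ : Finset (Uset p G)),
      Nat.card (P : Subgroup G) ≤ p * Nat.card {z : G // IsPEl p z ∧ z * y.1 = y.1 * z} :=
    fun y _ => hB1 y.1 (hc.cls y.1 y.2)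
  calc Nat.card (Uset p G) * Nat.card (P : Subgroup G)
      = ∑ _y : Uset p G, Nat.card (P : Subgroup G) := by
        rw [Finset.sum_const, Finset.card_univ, smul_eq_mul, Nat.card_eq_fintype_card]
    _ ≤ _ := Finset.sum_le_sum h1

end Cfsg.Agent.S4130P
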