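import Mathlib
import Cfsg.Agent.Helper2.S4130Defs

/-!
# S4130 piece C1 (helper18)

`Q : Sylow p Y` with `N_Y(Q) ≤ C_Y(Q)`: the `p'`-elements of `Y` are exactly the kernel of the
transfer into `Q`, a complement of `Q`; hence `#p'-elements * |Q| = |Y|`.
-/

set_option autoImplicit false

namespace Cfsg.Agent.S4130P

open Subgroup

/-- C1: in a group with N(Q) ≤ C(Q) (hence p-nilpotent), #p'-elements * |Q| = |Y|. -/
theorem C1 {Y : Type*} [Group Y] [Finite Y] {p : ℕ} [Fact p.Prime] (Q : Sylow p Y)
    (hN : normalizer ((Q : Subgroup Y) : Set Y) ≤ centralizer ((Q : Subgroup Y) : Set Y)) :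
    Nat.card (Uset p Y) * Nat.card (Q : Subgroup Y) = Nat.card Y := by
  classical
  have hp : p.Prime := Fact.out
  set f := MonoidHom.transferSylow Q hN with hf
  have hcomp : IsComplement' f.ker (Q : Subgroup Y) :=
    MonoidHom.ker_transferSylow_isComplement' Q hN
  have hcard : Nat.card f.ker * Nat.card (Q : Subgroup Y) = Nat.card Y := hcomp.card_mul_card
  have hidx : (Q : Subgroup Y).index = Nat.card f.ker := hcomp.index_eq_card
  have hcop : (Nat.card f.ker).Coprime p := by
    have h1 : (Nat.card (Q : Subgroup Y)).Coprime ((Q : Subgroup Y).index) :=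
      Q.card_coprime_index
    rw [hidx] at h1
    by_cases hQ1 : Nat.card (Q : Subgroup Y) = 1
    · -- then p does not divide |Y|
      rw [Nat.coprime_comm, Nat.Prime.coprime_iff_not_dvd hp]
      intro hdvd
      have : p ∣ Nat.card Y := by rw [← hcard]; exact Dvd.dvd.mul_right hdvd _
      have h2 : p ∣ Nat.card (Q : Subgroup Y) := by
        have := Q.card_eq_multiplicity
        rw [this]
        have hfac : 0 < (Nat.card Y).factorization p :=
          hp.factorization_pos_of_dvd Nat.card_pos.ne' ‹p ∣ Nat.card Y›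
        exact dvd_pow_self p hfac.ne'
      rw [hQ1] at h2
      exact hp.one_lt.ne' (Nat.dvd_one.mp h2)
    · have hpd : p ∣ Nat.card (Q : Subgroup Y) := by
        obtain ⟨n, hn⟩ := (IsPGroup.iff_card.mp Q.isPGroup')
        rw [hn]
        rcases Nat.eq_zero_or_pos n with h0 | h0
        · exact absurd (by rw [hn, h0, pow_zero]) hQ1
        · exact dvd_pow_self p h0.ne'
      exact (Nat.Coprime.coprime_dvd_left hpd h1).symm
  have hset : Uset p Y = (f.ker : Set Y) := by
    ext y
    constructor
    · intro hy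
      have hy' : (orderOf y).Coprime p := hy
      rw [SetLike.mem_coe, MonoidHom.mem_ker]
      have h1 : orderOf (f y) ∣ orderOf y := orderOf_map_dvd f y
      obtain ⟨k, hk⟩ := Q.isPGroup' (f y)
      have h2 : orderOf (f y) ∣ p ^ k := orderOf_dvd_of_pow_eq_one hk
      have h3 : (orderOf (f y)).Coprime (p ^ k) :=
        Nat.Coprime.coprime_dvd_left h1 (Nat.Coprime.pow_right k hy')
      have h4 : orderOf (f y) = 1 := Nat.eq_one_of_dvd_coprimes h3 (dvd_refl _) h2
      exact orderOf_eq_one_iff.mp h4
    · intro hy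
      have hy' : y ∈ f.ker := hy
      show (orderOf y).Coprime p
      have h1 : orderOf (⟨y, hy'⟩ : f.ker) ∣ Nat.card f.ker := orderOf_dvd_natCard _
      have h2 : orderOf (⟨y, hy'⟩ : f.ker) = orderOf y := by
        rw [← Subgroup.orderOf_coe]
      rw [h2] at h1
      exact Nat.Coprime.coprime_dvd_left h1 hcop
  rw [hset]
  exact hcard

end Cfsg.Agent.S4130P
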