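import Mathlib
import Cfsg.Agent.Helper2.S4130Defs

/-!
# S4130 piece C4a (helper18)

`|Qout| = |Tset| * |G|`: explicit bijection `Qout ≃ Tset × G`.  Choose a representative `x κ` of
every class and for every `z` an element `u z` with `u z * x (mk z) * (u z)⁻¹ = z`; then
`(z, g) ↦ (mk z, g * u z)` with inverse `(κ, u) ↦ (z := u * x κ * u⁻¹, u * (u z)⁻¹)`.
-/

set_option autoImplicit false

namespace Cfsg.Agent.S4130P

open Subgroup

/-- a chosen representative of a conjugacy class -/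
noncomputable def c4aRep {G : Type*} [Group G] (κ : ConjClasses G) : G :=
  Classical.choose (ConjClasses.exists_rep κ)

theorem c4aRep_spec {G : Type*} [Group G] (κ : ConjClasses G) :
    ConjClasses.mk (c4aRep κ) = κ :=
  Classical.choose_spec (ConjClasses.exists_rep κ)

theorem c4a_exists_conj {G : Type*} [Group G] (z : G) :
    ∃ u : G, u * c4aRep (ConjClasses.mk z) * u⁻¹ = z := by
  have h : IsConj (c4aRep (ConjClasses.mk z)) z :=
    ConjClasses.mk_eq_mk_iff_isConj.mp (c4aRep_spec (ConjClasses.mk z))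
  exact isConj_iff.mp h

/-- a chosen conjugating element -/
noncomputable def c4aU {G : Type*} [Group G] (z : G) : G :=
  Classical.choose (c4a_exists_conj z)

theorem c4aU_spec {G : Type*} [Group G] (z : G) :
    c4aU z * c4aRep (ConjClasses.mk z) * (c4aU z)⁻¹ = z :=
  Classical.choose_spec (c4a_exists_conj z)

theorem c4a_isPEl_conj {G : Type*} [Group G] {p : ℕ} (u z : G) :
    IsPEl p (u * z * u⁻¹) ↔ IsPEl p z := by
  unfold IsPEl
  have h : orderOf z = orderOf (u * z * u⁻¹) :=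
    SemiconjBy.orderOf_eq u (show SemiconjBy u z (u * z * u⁻¹) by
      unfold SemiconjBy; group)
  rw [h]

theorem c4a_conj_mem_center_iff {G : Type*} [Group G] (u z : G) :
    u * z * u⁻¹ ∈ center G ↔ z ∈ center G := by
  have key : ∀ (v w : G), w ∈ center G → v * w * v⁻¹ ∈ center G := by
    intro v w h
    have h1 : v * w * v⁻¹ = w := by
      rw [(Subgroup.mem_center_iff.mp h v)]; group
    rw [h1]; exact h
  constructor
  · intro h
    have h2 := key u⁻¹ _ h
    have h3 : u⁻¹ * (u * z * u⁻¹) * u⁻¹⁻¹ = z := by group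
    rwa [h3] at h2
  · exact key u z

/-- C4a: Burnside's orbit count. -/
theorem C4a (p : ℕ) [Fact p.Prime] (G : Type*) [Group G] [Finite G] :
    Nat.card (Qout p G) = Nat.card (Tset p G) * Nat.card G := by
  classical
  rw [← Nat.card_prod]
  refine Nat.card_congr ?_
  refine
    { toFun := fun q => (⟨ConjClasses.mk q.1.1, ⟨q.1.1, rfl, q.2.1, q.2.2.1⟩⟩, q.1.2 * c4aU q.1.1)
      invFun := fun t =>
        ⟨(t.2 * c4aRep t.1.1 * t.2⁻¹,
          t.2 * (c4aU (t.2 * c4aRep t.1.1 * t.2⁻¹))⁻¹), ?_⟩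
      left_inv := ?_
      right_inv := ?_ }
  · -- membership in Qout
    obtain ⟨⟨κ, z₀, hz₀, hp₀, hc₀⟩, u⟩ := t
    have hconj : IsConj (c4aRep κ) z₀ :=
      ConjClasses.mk_eq_mk_iff_isConj.mp ((c4aRep_spec κ).trans hz₀.symm)
    obtain ⟨w, hw⟩ := isConj_iff.mp hconj
    have hpr : IsPEl p (c4aRep κ) := by
      rw [← hw] at hp₀; exact (c4a_isPEl_conj w _).mp hp₀
    have hcr : c4aRep κ ∉ center G := by
      rw [← hw] at hc₀; exact fun h => hc₀ ((c4a_conj_mem_center_iff w _).mpr h)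
    refine ⟨(c4a_isPEl_conj u _).mpr hpr, fun h => hcr ((c4a_conj_mem_center_iff u _).mp h), ?_⟩
    show u * c4aRep κ * u⁻¹ * (u * (c4aU (u * c4aRep κ * u⁻¹))⁻¹) =
      u * (c4aU (u * c4aRep κ * u⁻¹))⁻¹ * (u * c4aRep κ * u⁻¹)
    have hmk : ConjClasses.mk (u * c4aRep κ * u⁻¹) = κ := by
      rw [← c4aRep_spec κ]
      exact ConjClasses.mk_eq_mk_iff_isConj.mpr (isConj_iff.mpr ⟨u⁻¹, by rw [c4aRep_spec κ]; group⟩)
    have hsp := c4aU_spec (u * c4aRep κ * u⁻¹)
    rw [hmk] at hsp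
    set v := c4aU (u * c4aRep κ * u⁻¹) with hv
    set x := c4aRep κ with hx
    -- v x v⁻¹ = u x u⁻¹
    have h1 : x = v⁻¹ * (u * x * u⁻¹) * v := by rw [← hsp]; group
    calc u * x * u⁻¹ * (u * v⁻¹) = u * x * v⁻¹ := by group
      _ = u * (v⁻¹ * (u * x * u⁻¹) * v) * v⁻¹ := by rw [← h1]
      _ = u * v⁻¹ * (u * x * u⁻¹) := by group
  · rintro ⟨⟨z, g⟩, hp, hc, hcomm⟩
    apply Subtype.ext
    have hcomm' : z * g = g * z := hcomm
    have hsp := c4aU_spec z
    have hz' : g * c4aU z * c4aRep (ConjClasses.mk z) * (g * c4aU z)⁻¹ = z := by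
      calc g * c4aU z * c4aRep (ConjClasses.mk z) * (g * c4aU z)⁻¹
          = g * (c4aU z * c4aRep (ConjClasses.mk z) * (c4aU z)⁻¹) * g⁻¹ := by group
        _ = g * z * g⁻¹ := by rw [hsp]
        _ = z := by rw [← hcomm']; group
    show (g * c4aU z * c4aRep (ConjClasses.mk z) * (g * c4aU z)⁻¹,
      g * c4aU z * (c4aU (g * c4aU z * c4aRep (ConjClasses.mk z) * (g * c4aU z)⁻¹))⁻¹) = (z, g)
    rw [hz']
    ext
    · rfl
    · show g * c4aU z * (c4aU z)⁻¹ = g
      group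
  · rintro ⟨⟨κ, z₀, hz₀, hp₀, hc₀⟩, u⟩
    have hmk : ConjClasses.mk (u * c4aRep κ * u⁻¹) = κ := by
      rw [← c4aRep_spec κ]
      exact ConjClasses.mk_eq_mk_iff_isConj.mpr (isConj_iff.mpr ⟨u⁻¹, by rw [c4aRep_spec κ]; group⟩)
    refine Prod.ext (Subtype.ext hmk) ?_
    show u * (c4aU (u * c4aRep κ * u⁻¹))⁻¹ * c4aU (u * c4aRep κ * u⁻¹) = u
    group

end Cfsg.Agent.S4130P
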