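import Mathlib

/-!
# S4130 piece PABC (helper18): `P` a normal Sylow `q`-subgroup containing `G'`: `G' ≤ [P, G]`.
In `G / [P, G]` the image of `P` is central; a commutator `c = [a, b]` is central there, so
`c^m = [a^m, b] = 1` for `m = |G : P|` (`a^m ∈ P`), and `c` is a `q`-element.
-/

set_option autoImplicit false

namespace Cfsg.Agent.S4130P

open Subgroup
open scoped commutatorElement

theorem PABC_aux_pow {H : Type*} [Group H] (x y : H) (hz : ∀ w : H, ⁅x, y⁆ * w = w * ⁅x, y⁆)
    (n : ℕ) : ⁅x ^ n, y⁆ = ⁅x, y⁆ ^ n := by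
  induction n with
  | zero => simp
  | succ n ih =>
    have e : ⁅x ^ (n + 1), y⁆ = x * ⁅x ^ n, y⁆ * x⁻¹ * ⁅x, y⁆ := by
      simp only [commutatorElement_def, pow_succ']
      group
    rw [e, ih]
    have h2 : x * ⁅x, y⁆ ^ n * x⁻¹ = ⁅x, y⁆ ^ n := by
      have hc : Commute (⁅x, y⁆ ^ n) x := (Commute.pow_left (hz x) n)
      rw [← hc.eq, mul_inv_cancel_right]
    rw [h2, pow_succ]

/-- (PABC) pure group theory: `P` a normal Sylow `q`-subgroup containing `G'`: `G' ≤ [P, G]`. -/
theorem PABC {G : Type*} [Group G] [Finite G] (q : ℕ) [Fact q.Prime]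
    (P : Sylow q G) [(P : Subgroup G).Normal] (hG' : commutator G ≤ P) :
    commutator G ≤ ⁅(P : Subgroup G), (⊤ : Subgroup G)⁆ := by
  classical
  set R : Subgroup G := ⁅(P : Subgroup G), (⊤ : Subgroup G)⁆ with hR
  have : R.Normal := Subgroup.commutator_normal _ _
  set π := QuotientGroup.mk' R with hπ
  -- images of elements of `P` are central
  have hcen : ∀ p ∈ (P : Subgroup G), ∀ w : G ⧸ R, π p * w = w * π p := by
    intro p hp w
    obtain ⟨g, rfl⟩ := QuotientGroup.mk'_surjective R w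
    have hmem : ⁅p, g⁆ ∈ R := Subgroup.commutator_mem_commutator hp (Subgroup.mem_top g)
    have h1 : π ⁅p, g⁆ = 1 := (QuotientGroup.eq_one_iff _).mpr hmem
    rw [commutatorElement_def, map_mul, map_mul, map_mul, map_inv, map_inv] at h1
    have : π p * π g = π g * π p := by
      have h2 := congrArg (fun t => t * π g * π p) h1
      simpa [mul_assoc] using h2
    exact this
  rw [commutator_def, Subgroup.commutator_le]
  intro a _ b _
  have hcP : ⁅a, b⁆ ∈ (P : Subgroup G) :=
    hG' (by rw [commutator_def]; exact Subgroup.commutator_mem_commutator (mem_top a) (mem_top b))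
  rw [← QuotientGroup.eq_one_iff (N := R)]
  show π ⁅a, b⁆ = 1
  have hz : π ⁅a, b⁆ = ⁅π a, π b⁆ := map_commutatorElement π a b
  have hzc : ∀ w : G ⧸ R, ⁅π a, π b⁆ * w = w * ⁅π a, π b⁆ := by
    intro w; rw [← hz]; exact hcen _ hcP w
  -- `z ^ m = 1`
  have hm : ⁅π a, π b⁆ ^ (P : Subgroup G).index = 1 := by
    rw [← PABC_aux_pow _ _ hzc]
    have hamem : a ^ (P : Subgroup G).index ∈ (P : Subgroup G) := Subgroup.pow_index_mem _ a
    have h1 := hcen _ hamem (π b)
    rw [map_pow] at h1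
    rw [commutatorElement_def, h1]
    group
  -- `z ^ |P| = 1`
  have hq : ⁅π a, π b⁆ ^ Nat.card (P : Subgroup G) = 1 := by
    rw [← hz, ← map_pow]
    have : ⁅a, b⁆ ^ Nat.card (P : Subgroup G) = 1 := by
      have h1 := Subgroup.orderOf_dvd_natCard (P : Subgroup G) hcP
      exact orderOf_dvd_iff_pow_eq_one.mp h1
    rw [this, map_one]
  have hcop : (Nat.card (P : Subgroup G)).Coprime (P : Subgroup G).index := P.card_coprime_index
  have h1 : orderOf ⁅π a, π b⁆ ∣ (P : Subgroup G).index := orderOf_dvd_of_pow_eq_one hm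
  have h2 : orderOf ⁅π a, π b⁆ ∣ Nat.card (P : Subgroup G) := orderOf_dvd_of_pow_eq_one hq
  have h3 : orderOf ⁅π a, π b⁆ = 1 := Nat.eq_one_of_dvd_coprimes hcop h2 h1
  rw [hz]
  exact orderOf_eq_one_iff.mp h3

end Cfsg.Agent.S4130P
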