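import Mathlib

/-!
# S4130 piece PC1c (helper18): finitely many normal subgroups of pairwise different prime orders:
the product `x` of generators has `C_G(x) ≤ C_G(N)` for each of them.
-/

set_option autoImplicit false

namespace Cfsg.Agent.S4130P

open Subgroup
open scoped commutatorElement

/-- two different normal subgroups of prime order commute elementwise -/
theorem PC1c_aux_comm {G : Type*} [Group G] [Finite G] {N₁ N₂ : Subgroup G} (h1 : N₁.Normal)
    (h2 : N₂.Normal) (hp1 : (Nat.card N₁).Prime) (hp2 : (Nat.card N₂).Prime) (hne : N₁ ≠ N₂)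
    {a b : G} (ha : a ∈ N₁) (hb : b ∈ N₂) : a * b = b * a := by
  have hinf : N₁ ⊓ N₂ = ⊥ := by
    by_contra hbot
    -- the intersection is nontrivial, of order dividing both primes
    have hd1 : Nat.card (N₁ ⊓ N₂ : Subgroup G) ∣ Nat.card N₁ := Subgroup.card_dvd_of_le inf_le_left
    have hd2 : Nat.card (N₁ ⊓ N₂ : Subgroup G) ∣ Nat.card N₂ := Subgroup.card_dvd_of_le inf_le_right
    have hne1 : Nat.card (N₁ ⊓ N₂ : Subgroup G) ≠ 1 := by
      intro h; exact hbot (Subgroup.card_eq_one.mp h)
    have e1 : Nat.card (N₁ ⊓ N₂ : Subgroup G) = Nat.card N₁ :=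
      ((Nat.dvd_prime hp1).mp hd1).resolve_left hne1
    have e2 : Nat.card (N₁ ⊓ N₂ : Subgroup G) = Nat.card N₂ :=
      ((Nat.dvd_prime hp2).mp hd2).resolve_left hne1
    have f1 : N₁ ⊓ N₂ = N₁ := Subgroup.eq_of_le_of_card_ge inf_le_left e1.ge
    have f2 : N₁ ⊓ N₂ = N₂ := Subgroup.eq_of_le_of_card_ge inf_le_right e2.ge
    exact hne (f1.symm.trans f2)
  have hmem : ⁅a, b⁆ ∈ N₁ ⊓ N₂ := by
    constructor
    · have : ⁅a, b⁆ = a * (b * a⁻¹ * b⁻¹) := by rw [commutatorElement_def]; group
      rw [this]
      exact N₁.mul_mem ha (h1.conj_mem _ (N₁.inv_mem ha) b)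
    · have : ⁅a, b⁆ = (a * b * a⁻¹) * b⁻¹ := by rw [commutatorElement_def]
      rw [this]
      exact N₂.mul_mem (h2.conj_mem _ hb a) (N₂.inv_mem hb)
  rw [hinf, Subgroup.mem_bot] at hmem
  exact commutatorElement_eq_one_iff_mul_comm.mp hmem

/-- a subgroup of prime order is generated by each of its non-identity elements -/
theorem PC1c_aux_gen {G : Type*} [Group G] [Finite G] {N : Subgroup G}
    (hp : (Nat.card N).Prime) {n : G} (hn : n ∈ N) (hn1 : n ≠ 1) {m : G} (hm : m ∈ N) :
    ∃ k : ℤ, n ^ k = m := by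
  have : Fact (Nat.card N).Prime := ⟨hp⟩
  have h1 : (⟨n, hn⟩ : N) ≠ 1 := by
    intro h; exact hn1 (congrArg Subtype.val h)
  have htop : Subgroup.zpowers (⟨n, hn⟩ : N) = ⊤ := zpowers_eq_top_of_prime_card rfl h1
  have : (⟨m, hm⟩ : N) ∈ Subgroup.zpowers (⟨n, hn⟩ : N) := by rw [htop]; exact mem_top _
  obtain ⟨k, hk⟩ := Subgroup.mem_zpowers_iff.mp this
  exact ⟨k, by simpa using congrArg Subtype.val hk⟩

theorem PC1c_aux_strong {G : Type*} [Group G] [Finite G] (S : Finset (Subgroup G)) :
    (∀ N ∈ S, N.Normal ∧ (Nat.card N).Prime) →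
    (∀ N₁ ∈ S, ∀ N₂ ∈ S, Nat.card N₁ = Nat.card N₂ → N₁ = N₂) →
    ∃ x : G, x ∈ (⨆ N ∈ S, N : Subgroup G) ∧
      (∀ N ∈ S, centralizer ({x} : Set G) ≤ centralizer (N : Set G)) ∧
      (∀ r : ℕ, r.Prime → r ∣ orderOf x → ∃ N ∈ S, Nat.card N = r) := by
  classical
  induction S using Finset.induction_on with
  | empty =>
    intro _ _
    refine ⟨1, Subgroup.one_mem _, by simp, ?_⟩
    intro r hr hdvd
    rw [orderOf_one] at hdvd
    exact absurd (Nat.dvd_one.mp hdvd) hr.one_lt.ne'
  | insert N S hNS ih =>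
    intro hS hdist
    obtain ⟨x, hxmem, hxc, hxo⟩ := ih (fun N' hN' => hS N' (Finset.mem_insert_of_mem hN'))
      (fun N₁ h1 N₂ h2 => hdist N₁ (Finset.mem_insert_of_mem h1) N₂ (Finset.mem_insert_of_mem h2))
    obtain ⟨hNn, hNp⟩ := hS N (Finset.mem_insert_self N S)
    set t := Nat.card N with ht
    -- a generator
    obtain ⟨n, hn, hn1⟩ : ∃ n ∈ N, n ≠ 1 := by
      by_contra hcon
      push Not at hcon
      have : N = ⊥ := (Subgroup.eq_bot_iff_forall _).mpr hcon
      rw [ht, this, Subgroup.card_bot] at hNp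
      exact Nat.not_prime_one hNp
    have hnt : n ^ t = 1 := by
      have := Subgroup.orderOf_dvd_natCard N hn
      exact orderOf_dvd_iff_pow_eq_one.mp this
    have hon : orderOf n = t := orderOf_eq_prime hnt hn1 (hp := ⟨hNp⟩)
    -- coprimality
    have hcop : (orderOf x).Coprime t := by
      rw [Nat.coprime_comm, Nat.Prime.coprime_iff_not_dvd hNp]
      intro hdvd
      obtain ⟨N', hN', hcard⟩ := hxo t hNp hdvd
      have := hdist N' (Finset.mem_insert_of_mem hN') N (Finset.mem_insert_self N S) hcard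
      exact hNS (this ▸ hN')
    -- `n` commutes with `x`
    have hcomm : x * n = n * x := by
      have hle : (⨆ N' ∈ S, N' : Subgroup G) ≤ centralizer ({n} : Set G) := by
        refine iSup₂_le fun N' hN' m hm => ?_
        rw [Subgroup.mem_centralizer_iff]
        intro h hh
        rw [Set.mem_singleton_iff] at hh
        subst hh
        obtain ⟨hN'n, hN'p⟩ := hS N' (Finset.mem_insert_of_mem hN')
        have hne : N' ≠ N := fun e => hNS (e ▸ hN')
        exact (PC1c_aux_comm hN'n hNn hN'p hNp hne hm hn).symm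
      have := hle hxmem
      rw [Subgroup.mem_centralizer_iff] at this
      exact (this n rfl).symm
    refine ⟨x * n, ?_, ?_, ?_⟩
    · refine Subgroup.mul_mem _ ?_ ?_
      · have : (⨆ N' ∈ S, N' : Subgroup G) ≤ ⨆ N' ∈ insert N S, N' :=
          iSup₂_le fun N' hN' => le_iSup₂_of_le N' (Finset.mem_insert_of_mem hN') le_rfl
        exact this hxmem
      · exact (le_iSup₂_of_le (f := fun N' (_ : N' ∈ insert N S) => N') N
          (Finset.mem_insert_self N S) le_rfl) hn
    · -- centralizers
      have key : ∀ g : G, g ∈ centralizer ({x * n} : Set G) →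
          g ∈ centralizer ({n} : Set G) ∧ g ∈ centralizer ({x} : Set G) := by
        intro g hg
        rw [Subgroup.mem_centralizer_iff] at hg
        have hg' : (x * n) * g = g * (x * n) := hg _ rfl
        have hcg : Commute (x * n) g := hg'
        -- g commutes with (x n)^o = n^o
        have hpow : (x * n) ^ orderOf x = n ^ orderOf x := by
          rw [(show Commute x n from hcomm).mul_pow, pow_orderOf_eq_one, one_mul]
        have hc1 : Commute (n ^ orderOf x) g := by
          rw [← hpow]; exact hcg.pow_left _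
        obtain ⟨v, -, hv⟩ := Nat.exists_mul_mod_eq_one_of_coprime hcop hNp.one_lt
        have hnn : (n ^ orderOf x) ^ v = n := by
          rw [← pow_mul, ← pow_mod_orderOf, hon, hv, pow_one]
        have hc2 : Commute n g := by
          rw [← hnn]; exact hc1.pow_left _
        have hc3 : Commute x g := by
          have : x = (x * n) * n⁻¹ := by group
          rw [this]
          exact hcg.mul_left hc2.inv_left
        constructor
        · rw [Subgroup.mem_centralizer_iff]
          intro h hh; rw [Set.mem_singleton_iff] at hh; subst hh; exact hc2.eq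
        · rw [Subgroup.mem_centralizer_iff]
          intro h hh; rw [Set.mem_singleton_iff] at hh; subst hh; exact hc3.eq
      intro N' hN' g hg
      obtain ⟨hgn, hgx⟩ := key g hg
      rcases Finset.mem_insert.mp hN' with rfl | hN''
      · rw [Subgroup.mem_centralizer_iff]
        intro m hm
        obtain ⟨k, rfl⟩ := PC1c_aux_gen hNp hn hn1 hm
        rw [Subgroup.mem_centralizer_iff] at hgn
        have : Commute n g := hgn n rfl
        exact (this.zpow_left k).eq
      · exact hxc N' hN'' hgx
    · intro r hr hdvd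
      have h1 : orderOf (x * n) ∣ orderOf x * orderOf n :=
        (show Commute x n from hcomm).orderOf_mul_dvd_mul_orderOf
      have h2 := hdvd.trans h1
      rcases (Nat.Prime.dvd_mul hr).mp h2 with h3 | h3
      · obtain ⟨N', hN', hc⟩ := hxo r hr h3
        exact ⟨N', Finset.mem_insert_of_mem hN', hc⟩
      · rw [hon] at h3
        refine ⟨N, Finset.mem_insert_self N S, ?_⟩
        exact ((Nat.prime_dvd_prime_iff_eq hr hNp).mp h3).symm

/-- (PC1c) finitely many normal subgroups of pairwise different prime orders: some element `x`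
(the product of generators) has `C_G(x) ≤ C_G(N)` for each of them. -/
theorem PC1c {G : Type*} [Group G] [Finite G] (S : Finset (Subgroup G))
    (hS : ∀ N ∈ S, N.Normal ∧ (Nat.card N).Prime)
    (hdist : ∀ N₁ ∈ S, ∀ N₂ ∈ S, Nat.card N₁ = Nat.card N₂ → N₁ = N₂) :
    ∃ x : G, ∀ N ∈ S, centralizer ({x} : Set G) ≤ centralizer (N : Set G) := by
  obtain ⟨x, -, hx, -⟩ := PC1c_aux_strong S hS hdist
  exact ⟨x, hx⟩

end Cfsg.Agent.S4130P
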