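import Mathlib

/-!
# S4130 piece PFQ (helper18 hedge, named `PFQ_h18`; canonical `PFQ` = Helper2.S4130Adapt): the Frattini quotient is Frattini-free
-/

set_option autoImplicit false

namespace Cfsg.Agent.S4130P

open Subgroup

/-- (PFQ) the Frattini quotient is Frattini-free. -/
theorem PFQ_h18 {G : Type*} [Group G] [Finite G] : frattini (G ⧸ frattini G) = ⊥ := by
  classical
  set π := QuotientGroup.mk' (frattini G) with hπ
  have hsurj : Function.Surjective π := QuotientGroup.mk'_surjective _
  have hker : π.ker = frattini G := QuotientGroup.ker_mk' _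
  set Ψ := (frattini (G ⧸ frattini G)).comap π with hΨ
  have hmapΨ : Ψ.map π = frattini (G ⧸ frattini G) := Subgroup.map_comap_eq_self_of_surjective hsurj _
  have hle : Ψ ≤ frattini G := by
    unfold frattini Order.radical
    refine le_iInf₂ fun K hK => ?_
    have hK' : IsCoatom K := hK
    by_contra hnot
    have hsup : K ⊔ Ψ = ⊤ := by
      by_contra hne
      have hlt : K < K ⊔ Ψ := by
        refine lt_of_le_of_ne le_sup_left ?_
        intro heq
        apply hnot
        rw [heq]; exact le_sup_right
      exact hne (hK'.2 _ hlt)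
    have h1 : K.map π ⊔ frattini (G ⧸ frattini G) = ⊤ := by
      rw [← hmapΨ, ← Subgroup.map_sup, hsup, ← MonoidHom.range_eq_map, MonoidHom.range_eq_top]
      exact hsurj
    have h2 : K.map π = ⊤ := frattini_nongenerating h1
    have h3 : K ⊔ π.ker = ⊤ := by
      have := congrArg (Subgroup.comap π) h2
      rwa [Subgroup.comap_map_eq, Subgroup.comap_top] at this
    rw [hker, sup_eq_left.mpr (frattini_le_coatom hK')] at h3
    exact hK'.1 h3
  rw [← hmapΨ, eq_bot_iff]
  calc Ψ.map π ≤ (frattini G).map π := Subgroup.map_mono hle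
    _ = ⊥ := (Subgroup.map_eq_bot_iff _).mpr hker.ge

end Cfsg.Agent.S4130P
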