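import Mathlib
import Cfsg.Agent.Helper27.S4150Defs
import Cfsg.Agent.Helper17.S4150CARD
import Cfsg.Agent.Helper11.S4150WITTDVD

set_option autoImplicit false

namespace Cfsg.Agent.S4150P

open Equiv Equiv.Perm MulAction

section
variable {α : Type*} [Fintype α] [DecidableEq α]

theorem K60A.main (hα : Fintype.card α = 13) (H : Subgroup (Perm α))
    (hA : ¬ alternatingGroup α ≤ H) (h3 : IsMultiplyPretransitive H α 3) (S : Finset α)
    (hS : S.card = 3) (hu : Nat.card (ptStab H S) = 60) (t : Perm α) (ht : t ∈ ptStab H S)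
    (hto : orderOf t = 3) : (t.supportᶜ).card = 4 := by
  classical
  -- cycle type
  have hp3 : (orderOf t).Prime := by rw [hto]; exact Nat.prime_three
  obtain ⟨n, hn⟩ := Equiv.Perm.cycleType_prime_order hp3
  rw [hto] at hn
  have hsupp : t.support.card = 3 * (n + 1) := by
    rw [← Equiv.Perm.sum_cycleType, hn, Multiset.sum_replicate, smul_eq_mul, mul_comm]
  have hcompl : (t.supportᶜ).card = 13 - 3 * (n + 1) := by
    rw [Finset.card_compl, hα, hsupp]
  -- `S ⊆ supportᶜ`
  have hSsub : S ⊆ t.supportᶜ := by
    intro a ha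
    rw [Finset.mem_compl, Equiv.Perm.mem_support, not_not]
    exact ht.2 a ha
  have h3le : 3 ≤ (t.supportᶜ).card := by
    rw [← hS]; exact Finset.card_le_card hSsub
  have hsle : t.support.card ≤ 13 := by
    rw [← hα]; exact Finset.card_le_univ _
  have hn2 : n ≤ 2 := by omega
  -- primitivity
  have h2 : IsMultiplyPretransitive H α 2 := by
    have := h3
    exact isMultiplyPretransitive_of_le (G := H) (α := α) (m := 2) (n := 3) (by norm_num)
      (by rw [Nat.card_eq_fintype_card, hα]; norm_num)
  have hprim : IsPreprimitive H α := isPreprimitive_of_is_two_pretransitive h2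
  interval_cases n
  · -- 3-cycle: Jordan
    exfalso
    apply hA
    have h3c : t.IsThreeCycle := by
      unfold Equiv.Perm.IsThreeCycle
      rw [hn]; rfl
    exact alternatingGroup_le_of_isPreprimitive_of_isThreeCycle_mem hprim h3c ht.1
  · -- 7 fixed points: Witt
    exfalso
    have hsyl : ¬ 3 ^ 2 ∣ Nat.card (ptStab H S) := by rw [hu]; norm_num
    have hdvd := WITTDVD.main H (k := 3) (by norm_num) h3 S hS Nat.prime_three ht hto hsyl
    have hcard := CARD.main H h3 S hS
    rw [hα, hu] at hcard
    have h7 : (t.supportᶜ).card = 7 := by rw [hcompl]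
    rw [h7] at hdvd
    have hle : Nat.card (normIn H t) ∣ Nat.card H := Subgroup.card_dvd_of_le (normIn_le H t)
    have : 7 ∣ Nat.card H := dvd_trans hdvd hle
    rw [hcard] at this
    revert this
    decide
  · rw [hcompl]

end

end Cfsg.Agent.S4150P
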