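import Mathlib
import Cfsg.Agent.Helper27.S4150Defs
import Cfsg.Agent.S0713
import Cfsg.Agent.Helper23.S4150FIXMOD

set_option autoImplicit false

namespace Cfsg.Agent.S4150P

open Equiv Equiv.Perm MulAction

section
variable {α : Type*} [Fintype α] [DecidableEq α]

/-- an element of prime order `p` in a finite subgroup of `Perm α` whose order is divisible by `p` -/
theorem K60B.exists_order (L : Subgroup (Perm α)) {p : ℕ} (hp : p.Prime) (h : p ∣ Nat.card L) :
    ∃ g : Perm α, g ∈ L ∧ orderOf g = p := by
  have : Fact p.Prime := ⟨hp⟩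
  obtain ⟨g, hg⟩ := exists_prime_orderOf_dvd_card' (G := L) p h
  exact ⟨(g : Perm α), g.2, by rw [Subgroup.orderOf_coe]; exact hg⟩

/-- the orbit of `d` under a subgroup, as a finset -/
noncomputable def K60B.orb (L : Subgroup (Perm α)) (d : α) : Finset α := by
  classical
  exact Finset.univ.filter (fun x => ∃ g ∈ L, g d = x)

theorem K60B.mem_orb (L : Subgroup (Perm α)) (d x : α) : x ∈ K60B.orb L d ↔ ∃ g ∈ L, g d = x := by
  classical
  unfold K60B.orb
  simp

theorem K60B.orb_inv (L : Subgroup (Perm α)) (d : α) {l : Perm α} (hl : l ∈ L) :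
    ∀ a ∈ K60B.orb L d, l a ∈ K60B.orb L d := by
  intro a ha
  rw [K60B.mem_orb] at ha ⊢
  obtain ⟨g, hg, rfl⟩ := ha
  exact ⟨l * g, L.mul_mem hl hg, rfl⟩

theorem K60B.main (hα : Fintype.card α = 13) (H : Subgroup (Perm α))
    (hA : ¬ alternatingGroup α ≤ H) (h3 : IsMultiplyPretransitive H α 3) (S : Finset α)
    (hS : S.card = 3) (hu : Nat.card (ptStab H S) = 60)
    (hfix : ∀ t ∈ ptStab H S, orderOf t = 3 → (t.supportᶜ).card = 4) :
    ∀ d e, d ∉ S → e ∉ S → ∃ g ∈ ptStab H S, g d = e := by
  classical
  intro d e hd he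
  set L := ptStab H S with hL
  -- primitivity
  have h2 : IsMultiplyPretransitive H α 2 := by
    have := h3
    exact isMultiplyPretransitive_of_le (G := H) (α := α) (m := 2) (n := 3) (by norm_num)
      (by rw [Nat.card_eq_fintype_card, hα]; norm_num)
  have hprim : IsPreprimitive H α := isPreprimitive_of_is_two_pretransitive h2
  have hSc : (Sᶜ).card = 10 := by rw [Finset.card_compl, hα, hS]
  -- elements of `L` preserve `Sᶜ`
  have hLS : ∀ l ∈ L, ∀ a, a ∉ S → l a ∉ S := by
    intro l hl a ha hla
    apply ha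
    have h1 : l⁻¹ (l a) = l a := (L.inv_mem hl).2 _ hla
    have h2 : l⁻¹ (l a) = a := by simp
    rw [h2] at h1
    rw [h1]; exact hla
  -- supports of elements of `L` lie in `Sᶜ`
  have hsuppL : ∀ l ∈ L, l.support ⊆ Sᶜ := by
    intro l hl a ha
    rw [Finset.mem_compl]
    intro haS
    rw [Equiv.Perm.mem_support] at ha
    exact ha (hl.2 a haS)
  -- the element of order 5
  obtain ⟨g, hgL, hgo⟩ := K60B.exists_order L Nat.prime_five (by rw [hu]; norm_num)
  have hp5 : (orderOf g).Prime := by rw [hgo]; exact Nat.prime_five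
  obtain ⟨n, hn⟩ := Equiv.Perm.cycleType_prime_order hp5
  rw [hgo] at hn
  have hgsupp : g.support.card = 5 * (n + 1) := by
    rw [← Equiv.Perm.sum_cycleType, hn, Multiset.sum_replicate, smul_eq_mul, mul_comm]
  have hgle : g.support.card ≤ 10 := by
    rw [← hSc]; exact Finset.card_le_card (hsuppL g hgL)
  have hn1 : n = 1 := by
    have hn01 : n ≤ 1 := by omega
    interval_cases n
    · exfalso
      apply hA
      have hcyc : g.IsCycle := by
        rw [← Equiv.Perm.card_cycleType_eq_one, hn]; rfl
      exact Cfsg.Agent.S0713.result H hprim Nat.prime_five (by rw [hα]; norm_num)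
        (by rw [hα]; norm_num) hcyc (by rw [hgsupp]) hgL.1
    · rfl
  subst hn1
  have hgS : g.support = Sᶜ := by
    apply Finset.eq_of_subset_of_card_le (hsuppL g hgL)
    rw [hSc, hgsupp]
  -- the orbit
  set O := K60B.orb L d with hO
  have hdO : d ∈ O := (K60B.mem_orb L d d).mpr ⟨1, L.one_mem, rfl⟩
  have hOS : O ⊆ Sᶜ := by
    intro a ha
    obtain ⟨l, hl, rfl⟩ := (K60B.mem_orb L d a).mp ha
    rw [Finset.mem_compl]
    exact hLS l hl d hd
  have hOle : O.card ≤ 10 := by rw [← hSc]; exact Finset.card_le_card hOS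
  have hOpos : 1 ≤ O.card := Finset.card_pos.mpr ⟨d, hdO⟩
  have hg5 : g ^ 5 = 1 := by rw [← hgo]; exact pow_orderOf_eq_one g
  have hmod5 := FIXMOD.main Nat.prime_five g hg5 O (K60B.orb_inv L d hgL)
  have hfilt5 : O.filter (fun a => g a = a) = ∅ := by
    rw [Finset.filter_eq_empty_iff]
    intro a ha
    have : a ∈ g.support := by rw [hgS]; exact hOS ha
    exact Equiv.Perm.mem_support.mp this
  rw [hfilt5, Finset.card_empty] at hmod5
  have hO510 : O.card = 5 ∨ O.card = 10 := by omega
  rcases hO510 with hO5 | hO10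
  · -- orbit of size 5: contradiction
    exfalso
    obtain ⟨t, htL, hto⟩ := K60B.exists_order L Nat.prime_three (by rw [hu]; norm_num)
    have ht4 := hfix t htL hto
    have ht3 : t ^ 3 = 1 := by rw [← hto]; exact pow_orderOf_eq_one t
    have hm1 := FIXMOD.main Nat.prime_three t ht3 O (K60B.orb_inv L d htL)
    set O' := Sᶜ \ O with hO'
    have hO'card : O'.card = 5 := by
      rw [hO', Finset.card_sdiff_of_subset hOS, hSc, hO5]
    have hO'inv : ∀ a ∈ O', t a ∈ O' := by
      intro a ha
      rw [hO', Finset.mem_sdiff, Finset.mem_compl] at ha ⊢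
      refine ⟨hLS t htL a ha.1, ?_⟩
      intro hta
      apply ha.2
      have := K60B.orb_inv L d (L.inv_mem htL) (t a) hta
      have h2 : t⁻¹ (t a) = a := by simp
      rwa [h2] at this
    have hm2 := FIXMOD.main Nat.prime_three t ht3 O' hO'inv
    rw [hO5] at hm1
    rw [hO'card] at hm2
    -- count the fixed points
    have hsub : S ∪ (O.filter (fun a => t a = a) ∪ O'.filter (fun a => t a = a)) ⊆ t.supportᶜ := by
      intro a ha
      rw [Finset.mem_compl, Equiv.Perm.mem_support, not_not]
      rcases Finset.mem_union.mp ha with ha | ha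
      · exact htL.2 a ha
      · rcases Finset.mem_union.mp ha with ha | ha
        · exact (Finset.mem_filter.mp ha).2
        · exact (Finset.mem_filter.mp ha).2
    have hd1 : Disjoint (O.filter (fun a => t a = a)) (O'.filter (fun a => t a = a)) := by
      rw [Finset.disjoint_left]
      intro a ha ha'
      have h1 := (Finset.mem_filter.mp ha).1
      have h2 := (Finset.mem_filter.mp ha').1
      rw [hO', Finset.mem_sdiff] at h2
      exact h2.2 h1
    have hd2 : Disjoint S (O.filter (fun a => t a = a) ∪ O'.filter (fun a => t a = a)) := by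
      rw [Finset.disjoint_left]
      intro a haS ha
      rcases Finset.mem_union.mp ha with ha | ha
      · have := hOS (Finset.mem_filter.mp ha).1
        rw [Finset.mem_compl] at this
        exact this haS
      · have := (Finset.mem_filter.mp ha).1
        rw [hO', Finset.mem_sdiff, Finset.mem_compl] at this
        exact this.1 haS
    have hcard := Finset.card_le_card hsub
    rw [Finset.card_union_of_disjoint hd2, Finset.card_union_of_disjoint hd1, hS, ht4] at hcard
    omega
  · -- orbit of size 10
    have hOeq : O = Sᶜ := Finset.eq_of_subset_of_card_le hOS (by rw [hSc, hO10])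
    have heO : e ∈ O := by rw [hOeq, Finset.mem_compl]; exact he
    exact (K60B.mem_orb L d e).mp heO

end

end Cfsg.Agent.S4150P
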