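import Mathlib
import Cfsg.Agent.Helper11.SelfCent
import Cfsg.Agent.Helper11.NoSimple
import Cfsg.Agent.Helper11.SylowCount
import Cfsg.Agent.Helper11.OrderP
import Cfsg.Agent.Helper11.SylowPrimeTools

set_option autoImplicit false

/-! S4274 board (driver helper27), piece SYLDATA. -/

namespace Cfsg.Agent.S4274P

/-- SYLDATA: Sylow data for a prime `r` dividing `|H|` exactly once, `H` nonabelian simple. -/
theorem sylow_data {H : Type*} [Group H] [Finite H] [IsSimpleGroup H] (hnc : ¬ IsMulCommutative H)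
    (r : ℕ) [Fact r.Prime] (a : ℕ) (hH : Nat.card H = a * r) (hra : ¬ r ∣ a) :
    ∃ n k m : ℕ, Nat.card (Sylow r H) = n ∧ n * (r * k * m) = Nat.card H ∧ n % r = 1 ∧ n ≠ 1 ∧
      2 * Nat.card H ∣ n.factorial ∧ m ∣ r - 1 ∧ m ≠ 1 ∧
      ∀ R : Sylow r H, Nat.card (R : Subgroup H) = r ∧
        Nat.card (Subgroup.centralizer ((R : Subgroup H) : Set H)) = r * k ∧
        Nat.card (Subgroup.normalizer ((R : Subgroup H) : Set H)) = r * k * m := by
  have hr : r.Prime := Fact.out
  have hrH : r ∣ Nat.card H := by rw [hH]; exact Dvd.intro_left a rfl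
  obtain ⟨R0⟩ : Nonempty (Sylow r H) := inferInstance
  have hcard : ∀ R : Sylow r H, Nat.card (R : Subgroup H) = r := fun R =>
    (Cfsg.Agent.Helper11.sylow_card_of_card_eq a hH hra R).1
  obtain ⟨hm1, hmd, hmC, hrC⟩ := Cfsg.Agent.Helper11.simple_automizer_data hnc r R0 (hcard R0)
  obtain ⟨k, hk⟩ := hrC
  have hN0 : Nat.card (Subgroup.normalizer ((R0 : Subgroup H) : Set H)) =
      r * k * (Subgroup.centralizer ((R0 : Subgroup H) : Set H)).relIndex
        (Subgroup.normalizer ((R0 : Subgroup H) : Set H)) := by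
    rw [← hmC, hk]; ring
  have hnpos : 0 < Nat.card (Sylow r H) := Nat.card_pos
  refine ⟨Nat.card (Sylow r H), k, _, rfl, ?_, ?_, ?_, ?_, hmd, hm1, ?_⟩
  · rw [← hN0]
    exact Cfsg.Agent.Helper11.card_sylow_mul_card_normalizer R0
  · have h := card_sylow_modEq_one r H
    unfold Nat.ModEq at h
    rw [h, Nat.mod_eq_of_lt hr.one_lt]
  · exact Cfsg.Agent.Helper11.simple_card_sylow_ne_one hnc r hrH
  · exact Cfsg.Agent.Helper11.simple_two_mul_card_dvd_factorial_card_sylow hnc r hrH
  · intro R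
    refine ⟨hcard R, ?_, ?_⟩
    · rw [Cfsg.Agent.Helper11.card_centralizer_sylow_eq R R0, hk]
    · have h1 := Cfsg.Agent.Helper11.card_sylow_mul_card_normalizer R
      have h2 := Cfsg.Agent.Helper11.card_sylow_mul_card_normalizer R0
      rw [← h2] at h1
      rw [← hN0]
      exact Nat.eq_of_mul_eq_mul_left hnpos h1

end Cfsg.Agent.S4274P
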