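import Mathlib
import Cfsg.Agent.Helper18.S4274SYLDATA
import Cfsg.Agent.Helper27.S4274BRFILTER

set_option autoImplicit false

/-! S4274 board (driver helper27), piece K58520. -/

namespace Cfsg.Agent.S4274P

namespace K58520

theorem filter_eq : (Nat.divisors 5320).filter (fun d => d % 11 = 1) = {1, 56, 133, 760} := by
  decide +kernel

/-- no power of two is `10` -/
theorem two_pow_ne_10 (m : ℕ) : 2 ^ m ≠ 10 := by
  intro h
  have hm : m < 4 := by
    by_contra hge
    have : 2 ^ 4 ≤ 2 ^ m := Nat.pow_le_pow_right (by norm_num) (by omega)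
    omega
  interval_cases m <;> omega

/-- the arithmetic of the third Brauer–Reynolds alternative at `r = 11`, `n = 5` or `12` -/
theorem no_hu {n h u : ℕ} (hn : n = 5 ∨ n = 12) (hh : 0 < h) (hu : 0 < u)
    (he : n * (u + 1) = h * u * 11 + u ^ 2 + u + h) : False := by
  have h1 : u ≤ h * u := Nat.le_mul_of_pos_left u hh
  rcases hn with rfl | rfl
  · have hu' : u ≤ 5 := by nlinarith
    interval_cases u <;> omega
  · have hu' : u ≤ 12 := by nlinarith
    interval_cases u <;> omega

end K58520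

/-- K58520 -/
theorem no_simple_58520 {H : Type*} [Group H] [Finite H] [IsSimpleGroup H]
    (hnc : ¬ IsMulCommutative H) (hH : Nat.card H = 58520)
    (hn : Nat.card (Sylow 19 H) = 1540) : False := by
  haveI : Fact (Nat.Prime 11) := ⟨by norm_num⟩
  have hH' : Nat.card H = 5320 * 11 := by rw [hH]
  obtain ⟨n, k, m, hn11, hnk, hmod, hn1, hfac, hm, hm1, hall⟩ :=
    sylow_data hnc 11 5320 hH' (by norm_num)
  have hna : n ∣ 5320 := by
    refine ⟨k * m, ?_⟩
    have h : 11 * 5320 = 11 * (n * (k * m)) := by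
      have : n * (11 * k * m) = 58520 := by rw [hnk, hH]
      nlinarith
    exact Nat.eq_of_mul_eq_mul_left (by norm_num) h
  have hmem : n ∈ (Nat.divisors 5320).filter (fun d => d % 11 = 1) := by
    rw [Finset.mem_filter, Nat.mem_divisors]
    exact ⟨⟨hna, by norm_num⟩, hmod⟩
  rw [K58520.filter_eq] at hmem
  obtain ⟨R⟩ : Nonempty (Sylow 11 H) := inferInstance
  have hR := (hall R).1
  have hcases : n = 1 ∨ n = 56 ∨ n = 133 ∨ n = 760 := by simpa using hmem
  have kill : ∀ n' : ℕ, (n' = 5 ∨ n' = 12) → Nat.card (Sylow 11 H) = 1 + n' * 11 → False := by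
    intro n' hn' hcard
    rcases br_filter hnc 11 R hR n' hcard with ⟨-, h⟩ | ⟨m', h, -, -⟩ | ⟨h, u, hh, hu, he⟩
    · omega
    · exact K58520.two_pow_ne_10 m' (by omega)
    · exact K58520.no_hu hn' hh hu he
  rcases hcases with h | h | h | h
  · exact hn1 h
  · exact kill 5 (Or.inl rfl) (by rw [hn11, h])
  · exact kill 12 (Or.inr rfl) (by rw [hn11, h])
  · -- `n = 760`: `|N| = 77`, so `k * m = 7` and `m ∣ 10`, `m ≠ 1`
    rw [h, hH] at hnk
    have hkm : k * m = 7 := by nlinarith
    have hm7 : m ∣ 7 := Dvd.intro_left k hkm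
    have hm10 : m ∣ 10 := hm
    have hm1' : m ∣ 1 := by
      have := Nat.dvd_gcd hm7 hm10
      simpa using this
    exact hm1 (Nat.dvd_one.mp hm1')

end Cfsg.Agent.S4274P
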