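import Mathlib
import Cfsg.Agent.Helper18.S4274SYLDATA
import Cfsg.Agent.Helper22.S4274COMMSYMM
import Cfsg.Agent.Helper22.S4274COUNTSUM
import Cfsg.Agent.Helper22.S4274COUNT2

set_option autoImplicit false

/-! S4274 board (driver helper27), piece K7980. -/

namespace Cfsg.Agent.S4274P

namespace K7980

theorem filter5 : (Nat.divisors 1596).filter (fun d => d % 5 = 1) = {1, 6, 21, 76, 266, 1596} := by
  decide +kernel

theorem filter7 : (Nat.divisors 1140).filter (fun d => d % 7 = 1) = {1, 15, 57, 190} := by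
  decide +kernel

/-- `19 ∣ n!` forces `19 ≤ n` -/
theorem le_of_dvd_factorial {n N : ℕ} (h : 2 * N ∣ n.factorial) (h19 : 19 ∣ N) : 19 ≤ n := by
  have h1 : 19 ∣ n.factorial := dvd_trans (dvd_trans h19 (Dvd.intro_left 2 rfl)) h
  exact (Nat.Prime.dvd_factorial (by norm_num)).mp h1

theorem km2 {k m : ℕ} (h : k * m = 2) (hm : m ∣ 18) (hm1 : m ≠ 1) : m = 2 ∧ k = 1 := by
  have hm2 : m ∣ 2 := Dvd.intro_left k h
  have : m ≤ 2 := Nat.le_of_dvd (by norm_num) hm2
  interval_cases m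
  · omega
  · omega
  · omega

theorem km6 {k m : ℕ} (h : k * m = 6) (hm : m ∣ 4) (hm1 : m ≠ 1) : m = 2 ∧ k = 3 := by
  have : m ≤ 4 := Nat.le_of_dvd (by norm_num) hm
  interval_cases m
  · omega
  · omega
  · omega
  · norm_num at hm
  · omega

theorem km20 {k m : ℕ} (h : k * m = 20) (hm : m ∣ 6) (hm1 : m ≠ 1) : m = 2 ∧ k = 10 := by
  have : m ≤ 6 := Nat.le_of_dvd (by norm_num) hm
  interval_cases m
  · omega
  · omega
  · omega
  · omega
  · norm_num at hm
  · norm_num at hm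
  · omega

theorem km76 {k m : ℕ} (h : k * m = 76) (hm : m ∣ 4) : 19 ∣ k := by
  have : m ≤ 4 := Nat.le_of_dvd (by norm_num) hm
  interval_cases m
  · omega
  · omega
  · omega
  · omega
  · omega

theorem km21 {k m : ℕ} (h : k * m = 21) (hm : m ∣ 4) : m = 1 := by
  have : m ≤ 4 := Nat.le_of_dvd (by norm_num) hm
  interval_cases m
  · omega
  · omega
  · omega
  · omega
  · omega

end K7980

open K7980 in
/-- K7980 -/
theorem no_simple_7980 {H : Type*} [Group H] [Finite H] [IsSimpleGroup H]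
    (hnc : ¬ IsMulCommutative H) (hH : Nat.card H = 7980)
    (hn : Nat.card (Sylow 19 H) = 210) : False := by
  haveI : Fact (Nat.Prime 19) := ⟨by norm_num⟩
  haveI : Fact (Nat.Prime 5) := ⟨by norm_num⟩
  haveI : Fact (Nat.Prime 7) := ⟨by norm_num⟩
  haveI : Fact (Nat.Prime 3) := ⟨by norm_num⟩
  have h19H : 19 ∣ Nat.card H := by rw [hH]; norm_num
  -- the prime 19
  obtain ⟨n19, k19, m19, hn19, hnk19, -, -, -, hm19, hm19', hall19⟩ :=
    sylow_data hnc 19 420 (by rw [hH]) (by norm_num)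
  rw [hn] at hn19
  subst hn19
  rw [hH] at hnk19
  have hkm19 : k19 * m19 = 2 := by nlinarith
  obtain ⟨rfl, rfl⟩ := km2 hkm19 hm19 hm19'
  obtain ⟨R19⟩ : Nonempty (Sylow 19 H) := inferInstance
  obtain ⟨hR19, hC19, -⟩ := hall19 R19
  rw [mul_one] at hC19
  -- the prime 5
  obtain ⟨n5, k5, m5, hn5, hnk5, hmod5, -, hfac5, hm5, hm5', hall5⟩ :=
    sylow_data hnc 5 1596 (by rw [hH]) (by norm_num)
  obtain ⟨R5⟩ : Nonempty (Sylow 5 H) := inferInstance
  obtain ⟨hR5, hC5, -⟩ := hall5 R5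
  have hn5ge : 19 ≤ n5 := le_of_dvd_factorial hfac5 h19H
  rw [hH] at hnk5
  have hn5d : n5 ∣ 1596 := by
    refine ⟨k5 * m5, ?_⟩
    nlinarith
  have hmem5 : n5 ∈ (Nat.divisors 1596).filter (fun d => d % 5 = 1) := by
    rw [Finset.mem_filter, Nat.mem_divisors]
    exact ⟨⟨hn5d, by norm_num⟩, hmod5⟩
  rw [filter5] at hmem5
  have hc5 : n5 = 1 ∨ n5 = 6 ∨ n5 = 21 ∨ n5 = 76 ∨ n5 = 266 ∨ n5 = 1596 := by simpa using hmem5
  have hn5eq : n5 = 266 := by
    rcases hc5 with h | h | h | h | h | h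
    · omega
    · omega
    · exfalso
      subst h
      have hkm : k5 * m5 = 76 := by nlinarith
      have h19k : 19 ∣ k5 := km76 hkm hm5
      have h1 : 19 ∣ Nat.card (Subgroup.centralizer ((R5 : Subgroup H) : Set H)) := by
        rw [hC5]; exact Dvd.dvd.mul_left h19k 5
      have h2 := dvd_centralizer_symm 5 19 R5 R19 hR5 hR19 h1
      rw [hC19] at h2
      norm_num at h2
    · exfalso
      subst h
      have hkm : k5 * m5 = 21 := by nlinarith
      exact hm5' (km21 hkm hm5)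
    · exact h
    · exfalso
      subst h
      have : k5 * m5 = 1 := by nlinarith
      exact hm5' (Nat.eq_one_of_mul_eq_one_left this)
  subst hn5eq
  have hkm5 : k5 * m5 = 6 := by nlinarith
  obtain ⟨rfl, rfl⟩ := km6 hkm5 hm5 hm5'
  -- the prime 7
  obtain ⟨n7, k7, m7, hn7, hnk7, hmod7, -, hfac7, hm7, hm7', hall7⟩ :=
    sylow_data hnc 7 1140 (by rw [hH]) (by norm_num)
  obtain ⟨R7⟩ : Nonempty (Sylow 7 H) := inferInstance
  obtain ⟨hR7, hC7, -⟩ := hall7 R7
  have hn7ge : 19 ≤ n7 := le_of_dvd_factorial hfac7 h19H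
  rw [hH] at hnk7
  have hn7d : n7 ∣ 1140 := by
    refine ⟨k7 * m7, ?_⟩
    nlinarith
  have hmem7 : n7 ∈ (Nat.divisors 1140).filter (fun d => d % 7 = 1) := by
    rw [Finset.mem_filter, Nat.mem_divisors]
    exact ⟨⟨hn7d, by norm_num⟩, hmod7⟩
  rw [filter7] at hmem7
  have hc7 : n7 = 1 ∨ n7 = 15 ∨ n7 = 57 ∨ n7 = 190 := by simpa using hmem7
  have hn7eq : n7 = 190 := by
    rcases hc7 with h | h | h | h
    · omega
    · omega
    · exfalso
      subst h
      have hkm : k7 * m7 = 20 := by nlinarith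
      obtain ⟨rfl, rfl⟩ := km20 hkm hm7 hm7'
      have h1 : 5 ∣ Nat.card (Subgroup.centralizer ((R7 : Subgroup H) : Set H)) := by
        rw [hC7]; norm_num
      have h2 := dvd_centralizer_symm 7 5 R7 R5 hR7 hR5 h1
      rw [hC5] at h2
      norm_num at h2
    · exact h
  subst hn7eq
  -- counting
  have c19 := Cfsg.Agent.Helper11.card_orderOf_eq_prime R19 hR19
  have c5 := Cfsg.Agent.Helper11.card_orderOf_eq_prime R5 hR5
  have c7 := Cfsg.Agent.Helper11.card_orderOf_eq_prime R7 hR7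
  have c15 := card_orderOf_mul_ge 5 3 (by norm_num) R5 hR5 (by rw [hC5]; norm_num)
  rw [hn] at c19
  rw [hn5] at c5 c15
  rw [hn7] at c7
  have hsum := sum_card_orderOf_le (H := H) {19, 5, 15, 7}
  rw [Finset.sum_insert (by decide), Finset.sum_insert (by decide), Finset.sum_insert (by decide),
    Finset.sum_singleton, hH] at hsum
  norm_num at c19 c5 c7 c15
  omega

end Cfsg.Agent.S4274P
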