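import Mathlib
import Cfsg.Agent.Helper18.S4274SYLDATA
import Cfsg.Agent.Helper27.S4274BRFILTER

set_option autoImplicit false

/-! S4274 board (driver helper27), piece N19. -/

namespace Cfsg.Agent.S4274P

namespace N19

theorem filter_eq : (Nat.divisors 9240).filter (fun d => d % 19 = 1) = {1, 20, 77, 210, 1540} := by
  decide +kernel

/-- no power of two is `18` -/
theorem two_pow_ne_18 (m : ℕ) : 2 ^ m ≠ 18 := by
  intro h
  have hm : m < 5 := by
    by_contra hge
    have : 2 ^ 5 ≤ 2 ^ m := Nat.pow_le_pow_right (by norm_num) (by omega)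
    omega
  interval_cases m <;> omega

end N19

/-- N19 -/
theorem card_sylow19 {H : Type*} [Group H] [Finite H] [IsSimpleGroup H]
    (hnc : ¬ IsMulCommutative H) (hd : Nat.card H ∣ 175560) (h19 : 19 ∣ Nat.card H) :
    Nat.card (Sylow 19 H) = 210 ∨ Nat.card (Sylow 19 H) = 1540 := by
  haveI : Fact (Nat.Prime 19) := ⟨by norm_num⟩
  obtain ⟨a, ha⟩ := h19
  have hH : Nat.card H = a * 19 := by rw [ha, mul_comm]
  have ha' : a ∣ 9240 := by
    have h : 19 * a ∣ 19 * 9240 := by rw [← ha]; exact hd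
    exact Nat.dvd_of_mul_dvd_mul_left (by norm_num) h
  have hra : ¬ 19 ∣ a := fun h => by
    have := dvd_trans h ha'
    norm_num at this
  obtain ⟨n, k, m, hn, hnk, hmod, hn1, hfac, hm, hm1, hall⟩ := sylow_data hnc 19 a hH hra
  have hna : n ∣ a := by
    refine ⟨k * m, ?_⟩
    have h : 19 * a = 19 * (n * (k * m)) := by rw [← ha, ← hnk]; ring
    exact Nat.eq_of_mul_eq_mul_left (by norm_num) h
  have hmem : n ∈ (Nat.divisors 9240).filter (fun d => d % 19 = 1) := by
    rw [Finset.mem_filter, Nat.mem_divisors]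
    exact ⟨⟨dvd_trans hna ha', by norm_num⟩, hmod⟩
  rw [N19.filter_eq] at hmem
  obtain ⟨R⟩ : Nonempty (Sylow 19 H) := inferInstance
  have hR := (hall R).1
  have hcases : n = 1 ∨ n = 20 ∨ n = 77 ∨ n = 210 ∨ n = 1540 := by simpa using hmem
  have kill : ∀ n' : ℕ, (n' = 1 ∨ n' = 4) → Nat.card (Sylow 19 H) = 1 + n' * 19 → False := by
    intro n' hn' hcard
    rcases br_filter hnc 19 R hR n' hcard with ⟨-, h⟩ | ⟨m', h, -, -⟩ | ⟨h, u, hh, hu, he⟩
    · -- `|H| = 3420` does not divide `175560`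
      have h3420 : Nat.card H = 3420 := by omega
      rw [h3420] at hd
      norm_num at hd
    · exact N19.two_pow_ne_18 m' (by omega)
    · rcases hn' with rfl | rfl
      · nlinarith [Nat.mul_le_mul hh hu]
      · nlinarith [Nat.mul_le_mul hh hu]
  rcases hcases with h | h | h | h | h
  · exact absurd h hn1
  · exact (kill 1 (Or.inl rfl) (by rw [hn, h])).elim
  · exact (kill 4 (Or.inr rfl) (by rw [hn, h])).elim
  · left; rw [hn, h]
  · right; rw [hn, h]

end Cfsg.Agent.S4274P
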