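import Mathlib
import Cfsg.Prelude.Def_Transfer
import Cfsg.Agent.Helper4.S4404Defs
import Cfsg.Agent.S0071

/-! Board `s4404pieces`, row FROBJ (helper18): Frobenius' normal `p`-complement theorem (`S0071`) inside the `{3,p}`-group `↥J` for the
prime `3`: the normal `3`-complement is a normal Sylow `p`-subgroup. -/

set_option autoImplicit false
set_option linter.unusedVariables false

namespace Cfsg.Agent.S4404P

open Subgroup
open scoped commutatorElement

variable {S : Type*} [Group S] [Finite S]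

theorem FROBJ_aux_fact (p a b : ℕ) [Fact p.Prime] (hp3 : p ≠ 3) : (3 ^ a * p ^ b).factorization 3 = a := by
  have hp := (Fact.out : p.Prime)
  have h3 : Nat.Prime 3 := Nat.prime_three
  rw [Nat.factorization_mul (pow_ne_zero _ h3.ne_zero) (pow_ne_zero _ hp.ne_zero), Nat.factorization_pow,
    Nat.factorization_pow]
  simp only [Finsupp.coe_add, Finsupp.coe_smul, Pi.add_apply, Pi.smul_apply, smul_eq_mul]
  rw [h3.factorization_self, Nat.factorization_eq_zero_of_not_dvd]
  · ring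
  · intro hdvd
    exact hp3 ((Nat.prime_dvd_prime_iff_eq h3 hp).mp hdvd).symm

/-- FROBJ (`S0071` in `↥J`, prime `3`): if `p`-elements centralise the `3`-subgroups they normalise, the `{3,p}`-group `J` has a
normal Sylow `p`-subgroup. -/
theorem exists_normal_sylow (J : Subgroup S) (p a b : ℕ) [Fact p.Prime] (hp3 : p ≠ 3)
    (hJ : Nat.card ↥J = 3 ^ a * p ^ b)
    (hstar : ∀ T : Subgroup S, T ≤ J → IsPGroup 3 ↥T → ∀ g ∈ J, g ∈ normalizer (T : Set S) →
      (∃ k : ℕ, g ^ p ^ k = 1) → g ∈ centralizer (T : Set S)) :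
    ∃ P : Subgroup S, P ≤ J ∧ Nat.card ↥P = p ^ b ∧ J ≤ normalizer (P : Set S) := by
  have hp := (Fact.out : p.Prime)
  have : Fact (Nat.Prime 3) := ⟨Nat.prime_three⟩
  obtain ⟨P₃⟩ : Nonempty (Sylow 3 ↥J) := inferInstance
  have hP₃card : Nat.card ↥(P₃ : Subgroup ↥J) = 3 ^ a := by
    rw [Sylow.card_eq_multiplicity, hJ, FROBJ_aux_fact p a b hp3]
  -- the hypothesis of Frobenius' theorem
  have hfrob : ∀ Q : Subgroup ↥J, Q ≤ (P₃ : Subgroup ↥J) → ∀ g ∈ Subgroup.normalizer (Q : Set ↥J),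
      Nat.Coprime (orderOf g) 3 → g ∈ Subgroup.centralizer (Q : Set ↥J) := by
    intro Q hQ g hg hcop
    have hT3 : IsPGroup 3 ↥(Q.map J.subtype) := (P₃.isPGroup'.to_le hQ).map J.subtype
    have hTJ : Q.map J.subtype ≤ J := by
      rintro _ ⟨q, -, rfl⟩
      exact q.2
    have hgN : (g : S) ∈ normalizer ((Q.map J.subtype : Subgroup S) : Set S) :=
      Subgroup.le_normalizer_map J.subtype ⟨g, hg, rfl⟩
    have hgp : ∃ k : ℕ, (g : S) ^ p ^ k = 1 := by
      refine ⟨b, ?_⟩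
      have h1 : orderOf g ∣ 3 ^ a * p ^ b := by rw [← hJ]; exact orderOf_dvd_natCard g
      have h2 : orderOf g ∣ p ^ b := (Nat.Coprime.pow_right a hcop).dvd_of_dvd_mul_left h1
      have h3 : g ^ p ^ b = 1 := orderOf_dvd_iff_pow_eq_one.mp h2
      rw [← Subgroup.coe_pow, h3, Subgroup.coe_one]
    have hc := hstar _ hTJ hT3 (g : S) g.2 hgN hgp
    rw [Subgroup.mem_centralizer_iff] at hc ⊢
    intro q hq
    apply Subtype.ext
    rw [Subgroup.coe_mul, Subgroup.coe_mul]
    exact hc (q : S) ⟨q, hq, rfl⟩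
  obtain ⟨N, hN, hcompl⟩ := (Cfsg.Agent.S0071.result P₃).mpr hfrob
  have hcard : Nat.card ↥N * Nat.card ↥(P₃ : Subgroup ↥J) = Nat.card ↥J := hcompl.card_mul_card
  rw [hP₃card, hJ, mul_comm] at hcard
  have hNcard : Nat.card ↥N = p ^ b := Nat.eq_of_mul_eq_mul_left (pow_pos (by norm_num) a) hcard
  refine ⟨N.map J.subtype, ?_, ?_, ?_⟩
  · rintro _ ⟨q, -, rfl⟩
    exact q.2
  · rw [Nat.card_congr (N.equivMapOfInjective J.subtype J.subtype_injective).symm.toEquiv, hNcard]
  · intro g hg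
    have h1 : (⟨g, hg⟩ : ↥J) ∈ Subgroup.normalizer (N : Set ↥J) := by
      rw [Subgroup.normalizer_eq_top_iff.mpr hN]; exact Subgroup.mem_top _
    exact Subgroup.le_normalizer_map J.subtype ⟨⟨g, hg⟩, h1, rfl⟩

end Cfsg.Agent.S4404P
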