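import Mathlib
import Cfsg.Agent.Helper3.S4411Defs
import Cfsg.Agent.Helper9.S4411AQ
import Cfsg.Agent.Helper1.S4411SYLN

set_option autoImplicit false

/-! Board `s4411pieces`, piece ORDCENT (blueprint `departures/helper3_S4411_blueprint.md`, step (i)
of the ordering argument). -/

namespace Cfsg.Agent.S4411P

open Cfsg
open scoped Pointwise

/-- whoever normalises `A` and `B` normalises `A ⊔ B` -/
theorem ORDCENT_aux_normalizer_sup {G : Type*} [Group G] (A B : Subgroup G) {g : G}
    (hA : g ∈ Subgroup.normalizer (A : Set G)) (hB : g ∈ Subgroup.normalizer (B : Set G)) :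
    g ∈ Subgroup.normalizer ((A ⊔ B : Subgroup G) : Set G) := by
  rw [Subgroup.mem_normalizer_iff_map_conj_eq] at hA hB ⊢
  rw [Subgroup.map_sup, hA, hB]

/-- whoever normalises `A` and `B` normalises `A ⊓ B` -/
theorem ORDCENT_aux_normalizer_inf {G : Type*} [Group G] (A B : Subgroup G) {g : G}
    (hA : g ∈ Subgroup.normalizer (A : Set G)) (hB : g ∈ Subgroup.normalizer (B : Set G)) :
    g ∈ Subgroup.normalizer ((A ⊓ B : Subgroup G) : Set G) := by
  rw [Subgroup.mem_normalizer_iff_map_conj_eq] at hA hB ⊢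
  rw [Subgroup.map_inf _ _ _ (MulAut.conj g).injective, hA, hB]

/-- the main step, with `N = N_G(H)` and `C = C_G(H)` abstracted -/
theorem ORDCENT_aux_main {G : Type*} [Group G] [Finite G] (p q : ℕ) [Fact p.Prime] [Fact q.Prime]
    (H N C : Subgroup G) (hN : N = Subgroup.normalizer (H : Set G))
    (hC : C = Subgroup.centralizer (H : Set G)) (hH : IsPGroup p H) (hA : Acts q H)
    (R : Sylow p ↥N) :
    IsPGroup p ↥(H ⊔ ((R : Subgroup ↥N).map N.subtype ⊓ C) : Subgroup G) ∧
      Acts q (H ⊔ ((R : Subgroup ↥N).map N.subtype ⊓ C)) ∧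
      (R : Subgroup ↥N).map N.subtype ≤
        Subgroup.normalizer ((H ⊔ ((R : Subgroup ↥N).map N.subtype ⊓ C) : Subgroup G) : Set G) := by
  classical
  obtain ⟨x, hxN, hxC, k, hxk⟩ := hA
  rw [← hN] at hxN
  rw [← hC] at hxC
  have hHN : H ≤ N := hN ▸ Subgroup.le_normalizer
  have hCN : C ≤ N := by rw [hN, hC]; exact Subgroup.centralizer_le_normalizer _
  have hCn : (C.subgroupOf N).Normal := by rw [hN, hC]; infer_instance
  have hHn : (H.subgroupOf N).Normal := by rw [hN]; infer_instance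
  set Rt := (R : Subgroup ↥N).map N.subtype with hRt
  set D := Rt ⊓ C with hD
  have hRtN : Rt ≤ N := Subgroup.map_subtype_le _
  -- `H ≤ R̃`
  have hHp : IsPGroup p ↥(H.subgroupOf N) := hH.comap_subtype
  have hHR : H.subgroupOf N ≤ (R : Subgroup ↥N) := IsPGroup.le_sylow_of_normal hHp R
  have hHRt : H ≤ Rt := by
    intro h hh
    exact ⟨⟨h, hHN hh⟩, hHR (by rw [Subgroup.mem_subgroupOf]; exact hh), rfl⟩
  have hRtp : IsPGroup p Rt := R.isPGroup'.map _
  have hH1le : H ⊔ D ≤ Rt := sup_le hHRt inf_le_left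
  -- `N` normalises `C` and `H`
  have hNC : N ≤ Subgroup.normalizer (C : Set G) :=
    (Subgroup.normal_subgroupOf_iff_le_normalizer hCN).1 hCn
  have hNH : N ≤ Subgroup.normalizer (H : Set G) := hN.le
  -- whoever (in `N`) normalises `D` normalises `H₁`
  have hnorm : ∀ g ∈ N, g ∈ Subgroup.normalizer (D : Set G) →
      g ∈ Subgroup.normalizer ((H ⊔ D : Subgroup G) : Set G) :=
    fun g hg hgD => ORDCENT_aux_normalizer_sup H D (hNH hg) hgD
  refine ⟨hRtp.to_le hH1le, ?_, ?_⟩
  · -- the acting element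
    obtain ⟨P, hP⟩ := SYLN p R (C.subgroupOf N)
    have hfr := Sylow.normalizer_sup_eq_top P
    rw [hP] at hfr
    have hx' : (⟨x, hxN⟩ : ↥N) ∈
        Subgroup.normalizer (((R : Subgroup ↥N) ⊓ C.subgroupOf N : Subgroup ↥N) : Set ↥N) ⊔
          C.subgroupOf N := by
      rw [hfr]; exact Subgroup.mem_top _
    have hx'' : (⟨x, hxN⟩ : ↥N) ∈
        ((Subgroup.normalizer (((R : Subgroup ↥N) ⊓ C.subgroupOf N : Subgroup ↥N) : Set ↥N) :
          Set ↥N) * ((C.subgroupOf N : Subgroup ↥N) : Set ↥N)) := by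
      rw [← Subgroup.mul_normal]
      exact hx'
    obtain ⟨n, hn, c, hc, hnc⟩ := Set.mem_mul.1 hx''
    rw [SetLike.mem_coe] at hn hc
    -- `D` is the image of `R ⊓ C'`
    have hDmap : ((R : Subgroup ↥N) ⊓ C.subgroupOf N).map N.subtype = D := by
      rw [Subgroup.map_inf _ _ _ N.subtype_injective, Subgroup.subgroupOf_map_subtype, hD, ← hRt]
      apply le_antisymm
      · exact inf_le_inf_left _ inf_le_left
      · exact le_inf inf_le_left (le_inf inf_le_right (inf_le_left.trans hRtN))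
    have hnD : (n : G) ∈ Subgroup.normalizer (D : Set G) := by
      rw [← hDmap]
      exact Subgroup.le_normalizer_map N.subtype ⟨n, hn, rfl⟩
    have hnH1 : (n : G) ∈ Subgroup.normalizer ((H ⊔ D : Subgroup G) : Set G) := hnorm _ n.2 hnD
    -- `n ∉ C`
    have hcC : (c : G) ∈ C := by
      rw [Subgroup.mem_subgroupOf] at hc; exact hc
    have hxnc : x = (n : G) * (c : G) := by
      have := congrArg Subtype.val hnc
      exact this.symm
    -- the `q`-part of `n`
    obtain ⟨m, hmq, j, hj⟩ := AQ_qpart q (n : G)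
    refine ⟨(n : G) ^ m, Subgroup.pow_mem _ hnH1 m, ?_, j, hj⟩
    intro hcent
    have hnmC : (n : G) ^ m ∈ C := by
      rw [hC]
      exact Subgroup.centralizer_le (by exact_mod_cast (le_sup_left : H ≤ H ⊔ D)) hcent
    -- work in `N / C'`
    let π := QuotientGroup.mk' (C.subgroupOf N)
    have hπnx : π n = π ⟨x, hxN⟩ := by
      rw [← hnc, map_mul]
      have : π c = 1 := (QuotientGroup.eq_one_iff c).2 hc
      rw [this, mul_one]
    have h1 : π n ^ q ^ k = 1 := by
      rw [hπnx, ← map_pow]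
      have : (⟨x, hxN⟩ : ↥N) ^ q ^ k = 1 := Subtype.ext (by simpa using hxk)
      rw [this, map_one]
    have h2 : π n ^ m = 1 := by
      rw [← map_pow]
      apply (QuotientGroup.eq_one_iff _).2
      rw [Subgroup.mem_subgroupOf]
      simpa using hnmC
    have hcop : Nat.Coprime m (q ^ k) := Nat.Coprime.pow_right k hmq
    have h3 : orderOf (π n) ∣ 1 := by
      rw [← Nat.Coprime.gcd_eq_one hcop]
      exact Nat.dvd_gcd (orderOf_dvd_of_pow_eq_one h2) (orderOf_dvd_of_pow_eq_one h1)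
    have h4 : π n = 1 := orderOf_eq_one_iff.1 (Nat.dvd_one.1 h3)
    have hnC : (n : G) ∈ C := by
      have := (QuotientGroup.eq_one_iff n).1 h4
      rwa [Subgroup.mem_subgroupOf] at this
    exact hxC (hxnc ▸ C.mul_mem hnC hcC)
  · -- `R̃` normalises `H₁`
    intro r hr
    have hrN : r ∈ N := hRtN hr
    apply hnorm r hrN
    exact ORDCENT_aux_normalizer_inf Rt C (Subgroup.le_normalizer hr) (hNC hrN)

/-- `C_R(H) ≤ H` for a maximal member: if `R ∈ Syl_p(N_G(H))` then `H (R ∩ C_G(H))` is again a member normalised by `R`. -/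
theorem ORD_cent {G : Type*} [Group G] [Finite G] (p q : ℕ) [Fact p.Prime] [Fact q.Prime] (hpq : p ≠ q)
    (H : Subgroup G) (hH : IsPGroup p H) (hA : Acts q H) (R : Sylow p ↥(Subgroup.normalizer (H : Set G))) :
    ∃ H₁ : Subgroup G, IsPGroup p H₁ ∧ Acts q H₁ ∧ H ≤ H₁ ∧
      H₁ = H ⊔ ((R : Subgroup _).map (Subgroup.normalizer (H : Set G)).subtype ⊓ Subgroup.centralizer (H : Set G)) ∧
      (R : Subgroup _).map (Subgroup.normalizer (H : Set G)).subtype ≤ Subgroup.normalizer (H₁ : Set G) := by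
  obtain ⟨h1, h2, h3⟩ := ORDCENT_aux_main p q H _ _ rfl rfl hH hA R
  exact ⟨_, h1, h2, le_sup_left, rfl, h3⟩

end Cfsg.Agent.S4411P
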