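import Mathlib
import Cfsg.Prelude.Def_Characters
import Cfsg.Prelude.Def_Blocks
import Cfsg.Agent.Helper24.Abelian
import Cfsg.Agent.Helper24.Linear
import Cfsg.Agent.Helper24.Burnside
import Cfsg.Agent.Helper23.ClassProduct
import Cfsg.Agent.S0138

set_option autoImplicit false

/-! S4501 piece SIMP: character-theoretic facts about a non-abelian simple group. -/

namespace Cfsg.Agent.S4501P

open Cfsg Cfsg.Agent.Helper24
open scoped ComplexConjugate

universe u

variable {G : Type u} [Group G] [Finite G]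

theorem simple_facts [IsSimpleGroup G] (hna : ∃ x y : G, x * y ≠ y * x) :
    (∀ χ : IrrCharacter G, irrDeg χ = 1 → χ = trivIrr G) ∧
    (∀ χ : IrrCharacter G, χ ≠ trivIrr G → ∀ g : G, (χ : G → ℂ) g = (χ : G → ℂ) 1 → g = 1) ∧
    (∀ χ : IrrCharacter G, χ ≠ trivIrr G → ∀ g : G,
      ‖(χ : G → ℂ) g‖ = (irrDeg χ : ℝ) → g = 1) ∧
    ¬ Group.IsSolvable G := by
  have hnc : ¬ ∀ a b : G, a * b = b * a := by
    obtain ⟨x, y, hxy⟩ := hna
    exact fun h => hxy (h x y)
  -- the centre statement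
  have h3 : ∀ χ : IrrCharacter G, χ ≠ trivIrr G → ∀ g : G,
      ‖(χ : G → ℂ) g‖ = (irrDeg χ : ℝ) → g = 1 := by
    intro χ hχ g hg
    by_contra hg1
    obtain ⟨n, ρ, hirr, hρ⟩ := χ.2
    have hdeg : (Module.finrank ℂ (Fin n → ℂ) : ℂ) = (irrDeg χ : ℂ) := by
      rw [← irrDeg_spec χ, ← hρ, Representation.char_one]
    have hdeg' : Module.finrank ℂ (Fin n → ℂ) = irrDeg χ := by exact_mod_cast hdeg
    have hnorm : ‖ρ.character g‖ = (Module.finrank ℂ (Fin n → ℂ) : ℝ) := by
      rw [hρ, hdeg']; exact hg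
    obtain ⟨ω, hω⟩ := (Cfsg.Agent.S0138.result ρ g).mp hnorm
    have hone := Cfsg.Agent.Helper24.char_eq_one_of_scalar hnc ρ g hg1 ω hω
    apply hχ
    apply Subtype.ext
    rw [← hρ, hone]
    rfl
  refine ⟨?_, ?_, h3, ?_⟩
  · -- linear characters are trivial
    intro χ hdeg
    have h1 : (χ : G → ℂ) 1 = 1 := (irrDeg_eq_one_iff χ).mp hdeg
    obtain ⟨φ, hφ⟩ := Cfsg.Agent.Helper23.exists_monoidHom_of_irr_one_eq_one χ h1
    rcases (φ.normal_ker).eq_bot_or_eq_top with hbot | htop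
    · exfalso
      apply hnc
      intro a b
      have hinj : Function.Injective φ := (MonoidHom.ker_eq_bot_iff φ).mp hbot
      apply hinj
      rw [map_mul, map_mul, mul_comm]
    · apply Subtype.ext
      funext g
      rw [hφ g]
      have : g ∈ φ.ker := by rw [htop]; trivial
      rw [MonoidHom.mem_ker] at this
      rw [this]
      rfl
  · intro χ hχ g hg
    apply h3 χ hχ g
    rw [hg, irrDeg_spec χ]
    simp
  · intro hsol
    exact hnc (IsSimpleGroup.comm_iff_isSolvable.mpr hsol)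

end Cfsg.Agent.S4501P
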