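import Mathlib
import Cfsg.Prelude.Def_FusionSystem
import Cfsg.Agent.Helper18.S5113Defs
import Cfsg.Agent.Helper25.FusionSat
import Cfsg.Agent.S5104

set_option autoImplicit false

/-! Piece DAGGER of S5113 (board `s5113pieces`): an element of `Cen a` centralizing `iota Q`, for a
receptive `Q` with `C_S(Q) ≤ T`, has transfer in the image of `T`. -/

namespace Cfsg.Agent.S5113P

open Cfsg Cfsg.FusionSystem Cfsg.Agent.Helper25 Cfsg.Agent.Helper25.Park Cfsg.Agent.Helper26.CB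

universe u

variable {Ω : Type u} [Group Ω] {S : Subgroup Ω} {X : Type u}

section general

open scoped BigOperators

/-- Product lemma: a `p`-group permuting the index set, invariant weights of exponent `p`, trivial
on fixed points. -/
theorem DAGGER.aux_prod {P α B : Type*} [Group P] (p : ℕ) [Fact p.Prime] (hP : IsPGroup p P)
    [MulAction P α] [Fintype α] [CommGroup B] (hB : ∀ b : B, b ^ p = 1) (f : α → B)
    (hinv : ∀ (g : P) (x : α), f (g • x) = f x)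
    (hfix : ∀ x : α, (∀ g : P, g • x = x) → f x = 1) : ∏ x, f x = 1 := by
  classical
  let e := MulAction.selfEquivSigmaOrbits P α
  have : Fintype (MulAction.orbitRel.Quotient P α) := Fintype.ofFinite _
  have : ∀ ω : MulAction.orbitRel.Quotient P α, Fintype (MulAction.orbit P ω.out) :=
    fun ω => Fintype.ofFinite _
  rw [← e.symm.prod_comp, Fintype.prod_sigma]
  apply Finset.prod_eq_one
  intro ω _
  have h1 : ∀ y : MulAction.orbit P ω.out, f (e.symm ⟨ω, y⟩) = f ω.out := by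
    rintro ⟨y, g, rfl⟩
    have : e.symm ⟨ω, ⟨g • ω.out, ⟨g, rfl⟩⟩⟩ = g • ω.out := rfl
    rw [this, hinv]
  rw [Finset.prod_congr rfl (fun y _ => h1 y), Finset.prod_const, Finset.card_univ]
  obtain ⟨n, hn⟩ := hP.card_orbit (ω.out : α)
  rw [Nat.card_eq_fintype_card] at hn
  rw [hn]
  rcases Nat.eq_zero_or_pos n with h0 | hpos
  · subst h0
    rw [pow_zero, pow_one]
    apply hfix
    intro g
    have hc : Fintype.card (MulAction.orbit P (ω.out : α)) = 1 := by rw [hn, pow_zero]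
    have hsub := Fintype.card_le_one_iff_subsingleton.mp hc.le
    have := @Subsingleton.elim _ hsub (⟨g • ω.out, ⟨g, rfl⟩⟩ : MulAction.orbit P (ω.out : α))
      ⟨ω.out, MulAction.mem_orbit_self _⟩
    exact congrArg Subtype.val this
  · obtain ⟨k, rfl⟩ : ∃ k, n = k + 1 := ⟨n - 1, by omega⟩
    rw [pow_succ, mul_comm, pow_mul, hB, one_pow]

section
variable {G : Type*} [Group G] (H : Subgroup G) (c : G)

theorem DAGGER.aux_rel (g : Subgroup.centralizer ({c} : Set G)) :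
    ∀ x x' : G ⧸ H, (MulAction.orbitRel (Subgroup.zpowers c) (G ⧸ H)).r x x' →
      (MulAction.orbitRel (Subgroup.zpowers c) (G ⧸ H)).r ((g : G) • x) ((g : G) • x') := by
  rintro x x' ⟨⟨z, hz⟩, rfl⟩
  refine ⟨⟨z, hz⟩, ?_⟩
  show z • ((g : G) • x') = (g : G) • (z • x')
  have hcomm : (g : G) * z = z * (g : G) := by
    obtain ⟨k, rfl⟩ := hz
    have h1 : (g : G) * c = c * (g : G) := (Subgroup.mem_centralizer_iff.mp g.2 c rfl).symm
    exact ((Commute.zpow_right h1 k : Commute (g : G) (c ^ k))).eq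
  rw [← mul_smul, ← mul_smul, hcomm]

/-- The centralizer of `c` acts on the set of `⟨c⟩`-orbits on the cosets of `H`. -/
@[instance_reducible]
def DAGGER.aux_actO : MulAction (Subgroup.centralizer ({c} : Set G))
    (Quotient (MulAction.orbitRel (Subgroup.zpowers c) (G ⧸ H))) where
  smul g := Quotient.map' (fun y => (g : G) • y) (DAGGER.aux_rel H c g)
  one_smul := by
    intro q
    induction q using Quotient.inductionOn' with
    | h y =>
      show Quotient.mk'' (((1 : Subgroup.centralizer ({c} : Set G)) : G) • y) = Quotient.mk'' y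
      rw [Subgroup.coe_one, one_smul]
  mul_smul := by
    intro g g' q
    induction q using Quotient.inductionOn' with
    | h y =>
      show Quotient.mk'' (((g * g' : Subgroup.centralizer ({c} : Set G)) : G) • y) =
        Quotient.mk'' ((g : G) • ((g' : G) • y))
      rw [Subgroup.coe_mul, mul_smul]

theorem DAGGER.aux_actO_mk (g : Subgroup.centralizer ({c} : Set G)) (y : G ⧸ H) :
    letI := DAGGER.aux_actO H c
    g • (Quotient.mk'' y : Quotient (MulAction.orbitRel (Subgroup.zpowers c) (G ⧸ H))) =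
      Quotient.mk'' ((g : G) • y) := rfl
end

end general

section point

variable (a : ↥(S.prod S) →* Equiv.Perm X) (x₀ : X) (F : FusionSystem S)
  (hTD : ∀ x, TD F (stab a x))

/-- If `t⁻¹ g t ∈ H0` then `g` moves the point `t x₀` by the right action of `sOf`. -/
theorem DAGGER.aux_point (t g : ↥(Cen a)) (hmem : t⁻¹ * g * t ∈ H0 a x₀) :
    (g : Equiv.Perm X) ((t : Equiv.Perm X) x₀) =
      rAct a (sOf a x₀ ⟨_, hmem⟩) ((t : Equiv.Perm X) x₀) := by
  have h1 := sOf_spec a x₀ ⟨_, hmem⟩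
  have h2 : ((t⁻¹ * g * t : ↥(Cen a)) : Equiv.Perm X) x₀ =
      rAct a (sOf a x₀ ⟨_, hmem⟩) x₀ := h1
  rw [Subgroup.coe_mul, Subgroup.coe_mul, Subgroup.coe_inv, Equiv.Perm.mul_apply,
    Equiv.Perm.mul_apply, Equiv.Perm.inv_eq_iff_eq, ← Cen_comm] at h2
  exact h2

/-- For `z ∈ S` with `t⁻¹ ι(z) t ∈ H0`: the pair `(z, s⁻¹)` stabilizes `t x₀`. -/
theorem DAGGER.aux_stab (t : ↥(Cen a)) (z : ↥S) (hmem : t⁻¹ * iota a z * t ∈ H0 a x₀) :
    mkH S (z, (sOf a x₀ ⟨_, hmem⟩)⁻¹) ∈ stab a ((t : Equiv.Perm X) x₀) := by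
  have h2 := DAGGER.aux_point a x₀ t (iota a z) hmem
  rw [coe_iota] at h2
  rw [mem_stab, ← rAct_mul_lAct, Equiv.Perm.mul_apply, h2, ← Equiv.Perm.mul_apply, ← map_mul,
    inv_mul_cancel, map_one]
  rfl

include hTD in
/-- `phi (t⁻¹ ι(z) t)` is the class of `z` modulo the image of the focal subgroup. -/
theorem DAGGER.aux_phi_iota {T : Subgroup Ω} (hfoc : F.focalSubgroup ≤ T)
    (t : ↥(Cen a)) (z : ↥S) (hmem : t⁻¹ * iota a z * t ∈ H0 a x₀) :
    phi a x₀ F hTD ⟨_, hmem⟩ * (Abelianization.of z)⁻¹ ∈ TA S T := by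
  rw [phi_apply]
  set s : ↥S := sOf a x₀ ⟨_, hmem⟩ with hs
  have h3 := DAGGER.aux_stab a x₀ t z hmem
  rw [← hs] at h3
  obtain ⟨R, ψ, hψ, hall⟩ := hTD ((t : Equiv.Perm X) x₀)
  obtain ⟨hq, he⟩ := hall _ h3
  -- `ψ z = s⁻¹`
  have hfz : ((z : Ω))⁻¹ * ψ ⟨(z : Ω), hq⟩ ∈ F.focalSubgroup :=
    Subgroup.subset_closure ⟨R, ψ, ⟨(z : Ω), hq⟩, hψ, rfl⟩
  have he' : ψ ⟨(z : Ω), hq⟩ = ((s⁻¹ : ↥S) : Ω) := he
  rw [he'] at hfz
  have h4 : ((z⁻¹ * s⁻¹ : ↥S) : Ω) ∈ T := hfoc hfz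
  have h5 := of_mem_TA (S := S) h4
  rw [map_mul, map_inv, map_inv] at h5
  rw [mul_comm]
  exact h5

include hTD in
/-- Case 1: every `ι(y)`, `y ∈ Q`, fixes the coset of `t`. -/
theorem DAGGER.aux_case1 {T : Subgroup Ω} (hfoc : F.focalSubgroup ≤ T)
    {Q : Subgroup Ω} (hQ : F.IsReceptive Q) (hCQ : centralizerIn S Q ≤ T)
    (t gc : ↥(Cen a)) (hgc : ∀ y : ↥S, (y : Ω) ∈ Q → gc * iota a y = iota a y * gc)
    (hmem : t⁻¹ * gc * t ∈ H0 a x₀)
    (hfix : ∀ y : ↥S, (y : Ω) ∈ Q → t⁻¹ * iota a y * t ∈ H0 a x₀) :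
    phi a x₀ F hTD ⟨_, hmem⟩ ∈ TA S T := by
  rw [phi_apply]
  set s : ↥S := sOf a x₀ ⟨_, hmem⟩ with hs
  suffices hsT : (s : Ω) ∈ T by
    exact (TA S T).inv_mem (of_mem_TA hsT)
  set x : X := (t : Equiv.Perm X) x₀ with hx
  have hgx : (gc : Equiv.Perm X) x = rAct a s x := DAGGER.aux_point a x₀ t gc hmem
  obtain ⟨R, ψ, hψ, hall⟩ := hTD x
  have hRS : R ≤ S := (F.le_of_mem hψ).1
  -- the elements `s_y`
  have hy : ∀ (y : ↥S) (hyQ : (y : Ω) ∈ Q), ∃ hq : (y : Ω) ∈ R,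
      ψ ⟨(y : Ω), hq⟩ = (((sOf a x₀ ⟨_, hfix y hyQ⟩)⁻¹ : ↥S) : Ω) := by
    intro y hyQ
    exact hall _ (DAGGER.aux_stab a x₀ t y (hfix y hyQ))
  have hQS : Q ≤ S := hQ.1
  have hQR : Q ≤ R := fun q hq => (hy ⟨q, hQS hq⟩ hq).1
  -- `s` commutes with `ψ y`
  have hcomm : ∀ (q : Q), (s : Ω) * ψ (Subgroup.inclusion hQR q) = ψ (Subgroup.inclusion hQR q) * (s : Ω) := by
    intro q
    set y : ↥S := ⟨(q : Ω), hQS q.2⟩ with hyd
    obtain ⟨hq, he⟩ := hy y q.2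
    set sy : ↥S := sOf a x₀ ⟨_, hfix y q.2⟩ with hsy
    have hyx : (iota a y : Equiv.Perm X) x = rAct a sy x := DAGGER.aux_point a x₀ t (iota a y) (hfix y q.2)
    have h1 : (gc : Equiv.Perm X) ((iota a y : Equiv.Perm X) x) = rAct a (sy * s) x := by
      rw [hyx, ← Cen_comm, hgx, map_mul, Equiv.Perm.mul_apply]
    have h2 : (iota a y : Equiv.Perm X) ((gc : Equiv.Perm X) x) = rAct a (s * sy) x := by
      rw [hgx, ← Cen_comm, hyx, map_mul, Equiv.Perm.mul_apply]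
    have h3 : (gc : Equiv.Perm X) ((iota a y : Equiv.Perm X) x) =
        (iota a y : Equiv.Perm X) ((gc : Equiv.Perm X) x) := by
      have := congrArg (fun e : ↥(Cen a) => (e : Equiv.Perm X) x) (hgc y q.2)
      simpa [Subgroup.coe_mul, Equiv.Perm.mul_apply] using this
    rw [h1, h2] at h3
    have h4 : sy * s = s * sy := rAct_injective a F hTD x h3
    have h5 : Subgroup.inclusion hQR q = ⟨(y : Ω), hq⟩ := Subtype.ext rfl
    rw [h5, he]
    have h6 : s * sy⁻¹ = sy⁻¹ * s := by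
      rw [eq_inv_mul_iff_mul_eq, ← mul_assoc, h4, mul_inv_cancel_right]
    exact congrArg (fun z : ↥S => (z : Ω)) h6
  -- the restriction of `ψ` to `Q` and its inverse
  set ψQ : Q →* Ω := ψ.comp (Subgroup.inclusion hQR) with hψQ
  have hψQF : ψQ ∈ F.Hom Q := restrict_mem F hQR hψ
  obtain ⟨φ', hφ', hinv⟩ := F.inv_mem hψQF
  have hP'S : ψQ.range ≤ S := (F.le_of_mem hφ').1
  have hφ'S : ∀ x, φ' x ∈ S := (F.le_of_mem hφ').2
  have hrange : φ'.range = Q := by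
    ext z
    constructor
    · rintro ⟨⟨_, q, rfl⟩, rfl⟩
      rw [hinv q]
      exact q.2
    · intro hz
      exact ⟨⟨ψQ ⟨z, hz⟩, ⟨z, hz⟩, rfl⟩, hinv ⟨z, hz⟩⟩
  obtain ⟨χ, hχ, hχe⟩ := hQ.2 ψQ.range φ' hφ' hrange
  have hsC : (s : Ω) ∈ centralizerIn S ψQ.range := by
    refine Subgroup.mem_inf.mpr ⟨s.2, ?_⟩
    rw [Subgroup.mem_centralizer_iff]
    rintro _ ⟨q, rfl⟩
    exact (hcomm q).symm
  have hsN : (s : Ω) ∈ extender S ψQ.range φ' :=
    Cfsg.Agent.S5104.centralizerIn_le_extender ψQ.range φ' hsC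
  have hPN : ψQ.range ≤ extender S ψQ.range φ' := le_extender hP'S φ' hφ'S
  have hχS : ∀ x, χ x ∈ S := (F.le_of_mem hχ).2
  -- `χ s` centralizes `Q`
  have hχsC : χ ⟨(s : Ω), hsN⟩ ∈ centralizerIn S Q := by
    refine Subgroup.mem_inf.mpr ⟨hχS _, ?_⟩
    rw [Subgroup.mem_centralizer_iff]
    intro q hq
    have hmemP : ψQ ⟨q, hq⟩ ∈ ψQ.range := ⟨⟨q, hq⟩, rfl⟩
    have e1 : χ ⟨ψQ ⟨q, hq⟩, hPN hmemP⟩ = q := by
      rw [hχe _ hmemP (hPN hmemP)]
      exact hinv ⟨q, hq⟩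
    have e2 : (⟨(s : Ω), hsN⟩ : extender S ψQ.range φ') * ⟨ψQ ⟨q, hq⟩, hPN hmemP⟩ =
        ⟨ψQ ⟨q, hq⟩, hPN hmemP⟩ * ⟨(s : Ω), hsN⟩ := by
      apply Subtype.ext
      exact hcomm ⟨q, hq⟩
    have e3 := congrArg χ e2
    rw [map_mul, map_mul, e1] at e3
    exact e3.symm
  have h7 : χ ⟨(s : Ω), hsN⟩ ∈ T := hCQ hχsC
  have h8 : ((s : Ω))⁻¹ * χ ⟨(s : Ω), hsN⟩ ∈ T :=
    hfoc (Subgroup.subset_closure ⟨_, χ, ⟨(s : Ω), hsN⟩, hχ, rfl⟩)
  have h9 := T.mul_mem h7 (T.inv_mem h8)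
  rwa [mul_inv_rev, inv_inv, mul_inv_cancel_left] at h9

/-- `p`-th powers in the abelianization lie in the image of `T`. -/
theorem DAGGER.aux_pow_mem (p : ℕ) {T : Subgroup Ω} (hexp : ∀ s ∈ S, s ^ p ∈ T)
    (v : Abelianization ↥S) : v ^ p ∈ TA S T := by
  obtain ⟨s, rfl⟩ := QuotientGroup.mk_surjective v
  have h : ((s ^ p : ↥S) : Ω) ∈ T := by
    rw [Subgroup.coe_pow]
    exact hexp _ s.2
  have := of_mem_TA (S := S) h
  rwa [map_pow] at this

/-- Powers with exponent divisible by `p`. -/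
theorem DAGGER.aux_pow_mem' (p : ℕ) {T : Subgroup Ω} (hexp : ∀ s ∈ S, s ^ p ∈ T)
    (v : Abelianization ↥S) {n : ℕ} (hn : p ∣ n) : v ^ n ∈ TA S T := by
  obtain ⟨k, rfl⟩ := hn
  rw [pow_mul]
  exact (TA S T).pow_mem (DAGGER.aux_pow_mem p hexp v) k

/-- If `v ^ w ∈ TA` with `w` prime to `p`, then `v ∈ TA`. -/
theorem DAGGER.aux_of_zpow_mem (p : ℕ) [hp : Fact p.Prime] {T : Subgroup Ω}
    (hexp : ∀ s ∈ S, s ^ p ∈ T) (v : Abelianization ↥S) {w : ℤ} (hw : ¬ (p : ℤ) ∣ w)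
    (h : v ^ w ∈ TA S T) : v ∈ TA S T := by
  have hcop : IsCoprime w (p : ℤ) := by
    have := (Int.prime_iff_natAbs_prime.mpr (by simpa using hp.out) : Prime (p : ℤ))
    exact (this.coprime_iff_not_dvd.mpr hw).symm
  obtain ⟨x, y, hxy⟩ := hcop
  have h1 : v = (v ^ w) ^ x * (v ^ (p : ℤ)) ^ y := by
    rw [← zpow_mul, ← zpow_mul, ← zpow_add, mul_comm w x, mul_comm (p : ℤ) y, hxy, zpow_one]
  rw [h1]
  refine (TA S T).mul_mem ((TA S T).zpow_mem h x) ((TA S T).zpow_mem ?_ y)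
  rw [zpow_natCast]
  exact DAGGER.aux_pow_mem p hexp v

/-- `g` fixes the coset of `t` iff `t⁻¹ g t ∈ H0`. -/
theorem DAGGER.aux_smul_eq_iff (g t : ↥(Cen a)) :
    g • (t : ↥(Cen a) ⧸ H0 a x₀) = (t : ↥(Cen a) ⧸ H0 a x₀) ↔ t⁻¹ * g * t ∈ H0 a x₀ := by
  rw [MulAction.Quotient.smul_coe, smul_eq_mul, eq_comm, QuotientGroup.eq, mul_assoc]

include hTD in
/-- Case 2: some `ι(y)` moves the coset of `t` inside its `⟨c⟩`-orbit. -/
theorem DAGGER.aux_case2 (p : ℕ) [hp : Fact p.Prime] (hS : IsPGroup p S) {T : Subgroup Ω}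
    (hfoc : F.focalSubgroup ≤ T) (hexp : ∀ s ∈ S, s ^ p ∈ T)
    (t c : ↥(Cen a)) (y : ↥S) (hyc : c * iota a y = iota a y * c) (i : ℤ)
    (hi : iota a y • (t : ↥(Cen a) ⧸ H0 a x₀) = c ^ i • (t : ↥(Cen a) ⧸ H0 a x₀))
    (hne : iota a y • (t : ↥(Cen a) ⧸ H0 a x₀) ≠ (t : ↥(Cen a) ⧸ H0 a x₀))
    (hmem : t⁻¹ * c ^ Function.minimalPeriod (c • ·) (t : ↥(Cen a) ⧸ H0 a x₀) * t ∈ H0 a x₀) :
    phi a x₀ F hTD ⟨_, hmem⟩ ∈ TA S T := by
  set x : ↥(Cen a) ⧸ H0 a x₀ := (t : ↥(Cen a) ⧸ H0 a x₀) with hx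
  set m : ℕ := Function.minimalPeriod (c • ·) x with hm
  set n : ℕ := Function.minimalPeriod (iota a y • ·) x with hn
  have hcomm : Commute (iota a y) c := hyc.symm
  -- powers of `ι y` act as powers of `c`
  have hpow : ∀ k : ℕ, iota a y ^ k • x = c ^ (i * k) • x := by
    intro k
    induction k with
    | zero => simp
    | succ k ih =>
      rw [pow_succ', mul_smul, ih, ← mul_smul, (hcomm.zpow_right (i * k)).eq, mul_smul, hi,
        ← mul_smul, ← zpow_add]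
      congr 2
      push_cast
      ring
  -- `n` is a power of `p`, not `1`
  obtain ⟨b, hb⟩ := hS y
  have h1 : iota a y ^ (p ^ b) • x = x := by
    rw [← map_pow, hb, map_one, one_smul]
  have hnd : n ∣ p ^ b := MulAction.pow_smul_eq_iff_minimalPeriod_dvd.mp h1
  obtain ⟨e, -, hne'⟩ := (Nat.dvd_prime_pow hp.out).mp hnd
  have he : e ≠ 0 := by
    rintro rfl
    apply hne
    have : iota a y ^ n • x = x := MulAction.pow_smul_eq_iff_minimalPeriod_dvd.mpr dvd_rfl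
    rwa [hne', pow_zero, pow_one] at this
  obtain ⟨e', rfl⟩ : ∃ e', e = e' + 1 := ⟨e - 1, by omega⟩
  have hpn : p ∣ n := by rw [hne']; exact dvd_pow_self p (Nat.succ_ne_zero e')
  -- `m ∣ i n`
  have h2 : c ^ (i * n) • x = x := by
    rw [← hpow n]
    exact MulAction.pow_smul_eq_iff_minimalPeriod_dvd.mpr dvd_rfl
  obtain ⟨w, hw⟩ := MulAction.zpow_smul_eq_iff_minimalPeriod_dvd.mp h2
  -- `p ∤ w`
  have hpw : ¬ (p : ℤ) ∣ w := by
    rintro ⟨w', rfl⟩
    have h3 : i * ((p ^ e' : ℕ) : ℤ) = (m : ℤ) * w' := by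
      have hp0 : (p : ℤ) ≠ 0 := by exact_mod_cast hp.out.ne_zero
      apply mul_right_cancel₀ hp0
      rw [hne'] at hw
      push_cast at hw ⊢
      rw [pow_succ] at hw
      linarith
    have h4 : c ^ (i * ((p ^ e' : ℕ) : ℤ)) • x = x := by
      rw [h3]
      exact MulAction.zpow_smul_eq_iff_minimalPeriod_dvd.mpr (dvd_mul_right _ _)
    rw [← hpow] at h4
    have h5 : n ∣ p ^ e' := MulAction.pow_smul_eq_iff_minimalPeriod_dvd.mp h4
    rw [hne'] at h5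
    have := Nat.le_of_dvd (pow_pos hp.out.pos e') h5
    have h6 : p ^ e' < p ^ (e' + 1) := Nat.pow_lt_pow_right hp.out.one_lt (Nat.lt_succ_self e')
    omega
  -- the element `g = c^{-i} ι(y)` fixes `x`
  set g : ↥(Cen a) := (c ^ i)⁻¹ * iota a y with hg
  have hgx : g • x = x := by
    rw [hg, mul_smul, hi, ← mul_smul, inv_mul_cancel, one_smul]
  have hgH : t⁻¹ * g * t ∈ H0 a x₀ := (DAGGER.aux_smul_eq_iff a x₀ g t).mp hgx
  -- the identity `ι(y)^n = (c^m)^w g^n`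
  have hcg : Commute ((c ^ i)⁻¹) (iota a y) := ((hcomm.zpow_right i).inv_right).symm
  have hid : iota a (y ^ n) = (c ^ m) ^ w * g ^ n := by
    rw [hg, hcg.mul_pow, map_pow, ← mul_assoc]
    have : (c ^ m) ^ w * ((c ^ i)⁻¹) ^ n = 1 := by
      rw [← zpow_natCast c m, ← zpow_mul, ← hw, ← zpow_neg, ← zpow_natCast (c ^ (-i)) n, ← zpow_mul,
        ← zpow_add]
      have : i * (n : ℤ) + -i * (n : ℤ) = 0 := by ring
      rw [this, zpow_zero]
    rw [this, one_mul]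
  have hynH : t⁻¹ * iota a (y ^ n) * t ∈ H0 a x₀ := by
    apply (DAGGER.aux_smul_eq_iff a x₀ _ t).mp
    rw [map_pow]
    exact MulAction.pow_smul_eq_iff_minimalPeriod_dvd.mpr dvd_rfl
  have hsub : (⟨_, hynH⟩ : ↥(H0 a x₀)) = (⟨_, hmem⟩ : ↥(H0 a x₀)) ^ w * (⟨_, hgH⟩ : ↥(H0 a x₀)) ^ n := by
    apply Subtype.ext
    rw [Subgroup.coe_mul, Subgroup.coe_zpow, Subgroup.coe_pow]
    show t⁻¹ * iota a (y ^ n) * t = (t⁻¹ * c ^ m * t) ^ w * (t⁻¹ * g * t) ^ n
    have e1 : ∀ (z : ↥(Cen a)), t⁻¹ * z * t = MulAut.conj t⁻¹ z := by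
      intro z
      simp [MulAut.conj_apply]
    rw [e1, e1, e1, ← map_zpow, ← map_pow, ← map_mul, hid]
  have hφ := congrArg (phi a x₀ F hTD) hsub
  rw [map_mul, map_zpow, map_pow (phi a x₀ F hTD)] at hφ
  have h7 := DAGGER.aux_phi_iota a x₀ F hTD hfoc t (y ^ n) hynH
  have h8 : Abelianization.of (y ^ n) ∈ TA S T := by
    rw [map_pow]
    exact DAGGER.aux_pow_mem' p hexp _ hpn
  have h9 : phi a x₀ F hTD ⟨_, hynH⟩ ∈ TA S T := by
    have := (TA S T).mul_mem h7 h8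
    rwa [inv_mul_cancel_right] at this
  have h10 : (phi a x₀ F hTD ⟨_, hgH⟩) ^ n ∈ TA S T := DAGGER.aux_pow_mem' p hexp _ hpn
  have h11 : (phi a x₀ F hTD ⟨_, hmem⟩) ^ w ∈ TA S T := by
    have := (TA S T).mul_mem h9 ((TA S T).inv_mem h10)
    rwa [hφ, mul_inv_cancel_right] at this
  exact DAGGER.aux_of_zpow_mem p hexp _ hpw h11

include hTD in
/-- The weight `phi (t⁻¹ c^m t)` does not change when the coset of `t` is moved by an element
commuting with `c`. -/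
theorem DAGGER.aux_wt_eq (c t t' k : ↥(Cen a)) (hk : Commute k c)
    (x x' : ↥(Cen a) ⧸ H0 a x₀) (hx : (t : ↥(Cen a) ⧸ H0 a x₀) = x)
    (hx' : (t' : ↥(Cen a) ⧸ H0 a x₀) = x') (hrel : x' = k • x)
    (hmem : t⁻¹ * c ^ Function.minimalPeriod (c • ·) x * t ∈ H0 a x₀)
    (hmem' : t'⁻¹ * c ^ Function.minimalPeriod (c • ·) x' * t' ∈ H0 a x₀) :
    phi a x₀ F hTD ⟨_, hmem'⟩ = phi a x₀ F hTD ⟨_, hmem⟩ := by
  -- the periods agree
  have hiff : ∀ j : ℕ, c ^ j • x' = x' ↔ c ^ j • x = x := by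
    intro j
    rw [hrel, ← mul_smul, ← (hk.pow_right j).eq, mul_smul]
    exact smul_left_cancel_iff k
  have hmm : Function.minimalPeriod (c • ·) x' = Function.minimalPeriod (c • ·) x := by
    apply Nat.dvd_antisymm
    · exact MulAction.pow_smul_eq_iff_minimalPeriod_dvd.mp
        ((hiff _).mpr (MulAction.pow_smul_eq_iff_minimalPeriod_dvd.mpr dvd_rfl))
    · exact MulAction.pow_smul_eq_iff_minimalPeriod_dvd.mp
        ((hiff _).mp (MulAction.pow_smul_eq_iff_minimalPeriod_dvd.mpr dvd_rfl))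
  -- `t' = k t h`
  have hh : (k * t)⁻¹ * t' ∈ H0 a x₀ := by
    rw [← QuotientGroup.eq, hx', hrel, ← hx]
    rfl
  set h : ↥(H0 a x₀) := ⟨_, hh⟩ with hhd
  have e : (⟨_, hmem'⟩ : ↥(H0 a x₀)) = h⁻¹ * ⟨_, hmem⟩ * h := by
    apply Subtype.ext
    rw [Subgroup.coe_mul, Subgroup.coe_mul, Subgroup.coe_inv]
    show t'⁻¹ * c ^ Function.minimalPeriod (c • ·) x' * t' =
      ((k * t)⁻¹ * t')⁻¹ * (t⁻¹ * c ^ Function.minimalPeriod (c • ·) x * t) * ((k * t)⁻¹ * t')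
    rw [hmm]
    have hkc : k * c ^ Function.minimalPeriod (c • ·) x * k⁻¹ = c ^ Function.minimalPeriod (c • ·) x := by
      rw [(hk.pow_right _).eq, mul_inv_cancel_right]
    symm
    calc ((k * t)⁻¹ * t')⁻¹ * (t⁻¹ * c ^ Function.minimalPeriod (c • ·) x * t) * ((k * t)⁻¹ * t')
        = t'⁻¹ * (k * c ^ Function.minimalPeriod (c • ·) x * k⁻¹) * t' := by group
      _ = _ := by rw [hkc]
  rw [e, map_mul, map_mul, map_inv, mul_comm, mul_inv_cancel_left]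

end point

open scoped BigOperators in
/-- DAGGER: an element of `Cen a` centralizing `iota Q`, `Q` receptive with `C_S(Q) ≤ T`, has
transfer in the image of `T` (`S / T` of exponent `p`, `foc(F) ≤ T`). -/
theorem DAGGER [Finite S] [Finite X] (p : ℕ) [Fact p.Prime] (hS : IsPGroup p S)
    (a : ↥(S.prod S) →* Equiv.Perm X) (x₀ : X) (F : FusionSystem S)
    (hTD : ∀ x, TD F (stab a x)) (hx₀ : ∀ k ∈ graphSub (1 : MulAut ↥S), a k x₀ = x₀)
    {T : Subgroup Ω} (hTS : T ≤ S) (hfoc : F.focalSubgroup ≤ T) (hexp : ∀ s ∈ S, s ^ p ∈ T)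
    {Q : Subgroup Ω} (hQ : F.IsReceptive Q) (hCQ : centralizerIn S Q ≤ T)
    (c : ↥(Cen a)) (hc : ∀ y : ↥S, (y : Ω) ∈ Q → c * iota a y = iota a y * c) :
    c ∈ MM a x₀ F hTD T := by
  classical
  rw [mem_MM]
  set N : Subgroup (Abelianization ↥S) := TA S T with hN
  suffices hgoal : QuotientGroup.mk' N (trf a x₀ F hTD c) = 1 from
    (QuotientGroup.eq_one_iff _).mp hgoal
  letI : Fintype (Quotient (MulAction.orbitRel (Subgroup.zpowers c) (↥(Cen a) ⧸ H0 a x₀))) :=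
    Fintype.ofFinite _
  unfold trf
  rw [MonoidHom.transfer_eq_prod_quotient_orbitRel_zpowers_quot, map_prod]
  letI := DAGGER.aux_actO (H0 a x₀) c
  -- the `p`-group acting
  set P' : Subgroup ↥(Subgroup.centralizer ({c} : Set ↥(Cen a))) :=
    ((Q.subgroupOf S).map (iota a)).subgroupOf (Subgroup.centralizer ({c} : Set ↥(Cen a))) with hP'
  have hP'p : IsPGroup p ↥P' := by
    rintro ⟨⟨g, hgc⟩, hg⟩
    obtain ⟨y, -, hy⟩ := Subgroup.mem_subgroupOf.mp hg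
    obtain ⟨k, hk⟩ := hS y
    refine ⟨k, ?_⟩
    apply Subtype.ext
    apply Subtype.ext
    show g ^ p ^ k = 1
    have : g = iota a y := hy.symm
    rw [this, ← map_pow, hk, map_one]
  have hB : ∀ b : Abelianization ↥S ⧸ N, b ^ p = 1 := by
    intro b
    obtain ⟨v, rfl⟩ := QuotientGroup.mk_surjective b
    rw [← QuotientGroup.mk_pow, QuotientGroup.eq_one_iff]
    exact DAGGER.aux_pow_mem p hexp v
  letI instP : MulAction ↥P' (Quotient (MulAction.orbitRel (Subgroup.zpowers c) (↥(Cen a) ⧸ H0 a x₀))) :=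
    Subgroup.instMulAction
  apply DAGGER.aux_prod p hP'p hB
  · -- invariance
    rintro ⟨⟨k, hkc⟩, hk⟩ q
    congr 1
    set q' : Quotient (MulAction.orbitRel (Subgroup.zpowers c) (↥(Cen a) ⧸ H0 a x₀)) :=
      (⟨⟨k, hkc⟩, hk⟩ : ↥P') • q with hq'
    have hkcomm : Commute k c := (Subgroup.mem_centralizer_iff.mp hkc c rfl).symm
    have h1 : (Quotient.mk'' q'.out : Quotient (MulAction.orbitRel (Subgroup.zpowers c)
        (↥(Cen a) ⧸ H0 a x₀))) = Quotient.mk'' (k • q.out) := by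
      rw [Quotient.out_eq', hq']
      conv_lhs => rw [← Quotient.out_eq' q]
      rfl
    obtain ⟨⟨z, hz⟩, hzq⟩ := Quotient.exact' h1
    obtain ⟨j, rfl⟩ := hz
    have hrel : q'.out = (c ^ j * k) • q.out := by
      rw [mul_smul]
      exact hzq.symm
    have hcomm' : Commute (c ^ j * k) c :=
      Commute.mul_left ((Commute.refl c).zpow_left j) hkcomm
    exact DAGGER.aux_wt_eq a x₀ F hTD c q.out.out q'.out.out (c ^ j * k) hcomm' q.out q'.out
      (QuotientGroup.out_eq' _) (QuotientGroup.out_eq' _) hrel _ _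
  · -- fixed points
    intro q hq
    rw [QuotientGroup.mk'_apply, QuotientGroup.eq_one_iff]
    set t : ↥(Cen a) := q.out.out with ht
    have hxt : (t : ↥(Cen a) ⧸ H0 a x₀) = q.out := QuotientGroup.out_eq' _
    -- every `ι(y)` keeps `q.out` in its `⟨c⟩`-orbit
    have horb : ∀ y : ↥S, (y : Ω) ∈ Q → ∃ j : ℤ, iota a y • q.out = c ^ j • q.out := by
      intro y hy
      have hmemc : iota a y ∈ Subgroup.centralizer ({c} : Set ↥(Cen a)) := by
        rw [Subgroup.mem_centralizer_iff]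
        rintro _ rfl
        exact hc y hy
      have hmemP : (⟨iota a y, hmemc⟩ : ↥(Subgroup.centralizer ({c} : Set ↥(Cen a)))) ∈ P' :=
        Subgroup.mem_subgroupOf.mpr ⟨y, Subgroup.mem_subgroupOf.mpr hy, rfl⟩
      have h1 := hq ⟨_, hmemP⟩
      have h2 : (Quotient.mk'' (iota a y • q.out) : Quotient (MulAction.orbitRel
          (Subgroup.zpowers c) (↥(Cen a) ⧸ H0 a x₀))) = Quotient.mk'' q.out := by
        rw [Quotient.out_eq']
        conv_rhs => rw [← h1]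
        conv_rhs => rw [← Quotient.out_eq' q]
        rfl
      obtain ⟨⟨z, hz⟩, hzq⟩ := Quotient.exact' h2
      obtain ⟨j, rfl⟩ := hz
      exact ⟨j, hzq.symm⟩
    have hmemt : t⁻¹ * c ^ Function.minimalPeriod (c • ·) (t : ↥(Cen a) ⧸ H0 a x₀) * t ∈
        H0 a x₀ := by
      rw [hxt]
      exact QuotientGroup.out_conj_pow_minimalPeriod_mem (H0 a x₀) c q.out
    have hcast : phi a x₀ F hTD ⟨q.out.out⁻¹ * c ^ Function.minimalPeriod (c • ·) q.out * q.out.out,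
        QuotientGroup.out_conj_pow_minimalPeriod_mem (H0 a x₀) c q.out⟩ =
        phi a x₀ F hTD ⟨_, hmemt⟩ := by
      congr 1
      apply Subtype.ext
      show q.out.out⁻¹ * c ^ Function.minimalPeriod (c • ·) q.out * q.out.out =
        t⁻¹ * c ^ Function.minimalPeriod (c • ·) (t : ↥(Cen a) ⧸ H0 a x₀) * t
      rw [hxt]
    rw [hcast]
    by_cases hall : ∀ y : ↥S, (y : Ω) ∈ Q → iota a y • (t : ↥(Cen a) ⧸ H0 a x₀) =
        (t : ↥(Cen a) ⧸ H0 a x₀)
    · -- case 1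
      apply DAGGER.aux_case1 a x₀ F hTD hfoc hQ hCQ t
        (c ^ Function.minimalPeriod (c • ·) (t : ↥(Cen a) ⧸ H0 a x₀))
      · intro y hy
        exact ((Commute.pow_left (hc y hy : Commute c (iota a y)) _)).eq
      · intro y hy
        exact (DAGGER.aux_smul_eq_iff a x₀ _ t).mp (hall y hy)
    · -- case 2
      push Not at hall
      obtain ⟨y, hy, hne⟩ := hall
      obtain ⟨j, hj⟩ := horb y hy
      rw [← hxt] at hj
      exact DAGGER.aux_case2 a x₀ F hTD p hS hfoc hexp t c y (hc y hy) j hj hne hmemt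

/-- DAGGER': the general form, no hypothesis on `C_S(Q)`. -/
theorem DAGGER' [Finite S] [Finite X] (p : ℕ) [Fact p.Prime] (hS : IsPGroup p S)
    (a : ↥(S.prod S) →* Equiv.Perm X) (x₀ : X) (F : FusionSystem S)
    (hTD : ∀ x, TD F (stab a x)) (hx₀ : ∀ k ∈ graphSub (1 : MulAut ↥S), a k x₀ = x₀)
    {T : Subgroup Ω} (hTS : T ≤ S) (hfoc : F.focalSubgroup ≤ T) (hexp : ∀ s ∈ S, s ^ p ∈ T)
    {Q : Subgroup Ω} (hQ : F.IsReceptive Q)
    (c : ↥(Cen a)) (hc : ∀ y : ↥S, (y : Ω) ∈ Q → c * iota a y = iota a y * c) :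
    trf a x₀ F hTD c ∈ TA S (T ⊔ centralizerIn S Q) := by
  have h := DAGGER p hS a x₀ F hTD hx₀ (T := T ⊔ centralizerIn S Q)
    (sup_le hTS inf_le_left) (hfoc.trans le_sup_left) (fun s hs => Subgroup.mem_sup_left (hexp s hs)) hQ
    le_sup_right c hc
  exact h

end Cfsg.Agent.S5113P
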