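import Mathlib
import Cfsg.Prelude.Def_FusionSystem
import Cfsg.Agent.Helper18.S5113Defs
import Cfsg.Agent.Helper25.S5113SYS
import Cfsg.Agent.Helper25.S5113IDX
import Cfsg.Agent.Helper17.S5113PICK
import Cfsg.Agent.Helper7.S5113REC
import Cfsg.Agent.Helper28.S5113FA
import Cfsg.Agent.S5077
import Cfsg.Agent.S5092

set_option autoImplicit false

/-! Piece STEP of S5113 (board `s5113pieces`): the elementary abelian step, assembled from SYS, IDX,
PICK, FA and REC. -/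

namespace Cfsg.Agent.S5113P

open Cfsg Cfsg.FusionSystem Cfsg.Agent.Helper25 Cfsg.Agent.Helper25.Park Cfsg.Agent.Helper26.CB

universe u

/-- STEP: the elementary abelian step. -/
theorem STEP {Ω : Type u} [Group Ω] {S : Subgroup Ω} [Finite S] (p : ℕ) [Fact p.Prime]
    (hS : IsPGroup p S) (F : FusionSystem S) (hF : F.IsSaturated p)
    {T : Subgroup Ω} (hTS : T ≤ S) (hfoc : F.focalSubgroup ≤ T) (hexp : ∀ s ∈ S, s ^ p ∈ T) :
    ∃ E : FusionSystem T, E.IsSaturated p ∧ E.HasPPowerIndexIn F p := by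
  obtain ⟨X, hX, a, hTD, hst, ⟨x₀, hx₀⟩, ⟨k, hk, hcard⟩⟩ := exists_charBiset p hS F hF
  have := hX
  have hidx : (H0 a x₀).index = k := by
    have h1 := card_eq_mul_index a x₀ F hTD hx₀
    rw [hcard, mul_comm] at h1
    exact (Nat.eq_of_mul_eq_mul_left Nat.card_pos h1).symm
  have hidx' : ¬ p ∣ (H0 a x₀).index := by rw [hidx]; exact hk
  have hhyp : F.hyperfocalSubgroup p ≤ T := by
    refine le_trans ?_ hfoc
    rw [Cfsg.Agent.S5092.result p hS F hF]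
    exact le_sup_left
  obtain ⟨E, hE⟩ := SYS a x₀ F hTD hTS hfoc
  refine ⟨E, ?_, IDX p hS a x₀ F hTD hst hTS hexp hhyp E hE⟩
  intro P hPT
  obtain ⟨Q, hPQ, hQn⟩ := PICK p hS a x₀ F hTD hst hx₀ hidx' hTS hfoc E hE hPT
  have hsat := (Cfsg.Agent.S5077.result p hS F).mp hF
  obtain ⟨hQc, hQa⟩ := hsat.1 Q hQn
  have hQr := hsat.2 Q hQc
  have hQT : Q ≤ T := (isConj_le E hPQ).2
  exact ⟨Q, hPQ, FA p hS a x₀ F hTD hst hx₀ hidx' hTS hfoc hexp E hE hQT hQa hQr,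
    REC p hS a x₀ F hTD hst hx₀ hidx' hTS hfoc hexp E hE hQT hQr⟩

end Cfsg.Agent.S5113P
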