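import Mathlib
import Cfsg.Agent.Helper25.S5165.Defs
import Cfsg.Agent.Helper24.S5165LIBA
import Cfsg.Agent.Helper24.S5165LIBB

set_option autoImplicit false
set_option linter.unusedSectionVars false
set_option linter.unusedVariables false

/-! S5165 piece G0NORM (driver helper25): `g0 O w` normalizes `SQ r (SQ r' Q')` when `O` is `Q'`-invariant. -/

namespace Cfsg.Agent.S5165P

open Equiv

section chapB2

variable {p : ℕ} [Fact p.Prime] {I' : Type} [Fintype I'] [DecidableEq I'] {r' r : ℕ}

namespace G0NORM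

/-- conjugating `lift σ` by `torus a` when `a` is `σ`-invariant -/
theorem torus_conj_lift {I : Type} [Fintype I] [DecidableEq I] (a : I → (ZMod p)ˣ) (σ : Perm I)
    (h : ∀ i, a (σ.symm i) = a i) :
    torus (r := r) a * lift σ * (torus a)⁻¹ = lift σ := by
  have h1 := LIBA.lift_conj_torus (r := r) σ a
  have h2 : (fun i => a (σ.symm i)) = a := funext h
  rw [h2] at h1
  -- `lift σ * torus a = torus a * lift σ`
  have h3 : lift σ * torus (r := r) a = torus a * lift σ := mul_inv_eq_iff_eq_mul.1 h1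
  rw [← h3, mul_inv_cancel_right]

/-- `aO O w` is invariant under `base f'` -/
theorem aO_base (O : Finset I') (w : (ZMod p)ˣ) (f' : I' → ZMod p) (i : X p I' r') :
    aO O w ((base f').symm i) = aO O w i := by
  rcases i with ⟨j, x⟩ | k
  · have : (base (r := r') f').symm (Sum.inl (j, x)) = Sum.inl (j, x - f' j) := by
      rw [Equiv.symm_apply_eq, base_inl, sub_add_cancel]
    rw [this]
    rfl
  · have : (base (I := I') (p := p) f').symm (Sum.inr k) = Sum.inr k := by
      rw [Equiv.symm_apply_eq, base_inr]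
    rw [this]

/-- `aO O w` is invariant under `lift q'` when `O` is `q'`-invariant -/
theorem aO_lift (O : Finset I') (w : (ZMod p)ˣ) (q' : Perm I') (hq : ∀ j, q'.symm j ∈ O ↔ j ∈ O)
    (i : X p I' r') : aO O w ((lift (p := p) (r := r') q').symm i) = aO O w i := by
  rcases i with ⟨j, x⟩ | k
  · have : (lift (p := p) (r := r') q').symm (Sum.inl (j, x)) = Sum.inl (q'.symm j, x) := by
      rw [Equiv.symm_apply_eq, lift_inl, Equiv.apply_symm_apply]
    rw [this]
    show (if q'.symm j ∈ O then w else 1) = if j ∈ O then w else 1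
    by_cases hj : j ∈ O
    · rw [if_pos hj, if_pos ((hq j).2 hj)]
    · rw [if_neg hj, if_neg (fun h => hj ((hq j).1 h))]
  · have : (lift (p := p) (r := r') q').symm (Sum.inr k) = Sum.inr k := by
      rw [Equiv.symm_apply_eq, lift_inr]
    rw [this]

/-- `bO O w` is invariant under `q'` when `O` is `q'`-invariant -/
theorem bO_perm (O : Finset I') (w : (ZMod p)ˣ) (q' : Perm I') (hq : ∀ j, q'.symm j ∈ O ↔ j ∈ O)
    (j : I') : bO O w (q'.symm j) = bO O w j := by
  show (if q'.symm j ∈ O then w else 1) = if j ∈ O then w else 1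
  by_cases hj : j ∈ O
  · rw [if_pos hj, if_pos ((hq j).2 hj)]
  · rw [if_neg hj, if_neg (fun h => hj ((hq j).1 h))]

theorem conj_mul3 {G : Type*} [Group G] (g a b c : G) :
    g * (a * b * c) * g⁻¹ = (g * a * g⁻¹) * (g * b * g⁻¹) * (g * c * g⁻¹) := by group

theorem conj_mul2 {G : Type*} [Group G] (g h a : G) :
    (g * h) * a * (g * h)⁻¹ = g * (h * a * h⁻¹) * g⁻¹ := by group

end G0NORM

open G0NORM

theorem G0NORM.mem_normalizer (Q' : Subgroup (Perm I')) (O : Finset I')
    (hO : ∀ q ∈ Q', ∀ j ∈ O, q j ∈ O) (w : (ZMod p)ˣ) :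
    g0 (r := r) O w ∈ Subgroup.normalizer
      ((SQ r (SQ r' Q') : Subgroup (Perm (X p (X p I' r') r))) :
        Set (Perm (X p (X p I' r') r))) := by
  classical
  apply Subgroup.mem_normalizer_fintype
  intro h hh
  rw [SetLike.mem_coe, LIBB.mem_SQ_iff] at hh
  obtain ⟨f, q, hq, rfl⟩ := hh
  rw [LIBB.mem_SQ_iff] at hq
  obtain ⟨f', q', hq', rfl⟩ := hq
  -- invariance of `O` under `q'.symm`
  have hinv : ∀ j, q'.symm j ∈ O ↔ j ∈ O := by
    intro j
    constructor
    · intro h
      have := hO q' hq' _ h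
      rwa [Equiv.apply_symm_apply] at this
    · intro h
      have := hO q'⁻¹ (Q'.inv_mem hq') j h
      exact this
  rw [SetLike.mem_coe]
  unfold g0
  have e0 : torus (r := r) (aO O w) * lift (torus (r := r') (bO O w⁻¹)) *
      (base f * lift (base f' * lift q')) * (torus (aO O w) * lift (torus (bO O w⁻¹)))⁻¹ =
      torus (aO O w) * ((lift (torus (bO O w⁻¹)) * base f * (lift (torus (bO O w⁻¹)))⁻¹) *
        (lift (torus (bO O w⁻¹)) * lift (base f') * (lift (torus (bO O w⁻¹)))⁻¹) *
        (lift (torus (bO O w⁻¹)) * lift (lift q') * (lift (torus (bO O w⁻¹)))⁻¹)) *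
        (torus (aO O w))⁻¹ := by
    rw [map_mul]
    group
  rw [e0]
  -- the three conjugates by `lift (torus (bO O w⁻¹))`
  have e1 : lift (torus (r := r') (bO O w⁻¹)) * base (r := r) f * (lift (torus (bO O w⁻¹)))⁻¹ =
      base (fun i => f ((torus (bO O w⁻¹)).symm i)) := LIBA.lift_conj_base _ _
  have e2 : lift (p := p) (r := r) (torus (r := r') (bO O w⁻¹)) * lift (base f') *
      (lift (torus (bO O w⁻¹)))⁻¹ = lift (base (fun j => ((bO O w⁻¹ j : (ZMod p)ˣ) : ZMod p) * f' j)) := by
    rw [← map_mul, ← map_inv, ← map_mul, LIBA.torus_conj_base]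
  have e3 : lift (p := p) (r := r) (torus (r := r') (bO O w⁻¹)) * lift (lift q') *
      (lift (torus (bO O w⁻¹)))⁻¹ = lift (lift q') := by
    rw [← map_mul, ← map_inv, ← map_mul, torus_conj_lift _ _ (bO_perm O w⁻¹ q' hinv)]
  rw [e1, e2, e3, conj_mul3, LIBA.torus_conj_base,
    torus_conj_lift _ _ (aO_base O w _), torus_conj_lift _ _ (aO_lift O w q' hinv), mul_assoc,
    ← map_mul, LIBB.base_mul_lift_mem_SQ_iff, LIBB.base_mul_lift_mem_SQ_iff]
  exact hq'

end chapB2

end Cfsg.Agent.S5165P
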