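import Mathlib
import Cfsg.Agent.Helper25.S5165.Defs

set_option autoImplicit false
set_option linter.unusedSectionVars false
set_option linter.unusedVariables false

/-! S5165 piece G0PROD (driver helper25): the product of the scalars `aO O w` is `w` when `|O|` is a power of `p`. -/

namespace Cfsg.Agent.S5165P

open Equiv

section chapB2

variable {p : ℕ} [Fact p.Prime] {I' : Type} [Fintype I'] [DecidableEq I'] {r' r : ℕ}

namespace G0PROD

theorem unit_pow_pow (w : (ZMod p)ˣ) (k : ℕ) : w ^ p ^ k = w := by
  apply Units.ext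
  rw [Units.val_pow_eq_pow_val]
  exact ZMod.pow_card_pow _

end G0PROD

theorem G0PROD.prod_aO (O : Finset I') (hO : ∃ e : ℕ, O.card = p ^ e) (w : (ZMod p)ˣ) :
    ∏ i : X p I' r', aO O w i = w := by
  classical
  obtain ⟨e, he⟩ := hO
  rw [Fintype.prod_sum_type]
  have h2 : ∏ k : Fin r', aO (p := p) (r' := r') O w (Sum.inr k) = 1 :=
    Finset.prod_eq_one fun k _ => rfl
  rw [h2, mul_one, Fintype.prod_prod_type]
  have h1 : ∀ j : I', ∏ x : ZMod p, aO (r' := r') O w (Sum.inl (j, x)) = if j ∈ O then w ^ p else 1 := by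
    intro j
    by_cases hj : j ∈ O
    · rw [if_pos hj]
      have : ∀ x : ZMod p, aO (r' := r') O w (Sum.inl (j, x)) = w := fun x => if_pos hj
      rw [Finset.prod_congr rfl (fun x _ => this x), Finset.prod_const, Finset.card_univ, ZMod.card]
    · rw [if_neg hj]
      exact Finset.prod_eq_one fun x _ => if_neg hj
  rw [Finset.prod_congr rfl (fun j _ => h1 j), Finset.prod_ite_mem, Finset.univ_inter, Finset.prod_const,
    he, ← pow_mul, ← pow_succ']
  exact G0PROD.unit_pow_pow w (e + 1)

end chapB2

end Cfsg.Agent.S5165P
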