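import Mathlib
import Cfsg.Agent.Helper25.S5165.Defs

set_option autoImplicit false
set_option linter.unusedSectionVars false
set_option linter.unusedVariables false

/-! S5165 piece KER2 (driver helper25): a function `a : I → Mˣ` with product `1` is a product of elements
`mulSingle i u * mulSingle j u⁻¹`. -/

namespace Cfsg.Agent.S5165P

open Equiv

section chapB

variable {p : ℕ} [Fact p.Prime] {I : Type} [Fintype I] [DecidableEq I] {r : ℕ}

theorem KER2.mem_closure (a : I → (ZMod p)ˣ) (ha : ∏ i, a i = 1) :
    a ∈ Subgroup.closure {b : I → (ZMod p)ˣ | ∃ (i j : I) (u : (ZMod p)ˣ), i ≠ j ∧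
      b = Pi.mulSingle i u * Pi.mulSingle j u⁻¹} := by
  classical
  by_cases hI : IsEmpty I
  · have : a = 1 := by
      funext i
      exact (hI.false i).elim
    rw [this]
    exact Subgroup.one_mem _
  · rw [not_isEmpty_iff] at hI
    obtain ⟨i₀⟩ := hI
    have key : a = ∏ j ∈ Finset.univ.erase i₀, (Pi.mulSingle j (a j) * Pi.mulSingle i₀ (a j)⁻¹) := by
      funext k
      rw [Finset.prod_apply]
      by_cases hk : k = i₀
      · subst hk
        have h1 : ∀ j ∈ Finset.univ.erase k,
            (Pi.mulSingle j (a j) * Pi.mulSingle k (a j)⁻¹ : I → (ZMod p)ˣ) k = (a j)⁻¹ := by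
          intro j hj
          have hjk : k ≠ j := (Finset.ne_of_mem_erase hj).symm
          rw [Pi.mul_apply, Pi.mulSingle_eq_of_ne hjk, Pi.mulSingle_eq_same, one_mul]
        rw [Finset.prod_congr rfl h1, Finset.prod_inv_distrib]
        have h2 : a k * ∏ j ∈ Finset.univ.erase k, a j = 1 := by
          rw [Finset.mul_prod_erase _ _ (Finset.mem_univ k)]
          exact ha
        exact eq_inv_of_mul_eq_one_left h2
      · rw [Finset.prod_eq_single k]
        · rw [Pi.mul_apply, Pi.mulSingle_eq_same, Pi.mulSingle_eq_of_ne hk, mul_one]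
        · intro j _ hjk
          rw [Pi.mul_apply, Pi.mulSingle_eq_of_ne (Ne.symm hjk), Pi.mulSingle_eq_of_ne hk, one_mul]
        · intro h
          exact absurd (Finset.mem_erase.2 ⟨hk, Finset.mem_univ k⟩) h
    rw [key]
    apply Subgroup.prod_mem
    intro j hj
    apply Subgroup.subset_closure
    exact ⟨j, i₀, a j, Finset.ne_of_mem_erase hj, rfl⟩

end chapB

end Cfsg.Agent.S5165P
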