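import Mathlib
import Cfsg.Agent.Helper25.S5165.Defs

set_option autoImplicit false
set_option linter.unusedSectionVars false
set_option linter.unusedVariables false

/-! S5165 piece ORBIT (driver helper25): the orbit of a point under a `p`-group of permutations, as a `Finset`
of `p`-power cardinality. -/

namespace Cfsg.Agent.S5165P

open Equiv

section chapB2

variable {p : ℕ} [Fact p.Prime] {I' : Type} [Fintype I'] [DecidableEq I'] {r' r : ℕ}

theorem ORBIT.exists_orbit (Q' : Subgroup (Perm I')) (hQ' : IsPGroup p Q') (j₀ : I') :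
    ∃ O : Finset I', j₀ ∈ O ∧ (∀ q ∈ Q', ∀ j ∈ O, q j ∈ O) ∧ ∃ e : ℕ, O.card = p ^ e := by
  classical
  refine ⟨Finset.univ.filter (fun j => j ∈ MulAction.orbit Q' j₀), ?_, ?_, ?_⟩
  · rw [Finset.mem_filter]
    exact ⟨Finset.mem_univ _, MulAction.mem_orbit_self j₀⟩
  · intro q hq j hj
    rw [Finset.mem_filter] at hj ⊢
    refine ⟨Finset.mem_univ _, ?_⟩
    exact MulAction.mem_orbit_of_mem_orbit (⟨q, hq⟩ : Q') hj.2
  · obtain ⟨e, he⟩ := hQ'.card_orbit j₀
    refine ⟨e, ?_⟩
    rw [← he, Nat.card_eq_fintype_card, Fintype.card_subtype]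

end chapB2

end Cfsg.Agent.S5165P
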