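import Cfsg.Agent.Helper27.S5634BDefs
import Cfsg.Agent.Helper4.S5634BSPREADP
import Cfsg.Agent.Helper10.S5634BSWAP
import Cfsg.Agent.Helper11.S5634BHMEM
import Cfsg.Agent.Lead.S5634BEE2

set_option autoImplicit false
set_option linter.unusedSectionVars false
set_option linter.unusedVariables false

/-! # S5634, half `m ≥ 2` (driver helper27): piece B_SPREADT (transport of the off-diagonal block
transvections along block permutations, and all pairs of blocks). -/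

namespace Cfsg.Agent.S5634P

open Matrix Cfsg.Agent.Helper28.SLMax
open scoped MatrixGroups

variable {F : Type*} [Field F] {n t m : ℕ} {D : Fin t → Submodule F (Fin n → F)}

namespace SPREADT

theorem dact_one (φ : Fin n → F) : dact (1 : GL (Fin n) F) φ = φ := by
  unfold dact
  rw [inv_one, Units.val_one, Matrix.vecMul_one]

end SPREADT

theorem SPREAD.transport (hD : Cfsg.Geo.IsMDecomposition m D) (M : Subgroup (GL (Fin n) F))
    (g : GL (Fin n) F) (hg : g ∈ M) (σ : Equiv.Perm (Fin t))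
    (hσ : ∀ b, ∀ x ∈ D b, (g : Matrix (Fin n) (Fin n) F) *ᵥ x ∈ D (σ b)) {c d : Fin t}
    (h : ∀ y ∈ D c, ∀ η ∈ Dl D d, EE y η ∈ M) : ∀ y ∈ D (σ c), ∀ η ∈ Dl D (σ d), EE y η ∈ M := by
  intro y hy η hη
  have hinv := HMEM.inv_maps hD σ g hσ
  -- `g⁻¹` maps `D b` into `D (σ⁻¹ b)`
  have hinv' : ∀ b, ∀ x ∈ D b,
      ((g⁻¹ : GL (Fin n) F) : Matrix (Fin n) (Fin n) F) *ᵥ x ∈ D (σ⁻¹ b) := by
    intro b x hx
    apply hinv (σ⁻¹ b) x
    rw [show σ (σ⁻¹ b) = b from σ.apply_symm_apply b]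
    exact hx
  have hy' : ((g⁻¹ : GL (Fin n) F) : Matrix (Fin n) (Fin n) F) *ᵥ y ∈ D c := hinv c y hy
  have hη' : dact g⁻¹ η ∈ Dl D d := by
    have := HMEM.dact_mem hD σ⁻¹ g⁻¹ hinv' hη
    rwa [show σ⁻¹ (σ d) = d from σ.symm_apply_apply d] at this
  have hmem := h _ hy' _ hη'
  have hconj := EE.conj g (((g⁻¹ : GL (Fin n) F) : Matrix (Fin n) (Fin n) F) *ᵥ y) (dact g⁻¹ η)
  have e1 : (g : Matrix (Fin n) (Fin n) F) *ᵥ
      (((g⁻¹ : GL (Fin n) F) : Matrix (Fin n) (Fin n) F) *ᵥ y) = y := by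
    rw [Matrix.mulVec_mulVec, ← Units.val_mul, mul_inv_cancel, Units.val_one, Matrix.one_mulVec]
  have e2 : dact g (dact g⁻¹ η) = η := by
    rw [← EE.dact_mul, mul_inv_cancel, SPREADT.dact_one]
  rw [e1, e2] at hconj
  rw [← hconj]
  exact M.mul_mem (M.mul_mem hg hmem) (M.inv_mem hg)

namespace SPREADT

/-- transport along a block swap -/
theorem transport_swap (hD : Cfsg.Geo.IsMDecomposition m D) (M : Subgroup (GL (Fin n) F))
    (hHM : HH D ≤ M) {a b : Fin t} (hab : a ≠ b) {c d : Fin t}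
    (h : ∀ y ∈ D c, ∀ η ∈ Dl D d, EE y η ∈ M) :
    ∀ y ∈ D (Equiv.swap a b c), ∀ η ∈ Dl D (Equiv.swap a b d), EE y η ∈ M := by
  obtain ⟨s, hs, hmap⟩ := SWAP.exists hD a b hab
  exact SPREAD.transport hD M s (hHM hs) (Equiv.swap a b) hmap h

end SPREADT

/-- (`SPREAD.pair`, then `SPREAD.transport` along one or two block swaps from `SWAP.exists`) -/
theorem SPREAD.all (hD : Cfsg.Geo.IsMDecomposition m D) (hm : 2 ≤ m) (M : Subgroup (GL (Fin n) F))
    (hHM : HH D ≤ M) (hoff : OffIn D M) :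
    ∀ c d, c ≠ d → ∀ y ∈ D c, ∀ η ∈ Dl D d, EE y η ∈ M := by
  obtain ⟨c₀, d₀, x, χ, hcd₀, hx, hx0, hχ, hχ0, hT⟩ := hoff
  have h0 := SPREAD.pair hD hm M hHM hcd₀ hx hx0 hχ hχ0 hT
  intro c d hcd
  have h1 : ∃ d₁, d₁ ≠ c ∧ ∀ y ∈ D c, ∀ η ∈ Dl D d₁, EE y η ∈ M := by
    by_cases hc : c₀ = c
    · subst hc
      exact ⟨d₀, hcd₀.symm, h0⟩
    · refine ⟨Equiv.swap c₀ c d₀, ?_, ?_⟩
      · intro h
        have := congrArg (Equiv.swap c₀ c) h
        rw [Equiv.swap_apply_self, Equiv.swap_apply_right] at this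
        exact hcd₀ this.symm
      · have := SPREADT.transport_swap hD M hHM hc h0
        rwa [Equiv.swap_apply_left] at this
  obtain ⟨d₁, hd₁, h1⟩ := h1
  by_cases hd : d₁ = d
  · subst hd
    exact h1
  · have := SPREADT.transport_swap hD M hHM hd h1
    rwa [Equiv.swap_apply_of_ne_of_ne hd₁.symm hcd, Equiv.swap_apply_left] at this

end Cfsg.Agent.S5634P
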