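import Mathlib
import Cfsg.Prelude.Def_GeometricClasses
import Cfsg.Agent.Helper19.Mono.Defs
import Cfsg.Agent.Helper19.S5634MONOGRP
import Cfsg.Agent.Helper20.S5634ROWCLR

/-! S5634 (monomial half, driver helper19), piece ONECOL. -/

set_option autoImplicit false

namespace Cfsg.Agent.MonoP

open Matrix

variable {ι : Type} [Fintype ι] [DecidableEq ι] {K : Type*} [Field K] [Fintype K]

namespace ONECOL

/-- the monomial matrix `e_j ↦ d j • e_{σ j}` -/
def monoM (σ : Equiv.Perm ι) (d : ι → K) : Matrix ι ι K := fun i j => if i = σ j then d j else 0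

theorem monoM_mul (σ τ : Equiv.Perm ι) (d d' : ι → K) :
    monoM σ d * monoM τ d' = monoM (σ * τ) (fun j => d (τ j) * d' j) := by
  ext i j
  rw [Matrix.mul_apply]
  unfold monoM
  rw [Finset.sum_eq_single (τ j)]
  · rw [if_pos rfl]
    by_cases h : i = σ (τ j)
    · rw [if_pos h, if_pos (show i = (σ * τ) j from h)]
    · rw [if_neg h, if_neg (show ¬ i = (σ * τ) j from h), zero_mul]
  · intro l _ hl
    rw [if_neg hl, mul_zero]
  · intro h
    exact absurd (Finset.mem_univ _) h

theorem monoM_one : monoM (1 : Equiv.Perm ι) (fun _ => (1 : K)) = 1 := by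
  ext i j
  unfold monoM
  rw [Matrix.one_apply]
  by_cases h : i = j
  · rw [if_pos (show i = (1 : Equiv.Perm ι) j from h), if_pos h]
  · rw [if_neg (show ¬ i = (1 : Equiv.Perm ι) j from h), if_neg h]

/-- the monomial matrix as an element of `GL` -/
def monoGL (σ : Equiv.Perm ι) (d : ι → K) (hd : ∀ j, d j ≠ 0) : GL ι K :=
  ⟨monoM σ d, monoM σ⁻¹ (fun j => (d (σ⁻¹ j))⁻¹),
    by
      rw [monoM_mul, ← monoM_one]
      congr 1
      · simp
      · funext j
        exact mul_inv_cancel₀ (hd _),
    by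
      rw [monoM_mul, ← monoM_one]
      congr 1
      · simp
      · funext j
        show (d (σ⁻¹ (σ j)))⁻¹ * d j = 1
        rw [show σ⁻¹ (σ j) = j from σ.symm_apply_apply j]
        exact inv_mul_cancel₀ (hd _)⟩

theorem monoGL_val (σ : Equiv.Perm ι) (d : ι → K) (hd : ∀ j, d j ≠ 0) :
    ((monoGL σ d hd : GL ι K) : Matrix ι ι K) = monoM σ d := rfl

theorem isMono_monoM (σ : Equiv.Perm ι) (d : ι → K) : IsMono (monoM σ d) :=
  ⟨σ, fun i j h => if_neg h⟩

/-- products of `A`-supported matrices -/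
theorem suppOn_mul (A : Finset ι) {x y : Matrix ι ι K} (hx : SuppOn A x) (hy : SuppOn A y) :
    SuppOn A (x * y) := by
  intro i j hij
  rw [Matrix.mul_apply]
  by_cases hi : i ∉ A
  · have : ∀ l, x i l * y l j = (1 : Matrix ι ι K) i l * y l j := by
      intro l
      rw [hx i l (Or.inl hi)]
    simp only [this]
    rw [← Matrix.mul_apply, Matrix.one_mul]
    exact hy i j hij
  · have hj : j ∉ A := hij.resolve_left hi
    have : ∀ l, x i l * y l j = x i l * (1 : Matrix ι ι K) l j := by
      intro l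
      rw [hy l j (Or.inr hj)]
    simp only [this]
    rw [← Matrix.mul_apply, Matrix.mul_one]
    exact hx i j hij

end ONECOL

open ONECOL

theorem ONECOL.isMono (hK : 3 ≤ Fintype.card K) (H : Subgroup (GL ι K)) (hmon : MonoLE H) (hE : ¬ HasE H)
    (A : Finset ι)
    (ih : ∀ A' : Finset ι, A' ⊂ A → ∀ g' : GL ι K, g' ∈ H → SuppOn A' (g' : Matrix ι ι K) →
      IsMono (g' : Matrix ι ι K))
    (g : GL ι K) (hg : g ∈ H) (hA : SuppOn A (g : Matrix ι ι K)) (k : ι) (hk : k ∈ A) (k' : ι)
    (hcol : ∀ i, i ≠ k' → (g : Matrix ι ι K) i k = 0) : IsMono (g : Matrix ι ι K) := by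
  -- the entry `c`
  have hc : (g : Matrix ι ι K) k' k ≠ 0 := by
    intro h0
    have h1 : ((g⁻¹ : GL ι K) : Matrix ι ι K) * (g : Matrix ι ι K) = 1 := by
      rw [← Units.val_mul, inv_mul_cancel, Units.val_one]
    have h2 := congrFun (congrFun h1 k) k
    rw [Matrix.mul_apply, Matrix.one_apply_eq] at h2
    rw [Finset.sum_eq_zero] at h2
    · exact zero_ne_one h2
    · intro l _
      by_cases hl : l = k'
      · rw [hl, h0, mul_zero]
      · rw [hcol l hl, mul_zero]
  have hk' : k' ∈ A := by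
    by_contra hk'
    have := hA k' k (Or.inl hk')
    rw [Matrix.one_apply] at this
    by_cases h : k' = k
    · exact hk' (h ▸ hk)
    · rw [if_neg h] at this
      exact hc this
  set c := (g : Matrix ι ι K) k' k with hcdef
  -- the monomial matrix `n₁`
  let d : ι → K := Function.update (fun _ => (1 : K)) k' c⁻¹
  have hd : ∀ j, d j ≠ 0 := by
    intro j
    by_cases hj : j = k'
    · subst hj
      simp only [d, Function.update_self]
      exact inv_ne_zero hc
    · simp only [d, Function.update_of_ne hj]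
      exact one_ne_zero
  let n₁ : GL ι K := monoGL (Equiv.swap k k') d hd
  have hn₁ : n₁ ∈ H := hmon n₁ (isMono_monoM _ _)
  have hn₁A : SuppOn A (n₁ : Matrix ι ι K) := by
    intro i j hij
    show monoM (Equiv.swap k k') d i j = _
    unfold monoM
    rw [Matrix.one_apply]
    by_cases hj : j ∉ A
    · have hjk : j ≠ k := fun h => hj (h ▸ hk)
      have hjk' : j ≠ k' := fun h => hj (h ▸ hk')
      rw [Equiv.swap_apply_of_ne_of_ne hjk hjk']
      simp only [d, Function.update_of_ne hjk']
    · have hi : i ∉ A := hij.resolve_right hj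
      have hik : i ≠ k := fun h => hi (h ▸ hk)
      have hik' : i ≠ k' := fun h => hi (h ▸ hk')
      have hne : i ≠ j := fun h => hj (h ▸ hi)
      rw [if_neg hne, if_neg]
      intro h
      apply hne
      have := congrArg (Equiv.swap k k') h
      rw [Equiv.swap_apply_self, Equiv.swap_apply_of_ne_of_ne hik hik'] at this
      exact this
  -- `g₁ = n₁ * g`
  have hg₁ : n₁ * g ∈ H := H.mul_mem hn₁ hg
  have hg₁A : SuppOn A ((n₁ * g : GL ι K) : Matrix ι ι K) := by
    rw [Units.val_mul]
    exact suppOn_mul A hn₁A hA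
  have hcol₁ : ∀ i, ((n₁ * g : GL ι K) : Matrix ι ι K) i k = (1 : Matrix ι ι K) i k := by
    intro i
    rw [Units.val_mul, Matrix.mul_apply, Finset.sum_eq_single k']
    · show monoM (Equiv.swap k k') d i k' * c = _
      unfold monoM
      rw [Equiv.swap_apply_right, Matrix.one_apply]
      simp only [d, Function.update_self]
      by_cases hik : i = k
      · rw [if_pos hik, if_pos hik, inv_mul_cancel₀ hc]
      · rw [if_neg hik, if_neg hik, zero_mul]
    · intro l _ hl
      rw [hcol l hl, mul_zero]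
    · intro h
      exact absurd (Finset.mem_univ _) h
  have hrow₁ := ROWCLR.row_eq hK H hmon hE (n₁ * g) hg₁ k hcol₁
  have hg₁A' : SuppOn (A.erase k) ((n₁ * g : GL ι K) : Matrix ι ι K) := by
    intro i j hij
    by_cases hi : i = k
    · rw [hi]; exact hrow₁ j
    by_cases hj : j = k
    · rw [hj]; exact hcol₁ i
    apply hg₁A i j
    rcases hij with h | h
    · left
      intro hiA
      exact h (Finset.mem_erase.2 ⟨hi, hiA⟩)
    · right
      intro hjA
      exact h (Finset.mem_erase.2 ⟨hj, hjA⟩)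
  have hmono₁ : IsMono ((n₁ * g : GL ι K) : Matrix ι ι K) :=
    ih (A.erase k) (Finset.erase_ssubset hk) (n₁ * g) hg₁ hg₁A'
  obtain ⟨N, hN⟩ := MONOGRP.exists_subgroup (ι := ι) (K := K)
  have h1 : n₁ ∈ N := (hN n₁).2 (isMono_monoM _ _)
  have h2 : n₁ * g ∈ N := (hN _).2 hmono₁
  have h3 : g = n₁⁻¹ * (n₁ * g) := by group
  rw [h3]
  exact (hN _).1 (N.mul_mem (N.inv_mem h1) h2)

end Cfsg.Agent.MonoP
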