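import Cfsg.Agent.Helper24.S5637.Defs

set_option autoImplicit false
set_option linter.unusedSectionVars false
set_option linter.unusedVariables false

namespace Cfsg.Agent.S5637P

open Matrix Kronecker Cfsg.Agent.Helper28.SLMax Cfsg.Agent.S5634P
open scoped MatrixGroups

variable {F : Type*} [Field F] {n a b : ℕ} (e : Fin n ≃ Fin a × Fin b)

/-- inverse action of `g = 1 + j_w θ` when `θ` kills `V_w` -/
theorem ISOCOMM.inv_act {w : Fin b → F} {g : GL (Fin n) F} (θ : (Fin n → F) →ₗ[F] (Fin a → F))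
    (hθ1 : ∀ x : Fin n → F, (g : Matrix (Fin n) (Fin n) F) *ᵥ x = x + tn e (θ x) w)
    (hθ2 : ∀ u : Fin a → F, θ (tn e u w) = 0) (x : Fin n → F) :
    ((g⁻¹ : GL (Fin n) F) : Matrix (Fin n) (Fin n) F) *ᵥ x = x - tn e (θ x) w := by
  have h1 : (g : Matrix (Fin n) (Fin n) F) *ᵥ (x - tn e (θ x) w) = x := by
    rw [hθ1, map_sub, hθ2, sub_zero]
    abel
  have h2 : ((g⁻¹ : GL (Fin n) F) : Matrix (Fin n) (Fin n) F) *ᵥ
      ((g : Matrix (Fin n) (Fin n) F) *ᵥ (x - tn e (θ x) w)) = x - tn e (θ x) w := by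
    rw [Matrix.mulVec_mulVec, ← Units.val_mul, inv_mul_cancel, Units.val_one, Matrix.one_mulVec]
  rw [h1] at h2
  exact h2

theorem ISOCOMM (M : Subgroup (GL (Fin n) F)) (hM : HS e ≤ M) {w : Fin b → F}
    {g : GL (Fin n) F} (hg : g ∈ M) (θ : (Fin n → F) →ₗ[F] (Fin a → F))
    (hθ1 : ∀ x : Fin n → F, (g : Matrix (Fin n) (Fin n) F) *ᵥ x = x + tn e (θ x) w)
    (hθ2 : ∀ u : Fin a → F, θ (tn e u w) = 0) (w₁ ψ' : Fin b → F) (h1 : ψ' ⬝ᵥ w = 0)
    (h2 : ψ' ⬝ᵥ w₁ = 0) :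
    GG e (LinearMap.toMatrix' (θ.comp (jw e w₁))) w ψ' ∈ M := by
  have h2n : (-ψ') ⬝ᵥ w₁ = 0 := by rw [neg_dotProduct, h2, neg_zero]
  have hh : XR e w₁ (-ψ') ∈ M := hM (XR_mem_HS e h2n)
  have hh' : XR e w₁ ψ' ∈ M := hM (XR_mem_HS e h2)
  have key : GG e (LinearMap.toMatrix' (θ.comp (jw e w₁))) w ψ' =
      XR e w₁ (-ψ') * g * XR e w₁ ψ' * g⁻¹ := by
    apply EE.ext_act
    intro x
    rw [GG_mulVec e _ h1]
    simp only [Units.val_mul]
    rw [← Matrix.mulVec_mulVec, ← Matrix.mulVec_mulVec, ← Matrix.mulVec_mulVec,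
      ISOCOMM.inv_act e θ hθ1 hθ2 x, XR_mulVec e h2, hθ1, XR_mulVec e h2n]
    -- simplify the contractions
    have c1 : cps e ψ' (x - tn e (θ x) w) = cps e ψ' x := by
      rw [map_sub, cps_tn, h1, zero_smul, sub_zero]
    rw [c1]
    set c := cps e ψ' x with hc
    have hA : (LinearMap.toMatrix' (θ.comp (jw e w₁))) *ᵥ c = θ (tn e c w₁) := by
      rw [← Matrix.toLin'_apply, Matrix.toLin'_toMatrix']
      rfl
    have c2 : θ (x - tn e (θ x) w + tn e c w₁) = θ x + θ (tn e c w₁) := by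
      rw [map_add, map_sub, hθ2, sub_zero]
    rw [c2, hA]
    set d := θ (tn e c w₁) with hd
    have c3 : cps e (-ψ') (x - tn e (θ x) w + tn e c w₁ + tn e (θ x + d) w) = -c := by
      rw [cps_neg, map_add, map_add, map_sub, cps_tn, cps_tn, cps_tn, h1, h2, zero_smul, zero_smul,
        zero_smul, sub_zero, add_zero, add_zero]
    rw [c3, tn_add_left, tn_neg_left]
    abel
  rw [key]
  exact M.mul_mem (M.mul_mem (M.mul_mem hh hg) hh') (M.inv_mem hg)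

end Cfsg.Agent.S5637P
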