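import Cfsg.Agent.Helper24.S5637.Defs
import Cfsg.Agent.Helper21.S5637LIB1

set_option autoImplicit false
set_option linter.unusedSectionVars false
set_option linter.unusedVariables false

namespace Cfsg.Agent.S5637P

open Matrix Kronecker Cfsg.Agent.Helper28.SLMax Cfsg.Agent.S5634P
open scoped MatrixGroups

variable {F : Type*} [Field F] {n a b : ℕ} (e : Fin n ≃ Fin a × Fin b)

theorem STARLIN.inv_fix {w : Fin b → F} (B : GL (Fin b) F)
    (hBw : (B : Matrix (Fin b) (Fin b) F) *ᵥ w = w) :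
    ((B⁻¹ : GL (Fin b) F) : Matrix (Fin b) (Fin b) F) *ᵥ w = w := by
  have h : ((B⁻¹ : GL (Fin b) F) : Matrix (Fin b) (Fin b) F) *ᵥ
      ((B : Matrix (Fin b) (Fin b) F) *ᵥ w) = w := by
    rw [Matrix.mulVec_mulVec, ← Units.val_mul, inv_mul_cancel, Units.val_one, Matrix.one_mulVec]
  rw [hBw] at h
  exact h

theorem STARLIN {w : Fin b → F} (hw : w ≠ 0) (m : GL (Fin n) F) (α : GL (Fin a) F)
    (B : GL (Fin b) F)
    (hα : ∀ u : Fin a → F,
      (m : Matrix (Fin n) (Fin n) F) *ᵥ tn e u w = tn e ((α : Matrix (Fin a) (Fin a) F) *ᵥ u) w)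
    (hBw : (B : Matrix (Fin b) (Fin b) F) *ᵥ w = w)
    (hB : ∀ φ : Fin b → F, φ ⬝ᵥ w = 0 → ∀ x : Fin n → F,
      cps e φ ((m : Matrix (Fin n) (Fin n) F) *ᵥ x) =
        (α : Matrix (Fin a) (Fin a) F) *ᵥ cps e (φ ᵥ* (B : Matrix (Fin b) (Fin b) F)) x) :
    UniAt e w ((krg e α B)⁻¹ * m) := by
  have hBi := STARLIN.inv_fix B hBw
  have hinvV : ∀ y ∈ Vw e w,
      (((krg e α B)⁻¹ : GL (Fin n) F) : Matrix (Fin n) (Fin n) F) *ᵥ y ∈ Vw e w := by
    intro y hy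
    obtain ⟨u, rfl⟩ := (mem_Vw e).mp hy
    rw [krg_inv, krg_mulVec_tn, hBi]
    exact tn_mem_Vw e _ _
  constructor
  · intro x
    have hdiff : (m : Matrix (Fin n) (Fin n) F) *ᵥ x -
        ((krg e α B : GL (Fin n) F) : Matrix (Fin n) (Fin n) F) *ᵥ x ∈ Vw e w := by
      rw [LIB1 e hw]
      intro ψ hψ
      rw [map_sub, hB ψ hψ x, krg_val, cps_kr, sub_self]
    have hx : (((krg e α B)⁻¹ * m : GL (Fin n) F) : Matrix (Fin n) (Fin n) F) *ᵥ x - x =
        (((krg e α B)⁻¹ : GL (Fin n) F) : Matrix (Fin n) (Fin n) F) *ᵥ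
          ((m : Matrix (Fin n) (Fin n) F) *ᵥ x -
            ((krg e α B : GL (Fin n) F) : Matrix (Fin n) (Fin n) F) *ᵥ x) := by
      rw [Matrix.mulVec_sub, Matrix.mulVec_mulVec, Matrix.mulVec_mulVec, ← Units.val_mul, ← Units.val_mul,
        inv_mul_cancel, Units.val_one, Matrix.one_mulVec]
    rw [hx]
    exact hinvV _ hdiff
  · intro x hx
    obtain ⟨u, rfl⟩ := (mem_Vw e).mp hx
    rw [Units.val_mul, ← Matrix.mulVec_mulVec, hα, krg_inv, krg_mulVec_tn, hBi, Matrix.mulVec_mulVec,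
      ← Units.val_mul, inv_mul_cancel, Units.val_one, Matrix.one_mulVec]

end Cfsg.Agent.S5637P
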