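import Mathlib
import Cfsg.Agent.Helper9.S5650.Defs
import Cfsg.Agent.Helper9.S5650.Lib

/-! S5650 piece FULLODD (driver helper9): polarisation: `(om u v)² c ∈ F₀` for all rational `u` ⇒ `v` is
proportional to a rational vector (`2 ≠ 0`). -/

set_option autoImplicit false

namespace Cfsg.Agent.S5650P

open Matrix Cfsg.Agent.Helper28

variable {F : Type*} [Field F] {m : ℕ}

namespace FULLODD

theorem om_f_left (x : Vec m F) (i : Fin m) : om (f i) x = x (Sum.inl i) := by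
  rw [om_swap, om_f_right, neg_neg]

theorem om_e_left (x : Vec m F) (i : Fin m) : om (e i) x = - x (Sum.inr i) := by
  rw [om_swap, om_e_right]

theorem two_mem (F₀ : Subfield F) : (2 : F) ∈ F₀ := by
  have : (2 : F) = 1 + 1 := by norm_num
  rw [this]
  exact F₀.add_mem F₀.one_mem F₀.one_mem

/-- the polarisation step -/
theorem key (h2 : (2 : F) ≠ 0) (F₀ : Subfield F) {v : Vec m F} {c : F}
    (h : ∀ u : Vec m F, Rat F₀ u → om u v ^ 2 * c ∈ F₀) {u₁ : Vec m F} (hu₁ : Rat F₀ u₁)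
    {u : Vec m F} (hu : Rat F₀ u) : om u₁ v * c * om u v ∈ F₀ := by
  have h1 := h (u₁ + u) (hu₁.add hu)
  have h3 := h u₁ hu₁
  have h4 := h u hu
  have e : om (u₁ + u) v = om u₁ v + om u v := sympForm_add_left _ _ _
  rw [e] at h1
  have h5 : 2 * (om u₁ v * c * om u v) ∈ F₀ := by
    have : 2 * (om u₁ v * c * om u v) =
        (om u₁ v + om u v) ^ 2 * c - om u₁ v ^ 2 * c - om u v ^ 2 * c := by ring
    rw [this]
    exact F₀.sub_mem (F₀.sub_mem h1 h3) h4
  have : om u₁ v * c * om u v = 2⁻¹ * (2 * (om u₁ v * c * om u v)) := by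
    rw [← mul_assoc, inv_mul_cancel₀ h2, one_mul]
  rw [this]
  exact F₀.mul_mem (F₀.inv_mem (two_mem F₀)) h5

/-- the conclusion from a rational `u₁` with `om u₁ v ≠ 0` -/
theorem prat_of (h2 : (2 : F) ≠ 0) (F₀ : Subfield F) {v : Vec m F} {c : F} (hc : c ≠ 0)
    (h : ∀ u : Vec m F, Rat F₀ u → om u v ^ 2 * c ∈ F₀) {u₁ : Vec m F} (hu₁ : Rat F₀ u₁)
    (hne : om u₁ v ≠ 0) : PRat F₀ v := by
  refine ⟨om u₁ v * c, mul_ne_zero hne hc, ?_⟩
  intro k
  rcases k with i | i
  · have := key h2 F₀ h hu₁ (Rat.basis_f F₀ i)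
    rw [om_f_left] at this
    exact this
  · have := key h2 F₀ h hu₁ (Rat.basis_e F₀ i)
    rw [om_e_left, mul_neg] at this
    have h' := F₀.neg_mem this
    rw [neg_neg] at h'
    exact h'

end FULLODD

theorem FULLODD.prat (h2 : (2 : F) ≠ 0) (F₀ : Subfield F) {v : Vec m F} {c : F} (hc : c ≠ 0)
    (h : ∀ u : Vec m F, Rat F₀ u → om u v ^ 2 * c ∈ F₀) : PRat F₀ v := by
  by_cases hv : v = 0
  · refine ⟨1, one_ne_zero, ?_⟩
    rw [hv, smul_zero]
    exact Rat.zero F₀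
  · have : ∃ k, v k ≠ 0 := by
      by_contra hcon
      push Not at hcon
      exact hv (funext hcon)
    obtain ⟨k, hk⟩ := this
    rcases k with i | i
    · apply FULLODD.prat_of h2 F₀ hc h (Rat.basis_f F₀ i)
      rw [FULLODD.om_f_left]
      exact hk
    · apply FULLODD.prat_of h2 F₀ hc h (Rat.basis_e F₀ i)
      rw [FULLODD.om_e_left]
      exact neg_ne_zero.2 hk

end Cfsg.Agent.S5650P
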