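import Mathlib
import Cfsg.Agent.Helper9.S5650.Defs
import Cfsg.Agent.Helper9.S5650.Lib

/-! S5650 piece RANKNULL (driver helper9): pigeonhole: a rational nonzero vector orthogonal to `v`. -/

set_option autoImplicit false

namespace Cfsg.Agent.S5650P

open Matrix Cfsg.Agent.Helper28

variable {F : Type*} [Field F] {m : ℕ}

theorem RANKNULL.exists_perp [Fintype F] (F₀ : Subfield F)
    (hlt : Fintype.card F < Nat.card F₀ ^ (2 * m)) (v : Vec m F) :
    ∃ b : Vec m F, Rat F₀ b ∧ b ≠ 0 ∧ om v b = 0 := by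
  classical
  have : Fintype ↥F₀ := Fintype.ofFinite _
  have hcard : Fintype.card (Fin m ⊕ Fin m → ↥F₀) = Nat.card F₀ ^ (2 * m) := by
    rw [Fintype.card_fun, Fintype.card_sum, Fintype.card_fin, Nat.card_eq_fintype_card, two_mul]
  obtain ⟨b₁, b₂, hne, heq⟩ := Fintype.exists_ne_map_eq_of_card_lt
    (fun b₀ : Fin m ⊕ Fin m → ↥F₀ => om v (fun i => ((b₀ i : ↥F₀) : F))) (by rw [hcard]; exact hlt)
  refine ⟨(fun i => ((b₁ i : ↥F₀) : F)) - (fun i => ((b₂ i : ↥F₀) : F)), ?_, ?_, ?_⟩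
  · intro i
    exact F₀.sub_mem (b₁ i).2 (b₂ i).2
  · intro h
    apply hne
    funext i
    have := congrFun h i
    simp only [Pi.sub_apply, Pi.zero_apply, sub_eq_zero] at this
    exact Subtype.ext this
  · have e : Cfsg.sympForm m F v ((fun i => ((b₁ i : ↥F₀) : F)) - (fun i => ((b₂ i : ↥F₀) : F))) =
        Cfsg.sympForm m F v (fun i => ((b₁ i : ↥F₀) : F)) -
          Cfsg.sympForm m F v (fun i => ((b₂ i : ↥F₀) : F)) := sympForm_sub_right _ _ _
    show Cfsg.sympForm m F v _ = 0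
    rw [e, sub_eq_zero]
    exact heq

end Cfsg.Agent.S5650P
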