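import Mathlib
import Cfsg.Prelude.Def_GeometricClasses
import Cfsg.Agent.Helper29.S5655.Defs

/-! # S5655, half `k ≥ 2`, piece LINE: isotropic combinations of two non-orthogonal members of `SS` -/

set_option autoImplicit false

namespace Cfsg.Agent.S5655P

open Matrix Module
open Cfsg.Agent.S2644 Cfsg.Agent.Helper2.SUGen Cfsg.Agent.Helper28.SimMax Cfsg.Agent.S5658P

variable {K : Type*} [Field K] {q n t k : ℕ}

local notation "h" => Cfsg.hermForm n K q
local notation "T" => Cfsg.unitaryTransvection n q

/-- `SS` is closed under scalars -/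
theorem LINE.smul_mem (D : Frob K q) {M : Subgroup (Matrix.GeneralLinearGroup (Fin n) K)}
    {v : Fin n → K} (hv : v ∈ SS D M) (a : K) : a • v ∈ SS D M := by
  refine ⟨?_, fun c hc => ?_⟩
  · rw [h_smul_left, h_smul_right D, hv.1, mul_zero, mul_zero]
  · rw [T_smul D]
    apply hv.2
    rw [map_mul, map_mul, D.invol, hc]
    ring

theorem LINE.mem (D : Frob K q) {B : Fin t → Submodule K (Fin n → K)}
    {M : Subgroup (Matrix.GeneralLinearGroup (Fin n) K)} (hM : Over q B M) {a b : Fin n → K}
    (ha : a ∈ SS D M) (hb : b ∈ SS D M) (hab : h a b ≠ 0) (α β : K)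
    (hw : h (α • a + β • b) (α • a + β • b) = 0) : α • a + β • b ∈ SS D M := by
  by_cases hα : α = 0
  · subst hα
    rw [zero_smul, zero_add]
    exact LINE.smul_mem D hb β
  have hσα : D.σ α ≠ 0 := σ_ne_zero D hα
  have hσab : D.σ (h a b) ≠ 0 := σ_ne_zero D hab
  -- the relation given by `hw`
  have hrel : α * D.σ β * h a b + β * D.σ α * D.σ (h a b) = 0 := by
    have e := hw
    have haa := ha.1
    have hbb := hb.1
    have hba : h b a = D.σ (h a b) := (h_conj D b a).symm
    simp only [h_add_left, h_add_right D, h_smul_left, h_smul_right D, haa, hbb, hba] at e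
    linear_combination e
  set c₁ : K := β / (α * h a b) with hc₁def
  have hc₁ : D.σ c₁ = -c₁ := by
    rw [hc₁def, map_div₀, map_mul]
    field_simp
    linear_combination hrel
  have hc₁ab : c₁ * h a b = β / α := by
    rw [hc₁def]
    field_simp
  have hTb : T b c₁ ∈ MS M := hb.2 c₁ hc₁
  have hsum : α • a + β • b = α • (a + (c₁ * h a b) • b) := by
    rw [hc₁ab, smul_add, smul_smul, mul_div_cancel₀ _ hα]
  have ha' : a + (c₁ * h a b) • b ∈ SS D M := by
    refine ⟨?_, fun c hc => ?_⟩
    · have e : a + (c₁ * h a b) • b = α⁻¹ • (α • a + β • b) := by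
        rw [hsum, smul_smul, inv_mul_cancel₀ hα, one_smul]
      rw [e, h_smul_left, h_smul_right D, hw, mul_zero, mul_zero]
    · have := MS_conj_T D hM.le hTb (ha.2 c hc)
      rwa [T_mulVec] at this
  rw [hsum]
  exact LINE.smul_mem D ha' α

end Cfsg.Agent.S5655P
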