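import Mathlib
import Cfsg.Prelude.Def_GeometricClasses
import Cfsg.Agent.Helper29.S5655.Defs
import Cfsg.Agent.Helper18.S5655BLINE
import Cfsg.Agent.Helper23.S5655BSSB
import Cfsg.Agent.Helper4.S5655BGSPLIT2
import Cfsg.Agent.Helper16.S5655BHSUM

/-! # S5655, half `k ≥ 2`, piece GENP: all isotropic vectors are in `SS` -/

set_option autoImplicit false

namespace Cfsg.Agent.S5655P

open Matrix Module
open Cfsg.Agent.S2644 Cfsg.Agent.Helper2.SUGen Cfsg.Agent.Helper28.SimMax Cfsg.Agent.S5658P

variable {K : Type*} [Field K] {q n t k : ℕ}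

local notation "h" => Cfsg.hermForm n K q
local notation "T" => Cfsg.unitaryTransvection n q

open Classical in
/-- the induction on the number of non-zero components -/
theorem GENP.aux [Fintype K] (D : Frob K q) (hK : Fintype.card K = q ^ 2)
    {B : Fin t → Submodule K (Fin n → K)} (hB : UD q k B)
    {M : Subgroup (Matrix.GeneralLinearGroup (Fin n) K)} (hM : Over q B M) (h3 : 3 ≤ k ∨ 3 ≤ q)
    (hP : ∀ a b : Fin t, a ≠ b → AllPair D B M a b) :
    ∀ m : ℕ, ∀ c : Fin t → (Fin n → K), (∀ i, c i ∈ B i) →
      (Finset.univ.filter (fun i => c i ≠ 0)).card ≤ m → h (∑ i, c i) (∑ i, c i) = 0 →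
      ∑ i, c i ∈ SS D M := by
  intro m
  induction m with
  | zero =>
    intro c hc hcard hvv
    have hall : ∀ i, c i = 0 := by
      intro i
      by_contra hi
      have : i ∈ Finset.univ.filter (fun i => c i ≠ 0) := by simp [hi]
      rw [Finset.card_eq_zero.1 (Nat.le_zero.1 hcard)] at this
      exact absurd this (Finset.notMem_empty i)
    rw [Finset.sum_eq_zero (fun i _ => hall i)]
    exact SSB.zero D M
  | succ m ih =>
    intro c hc hcard hvv
    by_cases htwo : ∃ a b : Fin t, a ≠ b ∧ c a ≠ 0 ∧ c b ≠ 0
    · obtain ⟨a, b, hab, hca, hcb⟩ := htwo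
      have hdim : 2 ≤ finrank K (B b) := by rw [hB.finrank_eq]; exact hB.two_le_k
      have h3' : 3 ≤ finrank K (B b) ∨ 3 ≤ q := by rw [hB.finrank_eq]; exact h3
      obtain ⟨e₁, he₁, e₂, he₂, he12, hν₁, hν₂, hne⟩ :=
        GSPLIT2.exists D hK (hB.nd b) hdim h3' (hc b) hcb (-(h (c a) (c a)))
          (h (c b) (c b) + h (c a) (c a))
          (by rw [map_neg, h_self_fix D]) (by rw [map_add, h_self_fix D, h_self_fix D]) (by ring)
      -- the pair part
      have hu₁ : c a + e₁ ∈ SS D M := hP a b hab (c a) (hc a) e₁ he₁ (by rw [hν₁]; ring)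
      -- the rest
      set c' : Fin t → (Fin n → K) :=
        fun i => c i - (if i = a then c a else 0) - (if i = b then e₁ else 0) with hc'def
      have hc'a : c' a = 0 := by
        show c a - (if a = a then c a else 0) - (if a = b then e₁ else 0) = 0
        rw [if_pos rfl, if_neg hab, sub_self, sub_zero]
      have hc'b : c' b = e₂ := by
        show c b - (if b = a then c a else 0) - (if b = b then e₁ else 0) = e₂
        rw [if_pos rfl, if_neg (Ne.symm hab), sub_zero, ← he12]; abel
      have hc'o : ∀ i, i ≠ a → i ≠ b → c' i = c i := by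
        intro i hia hib
        show c i - (if i = a then c a else 0) - (if i = b then e₁ else 0) = c i
        rw [if_neg hia, if_neg hib, sub_zero, sub_zero]
      have hc'mem : ∀ i, c' i ∈ B i := by
        intro i
        by_cases hia : i = a
        · subst hia; rw [hc'a]; exact (B _).zero_mem
        by_cases hib : i = b
        · subst hib; rw [hc'b]; exact he₂
        rw [hc'o i hia hib]; exact hc i
      have hsum' : ∑ i, c' i = ∑ i, c i - (c a + e₁) := by
        simp only [hc'def, Finset.sum_sub_distrib, Finset.sum_ite_eq', Finset.mem_univ, if_true]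
        abel
      have hcard' : (Finset.univ.filter (fun i => c' i ≠ 0)).card ≤ m := by
        have hsub : Finset.univ.filter (fun i => c' i ≠ 0) ⊆
            (Finset.univ.filter (fun i => c i ≠ 0)).erase a := by
          intro i hi
          rw [Finset.mem_filter] at hi
          rw [Finset.mem_erase, Finset.mem_filter]
          have hia : i ≠ a := by
            rintro rfl
            exact hi.2 hc'a
          refine ⟨hia, Finset.mem_univ _, ?_⟩
          by_cases hib : i = b
          · subst hib; exact hcb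
          · rw [← hc'o i hia hib]; exact hi.2
        have hamem : a ∈ Finset.univ.filter (fun i => c i ≠ 0) := by simp [hca]
        have := Finset.card_le_card hsub
        rw [Finset.card_erase_of_mem hamem] at this
        omega
      -- values of the form
      have h12 : h (c a + e₁) (∑ i, c' i) = h e₁ e₂ := by
        rw [h_add_left, (HSUM.h_mem_sum D hB hc'mem (hc a)).1, (HSUM.h_mem_sum D hB hc'mem he₁).1,
          hc'a, hc'b, h_zero_right D, zero_add]
      have h21 : h (∑ i, c' i) (c a + e₁) = h e₂ e₁ := by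
        rw [h_add_right D, (HSUM.h_mem_sum D hB hc'mem (hc a)).2, (HSUM.h_mem_sum D hB hc'mem he₁).2,
          hc'a, hc'b, h_zero_left, zero_add]
      have hrel : h e₁ e₂ + h e₂ e₁ = 0 := by
        have e : h (c b) (c b) = h e₁ e₁ + h e₁ e₂ + (h e₂ e₁ + h e₂ e₂) := by
          rw [← he12, h_add_left, h_add_right D, h_add_right D]
        rw [hν₁, hν₂] at e
        linear_combination -e
      have hv : ∑ i, c i = (c a + e₁) + ∑ i, c' i := by rw [hsum']; abel
      have hu₂u₂ : h (∑ i, c' i) (∑ i, c' i) = 0 := by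
        have key : ∀ u₁ u₂ : Fin n → K, h u₁ u₁ = 0 → h (u₁ + u₂) (u₁ + u₂) = 0 →
            h u₂ u₂ = -(h u₁ u₂ + h u₂ u₁) := by
          intro u₁ u₂ h1 h2
          rw [h_add_left, h_add_right D, h_add_right D, h1] at h2
          linear_combination h2
        have e := hvv
        rw [hv] at e
        rw [key _ _ hu₁.1 e, h12, h21, hrel, neg_zero]
      have hu₂ : ∑ i, c' i ∈ SS D M := ih c' hc'mem hcard' hu₂u₂
      have hne' : h (c a + e₁) (∑ i, c' i) ≠ 0 := by rw [h12]; exact hne
      have e1 : (1 : K) • (c a + e₁) + (1 : K) • ∑ i, c' i = ∑ i, c i := by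
        rw [one_smul, one_smul, ← hv]
      have := LINE.mem D hM hu₁ hu₂ hne' 1 1 (by rw [e1]; exact hvv)
      rwa [e1] at this
    · push Not at htwo
      by_cases hall : ∀ i, c i = 0
      · rw [Finset.sum_eq_zero (fun i _ => hall i)]
        exact SSB.zero D M
      · push Not at hall
        obtain ⟨a, ha⟩ := hall
        have hs : ∑ i, c i = c a := by
          rw [Finset.sum_eq_single a (fun b _ hba => ?_) (fun hna => absurd (Finset.mem_univ a) hna)]
          exact htwo a b (Ne.symm hba) ha
        rw [hs] at hvv ⊢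
        exact SSB.pure D hB hM (hc a) hvv

theorem GENP.all [Fintype K] (D : Frob K q) (hK : Fintype.card K = q ^ 2)
    {B : Fin t → Submodule K (Fin n → K)} (hB : UD q k B)
    {M : Subgroup (Matrix.GeneralLinearGroup (Fin n) K)} (hM : Over q B M) (h3 : 3 ≤ k ∨ 3 ≤ q)
    (hP : ∀ a b : Fin t, a ≠ b → AllPair D B M a b) :
    ∀ v : Fin n → K, h v v = 0 → v ∈ SS D M := by
  classical
  intro v hvv
  obtain ⟨c, hc, hsum⟩ := hB.dec v
  rw [← hsum] at hvv ⊢
  exact GENP.aux D hK hB hM h3 hP _ c hc le_rfl hvv

end Cfsg.Agent.S5655P
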