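import Mathlib
import Cfsg.Prelude.Def_GeometricClasses
import Cfsg.Agent.Helper29.S5655.Defs
import Cfsg.Agent.Helper18.S5655BLINE
import Cfsg.Agent.Helper23.S5655BSSB
import Cfsg.Agent.Helper29.S5655BGEO1
import Cfsg.Agent.Helper16.S5655BHSUM

/-! # S5655, half `k ≥ 2`, piece REDUCE: a mixed vector with two isotropic components (`q ≥ 3`) -/

set_option autoImplicit false

namespace Cfsg.Agent.S5655P

open Matrix Module
open Cfsg.Agent.S2644 Cfsg.Agent.Helper2.SUGen Cfsg.Agent.Helper28.SimMax Cfsg.Agent.S5658P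

variable {K : Type*} [Field K] {q n t k : ℕ}

local notation "h" => Cfsg.hermForm n K q
local notation "T" => Cfsg.unitaryTransvection n q

/-- two distinct non-zero components of a vector lying in no block -/
theorem REDUCE.two_comp {B : Fin t → Submodule K (Fin n → K)} (ht : 2 ≤ t)
    {c : Fin t → (Fin n → K)} (hc : ∀ i, c i ∈ B i) (hmix : ∀ j, ∑ i, c i ∉ B j) :
    ∃ a b : Fin t, a ≠ b ∧ c a ≠ 0 ∧ c b ≠ 0 := by
  classical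
  by_contra hcon
  push Not at hcon
  by_cases hall : ∀ i, c i = 0
  · apply hmix ⟨0, by omega⟩
    rw [Finset.sum_eq_zero (fun i _ => hall i)]
    exact (B _).zero_mem
  · push Not at hall
    obtain ⟨a, ha⟩ := hall
    apply hmix a
    rw [Finset.sum_eq_single a (fun b _ hba => ?_) (fun hna => absurd (Finset.mem_univ a) hna)]
    · exact hc a
    · exact hcon a b (Ne.symm hba) ha

/-- a non-zero fixed element `l` with `N₁ + l * N₂ ≠ 0` -/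
theorem REDUCE.exists_lam [Fintype K] (D : Frob K q) (hK : Fintype.card K = q ^ 2) (hq : 3 ≤ q)
    (N₁ N₂ : K) (hN₂ : N₂ ≠ 0) : ∃ l : K, l ≠ 0 ∧ D.σ l = l ∧ N₁ + l * N₂ ≠ 0 := by
  by_cases h1 : N₁ + N₂ = 0
  · obtain ⟨l, hl0, hl1, hfix⟩ := exists_fixed_ne D hK (by omega : 2 < q)
    refine ⟨l, hl0, hfix, ?_⟩
    have : N₁ + l * N₂ = (l - 1) * N₂ := by linear_combination h1
    rw [this]
    exact mul_ne_zero (sub_ne_zero.2 hl1) hN₂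
  · exact ⟨1, one_ne_zero, map_one _, by rwa [one_mul]⟩

theorem REDUCE.exists_pair [Fintype K] (D : Frob K q) (hK : Fintype.card K = q ^ 2)
    {B : Fin t → Submodule K (Fin n → K)} (hB : UD q k B)
    {M : Subgroup (Matrix.GeneralLinearGroup (Fin n) K)} (hM : Over q B M) (hq : 3 ≤ q)
    {v₀ : Fin n → K} (hv₀ : v₀ ∈ SS D M) (hmix : ∀ j, v₀ ∉ B j) :
    ∃ a b : Fin t, a ≠ b ∧ ∃ x ∈ B a, ∃ y ∈ B b, x ≠ 0 ∧ y ≠ 0 ∧ h x x = 0 ∧ h y y = 0 ∧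
      x + y ∈ SS D M := by
  obtain ⟨c, hc, hsum⟩ := hB.dec v₀
  have hmix' : ∀ j, ∑ i, c i ∉ B j := by rw [hsum]; exact hmix
  obtain ⟨a, b, hab, hca, hcb⟩ := REDUCE.two_comp hB.two_le_t hc hmix'
  have hdim : ∀ i, 2 ≤ finrank K (B i) := fun i => by rw [hB.finrank_eq]; exact hB.two_le_k
  obtain ⟨x₁, hx₁, hx₁x₁, hβ₁⟩ := GEO1.exists_iso_ne D hK (hB.nd a) (hdim a) (hc a) hca
  obtain ⟨x₂, hx₂, hx₂x₂, hβ₂⟩ := GEO1.exists_iso_ne D hK (hB.nd b) (hdim b) (hc b) hcb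
  set β₁ : K := h (c a) x₁ with hβ₁def
  set β₂ : K := h (c b) x₂ with hβ₂def
  have hv₀x₁ : h v₀ x₁ = β₁ := by rw [← hsum]; exact (HSUM.h_mem_sum D hB hc hx₁).2
  have hv₀x₂ : h v₀ x₂ = β₂ := by rw [← hsum]; exact (HSUM.h_mem_sum D hB hc hx₂).2
  have hx₂x₁ : h x₂ x₁ = 0 := hB.orth b a (Ne.symm hab) x₂ hx₂ x₁ hx₁
  have hx₁x₂ : h x₁ x₂ = 0 := hB.orth a b hab x₁ hx₁ x₂ hx₂
  -- the parameters
  obtain ⟨s₀, hs₀, hs₀skew⟩ := exists_skew D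
  have hN₂ : β₂ * D.σ β₂ ≠ 0 := mul_ne_zero hβ₂ (σ_ne_zero D hβ₂)
  obtain ⟨l, hl0, hlfix, hlne⟩ := REDUCE.exists_lam D hK hq (β₁ * D.σ β₁) (β₂ * D.σ β₂) hN₂
  have hs₂skew : D.σ (l * s₀) = -(l * s₀) := by rw [map_mul, hlfix, hs₀skew]; ring
  have hx₁SS : x₁ ∈ SS D M := SSB.pure D hB hM hx₁ hx₁x₁
  have hx₂SS : x₂ ∈ SS D M := SSB.pure D hB hM hx₂ hx₂x₂
  have hA₁ : T x₁ s₀ ∈ MS M := hx₁SS.2 s₀ hs₀skew
  have hA₂ : T x₂ (l * s₀) ∈ MS M := hx₂SS.2 (l * s₀) hs₂skew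
  have hv₁ : T x₂ (l * s₀) *ᵥ v₀ ∈ SS D M := SSB.map D hM hv₀ hA₂
  have hv₁eq : T x₂ (l * s₀) *ᵥ v₀ = v₀ + (l * s₀ * β₂) • x₂ := by rw [T_mulVec, hv₀x₂]
  rw [hv₁eq] at hv₁
  have hv₂ : T x₁ s₀ *ᵥ (v₀ + (l * s₀ * β₂) • x₂) ∈ SS D M := SSB.map D hM hv₁ hA₁
  have hv₂eq : T x₁ s₀ *ᵥ (v₀ + (l * s₀ * β₂) • x₂) =
      v₀ + (l * s₀ * β₂) • x₂ + (s₀ * β₁) • x₁ := by
    rw [T_mulVec, h_add_left, h_smul_left, hv₀x₁, hx₂x₁, mul_zero, add_zero]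
  rw [hv₂eq] at hv₂
  set x : Fin n → K := (s₀ * β₁) • x₁ with hxdef
  set y : Fin n → K := (l * s₀ * β₂) • x₂ with hydef
  have hxB : x ∈ B a := (B a).smul_mem _ hx₁
  have hyB : y ∈ B b := (B b).smul_mem _ hx₂
  have hx₁0 : x₁ ≠ 0 := by
    rintro rfl
    exact hβ₁ (h_zero_right D _)
  have hx₂0 : x₂ ≠ 0 := by
    rintro rfl
    exact hβ₂ (h_zero_right D _)
  have hx0 : x ≠ 0 := smul_ne_zero (mul_ne_zero hs₀ hβ₁) hx₁0
  have hy0 : y ≠ 0 := smul_ne_zero (mul_ne_zero (mul_ne_zero hl0 hs₀) hβ₂) hx₂0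
  have hxx : h x x = 0 := by rw [hxdef, h_smul_left, h_smul_right D, hx₁x₁, mul_zero, mul_zero]
  have hyy : h y y = 0 := by rw [hydef, h_smul_left, h_smul_right D, hx₂x₂, mul_zero, mul_zero]
  have hxy : h x y = 0 := hB.orth a b hab x hxB y hyB
  have hyx : h y x = 0 := hB.orth b a (Ne.symm hab) y hyB x hxB
  have e : (-1 : K) • v₀ + (1 : K) • (v₀ + y + x) = x + y := by
    rw [one_smul, neg_one_smul]; abel
  have hne : h v₀ (v₀ + y + x) ≠ 0 := by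
    rw [h_add_right D, h_add_right D, hv₀.1, hxdef, hydef, h_smul_right D, h_smul_right D, hv₀x₁,
      hv₀x₂]
    simp only [map_mul, hlfix, hs₀skew, zero_add]
    have : l * -s₀ * D.σ β₂ * β₂ + -s₀ * D.σ β₁ * β₁ =
        -s₀ * (β₁ * D.σ β₁ + l * (β₂ * D.σ β₂)) := by ring
    rw [this]
    exact mul_ne_zero (neg_ne_zero.2 hs₀) hlne
  have hw : h ((-1 : K) • v₀ + (1 : K) • (v₀ + y + x)) ((-1 : K) • v₀ + (1 : K) • (v₀ + y + x)) = 0 := by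
    rw [e, h_add_left, h_add_right D, h_add_right D, hxx, hyy, hxy, hyx]
    ring
  have hmem := LINE.mem D hM hv₀ hv₂ hne (-1) 1 hw
  rw [e] at hmem
  exact ⟨a, b, hab, x, hxB, y, hyB, hx0, hy0, hxx, hyy, hmem⟩

end Cfsg.Agent.S5655P
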