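import Mathlib
import Cfsg.Prelude.Def_GeometricClasses
import Cfsg.Agent.Helper29.S5655.Defs
import Cfsg.Agent.Helper23.S5655BSSB
import Cfsg.Agent.Helper29.S5655BGEO1
import Cfsg.Agent.Helper4.S5655BGEO2
import Cfsg.Agent.Helper19.S5655BGEO3
import Cfsg.Agent.Helper16.S5655BHSUM

/-! # S5655, half `k ≥ 2`, piece STEP0: a mixed vector in `SS` -/

set_option autoImplicit false

namespace Cfsg.Agent.S5655P

open Matrix Module
open Cfsg.Agent.S2644 Cfsg.Agent.Helper2.SUGen Cfsg.Agent.Helper28.SimMax Cfsg.Agent.S5658P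

variable {K : Type*} [Field K] {q n t k : ℕ}

local notation "h" => Cfsg.hermForm n K q
local notation "T" => Cfsg.unitaryTransvection n q

theorem STEP0.exists_mixed [Fintype K] (D : Frob K q) (hK : Fintype.card K = q ^ 2)
    {B : Fin t → Submodule K (Fin n → K)} (hB : UD q k B)
    {M : Subgroup (Matrix.GeneralLinearGroup (Fin n) K)} (hM : Over q B M)
    (g : Matrix.GeneralLinearGroup (Fin n) K) (hg : g ∈ M)
    (hnot : ¬ StabM B (g : Matrix (Fin n) (Fin n) K)) :
    ∃ v ∈ SS D M, ∀ j, v ∉ B j := by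
  by_contra hcon
  push Not at hcon
  apply hnot
  set A : Matrix (Fin n) (Fin n) K := (g : Matrix (Fin n) (Fin n) K) with hAdef
  have hA : A ∈ MS M := ⟨g, hg, rfl⟩
  have hP : Pres (q := q) A := pres_of_MS hM.le hA
  have hinj : ∀ x y : Fin n → K, A *ᵥ x = A *ᵥ y → x = y := by
    intro x y hxy
    have e := congrArg (fun z => ((g⁻¹ : Matrix.GeneralLinearGroup (Fin n) K) :
      Matrix (Fin n) (Fin n) K) *ᵥ z) hxy
    simp only [mulVec_mulVec, hAdef, inv_mul_coe, one_mulVec] at e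
    exact e
  have hdim : ∀ i, 2 ≤ finrank K (B i) := fun i => by rw [hB.finrank_eq]; exact hB.two_le_k
  -- Step 1: images of isotropic block vectors lie in blocks
  have h1 : ∀ i, ∀ x ∈ B i, h x x = 0 → ∃ j, A *ᵥ x ∈ B j := fun i x hx hxx =>
    hcon _ (SSB.map D hM (SSB.pure D hB hM hx hxx) hA)
  -- Step 2: base points
  have h2 : ∀ i, ∃ x ∈ B i, h x x = 0 ∧ x ≠ 0 := fun i => GEO1.exists_iso D hK (hB.nd i) (hdim i)
  choose x0 hx0B hx0iso hx0ne using h2
  have h2' : ∀ i, ∃ j, A *ᵥ x0 i ∈ B j := fun i => h1 i _ (hx0B i) (hx0iso i)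
  choose π hπ using h2'
  -- Step 3: non-orthogonal isotropic vectors go to the same block
  have h3 : ∀ i, ∀ x ∈ B i, ∀ y ∈ B i, h x x = 0 → h y y = 0 → h x y ≠ 0 →
      ∀ j, A *ᵥ x ∈ B j → A *ᵥ y ∈ B j := by
    intro i x hx y hy hxx hyy hxy j hj
    obtain ⟨j', hj'⟩ := h1 i y hy hyy
    by_cases hjj : j = j'
    · rw [hjj]; exact hj'
    · exfalso
      apply hxy
      rw [← hP x y]
      exact hB.orth j j' hjj _ hj _ hj'
  -- Step 4: all isotropic vectors of `B i` go to `B (π i)`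
  have h4 : ∀ i, ∀ y ∈ B i, h y y = 0 → A *ᵥ y ∈ B (π i) := by
    intro i y hy hyy
    by_cases hy0 : y = 0
    · rw [hy0, mulVec_zero]; exact (B (π i)).zero_mem
    rcases GEO2.iso_conn D hK (hB.nd i) (hdim i) (hx0B i) hy (hx0iso i) hyy (hx0ne i) hy0 with
      hne | ⟨z, hz, hzz, hxz, hzy⟩
    · exact h3 i _ (hx0B i) y hy (hx0iso i) hyy hne _ (hπ i)
    · have hz' := h3 i _ (hx0B i) z hz (hx0iso i) hzz hxz _ (hπ i)
      exact h3 i z hz y hy hzz hyy hzy _ hz'
  -- Step 5: the whole block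
  have h5 : ∀ i, ∀ y ∈ B i, A *ᵥ y ∈ B (π i) := by
    intro i y hy
    have hspan := GEO3.iso_span D hK (hB.nd i) (hdim i) y hy
    have hle : Submodule.span K {x : Fin n → K | x ∈ B i ∧ h x x = 0} ≤
        (B (π i)).comap A.mulVecLin := by
      apply Submodule.span_le.2
      rintro x ⟨hx, hxx⟩
      exact h4 i x hx hxx
    exact hle hspan
  -- Step 6: `π` is injective
  have hAinj : Function.Injective A.mulVecLin := fun x y hxy => hinj x y hxy
  have hmap : ∀ i, (B i).map A.mulVecLin = B (π i) := by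
    intro i
    apply Submodule.eq_of_le_of_finrank_eq
    · rintro _ ⟨y, hy, rfl⟩
      exact h5 i y hy
    · rw [← (Submodule.equivMapOfInjective A.mulVecLin hAinj (B i)).finrank_eq, hB.finrank_eq,
        hB.finrank_eq]
  have hπinj : Function.Injective π := by
    intro i i' hii
    by_contra hne
    have hmem : A *ᵥ x0 i' ∈ (B i).map A.mulVecLin := by
      rw [hmap i, hii]
      exact hπ i'
    obtain ⟨y, hy, hyeq⟩ := hmem
    have : y = x0 i' := hinj _ _ hyeq
    rw [this] at hy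
    exact hne (HSUM.idx_eq D hB hy (hx0B i') (hx0ne i'))
  have hπbij : Function.Bijective π := Finite.injective_iff_bijective.1 hπinj
  exact ⟨Equiv.ofBijective π hπbij, fun i x hx => h5 i x hx⟩

end Cfsg.Agent.S5655P
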