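import Mathlib
import Cfsg.Agent.Helper28.S5658.Defs
import Cfsg.Agent.Helper28.S5658.Lib
import Cfsg.Agent.Helper1.S5639Final
import Cfsg.Agent.Helper22.S5658HYPB
import Cfsg.Agent.Helper24.S5658HYPB2

/-! S5658 piece PROPER: `SU` is not contained in `K^* GL_n(F₀)`. -/

set_option autoImplicit false

namespace Cfsg.Agent.S5658P

open Matrix
open Cfsg.Agent.S2644 Cfsg.Agent.Helper2.SUGen Cfsg.Agent.Helper28.SimMax Cfsg.Agent.S5639P

variable {K : Type*} [Field K] {q n : ℕ}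

local notation "h" => Cfsg.hermForm n K q
local notation "T" => Cfsg.unitaryTransvection n q

namespace PROPER

/-- an element fixed by `σ` outside `F₀` -/
theorem exists_fixed_not_mem [Fintype K] (D : Frob K q) (F₀ : Subfield K)
    (hθ : ∃ θ ∈ F₀, D.σ θ ≠ θ) (r : ℕ) (hr : r.Prime)
    (hcard : Fintype.card K = Nat.card F₀ ^ r) : ∃ κ : K, D.σ κ = κ ∧ κ ∉ F₀ := by
  by_contra hcon
  push Not at hcon
  obtain ⟨θ, hθF, hθne⟩ := hθ
  obtain ⟨x, hx⟩ := Cfsg.Agent.S5639P.FINAL.exists_not_mem F₀ r hr hcard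
  apply hx
  have hd : θ - D.σ θ ≠ 0 := sub_ne_zero.2 (fun e => hθne e.symm)
  -- `x = a + b θ` with `a`, `b` fixed
  have hb : D.σ ((x - D.σ x) * (θ - D.σ θ)⁻¹) = (x - D.σ x) * (θ - D.σ θ)⁻¹ := by
    rw [map_mul, map_inv₀, map_sub, map_sub, D.invol, D.invol]
    have e1 : D.σ x - x = -(x - D.σ x) := by ring
    have e2 : D.σ θ - θ = -(θ - D.σ θ) := by ring
    rw [e1, e2, inv_neg, neg_mul_neg]
  have ha : D.σ (x - (x - D.σ x) * (θ - D.σ θ)⁻¹ * θ) =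
      x - (x - D.σ x) * (θ - D.σ θ)⁻¹ * θ := by
    rw [map_sub, map_mul, hb]
    field_simp
    ring
  have hbF := hcon _ hb
  have haF := hcon _ ha
  have e : x = (x - (x - D.σ x) * (θ - D.σ θ)⁻¹ * θ) + (x - D.σ x) * (θ - D.σ θ)⁻¹ * θ := by ring
  rw [e]
  exact F₀.add_mem haF (F₀.mul_mem hbF hθF)

theorem exists_coord_ne_zero {x : Fin n → K} (hx : x ≠ 0) : ∃ i, x i ≠ 0 := by
  by_contra hcon
  push Not at hcon
  exact hx (funext hcon)

/-- a scalar which makes a non-zero rational vector rational is rational -/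
theorem mem_of_rat_smul (F₀ : Subfield K) {z : K} {x : Fin n → K} (hx : Rat F₀ x) (hx0 : x ≠ 0)
    (hzx : Rat F₀ (z • x)) : z ∈ F₀ := by
  obtain ⟨i, hi⟩ := exists_coord_ne_zero hx0
  have h1 : z * x i ∈ F₀ := hzx i
  have h2 : z = z * x i * (x i)⁻¹ := by
    rw [mul_assoc, mul_inv_cancel₀ hi, mul_one]
  rw [h2]
  exact F₀.mul_mem h1 (F₀.inv_mem (hx i))

end PROPER

open PROPER

/-- PROPER (S-M; uses HYPB2.exists_pair, HYPB.exists_partner) -/
theorem PROPER.exists_not_inN [Fintype K] (hn : 13 ≤ n) (D : Frob K q) (F₀ : Subfield K)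
    (hθ : ∃ θ ∈ F₀, D.σ θ ≠ θ) (r : ℕ) (hr : r.Prime)
    (hcard : Fintype.card K = Nat.card F₀ ^ r) :
    ∃ g : Matrix.GeneralLinearGroup (Fin n) K,
      g ∈ Cfsg.GU n K q ⊓ Cfsg.Geo.specialLinear (Fin n) K ∧
        ¬ InN F₀ (g : Matrix (Fin n) (Fin n) K) := by
  obtain ⟨u, w, hu, hw, huu, hww, hwu, hi⟩ := HYPB2.exists_pair hn D F₀ hθ
  have hu0 : u ≠ 0 := hi.ne_zero 0
  have hw0 : w ≠ 0 := hi.ne_zero 1
  obtain ⟨f, hf, hff, hfu, huf⟩ := HYPB.exists_partner D F₀ hθ hu hu0 huu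
  obtain ⟨κ, hκ, hκF⟩ := exists_fixed_not_mem D F₀ hθ r hr hcard
  obtain ⟨s₀, hs₀F, hs₀0, hs₀⟩ := exists_rat_skew D F₀ hθ
  -- the skew element `c = κ s₀ ∉ F₀`
  have hc : D.σ (κ * s₀) = -(κ * s₀) := by
    rw [map_mul, hκ, hs₀, mul_neg]
  have hcF : κ * s₀ ∉ F₀ := by
    intro hmem
    apply hκF
    have e : κ = κ * s₀ * s₀⁻¹ := by rw [mul_assoc, mul_inv_cancel₀ hs₀0, mul_one]
    rw [e]
    exact F₀.mul_mem hmem (F₀.inv_mem hs₀F)
  refine ⟨toGL (T u (κ * s₀)) (T u (-(κ * s₀))) (T_mul_neg huu _) (T_neg_mul huu _), ?_, ?_⟩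
  · rw [mem_G_iff, toGL_val]
    exact ⟨pres_T D huu hc, det_T D huu _⟩
  · rw [toGL_val]
    rintro ⟨z, hz, hR⟩
    -- applied to `w`
    have h1 : Rat F₀ (z • w) := by
      have h2 := RatM.mulVec hR hw
      rw [Matrix.smul_mulVec, T_mulVec, hwu, mul_zero, zero_smul, add_zero] at h2
      exact h2
    have hzF : z ∈ F₀ := mem_of_rat_smul F₀ hw hw0 h1
    -- applied to `f`
    have h3 : Rat F₀ (z • (f + (κ * s₀) • u)) := by
      have h2 := RatM.mulVec hR hf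
      rw [Matrix.smul_mulVec, T_mulVec, hfu, mul_one] at h2
      exact h2
    have h4 : Rat F₀ (f + (κ * s₀) • u) := by
      have h5 := Cfsg.Agent.S5639P.Rat.smul (F₀.inv_mem hzF) h3
      rw [smul_smul, inv_mul_cancel₀ hz, one_smul] at h5
      exact h5
    have h6 : Rat F₀ ((κ * s₀) • u) := by
      have h7 := Cfsg.Agent.S5639P.Rat.sub h4 hf
      rw [add_sub_cancel_left] at h7
      exact h7
    exact hcF (mem_of_rat_smul F₀ hu hu0 h6)

end Cfsg.Agent.S5658P
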