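import Mathlib
import Cfsg.Agent.Helper28.S5658.Defs
import Cfsg.Agent.Helper28.S5658.Lib

/-! S5658 piece RSUB: the elements of `RSet` are rational, lie in `M`, and move every vector inside
`⟨u₀, w₀⟩`. -/

set_option autoImplicit false

namespace Cfsg.Agent.S5658P

open Matrix
open Cfsg.Agent.S2644 Cfsg.Agent.Helper2.SUGen Cfsg.Agent.Helper28.SimMax Cfsg.Agent.S5639P

variable {K : Type*} [Field K] {q n : ℕ}

local notation "h" => Cfsg.hermForm n K q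
local notation "T" => Cfsg.unitaryTransvection n q

namespace RSUB

/-- the action of an element of `RSet` -/
theorem mulVec' (D : Frob K q) {u₀ w₀ : Fin n → K} (huu : h u₀ u₀ = 0) (hww : h w₀ w₀ = 0)
    (hwu : h w₀ u₀ = 0) (s s' c : K) (z : Fin n → K) :
    (T u₀ s * T w₀ s' * S q u₀ w₀ c) *ᵥ z =
      z + (s * h z u₀ - D.σ c * h z w₀) • u₀ + (s' * h z w₀ + c * h z u₀) • w₀ := by
  have huw : h u₀ w₀ = 0 := h_symm_zero D hwu
  rw [← Matrix.mulVec_mulVec, ← Matrix.mulVec_mulVec, S_mulVec D, T_mulVec, T_mulVec]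
  simp only [h_add_left, h_sub_left, h_smul_left, huu, hww, hwu, huw, mul_zero, add_zero, sub_zero]
  module

end RSUB

/-- RSUB (S-M): the elements of `RSet` are rational, lie in `M`, and move every vector inside `⟨u₀, w₀⟩`. -/
theorem RSUB.sub_mem (D : Frob K q) (F₀ : Subfield K) {u₀ w₀ : Fin n → K} (huu : h u₀ u₀ = 0)
    (hww : h w₀ w₀ = 0) (hwu : h w₀ u₀ = 0) {A : Matrix (Fin n) (Fin n) K}
    (hA : A ∈ RSet D F₀ u₀ w₀) (z : Fin n → K) : A *ᵥ z - z ∈ Submodule.span K {u₀, w₀} := by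
  obtain ⟨s, s', c, -, -, -, -, -, rfl⟩ := hA
  rw [RSUB.mulVec' D huu hww hwu, add_assoc, add_sub_cancel_left]
  apply Submodule.add_mem
  · exact Submodule.smul_mem _ _ (Submodule.subset_span (Set.mem_insert _ _))
  · exact Submodule.smul_mem _ _ (Submodule.subset_span (Set.mem_insert_of_mem _ rfl))

theorem RSUB.ratM (D : Frob K q) (F₀ : Subfield K) {u₀ w₀ : Fin n → K} (hu : Rat F₀ u₀)
    (hw : Rat F₀ w₀) {A : Matrix (Fin n) (Fin n) K} (hA : A ∈ RSet D F₀ u₀ w₀) : RatM F₀ A := by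
  obtain ⟨s, s', c, hs, hs', hc, -, -, rfl⟩ := hA
  exact RatM.mul (RatM.mul (RatM.T F₀ hu hs) (RatM.T F₀ hw hs')) (RatM.S F₀ hu hw hc)

theorem RSUB.le (D : Frob K q) (F₀ : Subfield K)
    (M : Subgroup (Matrix.GeneralLinearGroup (Fin n) K)) (hRat : HasRatSU q F₀ M)
    {u₀ w₀ : Fin n → K} (hu : Rat F₀ u₀) (hw : Rat F₀ w₀) (huu : h u₀ u₀ = 0) (hww : h w₀ w₀ = 0)
    (hwu : h w₀ u₀ = 0) : Rgrp D F₀ u₀ w₀ ≤ M := by
  unfold Rgrp
  rw [Subgroup.closure_le]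
  intro g hg
  obtain ⟨s, s', c, hs, hs', hc, hss, hss', hgA⟩ := hg
  have h1 : T u₀ s * T w₀ s' * S q u₀ w₀ c ∈ MS M :=
    MS_mul (MS_mul (T_mem_of_hasRatSU D hRat hu huu hs hss) (T_mem_of_hasRatSU D hRat hw hww hs' hss'))
      (S_mem_of_hasRatSU D hRat hu hw huu hww hwu hc)
  obtain ⟨g', hg', hgg'⟩ := h1
  have : g = g' := by
    apply Units.ext
    rw [hgg', hgA]
  rw [SetLike.mem_coe, this]
  exact hg'

end Cfsg.Agent.S5658P
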