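import Mathlib
import Cfsg.Agent.Helper28.S5658.Defs
import Cfsg.Agent.Helper28.S5658.Lib
import Cfsg.Agent.Helper5.S5658PERP

/-! S5658 piece XRAT: a rational matrix moving every vector inside `⟨u₀, w₀, v⟩`, `v` not orthogonal to
any rational isotropic point, moves every vector inside `⟨u₀, w₀⟩`. -/

set_option autoImplicit false

namespace Cfsg.Agent.S5658P

open Matrix
open Cfsg.Agent.S2644 Cfsg.Agent.Helper2.SUGen Cfsg.Agent.Helper28.SimMax Cfsg.Agent.S5639P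

variable {K : Type*} [Field K] {q n : ℕ}

local notation "h" => Cfsg.hermForm n K q
local notation "T" => Cfsg.unitaryTransvection n q

namespace XRAT

/-- the case of a rational vector `z` -/
theorem sub_mem_of_rat [Finite K] (hn : 13 ≤ n) (D : Frob K q) (F₀ : Subfield K)
    (hθ : ∃ θ ∈ F₀, D.σ θ ≠ θ) {u₀ w₀ v : Fin n → K} (hu : Rat F₀ u₀) (hw : Rat F₀ w₀)
    (hstar : ∀ b : Fin n → K, Rat F₀ b → b ≠ 0 → h b b = 0 → h v b ≠ 0)
    {A : Matrix (Fin n) (Fin n) K} (hA : RatM F₀ A)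
    (hsub : ∀ z, A *ᵥ z - z ∈ Submodule.span K {u₀, w₀, v}) {z : Fin n → K} (hz : Rat F₀ z) :
    A *ᵥ z - z ∈ Submodule.span K {u₀, w₀} := by
  have hx : Rat F₀ (A *ᵥ z - z) := Cfsg.Agent.S5639P.Rat.sub (RatM.mulVec hA hz) hz
  obtain ⟨a, b, c, habc⟩ := Submodule.mem_span_triple.1 (hsub z)
  obtain ⟨b', hb', hb'0, hb'b', h1, h2, h3⟩ := PERP.exists_perp3 hn D F₀ hθ hx hu hw
  have h1' : h (A *ᵥ z - z) b' = 0 := h_symm_zero D h1
  have h2' : h u₀ b' = 0 := h_symm_zero D h2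
  have h3' : h w₀ b' = 0 := h_symm_zero D h3
  rw [← habc, h_add_left, h_add_left, h_smul_left, h_smul_left, h_smul_left, h2', h3', mul_zero,
    mul_zero, zero_add, zero_add] at h1'
  have hc : c = 0 := by
    rcases mul_eq_zero.1 h1' with hc | hc
    · exact hc
    · exact absurd hc (hstar b' hb' hb'0 hb'b')
  rw [← habc, hc, zero_smul, add_zero]
  exact Submodule.mem_span_pair.2 ⟨a, b, rfl⟩

end XRAT

/-- XRAT (S-M; uses PERP) -/
theorem XRAT.sub_mem [Finite K] (hn : 13 ≤ n) (D : Frob K q) (F₀ : Subfield K)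
    (hθ : ∃ θ ∈ F₀, D.σ θ ≠ θ) {u₀ w₀ v : Fin n → K} (hu : Rat F₀ u₀) (hw : Rat F₀ w₀)
    (hstar : ∀ b : Fin n → K, Rat F₀ b → b ≠ 0 → h b b = 0 → h v b ≠ 0)
    {A : Matrix (Fin n) (Fin n) K} (hA : RatM F₀ A)
    (hsub : ∀ z, A *ᵥ z - z ∈ Submodule.span K {u₀, w₀, v}) (z : Fin n → K) :
    A *ᵥ z - z ∈ Submodule.span K {u₀, w₀} := by
  have key : ∀ i : Fin n, A *ᵥ (Pi.single i 1 : Fin n → K) - Pi.single i 1 ∈
      Submodule.span K {u₀, w₀} := fun i =>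
    XRAT.sub_mem_of_rat hn D F₀ hθ hu hw hstar hA hsub (Cfsg.Agent.S5639P.Rat.single i F₀.one_mem)
  have e : A *ᵥ z - z = ∑ i, z i • (A *ᵥ (Pi.single i 1 : Fin n → K) - Pi.single i 1) := by
    have hz : z = ∑ i, z i • (Pi.single i 1 : Fin n → K) := pi_eq_sum_univ' z
    conv_lhs => rw [hz]
    rw [Matrix.mulVec_sum, ← Finset.sum_sub_distrib]
    apply Finset.sum_congr rfl
    intro i _
    rw [Matrix.mulVec_smul, smul_sub]
  rw [e]
  exact Submodule.sum_mem _ (fun i _ => Submodule.smul_mem _ _ (key i))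

end Cfsg.Agent.S5658P
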