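import Mathlib
import Cfsg.Prelude.Def_GeometricClasses
import Cfsg.Agent.Helper2.S5886.Defs
import Cfsg.Agent.Helper2.S5664.Defs
import Cfsg.Agent.Helper19.S5664SPTRANS

/-! # S5664 piece TVALL: one `F`-transvection of `trf B` in `M` gives all of them -/

set_option autoImplicit false

namespace Cfsg.Agent.S5664P

open Cfsg.Agent.S5886P

variable {F K V : Type*} [Field F] [Field K] [Algebra F K]
  [AddCommGroup V] [Module F V] [Module K V] [IsScalarTower F K V]

namespace TVALL

theorem B_smul_right (B : V →ₗ[K] V →ₗ[K] K) (c : F) (x u : V) : B x (c • u) = c • B x u := by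
  rw [← algebraMap_smul K c u, map_smul, algebraMap_smul]

theorem trf_smul_right (B : V →ₗ[K] V →ₗ[K] K) (c : F) (x u : V) :
    trf F B x (c • u) = c * trf F B x u := by
  unfold trf
  rw [B_smul_right, map_smul, smul_eq_mul]

theorem trf_add_left (B : V →ₗ[K] V →ₗ[K] K) (x y u : V) :
    trf F B (x + y) u = trf F B x u + trf F B y u := by
  unfold trf
  rw [map_add, LinearMap.add_apply, map_add]

theorem trf_smulK_left (B : V →ₗ[K] V →ₗ[K] K) (c : F) (x u : V) :
    trf F B (c • x) u = c * trf F B x u := by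
  unfold trf
  have h1 : B (c • x) u = c • B x u := by
    rw [← algebraMap_smul K c x, map_smul, LinearMap.smul_apply, algebraMap_smul]
  rw [h1, map_smul, smul_eq_mul]

theorem trf_self (B : V →ₗ[K] V →ₗ[K] K) (hB : IsAltND B) (u : V) : trf F B u u = 0 := by
  unfold trf
  rw [hB.alt, map_zero]

/-- every element of a finite field is a sum of two squares -/
theorem sum_two_sq [Finite F] (c : F) : ∃ a b : F, a ^ 2 + b ^ 2 = c := by
  classical
  have := Fintype.ofFinite F
  by_cases hF : ringChar F = 2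
  · obtain ⟨r, hr⟩ := FiniteField.isSquare_of_char_two hF c
    exact ⟨r, 0, by rw [hr]; ring⟩
  · open Polynomial in
    obtain ⟨a, b, hab⟩ : ∃ a b, (X ^ 2 : F[X]).eval a + (X ^ 2 - C c : F[X]).eval b = 0 :=
      FiniteField.exists_root_sum_quadratic (degree_X_pow 2)
        (degree_X_pow_sub_C (by decide) _) (FiniteField.odd_card_of_char_ne_two hF)
    refine ⟨a, b, ?_⟩
    rw [← sub_eq_zero]
    simpa only [Polynomial.eval_C, Polynomial.eval_X, Polynomial.eval_pow, Polynomial.eval_sub,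
      ← add_sub_assoc] using hab

/-- the transvection with centre `w` lies in `M` -/
theorem exists_centre [Finite F] [Finite K] [Finite V] (B : V →ₗ[K] V →ₗ[K] K) (hB : IsAltND B)
    (M : Subgroup (V ≃ₗ[F] V)) (hK : SpK F B ≤ M) (v : V) (hv : v ≠ 0)
    (g₀ : V ≃ₗ[F] V) (hg₀ : g₀ ∈ M) (hg₀v : ∀ x, g₀ x = x + trf F B x v • v) (w : V) :
    ∃ g₁ ∈ M, ∀ x, g₁ x = x + trf F B x w • w := by
  by_cases hw : w = 0
  · refine ⟨1, M.one_mem, fun x => ?_⟩
    rw [hw, smul_zero, add_zero]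
    rfl
  · obtain ⟨s, hs, hsv⟩ := SPTRANS (F := F) B hB v w hv hw
    have hsM : s ∈ M := hK hs
    obtain ⟨hs1, hs2⟩ := hs
    refine ⟨s * g₀ * s⁻¹, M.mul_mem (M.mul_mem hsM hg₀) (M.inv_mem hsM), fun x => ?_⟩
    have e : s (s⁻¹ x) = x := by
      show s (s.symm x) = x
      exact s.apply_symm_apply x
    have h1 : trf F B (s⁻¹ x) v = trf F B x w := by
      unfold trf
      rw [← hs2 (s⁻¹ x) v, e, hsv]
    simp only [LinearEquiv.mul_apply]
    rw [hg₀v, map_add, e, map_smul, hsv, h1]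

end TVALL

/-- TVALL (M): `SPTRANS` gives `s ∈ SpK ≤ M`, `s v = u`: `s g₀ s⁻¹ x = x + trf x u • u` (`s` preserves `trf`). For `e : F`: the same with `e • u`: `x ↦ x + e² trf x u • u`. Products add the coefficients; every element of a finite field is a sum of two squares (`FiniteField.exists_sq_add_sq` or similar), so all `c` are reached. (`g` is determined by its formula: ext.) -/
theorem TVALL [Finite F] [Finite K] [Finite V] (B : V →ₗ[K] V →ₗ[K] K) (hB : IsAltND B)
    (M : Subgroup (V ≃ₗ[F] V)) (hK : SpK F B ≤ M) (hM : M ≤ SpF F B) (v : V) (hv : v ≠ 0)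
    (g₀ : V ≃ₗ[F] V) (hg₀ : g₀ ∈ M) (hg₀v : ∀ x, g₀ x = x + trf F B x v • v)
    (u : V) (c : F) (g : V ≃ₗ[F] V) (hg : ∀ x, g x = x + (c * trf F B x u) • u) : g ∈ M := by
  obtain ⟨a, b, hab⟩ := TVALL.sum_two_sq c
  obtain ⟨g₁, hg₁M, hg₁⟩ := TVALL.exists_centre B hB M hK v hv g₀ hg₀ hg₀v (a • u)
  obtain ⟨g₂, hg₂M, hg₂⟩ := TVALL.exists_centre B hB M hK v hv g₀ hg₀ hg₀v (b • u)
  have hgg : g = g₁ * g₂ := by
    apply LinearEquiv.ext
    intro x
    rw [LinearEquiv.mul_apply, hg₁, hg₂, hg]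
    simp only [TVALL.trf_add_left, TVALL.trf_smul_right, TVALL.trf_smulK_left,
      TVALL.trf_self B hB, mul_zero]
    rw [← hab]
    module
  rw [hgg]
  exact M.mul_mem hg₁M hg₂M

end Cfsg.Agent.S5664P
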