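import Mathlib
import Cfsg.Prelude.Def_GeometricClasses
import Cfsg.Agent.Helper18.S5707.Defs

set_option autoImplicit false

namespace Cfsg.Agent.S5707P

open Matrix

variable {F : Type*} [Field F] {k t : ℕ}

theorem COMM.formula [CharP F 2] {ι : Type*} [Fintype ι] [DecidableEq ι] (P R : Matrix ι ι F)
    (hP : P * P = 0) (hR : R * R = 0) (hPRP : P * R * P = 0) (hRPR : R * P * R = 0) :
    (1 + P) * (1 + R) * (1 + P) * (1 + R) = 1 + (P * R + R * P) := by
  have h2 : ∀ M : Matrix ι ι F, M + M = 0 := fun M => Matrix.ext fun i j => CharTwo.add_self_eq_zero (M i j)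
  have e1 : (1 + P) * (1 + R) = 1 + P + R + P * R := by
    rw [Matrix.add_mul, Matrix.mul_add, Matrix.mul_add, Matrix.one_mul, Matrix.one_mul, Matrix.mul_one]
    abel
  have hPRPR : P * R * (P * R) = 0 := by
    rw [← Matrix.mul_assoc, hPRP, Matrix.zero_mul]
  have e2 : (1 + P + R + P * R) * (1 + P + R + P * R) = 1 + (P * R + R * P) := by
    have hRP_ : R * (P * R) = 0 := by rw [← Matrix.mul_assoc]; exact hRPR
    have hPR_P : P * R * P = 0 := hPRP
    have hPPR : P * (P * R) = 0 := by rw [← Matrix.mul_assoc, hP, Matrix.zero_mul]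
    have hPRR : P * R * R = 0 := by rw [Matrix.mul_assoc, hR, Matrix.mul_zero]
    simp only [Matrix.add_mul, Matrix.mul_add, Matrix.one_mul, Matrix.mul_one, hP, hR, hPRPR, hRP_, hPR_P,
      hPPR, hPRR, add_zero]
    have : 1 + P + R + P * R + (P + R * P) + (R + P * R) + P * R
        = 1 + (P * R + R * P) + (P + P) + (R + R) + (P * R + P * R) := by abel
    rw [this, h2, h2, h2, add_zero, add_zero, add_zero]
  rw [Matrix.mul_assoc ((1 + P) * (1 + R)), e1, e2]

theorem COMM.mem_omegaGL [CharP F 2] {Q : (X k t → F) → F} (P R : Matrix (X k t) (X k t) F)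
    (hP : P * P = 0) (hR : R * R = 0) (hPRP : P * R * P = 0) (hRPR : R * P * R = 0)
    (hN : (P * R + R * P) * (P * R + R * P) = 0)
    (hiP : invo P hP ∈ Cfsg.isometryGroup F Q) (hiR : invo R hR ∈ Cfsg.isometryGroup F Q) :
    invo (P * R + R * P) hN ∈ Cfsg.Geo.omegaGL Q := by
  unfold Cfsg.Geo.omegaGL
  let a : ↥(Cfsg.isometryGroup F Q) := ⟨invo P hP, hiP⟩
  let b : ↥(Cfsg.isometryGroup F Q) := ⟨invo R hR, hiR⟩
  refine ⟨a * b * a⁻¹ * b⁻¹, ?_, ?_⟩
  · have := Subgroup.commutator_mem_commutator (Subgroup.mem_top a) (Subgroup.mem_top b)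
    rw [commutatorElement_def] at this
    exact this
  · apply Units.ext
    show ((invo P hP * invo R hR * (invo P hP)⁻¹ * (invo R hR)⁻¹ : GL (X k t) F) : Matrix (X k t) (X k t) F) = _
    have hPi : (invo P hP)⁻¹ = invo P hP := by
      apply Units.ext; rfl
    have hRi : (invo R hR)⁻¹ = invo R hR := by
      apply Units.ext; rfl
    rw [hPi, hRi]
    simp only [Units.val_mul]
    show (1 + P) * (1 + R) * (1 + P) * (1 + R) = 1 + (P * R + R * P)
    exact COMM.formula P R hP hR hPRP hRPR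

end Cfsg.Agent.S5707P
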