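import Mathlib
import Cfsg.Prelude.Def_GeometricClasses
import Cfsg.Agent.Helper18.S5707.Defs
import Cfsg.Agent.Helper20.S5707TENS
import Cfsg.Agent.Helper18.S5707COMM
import Cfsg.Agent.Helper6.S5707ISOMEM

set_option autoImplicit false

namespace Cfsg.Agent.S5707P

open Matrix

variable {F : Type*} [Field F] {k t : ℕ}

theorem K2YOMEGA.invo_congr [CharP F 2] {N N' : Matrix (X k t) (X k t) F} (h : N = N') (hN : N * N = 0)
    (hN' : N' * N' = 0) : invo N hN = invo N' hN' := by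
  subst h
  rfl

theorem K2YOMEGA.E2_sq : (E2 : Matrix (Fin 2) (Fin 2) F) * E2 = 0 := by
  ext i j
  fin_cases i <;> fin_cases j <;> simp [E2, Matrix.mul_apply, Fin.sum_univ_two]

theorem K2YOMEGA.E2_E2' [CharP F 2] :
    (E2 : Matrix (Fin 2) (Fin 2) F) * E2' + E2' * E2 = 1 := by
  ext i j
  fin_cases i <;> fin_cases j <;> simp [E2, E2']

theorem K2YOMEGA.J2_symm : ((J2 : Matrix (Fin 2) (Fin 2) F) * (1 : Matrix (Fin 2) (Fin 2) F)).IsSymm := by
  rw [Matrix.mul_one]
  ext i j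
  fin_cases i <;> fin_cases j <;> simp [J2]

theorem K2YOMEGA.J2_E2_symm : ((J2 : Matrix (Fin 2) (Fin 2) F) * E2).IsSymm := by
  ext i j
  fin_cases i <;> fin_cases j <;> simp [J2, E2, Matrix.mul_apply, Fin.sum_univ_two]

theorem K2YOMEGA.J2_E2'_symm : ((J2 : Matrix (Fin 2) (Fin 2) F) * E2').IsSymm := by
  ext i j
  fin_cases i <;> fin_cases j <;> simp [J2, E2', Matrix.mul_apply, Fin.sum_univ_two]

theorem K2YOMEGA.J2_diag (a : Fin 2) : ((J2 : Matrix (Fin 2) (Fin 2) F) * (1 : Matrix (Fin 2) (Fin 2) F)) a a = 0 := by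
  rw [Matrix.mul_one]
  fin_cases a <;> simp [J2]

theorem K2YOMEGA.J2_00 : ∀ a ∈ ({0} : Set (Fin 2)), ∀ b ∈ ({0} : Set (Fin 2)),
    (J2 : Matrix (Fin 2) (Fin 2) F) a b = 0 := by
  intro a ha b hb
  rw [Set.mem_singleton_iff] at ha hb
  subst ha hb
  simp [J2]

theorem K2YOMEGA.E2_row (a b : Fin 2) (ha : a ∉ ({0} : Set (Fin 2))) :
    (E2 : Matrix (Fin 2) (Fin 2) F) a b = 0 := by
  rw [Set.mem_singleton_iff] at ha
  fin_cases a
  · exact absurd rfl ha
  · fin_cases b <;> simp [E2]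

/-- a family that is `E2`, `E2'` or `1` at every site has all `J2 * _` symmetric -/
theorem K2YOMEGA.symm_of (Rs : Fin t → Matrix (Fin 2) (Fin 2) F)
    (h : ∀ i, Rs i = 1 ∨ Rs i = E2 ∨ Rs i = E2') (i : Fin t) : ((J2 : Matrix (Fin 2) (Fin 2) F) * Rs i).IsSymm := by
  rcases h i with h | h | h <;> rw [h]
  · exact J2_symm
  · exact J2_E2_symm
  · exact J2_E2'_symm

/-- isometry membership for a pure tensor with factors in `{1, E2, E2'}`, an identity site `i₀` and an
`E2`-site `i₁` -/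
theorem K2YOMEGA.iso [CharP F 2] {c : F} {Q : (X 2 t → F) → F} (hQ : StdQ (J2 : Matrix (Fin 2) (Fin 2) F) c Q)
    (Rs : Fin t → Matrix (Fin 2) (Fin 2) F) (h : ∀ i, Rs i = 1 ∨ Rs i = E2 ∨ Rs i = E2')
    (i₀ : Fin t) (h0 : Rs i₀ = 1) (i₁ : Fin t) (h1 : Rs i₁ = E2) (hN : tensM Rs * tensM Rs = 0) :
    invo (tensM Rs) hN ∈ Cfsg.isometryGroup F Q := by
  refine ISOMEM.invo_mem hQ Rs hN (symm_of Rs h) i₀ ?_ i₁ {0} J2_00 ?_
  · intro a
    rw [h0]
    exact J2_diag a
  · intro a b ha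
    rw [h1]
    exact E2_row a b ha

theorem K2.y_mem_omegaGL [CharP F 2] {c : F} {Q : (X 2 t → F) → F} (hQ : StdQ (J2 : Matrix (Fin 2) (Fin 2) F) c Q)
    (s0 s1 s2 : Fin t) (h01 : s0 ≠ s1) (h02 : s0 ≠ s2) (h12 : s1 ≠ s2)
    (hN : loc2 s1 s2 (E2 : Matrix (Fin 2) (Fin 2) F) E2 * loc2 s1 s2 E2 E2 = 0) :
    invo (loc2 s1 s2 E2 E2) hN ∈ Cfsg.Geo.omegaGL Q := by
  classical
  set Pf : Fin t → Matrix (Fin 2) (Fin 2) F := Function.update (upd1 s0 E2) s1 E2 with hPf
  set Rf : Fin t → Matrix (Fin 2) (Fin 2) F := Function.update (upd1 s0 E2') s2 E2 with hRf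
  set W : Fin t → Matrix (Fin 2) (Fin 2) F := Function.update (upd1 s1 E2) s2 E2 with hW
  have hP0 : Pf s0 = E2 := by
    simp [hPf, upd1, Function.update_of_ne h01]
  have hP1 : Pf s1 = E2 := by simp [hPf]
  have hP2 : Pf s2 = 1 := by
    simp [hPf, upd1, Function.update_of_ne h12.symm, Function.update_of_ne h02.symm]
  have hPo : ∀ i, i ≠ s0 → i ≠ s1 → Pf i = 1 := by
    intro i hi0 hi1
    simp [hPf, upd1, Function.update_of_ne hi1, Function.update_of_ne hi0]
  have hR0 : Rf s0 = E2' := by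
    simp [hRf, upd1, Function.update_of_ne h02]
  have hR2 : Rf s2 = E2 := by simp [hRf]
  have hR1 : Rf s1 = 1 := by
    simp [hRf, upd1, Function.update_of_ne h12, Function.update_of_ne h01.symm]
  have hRo : ∀ i, i ≠ s0 → i ≠ s2 → Rf i = 1 := by
    intro i hi0 hi2
    simp [hRf, upd1, Function.update_of_ne hi2, Function.update_of_ne hi0]
  have hW0 : W s0 = 1 := by
    simp [hW, upd1, Function.update_of_ne h02, Function.update_of_ne h01]
  have hW1 : W s1 = E2 := by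
    simp [hW, upd1, Function.update_of_ne h12]
  have hW2 : W s2 = E2 := by simp [hW]
  have hWo : ∀ i, i ≠ s1 → i ≠ s2 → W i = 1 := by
    intro i hi1 hi2
    simp [hW, upd1, Function.update_of_ne hi2, Function.update_of_ne hi1]
  -- square zero
  have hPP : tensM Pf * tensM Pf = 0 := TENS.tensM_sq_zero Pf s1 (by rw [hP1]; exact K2YOMEGA.E2_sq)
  have hRR : tensM Rf * tensM Rf = 0 := TENS.tensM_sq_zero Rf s2 (by rw [hR2]; exact K2YOMEGA.E2_sq)
  have hPRP : tensM Pf * tensM Rf * tensM Pf = 0 := by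
    rw [TENS.tensM_mul, TENS.tensM_mul]
    refine TENS.tensM_eq_zero _ s1 ?_
    show Pf s1 * Rf s1 * Pf s1 = 0
    rw [hP1, hR1, Matrix.mul_one, K2YOMEGA.E2_sq]
  have hRPR : tensM Rf * tensM Pf * tensM Rf = 0 := by
    rw [TENS.tensM_mul, TENS.tensM_mul]
    refine TENS.tensM_eq_zero _ s2 ?_
    show Rf s2 * Pf s2 * Rf s2 = 0
    rw [hR2, hP2, Matrix.mul_one, K2YOMEGA.E2_sq]
  -- the products
  have hPR : (fun i => Pf i * Rf i) = Function.update W s0 (E2 * E2') := by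
    funext i
    by_cases hi0 : i = s0
    · subst hi0
      rw [Function.update_self, hP0, hR0]
    · rw [Function.update_of_ne hi0]
      by_cases hi1 : i = s1
      · subst hi1
        rw [hP1, hR1, hW1, Matrix.mul_one]
      · by_cases hi2 : i = s2
        · subst hi2
          rw [hP2, hR2, hW2, Matrix.one_mul]
        · rw [hPo i hi0 hi1, hRo i hi0 hi2, hWo i hi1 hi2, Matrix.mul_one]
  have hRP : (fun i => Rf i * Pf i) = Function.update W s0 (E2' * E2) := by
    funext i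
    by_cases hi0 : i = s0
    · subst hi0
      rw [Function.update_self, hP0, hR0]
    · rw [Function.update_of_ne hi0]
      by_cases hi1 : i = s1
      · subst hi1
        rw [hP1, hR1, hW1, Matrix.one_mul]
      · by_cases hi2 : i = s2
        · subst hi2
          rw [hP2, hR2, hW2, Matrix.mul_one]
        · rw [hPo i hi0 hi1, hRo i hi0 hi2, hWo i hi1 hi2, Matrix.mul_one]
  have hsum : tensM Pf * tensM Rf + tensM Rf * tensM Pf = loc2 s1 s2 E2 E2 := by
    rw [TENS.tensM_mul, TENS.tensM_mul, hPR, hRP, ← TENS.tensM_update_add, K2YOMEGA.E2_E2', ← hW0,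
      Function.update_eq_self]
    rfl
  have hNN : (tensM Pf * tensM Rf + tensM Rf * tensM Pf) * (tensM Pf * tensM Rf + tensM Rf * tensM Pf) = 0 := by
    rw [hsum]; exact hN
  have hiP : invo (tensM Pf) hPP ∈ Cfsg.isometryGroup F Q := by
    refine K2YOMEGA.iso hQ Pf ?_ s2 hP2 s0 hP0 hPP
    intro i
    by_cases hi0 : i = s0
    · subst hi0; right; left; exact hP0
    · by_cases hi1 : i = s1
      · subst hi1; right; left; exact hP1
      · left; exact hPo i hi0 hi1
  have hiR : invo (tensM Rf) hRR ∈ Cfsg.isometryGroup F Q := by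
    refine K2YOMEGA.iso hQ Rf ?_ s1 hR1 s2 hR2 hRR
    intro i
    by_cases hi0 : i = s0
    · subst hi0; right; right; exact hR0
    · by_cases hi2 : i = s2
      · subst hi2; right; left; exact hR2
      · left; exact hRo i hi0 hi2
  have := COMM.mem_omegaGL (tensM Pf) (tensM Rf) hPP hRR hPRP hRPR hNN hiP hiR
  rw [K2YOMEGA.invo_congr hsum hNN hN] at this
  exact this

end Cfsg.Agent.S5707P
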