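import Mathlib
import Cfsg.Prelude.Def_GeometricClasses
import Cfsg.Agent.Helper18.S5707.Defs
import Cfsg.Agent.Helper20.S5707TENS
import Cfsg.Agent.Helper18.S5707COMM
import Cfsg.Agent.Helper6.S5707ISOMEM
import Cfsg.Agent.Helper18.S5707K2YOMEGA

set_option autoImplicit false

namespace Cfsg.Agent.S5707P

open Matrix

variable {F : Type*} [Field F] {k t : ℕ}

theorem K2.z_mem_omegaGL [CharP F 2] {c : F} {Q : (X 2 t → F) → F} (hQ : StdQ (J2 : Matrix (Fin 2) (Fin 2) F) c Q)
    (s0 s1 s2 s3 : Fin t) (h01 : s0 ≠ s1) (h02 : s0 ≠ s2) (h03 : s0 ≠ s3) (h12 : s1 ≠ s2) (h13 : s1 ≠ s3)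
    (h23 : s2 ≠ s3)
    (hN : loc3 s1 s2 s3 (E2 : Matrix (Fin 2) (Fin 2) F) E2 E2 * loc3 s1 s2 s3 E2 E2 E2 = 0) :
    invo (loc3 s1 s2 s3 E2 E2 E2) hN ∈ Cfsg.Geo.omegaGL Q := by
  classical
  set Pf : Fin t → Matrix (Fin 2) (Fin 2) F := Function.update (upd1 s0 E2) s1 E2 with hPf
  set Rf : Fin t → Matrix (Fin 2) (Fin 2) F :=
    Function.update (Function.update (upd1 s0 E2') s2 E2) s3 E2 with hRf
  set W : Fin t → Matrix (Fin 2) (Fin 2) F :=
    Function.update (Function.update (upd1 s1 E2) s2 E2) s3 E2 with hW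
  have hP0 : Pf s0 = E2 := by
    simp [hPf, upd1, Function.update_of_ne h01]
  have hP1 : Pf s1 = E2 := by simp [hPf]
  have hPo : ∀ i, i ≠ s0 → i ≠ s1 → Pf i = 1 := by
    intro i hi0 hi1
    simp [hPf, upd1, Function.update_of_ne hi1, Function.update_of_ne hi0]
  have hP2 : Pf s2 = 1 := hPo s2 h02.symm h12.symm
  have hP3 : Pf s3 = 1 := hPo s3 h03.symm h13.symm
  have hR0 : Rf s0 = E2' := by
    simp [hRf, upd1, Function.update_of_ne h03, Function.update_of_ne h02]
  have hR2 : Rf s2 = E2 := by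
    simp [hRf, Function.update_of_ne h23]
  have hR3 : Rf s3 = E2 := by simp [hRf]
  have hRo : ∀ i, i ≠ s0 → i ≠ s2 → i ≠ s3 → Rf i = 1 := by
    intro i hi0 hi2 hi3
    simp [hRf, upd1, Function.update_of_ne hi3, Function.update_of_ne hi2, Function.update_of_ne hi0]
  have hR1 : Rf s1 = 1 := hRo s1 h01.symm h12 h13
  have hWo : ∀ i, i ≠ s1 → i ≠ s2 → i ≠ s3 → W i = 1 := by
    intro i hi1 hi2 hi3
    simp [hW, upd1, Function.update_of_ne hi3, Function.update_of_ne hi2, Function.update_of_ne hi1]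
  have hW0 : W s0 = 1 := hWo s0 h01 h02 h03
  have hW1 : W s1 = E2 := by
    simp [hW, upd1, Function.update_of_ne h13, Function.update_of_ne h12]
  have hW2 : W s2 = E2 := by
    simp [hW, Function.update_of_ne h23]
  have hW3 : W s3 = E2 := by simp [hW]
  have hPP : tensM Pf * tensM Pf = 0 := TENS.tensM_sq_zero Pf s1 (by rw [hP1]; exact K2YOMEGA.E2_sq)
  have hRR : tensM Rf * tensM Rf = 0 := TENS.tensM_sq_zero Rf s2 (by rw [hR2]; exact K2YOMEGA.E2_sq)
  have hPRP : tensM Pf * tensM Rf * tensM Pf = 0 := by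
    rw [TENS.tensM_mul, TENS.tensM_mul]
    refine TENS.tensM_eq_zero _ s1 ?_
    show Pf s1 * Rf s1 * Pf s1 = 0
    rw [hP1, hR1, Matrix.mul_one, K2YOMEGA.E2_sq]
  have hRPR : tensM Rf * tensM Pf * tensM Rf = 0 := by
    rw [TENS.tensM_mul, TENS.tensM_mul]
    refine TENS.tensM_eq_zero _ s2 ?_
    show Rf s2 * Pf s2 * Rf s2 = 0
    rw [hR2, hP2, Matrix.mul_one, K2YOMEGA.E2_sq]
  have hPR : (fun i => Pf i * Rf i) = Function.update W s0 (E2 * E2') := by
    funext i
    by_cases hi0 : i = s0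
    · subst hi0
      rw [Function.update_self, hP0, hR0]
    · rw [Function.update_of_ne hi0]
      by_cases hi1 : i = s1
      · subst hi1
        rw [hP1, hR1, hW1, Matrix.mul_one]
      · by_cases hi2 : i = s2
        · subst hi2
          rw [hP2, hR2, hW2, Matrix.one_mul]
        · by_cases hi3 : i = s3
          · subst hi3
            rw [hP3, hR3, hW3, Matrix.one_mul]
          · rw [hPo i hi0 hi1, hRo i hi0 hi2 hi3, hWo i hi1 hi2 hi3, Matrix.mul_one]
  have hRP : (fun i => Rf i * Pf i) = Function.update W s0 (E2' * E2) := by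
    funext i
    by_cases hi0 : i = s0
    · subst hi0
      rw [Function.update_self, hP0, hR0]
    · rw [Function.update_of_ne hi0]
      by_cases hi1 : i = s1
      · subst hi1
        rw [hP1, hR1, hW1, Matrix.one_mul]
      · by_cases hi2 : i = s2
        · subst hi2
          rw [hP2, hR2, hW2, Matrix.mul_one]
        · by_cases hi3 : i = s3
          · subst hi3
            rw [hP3, hR3, hW3, Matrix.mul_one]
          · rw [hPo i hi0 hi1, hRo i hi0 hi2 hi3, hWo i hi1 hi2 hi3, Matrix.mul_one]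
  have hsum : tensM Pf * tensM Rf + tensM Rf * tensM Pf = loc3 s1 s2 s3 E2 E2 E2 := by
    rw [TENS.tensM_mul, TENS.tensM_mul, hPR, hRP, ← TENS.tensM_update_add, K2YOMEGA.E2_E2', ← hW0,
      Function.update_eq_self]
    rfl
  have hNN : (tensM Pf * tensM Rf + tensM Rf * tensM Pf) * (tensM Pf * tensM Rf + tensM Rf * tensM Pf) = 0 := by
    rw [hsum]; exact hN
  have hiP : invo (tensM Pf) hPP ∈ Cfsg.isometryGroup F Q := by
    refine K2YOMEGA.iso hQ Pf ?_ s2 hP2 s0 hP0 hPP
    intro i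
    by_cases hi0 : i = s0
    · subst hi0; right; left; exact hP0
    · by_cases hi1 : i = s1
      · subst hi1; right; left; exact hP1
      · left; exact hPo i hi0 hi1
  have hiR : invo (tensM Rf) hRR ∈ Cfsg.isometryGroup F Q := by
    refine K2YOMEGA.iso hQ Rf ?_ s1 hR1 s2 hR2 hRR
    intro i
    by_cases hi0 : i = s0
    · subst hi0; right; right; exact hR0
    · by_cases hi2 : i = s2
      · subst hi2; right; left; exact hR2
      · by_cases hi3 : i = s3
        · subst hi3; right; left; exact hR3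
        · left; exact hRo i hi0 hi2 hi3
  have := COMM.mem_omegaGL (tensM Pf) (tensM Rf) hPP hRR hPRP hRPR hNN hiP hiR
  rw [K2YOMEGA.invo_congr hsum hNN hN] at this
  exact this

end Cfsg.Agent.S5707P
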