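import Cfsg.Agent.Helper19.Mono.BAsm

set_option autoImplicit false
set_option linter.unusedSectionVars false
set_option linter.unusedVariables false

/-! # S5837 (`SL_10(q)` table): the block stabilisers `GL_m(q) ≀ S_t`, `m ≥ 2`, are maximal in `SL_n(q)` for `n ≥ 5`.

This is the assembly `Cfsg.Agent.S5634P.Block.maximal` (helper27, file `Helper19/Mono/BAsm.lean`) with the bound `13 ≤ n`
replaced by `5 ≤ n`: the pieces never use `n ≥ 13`, only `t ≥ 3` when `m = 2` and `n ≥ 2`. -/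

namespace Cfsg.Agent.S5837P

open Matrix Cfsg.Agent.Helper28.SLMax Cfsg.Agent.S5634P
open scoped MatrixGroups

variable {F : Type*} [Field F] {n t m : ℕ} {D : Fin t → Submodule F (Fin n → F)}

/-- **OFF** with the bound `5 ≤ n` -/
theorem BLOCK.off_exists [Fintype F] (hD : Cfsg.Geo.IsMDecomposition m D) (hm : 2 ≤ m) (hn : 5 ≤ n)
    (h2 : ¬ (m = 2 ∧ Fintype.card F = 2)) (M : Subgroup (GL (Fin n) F)) (hHM : HH D ≤ M)
    {w ψ : Fin n → F} (hT : EE w ψ ∈ M) (hψw : ψ ⬝ᵥ w = 0) (hψ : ψ ≠ 0) (hw : ∀ c, w ∉ D c) :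
    OffIn D M := by
  obtain ⟨a, b, hab, ha, hb⟩ := CMP.exists_two hD hw
  by_cases hGa : ∃ y ∈ D a, ψ ⬝ᵥ y = 0 ∧ y ∉ Submodule.span F {cmp D a w}
  · obtain ⟨y, hy, hψy, hyw⟩ := hGa
    exact OFFA.off hD hm M hHM hT hψw hψ hab ha hb hy hψy hyw
  by_cases hGb : ∃ y ∈ D b, ψ ⬝ᵥ y = 0 ∧ y ∉ Submodule.span F {cmp D b w}
  · obtain ⟨y, hy, hψy, hyw⟩ := hGb
    exact OFFA.off hD hm M hHM hT hψw hψ hab.symm hb ha hy hψy hyw
  push Not at hGa hGb
  have hm2 : m = 2 := by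
    by_contra hne
    have hm3 : 3 ≤ m := by omega
    obtain ⟨y, hy, hψy, hyw⟩ := DUAL.exists_ker2 hD hm3 a ψ (cmp D a w)
    exact hyw (hGa y hy hψy)
  have ht : 3 ≤ t := by
    have := CMP.card hD
    subst hm2
    omega
  have hF : ∃ μ : F, μ ≠ 0 ∧ μ ≠ 1 := OFF.exists_mu (fun h => h2 ⟨hm2, h⟩)
  obtain ⟨hψa, za, hza, hψza⟩ := OFF.bad_block hD hm ha hGa
  obtain ⟨hψb, zb, hzb, hψzb⟩ := OFF.bad_block hD hm hb hGb
  exact OFFB.off hD hm hF ht M hHM hT hψw hab ha hb hψa hψb hza hzb hψza hψzb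

/-- **The block stabiliser (`m ≥ 2`) is maximal in `SL_n(q)`, `n ≥ 5`.** -/
theorem BLOCK.maximal [Fintype F] (hn : 5 ≤ n) (hm : 2 ≤ m) (hD : Cfsg.Geo.IsMDecomposition m D)
    (h2 : ¬ (m = 2 ∧ Fintype.card F = 2)) :
    Cfsg.Geo.IsMaximalIn (Cfsg.Geo.specialLinear (Fin n) F)
      (Cfsg.Geo.decompositionStabilizer D ⊓ Cfsg.Geo.specialLinear (Fin n) F) := by
  refine ⟨lt_of_le_of_ne inf_le_right ?_, ?_⟩
  · intro heq
    obtain ⟨g, hg, hgs⟩ := PROPER.exists hD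
    have : g ∈ Cfsg.Geo.decompositionStabilizer D ⊓ Cfsg.Geo.specialLinear (Fin n) F := by
      rw [heq]; exact hg
    exact hgs this.1
  · intro M hHM hMS
    by_cases hMH : M ≤ Cfsg.Geo.decompositionStabilizer D ⊓ Cfsg.Geo.specialLinear (Fin n) F
    · left; exact le_antisymm hMH hHM
    right
    refine le_antisymm hMS ?_
    obtain ⟨g, hgM, hgH⟩ := SetLike.not_le_iff_exists.mp hMH
    have hgS : g ∉ Cfsg.Geo.decompositionStabilizer D := fun h => hgH ⟨h, hMS hgM⟩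
    obtain ⟨i, v, hv, hmix⟩ := NONSTAB.exists_mixed hD g hgS
    obtain ⟨φ, hφ, hφ0, hφv⟩ := DUAL.exists_ne hD hm i hv
    have h1 : EE v φ ∈ M := hHM (HMEM.EE_mem_HH hD hv hφ hφv)
    have h3 : EE ((g : Matrix (Fin n) (Fin n) F) *ᵥ v) (dact g φ) ∈ M := by
      rw [← EE.conj]
      exact M.mul_mem (M.mul_mem hgM h1) (M.inv_mem hgM)
    have hoff : OffIn D M :=
      BLOCK.off_exists hD hm hn h2 M hHM h3 (by rw [dact_dot_mulVec]; exact hφv)
        (EE.dact_ne_zero g hφ0) hmix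
    have hall := SPREAD.all hD hm M hHM hoff
    have hpure : ∀ c d, ∀ x ∈ D c, ∀ χ ∈ Dl D d, χ ⬝ᵥ x = 0 → EE x χ ∈ M := by
      intro c d x hx χ hχ h0
      by_cases hcd : c = d
      · subst hcd
        exact hHM (HMEM.EE_mem_HH hD hx hχ h0)
      · exact hall c d hcd x hx χ hχ
    have hTall := ALL.mem hD M hpure
    have hn2 : 2 ≤ n := by omega
    exact SL_le_of_transvections hn2 M (fun v φ h => by rw [← EE_eq_Eg h]; exact hTall v φ h)

end Cfsg.Agent.S5837P
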