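import Mathlib
import Cfsg.Prelude.Def_GeometricClasses
import Cfsg.Agent.Helper28.OrthSim3

set_option autoImplicit false
set_option linter.unusedSectionVars false
set_option linter.unusedVariables false

/-! # S5837 (`SL_10(q)` table): the orthogonal similarity group is maximal in `SL_n(q)`, `q` odd, for `n ≥ 9`.

helper28's `OSim.osim_maximal` has `11 ≤ n` because `exists_good_transvection` asks for a hyperbolic pair orthogonal to a
`4`-space (`2 * 4 + 3 ≤ n`).  Here the centre `p` is only a singular vector orthogonal to six vectors (a subspace of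
dimension `≥ n - 6 ≥ 3` has one), and `t₁ = g z₀` directly.  The rest is helper28's proof verbatim. -/

namespace Cfsg.Agent.S5837P

open Matrix Module Cfsg.Agent.Helper28.Sg Cfsg.Agent.Helper28.Spin Cfsg.Agent.Helper28.SLMax
  Cfsg.Agent.Helper28.SimMax Cfsg.Agent.Helper28.OSim

variable {F : Type*} [Field F] {n : ℕ} {Q : QuadraticForm F (Fin n → F)}

theorem OSIM.finrank_span_three_le (a b c : Fin n → F) :
    finrank F (Submodule.span F ({a, b} : Set (Fin n → F)) ⊔
      Submodule.span F ({c, c} : Set (Fin n → F)) : Submodule F (Fin n → F)) ≤ 3 := by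
  have h1 := Submodule.finrank_add_le_finrank_add_finrank
    (Submodule.span F ({a, b} : Set (Fin n → F))) (Submodule.span F ({c, c} : Set (Fin n → F)))
  have h2 := finrank_span_pair_le a b
  have h3 : finrank F (Submodule.span F ({c, c} : Set (Fin n → F))) ≤ 1 := by
    rw [Set.pair_eq_singleton]
    have := finrank_span_le_card (R := F) ({c} : Set (Fin n → F))
    simpa using this
  omega

theorem OSIM.finrank_span_six_le (a b c d e f : Fin n → F) :
    finrank F (Submodule.span F ({a, b} : Set (Fin n → F)) ⊔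
      Submodule.span F ({c, d} : Set (Fin n → F)) ⊔
      Submodule.span F ({e, f} : Set (Fin n → F)) : Submodule F (Fin n → F)) ≤ 6 := by
  have h1 := Submodule.finrank_add_le_finrank_add_finrank
    (Submodule.span F ({a, b} : Set (Fin n → F)) ⊔ Submodule.span F ({c, d} : Set (Fin n → F)))
    (Submodule.span F ({e, f} : Set (Fin n → F)))
  have h2 := finrank_span_four_le a b c d
  have h3 := finrank_span_pair_le e f
  omega

/-- a non-zero singular vector orthogonal to six given vectors, `n ≥ 9` -/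
theorem OSIM.exists_singular_perp6 [Finite F] (hQ : (QuadraticMap.polarBilin Q).Nondegenerate)
    (hn : 9 ≤ n) (a b c d e f : Fin n → F) :
    ∃ p : Fin n → F, p ≠ 0 ∧ Q p = 0 ∧ B Q a p = 0 ∧ B Q b p = 0 ∧ B Q c p = 0 ∧ B Q d p = 0 ∧
      B Q e p = 0 ∧ B Q f p = 0 := by
  classical
  set S : Submodule F (Fin n → F) := Submodule.span F ({a, b} : Set (Fin n → F)) ⊔
      Submodule.span F ({c, d} : Set (Fin n → F)) ⊔
      Submodule.span F ({e, f} : Set (Fin n → F)) with hS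
  set Bf := QuadraticMap.polarBilin Q with hBf
  set P := LinearMap.BilinForm.orthogonal Bf S with hP
  have hPmem : ∀ x, x ∈ P ↔ ∀ s ∈ S, B Q s x = 0 := fun x => Iff.rfl
  have hPdim : finrank F P = n - finrank F S := by
    rw [hP, LinearMap.BilinForm.finrank_orthogonal hQ S, Module.finrank_fin_fun]
  have hS6 : finrank F S ≤ 6 := OSIM.finrank_span_six_le a b c d e f
  have h3 : 3 ≤ finrank F P := by omega
  obtain ⟨v, hv0, hQv⟩ := Cfsg.Agent.Helper13.exists_singular (Q.comp P.subtype) h3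
  have hvP : (v : Fin n → F) ∈ P := v.2
  have hperp := (hPmem _).mp hvP
  refine ⟨(v : Fin n → F), fun h0 => hv0 (Subtype.ext h0), hQv, ?_, ?_, ?_, ?_, ?_, ?_⟩
  · exact hperp a (Submodule.mem_sup_left (Submodule.mem_sup_left (Submodule.subset_span (by simp))))
  · exact hperp b (Submodule.mem_sup_left (Submodule.mem_sup_left (Submodule.subset_span (by simp))))
  · exact hperp c (Submodule.mem_sup_left (Submodule.mem_sup_right (Submodule.subset_span (by simp))))
  · exact hperp d (Submodule.mem_sup_left (Submodule.mem_sup_right (Submodule.subset_span (by simp))))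
  · exact hperp e (Submodule.mem_sup_right (Submodule.subset_span (by simp)))
  · exact hperp f (Submodule.mem_sup_right (Submodule.subset_span (by simp)))

/-- a non-similarity in `M`, witnessed by a singular `u` and `z₀ ⊥ u` with `g z₀` not orthogonal to
`g u`, yields a good transvection with singular centre -/
theorem OSIM.exists_good_transvection [Finite F] (hQ : (QuadraticMap.polarBilin Q).Nondegenerate)
    (hn : 9 ≤ n) (M : Subgroup (Matrix.GeneralLinearGroup (Fin n) F))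
    (hHM : Cfsg.Geo.quadSimilarityGroup (⇑Q) ⊓ SL n F ≤ M)
    (g : Matrix.GeneralLinearGroup (Fin n) F) (hgM : g ∈ M) (u z₀ : Fin n → F)
    (hQu : Q u = 0) (huz : B Q u z₀ = 0)
    (hne : B Q ((g : Matrix (Fin n) (Fin n) F) *ᵥ z₀) ((g : Matrix (Fin n) (Fin n) F) *ᵥ u) ≠ 0) :
    ∃ p c₀ : Fin n → F, Q p = 0 ∧ p ≠ 0 ∧ B Q p c₀ = 0 ∧ (∀ a : F, c₀ ≠ a • p) ∧
      E p (pv Q c₀) ∈ MS M := by
  classical
  have hginv' : ∀ y, ((g⁻¹ : Matrix.GeneralLinearGroup (Fin n) F) : Matrix (Fin n) (Fin n) F) *ᵥ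
      ((g : Matrix (Fin n) (Fin n) F) *ᵥ y) = y := by
    intro y
    rw [Matrix.mulVec_mulVec, ← Units.val_mul, inv_mul_cancel, Units.val_one, Matrix.one_mulVec]
  -- (2) the second singular vector `w`
  obtain ⟨w, w', hQw, hQw', hww', hwS, hw'S⟩ := exists_hyp_perp hQ
    (Submodule.span F ({u, z₀} : Set (Fin n → F))) (by
      have := finrank_span_pair_le u z₀
      omega)
  have huw : B Q u w = 0 := hwS u (Submodule.subset_span (by simp))
  have hzw : B Q z₀ w = 0 := hwS z₀ (Submodule.subset_span (by simp))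
  have huw' : B Q u w' = 0 := hw'S u (Submodule.subset_span (by simp))
  -- (3) the adjoint images
  obtain ⟨du, hdu⟩ := pv_surj hQ (pv Q u ᵥ*
    ((g⁻¹ : Matrix.GeneralLinearGroup (Fin n) F) : Matrix (Fin n) (Fin n) F))
  obtain ⟨dw, hdw⟩ := pv_surj hQ (pv Q w ᵥ*
    ((g⁻¹ : Matrix.GeneralLinearGroup (Fin n) F) : Matrix (Fin n) (Fin n) F))
  have hdu' : ∀ x, B Q du ((g : Matrix (Fin n) (Fin n) F) *ᵥ x) = B Q u x := by
    intro x
    rw [← pv_dot, hdu, ← Matrix.dotProduct_mulVec, hginv', pv_dot]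
  have hdw' : ∀ x, B Q dw ((g : Matrix (Fin n) (Fin n) F) *ᵥ x) = B Q w x := by
    intro x
    rw [← pv_dot, hdw, ← Matrix.dotProduct_mulVec, hginv', pv_dot]
  obtain ⟨gu, hgu⟩ : ∃ gu : Fin n → F, gu = (g : Matrix (Fin n) (Fin n) F) *ᵥ u := ⟨_, rfl⟩
  obtain ⟨gw, hgw⟩ : ∃ gw : Fin n → F, gw = (g : Matrix (Fin n) (Fin n) F) *ᵥ w := ⟨_, rfl⟩
  obtain ⟨gz, hgz⟩ : ∃ gz : Fin n → F, gz = (g : Matrix (Fin n) (Fin n) F) *ᵥ z₀ := ⟨_, rfl⟩
  rw [← hgu, ← hgz] at hne
  have hdu_gu : B Q du gu = 0 := by rw [hgu, hdu']; exact B_self_of_singular Q hQu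
  have hdu_gw : B Q du gw = 0 := by rw [hgw, hdu']; exact huw
  have hdw_gu : B Q dw gu = 0 := by rw [hgu, hdw', B_comm]; exact huw
  have hdw_gw : B Q dw gw = 0 := by rw [hgw, hdw']; exact B_self_of_singular Q hQw
  have hdu_gz : B Q du gz = 0 := by rw [hgz, hdu']; exact huz
  have hdw_gz : B Q dw gz = 0 := by rw [hgz, hdw', B_comm]; exact hzw
  -- (4') the singular vector `p`, orthogonal to six vectors
  obtain ⟨p, hp0, hQp, hdu_p, hdw_p, hgu_p, hgw_p, hgz_p, hgw'_p⟩ :=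
    OSIM.exists_singular_perp6 hQ hn du dw gu gw gz ((g : Matrix (Fin n) (Fin n) F) *ᵥ w')
  -- (5') the vector `t₁ = g z₀`
  obtain ⟨t₁, ht₁⟩ : ∃ t₁ : Fin n → F, t₁ = gz := ⟨_, rfl⟩
  have hdu_t₁ : B Q du t₁ = 0 := by rw [ht₁]; exact hdu_gz
  have hdw_t₁ : B Q dw t₁ = 0 := by rw [ht₁]; exact hdw_gz
  have hp_t₁ : B Q p t₁ = 0 := by rw [ht₁, B_comm]; exact hgz_p
  have hgu_t₁ : B Q gu t₁ ≠ 0 := by rw [ht₁, B_comm]; exact hne
  -- (6) the singular vector `t`
  set S₃ := Submodule.span F ({du, dw} : Set (Fin n → F)) ⊔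
    Submodule.span F ({p, p} : Set (Fin n → F)) with hS₃
  obtain ⟨e₃, f₃, hQe₃, hQf₃, hef₃, he₃S, hf₃S⟩ := exists_hyp_perp hQ S₃ (by
    have := OSIM.finrank_span_three_le du dw p
    rw [hS₃]
    omega)
  obtain ⟨t, hQt, htS, hgu_t⟩ := exists_singular_ne S₃ hQe₃ hQf₃ hef₃ he₃S hf₃S (pv Q gu) t₁
    (perp_span_four hdu_t₁ hdw_t₁ hp_t₁ hp_t₁) (by rw [pv_dot]; exact hgu_t₁)
  rw [pv_dot] at hgu_t
  have hdu_t : B Q du t = 0 :=
    htS du (Submodule.mem_sup_left (Submodule.subset_span (by simp)))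
  have hdw_t : B Q dw t = 0 :=
    htS dw (Submodule.mem_sup_left (Submodule.subset_span (by simp)))
  have hp_t : B Q p t = 0 :=
    htS p (Submodule.mem_sup_right (Submodule.subset_span (by simp)))
  have htp : B Q t p = 0 := by rw [B_comm]; exact hp_t
  -- (7) the matrices
  obtain ⟨r₁, hr₁M, hr₁⟩ := siegM_mem M hHM w u hQw (by rw [B_comm]; exact huw)
  obtain ⟨r, hrM, hr⟩ := siegM_mem M hHM t p hQt htp
  obtain ⟨g₁, hg₁⟩ : ∃ g₁ : Matrix.GeneralLinearGroup (Fin n) F, g₁ = g * r₁ * g⁻¹ := ⟨_, rfl⟩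
  have hg₁M : g₁ ∈ M := by rw [hg₁]; exact M.mul_mem (M.mul_mem hgM hr₁M) (M.inv_mem hgM)
  have hg₁v : ∀ x, (g₁ : Matrix (Fin n) (Fin n) F) *ᵥ x = x + B Q dw x • gu - B Q du x • gw := by
    intro x
    have hx : x = (g : Matrix (Fin n) (Fin n) F) *ᵥ
        (((g⁻¹ : Matrix.GeneralLinearGroup (Fin n) F) : Matrix (Fin n) (Fin n) F) *ᵥ x) := by
      rw [Matrix.mulVec_mulVec, ← Units.val_mul, mul_inv_cancel, Units.val_one, Matrix.one_mulVec]
    have e1 : B Q dw x = B Q w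
        (((g⁻¹ : Matrix.GeneralLinearGroup (Fin n) F) : Matrix (Fin n) (Fin n) F) *ᵥ x) := by
      conv_lhs => rw [hx]
      exact hdw' _
    have e2 : B Q du x = B Q u
        (((g⁻¹ : Matrix.GeneralLinearGroup (Fin n) F) : Matrix (Fin n) (Fin n) F) *ᵥ x) := by
      conv_lhs => rw [hx]
      exact hdu' _
    rw [hg₁, Units.val_mul, Units.val_mul, ← Matrix.mulVec_mulVec, ← Matrix.mulVec_mulVec, hr₁,
      siegM_mulVec, hQu, zero_mul, zero_smul, sub_zero, Matrix.mulVec_sub, Matrix.mulVec_add,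
      Matrix.mulVec_smul, Matrix.mulVec_smul, ← hgu, ← hgw, ← hx, e1, e2]
  have hrv : ∀ x, (r : Matrix (Fin n) (Fin n) F) *ᵥ x = x + B Q t x • p - B Q p x • t := by
    intro x
    rw [hr, siegM_mulVec, hQp, zero_mul, zero_smul, sub_zero]
  obtain ⟨φ, hφ⟩ : ∃ φ : Fin n → F, φ = B Q t gw • pv Q du - B Q t gu • pv Q dw := ⟨_, rfl⟩
  have hφv : ∀ x, φ ⬝ᵥ x = B Q t gw * B Q du x - B Q t gu * B Q dw x := by
    intro x
    rw [hφ, sub_dotProduct, smul_dotProduct, smul_dotProduct, pv_dot, pv_dot, smul_eq_mul,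
      smul_eq_mul]
  have hφp : φ ⬝ᵥ p = 0 := by rw [hφv, hdu_p, hdw_p]; ring
  have hφt : φ ⬝ᵥ t = 0 := by rw [hφv, hdu_t, hdw_t]; ring
  have hφgu : φ ⬝ᵥ gu = 0 := by rw [hφv, hdu_gu, hdw_gu]; ring
  have hφgw : φ ⬝ᵥ gw = 0 := by rw [hφv, hdu_gw, hdw_gw]; ring
  have hcomm : (g₁ : Matrix (Fin n) (Fin n) F) * (r : Matrix (Fin n) (Fin n) F) =
      E p φ * ((r : Matrix (Fin n) (Fin n) F) * (g₁ : Matrix (Fin n) (Fin n) F)) := by
    apply Cfsg.Agent.Helper28.Spin.matrix_ext_mulVec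
    intro x
    rw [← Matrix.mulVec_mulVec, ← Matrix.mulVec_mulVec, ← Matrix.mulVec_mulVec, hrv, hg₁v, hg₁v,
      hrv, E_mulVec]
    have e1 : B Q dw (x + B Q t x • p - B Q p x • t) = B Q dw x := by
      show QuadraticMap.polar ⇑Q dw (x + B Q t x • p - B Q p x • t) = _
      rw [QuadraticMap.polar_sub_right, QuadraticMap.polar_add_right, QuadraticMap.polar_smul_right,
        QuadraticMap.polar_smul_right]
      simp only [B] at hdw_p hdw_t
      rw [hdw_p, hdw_t]; simp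
    have e2 : B Q du (x + B Q t x • p - B Q p x • t) = B Q du x := by
      show QuadraticMap.polar ⇑Q du (x + B Q t x • p - B Q p x • t) = _
      rw [QuadraticMap.polar_sub_right, QuadraticMap.polar_add_right, QuadraticMap.polar_smul_right,
        QuadraticMap.polar_smul_right]
      simp only [B] at hdu_p hdu_t
      rw [hdu_p, hdu_t]; simp
    have e3 : B Q p (x + B Q dw x • gu - B Q du x • gw) = B Q p x := by
      show QuadraticMap.polar ⇑Q p (x + B Q dw x • gu - B Q du x • gw) = _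
      rw [QuadraticMap.polar_sub_right, QuadraticMap.polar_add_right, QuadraticMap.polar_smul_right,
        QuadraticMap.polar_smul_right, QuadraticMap.polar_comm _ p gu, QuadraticMap.polar_comm _ p gw]
      simp only [B] at hgu_p hgw_p
      rw [hgu_p, hgw_p]; simp
    have e4 : B Q t (x + B Q dw x • gu - B Q du x • gw) = B Q t x - φ ⬝ᵥ x := by
      show QuadraticMap.polar ⇑Q t (x + B Q dw x • gu - B Q du x • gw) = _
      rw [QuadraticMap.polar_sub_right, QuadraticMap.polar_add_right, QuadraticMap.polar_smul_right,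
        QuadraticMap.polar_smul_right, hφv]
      simp only [B, smul_eq_mul]
      ring
    rw [e1, e2, e3, e4]
    have e5 : φ ⬝ᵥ (x + B Q dw x • gu - B Q du x • gw + (B Q t x - φ ⬝ᵥ x) • p - B Q p x • t)
        = φ ⬝ᵥ x := by
      rw [dotProduct_sub, dotProduct_add, dotProduct_sub, dotProduct_add, dotProduct_smul,
        dotProduct_smul, dotProduct_smul, dotProduct_smul, hφp, hφt, hφgu, hφgw]
      simp
    rw [e5]
    module
  have hE : E p φ ∈ MS M := by
    refine ⟨g₁ * r * (r * g₁)⁻¹, M.mul_mem (M.mul_mem hg₁M hrM)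
      (M.inv_mem (M.mul_mem hrM hg₁M)), ?_⟩
    have h1 : ((g₁ * r * (r * g₁)⁻¹ : Matrix.GeneralLinearGroup (Fin n) F) :
        Matrix (Fin n) (Fin n) F) * ((r * g₁ : Matrix.GeneralLinearGroup (Fin n) F) :
        Matrix (Fin n) (Fin n) F) = E p φ * ((r * g₁ : Matrix.GeneralLinearGroup (Fin n) F) :
        Matrix (Fin n) (Fin n) F) := by
      rw [← Units.val_mul, inv_mul_cancel_right, Units.val_mul, hcomm, Units.val_mul]
    exact (Units.mul_left_inj (r * g₁)).mp h1
  -- (8) genericity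
  obtain ⟨c₀, hc₀⟩ : ∃ c₀ : Fin n → F, c₀ = B Q t gw • du - B Q t gu • dw := ⟨_, rfl⟩
  have hpvc : pv Q c₀ = φ := by
    rw [hc₀, hφ, sub_eq_add_neg, pv_add, pv_neg, pv_smul, pv_smul, ← sub_eq_add_neg]
  have hc₀v : ∀ x, B Q c₀ x = φ ⬝ᵥ x := by
    intro x
    rw [← hpvc, pv_dot]
  refine ⟨p, c₀, hQp, hp0, ?_, ?_, by rw [hpvc]; exact hE⟩
  · rw [B_comm, hc₀v, hφp]
  · intro a ha
    have h2 : B Q c₀ ((g : Matrix (Fin n) (Fin n) F) *ᵥ w') = - B Q t gu := by
      rw [hc₀v, hφv, hdu', hdw', huw', hww']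
      ring
    rw [ha] at h2
    have h3 : B Q (a • p) ((g : Matrix (Fin n) (Fin n) F) *ᵥ w') = 0 := by
      show QuadraticMap.polar ⇑Q (a • p) _ = 0
      rw [QuadraticMap.polar_smul_left, QuadraticMap.polar_comm]
      have h4 := hgw'_p
      simp only [B] at h4
      rw [h4, smul_zero]
    rw [h3] at h2
    apply hgu_t
    rw [B_comm]
    exact neg_eq_zero.mp h2.symm

/-- **The similarity group of a non-degenerate quadratic form is maximal in `SL_n(F)`**, `|F|` odd,
`n ≥ 9`. -/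
theorem OSIM.osim_maximal [Fintype F] (h2 : (2 : F) ≠ 0)
    (hQ : (QuadraticMap.polarBilin Q).Nondegenerate) (hn : 9 ≤ n) :
    Cfsg.Geo.IsMaximalIn (SL n F) (Cfsg.Geo.quadSimilarityGroup (⇑Q) ⊓ SL n F) := by
  classical
  obtain ⟨fr⟩ := Cfsg.Agent.Helper28.OM.exists_frame3 hQ (by rw [Fintype.card_fin]; omega)
  refine ⟨lt_of_le_of_ne inf_le_right ?_, ?_⟩
  · intro heq
    obtain ⟨g, hg1, hg2⟩ := exists_not_sim_orth fr
    apply hg2
    have : g ∈ Cfsg.Geo.quadSimilarityGroup (⇑Q) ⊓ SL n F := by rw [heq]; exact hg1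
    exact this.1
  · intro M hPM hMS
    by_cases hMP : M ≤ Cfsg.Geo.quadSimilarityGroup (⇑Q) ⊓ SL n F
    · left; exact le_antisymm hMP hPM
    right
    refine le_antisymm hMS ?_
    obtain ⟨g, hgM, hgP⟩ := SetLike.not_le_iff_exists.mp hMP
    have hgS : g ∉ Cfsg.Geo.quadSimilarityGroup (⇑Q) := fun h' => hgP ⟨h', hMS hgM⟩
    obtain ⟨u, z₀, hQu, huz, hne⟩ : ∃ u z₀ : Fin n → F, Q u = 0 ∧ B Q u z₀ = 0 ∧
        B Q ((g : Matrix (Fin n) (Fin n) F) *ᵥ z₀) ((g : Matrix (Fin n) (Fin n) F) *ᵥ u) ≠ 0 := by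
      by_contra hcon
      push Not at hcon
      apply hgS
      apply sim_of_singular h2 hQ fr
      intro u hQu
      obtain ⟨e, he⟩ := exists_smul_of_ker (pv Q u)
        (pv Q ((g : Matrix (Fin n) (Fin n) F) *ᵥ u) ᵥ* (g : Matrix (Fin n) (Fin n) F)) (by
          intro x hx
          rw [pv_dot] at hx
          rw [← Matrix.dotProduct_mulVec, pv_dot, B_comm]
          exact hcon u x hQu hx)
      refine ⟨e, fun x => ?_⟩
      rw [← pv_dot, Matrix.dotProduct_mulVec, he, smul_dotProduct, pv_dot, smul_eq_mul]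
    obtain ⟨p, c₀, hQp, hp0, hpc, hc₀, hE⟩ :=
      OSIM.exists_good_transvection hQ hn M hPM g hgM u z₀ hQu huz hne
    have hcen := all_center_sing hQ (by omega) M hPM p c₀ hQp hpc hc₀ hE
    have hall := all_of_center_sing hQ fr (by omega) M hPM p hQp hp0 hcen
    apply SL_le_of_transvections (by omega)
    intro v φ hφ
    exact Eg_mem_of_MS _ _ _ (hall v φ hφ)

end Cfsg.Agent.S5837P
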