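import Mathlib
import Cfsg.Prelude.Def_GeometricClasses
import Cfsg.Agent.Helper2.S5886.Defs

/-! # S5886 piece NOTIN: some `F`-transvection is not semilinear -/

set_option autoImplicit false

namespace Cfsg.Agent.S5886P

variable {F K V : Type*} [Field F] [Field K] [Algebra F K]
  [AddCommGroup V] [Module F V] [Module K V] [IsScalarTower F K V]

/-- a functional vanishing at `x` with value `1` at `y ∉ span {x}` -/
theorem NOTIN.exists_dual_pair {R M : Type*} [Field R] [AddCommGroup M] [Module R M] {x y : M}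
    (hy : y ∉ Submodule.span R {x}) : ∃ ψ : M →ₗ[R] R, ψ x = 0 ∧ ψ y = 1 := by
  obtain ⟨f, hf, hmap⟩ := Submodule.exists_dual_map_eq_bot_of_notMem hy inferInstance
  have hfx : f x = 0 := by
    have : f x ∈ (Submodule.span R {x}).map f :=
      Submodule.mem_map_of_mem (Submodule.mem_span_singleton_self x)
    rw [hmap] at this
    exact (Submodule.mem_bot R).1 this
  refine ⟨(f y)⁻¹ • f, ?_, ?_⟩
  · rw [LinearMap.smul_apply, hfx, smul_zero]
  · rw [LinearMap.smul_apply, smul_eq_mul, inv_mul_cancel₀ hf]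

/-- the second vector of a linearly independent pair is not in the span of the first -/
theorem NOTIN.notMem_span_of_pair {R M : Type*} [Field R] [AddCommGroup M] [Module R M] {x y : M}
    (h : LinearIndependent R ![x, y]) : y ∉ Submodule.span R {x} := by
  intro hy
  obtain ⟨a, rfl⟩ := Submodule.mem_span_singleton.1 hy
  have := (LinearIndependent.pair_iff.1 h) a (-1) (by simp)
  exact one_ne_zero (neg_eq_zero.1 this.2)

/-- NOTIN : an `F`-transvection is not semilinear. -/
theorem NOTIN [Finite K] [Finite V] (hm : 2 ≤ Module.finrank K V) (h2 : 2 ≤ Module.finrank F K) :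
    ∃ g : V ≃ₗ[F] V, IsFTv g ∧ g ∉ Nrm F K V := by
  have : Nontrivial V := Module.nontrivial_of_finrank_pos (R := K) (by omega)
  obtain ⟨v, hv⟩ := exists_ne (0 : V)
  obtain ⟨w, hvw⟩ := exists_linearIndependent_pair_of_one_lt_finrank (R := K) (by omega) hv
  obtain ⟨k, h1k⟩ := exists_linearIndependent_pair_of_one_lt_finrank (R := F) (M := K) (by omega)
    (one_ne_zero)
  obtain ⟨ψ, hψv, hψw⟩ := NOTIN.exists_dual_pair (NOTIN.notMem_span_of_pair hvw)
  obtain ⟨φ, hφ1, hφk⟩ := NOTIN.exists_dual_pair (NOTIN.notMem_span_of_pair h1k)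
  set f : V →ₗ[F] F := φ ∘ₗ (ψ.restrictScalars F) with hf
  have hfv : f v = 0 := by
    show φ (ψ v) = 0
    rw [hψv, map_zero]
  refine ⟨LinearEquiv.transvection hfv, ⟨f, v, hfv, fun x => rfl⟩, ?_⟩
  rintro ⟨σ, hσ⟩
  have e1 := hσ k w
  have hgw : (LinearEquiv.transvection hfv : V →ₗ[F] V) w = w := by
    show w + f w • v = w
    have : f w = 0 := by
      show φ (ψ w) = 0
      rw [hψw, hφ1]
    rw [this, zero_smul, add_zero]
  have hgkw : (LinearEquiv.transvection hfv : V →ₗ[F] V) (k • w) = k • w + v := by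
    show k • w + f (k • w) • v = k • w + v
    have : f (k • w) = 1 := by
      show φ (ψ (k • w)) = 1
      rw [map_smul, hψw, smul_eq_mul, mul_one, hφk]
    rw [this, one_smul]
  rw [hgw, hgkw] at e1
  -- `v = (σ k - k) • w`
  have e2 : (1 : K) • v + (k - σ k) • w = 0 := by
    rw [one_smul, sub_smul, ← e1]
    abel
  have := (LinearIndependent.pair_iff.1 hvw) 1 (k - σ k) e2
  exact one_ne_zero this.1

end Cfsg.Agent.S5886P
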