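import Mathlib
import Cfsg.Prelude.Def_GeometricClasses
import Cfsg.Agent.Helper2.S5886.Defs
import Cfsg.Agent.Helper18.S5886NOTIN

/-! # S5886 piece TVGEN: the transvections `1 + f ⊗ u` with `f (K u) = 0` generate all `F`-transvections -/

set_option autoImplicit false

namespace Cfsg.Agent.S5886P

variable {F K V : Type*} [Field F] [Field K] [Algebra F K]
  [AddCommGroup V] [Module F V] [Module K V] [IsScalarTower F K V]

/-- the map `x ↦ (c ↦ f (c • x))` -/
noncomputable def TVGEN.Phi (f : V →ₗ[F] F) : V →ₗ[F] (K →ₗ[F] F) :=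
  LinearMap.mk₂ F (fun x c => f (c • x))
    (fun x y c => by rw [smul_add, map_add])
    (fun a x c => by rw [smul_comm c a x, map_smul])
    (fun x c d => by rw [add_smul, map_add])
    (fun a x c => by rw [smul_assoc, map_smul])

theorem TVGEN.Phi_apply (f : V →ₗ[F] F) (x : V) (c : K) : TVGEN.Phi (K := K) f x c = f (c • x) := rfl

/-- the `K`-core of an `F`-linear form on a `K`-space of dimension at least 2 is not zero -/
theorem TVGEN.exists_core [Finite K] [Finite V] (hm : 2 ≤ Module.finrank K V) (f : V →ₗ[F] F) :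
    ∃ u₂ : V, u₂ ≠ 0 ∧ ∀ c : K, f (c • u₂) = 0 := by
  have : Module.Finite F V := Module.Finite.of_finite
  have : Module.Finite F K := Module.Finite.of_finite
  have : Module.Finite K V := Module.Finite.of_finite
  have hr : 0 < Module.finrank F K := Module.finrank_pos
  have h1 := LinearMap.finrank_range_add_finrank_ker (TVGEN.Phi (K := K) f)
  have h2 : Module.finrank F (LinearMap.range (TVGEN.Phi (K := K) f)) ≤ Module.finrank F K := by
    have := Submodule.finrank_le (LinearMap.range (TVGEN.Phi (K := K) f))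
    rwa [show Module.finrank F (K →ₗ[F] F) = Module.finrank F K from Subspace.dual_finrank_eq] at this
  have h3 : Module.finrank F K * Module.finrank K V = Module.finrank F V :=
    Module.finrank_mul_finrank F K V
  have h4 : 0 < Module.finrank F (LinearMap.ker (TVGEN.Phi (K := K) f)) := by
    have : 2 * Module.finrank F K ≤ Module.finrank F V := by
      rw [← h3, mul_comm]
      exact Nat.mul_le_mul_left _ hm
    omega
  obtain ⟨⟨u₂, hu₂⟩, hne⟩ := Module.finrank_pos_iff_exists_ne_zero.1 h4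
  refine ⟨u₂, fun h0 => hne (Subtype.ext h0), fun c => ?_⟩
  have := LinearMap.mem_ker.1 hu₂
  rw [← TVGEN.Phi_apply, this, LinearMap.zero_apply]

/-- TVGEN -/
theorem TVGEN [Finite K] [Finite V] (hm : 2 ≤ Module.finrank K V) (M : Subgroup (V ≃ₗ[F] V))
    (hM : ∀ (f : V →ₗ[F] F) (u : V), (∀ c : K, f (c • u) = 0) → ∀ g : V ≃ₗ[F] V,
      (∀ x, g x = x + f x • u) → g ∈ M) (g : V ≃ₗ[F] V) (hg : IsFTv g) : g ∈ M := by
  obtain ⟨f, u, hfu, hg⟩ := hg
  by_cases hcore : ∀ c : K, f (c • u) = 0
  · exact hM f u hcore g hg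
  -- a non-zero vector of the core
  obtain ⟨u₂, hu₂, hcore₂⟩ := TVGEN.exists_core (K := K) hm f
  have hfu₂ : f u₂ = 0 := by
    have := hcore₂ 1
    rwa [one_smul] at this
  have hnot : u₂ ∉ Submodule.span K {u} := by
    intro hmem
    obtain ⟨a, rfl⟩ := Submodule.mem_span_singleton.1 hmem
    have ha : a ≠ 0 := by
      rintro rfl
      exact hu₂ (zero_smul K u)
    apply hcore
    intro c
    have := hcore₂ (c * a⁻¹)
    rwa [smul_smul, mul_assoc, inv_mul_cancel₀ ha, mul_one] at this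
  obtain ⟨ψ, hψu, hψu₂⟩ := NOTIN.exists_dual_pair hnot
  have h1not : (1 : K) ∉ Submodule.span F {(0 : K)} := by
    intro hmem
    obtain ⟨a, ha⟩ := Submodule.mem_span_singleton.1 hmem
    rw [smul_zero] at ha
    exact one_ne_zero ha.symm
  obtain ⟨φ, -, hφ1⟩ := NOTIN.exists_dual_pair h1not
  set f₁ : V →ₗ[F] F := φ ∘ₗ (ψ.restrictScalars F) with hf₁
  have hf₁core : ∀ c : K, f₁ (c • u) = 0 := by
    intro c
    show φ (ψ (c • u)) = 0
    rw [map_smul, hψu, smul_zero, map_zero]
  have hf₁u : f₁ u = 0 := by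
    have := hf₁core 1
    rwa [one_smul] at this
  have hf₁u₂ : f₁ u₂ = 1 := by
    show φ (ψ u₂) = 1
    rw [hψu₂, hφ1]
  set a : V ≃ₗ[F] V := LinearEquiv.transvection hf₁u with ha
  set b : V ≃ₗ[F] V := LinearEquiv.transvection hfu₂ with hb
  have haM : a ∈ M := hM f₁ u hf₁core a (fun x => rfl)
  have hbM : b ∈ M := hM f u₂ hcore₂ b (fun x => rfl)
  have hax : ∀ x, a x = x + f₁ x • u := fun x => rfl
  have hbx : ∀ x, b x = x + f x • u₂ := fun x => rfl
  have key : g * (b * a) = a * b := by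
    ext x
    rw [LinearEquiv.mul_apply, LinearEquiv.mul_apply, LinearEquiv.mul_apply, hg, hbx, hax, hax, hbx]
    simp only [map_add, map_smul, hfu, hfu₂, hf₁u₂, smul_eq_mul, mul_zero, mul_one, add_zero]
    rw [add_smul]
    abel
  have hgeq : g = a * b * (b * a)⁻¹ := eq_mul_inv_of_mul_eq key
  rw [hgeq]
  exact M.mul_mem (M.mul_mem haM hbM) (M.inv_mem (M.mul_mem hbM haM))

end Cfsg.Agent.S5886P
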