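import Mathlib
import Cfsg.Prelude.Def_Classical
import Cfsg.Agent.Helper23.S5953Defs

set_option autoImplicit false

/-! S5953 piece ARITHSUFFU: the arithmetic of the sufficiency side. -/

namespace Cfsg.Agent.S5953P

/-- ARITHSUFFU (pure arithmetic; `sd` = "`i ≡ 2 (mod 4)`") -/
theorem arith_suff_u (sd : Prop) [Decidable sd] (b c t n m κ : ℕ) (hb : 0 < b)
    (hc : c = if sd then b else 2 * b) (hκn : κ ≤ n) (hcdvd : c ∣ n - κ) (hmn : 2 * m ≤ n)
    (h2 : 2 * (m % b) ≤ n % c) (h3 : ¬ sd ∨ t + 2 * (m / b) ≤ n / b) :
    ∃ a' s : ℕ, a' + b * s = m ∧ 2 * a' ≤ κ ∧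
      (¬ sd → 2 * b * s ≤ n - κ) ∧
      (sd → s = 0 ∨ t * b + 2 * s * b ≤ (n - κ) + b) := by
  obtain ⟨v, hv⟩ := hcdvd
  have hm : b * (m / b) + m % b = m := Nat.div_add_mod m b
  have hℓ : m % b < b := Nat.mod_lt _ hb
  set m' := m / b with hm'
  set ℓ := m % b with hℓdef
  have hn : n = κ + c * v := by omega
  by_cases hsd : sd
  · -- the self-dual case: `c = b`
    rw [if_pos hsd] at hc
    subst hc
    have hκ : c * (κ / c) + κ % c = κ := Nat.div_add_mod κ c
    set u := κ / c with hu
    have hk : n % c = κ % c := by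
      rw [hn, Nat.add_mul_mod_self_left]
    have hklt : κ % c < c := Nat.mod_lt _ hb
    have hndiv : n / c = u + v := by
      have : n = κ % c + c * (u + v) := by rw [mul_add]; omega
      rw [this, Nat.add_mul_div_left _ _ hb, Nat.div_eq_of_lt hklt, zero_add]
    have h3' : t + 2 * m' ≤ u + v := by
      rcases h3 with h | h
      · exact absurd hsd h
      · rw [hndiv] at h; exact h
    rw [hk] at h2
    by_cases hcase : m' ≤ u / 2
    · refine ⟨m, 0, by simp, ?_, fun h => absurd hsd h, fun _ => Or.inl rfl⟩
      have h2m : 2 * m' ≤ u := by omega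
      have := Nat.mul_le_mul_left c h2m
      nlinarith
    · push Not at hcase
      refine ⟨ℓ + c * (u / 2), m' - u / 2, ?_, ?_, fun h => absurd hsd h, fun _ => Or.inr ?_⟩
      · rw [Nat.mul_sub]
        have := Nat.mul_le_mul_left c hcase.le
        omega
      · have h2h : 2 * (u / 2) ≤ u := by omega
        have := Nat.mul_le_mul_left c h2h
        nlinarith
      · have key : t + 2 * (m' - u / 2) ≤ v + 1 := by omega
        have := Nat.mul_le_mul_right c key
        have e1 : n - κ = c * v := by omega
        rw [e1]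
        nlinarith
  · -- the other case: `c = 2 b`
    rw [if_neg hsd] at hc
    subst hc
    have hc0 : 0 < 2 * b := by omega
    have hκ : 2 * b * (κ / (2 * b)) + κ % (2 * b) = κ := Nat.div_add_mod κ (2 * b)
    set u := κ / (2 * b) with hu
    have hk : n % (2 * b) = κ % (2 * b) := by
      rw [hn, Nat.add_mul_mod_self_left]
    have hklt : κ % (2 * b) < 2 * b := Nat.mod_lt _ hc0
    rw [hk] at h2
    by_cases hcase : m' ≤ u
    · refine ⟨m, 0, by simp, ?_, fun _ => by simp, fun h => absurd h hsd⟩
      have := Nat.mul_le_mul_left b hcase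
      nlinarith
    · push Not at hcase
      have hle : m' ≤ u + v := by
        by_contra hcon
        push Not at hcon
        have h1 : u + v + 1 ≤ m' := hcon
        have := Nat.mul_le_mul_left b h1
        nlinarith
      refine ⟨ℓ + b * u, m' - u, ?_, ?_, fun _ => ?_, fun h => absurd h hsd⟩
      · rw [Nat.mul_sub]
        have := Nat.mul_le_mul_left b hcase.le
        omega
      · nlinarith
      · have e1 : n - κ = 2 * b * v := by omega
        rw [e1]
        have h1 : m' - u ≤ v := by omega
        have := Nat.mul_le_mul_left (2 * b) h1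
        exact this

end Cfsg.Agent.S5953P
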