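import Mathlib
import Cfsg.Prelude.Def_Classical
import Cfsg.Agent.Helper23.S5953Defs

set_option autoImplicit false

/-! S5953 pieces ARITHU1, ARITHU2: number theory of `ord_r(q)`, `ord_r(q^2)`, `cu q r`. -/

namespace Cfsg.Agent.S5953P

namespace ARITHU

/-- the common setup: `q` is a unit mod `r`, its order `i` divides `r - 1`, and
`r ∣ q^m - 1 ↔ i ∣ m` -/
theorem setup {F : Type*} [Field F] [Fintype F] {p : ℕ} [Fact p.Prime] [CharP F p] {q : ℕ}
    (hF : Fintype.card F = q ^ 2) (r : ℕ) [Fact r.Prime] (hrp : r ≠ p) :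
    0 < q ∧ ((q : ℕ) : ZMod r) ≠ 0 ∧ orderOf (q : ZMod r) ∣ r - 1 ∧ 0 < orderOf (q : ZMod r) ∧
    (∀ m : ℕ, r ∣ q ^ m - 1 ↔ orderOf (q : ZMod r) ∣ m) ∧
    (∀ m : ℕ, r ∣ q ^ m + 1 ↔ (q : ZMod r) ^ m = -1) := by
  have hr : r.Prime := Fact.out
  have hp : p.Prime := Fact.out
  obtain ⟨n, -, hq⟩ := FiniteField.card F p
  have hcpos : 0 < Fintype.card F := Fintype.card_pos
  have hqpos : 0 < q := by
    rcases Nat.eq_zero_or_pos q with h | h
    · rw [h] at hF; simp at hF
    · exact h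
  have hq0 : ((q : ℕ) : ZMod r) ≠ 0 := by
    intro h0
    rw [ZMod.natCast_eq_zero_iff] at h0
    have h1 : r ∣ p ^ (n : ℕ) := by
      rw [← hq, hF]
      exact Dvd.dvd.pow h0 (by norm_num)
    have := (Nat.prime_dvd_prime_iff_eq hr hp).mp (hr.dvd_of_dvd_pow h1)
    exact hrp this
  have hpow : ((q : ℕ) : ZMod r) ^ (r - 1) = 1 := ZMod.pow_card_sub_one_eq_one hq0
  have hr1 : 0 < r - 1 := by have := hr.two_le; omega
  have hidvd : orderOf (q : ZMod r) ∣ r - 1 := orderOf_dvd_of_pow_eq_one hpow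
  refine ⟨hqpos, hq0, hidvd, Nat.pos_of_dvd_of_pos hidvd hr1, ?_, ?_⟩
  · intro m
    have h1 : 1 ≤ q ^ m := Nat.one_le_pow _ _ hqpos
    rw [← ZMod.natCast_eq_zero_iff, Nat.cast_sub h1, Nat.cast_pow, Nat.cast_one, sub_eq_zero,
      orderOf_dvd_iff_pow_eq_one]
  · intro m
    rw [← ZMod.natCast_eq_zero_iff, Nat.cast_add, Nat.cast_pow, Nat.cast_one,
      add_eq_zero_iff_eq_neg]

/-- `-1 ≠ 1` in `ZMod r`, `r` odd -/
theorem neg_one_ne_one (r : ℕ) [Fact r.Prime] (hr2 : r ≠ 2) : (-1 : ZMod r) ≠ 1 := by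
  have hr : r.Prime := Fact.out
  intro h
  have h2 : ((2 : ℕ) : ZMod r) = 0 := by
    push_cast
    have : (1 : ZMod r) + 1 = 0 := by
      nth_rewrite 1 [← h]
      ring
    rw [← this]
    ring
  rw [ZMod.natCast_eq_zero_iff] at h2
  have := (Nat.prime_dvd_prime_iff_eq hr Nat.prime_two).mp h2
  exact hr2 this

/-- for `i = ord x` even, `x^(i/2) = -1` -/
theorem pow_half_eq_neg_one {r : ℕ} [Fact r.Prime] (x : ZMod r) (hpos : 0 < orderOf x)
    (hev : Even (orderOf x)) : x ^ (orderOf x / 2) = -1 := by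
  obtain ⟨h, hh⟩ := hev
  have hh2 : orderOf x / 2 = h := by omega
  rw [hh2]
  have hhpos : 0 < h := by omega
  have hsq : (x ^ h - 1) * (x ^ h + 1) = 0 := by
    have : x ^ orderOf x = 1 := pow_orderOf_eq_one _
    rw [hh, pow_add] at this
    linear_combination this
  rcases mul_eq_zero.mp hsq with h1 | h1
  · exfalso
    rw [sub_eq_zero] at h1
    have := orderOf_dvd_of_pow_eq_one h1
    have := Nat.le_of_dvd hhpos this
    omega
  · exact add_eq_zero_iff_eq_neg.mp h1

/-- the order of `q^2` -/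
theorem orderOf_sq {r : ℕ} (x : ZMod r) (hpos : 0 < orderOf x) :
    orderOf (x ^ 2) = if Even (orderOf x) then orderOf x / 2 else orderOf x := by
  rw [orderOf_pow' x (by norm_num : (2 : ℕ) ≠ 0)]
  by_cases hev : Even (orderOf x)
  · rw [if_pos hev]
    have : Nat.gcd (orderOf x) 2 = 2 := Nat.gcd_eq_right hev.two_dvd
    rw [this]
  · rw [if_neg hev]
    have hodd : Odd (orderOf x) := Nat.not_even_iff_odd.mp hev
    have : Nat.gcd (orderOf x) 2 = 1 := by
      rw [Nat.gcd_comm]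
      exact (Nat.coprime_two_left).mpr hodd
    rw [this, Nat.div_one]

end ARITHU

/-- ARITHU1 -/
theorem cu_arith {F : Type*} [Field F] [Fintype F] {p : ℕ} [Fact p.Prime] [CharP F p] {q : ℕ}
    (hF : Fintype.card F = q ^ 2) (r : ℕ) [Fact r.Prime] (hr2 : r ≠ 2) (hrp : r ≠ p) :
    0 < orderOf (q : ZMod r) ∧
    orderOf ((Fintype.card F : ℕ) : ZMod r) =
      (if Even (orderOf (q : ZMod r)) then orderOf (q : ZMod r) / 2 else orderOf (q : ZMod r)) ∧
    0 < orderOf ((Fintype.card F : ℕ) : ZMod r) ∧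
    orderOf ((Fintype.card F : ℕ) : ZMod r) ∣ r - 1 ∧
    cu q r = (if orderOf (q : ZMod r) % 4 = 2 then orderOf ((Fintype.card F : ℕ) : ZMod r)
      else 2 * orderOf ((Fintype.card F : ℕ) : ZMod r)) ∧
    cu q r ∣ r - 1 ∧
    (r ∣ q + 1 ↔ orderOf (q : ZMod r) = 2) := by
  have hr : r.Prime := Fact.out
  obtain ⟨hqpos, hq0, hidvd, hipos, key, keyp⟩ := ARITHU.setup hF r hrp
  have hrodd : Odd r := hr.odd_of_ne_two hr2
  have h2dvd : 2 ∣ r - 1 := by
    obtain ⟨k, hk⟩ := hrodd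
    exact ⟨k, by omega⟩
  have hb : orderOf ((Fintype.card F : ℕ) : ZMod r) =
      (if Even (orderOf (q : ZMod r)) then orderOf (q : ZMod r) / 2 else orderOf (q : ZMod r)) := by
    rw [hF, Nat.cast_pow]
    exact ARITHU.orderOf_sq _ hipos
  set i := orderOf (q : ZMod r) with hi
  set b := orderOf ((Fintype.card F : ℕ) : ZMod r) with hbdef
  have hcu := cu_def q r
  rw [← hi] at hcu
  have hbpos : 0 < b := by
    rw [hb]
    split_ifs with hev
    · obtain ⟨h, hh⟩ := hev
      omega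
    · exact hipos
  have hbi : b ∣ i := by
    rw [hb]
    split_ifs with hev
    · exact Nat.div_dvd_of_dvd hev.two_dvd
    · exact dvd_rfl
  refine ⟨hipos, hb, hbpos, hbi.trans hidvd, ?_, ?_, ?_⟩
  · by_cases h0 : i % 4 = 0
    · rw [hcu, if_pos h0, if_neg (by omega), hb, if_pos (Nat.even_iff.mpr (by omega))]
      omega
    · by_cases h2 : i % 4 = 2
      · rw [hcu, if_neg h0, if_pos h2, if_pos h2, hb, if_pos (Nat.even_iff.mpr (by omega))]
      · rw [hcu, if_neg h0, if_neg h2, if_neg h2, hb, if_neg]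
        rw [Nat.even_iff]
        omega
  · by_cases h0 : i % 4 = 0
    · rw [hcu, if_pos h0]; exact hidvd
    · by_cases h2 : i % 4 = 2
      · rw [hcu, if_neg h0, if_pos h2]
        exact (Nat.div_dvd_of_dvd (by omega : 2 ∣ i)).trans hidvd
      · rw [hcu, if_neg h0, if_neg h2]
        have hodd : Odd i := by
          rw [Nat.odd_iff]; omega
        have hcop : Nat.Coprime 2 i := (Nat.coprime_two_left).mpr hodd
        exact hcop.mul_dvd_of_dvd_of_dvd h2dvd hidvd
  · rw [show q + 1 = q ^ 1 + 1 by ring, keyp 1, pow_one]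
    constructor
    · intro h
      have h2 : (q : ZMod r) ^ 2 = 1 := by rw [h]; ring
      have hd : i ∣ 2 := orderOf_dvd_of_pow_eq_one h2
      have hle : i ≤ 2 := Nat.le_of_dvd (by norm_num) hd
      have hne1 : i ≠ 1 := by
        intro h1
        have : (q : ZMod r) = 1 := orderOf_eq_one_iff.mp h1
        rw [this] at h
        exact ARITHU.neg_one_ne_one r hr2 h.symm
      omega
    · intro h
      have := ARITHU.pow_half_eq_neg_one (q : ZMod r) hipos (by rw [← hi, h]; exact even_two)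
      rw [← hi, h] at this
      simpa using this

/-- ARITHU2 -/
theorem cu_arith2 {F : Type*} [Field F] [Fintype F] {p : ℕ} [Fact p.Prime] [CharP F p] {q : ℕ}
    (hF : Fintype.card F = q ^ 2) (r : ℕ) [Fact r.Prime] (hr2 : r ≠ 2) (hrp : r ≠ p) :
    (orderOf (q : ZMod r) % 4 = 2 → Odd (orderOf ((Fintype.card F : ℕ) : ZMod r)) ∧
      r ∣ q ^ orderOf ((Fintype.card F : ℕ) : ZMod r) + 1) ∧
    (∀ j : ℕ, Odd j → r ∣ q ^ j + 1 → orderOf (q : ZMod r) % 4 = 2) ∧
    (∀ j : ℕ, Even j → r ∣ q ^ j - 1 → cu q r ∣ j) ∧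
    (∀ j : ℕ, Odd j → r ∣ q ^ j + 1 → cu q r ∣ j) := by
  have hr : r.Prime := Fact.out
  obtain ⟨hqpos, hq0, hidvd, hipos, key, keyp⟩ := ARITHU.setup hF r hrp
  obtain ⟨-, hb, hbpos, -, hcub, -, -⟩ := cu_arith hF r hr2 hrp
  set i := orderOf (q : ZMod r) with hi
  set b := orderOf ((Fintype.card F : ℕ) : ZMod r) with hbdef
  have hcu := cu_def q r
  rw [← hi] at hcu
  -- the second claim
  have hB : ∀ j : ℕ, Odd j → r ∣ q ^ j + 1 → i % 4 = 2 ∧ i / 2 ∣ j := by
    intro j hj hdvd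
    have h1 : (q : ZMod r) ^ j = -1 := (keyp j).mp hdvd
    have h2 : (q : ZMod r) ^ (2 * j) = 1 := by
      rw [mul_comm, pow_mul, h1]; ring
    have hd : i ∣ 2 * j := orderOf_dvd_of_pow_eq_one h2
    have hnd : ¬ i ∣ j := by
      intro h
      have := orderOf_dvd_iff_pow_eq_one.mp h
      rw [h1] at this
      exact ARITHU.neg_one_ne_one r hr2 this
    have hev : Even i := by
      by_contra hne
      have hodd : Odd i := Nat.not_even_iff_odd.mp hne
      have hcop : Nat.Coprime i 2 := (Nat.coprime_two_right).mpr hodd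
      exact hnd (hcop.dvd_of_dvd_mul_left hd)
    obtain ⟨h, hh⟩ := hev
    have hh2 : i / 2 = h := by omega
    have hhj : h ∣ j := by
      have : 2 * h ∣ 2 * j := by
        have : i = 2 * h := by omega
        rw [← this]; exact hd
      exact (Nat.mul_dvd_mul_iff_left (by norm_num)).mp this
    have hhodd : Odd h := by
      obtain ⟨k, hk⟩ := hhj
      rw [hk] at hj
      exact (Nat.odd_mul.mp hj).1
    obtain ⟨k, hk⟩ := hhodd
    refine ⟨by omega, by rw [hh2]; exact hhj⟩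
  refine ⟨?_, fun j hj hdvd => (hB j hj hdvd).1, ?_, ?_⟩
  · intro h2
    have hev : Even i := Nat.even_iff.mpr (by omega)
    have hbi : b = i / 2 := by rw [hb, if_pos hev]
    refine ⟨?_, ?_⟩
    · rw [hbi, Nat.odd_iff]; omega
    · rw [keyp, hbi]
      exact ARITHU.pow_half_eq_neg_one (q : ZMod r) hipos hev
  · intro j hj hdvd
    have hij : i ∣ j := (key j).mp hdvd
    by_cases h0 : i % 4 = 0
    · rw [hcu, if_pos h0]; exact hij
    · by_cases h2 : i % 4 = 2
      · rw [hcu, if_neg h0, if_pos h2]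
        exact (Nat.div_dvd_of_dvd (by omega : 2 ∣ i)).trans hij
      · rw [hcu, if_neg h0, if_neg h2]
        have hodd : Odd i := by
          rw [Nat.odd_iff]; omega
        have hcop : Nat.Coprime 2 i := (Nat.coprime_two_left).mpr hodd
        exact hcop.mul_dvd_of_dvd_of_dvd hj.two_dvd hij
  · intro j hj hdvd
    obtain ⟨h2, hdv⟩ := hB j hj hdvd
    rw [hcu, if_neg (by omega), if_pos h2]
    exact hdv

end Cfsg.Agent.S5953P
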