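import Mathlib
import Cfsg.Prelude.Def_Classical
import Cfsg.Agent.Helper23.S5953Defs
import Cfsg.Agent.Helper7.S5953ORTHCU
import Cfsg.Agent.Helper21.S5950SEMI

set_option autoImplicit false
open scoped MatrixGroups Matrix

/-! S5953 piece DUALPAIRU: an invariant complement `U'` of `M ⊓ U^⊥` in `M` for an invariant
`U ≤ M` (Maschke); `U'` has the dimension of `U` and pairs perfectly with `U`. -/

universe u

namespace Cfsg.Agent.S5953P

open Polynomial Cfsg.Agent.S5955P Cfsg.Agent.Helper28.HW Cfsg.Agent.Helper28.HermFrame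

namespace DUALPAIRU

open ORTHCU in
/-- the dimension of the orthogonal complement inside a nondegenerate subspace -/
theorem finrank_inf_perp {F V : Type*} [Field F] [Fintype F] [AddCommGroup V] [Module F V]
    [FiniteDimensional F V] {q : ℕ} {σ : F →+* F} (B : V →ₛₗ[σ] V →ₗ[F] F) (hB : IsHerm q B)
    (M U : Submodule F V) (hM : NondegU B M) (hUM : U ≤ M) :
    Module.finrank F U + Module.finrank F ↥(M ⊓ perp B U) = Module.finrank F M := by
  have h1 := finrank_perp hB.invol (restr_nondeg hB M hM) (U.comap M.subtype)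
  have h2 : Module.finrank F ↥(U.comap M.subtype) = Module.finrank F U :=
    (Submodule.comapSubtypeEquivOfLe hUM).finrank_eq
  have h3 : perp (B.domRestrict₁₂ M M) (U.comap M.subtype) =
      (M ⊓ perp B U).comap M.subtype := by
    ext x
    constructor
    · intro hx
      refine ⟨x.2, ?_⟩
      intro u hu
      have := hx ⟨u, hUM hu⟩ hu
      rw [restr_apply] at this
      exact this
    · intro hx u hu
      rw [restr_apply]
      exact hx.2 _ hu
  have h4 : Module.finrank F ↥((M ⊓ perp B U).comap M.subtype) =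
      Module.finrank F ↥(M ⊓ perp B U) :=
    (Submodule.comapSubtypeEquivOfLe inf_le_left).finrank_eq
  rw [h3, h4, h2] at h1
  omega

end DUALPAIRU

/-- DUALPAIRU -/
theorem exists_dual_pair_u {F V : Type*} [Field F] [Fintype F] [AddCommGroup V] [Module F V]
    [FiniteDimensional F V] {p : ℕ} [Fact p.Prime] [CharP F p] {q : ℕ} (r : ℕ) [Fact r.Prime]
    (hrp : r ≠ p) {σ : F →+* F} (B : V →ₛₗ[σ] V →ₗ[F] F) (y : Module.End F V)
    (h : IsYU q B y r) (M U : Submodule F V) (hM : M.map y ≤ M) (hMnd : NondegU B M)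
    (hUM : U ≤ M) (hU : U.map y ≤ U) :
    ∃ U' : Submodule F V, U' ≤ M ∧ U'.map y ≤ U' ∧ Module.finrank F U' = Module.finrank F U ∧
      (∀ u' ∈ U', (∀ u ∈ U, B u u' = 0) → u' = 0) ∧
      (OrthU B U U → Disjoint U U' ∧ NondegU B (U ⊔ U')) := by
  classical
  have hr : r.Prime := Fact.out
  have hp : p.Prime := Fact.out
  have hB := h.herm
  have hrF : (r : F) ≠ 0 := by
    intro h0
    rw [CharP.cast_eq_zero_iff F p] at h0
    rcases (Nat.prime_dvd_prime_iff_eq hp hr).mp h0 with h1
    exact hrp h1.symm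
  -- powers of `y` preserve `U`
  have hUy : ∀ u ∈ U, y u ∈ U := fun u hu => hU (Submodule.mem_map_of_mem hu)
  have hUpow : ∀ n : ℕ, ∀ u ∈ U, (y ^ n) u ∈ U := by
    intro n
    induction n with
    | zero => intro u hu; simpa using hu
    | succ n ih =>
      intro u hu
      rw [pow_succ', Module.End.mul_apply]
      exact hUy _ (ih u hu)
  -- `P = M ⊓ U^⊥` is invariant
  have hperp : (M ⊓ perp B U).map y ≤ M ⊓ perp B U := by
    rintro _ ⟨m, hm, rfl⟩
    refine ⟨hM ⟨m, hm.1, rfl⟩, ?_⟩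
    intro n hn
    obtain ⟨r0, hr0⟩ : ∃ r0, r = r0 + 1 := ⟨r - 1, by have := hr.pos; omega⟩
    have h1 : y ((y ^ r0) n) = n := by
      have : (y ^ (r0 + 1)) n = n := by rw [← hr0, h.pow, Module.End.one_apply]
      rwa [pow_succ', Module.End.mul_apply] at this
    rw [← h1, h.isom]
    exact hm.2 _ (hUpow r0 n hn)
  have hy' : y ^ r = (1 : F) • (1 : Module.End F V) := by rw [h.pow, one_smul]
  obtain ⟨W, hcompl, hW⟩ :=
    Cfsg.Agent.S5949P.exists_invariant_compl y r 1 one_ne_zero hrF hy' (M ⊓ perp B U) hperp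
  -- the complement inside `M`
  have hsup : (M ⊓ perp B U) ⊔ (W ⊓ M) = M := by
    rw [← sup_inf_assoc_of_le W (inf_le_left : M ⊓ perp B U ≤ M), hcompl.sup_eq_top, top_inf_eq]
  have hinf : (M ⊓ perp B U) ⊓ (W ⊓ M) = ⊥ := by
    apply le_antisymm _ bot_le
    rw [← hcompl.inf_eq_bot]
    exact inf_le_inf_left _ inf_le_left
  have hpair : ∀ u' ∈ W ⊓ M, (∀ u ∈ U, B u u' = 0) → u' = 0 := by
    intro u' hu' hh
    have h2 : u' ∈ (M ⊓ perp B U) ⊓ (W ⊓ M) := ⟨⟨hu'.2, hh⟩, hu'⟩
    rw [hinf] at h2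
    exact (Submodule.mem_bot F).mp h2
  refine ⟨W ⊓ M, inf_le_right, ?_, ?_, hpair, ?_⟩
  · rintro _ ⟨x, hx, rfl⟩
    exact ⟨hW ⟨x, hx.1, rfl⟩, hM ⟨x, hx.2, rfl⟩⟩
  · have h1 := DUALPAIRU.finrank_inf_perp B hB M U hMnd hUM
    have h2 := Submodule.finrank_sup_add_finrank_inf_eq (M ⊓ perp B U) (W ⊓ M)
    rw [hsup, hinf, finrank_bot, add_zero] at h2
    omega
  · intro hti
    have hUP : U ≤ M ⊓ perp B U := fun u hu => ⟨hUM hu, fun x hx => hti x hx u hu⟩
    refine ⟨?_, ?_⟩
    · rw [disjoint_iff]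
      apply le_antisymm _ bot_le
      rw [← hinf]
      exact inf_le_inf_right _ hUP
    · intro x hx hx0
      by_contra hcon
      push Not at hcon
      obtain ⟨u, hu, u', hu', rfl⟩ := Submodule.mem_sup.mp hx
      -- `u' = 0`
      have hu'0 : u' = 0 := by
        apply hpair u' hu'
        intro w hw
        have := hcon w (Submodule.mem_sup_left hw)
        rw [map_add, LinearMap.add_apply, hti u hu w hw, zero_add] at this
        exact hB.eq_zero_comm this
      subst hu'0
      rw [add_zero] at hx0 hcon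
      -- `u` is orthogonal to `M`
      obtain ⟨v, hv, hne⟩ := hMnd u (hUM hu) hx0
      rw [← hsup] at hv
      obtain ⟨a, ha, c, hc, rfl⟩ := Submodule.mem_sup.mp hv
      apply hne
      rw [map_add, ha.2 u hu, zero_add]
      exact hcon c (Submodule.mem_sup_right hc)

end Cfsg.Agent.S5953P
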