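import Mathlib
import Cfsg.Prelude.Def_Classical
import Cfsg.Agent.Helper23.S5953Defs
import Cfsg.Agent.Helper7.S5953AUG1U
import Cfsg.Agent.Helper7.S5955AUG1
import Cfsg.Agent.Helper23.S5953NDCHAIN
import Cfsg.Agent.Helper18.S5953ARITHU
import Cfsg.Agent.Helper22.S5953AUGND

set_option autoImplicit false
open scoped MatrixGroups Matrix

/-! S5953 piece AUGBLOCKS: for `i ≡ 2 (mod 4)` the augmentation space is an orthogonal sum of
`(r - 1) / b` nondegenerate irreducible invariant subspaces. -/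

universe u

namespace Cfsg.Agent.S5953P

open Polynomial Cfsg.Agent.S5955P Cfsg.Agent.Helper28.HW Cfsg.Agent.Helper28.HermFrame

namespace AUGBLOCKS

/-- the dimension of an internal direct sum -/
theorem finrank_of_indep {F V : Type*} [Field F] [AddCommGroup V] [Module F V]
    [FiniteDimensional F V] {D : ℕ} (E : Fin D → Submodule F V) (hind : iSupIndep E)
    (hsup : (⨆ j, E j) = ⊤) : Module.finrank F V = ∑ j, Module.finrank F (E j) := by
  classical
  have hint := DirectSum.isInternal_submodule_of_iSupIndep_of_iSup_eq_top hind hsup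
  have e := LinearEquiv.ofBijective (DirectSum.coeLinearMap E) hint
  rw [← e.finrank_eq, Module.finrank_directSum]

end AUGBLOCKS

/-- AUGBLOCKS: for `i ≡ 2 (mod 4)`, `Aug` is an orthogonal sum of `s = (r-1)/b` nondegenerate
irreducible invariant subspaces -/
theorem aug_blocks_u {F : Type*} [Field F] [Fintype F] {p : ℕ} [Fact p.Prime] [CharP F p]
    {q : ℕ} (hF : Fintype.card F = q ^ 2) (σ : F →+* F) (hσ : ∀ a, σ a = a ^ q) (r : ℕ)
    [Fact r.Prime] (hr2 : r ≠ 2) (hrp : r ≠ p) (hsd : orderOf (q : ZMod r) % 4 = 2) :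
    ∃ E : Fin ((r - 1) / orderOf ((Fintype.card F : ℕ) : ZMod r)) → Submodule F (Aug F r),
      (∀ j, (E j).map (augS F r) ≤ E j) ∧ (∀ j, NondegU (augU σ r) (E j)) ∧
      (∀ j, Module.finrank F (E j) = orderOf ((Fintype.card F : ℕ) : ZMod r)) ∧
      (∀ j j', j ≠ j' → OrthU (augU σ r) (E j) (E j')) ∧ iSupIndep E ∧
      (⨆ j, E j) = ⊤ := by
  classical
  have hr : r.Prime := Fact.out
  have hY := aug_isYU hF σ hσ r hrp
  obtain ⟨-, hker, hdim⟩ := aug_isYSp (F := F) r hr2 hrp
  obtain ⟨hipos, hb, hbpos, -, hcu, -, -⟩ := cu_arith hF r hr2 hrp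
  set b := orderOf ((Fintype.card F : ℕ) : ZMod r) with hbdef
  rcases exists_ti_irr_or_decomp_u r hrp (augU σ r) (augS F r) hY ⊤
    (fun _ _ => Submodule.mem_top) hY.nondeg (by rw [hker, inf_bot_eq]) with
    ⟨U, -, hUinv, hti, hUdim⟩ | ⟨D, E, -, hEinv, hEnd, hEdim, hEorth, hEind, hEsup⟩
  · exfalso
    have hnd := aug_irr_nondeg_u hF σ hσ r hr2 hrp hsd U hUinv hUdim
    have hU0 : U ≠ ⊥ := by
      intro h
      rw [h, finrank_bot] at hUdim
      omega
    obtain ⟨u, hu, hu0⟩ := Submodule.exists_mem_ne_zero_of_ne_bot hU0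
    obtain ⟨v, hv, hne⟩ := hnd u hu hu0
    exact hne (hti u hu v hv)
  · have hcount := AUGBLOCKS.finrank_of_indep E hEind hEsup
    simp only [hEdim, Finset.sum_const, Finset.card_univ, Fintype.card_fin, smul_eq_mul] at hcount
    rw [hdim] at hcount
    have hD : D = (r - 1) / b := by
      rw [hcount, Nat.mul_div_cancel _ hbpos]
    subst hD
    exact ⟨E, hEinv, hEnd, hEdim, hEorth, hEind, hEsup⟩

end Cfsg.Agent.S5953P
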