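import Mathlib
import Cfsg.Prelude.Def_Classical
import Cfsg.Agent.Helper23.S5953Defs

set_option autoImplicit false
open scoped MatrixGroups Matrix

/-! S5953 piece SDNTF: a self-dual irreducible factor of `X ^ r - 1` over the field with `q ^ 2`
elements forces `q ^ j ≡ -1 (mod r)` for an odd `j`. -/

universe u

namespace Cfsg.Agent.S5953P

open Polynomial Cfsg.Agent.S5955P Cfsg.Agent.Helper28.HW Cfsg.Agent.Helper28.HermFrame

/-- SDNTF: a self-dual irreducible factor of `X ^ r - 1` forces `q ^ j ≡ -1 (mod r)`, `j` odd -/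
theorem selfdual_poly_nt {F : Type*} [Field F] [Fintype F] {p : ℕ} [Fact p.Prime] [CharP F p]
    {q : ℕ} (hF : Fintype.card F = q ^ 2) (r : ℕ) [Fact r.Prime] (hr2 : r ≠ 2) (hrp : r ≠ p)
    (σ : F →+* F) (hσ : ∀ a, σ a = a ^ q) (g : F[X]) (hg : Irreducible g)
    (hgd : g.natDegree = orderOf ((Fintype.card F : ℕ) : ZMod r))
    (hgdvd : g ∣ X ^ r - 1) (hg1 : g.eval 1 ≠ 0) (hsd : g ∣ (g.map σ).reverse) :
    ∃ j : ℕ, Odd j ∧ r ∣ q ^ j + 1 := by
  classical
  have hr : r.Prime := Fact.out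
  have hp : p.Prime := Fact.out
  have : Fact (Irreducible g) := ⟨hg⟩
  have hg0 : g ≠ 0 := hg.ne_zero
  -- `q` is a power of `p`
  obtain ⟨n, -, hq⟩ := FiniteField.card F p
  obtain ⟨k, hk⟩ : ∃ k, q = p ^ k := by
    have : q ∣ p ^ (n : ℕ) := by
      rw [← hq, hF]
      exact Dvd.intro_left q (by ring)
    obtain ⟨k, -, hk⟩ := (Nat.dvd_prime_pow hp).mp this
    exact ⟨k, hk⟩
  have hrq : ¬ r ∣ q := by
    intro h
    rw [hk] at h
    exact hrp ((Nat.prime_dvd_prime_iff_eq hr hp).mp (hr.dvd_of_dvd_pow h))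
  -- the field `K = F[X]/(g)`
  have : Module.Finite F (AdjoinRoot g) := (AdjoinRoot.powerBasis hg0).finite
  have : Finite (AdjoinRoot g) := Module.finite_of_finite F
  have : CharP (AdjoinRoot g) p :=
    charP_of_injective_algebraMap (algebraMap F (AdjoinRoot g)).injective p
  set lam : AdjoinRoot g := AdjoinRoot.root g with hlam
  have h0 : aeval lam g = 0 := by rw [AdjoinRoot.aeval_eq, AdjoinRoot.mk_self]
  -- `lam ^ r = 1`, `lam ≠ 1`
  have hlr : lam ^ r = 1 := by
    have := aeval_eq_zero_of_dvd_aeval_eq_zero hgdvd h0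
    rw [map_sub, map_pow, aeval_X, map_one, sub_eq_zero] at this
    exact this
  have hl1 : lam ≠ 1 := by
    intro h1
    rw [h1] at h0
    have h2 : aeval (1 : AdjoinRoot g) g = algebraMap F (AdjoinRoot g) (g.eval 1) := by
      rw [← map_one (algebraMap F (AdjoinRoot g)), aeval_algebraMap_apply]
      rfl
    rw [h2] at h0
    exact hg1 ((map_eq_zero _).mp h0)
  have hl0 : lam ≠ 0 := by
    intro h
    rw [h, zero_pow hr.ne_zero] at hlr
    exact zero_ne_one hlr
  have hord : orderOf lam = r := orderOf_eq_prime hlr hl1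
  -- the reverse
  have h3 : eval₂ (algebraMap F (AdjoinRoot g)) lam (g.map σ).reverse = 0 := by
    have := aeval_eq_zero_of_dvd_aeval_eq_zero hsd h0
    rw [aeval_def] at this
    exact this
  have h4 : eval₂ (algebraMap F (AdjoinRoot g)) lam⁻¹ (g.map σ) = 0 := by
    haveI : Invertible (lam⁻¹) := invertibleOfNonzero (inv_ne_zero hl0)
    have := eval₂_reverse_eq_zero_iff (algebraMap F (AdjoinRoot g)) (lam⁻¹) (g.map σ)
    rw [invOf_eq_inv, inv_inv] at this
    exact this.mp h3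
  rw [eval₂_map] at h4
  -- apply `x ↦ x ^ q`
  have hcomp : (iterateFrobenius (AdjoinRoot g) p k).comp
      ((algebraMap F (AdjoinRoot g)).comp σ) = algebraMap F (AdjoinRoot g) := by
    refine RingHom.ext fun c => ?_
    rw [RingHom.comp_apply, RingHom.comp_apply, iterateFrobenius_def, ← hk, hσ, ← map_pow,
      ← pow_mul, ← pow_two, ← hF, FiniteField.pow_card]
  have h5 : aeval ((lam⁻¹) ^ q) g = 0 := by
    have := congrArg (iterateFrobenius (AdjoinRoot g) p k) h4
    rw [hom_eval₂, map_zero, hcomp, iterateFrobenius_def, ← hk] at this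
    rw [aeval_def]
    exact this
  -- the algebra endomorphism `lam ↦ lam⁻¹ ^ q`
  set τ : AdjoinRoot g →ₐ[F] AdjoinRoot g :=
    AdjoinRoot.liftAlgHom g (Algebra.ofId F (AdjoinRoot g)) ((lam⁻¹) ^ q) (by
      rw [aeval_def] at h5
      exact h5) with hτ
  have hτl : τ lam = (lam⁻¹) ^ q := AdjoinRoot.liftAlgHom_root _ _ _ _
  obtain ⟨m, hm⟩ := (FiniteField.bijective_frobeniusAlgHom_pow F (AdjoinRoot g)).2 τ
  have h6 : lam ^ (Fintype.card F ^ (m : ℕ)) = (lam⁻¹) ^ q := by
    rw [← hτl, ← hm]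
    simp only [AlgHom.coe_pow, FiniteField.coe_frobeniusAlgHom, pow_iterate]
  have h7 : lam ^ (Fintype.card F ^ (m : ℕ) + q) = 1 := by
    rw [pow_add, h6, inv_pow, inv_mul_cancel₀ (pow_ne_zero _ hl0)]
  have h8 : r ∣ Fintype.card F ^ (m : ℕ) + q := by
    rw [← hord]
    exact orderOf_dvd_of_pow_eq_one h7
  rw [hF] at h8
  rcases Nat.eq_zero_or_pos (m : ℕ) with hm0 | hmpos
  · refine ⟨1, odd_one, ?_⟩
    rw [hm0, pow_zero, add_comm] at h8
    simpa using h8
  · refine ⟨2 * (m : ℕ) - 1, ?_, ?_⟩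
    · rw [Nat.odd_iff]; omega
    · have e : (q ^ 2) ^ (m : ℕ) + q = q * (q ^ (2 * (m : ℕ) - 1) + 1) := by
        rw [mul_add, mul_one, ← pow_succ', ← pow_mul]
        congr 2
        omega
      rw [e] at h8
      exact (Nat.Prime.dvd_mul hr).mp h8 |>.resolve_left hrq

end Cfsg.Agent.S5953P
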