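import Mathlib
import Cfsg.Prelude.Def_Classical
import Cfsg.Agent.Helper23.S5953Defs
import Cfsg.Agent.Helper7.S5953IRRNDU
import Cfsg.Agent.Helper7.S5953AUG1U
import Cfsg.Agent.Helper7.S5955AUG1
import Cfsg.Agent.Helper26.S5955IRRSUB
import Cfsg.Agent.Helper18.S5953ARITHU
import Cfsg.Agent.Helper18.S5953DUALPAIRU
import Cfsg.Agent.Helper22.S5953AUGND
import Cfsg.Agent.Helper25.S5953RESTRYU
import Cfsg.Agent.Helper23.S5953SDNT

set_option autoImplicit false
open scoped MatrixGroups Matrix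

/-! S5953 piece BLOCKSP: a fixed-point-free model space of dimension `cu q r`. -/

universe u

namespace Cfsg.Agent.S5953P

open Polynomial Cfsg.Agent.S5955P Cfsg.Agent.Helper28.HW Cfsg.Agent.Helper28.HermFrame

/-- BLOCKSP: a fixed-point-free model space of dimension `cu q r` -/
theorem exists_block_space_u {F : Type u} [Field F] [Fintype F] {p : ℕ} [Fact p.Prime]
    [CharP F p] {q : ℕ} (hF : Fintype.card F = q ^ 2) (σ : F →+* F) (hσ : ∀ a, σ a = a ^ q)
    (r : ℕ) [Fact r.Prime] (hr2 : r ≠ 2) (hrp : r ≠ p) :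
    ∃ (V : Type u) (_ : AddCommGroup V) (_ : Module F V) (_ : FiniteDimensional F V)
      (B : V →ₛₗ[σ] V →ₗ[F] F) (y : Module.End F V),
      IsYU q B y r ∧ Module.finrank F V = cu q r ∧ LinearMap.ker (y - 1) = ⊥ := by
  classical
  have hr : r.Prime := Fact.out
  have hY := aug_isYU hF σ hσ r hrp
  obtain ⟨-, hker, hdim⟩ := aug_isYSp (F := F) r hr2 hrp
  obtain ⟨hipos, hb, hbpos, -, hcu, -, -⟩ := cu_arith hF r hr2 hrp
  set b := orderOf ((Fintype.card F : ℕ) : ZMod r) with hbdef
  -- `Aug ≠ ⊥`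
  have htop : (⊤ : Submodule F (Aug F r)) ≠ ⊥ := by
    intro h
    have h1 : Module.finrank F (⊤ : Submodule F (Aug F r)) = 0 := by rw [h, finrank_bot]
    rw [finrank_top, hdim] at h1
    have := hr.two_le
    have : r ≠ 2 := hr2
    omega
  obtain ⟨U, -, hUinv, hUdim, hUirr⟩ := exists_irr_sub r hrp (augS F r) hY.pow ⊤
    (fun _ _ => Submodule.mem_top) htop (by rw [hker, inf_bot_eq])
  have hinj : Function.Injective (augS F r) := by
    obtain ⟨r0, hr0⟩ : ∃ r0, r = r0 + 1 := ⟨r - 1, by have := hr.pos; omega⟩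
    intro a c hac
    have h1 : ∀ x, (augS F r ^ r0) (augS F r x) = x := by
      intro x
      have : (augS F r ^ (r0 + 1)) x = x := by rw [← hr0, hY.pow, Module.End.one_apply]
      rwa [pow_succ, Module.End.mul_apply] at this
    rw [← h1 a, ← h1 c, hac]
  have hUfix : U ⊓ LinearMap.ker (augS F r - 1) = ⊥ := by rw [hker, inf_bot_eq]
  -- the restriction to an invariant nondegenerate subspace
  have hrestr : ∀ X : Submodule F (Aug F r), X.map (augS F r) ≤ X → NondegU (augU σ r) X →
      Module.finrank F X = cu q r →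
      ∃ (V : Type u) (_ : AddCommGroup V) (_ : Module F V) (_ : FiniteDimensional F V)
        (B : V →ₛₗ[σ] V →ₗ[F] F) (y : Module.End F V),
        IsYU q B y r ∧ Module.finrank F V = cu q r ∧ LinearMap.ker (y - 1) = ⊥ := by
    intro X hX hXnd hXdim
    have hX' : ∀ v ∈ X, augS F r v ∈ X := fun v hv => hX ⟨v, hv, rfl⟩
    obtain ⟨h1, h2, -, -⟩ := restrict_isYU (augU σ r) (augS F r) r hY X hX' hXnd
    exact ⟨↥X, inferInstance, inferInstance, inferInstance, (augU σ r).domRestrict₁₂ X X,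
      (augS F r).restrict hX', h1, hXdim, h2 hker⟩
  rcases irr_dichotomy_u (augU σ r) hY.herm (augS F r) hY.isom hinj U hUinv hUirr with hti | hnd
  · -- totally isotropic: not self-dual
    have hnsd : orderOf (q : ZMod r) % 4 ≠ 2 := by
      intro hsd
      have hnd := aug_irr_nondeg_u hF σ hσ r hr2 hrp hsd U hUinv hUdim
      have hU0 : U ≠ ⊥ := by
        intro h
        rw [h, finrank_bot] at hUdim
        omega
      obtain ⟨u, hu, hu0⟩ := Submodule.exists_mem_ne_zero_of_ne_bot hU0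
      obtain ⟨v, hv, hne⟩ := hnd u hu hu0
      exact hne (hti u hu v hv)
    rw [if_neg hnsd] at hcu
    obtain ⟨U', -, hU'inv, hU'dim, -, hpair⟩ := exists_dual_pair_u r hrp (augU σ r) (augS F r) hY
      ⊤ U (fun _ _ => Submodule.mem_top) hY.nondeg le_top hUinv
    obtain ⟨hdisj, hnd⟩ := hpair hti
    apply hrestr (U ⊔ U') _ hnd
    · have := Submodule.finrank_sup_add_finrank_inf_eq U U'
      rw [hdisj.eq_bot, finrank_bot, add_zero] at this
      rw [this, hU'dim, hUdim, hcu]
      ring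
    · rw [Submodule.map_sup]
      exact sup_le_sup hUinv hU'inv
  · -- nondegenerate: self-dual
    have hsd := selfdual_nt r hr2 hrp (augU σ r) (augS F r) hY U hUinv hnd hUfix hUdim
    rw [if_pos hsd] at hcu
    apply hrestr U hUinv hnd
    rw [hUdim, hcu]

end Cfsg.Agent.S5953P
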