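import Mathlib
import Cfsg.Prelude.Def_Classical
import Cfsg.Agent.Helper23.S5953Defs

set_option autoImplicit false

/-! S5953 piece NTU: the arithmetic consequence of the count identity. -/

namespace Cfsg.Agent.S5953P

namespace NTU

/-- the closed form of the number of isotropic vectors, in `ℤ` -/
theorem closedZ (q : ℕ) (I : ℕ → ℕ) (hI0 : I 0 = 1)
    (hI : ∀ d, I (d + 1) + q * I d = (q + 1) * q ^ (2 * d)) (e : ℕ) :
    (I (e + 1) : ℤ) = (q : ℤ) ^ (2 * e + 1) - (-1) ^ e * ((q : ℤ) ^ (e + 1) - (q : ℤ) ^ e) := by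
  induction e with
  | zero =>
    have := hI 0
    rw [hI0] at this
    have h1 : I 1 = 1 := by
      simp only [zero_add, mul_one, mul_zero, pow_zero] at this
      omega
    rw [zero_add, h1]
    simp
  | succ e ih =>
    have := hI (e + 1)
    have hz : (I (e + 1 + 1) : ℤ) + (q : ℤ) * (I (e + 1) : ℤ) =
        ((q : ℤ) + 1) * (q : ℤ) ^ (2 * (e + 1)) := by exact_mod_cast this
    rw [ih] at hz
    have : (I (e + 1 + 1) : ℤ) = ((q : ℤ) + 1) * (q : ℤ) ^ (2 * (e + 1)) -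
        (q : ℤ) * ((q : ℤ) ^ (2 * e + 1) - (-1) ^ e * ((q : ℤ) ^ (e + 1) - (q : ℤ) ^ e)) := by
      linarith
    rw [this]
    ring

/-- the closed form, `d - 1` even -/
theorem closed_even (q : ℕ) (hq : 0 < q) (I : ℕ → ℕ) (hI0 : I 0 = 1)
    (hI : ∀ d, I (d + 1) + q * I d = (q + 1) * q ^ (2 * d)) (e : ℕ) (he : Even e) :
    I (e + 1) - 1 = (q ^ (e + 1) + 1) * (q ^ e - 1) := by
  have h := closedZ q I hI0 hI e
  rw [he.neg_one_pow, one_mul] at h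
  have h1 : 1 ≤ q ^ e := Nat.one_le_pow _ _ hq
  have h2 : (I (e + 1) : ℤ) = 1 + (((q ^ (e + 1) + 1) * (q ^ e - 1) : ℕ) : ℤ) := by
    rw [h]
    push_cast [Nat.cast_sub h1]
    ring
  have h3 : I (e + 1) = 1 + (q ^ (e + 1) + 1) * (q ^ e - 1) := by exact_mod_cast h2
  rw [h3, Nat.add_sub_cancel_left]

/-- the closed form, `d - 1` odd -/
theorem closed_odd (q : ℕ) (hq : 0 < q) (I : ℕ → ℕ) (hI0 : I 0 = 1)
    (hI : ∀ d, I (d + 1) + q * I d = (q + 1) * q ^ (2 * d)) (e : ℕ) (he : Odd e) :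
    I (e + 1) - 1 = (q ^ (e + 1) - 1) * (q ^ e + 1) := by
  have h := closedZ q I hI0 hI e
  rw [he.neg_one_pow] at h
  have h1 : 1 ≤ q ^ (e + 1) := Nat.one_le_pow _ _ hq
  have h2 : (I (e + 1) : ℤ) = 1 + (((q ^ (e + 1) - 1) * (q ^ e + 1) : ℕ) : ℤ) := by
    rw [h]
    push_cast [Nat.cast_sub h1]
    ring
  have h3 : I (e + 1) = 1 + (q ^ (e + 1) - 1) * (q ^ e + 1) := by exact_mod_cast h2
  rw [h3, Nat.add_sub_cancel_left]

end NTU

/-- NTU (pure arithmetic) -/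
theorem nt_of_card_eq_u {p : ℕ} [Fact p.Prime] (q f : ℕ) (hq : q = p ^ f) (hf : 1 ≤ f)
    (I : ℕ → ℕ) (hI0 : I 0 = 1) (hI : ∀ d, I (d + 1) + q * I d = (q + 1) * q ^ (2 * d))
    (n m N : ℕ) (hm : 1 ≤ m) (hmn : 2 * m ≤ n)
    (hN : N * ∏ j ∈ Finset.range m, ((q ^ 2) ^ m - (q ^ 2) ^ j) =
      ∏ j ∈ Finset.range m, (q ^ (2 * j) * (I (n - 2 * j) - 1)))
    (r : ℕ) [Fact r.Prime] (hr : r ∣ N) :
    r ≠ p ∧ ∃ j, n + 1 ≤ j + 2 * m ∧ j ≤ n ∧
      ((Even j ∧ r ∣ q ^ j - 1) ∨ (Odd j ∧ r ∣ q ^ j + 1)) := by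
  have hp : p.Prime := Fact.out
  have hrp : r.Prime := Fact.out
  have hqpos : 0 < q := by rw [hq]; exact Nat.pow_pos hp.pos
  -- cancel the powers of `q`
  have h1 : ∏ j ∈ Finset.range m, ((q ^ 2) ^ m - (q ^ 2) ^ j) =
      (∏ j ∈ Finset.range m, q ^ (2 * j)) * ∏ j ∈ Finset.range m, (q ^ (2 * (m - j)) - 1) := by
    rw [← Finset.prod_mul_distrib]
    apply Finset.prod_congr rfl
    intro j hj
    have hjm : j < m := Finset.mem_range.mp hj
    rw [Nat.mul_sub, mul_one, ← pow_add, ← pow_mul, ← pow_mul]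
    congr 2
    omega
  have h2 : ∏ j ∈ Finset.range m, (q ^ (2 * j) * (I (n - 2 * j) - 1)) =
      (∏ j ∈ Finset.range m, q ^ (2 * j)) * ∏ j ∈ Finset.range m, (I (n - 2 * j) - 1) :=
    Finset.prod_mul_distrib
  have hpos : 0 < ∏ j ∈ Finset.range m, q ^ (2 * j) :=
    Finset.prod_pos (fun j _ => Nat.pow_pos hqpos)
  have h3 : N * ∏ j ∈ Finset.range m, (q ^ (2 * (m - j)) - 1) =
      ∏ j ∈ Finset.range m, (I (n - 2 * j) - 1) := by
    rw [h1, h2, ← mul_assoc, mul_comm N, mul_assoc] at hN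
    exact Nat.eq_of_mul_eq_mul_left hpos hN
  have h4 : r ∣ ∏ j ∈ Finset.range m, (I (n - 2 * j) - 1) := by
    rw [← h3]
    exact Dvd.dvd.mul_right hr _
  obtain ⟨j, hj, hdvd⟩ := (Prime.dvd_finsetProd_iff (Nat.prime_iff.mp hrp) _).mp h4
  have hjm : j < m := Finset.mem_range.mp hj
  obtain ⟨e, he⟩ : ∃ e, n - 2 * j = e + 1 := ⟨n - 2 * j - 1, by omega⟩
  rw [he] at hdvd
  -- the witness
  have hex : ∃ j', n + 1 ≤ j' + 2 * m ∧ j' ≤ n ∧
      ((Even j' ∧ r ∣ q ^ j' - 1) ∨ (Odd j' ∧ r ∣ q ^ j' + 1)) := by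
    rcases Nat.even_or_odd e with hev | hodd
    · rw [NTU.closed_even q hqpos I hI0 hI e hev] at hdvd
      rcases (Nat.Prime.dvd_mul hrp).mp hdvd with h | h
      · exact ⟨e + 1, by omega, by omega, Or.inr ⟨hev.add_one, h⟩⟩
      · exact ⟨e, by omega, by omega, Or.inl ⟨hev, h⟩⟩
    · rw [NTU.closed_odd q hqpos I hI0 hI e hodd] at hdvd
      rcases (Nat.Prime.dvd_mul hrp).mp hdvd with h | h
      · exact ⟨e + 1, by omega, by omega, Or.inl ⟨hodd.add_one, h⟩⟩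
      · exact ⟨e, by omega, by omega, Or.inr ⟨hodd, h⟩⟩
  refine ⟨?_, hex⟩
  obtain ⟨j', hj1, hj2, hj3⟩ := hex
  have hj'pos : 1 ≤ j' := by omega
  intro hrp'
  subst hrp'
  have hdq : r ∣ q ^ j' := by
    rw [hq, ← pow_mul]
    exact dvd_pow_self r (by
      have : 1 ≤ f * j' := Nat.mul_pos hf hj'pos
      omega)
  rcases hj3 with ⟨-, h⟩ | ⟨-, h⟩
  · have h1' : 1 ≤ q ^ j' := Nat.one_le_pow _ _ hqpos
    have : r ∣ (q ^ j' - 1) + 1 := by
      rw [Nat.sub_add_cancel h1']; exact hdq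
    have := (Nat.dvd_add_right h).mp this
    exact hrp.one_lt.ne' (Nat.dvd_one.mp this)
  · have := (Nat.dvd_add_right hdq).mp h
    exact hrp.one_lt.ne' (Nat.dvd_one.mp this)

end Cfsg.Agent.S5953P
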