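import Mathlib
import Cfsg.Prelude.Def_Classical
import Cfsg.Agent.Helper23.S5953Defs
import Cfsg.Agent.Helper23.S5984Defs
import Cfsg.Agent.Helper23.S5984DREFL
import Cfsg.Agent.Helper7.S5953GUYU
import Cfsg.Agent.Helper7.S5953FIXSPLITU
import Cfsg.Agent.Helper7.S5953TIHALFU
import Cfsg.Agent.Helper7.S5953TIFIXU
import Cfsg.Agent.Helper8.S5955INVSPLIT

set_option autoImplicit false
open scoped MatrixGroups Matrix

/-! S5953 piece R2NECU: for `v₂(n) < v₂(q+1)` a scalar multiple of a reflection, of determinant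
one, fixes no totally isotropic subspace of dimension `n / 2`. -/

universe u

namespace Cfsg.Agent.S5953P

open Polynomial Cfsg.Agent.S5955P Cfsg.Agent.Helper28.HW Cfsg.Agent.Helper28.HermFrame

/-- R2NECU -/
theorem exists_sq_derangement_u {F : Type*} [Field F] [Fintype F] {p : ℕ} [Fact p.Prime]
    [CharP F p] {q : ℕ} (hF : Fintype.card F = q ^ 2) (hp2 : p ≠ 2) (n : ℕ) (hn : 2 ≤ n)
    (hv : padicValNat 2 n < padicValNat 2 (q + 1)) :
    ∃ x : Matrix.SpecialLinearGroup (Fin n) F, x ∈ Cfsg.SU n F q ∧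
      (∃ z : F, (x : Matrix (Fin n) (Fin n) F) ^ 2 = z • 1) ∧
      (∀ z : F, (x : Matrix (Fin n) (Fin n) F) ≠ z • 1) ∧
      ∀ W : Submodule F (Fin n → F),
        W.map (Matrix.toLin' (x : Matrix (Fin n) (Fin n) F)) ≤ W →
        (∀ u ∈ W, ∀ v ∈ W, Cfsg.hermForm n F q u v = 0) →
        2 * Module.finrank F W < n := by
  classical
  have hp : p.Prime := Fact.out
  have hq : Odd q := by
    obtain ⟨k, -, hk⟩ := FiniteField.card F p
    by_contra hne
    have hev : Even q := Nat.not_odd_iff_even.mp hne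
    have h2 : 2 ∣ p ^ (k : ℕ) := by
      rw [← hk, hF]
      exact Dvd.dvd.pow hev.two_dvd (by norm_num)
    have := (Nat.prime_dvd_prime_iff_eq Nat.prime_two hp).mp (Nat.prime_two.dvd_of_dvd_pow h2)
    exact hp2 this.symm
  obtain ⟨σ, hσ, hσ2⟩ := Cfsg.Agent.Helper28.exists_frob hF
  obtain ⟨x, μ, hxG, hμ, hxx, hkd⟩ := Cfsg.Agent.S5984P.exists_refl hF hq hn hv
  obtain ⟨hpres, hdet⟩ := (Cfsg.Agent.Helper28.UM.mem_G_iff x).mp hxG
  have hun : IsUn q (x : Matrix (Fin n) (Fin n) F) := fun u v => hpres u v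
  obtain ⟨X, hXSU, hXx⟩ := exists_SU_of_isUn _ hdet hun
  have hμ0 : μ ≠ 0 := by
    rintro rfl
    rw [zero_pow (by omega)] at hμ
    exact zero_ne_one hμ
  rw [Units.val_pow_eq_pow_val] at hxx
  refine ⟨X, hXSU, ⟨μ ^ 2, ?_⟩, ?_, ?_⟩
  · rw [hXx, hxx]
  · rw [hXx]
    exact Cfsg.Agent.S5984P.not_scalar_of_kd _ μ (by omega) (by omega)
  · intro W hWinv hWti
    rw [hXx] at hWinv
    have hμinv : (μ⁻¹) ^ (q + 1) = 1 := by rw [inv_pow, hμ, inv_one]
    have hyun : IsUn q (μ⁻¹ • (x : Matrix (Fin n) (Fin n) F)) := isUn_smul _ hun _ hμinv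
    have hy2 : (μ⁻¹ • (x : Matrix (Fin n) (Fin n) F)) ^ 2 = 1 := by
      rw [_root_.smul_pow, hxx, smul_smul, inv_pow, inv_mul_cancel₀ (pow_ne_zero _ hμ0), one_smul]
    have hY := un_isYU hF σ hσ n _ hyun 2 hy2
    have : Fact (Nat.Prime 2) := ⟨Nat.prime_two⟩
    have h2p : (2 : ℕ) ≠ p := fun h => hp2 h.symm
    obtain ⟨hcompl, -, -, -, -, hC, hN, -⟩ :=
      fix_split_u 2 h2p (hB σ n) (Matrix.toLin' (μ⁻¹ • (x : Matrix (Fin n) (Fin n) F))) hY
    have hWy : W.map (Matrix.toLin' (μ⁻¹ • (x : Matrix (Fin n) (Fin n) F))) ≤ W := by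
      rintro _ ⟨w, hw, rfl⟩
      rw [Matrix.toLin'_apply, Matrix.smul_mulVec]
      exact W.smul_mem _ (hWinv ⟨w, hw, by rw [Matrix.toLin'_apply]⟩)
    obtain ⟨-, hsplit, -⟩ := Cfsg.Agent.S5955P.inv_split 2 h2p
      (Matrix.toLin' (μ⁻¹ • (x : Matrix (Fin n) (Fin n) F))) hY.pow W hWy
    have hWO : OrthU (hB σ n) W W := fun u hu v hv => by
      rw [hB_herm σ hσ]
      exact hWti v hv u hu
    have h1 := ti_fix_le_u 2 h2p (hB σ n) _ hY W hWO
    have h2 := ti_le_half_u (hB σ n) hY.herm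
      (LinearMap.range (Matrix.toLin' (μ⁻¹ • (x : Matrix (Fin n) (Fin n) F)) - 1))
      (W ⊓ LinearMap.range (Matrix.toLin' (μ⁻¹ • (x : Matrix (Fin n) (Fin n) F)) - 1)) hN
      inf_le_right (fun u hu v hv => hWO u hu.1 v hv.1)
    have hkereq : LinearMap.ker (Matrix.toLin' (μ⁻¹ • (x : Matrix (Fin n) (Fin n) F)) - 1) =
        Module.End.eigenspace (Matrix.toLin' (x : Matrix (Fin n) (Fin n) F)) μ := by
      ext v
      rw [LinearMap.mem_ker, Cfsg.Agent.S5984P.mem_eig, LinearMap.sub_apply, Module.End.one_apply,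
        Matrix.toLin'_apply, Matrix.smul_mulVec, sub_eq_zero, inv_smul_eq_iff₀ hμ0]
    have hker : Module.finrank F
        (LinearMap.ker (Matrix.toLin' (μ⁻¹ • (x : Matrix (Fin n) (Fin n) F)) - 1)) = n - 1 := by
      rw [hkereq, ← hkd, Cfsg.Agent.S5984P.kd_def]
    have hsum := Submodule.finrank_add_eq_of_isCompl hcompl
    rw [Module.finrank_fin_fun] at hsum
    omega

end Cfsg.Agent.S5953P
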