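import Mathlib
import Cfsg.Prelude.Def_Classical
import Cfsg.Agent.Helper23.S5953Defs
import Cfsg.Agent.Helper7.S5953ORTHCU
import Cfsg.Agent.Helper28.Norm
import Cfsg.Agent.S0755

set_option autoImplicit false
open scoped MatrixGroups Matrix

/-! S5953 piece TIEX0U: totally isotropic subspaces of every dimension up to half the dimension of
a nondegenerate Hermitian subspace. -/

universe u

namespace Cfsg.Agent.S5953P

open Polynomial Cfsg.Agent.S5955P Cfsg.Agent.Helper28.HW Cfsg.Agent.Helper28.HermFrame

open ORTHCU in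
/-- TIEX0U -/
theorem exists_ti_sub_u {F V : Type*} [Field F] [Fintype F] [AddCommGroup V] [Module F V]
    [FiniteDimensional F V] {q : ℕ} {σ : F →+* F} (B : V →ₛₗ[σ] V →ₗ[F] F) (hB : IsHerm q B)
    (M : Submodule F V) (hM : NondegU B M) (k : ℕ) (hk : 2 * k ≤ Module.finrank F M) :
    ∃ U : Submodule F V, U ≤ M ∧ OrthU B U U ∧ Module.finrank F U = k := by
  classical
  obtain ⟨b, hb⟩ := Cfsg.Agent.S0755.aux σ hB.ne_id hB.invol (Module.finrank F M)
    (B.domRestrict₁₂ M M) (restr_isSymm hB M) (restr_nondeg hB M hM).2 rfl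
  obtain ⟨ε, hε⟩ := Cfsg.Agent.Helper28.exists_norm_eq σ hB.ne_id hB.invol (-1) (by simp)
    (by simp)
  have hb' : ∀ (a c : ℕ) (ha : a < Module.finrank F M) (hc : c < Module.finrank F M),
      B (b ⟨a, ha⟩ : V) (b ⟨c, hc⟩ : V) = if a = c then 1 else 0 := by
    intro a c ha hc
    have := hb ⟨a, ha⟩ ⟨c, hc⟩
    rw [restr_apply] at this
    rw [this]
    simp [Fin.ext_iff]
  have hlt0 : ∀ j : Fin k, 2 * (j : ℕ) < Module.finrank F M := fun j => by
    have := j.2; omega
  have hlt1 : ∀ j : Fin k, 2 * (j : ℕ) + 1 < Module.finrank F M := fun j => by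
    have := j.2; omega
  set u : Fin k → V := fun j => (b ⟨2 * j, hlt0 j⟩ : V) + ε • (b ⟨2 * j + 1, hlt1 j⟩ : V) with hu
  -- the Gram matrix of `u` vanishes
  have h1 : ∀ i j, B (u i) (u j) = 0 := by
    intro i j
    simp only [hu, map_add, LinearMap.add_apply, B_smul_left, map_smul, smul_eq_mul, hb']
    by_cases hij : i = j
    · subst hij
      rw [if_pos rfl, if_neg (by omega), if_neg (by omega), if_pos rfl]
      linear_combination hε
    · have hne : (i : ℕ) ≠ (j : ℕ) := fun h => hij (Fin.ext h)
      rw [if_neg (by omega), if_neg (by omega), if_neg (by omega), if_neg (by omega)]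
      ring
  have h2 : ∀ j, ∀ x ∈ Submodule.span F (Set.range u), B x (u j) = 0 := by
    intro j x hx
    have hle : Submodule.span F (Set.range u) ≤ LinearMap.ker (B.flip (u j)) := by
      rw [Submodule.span_le]
      rintro _ ⟨i, rfl⟩
      show B.flip (u j) (u i) = 0
      rw [LinearMap.flip_apply]
      exact h1 i j
    have := hle hx
    rw [LinearMap.mem_ker, LinearMap.flip_apply] at this
    exact this
  have h3 : OrthU B (Submodule.span F (Set.range u)) (Submodule.span F (Set.range u)) := by
    intro x hx y hy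
    have hle : Submodule.span F (Set.range u) ≤ LinearMap.ker (B x) := by
      rw [Submodule.span_le]
      rintro _ ⟨j, rfl⟩
      exact h2 j x hx
    exact hle hy
  -- linear independence
  have hLI : LinearIndependent F u := by
    rw [Fintype.linearIndependent_iff]
    intro g hg l
    have h := congrArg (fun x => B (b ⟨2 * l, hlt0 l⟩ : V) x) hg
    simp only [map_sum, map_smul, smul_eq_mul, map_zero] at h
    rw [Finset.sum_eq_single l] at h
    · simp only [hu, map_add, map_smul, smul_eq_mul, hb'] at h
      rw [if_pos trivial, if_neg (by omega)] at h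
      simpa using h
    · intro j _ hjl
      have hne : (j : ℕ) ≠ (l : ℕ) := fun h => hjl (Fin.ext h)
      simp only [hu, map_add, map_smul, smul_eq_mul, hb']
      rw [if_neg (by omega), if_neg (by omega)]
      ring
    · intro h
      exact absurd (Finset.mem_univ l) h
  refine ⟨Submodule.span F (Set.range u), ?_, h3, ?_⟩
  · rw [Submodule.span_le]
    rintro _ ⟨j, rfl⟩
    exact M.add_mem (b _).2 (M.smul_mem _ (b _).2)
  · rw [finrank_span_eq_card hLI, Fintype.card_fin]

end Cfsg.Agent.S5953P
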