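import Mathlib
import Cfsg.Prelude.Def_Classical
import Cfsg.Agent.Helper23.S5953Defs
import Cfsg.Agent.Helper23.S5984Defs
import Cfsg.Agent.Helper8.S5984NTREFL
import Cfsg.Agent.Helper13.S5984EIG2
import Cfsg.Agent.Helper13.S5984DETEIG
import Cfsg.Agent.Helper13.S5984POSB
import Cfsg.Agent.Helper21.S5949Basic
import Cfsg.Agent.Helper7.S5953GUYU
import Cfsg.Agent.Helper7.S5953FIXSPLITU
import Cfsg.Agent.Helper7.S5953TIHALFU
import Cfsg.Agent.Helper18.S5953TIEX0U

set_option autoImplicit false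
open scoped MatrixGroups Matrix

/-! S5953 piece R2SUFFU: an element of `SU_n(q)` (`q` odd) whose square is a scalar fixes a totally
isotropic `m`-space, unless `2 m = n` and `v₂(n) < v₂(q+1)`. -/

universe u

namespace Cfsg.Agent.S5953P

open Polynomial Cfsg.Agent.S5955P Cfsg.Agent.Helper28.HW Cfsg.Agent.Helper28.HermFrame

/-- R2SUFFU -/
theorem exists_ti_of_sq_u {F : Type*} [Field F] [Fintype F] {p : ℕ} [Fact p.Prime]
    [CharP F p] {q : ℕ} (hF : Fintype.card F = q ^ 2) (hp2 : p ≠ 2) (n m : ℕ) (hm : 1 ≤ m)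
    (hmn : 2 * m ≤ n) (hcond : 2 * m < n ∨ padicValNat 2 (q + 1) ≤ padicValNat 2 n)
    (x : Matrix.SpecialLinearGroup (Fin n) F) (hx : x ∈ Cfsg.SU n F q) (z : F)
    (hxz : (x : Matrix (Fin n) (Fin n) F) ^ 2 = z • 1) :
    ∃ W : Submodule F (Fin n → F), Module.finrank F ↥W = m ∧
      (∀ u ∈ W, ∀ v ∈ W, Cfsg.hermForm n F q u v = 0) ∧
      W.map (Matrix.toLin' (x : Matrix (Fin n) (Fin n) F)) ≤ W := by
  classical
  have hp : p.Prime := Fact.out
  have hq : Odd q := by
    obtain ⟨k, -, hk⟩ := FiniteField.card F p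
    by_contra hne
    have hev : Even q := Nat.not_odd_iff_even.mp hne
    have h2 : 2 ∣ p ^ (k : ℕ) := by
      rw [← hk, hF]
      exact Dvd.dvd.pow hev.two_dvd (by norm_num)
    have := (Nat.prime_dvd_prime_iff_eq Nat.prime_two hp).mp (Nat.prime_two.dvd_of_dvd_pow h2)
    exact hp2 this.symm
  obtain ⟨σ, hσ, hσ2⟩ := Cfsg.Agent.Helper28.exists_frob hF
  have h2 : (2 : F) ≠ 0 := Cfsg.Agent.S5984P.POSB.two_ne_zero_of_odd hF hq
  have hn0 : 0 < n := by omega
  have hun : IsUn q (x : Matrix (Fin n) (Fin n) F) := (mem_SU_iff x).mp hx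
  have hdet : (x : Matrix (Fin n) (Fin n) F).det = 1 := x.2
  generalize (x : Matrix (Fin n) (Fin n) F) = xm at hun hdet hxz ⊢
  have hzun : IsUn q (z • (1 : Matrix (Fin n) (Fin n) F)) := by
    rw [← hxz, pow_two]
    intro u v
    rw [← Matrix.mulVec_mulVec, ← Matrix.mulVec_mulVec, hun, hun]
  have hz : z ^ (q + 1) = 1 := norm_one_of_isUn_scalar hn0 z hzun
  obtain ⟨ν, hν2, hν⟩ := Cfsg.Agent.S5984P.exists_sqrt_of_norm_one hF hq z hz
  have hν0 : ν ≠ 0 := by
    rintro rfl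
    rw [zero_pow (by omega)] at hν
    rcases hν with h | h
    · exact zero_ne_one h
    · exact (neg_ne_zero.mpr one_ne_zero) h.symm
  have hxx : xm * xm = (ν ^ 2) • (1 : Matrix (Fin n) (Fin n) F) := by rw [← pow_two, hxz, hν2]
  have hherm := hB_isHerm σ hF hσ n
  have hnd := hB_nondegU σ hσ2 n
  rcases hν with hν1 | hν1
  · -- the split case: `x = ν y` with `y` an involution of `GU`
    have hνinv : (ν⁻¹) ^ (q + 1) = 1 := by rw [inv_pow, hν1, inv_one]
    have hyun : IsUn q (ν⁻¹ • xm) := isUn_smul _ hun _ hνinv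
    have hy2 : (ν⁻¹ • xm) ^ 2 = 1 := by
      rw [_root_.smul_pow, pow_two xm, hxx, smul_smul, inv_pow,
        inv_mul_cancel₀ (pow_ne_zero _ hν0), one_smul]
    have hY := un_isYU hF σ hσ n _ hyun 2 hy2
    have : Fact (Nat.Prime 2) := ⟨Nat.prime_two⟩
    have h2p : (2 : ℕ) ≠ p := fun h => hp2 h.symm
    obtain ⟨hcompl, hCN, hNC, -, -, hC, hN, -⟩ :=
      fix_split_u 2 h2p (hB σ n) (Matrix.toLin' (ν⁻¹ • xm)) hY
    have hkereq : LinearMap.ker (Matrix.toLin' (ν⁻¹ • xm) - 1) =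
        Module.End.eigenspace (Matrix.toLin' xm) ν := by
      ext v
      rw [LinearMap.mem_ker, Cfsg.Agent.S5984P.mem_eig, LinearMap.sub_apply, Module.End.one_apply,
        Matrix.toLin'_apply, Matrix.smul_mulVec, sub_eq_zero, inv_smul_eq_iff₀ hν0]
    have hxC : ∀ v ∈ LinearMap.ker (Matrix.toLin' (ν⁻¹ • xm) - 1), xm *ᵥ v = ν • v := by
      intro v hv
      rw [hkereq] at hv
      exact (Cfsg.Agent.S5984P.mem_eig xm ν v).mp hv
    have hxN : ∀ v ∈ LinearMap.range (Matrix.toLin' (ν⁻¹ • xm) - 1), xm *ᵥ v = (-ν) • v := by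
      rintro _ ⟨w, rfl⟩
      simp only [LinearMap.sub_apply, Module.End.one_apply, Matrix.toLin'_apply,
        Matrix.smul_mulVec]
      rw [Matrix.mulVec_sub, Matrix.mulVec_smul, Matrix.mulVec_mulVec, hxx, Matrix.smul_mulVec,
        Matrix.one_mulVec, smul_sub, smul_smul, smul_smul]
      have e1 : ν⁻¹ * ν ^ 2 = ν := by field_simp
      have e2 : -ν * ν⁻¹ = -1 := by field_simp
      rw [e1, e2, neg_one_smul, neg_smul]
      abel
    have hsum := Submodule.finrank_add_eq_of_isCompl hcompl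
    rw [Module.finrank_fin_fun] at hsum
    have hCk : Module.finrank F (LinearMap.ker (Matrix.toLin' (ν⁻¹ • xm) - 1)) =
        Cfsg.Agent.S5984P.kd xm ν := by
      rw [hkereq, Cfsg.Agent.S5984P.kd_def]
    have hkk := (Cfsg.Agent.S5984P.eig_decomp h2 xm ν hν0 hxx).2
    by_cases hgood : ∃ k₁ k₂ : ℕ, k₁ + k₂ = m ∧
        2 * k₁ ≤ Module.finrank F (LinearMap.ker (Matrix.toLin' (ν⁻¹ • xm) - 1)) ∧
        2 * k₂ ≤ Module.finrank F (LinearMap.range (Matrix.toLin' (ν⁻¹ • xm) - 1))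
    · obtain ⟨k₁, k₂, hk, hk1, hk2⟩ := hgood
      obtain ⟨U₁, hU₁C, hU₁ti, hU₁d⟩ := exists_ti_sub_u (hB σ n) hherm _ hC k₁ hk1
      obtain ⟨U₂, hU₂N, hU₂ti, hU₂d⟩ := exists_ti_sub_u (hB σ n) hherm _ hN k₂ hk2
      refine ⟨U₁ ⊔ U₂, ?_, ?_, ?_⟩
      · have hdisj : U₁ ⊓ U₂ = ⊥ := by
          apply le_antisymm _ bot_le
          rw [← hcompl.inf_eq_bot]
          exact inf_le_inf hU₁C hU₂N
        have := Submodule.finrank_sup_add_finrank_inf_eq U₁ U₂
        rw [hdisj, finrank_bot, add_zero] at this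
        rw [this, hU₁d, hU₂d, hk]
      · intro u hu v hv
        obtain ⟨a, ha, b, hb, rfl⟩ := Submodule.mem_sup.mp hu
        obtain ⟨a', ha', b', hb', rfl⟩ := Submodule.mem_sup.mp hv
        rw [← hB_herm σ hσ]
        simp only [map_add, LinearMap.add_apply]
        rw [hU₁ti a' ha' a ha, hCN a' (hU₁C ha') b (hU₂N hb), hNC b' (hU₂N hb') a (hU₁C ha),
          hU₂ti b' hb' b hb]
        simp
      · rintro _ ⟨w, hw, rfl⟩
        obtain ⟨a, ha, b, hb, rfl⟩ := Submodule.mem_sup.mp hw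
        rw [Matrix.toLin'_apply, Matrix.mulVec_add, hxC a (hU₁C ha), hxN b (hU₂N hb)]
        exact Submodule.add_mem_sup (U₁.smul_mem _ ha) (U₂.smul_mem _ hb)
    · exfalso
      push Not at hgood
      have hspec := hgood (min (Module.finrank F
        (LinearMap.ker (Matrix.toLin' (ν⁻¹ • xm) - 1)) / 2) m)
        (m - min (Module.finrank F (LinearMap.ker (Matrix.toLin' (ν⁻¹ • xm) - 1)) / 2) m)
        (by omega) (by omega)
      have hfacts : 2 * m = n ∧ Odd (Cfsg.Agent.S5984P.kd xm ν) ∧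
          Odd (Cfsg.Agent.S5984P.kd xm (-ν)) := by
        rw [Nat.odd_iff, Nat.odd_iff]
        omega
      obtain ⟨h2m, hodd1, hodd2⟩ := hfacts
      have hd := Cfsg.Agent.S5984P.det_of_sq h2 xm ν hν0 hxx
      rw [hdet, hodd2.neg_pow, mul_neg, ← pow_add, hkk] at hd
      have hνn : ν ^ n = -1 := by rw [eq_neg_iff_add_eq_zero, add_comm]; linear_combination hd
      have := Cfsg.Agent.S5984P.padic_lt_of_pow_eq_neg_one h2 (by omega : n ≠ 0) ν hν1 hνn
      rcases hcond with h | h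
      · omega
      · omega
  · -- the nonsplit case: the eigenspaces of `x` are totally isotropic
    have hLP := Cfsg.Agent.S5984P.lp_of_nonsplit hF hq xm (fun u v => hun u v) ν hν1 hxx
    have hA : OrthU (hB σ n) (Module.End.eigenspace (Matrix.toLin' xm) ν)
        (Module.End.eigenspace (Matrix.toLin' xm) ν) := fun u hu v hv => by
      rw [hB_herm σ hσ]
      exact hLP.isoA v hv u hu
    have hB' : OrthU (hB σ n) (Module.End.eigenspace (Matrix.toLin' xm) (-ν))
        (Module.End.eigenspace (Matrix.toLin' xm) (-ν)) := fun u hu v hv => by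
      rw [hB_herm σ hσ]
      exact hLP.isoB v hv u hu
    have h1 := ti_le_half_u (hB σ n) hherm ⊤ _ hnd le_top hA
    have h1' := ti_le_half_u (hB σ n) hherm ⊤ _ hnd le_top hB'
    rw [finrank_top, Module.finrank_fin_fun] at h1 h1'
    have hsup : Module.End.eigenspace (Matrix.toLin' xm) ν ⊔
        Module.End.eigenspace (Matrix.toLin' xm) (-ν) = ⊤ := by
      rw [eq_top_iff]
      intro v _
      obtain ⟨a, ha, b, hb, rfl⟩ := hLP.dec v
      exact Submodule.add_mem_sup ha hb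
    have h3 := Submodule.finrank_add_le_finrank_add_finrank
      (Module.End.eigenspace (Matrix.toLin' xm) ν) (Module.End.eigenspace (Matrix.toLin' xm) (-ν))
    rw [hsup, finrank_top, Module.finrank_fin_fun] at h3
    obtain ⟨W, hWA, hWm⟩ := Cfsg.Agent.S5949P.Basic.exists_submodule_le_finrank_eq
      (Module.End.eigenspace (Matrix.toLin' xm) ν) m (by omega)
    refine ⟨W, hWm, fun u hu v hv => hLP.isoA u (hWA hu) v (hWA hv), ?_⟩
    rintro _ ⟨w, hw, rfl⟩
    have := (Cfsg.Agent.S5984P.mem_eig xm ν w).mp (hWA hw)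
    rw [Matrix.toLin'_apply, this]
    exact W.smul_mem _ hw

end Cfsg.Agent.S5953P
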