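import Mathlib
import Cfsg.Prelude.Def_Classical
import Cfsg.Agent.Helper23.S5953Defs
import Cfsg.Agent.Helper28.Norm

set_option autoImplicit false
open scoped MatrixGroups Matrix

/-! S5953 piece TWIST: the totally isotropic diagonal `{v + ε ψ v}`. -/

universe u

namespace Cfsg.Agent.S5953P

open Polynomial Cfsg.Agent.S5955P Cfsg.Agent.Helper28.HW Cfsg.Agent.Helper28.HermFrame

/-- TWIST: an isometric intertwiner between orthogonal subspaces gives a totally isotropic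
invariant "diagonal" `{v + ε ψ v}`, `ε ^ (q + 1) = -1` -/
theorem exists_ti_diag_u {F V : Type*} [Field F] [Fintype F] [AddCommGroup V]
    [Module F V] [FiniteDimensional F V] {q : ℕ} {σ : F →+* F} (B : V →ₛₗ[σ] V →ₗ[F] F)
    (hB : IsHerm q B) (y : Module.End F V)
    (E E' : Submodule F V) (hE : E.map y ≤ E) (hE' : E'.map y ≤ E')
    (hEnd : NondegU B E) (hEE' : OrthU B E E')
    (ψ : V →ₗ[F] V) (hψE : ∀ v ∈ E, ψ v ∈ E')
    (hψB : ∀ u ∈ E, ∀ v ∈ E, B (ψ u) (ψ v) = B u v) (hψy : ∀ v ∈ E, ψ (y v) = y (ψ v)) :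
    ∃ U : Submodule F V, U ≤ E ⊔ E' ∧ U.map y ≤ U ∧ OrthU B U U ∧
      Module.finrank F U = Module.finrank F E := by
  obtain ⟨ε, hε⟩ := Cfsg.Agent.Helper28.exists_norm_eq σ hB.ne_id hB.invol (-1) (by simp)
    (by simp)
  set f : V →ₗ[F] V := LinearMap.id + ε • ψ with hf
  have hfv : ∀ v, f v = v + ε • ψ v := fun v => rfl
  refine ⟨E.map f, ?_, ?_, ?_, ?_⟩
  · rintro _ ⟨v, hv, rfl⟩
    rw [hfv]
    exact Submodule.add_mem_sup hv (E'.smul_mem _ (hψE v hv))
  · rintro _ ⟨_, ⟨v, hv, rfl⟩, rfl⟩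
    refine ⟨y v, hE ⟨v, hv, rfl⟩, ?_⟩
    rw [hfv, hfv, map_add, map_smul, hψy v hv]
  · rintro _ ⟨u, hu, rfl⟩ _ ⟨v, hv, rfl⟩
    rw [hfv, hfv]
    simp only [map_add, LinearMap.add_apply, B_smul_left, map_smul, smul_eq_mul]
    rw [hEE' u hu _ (hψE v hv), OrthU.symm hB hEE' _ (hψE u hu) v hv, hψB u hu v hv]
    linear_combination (B u v) * hε
  · have hinj : Function.Injective (f.domRestrict E) := by
      rw [← LinearMap.ker_eq_bot, LinearMap.ker_eq_bot']
      intro v hv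
      have hv' : (v : V) + ε • ψ (v : V) = 0 := hv
      have hmem : (v : V) ∈ E' := by
        have : (v : V) = -(ε • ψ (v : V)) := eq_neg_of_add_eq_zero_left hv'
        rw [this]
        exact E'.neg_mem (E'.smul_mem _ (hψE _ v.2))
      by_contra hne
      have hne' : (v : V) ≠ 0 := fun h => hne (Subtype.ext h)
      obtain ⟨w, hw, hBw⟩ := hEnd _ v.2 hne'
      exact hBw (hB.eq_zero_comm (hEE' w hw _ hmem))
    rw [← LinearMap.range_domRestrict, LinearMap.finrank_range_of_inj hinj]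

end Cfsg.Agent.S5953P
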