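import Mathlib
import Cfsg.Prelude.Def_Classical
import Cfsg.Agent.Helper23.S5953Defs
import Cfsg.Agent.Helper20.S5954Defs
import Cfsg.Agent.Helper28.GU

set_option autoImplicit false
open scoped MatrixGroups Matrix

/-! S5954 piece COMPANION2: a block-monomial isometry with square the scalar `z` and determinant
`(-z)^k`. -/

universe u

namespace Cfsg.Agent.S5954P

open Polynomial Cfsg.Agent.S5953P Cfsg.Agent.Helper28.HW Cfsg.Agent.Helper28.HermFrame
open Cfsg.Agent.S2644 Cfsg.Agent.Helper2.SUGen Cfsg.Agent.Helper28.UPair Cfsg.Agent.S5984P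

/-- COMPANION2: a block-monomial isometry with square the scalar `z` and determinant `(-z)^k` -/
theorem exists_companion_two {F : Type*} [Field F] [Fintype F] {q : ℕ}
    (hF : Fintype.card F = q ^ 2) (k : ℕ) (z : F) (hz : z ^ (q + 1) = 1) :
    ∃ x : Matrix (Fin (2 * k)) (Fin (2 * k)) F, Pres (q := q) x ∧
      x * x = z • (1 : Matrix (Fin (2 * k)) (Fin (2 * k)) F) ∧ x.det = (-z) ^ k := by
  classical
  obtain ⟨σ, hσ, hσ2⟩ := Cfsg.Agent.Helper28.exists_frob hF
  have hzz : z * z ^ q = 1 := by rw [← pow_succ', hz]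
  have hMM : (!![0, z; 1, 0] : Matrix (Fin 2) (Fin 2) F) * !![0, z; 1, 0] = z • 1 := by
    ext i j
    fin_cases i <;> fin_cases j <;> simp [Matrix.mul_apply, Fin.sum_univ_two]
  have hMU : (!![0, z; 1, 0] : Matrix (Fin 2) (Fin 2) F)ᵀ *
      (!![0, z; 1, 0] : Matrix (Fin 2) (Fin 2) F).map σ = 1 := by
    ext i j
    fin_cases i <;> fin_cases j <;> simp [Matrix.mul_apply, Fin.sum_univ_two]
    rw [hσ]
    exact hzz
  have hMd : (!![0, z; 1, 0] : Matrix (Fin 2) (Fin 2) F).det = -z := by
    rw [Matrix.det_fin_two_of]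
    ring
  refine ⟨(Matrix.blockDiagonal (fun _ : Fin k => (!![0, z; 1, 0] : Matrix (Fin 2) (Fin 2) F))).submatrix
    finProdFinEquiv.symm finProdFinEquiv.symm, ?_, ?_, ?_⟩
  · show ∀ u v : Fin (2 * k) → F, _
    apply (Cfsg.Agent.Helper28.GUlib.preserves_iff σ hσ _).mpr
    rw [Matrix.transpose_submatrix, ← Matrix.submatrix_map, Matrix.submatrix_mul_equiv,
      Matrix.blockDiagonal_transpose, Matrix.blockDiagonal_map _ _ (map_zero σ),
      ← Matrix.blockDiagonal_mul]
    have : (fun _ : Fin k => (!![0, z; 1, 0] : Matrix (Fin 2) (Fin 2) F)ᵀ *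
        (!![0, z; 1, 0] : Matrix (Fin 2) (Fin 2) F).map σ) = 1 := by
      funext t
      exact hMU
    simp only [this]
    rw [Matrix.blockDiagonal_one, Matrix.submatrix_one_equiv]
  · rw [Matrix.submatrix_mul_equiv, ← Matrix.blockDiagonal_mul]
    have : (fun _ : Fin k => (!![0, z; 1, 0] : Matrix (Fin 2) (Fin 2) F) *
        !![0, z; 1, 0]) = z • 1 := by
      funext t
      exact hMM
    simp only [this]
    rw [Matrix.blockDiagonal_smul, Matrix.blockDiagonal_one]
    ext a b
    rw [Matrix.submatrix_apply, Matrix.smul_apply, Matrix.smul_apply, Matrix.one_apply,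
      Matrix.one_apply]
    simp only [EmbeddingLike.apply_eq_iff_eq]
  · rw [Matrix.det_submatrix_equiv_self, Matrix.det_blockDiagonal]
    simp only [hMd, Finset.prod_const, Finset.card_univ, Fintype.card_fin]

end Cfsg.Agent.S5954P
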