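import Mathlib
import Cfsg.Prelude.Def_Classical
import Cfsg.Agent.Helper23.S5953Defs
import Cfsg.Agent.Helper20.S5954Defs
import Cfsg.Agent.Helper7.S5953ORTHCU
import Cfsg.Agent.Helper7.S5953TIHALFU
import Cfsg.Agent.Helper28.Norm
import Cfsg.Agent.S0755

set_option autoImplicit false
open scoped MatrixGroups Matrix

/-! S5954 pieces NDSUBU (non-degenerate subspaces of every dimension) and LPSUB. -/

universe u

namespace Cfsg.Agent.S5954P

open Polynomial Cfsg.Agent.S5953P Cfsg.Agent.Helper28.HW Cfsg.Agent.Helper28.HermFrame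
open Cfsg.Agent.S2644 Cfsg.Agent.Helper2.SUGen Cfsg.Agent.Helper28.UPair Cfsg.Agent.S5984P

open Cfsg.Agent.S5953P.ORTHCU in
/-- NDSUBU: non-degenerate subspaces of every dimension -/
theorem exists_nd_sub_u {F V : Type*} [Field F] [Fintype F] [AddCommGroup V] [Module F V]
    [FiniteDimensional F V] {q : ℕ} {σ : F →+* F} (B : V →ₛₗ[σ] V →ₗ[F] F) (hB : IsHerm q B)
    (M : Submodule F V) (hM : NondegU B M) (k : ℕ) (hk : k ≤ Module.finrank F M) :
    ∃ W : Submodule F V, W ≤ M ∧ NondegU B W ∧ Module.finrank F W = k := by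
  classical
  obtain ⟨b, hb⟩ := Cfsg.Agent.S0755.aux σ hB.ne_id hB.invol (Module.finrank F M)
    (B.domRestrict₁₂ M M) (restr_isSymm hB M) (restr_nondeg hB M hM).2 rfl
  have hlt : ∀ j : Fin k, (j : ℕ) < Module.finrank F M := fun j => lt_of_lt_of_le j.2 hk
  set u : Fin k → V := fun j => (b ⟨j, hlt j⟩ : V) with hu
  have h1 : ∀ i j, B (u i) (u j) = if i = j then 1 else 0 := by
    intro i j
    have := hb ⟨i, hlt i⟩ ⟨j, hlt j⟩
    rw [restr_apply] at this
    rw [hu]
    simp only
    rw [this]
    simp [Fin.ext_iff]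
  have hLI : LinearIndependent F u := by
    rw [Fintype.linearIndependent_iff]
    intro g hg l
    have h := congrArg (fun x => B (u l) x) hg
    simp only [map_sum, map_smul, smul_eq_mul, map_zero, h1] at h
    simpa using h
  refine ⟨Submodule.span F (Set.range u), ?_, ?_, ?_⟩
  · rw [Submodule.span_le]
    rintro _ ⟨j, rfl⟩
    exact (b _).2
  · intro w hw hw0
    by_contra hcon
    push Not at hcon
    apply hw0
    obtain ⟨c, rfl⟩ := (Submodule.mem_span_range_iff_exists_fun F).mp hw
    have hc : ∀ l, c l = 0 := by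
      intro l
      have h := hcon (u l) (Submodule.subset_span ⟨l, rfl⟩)
      rw [map_sum, LinearMap.sum_apply] at h
      simp only [B_smul_left, h1] at h
      have h' : σ (c l) = 0 := by simpa using h
      exact (map_eq_zero σ).mp h'
    simp [hc]
  · rw [finrank_span_eq_card hLI, Fintype.card_fin]

/-- LPSUB: a non-degenerate subspace which is the sum of two totally isotropic subspaces -/
theorem finrank_eq_of_ti_split {F : Type*} [Field F] [Fintype F] {q n : ℕ}
    (hF : Fintype.card F = q ^ 2) {W A B : Submodule F (Fin n → F)} (hW : NonDeg q W)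
    (hA : Orth q A A) (hB : Orth q B B) (hAB : A ⊔ B = W) :
    Module.finrank F A = Module.finrank F B := by
  obtain ⟨σ, hσ, hσ2⟩ := Cfsg.Agent.Helper28.exists_frob hF
  have hherm := hB_isHerm σ hF hσ n
  have hWnd : NondegU (Cfsg.Agent.Helper28.HermFrame.hB σ n) W := by
    intro m hm hm0
    obtain ⟨v, hv, hne⟩ := (nonDeg_iff W).mp hW m hm hm0
    refine ⟨v, hv, ?_⟩
    intro h0
    apply hne
    have := hherm.eq_zero_comm h0
    rwa [hB_herm σ hσ] at this
  have hAo : OrthU (Cfsg.Agent.Helper28.HermFrame.hB σ n) A A := fun u hu v hv => by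
    rw [hB_herm σ hσ]
    exact hA v hv u hu
  have hBo : OrthU (Cfsg.Agent.Helper28.HermFrame.hB σ n) B B := fun u hu v hv => by
    rw [hB_herm σ hσ]
    exact hB v hv u hu
  have h1 := ti_le_half_u (Cfsg.Agent.Helper28.HermFrame.hB σ n) hherm W A hWnd (by rw [← hAB]; exact le_sup_left) hAo
  have h2 := ti_le_half_u (Cfsg.Agent.Helper28.HermFrame.hB σ n) hherm W B hWnd (by rw [← hAB]; exact le_sup_right) hBo
  have h3 := Submodule.finrank_add_le_finrank_add_finrank A B
  rw [hAB] at h3
  omega

end Cfsg.Agent.S5954P
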