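import Mathlib
import Cfsg.Prelude.Def_Classical
import Cfsg.Agent.Helper23.S5953Defs
import Cfsg.Agent.Helper20.S5954Defs
import Cfsg.Agent.Helper28.UPair5
import Cfsg.Agent.Helper18.S5954NDSUBU

set_option autoImplicit false
open scoped MatrixGroups Matrix

/-! S5954 piece HYPGOOD: an isometry acting by scalars on both members of a polar pair fixes
non-degenerate subspaces of every even dimension. -/

universe u

namespace Cfsg.Agent.S5954P

open Polynomial Cfsg.Agent.S5953P Cfsg.Agent.Helper28.HW Cfsg.Agent.Helper28.HermFrame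
open Cfsg.Agent.S2644 Cfsg.Agent.Helper2.SUGen Cfsg.Agent.Helper28.UPair Cfsg.Agent.S5984P

/-- HYPGOOD: an isometry acting by scalars on both members of a polar pair fixes non-degenerate subspaces of every even dimension -/
theorem good_of_lp {F : Type*} [Field F] [Fintype F] {q n : ℕ} (hF : Fintype.card F = q ^ 2)
    {A B : Submodule F (Fin n → F)} (hL : LP q A B) (x : Matrix (Fin n) (Fin n) F) (a b : F)
    (hA : ∀ v ∈ A, x *ᵥ v = a • v) (hB : ∀ v ∈ B, x *ᵥ v = b • v) (k : ℕ) (hk : 2 * k ≤ n) :
    Good q (2 * k) x := by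
  classical
  obtain ⟨D⟩ := frobOf hF
  -- dimensions
  have hnd : NonDeg q (⊤ : Submodule F (Fin n → F)) := by
    intro y _ hy
    exact h_nondeg D (fun z => hy z Submodule.mem_top)
  have hsup : A ⊔ B = ⊤ := by
    rw [eq_top_iff]
    intro v _
    obtain ⟨a', ha', b', hb', rfl⟩ := hL.dec v
    exact Submodule.add_mem_sup ha' hb'
  have hABeq : Module.finrank F A = Module.finrank F B :=
    finrank_eq_of_ti_split hF hnd hL.isoA hL.isoB hsup
  have hinf : A ⊓ B = ⊥ := by
    rw [eq_bot_iff]
    intro v hv
    exact (Submodule.mem_bot F).mpr (hL.disj D hv.1 hv.2)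
  have hdim : Module.finrank F A + Module.finrank F B = n := by
    have := Submodule.finrank_sup_add_finrank_inf_eq A B
    rw [hsup, hinf, finrank_top, finrank_bot, add_zero, Module.finrank_fin_fun] at this
    exact this.symm
  obtain ⟨d, hd⟩ : ∃ d, Module.finrank F A = d := ⟨_, rfl⟩
  have hdB : Module.finrank F B = d := by rw [← hABeq, hd]
  have hkd : k ≤ d := by omega
  -- a basis of `A` and the dual basis of `B`
  set bA : Module.Basis (Fin d) F A := Module.finBasisOfFinrankEq F A hd with hbA
  set e : Fin d → (Fin n → F) := fun i => (bA i : Fin n → F) with he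
  have heA : ∀ i, e i ∈ A := fun i => (bA i).2
  have hsumA : ∀ a' : A, (a' : Fin n → F) = ∑ i, bA.repr a' i • e i := by
    intro a'
    conv_lhs => rw [← bA.sum_repr a']
    rw [Submodule.coe_sum]
    rfl
  let Ψ : B →ₗ[F] (Fin d → F) :=
    { toFun := fun b' i => Cfsg.hermForm n F q (b' : Fin n → F) (e i)
      map_add' := by
        intro u v
        funext i
        simp only [Submodule.coe_add, h_add_left, Pi.add_apply]
      map_smul' := by
        intro c u
        funext i
        simp only [Submodule.coe_smul, h_smul_left, RingHom.id_apply, Pi.smul_apply, smul_eq_mul] }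
  have hΨa : ∀ (b' : B) i, Ψ b' i = Cfsg.hermForm n F q (b' : Fin n → F) (e i) := fun b' i => rfl
  have hinj : Function.Injective Ψ := by
    rw [← LinearMap.ker_eq_bot, LinearMap.ker_eq_bot']
    intro b' hb'
    apply Subtype.ext
    apply hL.disj D _ b'.2
    apply hL.perp_mem D
    intro a' ha'
    apply h_symm_zero D
    rw [show (a' : Fin n → F) = ∑ i, bA.repr ⟨a', ha'⟩ i • e i from hsumA ⟨a', ha'⟩, h_sum_left]
    apply Finset.sum_eq_zero
    intro i _
    rw [h_smul_left, h_symm_zero D (show Cfsg.hermForm n F q (b' : Fin n → F) (e i) = 0 by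
      rw [← hΨa, hb']; rfl), mul_zero]
  set Ψe : B ≃ₗ[F] (Fin d → F) := LinearMap.linearEquivOfInjective Ψ hinj (by rw [hdB]; simp)
    with hΨe
  set f : Fin d → (Fin n → F) := fun j => ((Ψe.symm (Pi.single j 1) : B) : Fin n → F) with hf
  have hfB : ∀ j, f j ∈ B := fun j => (Ψe.symm (Pi.single j 1)).2
  have hfe : ∀ i j, Cfsg.hermForm n F q (f j) (e i) = if i = j then 1 else 0 := by
    intro i j
    have h1 : Ψe (Ψe.symm (Pi.single j 1)) i = (Pi.single j (1 : F) : Fin d → F) i := by
      rw [LinearEquiv.apply_symm_apply]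
    rw [Pi.single_apply] at h1
    rw [← h1]
    rfl
  have hef : ∀ i j, Cfsg.hermForm n F q (e i) (f j) = if i = j then 1 else 0 := by
    intro i j
    rw [← h_conj D, hfe]
    split_ifs <;> simp
  have hee : ∀ i j, Cfsg.hermForm n F q (e i) (e j) = 0 :=
    fun i j => hL.isoA _ (heA i) _ (heA j)
  have hff : ∀ i j, Cfsg.hermForm n F q (f i) (f j) = 0 :=
    fun i j => hL.isoB _ (hfB i) _ (hfB j)
  -- the family `e_0, …, e_(k-1), f_0, …, f_(k-1)`
  set g : Fin k ⊕ Fin k → (Fin n → F) :=
    Sum.elim (fun j => e (Fin.castLE hkd j)) (fun j => f (Fin.castLE hkd j)) with hg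
  have hcast : ∀ i l : Fin k, Fin.castLE hkd i = Fin.castLE hkd l ↔ i = l := fun i l =>
    (Fin.castLE_injective hkd).eq_iff
  have key : ∀ c : Fin k ⊕ Fin k → F,
      (∀ l : Fin k, Cfsg.hermForm n F q (∑ s, c s • g s) (f (Fin.castLE hkd l)) = c (Sum.inl l)) ∧
      (∀ l : Fin k, Cfsg.hermForm n F q (∑ s, c s • g s) (e (Fin.castLE hkd l)) = c (Sum.inr l)) := by
    intro c
    constructor
    · intro l
      rw [h_sum_left, Fintype.sum_sum_type]
      simp only [hg, Sum.elim_inl, Sum.elim_inr, h_smul_left, hef, hff, hcast, mul_zero,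
        Finset.sum_const_zero, add_zero, mul_ite, mul_one]
      rw [Finset.sum_ite_eq' Finset.univ l]
      simp
    · intro l
      rw [h_sum_left, Fintype.sum_sum_type]
      simp only [hg, Sum.elim_inl, Sum.elim_inr, h_smul_left, hee, hfe, hcast, mul_zero,
        Finset.sum_const_zero, zero_add, mul_ite, mul_one]
      rw [Finset.sum_ite_eq Finset.univ l]
      simp
  have hzero : ∀ c : Fin k ⊕ Fin k → F,
      (∀ v ∈ Submodule.span F (Set.range g), Cfsg.hermForm n F q (∑ s, c s • g s) v = 0) →
      ∀ s, c s = 0 := by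
    intro c hc s
    obtain ⟨h1, h2⟩ := key c
    rcases s with l | l
    · rw [← h1 l]
      exact hc _ (Submodule.subset_span ⟨Sum.inr l, rfl⟩)
    · rw [← h2 l]
      exact hc _ (Submodule.subset_span ⟨Sum.inl l, rfl⟩)
  have hLI : LinearIndependent F g := by
    rw [Fintype.linearIndependent_iff]
    intro c hc
    apply hzero c
    intro v _
    rw [hc, h_zero_left]
  refine ⟨Submodule.span F (Set.range g), ?_, ?_, ?_⟩
  · rw [finrank_span_eq_card hLI, Fintype.card_sum, Fintype.card_fin]
    ring
  · intro y hy hall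
    obtain ⟨c, rfl⟩ := (Submodule.mem_span_range_iff_exists_fun F).mp hy
    have hc := hzero c hall
    simp [hc]
  · have hle : Submodule.span F (Set.range g) ≤
        (Submodule.span F (Set.range g)).comap (Matrix.toLin' x) := by
      rw [Submodule.span_le]
      rintro _ ⟨s, rfl⟩
      show Matrix.toLin' x (g s) ∈ Submodule.span F (Set.range g)
      rw [Matrix.toLin'_apply]
      rcases s with l | l
      · rw [show g (Sum.inl l) = e (Fin.castLE hkd l) from rfl, hA _ (heA _)]
        exact Submodule.smul_mem _ _ (Submodule.subset_span ⟨Sum.inl l, rfl⟩)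
      · rw [show g (Sum.inr l) = f (Fin.castLE hkd l) from rfl, hB _ (hfB _)]
        exact Submodule.smul_mem _ _ (Submodule.subset_span ⟨Sum.inr l, rfl⟩)
    intro w hw
    have := hle hw
    rwa [Submodule.mem_comap, Matrix.toLin'_apply] at this

end Cfsg.Agent.S5954P
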