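import Mathlib
import Cfsg.Prelude.Def_Classical
import Cfsg.Agent.Helper23.S5953Defs
import Cfsg.Agent.Helper20.S5954Defs
import Cfsg.Agent.Helper23.S5953NDCHAIN

set_option autoImplicit false
open scoped MatrixGroups Matrix

/-! S5954 pieces NDSPLITU, ORTHINDEPU, NDBIGU (generic Hermitian geometry). -/

universe u

namespace Cfsg.Agent.S5954P

open Polynomial Cfsg.Agent.S5953P Cfsg.Agent.Helper28.HW Cfsg.Agent.Helper28.HermFrame

/-- NDSPLITU: orthogonal summands of a non-degenerate subspace are non-degenerate -/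
theorem nd_of_sup_u {F V : Type*} [Field F] [Fintype F] [AddCommGroup V] [Module F V]
    [FiniteDimensional F V] {q : ℕ} {σ : F →+* F} (B : V →ₛₗ[σ] V →ₗ[F] F) (hB : IsHerm q B)
    (U W : Submodule F V) (hUW : OrthU B U W) (h : NondegU B (U ⊔ W)) :
    NondegU B U ∧ NondegU B W := by
  have hWU : OrthU B W U := OrthU.symm hB hUW
  constructor
  · intro u hu hu0
    obtain ⟨v, hv, hne⟩ := h u (Submodule.mem_sup_left hu) hu0
    obtain ⟨a, ha, b, hb, rfl⟩ := Submodule.mem_sup.mp hv
    refine ⟨a, ha, ?_⟩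
    rw [map_add, hUW u hu b hb, add_zero] at hne
    exact hne
  · intro w hw hw0
    obtain ⟨v, hv, hne⟩ := h w (Submodule.mem_sup_right hw) hw0
    obtain ⟨a, ha, b, hb, rfl⟩ := Submodule.mem_sup.mp hv
    refine ⟨b, hb, ?_⟩
    rw [map_add, hWU w hw a ha, zero_add] at hne
    exact hne

/-- ORTHINDEPU: pairwise orthogonal non-degenerate subspaces are independent -/
theorem iSupIndep_of_orth_u {F V : Type*} [Field F] [Fintype F] [AddCommGroup V] [Module F V]
    [FiniteDimensional F V] {q : ℕ} {σ : F →+* F} (B : V →ₛₗ[σ] V →ₗ[F] F) (hB : IsHerm q B)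
    {t : ℕ} (E : Fin t → Submodule F V) (hE : ∀ j, NondegU B (E j))
    (horth : ∀ j j', j ≠ j' → OrthU B (E j) (E j')) : iSupIndep E :=
  Cfsg.Agent.S5953P.NDCHAIN.indep_of_orth_u B hB E hE horth

namespace NDBIGU

/-- the orthogonal sum of two non-degenerate subspaces -/
theorem nd_sup {F V : Type*} [Field F] [Fintype F] [AddCommGroup V] [Module F V]
    [FiniteDimensional F V] {q : ℕ} {σ : F →+* F} (B : V →ₛₗ[σ] V →ₗ[F] F) (hB : IsHerm q B)
    (U W : Submodule F V) (hU : NondegU B U) (hW : NondegU B W) (hUW : OrthU B U W) :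
    NondegU B (U ⊔ W) ∧ Disjoint U W ∧
      Module.finrank F ↥(U ⊔ W) = Module.finrank F U + Module.finrank F W := by
  have hWU : OrthU B W U := OrthU.symm hB hUW
  have hdisj : Disjoint U W := by
    rw [Submodule.disjoint_def]
    intro x hxU hxW
    by_contra hx0
    obtain ⟨a, ha, hne⟩ := hU x hxU hx0
    exact hne (hWU x hxW a ha)
  refine ⟨?_, hdisj, ?_⟩
  · intro x hx hx0
    obtain ⟨u, hu, w, hw, rfl⟩ := Submodule.mem_sup.mp hx
    by_cases hu0 : u = 0
    · subst hu0
      rw [zero_add] at hx0 ⊢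
      obtain ⟨b, hb, hne⟩ := hW w hw hx0
      exact ⟨b, Submodule.mem_sup_right hb, hne⟩
    · obtain ⟨a, ha, hne⟩ := hU u hu hu0
      refine ⟨a, Submodule.mem_sup_left ha, ?_⟩
      rw [map_add, LinearMap.add_apply, hWU w hw a ha, add_zero]
      exact hne
  · have := Submodule.finrank_sup_add_finrank_inf_eq U W
    rw [hdisj.eq_bot, finrank_bot, add_zero] at this
    exact this

end NDBIGU

/-- NDBIGU: the orthogonal sum of a family of non-degenerate subspaces -/
theorem nd_biSup_u {F V : Type*} [Field F] [Fintype F] [AddCommGroup V] [Module F V]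
    [FiniteDimensional F V] {q : ℕ} {σ : F →+* F} (B : V →ₛₗ[σ] V →ₗ[F] F) (hB : IsHerm q B)
    {t : ℕ} (E : Fin t → Submodule F V) (hE : ∀ j, NondegU B (E j))
    (horth : ∀ j j', j ≠ j' → OrthU B (E j) (E j')) (S : Finset (Fin t)) :
    NondegU B (⨆ j ∈ S, E j) ∧
      Module.finrank F ↥(⨆ j ∈ S, E j) = ∑ j ∈ S, Module.finrank F (E j) := by
  classical
  induction S using Finset.induction_on with
  | empty =>
    have hbot : (⨆ j ∈ (∅ : Finset (Fin t)), E j) = ⊥ := by
      simp only [Finset.notMem_empty, iSup_false, iSup_bot]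
    rw [hbot, Finset.sum_empty, finrank_bot]
    refine ⟨?_, rfl⟩
    intro m hm hm0
    exact absurd ((Submodule.mem_bot F).mp hm) hm0
  | insert a S ha ih =>
    obtain ⟨ih1, ih2⟩ := ih
    have hor : OrthU B (E a) (⨆ j ∈ S, E j) := by
      intro u hu v hv
      have hle : (⨆ j ∈ S, E j) ≤ LinearMap.ker (B u) := by
        refine iSup₂_le fun j hj => ?_
        intro w hw
        rw [LinearMap.mem_ker]
        exact horth a j (fun h => ha (h ▸ hj)) u hu w hw
      have := hle hv
      rwa [LinearMap.mem_ker] at this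
    obtain ⟨h1, -, h3⟩ := NDBIGU.nd_sup B hB (E a) (⨆ j ∈ S, E j) (hE a) ih1 hor
    rw [Finset.iSup_insert, Finset.sum_insert ha]
    exact ⟨h1, by rw [h3, ih2]⟩

end Cfsg.Agent.S5954P
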