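import Mathlib
import Cfsg.Prelude.Def_GeometricClasses
import Cfsg.Prelude.Def_ClassicalGeometry
import Cfsg.Agent.Helper23.S5961Defs
import Cfsg.Agent.Helper23.S5958TRANS
import Cfsg.Agent.Helper18.S5961ISOM

set_option autoImplicit false
open scoped MatrixGroups

/-! S5961 piece TRANSSP: the number of orthogonal nondegenerate decompositions divides `|Sp|`. -/

namespace Cfsg.Agent.S5961P

open Polynomial Cfsg.Agent.Helper2.SympInvol Cfsg.Agent.Helper2.SympUnits

namespace TRANSSP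

open Cfsg.Agent.Helper23.S5958TRANS

variable {F : Type*} [Field F] {d : ℕ}

/-- the linear automorphism of a symplectic matrix -/
noncomputable def lin (g : Matrix.symplecticGroup (Fin d) F) :
    (Fin d ⊕ Fin d → F) ≃ₗ[F] (Fin d ⊕ Fin d → F) :=
  LinearEquiv.ofLinearMap (Matrix.toLin' (g : Matrix (Fin d ⊕ Fin d) (Fin d ⊕ Fin d) F))
    (Matrix.toLin' ((g⁻¹ : Matrix.symplecticGroup (Fin d) F) :
      Matrix (Fin d ⊕ Fin d) (Fin d ⊕ Fin d) F))
    (by
      rw [← Matrix.toLin'_mul]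
      have : (g : Matrix (Fin d ⊕ Fin d) (Fin d ⊕ Fin d) F) *
          ((g⁻¹ : Matrix.symplecticGroup (Fin d) F) :
            Matrix (Fin d ⊕ Fin d) (Fin d ⊕ Fin d) F) = 1 := by
        have := congrArg Subtype.val (mul_inv_cancel g)
        exact this
      rw [this, Matrix.toLin'_one])
    (by
      rw [← Matrix.toLin'_mul]
      have : ((g⁻¹ : Matrix.symplecticGroup (Fin d) F) :
            Matrix (Fin d ⊕ Fin d) (Fin d ⊕ Fin d) F) *
          (g : Matrix (Fin d ⊕ Fin d) (Fin d ⊕ Fin d) F) = 1 := by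
        have := congrArg Subtype.val (inv_mul_cancel g)
        exact this
      rw [this, Matrix.toLin'_one])

theorem lin_coe (g : Matrix.symplecticGroup (Fin d) F) :
    ((lin g : (Fin d ⊕ Fin d → F) ≃ₗ[F] (Fin d ⊕ Fin d → F)) :
      (Fin d ⊕ Fin d → F) →ₗ[F] (Fin d ⊕ Fin d → F)) =
    Matrix.toLin' (g : Matrix (Fin d ⊕ Fin d) (Fin d ⊕ Fin d) F) := rfl

/-- the property defining the set of decompositions -/
def Good (a : ℕ) {t : ℕ} (D : Fin t → Submodule F (Fin d ⊕ Fin d → F)) : Prop :=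
  Cfsg.Geo.IsMDecomposition a D ∧
    (∀ j, ∀ u ∈ D j, u ≠ 0 → ∃ v ∈ D j, Cfsg.sympForm d F u v ≠ 0) ∧
    (∀ j j', j ≠ j' → ∀ u ∈ D j, ∀ v ∈ D j', Cfsg.sympForm d F u v = 0)

theorem good_map {a t : ℕ} {D : Fin t → Submodule F (Fin d ⊕ Fin d → F)} (hD : Good a D)
    (g : Matrix.symplecticGroup (Fin d) F) :
    Good a (fun j => (D j).map
      (Matrix.toLin' (g : Matrix (Fin d ⊕ Fin d) (Fin d ⊕ Fin d) F))) := by
  obtain ⟨h1, h2, h3⟩ := hD
  refine ⟨?_, ?_, ?_⟩
  · have := isMDecomposition_map h1 (lin g)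
    simpa only [lin_coe] using this
  · intro j u hu hu0
    obtain ⟨u₀, hu₀, rfl⟩ := hu
    have hu₀0 : u₀ ≠ 0 := by
      rintro rfl
      exact hu0 (map_zero _)
    obtain ⟨v₀, hv₀, hne⟩ := h2 j u₀ hu₀ hu₀0
    refine ⟨_, ⟨v₀, hv₀, rfl⟩, ?_⟩
    have := sB_isometry d F g u₀ v₀
    rw [sB_apply, sB_apply] at this
    rw [this]
    exact hne
  · intro j j' hjj' u hu v hv
    obtain ⟨u₀, hu₀, rfl⟩ := hu
    obtain ⟨v₀, hv₀, rfl⟩ := hv
    have := sB_isometry d F g u₀ v₀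
    rw [sB_apply, sB_apply] at this
    rw [this]
    exact h3 j j' hjj' u₀ hu₀ v₀ hv₀

/-- existence of a good decomposition -/
theorem exists_good (a t : ℕ) (hat : 2 * d = a * t) (ha : 2 ≤ a) (hae : Even a) (ht : 2 ≤ t) :
    ∃ D : Fin t → Submodule F (Fin d ⊕ Fin d → F), Good a D := by
  obtain ⟨a', ha'⟩ := hae
  have hdim : Module.finrank F (Fin d ⊕ Fin d → F) = 2 * a' * t := by
    rw [Module.finrank_fintype_fun_eq_card, Fintype.card_sum, Fintype.card_fin]
    rw [ha'] at hat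
    rw [← two_mul, hat]
    ring
  obtain ⟨D, h1, h2, h3, h4, h5, -⟩ := exists_blocks (B := sB d F) (sB_alt d F)
    (X := LinearMap.id) (fun _ _ => rfl) (z := 1) (Or.inl rfl) (fun v => by simp)
    (sB_nondeg d F) (a := a') (t := t) (by omega) hdim
  refine ⟨D, ⟨ht, by omega, fun i => by rw [h1 i, ha', two_mul], h2, h3⟩, h4, h5⟩

/-- transitivity -/
theorem exists_map {a t : ℕ} {D D' : Fin t → Submodule F (Fin d ⊕ Fin d → F)}
    (hD : Good a D) (hD' : Good a D') :
    ∃ g : Matrix.symplecticGroup (Fin d) F, ∀ j, (D j).map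
      (Matrix.toLin' (g : Matrix (Fin d ⊕ Fin d) (Fin d ⊕ Fin d) F)) = D' j := by
  classical
  obtain ⟨h1, h2, h3⟩ := hD
  obtain ⟨h1', h2', h3'⟩ := hD'
  have hI : DirectSum.IsInternal D :=
    DirectSum.isInternal_submodule_of_iSupIndep_of_iSup_eq_top h1.indep h1.iSup_eq_top
  have hI' : DirectSum.IsInternal D' :=
    DirectSum.isInternal_submodule_of_iSupIndep_of_iSup_eq_top h1'.indep h1'.iSup_eq_top
  -- isometries of the summands
  have hiso : ∀ j : Fin t, ∃ e : ↥(D j) ≃ₗ[F] ↥(D' j), ∀ u v : ↥(D j),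
      sB d F (e u : Fin d ⊕ Fin d → F) (e v : Fin d ⊕ Fin d → F) =
        sB d F (u : Fin d ⊕ Fin d → F) (v : Fin d ⊕ Fin d → F) := by
    intro j
    obtain ⟨e, he⟩ := exists_isometry ((sB d F).restrict (D j)) ((sB d F).restrict (D' j))
      (fun v => sB_alt d F _) (fun v => sB_alt d F _)
      (by
        intro m _ hm0
        have hm0' : (m : Fin d ⊕ Fin d → F) ≠ 0 := fun h => hm0 (Subtype.ext h)
        obtain ⟨v, hv, hne⟩ := h2 j m m.2 hm0'
        exact ⟨⟨v, hv⟩, trivial, hne⟩)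
      (by
        intro m _ hm0
        have hm0' : (m : Fin d ⊕ Fin d → F) ≠ 0 := fun h => hm0 (Subtype.ext h)
        obtain ⟨v, hv, hne⟩ := h2' j m m.2 hm0'
        exact ⟨⟨v, hv⟩, trivial, hne⟩)
      (by rw [h1.finrank_eq j, h1'.finrank_eq j])
    exact ⟨e, fun u v => he u v⟩
  choose e he using hiso
  let v : ∀ j : Fin t, Module.Basis (Fin a) F (D j) := fun j =>
    Module.finBasisOfFinrankEq F (D j) (h1.finrank_eq j)
  let v' : ∀ j : Fin t, Module.Basis (Fin a) F (D' j) := fun j => (v j).map (e j)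
  let Bs := hI.collectedBasis v
  let Bs' := hI'.collectedBasis v'
  let φ : (Fin d ⊕ Fin d → F) ≃ₗ[F] (Fin d ⊕ Fin d → F) := Bs.equiv Bs' (Equiv.refl _)
  have hBs : ∀ j i, Bs ⟨j, i⟩ = ((v j i : ↥(D j)) : Fin d ⊕ Fin d → F) := by
    intro j i
    rw [DirectSum.IsInternal.collectedBasis_coe]
  have hφ : ∀ j i, φ (Bs ⟨j, i⟩) = ((e j (v j i) : ↥(D' j)) : Fin d ⊕ Fin d → F) := by
    intro j i
    have : φ (Bs ⟨j, i⟩) = Bs' ⟨j, i⟩ := Module.Basis.equiv_apply Bs ⟨j, i⟩ Bs' (Equiv.refl _)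
    rw [this, DirectSum.IsInternal.collectedBasis_coe]
    rfl
  -- `φ` is an isometry
  have hform : (sB d F).compl₁₂ (φ : (Fin d ⊕ Fin d → F) →ₗ[F] (Fin d ⊕ Fin d → F))
      (φ : (Fin d ⊕ Fin d → F) →ₗ[F] (Fin d ⊕ Fin d → F)) = sB d F := by
    apply LinearMap.ext_basis Bs Bs
    rintro ⟨j, i⟩ ⟨k, l⟩
    rw [LinearMap.compl₁₂_apply, LinearEquiv.coe_coe, hφ, hφ, hBs, hBs]
    by_cases hjk : j = k
    · subst hjk
      exact he j _ _
    · rw [sB_apply, sB_apply, h3 j k hjk _ (v j i).2 _ (v k l).2,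
        h3' j k hjk _ (e j (v j i)).2 _ (e k (v k l)).2]
  have hmem : LinearMap.toMatrix' (φ : (Fin d ⊕ Fin d → F) →ₗ[F] (Fin d ⊕ Fin d → F)) ∈
      Matrix.symplecticGroup (Fin d) F := by
    apply mem_symplectic_of_isometry
    intro u w
    rw [Matrix.toLin'_toMatrix']
    have := congrArg (fun B => B u w) hform
    simpa [LinearMap.compl₁₂_apply] using this
  refine ⟨⟨_, hmem⟩, fun j => ?_⟩
  change (D j).map (Matrix.toLin' (LinearMap.toMatrix'
    (φ : (Fin d ⊕ Fin d → F) →ₗ[F] (Fin d ⊕ Fin d → F)))) = D' j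
  rw [Matrix.toLin'_toMatrix']
  have hspan : ∀ (E : Fin t → Submodule F (Fin d ⊕ Fin d → F)) (hE : DirectSum.IsInternal E)
      (w : ∀ j : Fin t, Module.Basis (Fin a) F (E j)) (j : Fin t),
      E j = Submodule.span F (Set.range (fun i : Fin a => hE.collectedBasis w ⟨j, i⟩)) := by
    intro E hE w j
    have h1 : (fun i : Fin a => hE.collectedBasis w ⟨j, i⟩) =
        (E j).subtype ∘ (w j) := by
      funext i
      rw [DirectSum.IsInternal.collectedBasis_coe]
      rfl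
    rw [h1, Set.range_comp, ← Submodule.map_span, (w j).span_eq, Submodule.map_top,
      Submodule.range_subtype]
  rw [hspan D hI v j, hspan D' hI' v' j, Submodule.map_span, ← Set.range_comp]
  congr 2
  funext i
  simp only [Function.comp_apply, LinearEquiv.coe_coe]
  exact Module.Basis.equiv_apply Bs ⟨j, i⟩ Bs' (Equiv.refl _)

end TRANSSP

open TRANSSP in
/-- TRANSSP (uses ISOM, NDSUB / a standard decomposition, orbit-stabilizer;
adapt Helper23.S5958TRANS) -/
theorem card_decomp_dvd_card_Sp {F : Type*} [Field F] [Fintype F] (d a t : ℕ)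
    (hat : 2 * d = a * t) (ha : 2 ≤ a) (hae : Even a) (ht : 2 ≤ t) :
    Nat.card {D : Fin t → Submodule F (Fin d ⊕ Fin d → F) //
      (Cfsg.Geo.IsMDecomposition a D ∧
        (∀ j, ∀ u ∈ D j, u ≠ 0 → ∃ v ∈ D j, Cfsg.sympForm d F u v ≠ 0) ∧
        (∀ j j', j ≠ j' → ∀ u ∈ D j, ∀ v ∈ D j', Cfsg.sympForm d F u v = 0))} ∣
      Nat.card (Matrix.symplecticGroup (Fin d) F) := by
  classical
  let act : MulAction (Matrix.symplecticGroup (Fin d) F)
      {D : Fin t → Submodule F (Fin d ⊕ Fin d → F) // Good a D} :=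
    { smul := fun g D => ⟨fun j => (D.1 j).map
        (Matrix.toLin' (g : Matrix (Fin d ⊕ Fin d) (Fin d ⊕ Fin d) F)), good_map D.2 g⟩
      one_smul := fun D => by
        apply Subtype.ext
        funext j
        change (D.1 j).map (Matrix.toLin' (1 : Matrix (Fin d ⊕ Fin d) (Fin d ⊕ Fin d) F)) = D.1 j
        rw [Matrix.toLin'_one]
        exact Submodule.map_id _
      mul_smul := fun g₁ g₂ D => by
        apply Subtype.ext
        funext j
        change (D.1 j).map (Matrix.toLin' ((g₁ : Matrix (Fin d ⊕ Fin d) (Fin d ⊕ Fin d) F) *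
          (g₂ : Matrix (Fin d ⊕ Fin d) (Fin d ⊕ Fin d) F))) =
          ((D.1 j).map (Matrix.toLin' (g₂ : Matrix (Fin d ⊕ Fin d) (Fin d ⊕ Fin d) F))).map
            (Matrix.toLin' (g₁ : Matrix (Fin d ⊕ Fin d) (Fin d ⊕ Fin d) F))
        rw [Matrix.toLin'_mul, Submodule.map_comp] }
  obtain ⟨D₀, hD₀⟩ := exists_good (F := F) (d := d) a t hat ha hae ht
  have htrans : MulAction.IsPretransitive (Matrix.symplecticGroup (Fin d) F)
      {D : Fin t → Submodule F (Fin d ⊕ Fin d → F) // Good a D} := by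
    constructor
    intro D D'
    obtain ⟨g, hg⟩ := exists_map D.2 D'.2
    refine ⟨g, ?_⟩
    apply Subtype.ext
    funext j
    exact hg j
  have h1 := MulAction.index_stabilizer_of_transitive (Matrix.symplecticGroup (Fin d) F)
    (⟨D₀, hD₀⟩ : {D : Fin t → Submodule F (Fin d ⊕ Fin d → F) // Good a D})
  change Nat.card {D : Fin t → Submodule F (Fin d ⊕ Fin d → F) // Good a D} ∣ _
  rw [← h1]
  exact Subgroup.index_dvd_card _

end Cfsg.Agent.S5961P
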