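import Mathlib
import Cfsg.Agent.Helper16.S5974Defs

/-! S5990 piece A90NE (helper18): criterion ⇒ closed form, `i` even, `(ε, θ) = (-, -)`. -/

set_option autoImplicit false
set_option linter.unusedVariables false

namespace Cfsg.Agent.S5974P

open Cfsg.Agent.S5973P

/-- `n = a + c t` with `a < c` gives `n % c = a` and `n / c = t` -/
theorem A90NE.divmod_of_eq (n a c t : ℕ) (h : n = a + c * t) (ha : a < c) :
    n % c = a ∧ n / c = t := by
  have hc : 0 < c := by omega
  refine ⟨by rw [h, Nat.add_mul_mod_self_left, Nat.mod_eq_of_lt ha], ?_⟩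
  rw [h, Nat.add_mul_div_left _ _ hc, Nat.div_eq_of_lt ha, zero_add]

/-- the core of A90NE, with `2 d = c n + k`, `m = c m' + l` -/
theorem A90NE.core (c d m s n k m' l : ℕ) (hi0 : 0 < c) (hi : Even c)
    (hd : 4 ≤ d) (hm2 : 2 ≤ m) (hs : m = s + s) (hmn : m + 2 ≤ 2 * d)
    (hdiv' : (c ∣ 2 * d ∧ ¬ c ∣ d) ∨ (c ∣ 2 * (d - s) ∧ ¬ c ∣ (d - s)) ∨
      ∃ j, d - s + 1 ≤ j ∧ j < d ∧ c ∣ 2 * j)
    (h : CritE false false c c d m)
    (hdm : c * n + k = 2 * d) (hklt : k < c) (hmm : c * m' + l = m) (hllt : l < c)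
    (hn1 : 1 ≤ n) :
    (k = 0 ∧ (Even n ∨ (l = 0 ∧ Odd m'))) ∨
     (0 < k ∧ c ≤ m ∧ ((0 < l ∧ l < k) ∨ (l = 0 ∧ Odd m') ∨
        (l = k ∧ Even (n + m')))) := by
  have htC : ∀ b, typeC false c b ↔ Odd b := by
    intro b
    simp [typeC, hi]
  have htN : ∀ b, tNP c b ↔ Even b := by
    intro b
    simp [tNP, hi]
  by_cases hk0 : k = 0
  · refine Or.inl ⟨hk0, ?_⟩
    by_cases hne : Even n
    · exact Or.inl hne
    · have hno : Odd n := Nat.not_even_iff_odd.mp hne
      have hreal : Realz false c c d n := by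
        refine ⟨hn1, by omega, fun _ => (htC n).mpr hno⟩
      obtain ⟨b', a', h1, h2, h3, h4, -⟩ := h _ hreal
      have ha0 : a' = 0 := by omega
      have hb' : Odd b' := by
        have h6 := h4 ha0
        rw [htN] at h6
        rw [← Nat.not_even_iff_odd]
        intro h7
        exact Bool.false_ne_true (h6.mp h7)
      subst ha0
      obtain ⟨hl0, hm'b⟩ := A90NE.divmod_of_eq m 0 c b' (by omega) hi0
      obtain ⟨hl1, hm'1⟩ := A90NE.divmod_of_eq m l c m' (by omega) hllt
      have hl2 : l = 0 := by rw [← hl1, hl0]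
      have hm2 : m' = b' := by rw [← hm'1, hm'b]
      exact Or.inr ⟨hl2, by rw [hm2]; exact hb'⟩
  · have hkpos : 0 < k := Nat.pos_of_ne_zero hk0
    have hreal : Realz false c c d n := by
      refine ⟨hn1, by omega, fun h0 => ?_⟩
      omega
    obtain ⟨b', a', h1, h2, h3, h4, h5⟩ := h _ hreal
    have hak : a' ≤ k := by omega
    obtain ⟨hla, hm'b⟩ := A90NE.divmod_of_eq m a' c b' (by omega) (by omega)
    obtain ⟨hl1, hm'1⟩ := A90NE.divmod_of_eq m l c m' (by omega) hllt
    have hl2 : a' = l := by rw [← hl1, hla]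
    have hm2 : b' = m' := by rw [← hm'1, hm'b]
    subst hl2 hm2
    have hl0 : a' = 0 → Odd b' := by
      intro h0
      have h6 := h4 h0
      rw [htN] at h6
      rw [← Nat.not_even_iff_odd]
      intro h7
      exact Bool.false_ne_true (h6.mp h7)
    have hlk : a' = k → (Odd n ↔ Odd b') := by
      intro h0
      have h6 := h5 (by omega)
      rw [htC, htN] at h6
      have h7 : ¬ (Odd n ↔ Even b') := fun h8 => Bool.false_ne_true (h6.mp h8)
      constructor
      · intro hn
        by_contra hm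
        exact h7 ⟨fun _ => Nat.not_odd_iff_even.mp hm, fun _ => hn⟩
      · intro hm
        by_contra hn
        exact h7 ⟨fun h => absurd h hn, fun h => absurd hm (Nat.not_odd_iff_even.mpr h)⟩
    -- `i ≤ m`
    have hcm : c ≤ m := by
      by_contra hcon
      push Not at hcon
      have hm0 : b' = 0 := by
        rw [← hm'b]
        exact Nat.div_eq_of_lt hcon
      have hlm : a' = m := by
        rw [← hla]
        exact Nat.mod_eq_of_lt hcon
      rcases hdiv' with ⟨h1', -⟩ | ⟨h1', h2'⟩ | ⟨j, hj1, hj2, hj3⟩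
      · apply hk0
        obtain ⟨h7, -⟩ := A90NE.divmod_of_eq (2 * d) k c n (by omega) hklt
        rw [← h7]
        exact Nat.mod_eq_zero_of_dvd h1'
      · -- `2 (d - s) = c n + (k - l)`
        have h6 : 2 * (d - s) = (k - a') + c * n := by omega
        obtain ⟨h7, h8⟩ := A90NE.divmod_of_eq (2 * (d - s)) (k - a') c n h6 (by omega)
        have h9 : k - a' = 0 := by
          rw [← h7]
          exact Nat.mod_eq_zero_of_dvd h1'
        have hkl : a' = k := by omega
        have hne : Even n := by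
          have h10 := hlk hkl
          rw [hm0] at h10
          by_contra hno
          have h11 := h10.mp (Nat.not_even_iff_odd.mp hno)
          exact absurd h11 (by decide)
        obtain ⟨t, ht⟩ := hne
        apply h2'
        refine ⟨t, ?_⟩
        have h12 : 2 * (d - s) = 2 * (c * t) := by
          rw [h6, h9, ht]
          ring
        omega
      · obtain ⟨t, ht⟩ := hj3
        have h6 : 2 * d = (2 * d - 2 * j) + c * t := by omega
        obtain ⟨h7, -⟩ := A90NE.divmod_of_eq (2 * d) (2 * d - 2 * j) c t h6 (by omega)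
        obtain ⟨h8, -⟩ := A90NE.divmod_of_eq (2 * d) k c n (by omega) hklt
        omega
    refine Or.inr ⟨hkpos, hcm, ?_⟩
    rcases Nat.eq_zero_or_pos a' with h0 | h0
    · exact Or.inr (Or.inl ⟨h0, hl0 h0⟩)
    · rcases Nat.lt_or_ge a' k with h6 | h6
      · exact Or.inl ⟨h0, h6⟩
      · have hkl : a' = k := by omega
        refine Or.inr (Or.inr ⟨hkl, ?_⟩)
        rw [Nat.even_add]
        have h7 := hlk hkl
        rw [← Nat.not_odd_iff_even, ← Nat.not_odd_iff_even]
        exact not_congr h7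

/-- A90NE -/
theorem closed90_of_crit_even (i c d m : ℕ) (hi0 : 0 < i) (hi : Even i) (hc : c = i)
    (hd : 4 ≤ d) (hm2 : 2 ≤ m) (hme : Even m) (hmn : m + 2 ≤ 2 * d)
    (hdiv : HDiv false false i d (m / 2)) (h : CritE false false i c d m) :
    Closed90 i c d m := by
  subst hc
  obtain ⟨s, hs⟩ := hme
  have hms : m / 2 = s := by omega
  have hdiv' : (c ∣ 2 * d ∧ ¬ c ∣ d) ∨ (c ∣ 2 * (d - s) ∧ ¬ c ∣ (d - s)) ∨
      ∃ j, d - s + 1 ≤ j ∧ j < d ∧ c ∣ 2 * j := by
    simpa [HDiv, hms] using hdiv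
  -- `c ≤ 2 d`
  have hc2d : c ≤ 2 * d := by
    rcases hdiv' with ⟨h1, -⟩ | ⟨h1, h2⟩ | ⟨j, hj1, hj2, hj3⟩
    · exact Nat.le_of_dvd (by omega) h1
    · have h3 : 0 < 2 * (d - s) := by
        rcases Nat.eq_zero_or_pos (d - s) with h0 | h0
        · exfalso; apply h2; rw [h0]; exact dvd_zero _
        · omega
      have := Nat.le_of_dvd h3 h1
      omega
    · have := Nat.le_of_dvd (by omega) hj3
      omega
  have hdm := Nat.div_add_mod (2 * d) c
  have hklt := Nat.mod_lt (2 * d) hi0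
  have hmm := Nat.div_add_mod m c
  have hllt := Nat.mod_lt m hi0
  have hn1 : 1 ≤ 2 * d / c := Nat.div_pos hc2d hi0
  have key := A90NE.core c d m s (2 * d / c) (2 * d % c) (m / c) (m % c) hi0 hi hd hm2 hs hmn
    hdiv' h hdm hklt hmm hllt hn1
  unfold Closed90
  refine Or.inr ⟨hi, ?_⟩
  rcases key with ⟨h1, h2⟩ | ⟨h1, h2, h3⟩
  · exact Or.inl ⟨h1, h2⟩
  · refine Or.inr ⟨h1, h2, ?_⟩
    rcases h3 with h3 | h3 | ⟨h3, h4⟩
    · exact Or.inl h3
    · exact Or.inr (Or.inl h3)
    · refine Or.inr (Or.inr ⟨h3, ?_⟩)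
      have h8 : 2 * d + m - 2 * (2 * d % c) = 0 + c * (2 * d / c + m / c) := by
        rw [mul_add]
        omega
      rw [(A90NE.divmod_of_eq _ 0 c _ h8 hi0).2]
      exact h4

end Cfsg.Agent.S5974P
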