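import Mathlib
import Cfsg.Prelude.Def_GeometricClasses
import Cfsg.Prelude.Def_Classical
import Cfsg.Prelude.Def_LieClassical
import Cfsg.Agent.Helper27.S5989Defs
import Cfsg.Agent.Helper8.S5992DISCBASIS
import Cfsg.Agent.Helper7.S5992ORTHSYM
import Cfsg.Agent.Helper7.S5992EXC
import Cfsg.Agent.Helper6.S5992PLUSDISC
import Cfsg.Agent.Helper15.S5992SUPND
import Cfsg.Agent.Helper13.QuadWitt
import Cfsg.Agent.Helper18.S5989DISCSUM1

/-! S5989 piece EXCODD (helper18): nondegenerate subspaces of odd dimension `e` with prescribed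
discriminant inside a nondegenerate `M` of dimension `≥ e + 1`. -/

set_option autoImplicit false
open scoped MatrixGroups
universe u

namespace Cfsg.Agent.S5989P

open Cfsg.Agent.Helper2.SympInvol Cfsg.Agent.Helper2.SympUnits Cfsg.Agent.S5961P
  Cfsg.Agent.S5992P

namespace EXCODD

/-- a nondegenerate quadratic space of dimension `≥ 2` over a finite field represents everything -/
theorem represents {F V : Type*} [Field F] [Finite F] [AddCommGroup V] [Module F V]
    [FiniteDimensional F V] (Q : QuadraticForm F V)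
    (hQ : ∀ v : V, (∀ w : V, QuadraticMap.polar Q v w = 0) → v = 0)
    (h2 : 2 ≤ Module.finrank F V) (c : F) : ∃ v : V, Q v = c := by
  by_cases hs : ∃ e : V, e ≠ 0 ∧ Q e = 0
  · obtain ⟨e, he, hQe⟩ := hs
    obtain ⟨f, hQf, hef⟩ := Cfsg.Agent.Helper13.exists_hyperbolic_partner Q hQ e he hQe
    refine ⟨(1 : F) • e + c • f, ?_⟩
    rw [Cfsg.Agent.Helper13.map_smul_add_smul, hQe, hQf, hef]
    ring
  · push Not at hs
    exact Cfsg.Agent.Helper13.represents_of_aniso Q h2
      (fun v hv => by by_contra h; exact hs v h hv) c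

/-- the same inside a nondegenerate subspace -/
theorem represents_sub {F V : Type*} [Field F] [Finite F] [AddCommGroup V] [Module F V]
    [FiniteDimensional F V] (Q : QuadraticForm F V) (M : Submodule F V) (hM : Nondeg (PB Q) M)
    (h2 : 2 ≤ Module.finrank F M) (c : F) : ∃ v ∈ M, Q v = c := by
  have hQ : ∀ v : M, (∀ w : M, QuadraticMap.polar (Q.comp M.subtype) v w = 0) → v = 0 := by
    intro v hv
    by_contra hne
    have hne' : (v : V) ≠ 0 := fun h => hne (Subtype.ext h)
    obtain ⟨w, hw, hw0⟩ := hM v v.2 hne'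
    apply hw0
    have := hv ⟨w, hw⟩
    rw [Cfsg.Agent.Helper13.polar_comp_subtype] at this
    exact this
  obtain ⟨v, hv⟩ := represents (Q.comp M.subtype) hQ h2 c
  exact ⟨v, v.2, hv⟩

/-- discriminant and nondegeneracy of a line -/
theorem line {F V : Type*} [Field F] [AddCommGroup V] [Module F V] [FiniteDimensional F V]
    (Q : QuadraticForm F V) (v : V) (hv : Q v ≠ 0) (h2 : (2 : F) ≠ 0) :
    Module.finrank F ↥(Submodule.span F {v}) = 1 ∧ Nondeg (PB Q) (Submodule.span F {v}) ∧
      (DiscSq Q (Submodule.span F {v}) ↔ IsSquare (2 * Q v)) := by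
  have hv0 : v ≠ 0 := by
    intro h
    rw [h, map_zero] at hv
    exact hv rfl
  have hli : LinearIndependent F (fun _ : Fin 1 => v) := linearIndependent_unique_iff.mpr hv0
  have hspan : Submodule.span F (Set.range (fun _ : Fin 1 => v)) = Submodule.span F {v} := by
    rw [Set.range_const]
  set b : Module.Basis (Fin 1) F ↥(Submodule.span F {v}) :=
    (Module.Basis.span hli).map (LinearEquiv.ofEq _ _ hspan) with hb
  have hbv : (fun i => (b i : V)) = fun _ : Fin 1 => v := by
    funext i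
    rw [hb, Module.Basis.map_apply, LinearEquiv.coe_ofEq_apply, Module.Basis.span_apply]
  have hg : gramDet Q (fun i => (b i : V)) = 2 * Q v := by
    rw [hbv]
    unfold gramDet
    rw [Matrix.det_fin_one, Matrix.of_apply, QuadraticMap.polar_self]
    simp
  have hd := discSq_iff Q (Submodule.span F {v}) b
  refine ⟨?_, ?_, ?_⟩
  · rw [Module.finrank_eq_card_basis b, Fintype.card_fin]
  · rw [hd.2, hg]
    exact mul_ne_zero h2 hv
  · rw [hd.1, hg]
    simp

end EXCODD

/-- EXCODD -/
theorem exists_sub_disc {F V : Type*} [Field F] [Fintype F] [AddCommGroup V] [Module F V]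
    [FiniteDimensional F V] (h2 : (2 : F) ≠ 0) (Q : QuadraticForm F V) (M : Submodule F V)
    (hM : Nondeg (PB Q) M) (e : ℕ) (he : Odd e) (hle : e + 1 ≤ Module.finrank F M) (δ : Prop) :
    ∃ W : Submodule F V, W ≤ M ∧ Module.finrank F W = e ∧ Nondeg (PB Q) W ∧
      (DiscSq Q W ↔ δ) := by
  classical
  obtain ⟨n, rfl⟩ := he
  obtain ⟨H, hHM, hHfr, hHnd, hHplus⟩ := exists_sub_ty h2 Q M hM true (2 * n) (even_two_mul n)
    (fun h => by cases h) (by omega)
  obtain ⟨M', hM'M, hM'nd, hort, -, -, hfr, -⟩ := orth_compl_sym Q M H hHM hM hHnd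
  have hM'2 : 2 ≤ Module.finrank F M' := by omega
  -- the value to represent
  obtain ⟨c, hc0, hcδ⟩ : ∃ c : F, c ≠ 0 ∧ (IsSquare (2 * c) ↔ δ) := by
    by_cases hδ : δ
    · refine ⟨2⁻¹, inv_ne_zero h2, ?_⟩
      rw [mul_inv_cancel₀ h2]
      exact ⟨fun _ => hδ, fun _ => ⟨1, by simp⟩⟩
    · have hchar : ringChar F ≠ 2 := by
        intro h
        apply h2
        have : CharP F 2 := h ▸ ringChar.charP F
        exact CharTwo.two_eq_zero
      obtain ⟨a, ha⟩ := FiniteField.exists_nonsquare hchar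
      have ha0 : a ≠ 0 := by
        intro h
        apply ha
        rw [h]
        exact ⟨0, by simp⟩
      refine ⟨2⁻¹ * a, mul_ne_zero (inv_ne_zero h2) ha0, ?_⟩
      rw [← mul_assoc, mul_inv_cancel₀ h2, one_mul]
      exact ⟨fun h => absurd h ha, fun h => absurd h hδ⟩
  obtain ⟨v, hvM', hQv⟩ := EXCODD.represents_sub Q M' hM'nd hM'2 c
  have hQv0 : Q v ≠ 0 := by rw [hQv]; exact hc0
  obtain ⟨hLfr, hLnd, hLdisc⟩ := EXCODD.line Q v hQv0 h2
  have hLH : Orth (PB Q) (Submodule.span F {v}) H := by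
    intro u hu h hh
    obtain ⟨a, rfl⟩ := Submodule.mem_span_singleton.mp hu
    rw [map_smul, LinearMap.smul_apply, PB_comm, hort h hh v hvM', smul_zero]
  obtain ⟨hWnd, -, hWfr⟩ := nondeg_sup_orth Q _ H hLnd hHnd hLH
  refine ⟨Submodule.span F {v} ⊔ H, ?_, ?_, hWnd, ?_⟩
  · apply sup_le _ hHM
    rw [Submodule.span_singleton_le_iff_mem]
    exact hM'M hvM'
  · rw [hWfr, hLfr, hHfr]
    ring
  · have hHev : Even (Module.finrank F H) := by rw [hHfr]; exact even_two_mul n
    rw [discSq_sup_even h2 Q _ H hLnd hHnd hLH hHev, hLdisc, hQv, hcδ]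
    have hHd : DiscSq Q H := (plus_iff_discSq h2 Q H hHnd hHev).mp (hHplus.mpr rfl)
    exact ⟨fun h => h.mpr hHd, fun h => ⟨fun _ => hHd, fun _ => h⟩⟩

end Cfsg.Agent.S5989P
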