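import Mathlib
import Cfsg.Prelude.Def_GeometricClasses
import Cfsg.Prelude.Def_Classical
import Cfsg.Prelude.Def_LieClassical
import Cfsg.Agent.Helper27.S5989Defs
import Cfsg.Agent.Helper8.S5992DISCBASIS
import Cfsg.Agent.Helper8.S5992DISCSUM
import Cfsg.Agent.Helper7.OrthUni3

/-! S5989 piece ISODISC (helper18): nondegenerate subspaces of the same dimension are isometric
iff their discriminants agree. -/

set_option autoImplicit false
open scoped MatrixGroups
universe u

namespace Cfsg.Agent.S5989P

open Cfsg.Agent.Helper2.SympInvol Cfsg.Agent.Helper2.SympUnits Cfsg.Agent.S5961P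
  Cfsg.Agent.S5992P

namespace ISODISC

variable {F V : Type*} [Field F] [AddCommGroup V] [Module F V]

/-- the form `Q` on `W` in the coordinates of a basis of `W` -/
noncomputable def coordQ (Q : QuadraticForm F V) (W : Submodule F V) {k : ℕ}
    (b : Module.Basis (Fin k) F W) : QuadraticForm F (Fin k → F) :=
  (Q.comp W.subtype).comp (b.equivFun.symm : (Fin k → F) →ₗ[F] W)

theorem coordQ_apply (Q : QuadraticForm F V) (W : Submodule F V) {k : ℕ}
    (b : Module.Basis (Fin k) F W) (c : Fin k → F) :
    coordQ Q W b c = Q ((b.equivFun.symm c : W) : V) := rfl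

theorem equivFun_symm_single (W : Submodule F V) {k : ℕ} (b : Module.Basis (Fin k) F W)
    (i : Fin k) : b.equivFun.symm (Pi.single i 1) = b i := by
  apply b.equivFun.injective
  rw [LinearEquiv.apply_symm_apply]
  ext j
  rw [Module.Basis.equivFun_self]
  simp [Pi.single_apply, eq_comm]

theorem gram_coordQ (Q : QuadraticForm F V) (W : Submodule F V) {k : ℕ}
    (b : Module.Basis (Fin k) F W) :
    Cfsg.Agent.Helper7.OrthUni.gram (coordQ Q W b) =
      Matrix.of fun i j : Fin k => QuadraticMap.polar Q (b i : V) (b j : V) := by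
  ext i j
  rw [Cfsg.Agent.Helper7.OrthUni.gram_apply, Matrix.of_apply]
  unfold QuadraticMap.polar
  rw [coordQ_apply, coordQ_apply, coordQ_apply, map_add, equivFun_symm_single,
    equivFun_symm_single, Submodule.coe_add]

theorem det_gram_coordQ (Q : QuadraticForm F V) (W : Submodule F V) {k : ℕ}
    (b : Module.Basis (Fin k) F W) :
    (Cfsg.Agent.Helper7.OrthUni.gram (coordQ Q W b)).det = gramDet Q (fun i => (b i : V)) := by
  rw [gram_coordQ]
  rfl

theorem polar_iso (Q : QuadraticForm F V) (W W' : Submodule F V) (e : W ≃ₗ[F] W')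
    (he : ∀ w : W, Q ((e w : W') : V) = Q (w : V)) (u v : W) :
    QuadraticMap.polar Q ((e u : W') : V) ((e v : W') : V) =
      QuadraticMap.polar Q (u : V) (v : V) := by
  unfold QuadraticMap.polar
  rw [← Submodule.coe_add, ← map_add, he, he, he, Submodule.coe_add]

end ISODISC

open ISODISC Cfsg.Agent.S5992P.DISCSUM in
/-- ISODISC -/
theorem isoW_iff_disc {F V : Type*} [Field F] [Fintype F] [AddCommGroup V] [Module F V]
    [FiniteDimensional F V] (h2 : (2 : F) ≠ 0) (Q : QuadraticForm F V) (W W' : Submodule F V)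
    (hW : Nondeg (PB Q) W) (hW' : Nondeg (PB Q) W')
    (hdim : Module.finrank F W = Module.finrank F W') :
    IsoW Q W W' ↔ (DiscSq Q W ↔ DiscSq Q W') := by
  classical
  constructor
  · rintro ⟨e, he⟩
    let b := Module.finBasis F W
    let b' : Module.Basis (Fin (Module.finrank F W)) F W' := b.map e
    have hg : gramDet Q (fun i => (b' i : V)) = gramDet Q (fun i => (b i : V)) := by
      unfold gramDet
      congr 1
      ext i j
      simp only [Matrix.of_apply]
      show QuadraticMap.polar Q ((e (b i) : W') : V) ((e (b j) : W') : V) = _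
      exact polar_iso Q W W' e he (b i) (b j)
    rw [(discSq_iff Q W b).1, (discSq_iff Q W' b').1, hg]
  · intro hiff
    let b := Module.finBasis F W
    let b' : Module.Basis (Fin (Module.finrank F W)) F W' :=
      (Module.finBasis F W').reindex (finCongr hdim.symm)
    have hd₁ : gramDet Q (fun i => (b i : V)) ≠ 0 := (discSq_iff Q W b).2.mp hW
    have hd₀ : gramDet Q (fun i => (b' i : V)) ≠ 0 := (discSq_iff Q W' b').2.mp hW'
    have hn₁ : (QuadraticMap.polarBilin (coordQ Q W b)).Nondegenerate := by
      rw [Cfsg.Agent.Helper7.OrthUni.nondeg_iff_det, det_gram_coordQ]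
      exact hd₁
    have hn₀ : (QuadraticMap.polarBilin (coordQ Q W' b')).Nondegenerate := by
      rw [Cfsg.Agent.Helper7.OrthUni.nondeg_iff_det, det_gram_coordQ]
      exact hd₀
    have hs : ((-1 : F)) ^ (Module.finrank F W / 2) ≠ 0 :=
      pow_ne_zero _ (neg_ne_zero.mpr one_ne_zero)
    have hs2 : ((-1 : F)) ^ (Module.finrank F W / 2) * (-1) ^ (Module.finrank F W / 2) = 1 := by
      rw [← mul_pow]
      simp
    have hsq : IsSquare ((Cfsg.Agent.Helper7.OrthUni.gram (coordQ Q W b)).det *
        (Cfsg.Agent.Helper7.OrthUni.gram (coordQ Q W' b')).det) := by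
      rw [det_gram_coordQ, det_gram_coordQ]
      rw [(discSq_iff Q W b).1, (discSq_iff Q W' b').1] at hiff
      have h := (isSquare_mul_iff_ff h2 (mul_ne_zero hs hd₁) (mul_ne_zero hs hd₀)).mpr hiff
      have heq : (-1 : F) ^ (Module.finrank F W / 2) * gramDet Q (fun i => (b i : V)) *
          ((-1) ^ (Module.finrank F W / 2) * gramDet Q (fun i => (b' i : V))) =
          gramDet Q (fun i => (b i : V)) * gramDet Q (fun i => (b' i : V)) := by
        linear_combination (gramDet Q (fun i => (b i : V)) * gramDet Q (fun i => (b' i : V))) * hs2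
      rw [heq] at h
      exact h
    obtain ⟨g, hg⟩ := Cfsg.Agent.Helper7.OrthUni.exists_isometry_of_disc h2 (coordQ Q W b)
      (coordQ Q W' b') hn₁ hn₀ rfl hsq
    refine ⟨b.equivFun ≪≫ₗ g ≪≫ₗ b'.equivFun.symm, fun w => ?_⟩
    simp only [LinearEquiv.trans_apply]
    rw [← coordQ_apply Q W' b', hg, coordQ_apply, LinearEquiv.symm_apply_apply]

end Cfsg.Agent.S5989P
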