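import Mathlib
import Cfsg.Prelude.Def_GeometricClasses
import Cfsg.Prelude.Def_Classical
import Cfsg.Prelude.Def_LieClassical
import Cfsg.Agent.Helper27.S5989Defs
import Cfsg.Agent.Helper7.S5992ORTHSYM

/-! S5989 piece KERADD (helper18): kernels of `(x - 1) ^ j` split along `W ⊕ W^⊥`. -/

set_option autoImplicit false
open scoped MatrixGroups
universe u

namespace Cfsg.Agent.S5989P

open Cfsg.Agent.Helper2.SympInvol Cfsg.Agent.Helper2.SympUnits Cfsg.Agent.S5961P
  Cfsg.Agent.S5992P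

namespace KERADD

theorem finrank_ker_split {F V : Type*} [Field F] [AddCommGroup V] [Module F V]
    [FiniteDimensional F V] (f : Module.End F V) (W W' : Submodule F V) (hd : Disjoint W W')
    (hs : W ⊔ W' = ⊤) (hW : ∀ w ∈ W, f w ∈ W) (hW' : ∀ w ∈ W', f w ∈ W') :
    Module.finrank F (LinearMap.ker f) =
      Module.finrank F ↥(W ⊓ LinearMap.ker f) + Module.finrank F ↥(W' ⊓ LinearMap.ker f) := by
  have h1 : LinearMap.ker f = (W ⊓ LinearMap.ker f) ⊔ (W' ⊓ LinearMap.ker f) := by
    apply le_antisymm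
    · intro v hv
      have hv' : v ∈ W ⊔ W' := by rw [hs]; trivial
      obtain ⟨w, hw, w', hw', rfl⟩ := Submodule.mem_sup.mp hv'
      rw [LinearMap.mem_ker, map_add] at hv
      have hfw : f w ∈ W ⊓ W' := ⟨hW w hw, by
        have : f w = - f w' := eq_neg_of_add_eq_zero_left hv
        rw [this]; exact W'.neg_mem (hW' w' hw')⟩
      rw [hd.eq_bot, Submodule.mem_bot] at hfw
      have hfw' : f w' = 0 := by rw [hfw, zero_add] at hv; exact hv
      exact Submodule.add_mem_sup ⟨hw, hfw⟩ ⟨hw', hfw'⟩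
    · exact sup_le inf_le_right inf_le_right
  have h2 : Disjoint (W ⊓ LinearMap.ker f) (W' ⊓ LinearMap.ker f) :=
    hd.mono inf_le_left inf_le_left
  have h3 := Submodule.finrank_sup_add_finrank_inf_eq (W ⊓ LinearMap.ker f)
    (W' ⊓ LinearMap.ker f)
  rw [h2.eq_bot, finrank_bot, add_zero, ← h1] at h3
  exact h3

theorem pow_inv {F V : Type*} [Field F] [AddCommGroup V] [Module F V] (x : Module.End F V)
    (W : Submodule F V) (hWx : W.map x ≤ W) (j : ℕ) : ∀ w ∈ W, ((x - 1) ^ j) w ∈ W := by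
  induction j with
  | zero => intro w hw; simpa using hw
  | succ j ih =>
    intro w hw
    rw [pow_succ', Module.End.mul_apply, LinearMap.sub_apply, Module.End.one_apply]
    exact W.sub_mem (hWx (Submodule.mem_map_of_mem (ih w hw))) (ih w hw)

end KERADD

/-- KERADD -/
theorem finrank_ker_pow_add {F V : Type*} [Field F] [AddCommGroup V] [Module F V]
    [FiniteDimensional F V] (Q : QuadraticForm F V) (hnd : Nondeg (PB Q) ⊤)
    (x : Module.End F V) (hxQ : ∀ v, Q (x v) = Q v) (hinj : Function.Injective x)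
    (W : Submodule F V) (hWx : W.map x ≤ W) (hWnd : Nondeg (PB Q) W) :
    ∃ W' : Submodule F V, W'.map x ≤ W' ∧ Nondeg (PB Q) W' ∧
      Module.finrank F W + Module.finrank F W' = Module.finrank F V ∧
      ∀ j : ℕ, Module.finrank F (LinearMap.ker ((x - 1) ^ j)) =
        Module.finrank F ↥(W ⊓ LinearMap.ker ((x - 1) ^ j)) +
        Module.finrank F ↥(W' ⊓ LinearMap.ker ((x - 1) ^ j)) := by
  obtain ⟨W', -, hW'nd, -, hsup, hdisj, hfr, hinv⟩ := orth_compl_sym Q ⊤ W le_top hnd hWnd
  have hW'x : W'.map x ≤ W' := hinv x hxQ hinj hWx le_top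
  refine ⟨W', hW'x, hW'nd, ?_, ?_⟩
  · rw [hfr, finrank_top]
  · intro j
    exact KERADD.finrank_ker_split ((x - 1) ^ j) W W' hdisj hsup (KERADD.pow_inv x W hWx j)
      (KERADD.pow_inv x W' hW'x j)

end Cfsg.Agent.S5989P
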