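import Mathlib
import Cfsg.Prelude.Def_GeometricClasses
import Cfsg.Prelude.Def_Classical
import Cfsg.Prelude.Def_LieClassical
import Cfsg.Agent.Helper27.S5989Defs
import Cfsg.Agent.Helper11.AltRank

/-! S5989 piece NEGODD (helper18): `x * x = -1` isometry: invariant nondegenerate subspaces have
even dimension (the form `B(u, x v)` is alternating and nondegenerate on `W`). -/

set_option autoImplicit false
open scoped MatrixGroups
universe u

namespace Cfsg.Agent.S5989P

open Cfsg.Agent.Helper2.SympInvol Cfsg.Agent.Helper2.SympUnits Cfsg.Agent.S5961P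
  Cfsg.Agent.S5992P

/-- NEGODD -/
theorem even_of_neg_invariant {F V : Type*} [Field F] [AddCommGroup V] [Module F V]
    [FiniteDimensional F V] (h2 : (2 : F) ≠ 0) (Q : QuadraticForm F V) (x : Module.End F V)
    (hxQ : ∀ v, Q (x v) = Q v) (hx2 : x * x = -1) (W : Submodule F V) (hWx : W.map x ≤ W)
    (hWnd : Nondeg (PB Q) W) : Even (Module.finrank F W) := by
  have hxx : ∀ v, x (x v) = -v := fun v => by
    have := LinearMap.congr_fun hx2 v
    simpa using this
  have hxW : ∀ w ∈ W, x w ∈ W := fun w hw => hWx (Submodule.mem_map_of_mem hw)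
  let B' : W →ₗ[F] W →ₗ[F] F := ((PB Q).compl₁₂ LinearMap.id x).compl₁₂ W.subtype W.subtype
  have hB'app : ∀ u v : W, B' u v = PB Q (u : V) (x (v : V)) := fun u v => rfl
  have halt : ∀ u : W, B' u u = 0 := by
    intro u
    rw [hB'app]
    have h1 : PB Q (u : V) (x u) = PB Q (x u) (x (x u)) := (PB_isom Q hxQ _ _).symm
    rw [hxx, map_neg, PB_comm Q (x u) u] at h1
    have : (2 : F) * PB Q (u : V) (x u) = 0 := by linear_combination h1
    exact (mul_eq_zero.mp this).resolve_left h2
  obtain ⟨k, hk⟩ := Cfsg.Agent.Helper11.AltRank.alt_finrank (Module.finrank F W) W B' halt rfl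
  have hker : LinearMap.ker B' = ⊥ := by
    rw [Submodule.eq_bot_iff]
    intro u hu
    rw [LinearMap.mem_ker] at hu
    by_contra hne
    have hne' : (u : V) ≠ 0 := fun h => hne (Subtype.ext h)
    obtain ⟨v, hv, hv0⟩ := hWnd u u.2 hne'
    apply hv0
    have := LinearMap.congr_fun hu ⟨-(x v), W.neg_mem (hxW v hv)⟩
    rw [hB'app] at this
    simpa [hxx] using this
  rw [hker, finrank_bot, zero_add] at hk
  exact ⟨k, by omega⟩

end Cfsg.Agent.S5989P
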