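import Mathlib
import Cfsg.Prelude.Def_GeometricClasses
import Cfsg.Prelude.Def_Classical
import Cfsg.Prelude.Def_LieClassical
import Cfsg.Agent.Helper27.S5989Defs
import Cfsg.Agent.Helper11.AltRank

/-! S5989 piece UNIPAR (helper18): unipotent isometry `x`, `W` invariant nondegenerate:
`dim W - dim (W ⊓ ker (x - 1))` is even (the alternating form `altOf Q x` on `W` has radical
`W ⊓ ker (x - 1)`). -/

set_option autoImplicit false
open scoped MatrixGroups
universe u

namespace Cfsg.Agent.S5989P

open Cfsg.Agent.Helper2.SympInvol Cfsg.Agent.Helper2.SympUnits Cfsg.Agent.S5961P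
  Cfsg.Agent.S5992P

namespace UNIPAR

/-- a unipotent endomorphism has no eigenvalue `≠ 1` -/
theorem eig_zero {F V : Type*} [Field F] [AddCommGroup V] [Module F V] (x : Module.End F V)
    (k : ℕ) (hxk : (x - 1) ^ k = 0) (c : F) (hc : c ≠ 1) (w : V) (hw : x w = c • w) : w = 0 := by
  have h : ∀ j : ℕ, ((x - 1) ^ j) w = (c - 1) ^ j • w := by
    intro j
    induction j with
    | zero => simp
    | succ j ih =>
      rw [pow_succ', Module.End.mul_apply, ih, map_smul, LinearMap.sub_apply, hw,
        Module.End.one_apply, pow_succ]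
      module
  have h' := h k
  rw [hxk, LinearMap.zero_apply] at h'
  have hne : (c - 1) ^ k ≠ 0 := pow_ne_zero _ (sub_ne_zero.mpr hc)
  exact (smul_eq_zero.mp h'.symm).resolve_left hne

theorem injective_of_unip {F V : Type*} [Field F] [AddCommGroup V] [Module F V]
    (x : Module.End F V) (k : ℕ) (hxk : (x - 1) ^ k = 0) : Function.Injective x := by
  rw [← LinearMap.ker_eq_bot, Submodule.eq_bot_iff]
  intro w hw
  exact eig_zero x k hxk 0 zero_ne_one w (by rw [LinearMap.mem_ker.mp hw, zero_smul])

end UNIPAR

/-- UNIPAR -/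
theorem even_sub_ker_of_unip {F V : Type*} [Field F] [AddCommGroup V] [Module F V]
    [FiniteDimensional F V] (h2 : (2 : F) ≠ 0) (Q : QuadraticForm F V) (x : Module.End F V)
    (hxQ : ∀ v, Q (x v) = Q v) (k : ℕ) (hxk : (x - 1) ^ k = 0) (W : Submodule F V)
    (hWx : W.map x ≤ W) (hWnd : Nondeg (PB Q) W) :
    Even (Module.finrank F W - Module.finrank F ↥(W ⊓ LinearMap.ker (x - 1))) := by
  have hinj : Function.Injective x := UNIPAR.injective_of_unip x k hxk
  have hmap : W.map x = W := by
    apply Submodule.eq_of_le_of_finrank_eq hWx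
    exact (Submodule.equivMapOfInjective x hinj W).finrank_eq.symm
  have hxW : ∀ w ∈ W, x w ∈ W := fun w hw => hWx (Submodule.mem_map_of_mem hw)
  let B' : W →ₗ[F] W →ₗ[F] F := (altOf Q x).compl₁₂ W.subtype W.subtype
  have hB'app : ∀ u v : W, B' u v = PB Q (x (u : V)) (v : V) - PB Q (u : V) (x (v : V)) :=
    fun u v => rfl
  have halt : ∀ u : W, B' u u = 0 := by
    intro u
    rw [hB'app, PB_comm Q (x u) u, sub_self]
  obtain ⟨n, hn⟩ := Cfsg.Agent.Helper11.AltRank.alt_finrank (Module.finrank F W) W B' halt rfl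
  have hker : LinearMap.ker B' = (W ⊓ LinearMap.ker (x - 1)).comap W.subtype := by
    ext u
    rw [LinearMap.mem_ker, Submodule.mem_comap, Submodule.mem_inf, LinearMap.mem_ker]
    constructor
    · intro hu
      refine ⟨u.2, ?_⟩
      have h1 : ∀ v ∈ W, PB Q (x (x (u : V)) - u) (x v) = 0 := by
        intro v hv
        have := LinearMap.congr_fun hu ⟨v, hv⟩
        rw [hB'app] at this
        rw [map_sub, LinearMap.sub_apply, PB_isom Q hxQ]
        exact this
      have h2' : ∀ w ∈ W, PB Q (x (x (u : V)) - u) w = 0 := by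
        intro w hw
        rw [← hmap] at hw
        obtain ⟨v, hv, rfl⟩ := hw
        exact h1 v hv
      have h3 : x (x (u : V)) - u = 0 := by
        by_contra hne
        obtain ⟨v, hv, hv0⟩ := hWnd _ (W.sub_mem (hxW _ (hxW _ u.2)) u.2) hne
        exact hv0 (h2' v hv)
      have h4 : x ((x - 1) (u : V)) = (-1 : F) • ((x - 1) (u : V)) := by
        simp only [LinearMap.sub_apply, Module.End.one_apply, map_sub]
        rw [sub_eq_zero] at h3
        rw [h3]
        module
      exact UNIPAR.eig_zero x k hxk (-1)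
        (by intro h; apply h2; linear_combination (-1 : F) * h) _ h4
    · rintro ⟨-, hu⟩
      have hxu : x (u : V) = u := by
        rw [W.subtype_apply, LinearMap.sub_apply, Module.End.one_apply, sub_eq_zero] at hu
        exact hu
      apply LinearMap.ext
      intro v
      rw [LinearMap.zero_apply, hB'app, hxu]
      have := PB_isom Q hxQ (u : V) (v : V)
      rw [hxu] at this
      rw [this, sub_self]
  have hfr : Module.finrank F (LinearMap.ker B') =
      Module.finrank F ↥(W ⊓ LinearMap.ker (x - 1)) := by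
    rw [hker]
    exact (Submodule.comapSubtypeEquivOfLe inf_le_left).finrank_eq
  rw [hfr] at hn
  exact ⟨n, by omega⟩

end Cfsg.Agent.S5989P
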