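import Mathlib
import Cfsg.Prelude.Def_GeometricClasses
import Cfsg.Prelude.Def_Classical
import Cfsg.Prelude.Def_LieClassical
import Cfsg.Agent.Helper27.S5989Defs
import Cfsg.Agent.Helper8.S5992DISCBASIS
import Cfsg.Agent.Helper8.S5992DISCSUM
import Cfsg.Agent.Helper15.S5992SUPND

/-! S5991 piece DISCSUMOO (helper18): discriminant of an orthogonal sum of two odd-dimensional
nondegenerate subspaces (extra factor `-1`). -/

set_option autoImplicit false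
open scoped MatrixGroups
universe u

namespace Cfsg.Agent.S5989P

open Cfsg.Agent.Helper2.SympInvol Cfsg.Agent.Helper2.SympUnits Cfsg.Agent.S5961P
  Cfsg.Agent.S5992P

open Cfsg.Agent.S5992P.DISCSUM Cfsg.Agent.S5992P.DISCBASIS in
/-- DISCSUMOO -/
theorem discSq_sup_odd_odd {F V : Type*} [Field F] [Fintype F] [AddCommGroup V] [Module F V]
    [FiniteDimensional F V] (h2 : (2 : F) ≠ 0) (Q : QuadraticForm F V) (W₁ W₂ : Submodule F V)
    (h₁ : Nondeg (PB Q) W₁) (h₂ : Nondeg (PB Q) W₂) (ho : Orth (PB Q) W₁ W₂)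
    (ho₁ : Odd (Module.finrank F W₁)) (ho₂ : Odd (Module.finrank F W₂)) :
    DiscSq Q (W₁ ⊔ W₂) ↔ ((DiscSq Q W₁ ↔ DiscSq Q W₂) ↔ IsSquare (-1 : F)) := by
  obtain ⟨-, hdisj, -⟩ := nondeg_sup_orth Q W₁ W₂ h₁ h₂ ho
  set b₁ := Module.finBasis F W₁ with hb₁
  set b₂ := Module.finBasis F W₂ with hb₂
  set v₁ : Fin (Module.finrank F W₁) → V := fun i => (b₁ i : V) with hv₁
  set v₂ : Fin (Module.finrank F W₂) → V := fun i => (b₂ i : V) with hv₂
  have hs₁ : Submodule.span F (Set.range v₁) = W₁ := span_coe_basis W₁ b₁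
  have hs₂ : Submodule.span F (Set.range v₂) = W₂ := span_coe_basis W₂ b₂
  have hli : LinearIndependent F (cat v₁ v₂) := by
    apply li_cat v₁ v₂ (li_coe_basis W₁ b₁) (li_coe_basis W₂ b₂)
    rw [hs₁, hs₂]
    exact hdisj
  have hspan : Submodule.span F (Set.range (cat v₁ v₂)) = W₁ ⊔ W₂ := by
    rw [span_cat, hs₁, hs₂]
  set B : Module.Basis (Fin (Module.finrank F W₁ + Module.finrank F W₂)) F ↥(W₁ ⊔ W₂) :=
    (Module.Basis.span hli).map (LinearEquiv.ofEq _ _ hspan) with hB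
  have hBv : (fun i => (B i : V)) = cat v₁ v₂ := by
    funext i
    rw [hB, Module.Basis.map_apply, LinearEquiv.coe_ofEq_apply, Module.Basis.span_apply]
  have hoo : ∀ i j, QuadraticMap.polar Q (v₁ i) (v₂ j) = 0 := by
    intro i j
    exact ho (v₁ i) (b₁ i).2 (v₂ j) (b₂ j).2
  have hg := gramDet_cat Q v₁ v₂ hoo
  have hd₁ : gramDet Q v₁ ≠ 0 := (discSq_iff Q W₁ b₁).2.mp h₁
  have hd₂ : gramDet Q v₂ ≠ 0 := (discSq_iff Q W₂ b₂).2.mp h₂
  rw [(discSq_iff Q (W₁ ⊔ W₂) B).1, (discSq_iff Q W₁ b₁).1, (discSq_iff Q W₂ b₂).1, hBv, hg]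
  have hexp : (Module.finrank F W₁ + Module.finrank F W₂) / 2 =
      Module.finrank F W₁ / 2 + Module.finrank F W₂ / 2 + 1 := by
    obtain ⟨k₁, hk₁⟩ := ho₁
    obtain ⟨k₂, hk₂⟩ := ho₂
    omega
  rw [hexp, pow_add, pow_add, pow_one]
  have hne : ∀ n : ℕ, ((-1 : F)) ^ n ≠ 0 := fun n => pow_ne_zero _ (neg_ne_zero.mpr one_ne_zero)
  have hm1 : (-1 : F) ≠ 0 := neg_ne_zero.mpr one_ne_zero
  rw [← isSquare_mul_iff_ff h2 (mul_ne_zero (hne _) hd₁) (mul_ne_zero (hne _) hd₂),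
    ← isSquare_mul_iff_ff h2
      (mul_ne_zero (mul_ne_zero (hne _) hd₁) (mul_ne_zero (hne _) hd₂)) hm1]
  have : (-1 : F) ^ (Module.finrank F W₁ / 2) * (-1) ^ (Module.finrank F W₂ / 2) * -1 *
      (gramDet Q v₁ * gramDet Q v₂) =
      (-1) ^ (Module.finrank F W₁ / 2) * gramDet Q v₁ *
        ((-1) ^ (Module.finrank F W₂ / 2) * gramDet Q v₂) * -1 := by ring
  rw [this]

end Cfsg.Agent.S5989P
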