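import Mathlib
import Cfsg.Prelude.Def_GeometricClasses
import Cfsg.Prelude.Def_Classical
import Cfsg.Prelude.Def_LieClassical
import Cfsg.Agent.Helper27.S5989Defs

/-! S5991 piece KERTS (helper18): `(x - 1)^2 = 0` isometry whose kernel has half the dimension:
`Q` vanishes on `ker (x - 1)`. -/

set_option autoImplicit false
open scoped MatrixGroups
universe u

namespace Cfsg.Agent.S5989P

open Cfsg.Agent.Helper2.SympInvol Cfsg.Agent.Helper2.SympUnits Cfsg.Agent.S5961P
  Cfsg.Agent.S5992P

namespace KERTS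

/-- `Q` vanishes on `(x - 1) w` as soon as `(x - 1)^2 w = 0` -/
theorem Q_range {F V : Type*} [Field F] [AddCommGroup V] [Module F V] (h2 : (2 : F) ≠ 0)
    (Q : QuadraticForm F V) (x : Module.End F V) (hxQ : ∀ v, Q (x v) = Q v) (w : V)
    (hw : (x - 1) ((x - 1) w) = 0) : Q ((x - 1) w) = 0 := by
  have hfix : x ((x - 1) w) = (x - 1) w := by
    rw [LinearMap.sub_apply, Module.End.one_apply, sub_eq_zero] at hw
    exact hw
  have h1 : PB Q (x w) ((x - 1) w) = PB Q w ((x - 1) w) := by
    have := PB_isom Q hxQ w ((x - 1) w)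
    rw [hfix] at this
    exact this
  have h3 : PB Q ((x - 1) w) ((x - 1) w) = 0 := by
    have hn : (x - 1) w = x w - w := by rw [LinearMap.sub_apply, Module.End.one_apply]
    generalize (x - 1) w = n at *
    have : PB Q n n = PB Q (x w) n - PB Q w n := by
      calc PB Q n n = PB Q (x w - w) n := congrArg (fun t => PB Q t n) hn
        _ = PB Q (x w) n - PB Q w n := by rw [map_sub, LinearMap.sub_apply]
    rw [this, h1, sub_self]
  rw [PB_self] at h3
  exact (mul_eq_zero.mp h3).resolve_left h2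

end KERTS

/-- KERTS -/
theorem ts_ker_of_sq_zero {F V : Type*} [Field F] [AddCommGroup V] [Module F V]
    [FiniteDimensional F V] (h2 : (2 : F) ≠ 0) (Q : QuadraticForm F V) (x : Module.End F V)
    (hxQ : ∀ v, Q (x v) = Q v) (hx2 : (x - 1) ^ 2 = 0)
    (hk : 2 * Module.finrank F (LinearMap.ker (x - 1)) = Module.finrank F V) :
    ∀ u ∈ LinearMap.ker (x - 1), Q u = 0 := by
  have hNN : ∀ w, (x - 1) ((x - 1) w) = 0 := by
    intro w
    have := LinearMap.congr_fun hx2 w
    rw [pow_two, Module.End.mul_apply, LinearMap.zero_apply] at this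
    exact this
  have hle : LinearMap.range (x - 1) ≤ LinearMap.ker (x - 1) := by
    rintro _ ⟨w, rfl⟩
    exact LinearMap.mem_ker.mpr (hNN w)
  have hrk := LinearMap.finrank_range_add_finrank_ker (x - 1)
  have heq : LinearMap.range (x - 1) = LinearMap.ker (x - 1) :=
    Submodule.eq_of_le_of_finrank_eq hle (by omega)
  intro u hu
  rw [← heq] at hu
  obtain ⟨w, rfl⟩ := hu
  exact KERTS.Q_range h2 Q x hxQ w (hNN w)

end Cfsg.Agent.S5989P
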