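import Mathlib
import Cfsg.Prelude.Def_GeometricClasses
import Cfsg.Prelude.Def_Classical
import Cfsg.Prelude.Def_LieClassical
import Cfsg.Agent.Helper27.S5989Defs
import Cfsg.Agent.Helper8.S5992DISCBASIS
import Cfsg.Agent.Helper7.S5992ORTHSYM
import Cfsg.Agent.Helper6.S5992PLUSDISC
import Cfsg.Agent.Helper16.S5972NECAux
import Cfsg.Agent.Helper18.S5989DISCSUM1
import Cfsg.Agent.Helper18.S5989EXCODD
import Cfsg.Agent.Helper18.S5991KERTS

/-! S5991 piece J1DISC (helper18): the discriminant of an invariant nondegenerate subspace of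
Jordan type `J₂^a ⊕ J₁` is that of the `J₁`-vector. -/

set_option autoImplicit false
open scoped MatrixGroups
universe u

namespace Cfsg.Agent.S5989P

open Cfsg.Agent.Helper2.SympInvol Cfsg.Agent.Helper2.SympUnits Cfsg.Agent.S5961P
  Cfsg.Agent.S5992P

namespace J1DISC

theorem finrank_map_add {F V : Type*} [Field F] [AddCommGroup V] [Module F V]
    [FiniteDimensional F V] (f : V →ₗ[F] V) (W : Submodule F V) :
    Module.finrank F ↥(W.map f) + Module.finrank F ↥(W ⊓ LinearMap.ker f) =
      Module.finrank F W := by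
  have h := LinearMap.finrank_range_add_finrank_ker (f.domRestrict W)
  rw [LinearMap.range_domRestrict] at h
  have hk : Module.finrank F (LinearMap.ker (f.domRestrict W)) =
      Module.finrank F ↥(W ⊓ LinearMap.ker f) := by
    rw [LinearMap.ker_domRestrict]
    have : (LinearMap.ker f).comap W.subtype = (W ⊓ LinearMap.ker f).comap W.subtype := by
      ext w
      simp
    rw [this]
    exact (Submodule.comapSubtypeEquivOfLe inf_le_left).finrank_eq
  omega

end J1DISC

/-- J1DISC -/
theorem discSq_of_j1 {F V : Type*} [Field F] [Fintype F] [AddCommGroup V] [Module F V]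
    [FiniteDimensional F V] (h2 : (2 : F) ≠ 0) (Q : QuadraticForm F V) (x : Module.End F V)
    (hxQ : ∀ v, Q (x v) = Q v) (W : Submodule F V) (hWx : W.map x ≤ W) (hWnd : Nondeg (PB Q) W)
    (hN2 : W ≤ LinearMap.ker ((x - 1) ^ 2))
    (hj1 : 2 * Module.finrank F ↥(W ⊓ LinearMap.ker (x - 1)) = Module.finrank F W + 1)
    (c₂ : F) (hc₂ : c₂ ≠ 0) (hker : ∀ u ∈ LinearMap.ker (x - 1), ∃ t : F, Q u = c₂ * t * t) :
    DiscSq Q W ↔ IsSquare (2 * c₂) := by
  have hNW : ∀ w ∈ W, (x - 1) w ∈ W := by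
    intro w hw
    rw [LinearMap.sub_apply, Module.End.one_apply]
    exact W.sub_mem (hWx (Submodule.mem_map_of_mem hw)) hw
  have hNN : ∀ w ∈ W, (x - 1) ((x - 1) w) = 0 := by
    intro w hw
    have := LinearMap.mem_ker.mp (hN2 hw)
    rw [pow_two, Module.End.mul_apply] at this
    exact this
  -- T = N(W)
  have hTK : W.map (x - 1) ≤ W ⊓ LinearMap.ker (x - 1) := by
    rintro _ ⟨w, hw, rfl⟩
    exact ⟨hNW w hw, LinearMap.mem_ker.mpr (hNN w hw)⟩
  have hTS : TS Q (W.map (x - 1)) := by
    rintro _ ⟨w, hw, rfl⟩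
    exact KERTS.Q_range h2 Q x hxQ w (hNN w hw)
  have hTorth : ∀ τ ∈ W.map (x - 1), ∀ u ∈ W ⊓ LinearMap.ker (x - 1), PB Q τ u = 0 := by
    rintro _ ⟨w, hw, rfl⟩ u ⟨-, hu⟩
    have hxu : x u = u := by
      have hu' : (x - 1) u = 0 := hu
      rw [LinearMap.sub_apply, Module.End.one_apply, sub_eq_zero] at hu'
      exact hu'
    rw [LinearMap.sub_apply, Module.End.one_apply, map_sub, LinearMap.sub_apply]
    have := PB_isom Q hxQ w u
    rw [hxu] at this
    rw [this, sub_self]
  have hrk := J1DISC.finrank_map_add (x - 1) W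
  -- pick u in K \ T
  have hlt : W.map (x - 1) < W ⊓ LinearMap.ker (x - 1) := by
    refine lt_of_le_of_ne hTK ?_
    intro h
    rw [h] at hrk
    omega
  obtain ⟨u, huK, huT⟩ := SetLike.exists_of_lt hlt
  have huW : u ∈ W := huK.1
  have hQu : Q u ≠ 0 := by
    intro hQu0
    have horth : Orth (PB Q) (W.map (x - 1) ⊔ Submodule.span F {u})
        (W.map (x - 1) ⊔ Submodule.span F {u}) := by
      intro a ha b hb
      obtain ⟨τ, hτ, a', ha', rfl⟩ := Submodule.mem_sup.mp ha
      obtain ⟨τ', hτ', b', hb', rfl⟩ := Submodule.mem_sup.mp hb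
      obtain ⟨α, rfl⟩ := Submodule.mem_span_singleton.mp ha'
      obtain ⟨β, rfl⟩ := Submodule.mem_span_singleton.mp hb'
      have e1 : PB Q τ τ' = 0 := hTorth τ hτ τ' (hTK hτ')
      have e2 : PB Q τ u = 0 := hTorth τ hτ u huK
      have e3 : PB Q u τ' = 0 := by rw [PB_comm]; exact hTorth τ' hτ' u huK
      have e4 : PB Q u u = 0 := by rw [PB_self, hQu0, mul_zero]
      simp only [map_add, map_smul, LinearMap.add_apply, LinearMap.smul_apply, e1, e2, e3, e4,
        smul_zero, add_zero]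
    have hle : W.map (x - 1) ⊔ Submodule.span F {u} ≤ W := by
      apply sup_le (hTK.trans inf_le_left)
      rw [Submodule.span_singleton_le_iff_mem]
      exact huW
    have h1 := Cfsg.Agent.S5972P.NECO.ts_le_half (PB Q) W _ hWnd hle horth
    have hlt' : W.map (x - 1) < W.map (x - 1) ⊔ Submodule.span F {u} := by
      refine lt_of_le_of_ne le_sup_left ?_
      intro h
      apply huT
      rw [h]
      exact Submodule.mem_sup_right (Submodule.mem_span_singleton_self u)
    have h3 := Submodule.finrank_lt_finrank_of_lt hlt'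
    omega
  obtain ⟨t, ht⟩ := hker u huK.2
  have ht0 : t ≠ 0 := by
    intro h
    apply hQu
    rw [ht, h, mul_zero]
  obtain ⟨hLfr, hLnd, hLdisc⟩ := EXCODD.line Q u hQu h2
  have hLW : Submodule.span F {u} ≤ W := by
    rw [Submodule.span_singleton_le_iff_mem]
    exact huW
  obtain ⟨U, hUW, hUnd, hort, hsup, -, hfr, -⟩ := orth_compl_sym Q W _ hLW hWnd hLnd
  -- T ≤ U
  have hTU : W.map (x - 1) ≤ U := by
    intro τ hτ
    have hτW : τ ∈ Submodule.span F {u} ⊔ U := by
      rw [hsup]
      exact (hTK hτ).1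
    obtain ⟨a', ha', υ, hυ, rfl⟩ := Submodule.mem_sup.mp hτW
    obtain ⟨α, rfl⟩ := Submodule.mem_span_singleton.mp ha'
    have h0 := hTorth _ hτ u huK
    have h1 : PB Q υ u = 0 := by
      rw [PB_comm]
      exact hort u (Submodule.mem_span_singleton_self u) υ hυ
    rw [map_add, LinearMap.add_apply, map_smul, LinearMap.smul_apply, h1, add_zero, PB_self,
      smul_eq_mul] at h0
    have hα : α = 0 := by
      rcases mul_eq_zero.mp h0 with h | h
      · exact h
      · exact absurd h (mul_ne_zero h2 hQu)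
    rw [hα, zero_smul, zero_add]
    exact hυ
  have hUev : Even (Module.finrank F U) := ⟨Module.finrank F ↥(W.map (x - 1)), by omega⟩
  have hUplus : Plus Q U := ⟨W.map (x - 1), hTU, hTS, by omega⟩
  have hUd : DiscSq Q U := (plus_iff_discSq h2 Q U hUnd hUev).mp hUplus
  rw [← hsup, discSq_sup_even h2 Q _ U hLnd hUnd hort hUev, hLdisc, ht]
  have : (2 : F) * (c₂ * t * t) = 2 * c₂ * t ^ 2 := by ring
  rw [this, Cfsg.Agent.S5992P.DISCBASIS.isSquare_mul_sq_iff _ _ ht0]
  exact ⟨fun h => h.mpr hUd, fun h => ⟨fun _ => hUd, fun _ => h⟩⟩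

end Cfsg.Agent.S5989P
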