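import Mathlib
import Cfsg.Prelude.Def_GeometricClasses
import Cfsg.Prelude.Def_Classical
import Cfsg.Prelude.Def_LieClassical
import Cfsg.Agent.Helper27.S5989Defs
import Cfsg.Agent.Helper7.S5992ORTHSYM
import Cfsg.Agent.Helper18.S5989KERADD

/-! S5991 piece KERADD2 (helper18): KERADD with `Orth` and `W ⊔ W' = ⊤`. -/

set_option autoImplicit false
open scoped MatrixGroups
universe u

namespace Cfsg.Agent.S5989P

open Cfsg.Agent.Helper2.SympInvol Cfsg.Agent.Helper2.SympUnits Cfsg.Agent.S5961P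
  Cfsg.Agent.S5992P

/-- KERADD2 -/
theorem finrank_ker_pow_add' {F V : Type*} [Field F] [AddCommGroup V] [Module F V]
    [FiniteDimensional F V] (Q : QuadraticForm F V) (hnd : Nondeg (PB Q) ⊤)
    (x : Module.End F V) (hxQ : ∀ v, Q (x v) = Q v) (hinj : Function.Injective x)
    (W : Submodule F V) (hWx : W.map x ≤ W) (hWnd : Nondeg (PB Q) W) :
    ∃ W' : Submodule F V, W'.map x ≤ W' ∧ Nondeg (PB Q) W' ∧ Orth (PB Q) W W' ∧ W ⊔ W' = ⊤ ∧
      Module.finrank F W + Module.finrank F W' = Module.finrank F V ∧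
      ∀ j : ℕ, Module.finrank F (LinearMap.ker ((x - 1) ^ j)) =
        Module.finrank F ↥(W ⊓ LinearMap.ker ((x - 1) ^ j)) +
        Module.finrank F ↥(W' ⊓ LinearMap.ker ((x - 1) ^ j)) := by
  obtain ⟨W', -, hW'nd, hort, hsup, hdisj, hfr, hinv⟩ := orth_compl_sym Q ⊤ W le_top hnd hWnd
  have hW'x : W'.map x ≤ W' := hinv x hxQ hinj hWx le_top
  refine ⟨W', hW'x, hW'nd, hort, hsup, ?_, ?_⟩
  · rw [hfr, finrank_top]
  · intro j
    exact KERADD.finrank_ker_split ((x - 1) ^ j) W W' hdisj hsup (KERADD.pow_inv x W hWx j)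
      (KERADD.pow_inv x W' hW'x j)

end Cfsg.Agent.S5989P
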