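import Mathlib
import Cfsg.Prelude.Def_GeometricClasses
import Cfsg.Prelude.Def_Classical
import Cfsg.Prelude.Def_LieClassical
import Cfsg.Agent.Helper27.S5989Defs
import Cfsg.Agent.Helper8.S5992DISCBASIS
import Cfsg.Agent.Helper18.S5989DISCSUM1
import Cfsg.Agent.Helper18.S5991DISCSUMOO

/-! S5991 piece PRODDISC (helper18): discriminant of a product of quadratic spaces. -/

set_option autoImplicit false
open scoped MatrixGroups
universe u

namespace Cfsg.Agent.S5989P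

open Cfsg.Agent.Helper2.SympInvol Cfsg.Agent.Helper2.SympUnits Cfsg.Agent.S5961P
  Cfsg.Agent.S5992P

namespace PRODDISC

/-- discriminant and nondegeneracy are transported by polar-preserving injective linear maps -/
theorem disc_map {F V V' : Type*} [Field F] [AddCommGroup V] [Module F V] [FiniteDimensional F V]
    [AddCommGroup V'] [Module F V'] [FiniteDimensional F V'] (Q : QuadraticForm F V)
    (Q' : QuadraticForm F V') (f : V →ₗ[F] V') (hf : Function.Injective f)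
    (hpol : ∀ u v, QuadraticMap.polar Q' (f u) (f v) = QuadraticMap.polar Q u v)
    (W : Submodule F V) :
    (DiscSq Q' (W.map f) ↔ DiscSq Q W) ∧ (Nondeg (PB Q') (W.map f) ↔ Nondeg (PB Q) W) := by
  let b := Module.finBasis F W
  let b' : Module.Basis (Fin (Module.finrank F W)) F ↥(W.map f) :=
    b.map (Submodule.equivMapOfInjective f hf W)
  have hb' : ∀ i, ((b' i : W.map f) : V') = f (b i) := fun i => by
    simp [b']
  have hg : gramDet Q' (fun i => (b' i : V')) = gramDet Q (fun i => (b i : V)) := by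
    unfold gramDet
    congr 1
    ext i j
    simp only [Matrix.of_apply, hb', hpol]
  have h := discSq_iff Q W b
  have h' := discSq_iff Q' (W.map f) b'
  rw [h.1, h'.1, h.2, h'.2, hg]
  exact ⟨Iff.rfl, Iff.rfl⟩

end PRODDISC

/-- PRODDISC -/
theorem discSq_prod {F V₁ V₂ : Type*} [Field F] [Fintype F] [AddCommGroup V₁] [Module F V₁]
    [FiniteDimensional F V₁] [AddCommGroup V₂] [Module F V₂] [FiniteDimensional F V₂]
    (h2 : (2 : F) ≠ 0) (Q₁ : QuadraticForm F V₁) (Q₂ : QuadraticForm F V₂)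
    (hn₁ : Nondeg (PB Q₁) ⊤) (hn₂ : Nondeg (PB Q₂) ⊤) :
    ((Even (Module.finrank F V₁) ∨ Even (Module.finrank F V₂)) →
      (DiscSq (Q₁.prod Q₂) ⊤ ↔ (DiscSq Q₁ ⊤ ↔ DiscSq Q₂ ⊤))) ∧
    (Odd (Module.finrank F V₁) → Odd (Module.finrank F V₂) →
      (DiscSq (Q₁.prod Q₂) ⊤ ↔ ((DiscSq Q₁ ⊤ ↔ DiscSq Q₂ ⊤) ↔ IsSquare (-1 : F)))) := by
  have hpol₁ : ∀ u v, QuadraticMap.polar (Q₁.prod Q₂) (LinearMap.inl F V₁ V₂ u)
      (LinearMap.inl F V₁ V₂ v) = QuadraticMap.polar Q₁ u v := by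
    intro u v
    rw [QuadraticMap.polar_prod]
    simp
  have hpol₂ : ∀ u v, QuadraticMap.polar (Q₁.prod Q₂) (LinearMap.inr F V₁ V₂ u)
      (LinearMap.inr F V₁ V₂ v) = QuadraticMap.polar Q₂ u v := by
    intro u v
    rw [QuadraticMap.polar_prod]
    simp
  obtain ⟨hD₁, hN₁⟩ := PRODDISC.disc_map Q₁ (Q₁.prod Q₂) (LinearMap.inl F V₁ V₂)
    LinearMap.inl_injective hpol₁ ⊤
  obtain ⟨hD₂, hN₂⟩ := PRODDISC.disc_map Q₂ (Q₁.prod Q₂) (LinearMap.inr F V₁ V₂)
    LinearMap.inr_injective hpol₂ ⊤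
  rw [Submodule.map_top] at hD₁ hN₁ hD₂ hN₂
  have hW₁ := hN₁.mpr hn₁
  have hW₂ := hN₂.mpr hn₂
  have hort : Orth (PB (Q₁.prod Q₂)) (LinearMap.range (LinearMap.inl F V₁ V₂))
      (LinearMap.range (LinearMap.inr F V₁ V₂)) := by
    rintro _ ⟨u, rfl⟩ _ ⟨v, rfl⟩
    rw [PB_apply, QuadraticMap.polar_prod]
    simp
  have hsup : LinearMap.range (LinearMap.inl F V₁ V₂) ⊔ LinearMap.range (LinearMap.inr F V₁ V₂)
      = ⊤ := LinearMap.sup_range_inl_inr
  have hfr₁ : Module.finrank F (LinearMap.range (LinearMap.inl F V₁ V₂)) = Module.finrank F V₁ :=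
    LinearMap.finrank_range_of_inj LinearMap.inl_injective
  have hfr₂ : Module.finrank F (LinearMap.range (LinearMap.inr F V₁ V₂)) = Module.finrank F V₂ :=
    LinearMap.finrank_range_of_inj LinearMap.inr_injective
  constructor
  · rintro (he | he)
    · have hort' : Orth (PB (Q₁.prod Q₂)) (LinearMap.range (LinearMap.inr F V₁ V₂))
          (LinearMap.range (LinearMap.inl F V₁ V₂)) := fun u hu v hv => by
        rw [PB_comm]
        exact hort v hv u hu
      rw [← hsup, sup_comm, discSq_sup_even h2 _ _ _ hW₂ hW₁ hort' (by rw [hfr₁]; exact he),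
        hD₁, hD₂]
      exact Iff.comm
    · rw [← hsup, discSq_sup_even h2 _ _ _ hW₁ hW₂ hort (by rw [hfr₂]; exact he), hD₁, hD₂]
  · intro ho₁ ho₂
    rw [← hsup, discSq_sup_odd_odd h2 _ _ _ hW₁ hW₂ hort (by rw [hfr₁]; exact ho₁)
      (by rw [hfr₂]; exact ho₂), hD₁, hD₂]

end Cfsg.Agent.S5989P
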