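import Mathlib
import Cfsg.Prelude.Def_GeometricClasses
import Cfsg.Prelude.Def_Classical
import Cfsg.Prelude.Def_LieClassical
import Cfsg.Agent.Helper6.S5992Defs
import Cfsg.Agent.Helper7.S5992ORTHSYM
import Cfsg.Agent.Helper7.S5992EXC
import Cfsg.Agent.Helper7.S5992STDTRANS
import Cfsg.Agent.Helper28.S5992EMB

/-! S5993 piece EMBTY (helper18): `O_{2(d-a)+1}(q)` embeds in the stabiliser of a `2a`-space of
type `ε` of the standard odd-dimensional quadratic space. -/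

set_option autoImplicit false
open scoped MatrixGroups
universe u

namespace Cfsg.Agent.S5993P

open Cfsg.Agent.Helper2.SympInvol Cfsg.Agent.Helper2.SympUnits Cfsg.Agent.S5961P Cfsg.Agent.S2614
  Cfsg.Agent.S5992P

namespace EMBTY

section abstract

variable {F V U : Type*} [Field F] [AddCommGroup V] [Module F V] [AddCommGroup U] [Module F U]
  (W₀ W₁ : Submodule F V) (hc : IsCompl W₀ W₁) (e : W₁ ≃ₗ[F] U)

/-- the endomorphism `id ⊕ e⁻¹ f e` of `V = W₀ ⊕ W₁` -/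
noncomputable def ext1 (f : Module.End F U) : Module.End F V :=
  (Submodule.prodEquivOfIsCompl W₀ W₁ hc : (W₀ × W₁) →ₗ[F] V) ∘ₗ
    ((LinearMap.id : W₀ →ₗ[F] W₀).prodMap ((e.symm : U →ₗ[F] W₁) ∘ₗ f ∘ₗ (e : W₁ →ₗ[F] U))) ∘ₗ
    ((Submodule.prodEquivOfIsCompl W₀ W₁ hc).symm : V →ₗ[F] (W₀ × W₁))

theorem ext1_apply (f : Module.End F U) (w₀ : W₀) (w₁ : W₁) :
    ext1 W₀ W₁ hc e f ((w₀ : V) + (w₁ : V)) = (w₀ : V) + ((e.symm (f (e w₁)) : W₁) : V) := by
  have h : (Submodule.prodEquivOfIsCompl W₀ W₁ hc).symm ((w₀ : V) + (w₁ : V)) = (w₀, w₁) := by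
    apply (Submodule.prodEquivOfIsCompl W₀ W₁ hc).injective
    rw [LinearEquiv.apply_symm_apply]
    rfl
  unfold ext1
  simp only [LinearMap.comp_apply, LinearEquiv.coe_coe, h, LinearMap.prodMap_apply,
    LinearMap.id_apply, Submodule.coe_prodEquivOfIsCompl']

include hc in
theorem exists_decomp (v : V) : ∃ (w₀ : W₀) (w₁ : W₁), v = (w₀ : V) + (w₁ : V) := by
  obtain ⟨⟨w₀, w₁⟩, rfl⟩ := (Submodule.prodEquivOfIsCompl W₀ W₁ hc).surjective v
  exact ⟨w₀, w₁, rfl⟩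

/-- `f ↦ id ⊕ e⁻¹ f e` as a monoid homomorphism -/
noncomputable def extHom : Module.End F U →* Module.End F V where
  toFun := ext1 W₀ W₁ hc e
  map_one' := by
    apply LinearMap.ext
    intro v
    obtain ⟨w₀, w₁, rfl⟩ := exists_decomp W₀ W₁ hc v
    rw [ext1_apply]
    simp
  map_mul' := by
    intro f g
    apply LinearMap.ext
    intro v
    obtain ⟨w₀, w₁, rfl⟩ := exists_decomp W₀ W₁ hc v
    rw [Module.End.mul_apply, ext1_apply, ext1_apply, ext1_apply]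
    simp

theorem extHom_apply (f : Module.End F U) : extHom W₀ W₁ hc e f = ext1 W₀ W₁ hc e f := rfl

theorem ext1_injective : Function.Injective (ext1 W₀ W₁ hc e) := by
  intro f g hfg
  apply LinearMap.ext
  intro u
  obtain ⟨w₁, rfl⟩ := e.surjective u
  have h := LinearMap.congr_fun hfg ((0 : W₀) + (w₁ : V))
  rw [ext1_apply, ext1_apply] at h
  have h' := add_left_cancel h
  exact e.symm.injective (Subtype.ext h')

theorem ext1_fix (f : Module.End F U) (w : V) (hw : w ∈ W₀) : ext1 W₀ W₁ hc e f w = w := by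
  have h := ext1_apply W₀ W₁ hc e f ⟨w, hw⟩ 0
  simpa using h

end abstract

section matrix

variable {F : Type*} [Field F] {κ ι : Type} [Fintype κ] [DecidableEq κ] [Fintype ι]
  [DecidableEq ι] (W₀ W₁ : Submodule F (ι → F)) (hc : IsCompl W₀ W₁) (e : W₁ ≃ₗ[F] (κ → F))

/-- the matrix version of `extHom` -/
noncomputable def matHom : Matrix κ κ F →* Matrix ι ι F where
  toFun A := LinearMap.toMatrix' (ext1 W₀ W₁ hc e (Matrix.toLin' A))
  map_one' := by
    rw [Matrix.toLin'_one]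
    have : ext1 W₀ W₁ hc e (LinearMap.id : (κ → F) →ₗ[F] (κ → F)) = 1 :=
      (extHom W₀ W₁ hc e).map_one
    rw [this, LinearMap.toMatrix'_one]
  map_mul' := by
    intro A B
    rw [Matrix.toLin'_mul]
    have : ext1 W₀ W₁ hc e (Matrix.toLin' A ∘ₗ Matrix.toLin' B) =
        ext1 W₀ W₁ hc e (Matrix.toLin' A) * ext1 W₀ W₁ hc e (Matrix.toLin' B) :=
      (extHom W₀ W₁ hc e).map_mul (Matrix.toLin' A) (Matrix.toLin' B)
    rw [this, Module.End.mul_eq_comp, LinearMap.toMatrix'_comp]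

theorem toLin'_matHom (A : Matrix κ κ F) :
    Matrix.toLin' (matHom W₀ W₁ hc e A) = ext1 W₀ W₁ hc e (Matrix.toLin' A) := by
  show Matrix.toLin' (LinearMap.toMatrix' _) = _
  rw [Matrix.toLin'_toMatrix']

theorem matHom_injective : Function.Injective (matHom W₀ W₁ hc e) := by
  intro A B hAB
  have h := congrArg Matrix.toLin' hAB
  rw [toLin'_matHom, toLin'_matHom] at h
  exact Matrix.toLin'.injective (ext1_injective W₀ W₁ hc e h)

end matrix

section iso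

open Cfsg.Agent.Helper28.IsoTransport

variable {F : Type*} [Field F] {κ ι : Type} [Fintype κ] [DecidableEq κ] [Fintype ι]
  [DecidableEq ι] (Q : QuadraticForm F (ι → F)) (Q' : (κ → F) → F)
  (W₀ W₁ : Submodule F (ι → F)) (hc : IsCompl W₀ W₁) (e : W₁ ≃ₗ[F] (κ → F))
  (hort : Orth (PB Q) W₀ W₁) (c : F) (hc0 : c ≠ 0) (heQ : ∀ w : W₁, Q' (e w) = c * Q (w : ι → F))

include hort hc0 heQ in
theorem mem_iso (g : GL κ F) (hg : g ∈ Cfsg.isometryGroup F Q') :
    Units.map (matHom W₀ W₁ hc e) g ∈ Cfsg.isometryGroup F ⇑Q := by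
  rw [mem_isometryGroup_iff] at hg ⊢
  intro u
  rw [Units.coe_map, ← Matrix.toLin'_apply]
  show Q (Matrix.toLin' (matHom W₀ W₁ hc e (g : Matrix κ κ F)) u) = Q u
  rw [toLin'_matHom]
  obtain ⟨w₀, w₁, rfl⟩ := exists_decomp W₀ W₁ hc u
  rw [ext1_apply, QuadraticMap.map_add (⇑Q), QuadraticMap.map_add (⇑Q)]
  have h1 : QuadraticMap.polar Q (w₀ : ι → F)
      ((e.symm (Matrix.toLin' (g : Matrix κ κ F) (e w₁)) : W₁) : ι → F) = 0 :=
    hort _ w₀.2 _ (Submodule.coe_mem _)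
  have h2 : QuadraticMap.polar Q (w₀ : ι → F) (w₁ : ι → F) = 0 := hort _ w₀.2 _ w₁.2
  have h3 : Q ((e.symm (Matrix.toLin' (g : Matrix κ κ F) (e w₁)) : W₁) : ι → F) =
      Q (w₁ : ι → F) := by
    have h4 := heQ (e.symm (Matrix.toLin' (g : Matrix κ κ F) (e w₁)))
    rw [LinearEquiv.apply_symm_apply, Matrix.toLin'_apply, hg, heQ] at h4
    exact (mul_left_cancel₀ hc0 h4).symm
  rw [h1, h2, h3]

/-- the embedding of isometry groups -/
noncomputable def isoHom : ↥(Cfsg.isometryGroup F Q') →* ↥(Cfsg.isometryGroup F ⇑Q) :=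
  ((Units.map (matHom W₀ W₁ hc e)).comp (Cfsg.isometryGroup F Q').subtype).codRestrict _
    (fun g => mem_iso Q Q' W₀ W₁ hc e hort c hc0 heQ g.1 g.2)

theorem isoHom_val (g : ↥(Cfsg.isometryGroup F Q')) :
    ((isoHom Q Q' W₀ W₁ hc e hort c hc0 heQ g : GL ι F) : Matrix ι ι F) =
      matHom W₀ W₁ hc e ((g : GL κ F) : Matrix κ κ F) := rfl

theorem isoHom_injective : Function.Injective (isoHom Q Q' W₀ W₁ hc e hort c hc0 heQ) := by
  intro g g' hgg
  have h1 := congrArg (fun x : ↥(Cfsg.isometryGroup F ⇑Q) => ((x : GL ι F) : Matrix ι ι F)) hgg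
  simp only [isoHom_val] at h1
  apply Subtype.ext
  apply Units.ext
  exact matHom_injective W₀ W₁ hc e h1

theorem isoHom_fix (g : ↥(Cfsg.isometryGroup F Q')) :
    W₀.map (Matrix.toLin' ((isoHom Q Q' W₀ W₁ hc e hort c hc0 heQ g : GL ι F) :
      Matrix ι ι F)) = W₀ := by
  rw [isoHom_val, toLin'_matHom]
  ext x
  constructor
  · rintro ⟨w, hw, rfl⟩
    rw [ext1_fix W₀ W₁ hc e _ w hw]
    exact hw
  · intro hx
    exact ⟨x, hx, ext1_fix W₀ W₁ hc e _ x hx⟩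

end iso

end EMBTY

open EMBTY in
/-- EMBTY -/
theorem exists_emb_fix_ty {F : Type*} [Field F] [Fintype F] (h2 : (2 : F) ≠ 0) (d a : ℕ)
    (had : a ≤ d) (ε : Bool) (hε : ε = false → 1 ≤ a) :
    ∃ (φ : ↥(Cfsg.isometryGroup F (Cfsg.quadFormOdd (d - a) F)) →*
          ↥(Cfsg.isometryGroup F (Cfsg.quadFormOdd d F)))
      (W₀ : Submodule F (Unit ⊕ (Fin d ⊕ Fin d) → F)),
      Function.Injective φ ∧ IsTy (QfOdd d F) ε (2 * a) W₀ ∧
      ∀ g, W₀.map (Matrix.toLin' (((φ g : ↥(Cfsg.isometryGroup F (Cfsg.quadFormOdd d F))) :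
        GL (Unit ⊕ (Fin d ⊕ Fin d)) F) :
          Matrix (Unit ⊕ (Fin d ⊕ Fin d)) (Unit ⊕ (Fin d ⊕ Fin d)) F)) = W₀ := by
  classical
  cases ε with
  | true => exact exists_emb_fix h2 d a had
  | false =>
    have ha : 1 ≤ a := hε rfl
    have hnd : Nondeg (PB (QfOdd d F)) ⊤ := QfOdd_nondeg_top h2 d
    have hfrV : Module.finrank F (Unit ⊕ (Fin d ⊕ Fin d) → F) = 2 * d + 1 := by
      rw [Module.finrank_fintype_fun_eq_card]
      simp only [Fintype.card_sum, Fintype.card_unique, Fintype.card_fin]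
      ring
    obtain ⟨W₀, -, hW₀⟩ := exists_sub_ty h2 (QfOdd d F) ⊤ hnd false (2 * a) (even_two_mul a)
      (fun _ => by omega) (by rw [finrank_top, hfrV]; omega)
    obtain ⟨hW₀fr, hW₀nd, hW₀ty⟩ := hW₀
    obtain ⟨W₁, -, hW₁nd, hort, hsup, hdisj, hfr, -⟩ :=
      orth_compl_sym (QfOdd d F) ⊤ W₀ le_top hnd hW₀nd
    have hc : IsCompl W₀ W₁ := ⟨hdisj, codisjoint_iff.mpr hsup⟩
    have hfr₁ : Module.finrank F W₁ = 2 * (d - a) + 1 := by
      rw [finrank_top, hfrV] at hfr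
      omega
    -- the restricted form
    have hY : IsYO ((QfOdd d F).comp W₁.subtype) (1 : Module.End F W₁) 1 := by
      refine ⟨?_, fun v => rfl, pow_one _⟩
      intro v _ hv0
      have hv0' : (v : Unit ⊕ (Fin d ⊕ Fin d) → F) ≠ 0 := fun h => hv0 (Subtype.ext h)
      obtain ⟨w, hw, hw0⟩ := hW₁nd v v.2 hv0'
      refine ⟨⟨w, hw⟩, trivial, ?_⟩
      rw [PB_apply]
      have : QuadraticMap.polar ((QfOdd d F).comp W₁.subtype) v ⟨w, hw⟩ =
          QuadraticMap.polar (QfOdd d F) (v : Unit ⊕ (Fin d ⊕ Fin d) → F) w := by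
        simp [QuadraticMap.polar]
      rw [this]
      exact hw0
    obtain ⟨-, e, c, hc0, -, heQ, -⟩ :=
      exists_std_of_space h2 ((QfOdd d F).comp W₁.subtype) 1 1 hY (d - a) hfr₁
    have heQ' : ∀ w : W₁, Cfsg.quadFormOdd (d - a) F (e w) =
        c * QfOdd d F (w : Unit ⊕ (Fin d ⊕ Fin d) → F) := fun w => heQ w
    have hcoe : Cfsg.isometryGroup F ⇑(QfOdd d F) = Cfsg.isometryGroup F (Cfsg.quadFormOdd d F) := by
      rw [QfOdd_coe]
    refine ⟨(MonoidHom.comp (Subgroup.inclusion (le_of_eq hcoe))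
        (isoHom (QfOdd d F) (Cfsg.quadFormOdd (d - a) F) W₀ W₁ hc e hort c hc0 heQ')),
      W₀, ?_, ⟨hW₀fr, hW₀nd, hW₀ty⟩, ?_⟩
    · exact (Subgroup.inclusion_injective (le_of_eq hcoe)).comp
        (isoHom_injective (QfOdd d F) (Cfsg.quadFormOdd (d - a) F) W₀ W₁ hc e hort c hc0 heQ')
    · intro g
      exact isoHom_fix (QfOdd d F) (Cfsg.quadFormOdd (d - a) F) W₀ W₁ hc e hort c hc0 heQ' g

end Cfsg.Agent.S5993P
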