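import Mathlib
import Cfsg.Prelude.Def_GeometricClasses
import Cfsg.Prelude.Def_Classical
import Cfsg.Prelude.Def_LieClassical
import Cfsg.Agent.Helper6.S5992Defs
import Cfsg.Agent.Helper12.BCGraphO
import Cfsg.Agent.Helper7.S5992STDTRANS
import Cfsg.Agent.Helper24.S5993UNIPSPACE

/-! S5993 piece UNIPMODEL (helper18): an element of order `p` of `Ω_{2d+1}(q)` with
`dim (range (x - 1) ⊓ ker (x - 1)) ≥ d`. -/

set_option autoImplicit false
open scoped MatrixGroups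
universe u

namespace Cfsg.Agent.S5993P

open Cfsg.Agent.Helper2.SympInvol Cfsg.Agent.Helper2.SympUnits Cfsg.Agent.S5961P Cfsg.Agent.S2614
  Cfsg.Agent.S5992P

/-- UNIPMODEL -/
theorem exists_unip_model {F : Type*} [Field F] [Fintype F] {p : ℕ} [Fact p.Prime] [CharP F p]
    (h2 : (2 : F) ≠ 0) (d : ℕ) (hd : 1 ≤ d) :
    ∃ x : GL (Unit ⊕ (Fin d ⊕ Fin d)) F, x ∈ Cfsg.Geo.omegaGL (Cfsg.quadFormOdd d F) ∧
      orderOf x = p ∧
      d ≤ Module.finrank F ↥(LinearMap.range (Matrix.toLin'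
          (x : Matrix (Unit ⊕ (Fin d ⊕ Fin d)) (Unit ⊕ (Fin d ⊕ Fin d)) F) - 1) ⊓
        LinearMap.ker (Matrix.toLin'
          (x : Matrix (Unit ⊕ (Fin d ⊕ Fin d)) (Unit ⊕ (Fin d ⊕ Fin d)) F) - 1)) := by
  classical
  have hp : p.Prime := Fact.out
  have hp2 : p ≠ 2 := by
    intro h
    apply h2
    have h0 : ((p : ℕ) : F) = 0 := CharP.cast_eq_zero F p
    rw [h] at h0
    exact_mod_cast h0
  obtain ⟨V, _, _, _, Q, y, hY, hfr, hy1, hK⟩ := exists_unip_space (F := F) (p := p) h2 d hd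
  obtain ⟨x, e, c, -, hxmem, -, hey⟩ := exists_std_of_space h2 Q y p hY d hfr
  have hfe : ∀ v, (Matrix.toLin'
      (x : Matrix (Unit ⊕ (Fin d ⊕ Fin d)) (Unit ⊕ (Fin d ⊕ Fin d)) F) - 1) (e v) =
      e ((y - 1) v) := by
    intro v
    simp only [LinearMap.sub_apply, Module.End.one_apply, map_sub]
    rw [hey]
  have hle : (LinearMap.range (y - 1) ⊓ LinearMap.ker (y - 1)).map
      (e : V →ₗ[F] (Unit ⊕ (Fin d ⊕ Fin d) → F)) ≤
      LinearMap.range (Matrix.toLin'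
          (x : Matrix (Unit ⊕ (Fin d ⊕ Fin d)) (Unit ⊕ (Fin d ⊕ Fin d)) F) - 1) ⊓
        LinearMap.ker (Matrix.toLin'
          (x : Matrix (Unit ⊕ (Fin d ⊕ Fin d)) (Unit ⊕ (Fin d ⊕ Fin d)) F) - 1) := by
    rintro _ ⟨v, ⟨⟨u, rfl⟩, hv⟩, rfl⟩
    refine ⟨⟨e u, ?_⟩, ?_⟩
    · rw [hfe]
      rfl
    · have hv' : (y - 1) ((y - 1) u) = 0 := hv
      show (Matrix.toLin'
        (x : Matrix (Unit ⊕ (Fin d ⊕ Fin d)) (Unit ⊕ (Fin d ⊕ Fin d)) F) - 1)
        (e ((y - 1) u)) = 0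
      rw [hfe, hv', map_zero]
  have hKx := Submodule.finrank_mono hle
  rw [LinearEquiv.finrank_map_eq e] at hKx
  -- `x ^ p = 1`
  have hpow : ∀ (k : ℕ) (v : V),
      Matrix.toLin' ((x : Matrix (Unit ⊕ (Fin d ⊕ Fin d)) (Unit ⊕ (Fin d ⊕ Fin d)) F) ^ k)
        (e v) = e ((y ^ k) v) := by
    intro k
    induction k with
    | zero => intro v; simp
    | succ k ih =>
      intro v
      rw [pow_succ, Matrix.toLin'_mul, LinearMap.comp_apply, ← hey, ih, pow_succ,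
        Module.End.mul_apply]
  have hxr' : (x : Matrix (Unit ⊕ (Fin d ⊕ Fin d)) (Unit ⊕ (Fin d ⊕ Fin d)) F) ^ p = 1 := by
    apply Matrix.toLin'.injective
    apply LinearMap.ext
    intro w
    obtain ⟨v, rfl⟩ := e.surjective w
    rw [hpow, hY.pow, Matrix.toLin'_one]
    rfl
  have hxr : x ^ p = 1 := by
    apply Units.ext
    rw [Units.val_pow_eq_pow_val, hxr']
    rfl
  have hx1 : x ≠ 1 := by
    intro h1
    apply hy1
    apply LinearMap.ext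
    intro v
    apply e.injective
    rw [hey, h1, Units.val_one, Matrix.toLin'_one]
    rfl
  have hord : orderOf x = p := orderOf_eq_prime hxr hx1
  refine ⟨x, ?_, hord, le_trans hK hKx⟩
  have hodd : Odd (orderOf (⟨x, hxmem⟩ : ↥(Cfsg.isometryGroup F (Cfsg.quadFormOdd d F)))) := by
    have h5 : orderOf (⟨x, hxmem⟩ : ↥(Cfsg.isometryGroup F (Cfsg.quadFormOdd d F))) = p := by
      rw [← Subgroup.orderOf_coe]
      exact hord
    rw [h5]
    exact hp.odd_of_ne_two hp2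
  have hΩ := Cfsg.Agent.Helper12.BCG.mem_Omega_of_odd' h2 d ⟨x, hxmem⟩ hodd
  unfold Cfsg.Geo.omegaGL
  rw [Subgroup.mem_map]
  exact ⟨⟨x, hxmem⟩, hΩ, rfl⟩

end Cfsg.Agent.S5993P
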