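import Mathlib
import Cfsg.Prelude.Def_GeometricClasses
import Cfsg.Prelude.Def_Classical
import Cfsg.Prelude.Def_LieClassical
import Cfsg.Agent.Helper20.S6000Defs
import Cfsg.Agent.Helper28.S6001Defs

set_option autoImplicit false
open scoped MatrixGroups Matrix

/-! S6001 piece DETCENT1 (helper18): the centraliser in `GU_4` of a unitary `x` with an
eigen-idempotent `E` (self-adjoint, `x E = μ E`) has elements of every determinant of norm one. -/

namespace Cfsg.Agent.S6001P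

open Cfsg.Agent.S6000P

namespace DETCENT1

variable {F : Type*} [Field F] (p : ℕ) [Fact p.Prime] [CharP F p]

/-- entrywise Frobenius of a vector -/
def fv (v : Fin 4 → F) : Fin 4 → F := fun i => (v i) ^ p

theorem fv_add (u w : Fin 4 → F) : fv p (u + w) = fv p u + fv p w := by
  funext i
  simp [fv, add_pow_char]

theorem fv_smul (c : F) (u : Fin 4 → F) : fv p (c • u) = c ^ p • fv p u := by
  funext i
  simp [fv, mul_pow]

theorem fv_single (i : Fin 4) (a : F) : fv p (Pi.single i a) = Pi.single i (a ^ p) := by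
  funext k
  simp only [fv, Pi.single_apply]
  split_ifs
  · rfl
  · exact zero_pow (Fact.out : p.Prime).ne_zero

/-- `(M v)^σ = v^σ M^†` -/
theorem fv_mulVec (M : M4 F) (v : Fin 4 → F) : fv p (M *ᵥ v) = fv p v ᵥ* dag p M := by
  funext i
  simp only [fv, Matrix.mulVec, Matrix.vecMul, dotProduct, dag_apply]
  rw [← frobenius_def, map_sum]
  apply Finset.sum_congr rfl
  intro k _
  rw [map_mul, frobenius_def, frobenius_def, mul_comm]

theorem herm_self_pow [Fintype F] (hF : Fintype.card F = p ^ 2) (v : Fin 4 → F) :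
    (fv p v ⬝ᵥ v) ^ p = fv p v ⬝ᵥ v := by
  simp only [dotProduct, fv]
  rw [← frobenius_def, map_sum]
  apply Finset.sum_congr rfl
  intro j _
  rw [map_mul, frobenius_def, frobenius_def, pow_p_pow_p p hF, mul_comm]

/-- the centralising element attached to a non-isotropic eigenvector -/
theorem of_vector [Fintype F] (hF : Fintype.card F = p ^ 2) (x : GL (Fin 4) F)
    (hx : x ∈ Cfsg.GU 4 F p) (v : Fin 4 → F) (μ : F) (hxv : (x : M4 F) *ᵥ v = μ • v)
    (hn : fv p v ⬝ᵥ v ≠ 0) (δ : F) (hδ : δ ^ (p + 1) = 1) :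
    ∃ k ∈ Cfsg.GU 4 F p, k * x = x * k ∧ (k : M4 F).det = δ := by
  have hux := (mem_GU_iff_dag p x).mp hx
  have h1 : fv p v ᵥ* dag p (x : M4 F) = μ ^ p • fv p v := by
    rw [← fv_mulVec, hxv, fv_smul]
  have hμ : μ ^ p * μ = 1 := by
    have h : (fv p v ᵥ* dag p (x : M4 F)) ⬝ᵥ ((x : M4 F) *ᵥ v) = fv p v ⬝ᵥ v := by
      rw [Matrix.dotProduct_mulVec, Matrix.vecMul_vecMul, hux, Matrix.vecMul_one]
    rw [h1, hxv, smul_dotProduct, dotProduct_smul, smul_eq_mul, smul_eq_mul, ← mul_assoc] at h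
    exact mul_right_cancel₀ hn (by rw [h, one_mul])
  have h2 : fv p v ᵥ* (x : M4 F) = μ • fv p v := by
    have h : (fv p v ᵥ* dag p (x : M4 F)) ᵥ* (x : M4 F) = fv p v := by
      rw [Matrix.vecMul_vecMul, hux, Matrix.vecMul_one]
    rw [h1, Matrix.smul_vecMul] at h
    calc fv p v ᵥ* (x : M4 F) = (μ ^ p * μ) • (fv p v ᵥ* (x : M4 F)) := by rw [hμ, one_smul]
      _ = μ • (μ ^ p • (fv p v ᵥ* (x : M4 F))) := by rw [mul_comm, mul_smul]
      _ = μ • fv p v := by rw [h]
  have hMd : dag p (Matrix.vecMulVec v (fv p v)) = Matrix.vecMulVec v (fv p v) := by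
    ext i j
    rw [dag_apply, Matrix.vecMulVec_apply, Matrix.vecMulVec_apply, mul_pow]
    simp only [fv]
    rw [pow_p_pow_p p hF, mul_comm]
  have hMM : Matrix.vecMulVec v (fv p v) * Matrix.vecMulVec v (fv p v) =
      (fv p v ⬝ᵥ v) • Matrix.vecMulVec v (fv p v) := by
    rw [Matrix.vecMulVec_mul_vecMulVec, Matrix.vecMulVec_smul]
  have hxM : (x : M4 F) * Matrix.vecMulVec v (fv p v) = μ • Matrix.vecMulVec v (fv p v) := by
    rw [Matrix.mul_vecMulVec, hxv, Matrix.smul_vecMulVec]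
  have hMx : Matrix.vecMulVec v (fv p v) * (x : M4 F) = μ • Matrix.vecMulVec v (fv p v) := by
    rw [Matrix.vecMulVec_mul, h2, Matrix.vecMulVec_smul]
  have hnp : (fv p v ⬝ᵥ v) ^ p = fv p v ⬝ᵥ v := herm_self_pow p hF v
  generalize hndef : fv p v ⬝ᵥ v = n at *
  generalize hMdef : Matrix.vecMulVec v (fv p v) = M at *
  have hcp : ((δ - 1) * n⁻¹) ^ p = (δ ^ p - 1) * n⁻¹ := by
    rw [mul_pow, inv_pow, hnp, sub_pow_char, one_pow]
  have hδ' : δ ^ p * δ = 1 := by
    rw [← pow_succ]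
    exact hδ
  have hsc : (δ - 1) * n⁻¹ + ((δ - 1) * n⁻¹) ^ p + ((δ - 1) * n⁻¹) ^ p * ((δ - 1) * n⁻¹) * n
      = 0 := by
    rw [hcp]
    field_simp
    linear_combination hδ'
  have hKd : dag p (1 + ((δ - 1) * n⁻¹) • M) * (1 + ((δ - 1) * n⁻¹) • M) = 1 := by
    rw [dag_add, dag_one, dag_smul, hMd, add_mul, mul_add, mul_add, one_mul, one_mul, mul_one,
      Matrix.smul_mul, Matrix.mul_smul, hMM, smul_smul, smul_smul]
    have : (1 : M4 F) + ((δ - 1) * n⁻¹) • M + (((δ - 1) * n⁻¹) ^ p • M +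
        (((δ - 1) * n⁻¹) ^ p * ((δ - 1) * n⁻¹) * n) • M) =
        1 + ((δ - 1) * n⁻¹ + ((δ - 1) * n⁻¹) ^ p +
          ((δ - 1) * n⁻¹) ^ p * ((δ - 1) * n⁻¹) * n) • M := by
      rw [add_smul, add_smul]
      abel
    rw [this, hsc, zero_smul, add_zero]
  have hKdet : (1 + ((δ - 1) * n⁻¹) • M).det = δ := by
    have h : 1 + ((δ - 1) * n⁻¹) • M = 1 + Matrix.replicateCol Unit (((δ - 1) * n⁻¹) • v) *
        Matrix.replicateRow Unit (fv p v) := by
      rw [← Matrix.vecMulVec_eq, Matrix.smul_vecMulVec, hMdef]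
    rw [h, Matrix.det_one_add_replicateCol_mul_replicateRow, dotProduct_smul, smul_eq_mul, hndef]
    field_simp
    ring
  have hdet0 : (1 + ((δ - 1) * n⁻¹) • M).det ≠ 0 := by
    rw [hKdet]
    intro h
    rw [h, zero_pow (Nat.succ_ne_zero p)] at hδ
    exact zero_ne_one hδ
  refine ⟨Matrix.GeneralLinearGroup.mkOfDetNeZero _ hdet0, (mem_GU_iff_dag p _).mpr hKd, ?_,
    hKdet⟩
  apply Units.ext
  rw [Units.val_mul, Units.val_mul]
  show (1 + ((δ - 1) * n⁻¹) • M) * (x : M4 F) = (x : M4 F) * (1 + ((δ - 1) * n⁻¹) • M)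
  rw [add_mul, mul_add, one_mul, mul_one, Matrix.smul_mul, Matrix.mul_smul, hMx, hxM]

/-- the Hermitian form of a nonzero self-adjoint matrix does not vanish identically -/
theorem exists_herm_ne_zero (h2 : (2 : F) ≠ 0) (E : M4 F) (hE0 : E ≠ 0) (hEd : dag p E = E) :
    ∃ u : Fin 4 → F, fv p u ⬝ᵥ (E *ᵥ u) ≠ 0 := by
  by_contra hcon
  push Not at hcon
  have hdiag : ∀ i, E i i = 0 := by
    intro i
    have := hcon (Pi.single i 1)
    rw [fv_single, one_pow, Matrix.mulVec_single_one, single_dotProduct, one_mul] at this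
    exact this
  obtain ⟨i, j, hij⟩ : ∃ i j, E i j ≠ 0 := by
    by_contra h
    push Not at h
    apply hE0
    ext i j
    exact h i j
  have hji : E j i = (E i j) ^ p := by
    have := congrFun (congrFun hEd j) i
    rw [dag_apply] at this
    exact this.symm
  have := hcon (Pi.single i 1 + (E i j)⁻¹ • Pi.single j 1)
  rw [fv_add, fv_smul, fv_single, fv_single, one_pow, Matrix.mulVec_add, Matrix.mulVec_smul,
    Matrix.mulVec_single_one, Matrix.mulVec_single_one, add_dotProduct, dotProduct_add,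
    dotProduct_add, smul_dotProduct, smul_dotProduct, dotProduct_smul, dotProduct_smul,
    single_dotProduct, single_dotProduct, single_dotProduct, single_dotProduct] at this
  simp only [Matrix.col_apply, one_mul, smul_eq_mul, hdiag, mul_zero, zero_add, add_zero,
    hji] at this
  rw [← mul_pow, inv_mul_cancel₀ hij, one_pow] at this
  apply h2
  linear_combination this

end DETCENT1

open DETCENT1 in
/-- DETCENT1 -/
theorem exists_cent_det_of_idem {F : Type*} [Field F] [Fintype F] {p : ℕ} [Fact p.Prime]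
    [CharP F p] (hF : Fintype.card F = p ^ 2) (h2 : (2 : F) ≠ 0) (x : GL (Fin 4) F)
    (hx : x ∈ Cfsg.GU 4 F p) (E : M4 F) (μ : F) (hE0 : E ≠ 0) (hE2 : E * E = E)
    (hEd : dag p E = E) (hxE : (x : M4 F) * E = μ • E) :
    ∀ δ : F, δ ^ (p + 1) = 1 →
      ∃ k ∈ Cfsg.GU 4 F p, k * x = x * k ∧ (k : M4 F).det = δ := by
  intro δ hδ
  obtain ⟨u, hu⟩ := exists_herm_ne_zero p h2 E hE0 hEd
  have hxv : (x : M4 F) *ᵥ (E *ᵥ u) = μ • (E *ᵥ u) := by
    rw [Matrix.mulVec_mulVec, hxE, Matrix.smul_mulVec]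
  have hn : fv p (E *ᵥ u) ⬝ᵥ (E *ᵥ u) ≠ 0 := by
    rw [fv_mulVec, hEd, ← Matrix.dotProduct_mulVec, Matrix.mulVec_mulVec, hE2]
    exact hu
  exact of_vector p hF x hx (E *ᵥ u) μ hxv hn δ hδ

end Cfsg.Agent.S6001P
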