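import Mathlib
import Cfsg.Prelude.Def_GeometricClasses
import Cfsg.Prelude.Def_Classical
import Cfsg.Prelude.Def_LieClassical
import Cfsg.Agent.Helper20.S6000Defs
import Cfsg.Agent.Helper28.S6001Defs
import Cfsg.Agent.Helper21.NS3

set_option autoImplicit false
open scoped MatrixGroups Matrix

/-! S6001 piece UCONJ (helper18): unitary matrices conjugate in `GL` are conjugate in `GU`. -/

namespace Cfsg.Agent.S6001P

open Cfsg.Agent.S6000P

/-- UCONJ -/
theorem unitary_conj_of_gl_conj {F : Type*} [Field F] [Fintype F] {p : ℕ} [Fact p.Prime]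
    [CharP F p] (hF : Fintype.card F = p ^ 2) (x y g : GL (Fin 4) F)
    (hx : x ∈ Cfsg.GU 4 F p) (hy : y ∈ Cfsg.GU 4 F p) (hg : g⁻¹ * x * g = y) :
    ∃ h ∈ Cfsg.GU 4 F p, h⁻¹ * x * h = y := by
  have hσ : ∀ a : F, frobenius F p a = a ^ p := fun a => frobenius_def p a
  have hσ2 : ∀ a : F, frobenius F p (frobenius F p a) = a := by
    intro a
    rw [hσ, hσ, pow_p_pow_p p hF]
  have hA := (Cfsg.Agent.Helper28.GUlib.mem_GU_iff (frobenius F p) hσ y).mp hy
  have hB := (Cfsg.Agent.Helper28.GUlib.mem_GU_iff (frobenius F p) hσ x).mp hx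
  have hg1 : (g : M4 F) * ((g⁻¹ : GL (Fin 4) F) : M4 F) = 1 := by
    rw [← Units.val_mul, mul_inv_cancel, Units.val_one]
  have hg2 : ((g⁻¹ : GL (Fin 4) F) : M4 F) * (g : M4 F) = 1 := by
    rw [← Units.val_mul, inv_mul_cancel, Units.val_one]
  have hconj : (g : M4 F) * (y : M4 F) = (x : M4 F) * (g : M4 F) := by
    rw [← Units.val_mul, ← Units.val_mul, ← hg]
    congr 1
    group
  obtain ⟨X, hXu, hXc⟩ := Cfsg.Agent.Helper21.NS.exists_unitary_conj hF (frobenius F p) hσ hσ2
    (y : M4 F) (x : M4 F) (g : M4 F) ((g⁻¹ : GL (Fin 4) F) : M4 F) hA hB hg1 hg2 hconj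
  have hdet : X.det ≠ 0 := by
    intro h0
    have := congrArg Matrix.det hXu
    rw [Matrix.det_mul, Matrix.det_transpose, h0, zero_mul, Matrix.det_one] at this
    exact zero_ne_one this
  refine ⟨Matrix.GeneralLinearGroup.mkOfDetNeZero X hdet, ?_, ?_⟩
  · rw [Cfsg.Agent.Helper28.GUlib.mem_GU_iff (frobenius F p) hσ]
    exact hXu
  · have hc : x * Matrix.GeneralLinearGroup.mkOfDetNeZero X hdet =
        Matrix.GeneralLinearGroup.mkOfDetNeZero X hdet * y := by
      apply Units.ext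
      rw [Units.val_mul, Units.val_mul]
      exact hXc.symm
    rw [mul_assoc, hc, ← mul_assoc, inv_mul_cancel, one_mul]

end Cfsg.Agent.S6001P
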