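import Mathlib
import Cfsg.Agent.Helper2.UnitaryCenter
import Cfsg.Agent.Helper28.GU
import Cfsg.Agent.Helper18.PSL3Inv

set_option autoImplicit false

/-! Involutions of `SU(3,q)`, `q` odd: frames and fixed unit vectors. -/

namespace Cfsg.Agent.Helper18.SU3Inv

open Matrix Cfsg.Agent.Helper2.Herm

variable {F : Type*} [Field F] [Fintype F] {q : ℕ}

theorem two_ne_zero_of_odd (hq : Odd q) (hF : Fintype.card F = q ^ 2) : (2 : F) ≠ 0 := by
  intro h2
  have hdvd : ringChar F ∣ 2 := ringChar.dvd (by exact_mod_cast h2)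
  rcases (Nat.dvd_prime Nat.prime_two).1 hdvd with h | h
  · exact CharP.ringChar_ne_one h
  · have := FiniteField.even_card_iff_char_two.1 h
    rw [hF] at this
    have h3 : Odd (q ^ 2) := hq.pow
    rcases h3 with ⟨m, hm⟩
    omega

/-- extension of an orthonormal frame -/
theorem exists_cons (hF : Fintype.card F = q ^ 2) {k j n : ℕ} (hn : n = j + k) (hj : 1 ≤ j)
    (c : Fin k → (Fin n → F)) (hc : IsON q c) :
    ∃ w : Fin n → F, IsON q (Fin.cons w c : Fin (k + 1) → (Fin n → F)) := by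
  have hq := two_le_q hF
  have h1 : NW q c (1 : F) = T q j (1 : F) := NW_eq_T' hF hn c hc (one_mem_K hF)
  have h2 : 0 < T q j (1 : F) := by
    rw [T_one hF]
    have hp : 0 < q ^ (j - 1) := Nat.pow_pos (by omega)
    have hp2 : 2 ≤ q ^ j := by
      calc 2 ≤ q := hq
        _ = q ^ 1 := (pow_one q).symm
        _ ≤ q ^ j := Nat.pow_le_pow_right (by omega) hj
    split_ifs
    · exact Nat.mul_pos hp (by omega)
    · exact Nat.mul_pos hp (by omega)
  rw [← h1] at h2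
  unfold NW at h2
  obtain ⟨⟨w, hw⟩⟩ := (Nat.card_pos_iff.mp h2).1
  exact ⟨w.1, (isON_cons hF c w.1).mpr ⟨hc, w.2, hw⟩⟩

theorem isON_comp {k n : ℕ} (e : Fin k ≃ Fin k) {c : Fin k → (Fin n → F)} (hc : IsON q c) :
    IsON q (c ∘ e) := by
  intro i j
  simp only [Function.comp_apply]
  rw [hc]
  simp only [e.injective.eq_iff]

/-- a unitary matrix with prescribed unit first column -/
theorem exists_frame (hF : Fintype.card F = q ^ 2) (v : Fin 3 → F)
    (hv : Cfsg.hermForm 3 F q v v = 1) :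
    ∃ g : GL (Fin 3) F, g ∈ Cfsg.GU 3 F q ∧ cols (g : Matrix (Fin 3) (Fin 3) F) 0 = v := by
  have h0 : IsON q (Fin.elim0 : Fin 0 → (Fin 3 → F)) := fun i => i.elim0
  have h1 : IsON q (Fin.cons v (Fin.elim0 : Fin 0 → (Fin 3 → F)) : Fin 1 → (Fin 3 → F)) :=
    (isON_cons hF _ v).mpr ⟨h0, fun j => j.elim0, hv⟩
  obtain ⟨w1, h2⟩ := exists_cons hF (by norm_num : 3 = 2 + 1) (by norm_num) _ h1
  obtain ⟨w2, h3⟩ := exists_cons hF (by norm_num : 3 = 1 + 2) (by norm_num) _ h2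
  have h4 := isON_comp (Equiv.swap (0 : Fin 3) 2) h3
  obtain ⟨g, hg⟩ := exists_unit_of_isON hF h4
  refine ⟨g, (mem_GU_iff hF g).mpr (by rw [hg]; exact h4), ?_⟩
  rw [hg]
  rfl

end Cfsg.Agent.Helper18.SU3Inv
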