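import Mathlib
import Cfsg.Agent.Helper18.SU3Inv1

set_option autoImplicit false

/-! Involutions of `SU(3,q)`, `q` odd: a fixed unit vector of a Hermitian unitary involution. -/

namespace Cfsg.Agent.Helper18.SU3Inv

open Matrix Cfsg.Agent.Helper2.Herm

variable {F : Type*} [Field F] [Fintype F] {q : ℕ}

/-- the norm is onto the fixed field -/
theorem exists_norm_eq (hF : Fintype.card F = q ^ 2) {a : F} (ha0 : a ≠ 0) (ha : a ^ q = a) :
    ∃ u : F, u ^ (q + 1) = a := by
  have hq := two_le_q hF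
  have h1 : a ^ (q - 1) = 1 := by
    have : a ^ (q - 1) * a = 1 * a := by
      rw [← pow_succ, Nat.sub_add_cancel (by omega), ha, one_mul]
    exact mul_right_cancel₀ ha0 this
  have h2 : Units.mk0 a ha0 ∈ (powMonoidHom (q - 1) : Fˣ →* Fˣ).ker := by
    rw [MonoidHom.mem_ker, powMonoidHom_apply]
    apply Units.ext
    rw [Units.val_pow_eq_pow_val, Units.val_mk0, h1, Units.val_one]
  rw [← range_norm hF] at h2
  obtain ⟨u, hu⟩ := h2
  refine ⟨(u : F), ?_⟩
  have := congrArg Units.val hu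
  rw [powMonoidHom_apply, Units.val_pow_eq_pow_val, Units.val_mk0] at this
  exact this

/-- a Hermitian unitary involution other than `-1` fixes a unit vector -/
theorem exists_fixed_unit (hF : Fintype.card F = q ^ 2) (h2 : (2 : F) ≠ 0) {n : ℕ}
    (M : Matrix (Fin n) (Fin n) F) (hU : Mᵀ * M.map (cj hF) = 1) (hM2 : M * M = 1)
    (hM : M ≠ -1) :
    ∃ v : Fin n → F, Cfsg.hermForm n F q v v = 1 ∧ M *ᵥ v = v := by
  have hT : Mᵀ * Mᵀ = 1 := by rw [← Matrix.transpose_mul, hM2, Matrix.transpose_one]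
  have hMs : M.map (cj hF) = Mᵀ := by
    calc M.map (cj hF) = (Mᵀ * Mᵀ) * M.map (cj hF) := by rw [hT, Matrix.one_mul]
      _ = Mᵀ * (Mᵀ * M.map (cj hF)) := by rw [Matrix.mul_assoc]
      _ = Mᵀ := by rw [hU, Matrix.mul_one]
  obtain ⟨P, hP⟩ : ∃ P : Matrix (Fin n) (Fin n) F, P = 1 + M := ⟨_, rfl⟩
  have hPs : ∀ i j, cj hF (P i j) = P j i := by
    intro i j
    have := congrFun (congrFun hMs i) j
    rw [Matrix.map_apply, Matrix.transpose_apply] at this
    rw [hP, Matrix.add_apply, Matrix.add_apply, map_add, this, Matrix.one_apply, Matrix.one_apply]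
    by_cases hij : i = j
    · rw [if_pos hij, if_pos hij.symm, map_one]
    · rw [if_neg hij, if_neg (Ne.symm hij), map_zero]
  have hPP : P * P = (2 : F) • P := by
    rw [hP, Matrix.add_mul, Matrix.mul_add, Matrix.mul_add, hM2, Matrix.one_mul, Matrix.mul_one,
      Matrix.one_mul, two_smul]
    abel
  have hMP : M * P = P := by
    rw [hP, Matrix.mul_add, hM2, Matrix.mul_one, add_comm]
  have hfix : ∀ i, M *ᵥ cols P i = cols P i := by
    intro i
    rw [← Cfsg.Agent.Helper2.Herm.mulVec_single, Matrix.mulVec_mulVec, hMP]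
  have hh : ∀ i j, Cfsg.hermForm n F q (cols P i) (cols P j) = 2 * P j i := by
    intro i j
    rw [hf_eq hF]
    have : (P * P) j i = 2 * P j i := by rw [hPP, Matrix.smul_apply, smul_eq_mul]
    rw [← this, Matrix.mul_apply]
    apply Finset.sum_congr rfl
    intro k _
    show P k i * cj hF (P k j) = _
    rw [hPs, mul_comm]
  have hP0 : P ≠ 0 := by
    intro h0
    apply hM
    rw [hP] at h0
    exact (eq_neg_of_add_eq_zero_right h0)
  -- a non-isotropic fixed vector
  obtain ⟨v0, hv0, hv0fix⟩ : ∃ v0 : Fin n → F, Cfsg.hermForm n F q v0 v0 ≠ 0 ∧ M *ᵥ v0 = v0 := by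
    by_cases hd : ∃ i, P i i ≠ 0
    · obtain ⟨i, hi⟩ := hd
      exact ⟨cols P i, by rw [hh]; exact mul_ne_zero h2 hi, hfix i⟩
    · push Not at hd
      obtain ⟨i, j, hij⟩ : ∃ i j, P i j ≠ 0 := by
        by_contra hcon
        push Not at hcon
        apply hP0
        ext i j
        exact hcon i j
      refine ⟨cols P i + (P i j)⁻¹ • cols P j, ?_, ?_⟩
      · rw [hf_add_left, hf_add_right hF, hf_add_right hF, hf_smul_left, hf_smul_left,
          hf_smul_right hF, hf_smul_right hF, hh, hh, hh, hh, hd i, hd j, ← hPs i j]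
        have e1 : (P i j)⁻¹ * (2 * P i j) = 2 := by field_simp
        have e2 : cj hF ((P i j)⁻¹) * (2 * cj hF (P i j)) = 2 := by
          rw [mul_left_comm, ← map_mul, inv_mul_cancel₀ hij, map_one, mul_one]
        rw [e1, e2]
        intro h
        have h4 : (2 : F) * 2 = 0 := by
          rw [← h]
          ring
        exact h2 (mul_self_eq_zero.mp h4)
      · rw [Matrix.mulVec_add, Matrix.mulVec_smul, hfix, hfix]
  -- normalise
  have hK := hf_self_mem_K hF v0
  rw [mem_K] at hK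
  obtain ⟨u, hu⟩ := exists_norm_eq hF (inv_ne_zero hv0) (by rw [inv_pow, hK])
  refine ⟨u • v0, ?_, ?_⟩
  · rw [hf_smul_left, hf_smul_right hF, cj_apply, ← mul_assoc, ← pow_succ', hu,
      inv_mul_cancel₀ hv0]
  · rw [Matrix.mulVec_smul, hv0fix]

end Cfsg.Agent.Helper18.SU3Inv
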