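import Mathlib
import Cfsg.Agent.Helper18.SU3Inv2

set_option autoImplicit false

/-! Involutions of `SU(3,q)`, `q` odd: matrix lemmas. -/

namespace Cfsg.Agent.Helper18.SU3Inv

open Matrix Cfsg.Agent.Helper2.Herm Cfsg.Agent.Helper18.PSL3Inv

variable {F : Type*} [Field F]

/-- a `2 × 2` involution of determinant one is `± 1` -/
theorem two_by_two (h2 : (2 : F) ≠ 0) (B : Matrix (Fin 2) (Fin 2) F) (hB : B * B = 1)
    (hdet : B.det = 1) : B = 1 ∨ B = -1 := by
  rw [Matrix.det_fin_two] at hdet
  have e00 : B 0 0 * B 0 0 + B 0 1 * B 1 0 = 1 := by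
    have := congrFun (congrFun hB 0) 0
    simpa [Matrix.mul_apply, Fin.sum_univ_two] using this
  have e01 : B 0 0 * B 0 1 + B 0 1 * B 1 1 = 0 := by
    have := congrFun (congrFun hB 0) 1
    simpa [Matrix.mul_apply, Fin.sum_univ_two] using this
  have e10 : B 1 0 * B 0 0 + B 1 1 * B 1 0 = 0 := by
    have := congrFun (congrFun hB 1) 0
    simpa [Matrix.mul_apply, Fin.sum_univ_two] using this
  have e11 : B 1 0 * B 0 1 + B 1 1 * B 1 1 = 1 := by
    have := congrFun (congrFun hB 1) 1
    simpa [Matrix.mul_apply, Fin.sum_univ_two] using this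
  have hs : B 0 0 * (B 0 0 + B 1 1) = 2 := by linear_combination e00 + hdet
  have hs0 : B 0 0 + B 1 1 ≠ 0 := by
    intro h
    rw [h, mul_zero] at hs
    exact h2 hs.symm
  have hb : B 0 1 = 0 := by
    have : B 0 1 * (B 0 0 + B 1 1) = 0 := by linear_combination e01
    exact (mul_eq_zero.mp this).resolve_right hs0
  have hc : B 1 0 = 0 := by
    have : B 1 0 * (B 0 0 + B 1 1) = 0 := by linear_combination e10
    exact (mul_eq_zero.mp this).resolve_right hs0
  rw [hb, hc] at hdet
  rw [hb] at e00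
  have ha : (B 0 0 - 1) * (B 0 0 + 1) = 0 := by linear_combination e00
  have hd : B 1 1 = B 0 0 := by
    have : B 1 1 = (B 0 0 * B 0 0) * B 1 1 := by
      have e : B 0 0 * B 0 0 = 1 := by linear_combination e00
      rw [e, one_mul]
    rw [this]
    linear_combination (B 0 0) * hdet
  rcases mul_eq_zero.mp ha with h | h
  · left
    have ha1 : B 0 0 = 1 := by linear_combination h
    ext i j
    fin_cases i <;> fin_cases j <;> simp [hb, hc, hd, ha1]
  · right
    have ha1 : B 0 0 = -1 := by linear_combination h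
    ext i j
    fin_cases i <;> fin_cases j <;> simp [hb, hc, hd, ha1]

/-- matrices commuting with `diag(1,-1,-1)` are block diagonal -/
theorem comm_Dm_form (h2 : (2 : F) ≠ 0) (a : Matrix (Fin 3) (Fin 3) F) (h : a * Dm = Dm * a) :
    a = blk !![a 1 1, a 1 2; a 2 1, a 2 2] (a 0 0) := by
  rw [Dm_eq] at h
  have e : ∀ i j : Fin 3, a i j * (![1, -1, -1] : Fin 3 → F) j =
      (![1, -1, -1] : Fin 3 → F) i * a i j := by
    intro i j
    have := congrFun (congrFun h i) j
    simpa only [Matrix.mul_diagonal, Matrix.diagonal_mul] using this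
  have key2 : ∀ c : F, 2 * c = 0 → c = 0 := fun c hc => (mul_eq_zero.mp hc).resolve_left h2
  have e01 : -a 0 1 = a 0 1 := by simpa using e 0 1
  have e02 : -a 0 2 = a 0 2 := by simpa using e 0 2
  have e10 : a 1 0 = -(a 1 0) := by simpa using e 1 0
  have e20 : a 2 0 = -(a 2 0) := by simpa using e 2 0
  have h01 : a 0 1 = 0 := key2 _ (by linear_combination -e01)
  have h02 : a 0 2 = 0 := key2 _ (by linear_combination -e02)
  have h10 : a 1 0 = 0 := key2 _ (by linear_combination e10)
  have h20 : a 2 0 = 0 := key2 _ (by linear_combination e20)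
  ext i j
  fin_cases i <;> fin_cases j <;> simp [blk, h01, h02, h10, h20]

theorem blk_transpose (B : Matrix (Fin 2) (Fin 2) F) (d : F) : (blk B d)ᵀ = blk Bᵀ d := by
  ext i j
  fin_cases i <;> fin_cases j <;> simp [blk]

theorem blk_map (σ : F →+* F) (B : Matrix (Fin 2) (Fin 2) F) (d : F) :
    (blk B d).map σ = blk (B.map σ) (σ d) := by
  ext i j
  fin_cases i <;> fin_cases j <;> simp [blk]

theorem blk_unitary_iff (σ : F →+* F) (B : Matrix (Fin 2) (Fin 2) F) (d : F) :
    (blk B d)ᵀ * (blk B d).map σ = 1 ↔ Bᵀ * B.map σ = 1 ∧ d * σ d = 1 := by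
  rw [blk_transpose, blk_map, blk_mul, ← blk_one]
  constructor
  · intro h
    exact blk_injective h
  · rintro ⟨h1, h2⟩
    rw [h1, h2]

theorem blk_neg_one : blk (-1 : Matrix (Fin 2) (Fin 2) F) 1 = Dm := by
  ext i j
  fin_cases i <;> fin_cases j <;> simp [blk, Dm]

/-- a unitary matrix fixing `e₀` is block diagonal -/
theorem fixed_col_form (σ : F →+* F) (N : Matrix (Fin 3) (Fin 3) F)
    (hU : Nᵀ * N.map σ = 1) (h0 : N 0 0 = 1) (h1 : N 1 0 = 0) (h2 : N 2 0 = 0) :
    N = blk !![N 1 1, N 1 2; N 2 1, N 2 2] 1 := by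
  have e1 : σ (N 0 1) = 0 := by
    have := congrFun (congrFun hU 0) 1
    simpa [Matrix.mul_apply, Fin.sum_univ_three, h0, h1, h2] using this
  have e2 : σ (N 0 2) = 0 := by
    have := congrFun (congrFun hU 0) 2
    simpa [Matrix.mul_apply, Fin.sum_univ_three, h0, h1, h2] using this
  have h01 : N 0 1 = 0 := by
    rw [← map_zero σ] at e1
    exact σ.injective e1
  have h02 : N 0 2 = 0 := by
    rw [← map_zero σ] at e2
    exact σ.injective e2
  ext i j
  fin_cases i <;> fin_cases j <;> simp [blk, h0, h1, h2, h01, h02]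

/-- a unitary involution of determinant one fixing `e₀`, other than `1`, is `diag(1,-1,-1)` -/
theorem eq_Dm (h2 : (2 : F) ≠ 0) (σ : F →+* F) (N : Matrix (Fin 3) (Fin 3) F)
    (hU : Nᵀ * N.map σ = 1) (hcol : N *ᵥ Pi.single 0 1 = Pi.single 0 1)
    (hN2 : N * N = 1) (hdet : N.det = 1) (hN1 : N ≠ 1) : N = Dm := by
  have c0 : N 0 0 = 1 := by
    have := congrFun hcol 0
    simpa [Matrix.mulVec, dotProduct, Fin.sum_univ_three] using this
  have c1 : N 1 0 = 0 := by
    have := congrFun hcol 1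
    simpa [Matrix.mulVec, dotProduct, Fin.sum_univ_three] using this
  have c2 : N 2 0 = 0 := by
    have := congrFun hcol 2
    simpa [Matrix.mulVec, dotProduct, Fin.sum_univ_three] using this
  have hform := fixed_col_form σ N hU c0 c1 c2
  obtain ⟨B, hB⟩ : ∃ B : Matrix (Fin 2) (Fin 2) F, B = !![N 1 1, N 1 2; N 2 1, N 2 2] := ⟨_, rfl⟩
  rw [← hB] at hform
  have hBB : B * B = 1 := by
    rw [hform, blk_mul, ← blk_one] at hN2
    exact (blk_injective hN2).1
  have hBd : B.det = 1 := by
    rw [hform, det_blk, one_mul] at hdet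
    exact hdet
  rcases two_by_two h2 B hBB hBd with h | h
  · exfalso
    apply hN1
    rw [hform, h, blk_one]
  · rw [hform, h, blk_neg_one]

end Cfsg.Agent.Helper18.SU3Inv
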