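import Mathlib
import Cfsg.Agent.Helper18.SU3Inv3

set_option autoImplicit false

/-! Involutions of `SU(3,q)`, `q` odd: all conjugate to `diag(1,-1,-1)`. -/

namespace Cfsg.Agent.Helper18.SU3Inv

open Matrix Cfsg.Agent.Helper2.Herm Cfsg.Agent.Helper18.PSL3Inv

variable {F : Type*} [Field F] [Fintype F] {q : ℕ}

theorem mem_SU_iff_mat (hF : Fintype.card F = q ^ 2) {n : ℕ}
    (s : Matrix.SpecialLinearGroup (Fin n) F) :
    s ∈ Cfsg.SU n F q ↔
      (s : Matrix (Fin n) (Fin n) F)ᵀ * (s : Matrix (Fin n) (Fin n) F).map (cj hF) = 1 :=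
  Cfsg.Agent.Helper28.GUlib.mem_GU_iff (cj hF) (cj_apply hF) (Matrix.SpecialLinearGroup.toGL s)

theorem mem_GU_iff_mat (hF : Fintype.card F = q ^ 2) {n : ℕ} (g : GL (Fin n) F) :
    g ∈ Cfsg.GU n F q ↔
      (g : Matrix (Fin n) (Fin n) F)ᵀ * (g : Matrix (Fin n) (Fin n) F).map (cj hF) = 1 :=
  Cfsg.Agent.Helper28.GUlib.mem_GU_iff (cj hF) (cj_apply hF) g

theorem Dm_unitary (σ : F →+* F) :
    (Dm : Matrix (Fin 3) (Fin 3) F)ᵀ * (Dm : Matrix (Fin 3) (Fin 3) F).map σ = 1 := by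
  rw [← blk_neg_one, blk_unitary_iff]
  refine ⟨?_, by simp⟩
  ext i j
  fin_cases i <;> fin_cases j <;> simp [Matrix.mul_apply, Fin.sum_univ_two]

/-- `diag(1,-1,-1)` in `SU₃` -/
def DU (hF : Fintype.card F = q ^ 2) : ↥(Cfsg.SU 3 F q) :=
  ⟨DS, (mem_SU_iff_mat hF DS).mpr (Dm_unitary _)⟩

theorem DU_val (hF : Fintype.card F = q ^ 2) :
    (((DU hF : ↥(Cfsg.SU 3 F q)) : Matrix.SpecialLinearGroup (Fin 3) F) :
      Matrix (Fin 3) (Fin 3) F) = Dm := rfl

/-- every involution of `SU₃(q)`, `q` odd, is conjugate to `diag(1,-1,-1)` -/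
theorem exists_conj (hF : Fintype.card F = q ^ 2) (hq : Odd q) (t : ↥(Cfsg.SU 3 F q))
    (ht : t ≠ 1) (ht2 : t * t = 1) : ∃ g : ↥(Cfsg.SU 3 F q), g * DU hF * g⁻¹ = t := by
  have h2 := two_ne_zero_of_odd hq hF
  obtain ⟨M, hM⟩ : ∃ M : Matrix (Fin 3) (Fin 3) F,
    M = ((t : Matrix.SpecialLinearGroup (Fin 3) F) : Matrix (Fin 3) (Fin 3) F) := ⟨_, rfl⟩
  have hU : Mᵀ * M.map (cj hF) = 1 := by rw [hM]; exact (mem_SU_iff_mat hF t.1).mp t.2
  have hM2 : M * M = 1 := by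
    have := congrArg (fun x : ↥(Cfsg.SU 3 F q) =>
      ((x : Matrix.SpecialLinearGroup (Fin 3) F) : Matrix (Fin 3) (Fin 3) F)) ht2
    simpa [hM] using this
  have hdetM : M.det = 1 := by rw [hM]; exact t.1.2
  have hMne : M ≠ -1 := by
    intro h
    rw [h, Matrix.det_neg, Matrix.det_one] at hdetM
    simp at hdetM
    have : (2 : F) = 0 := by linear_combination -hdetM
    exact h2 this
  obtain ⟨v, hv, hvfix⟩ := exists_fixed_unit hF h2 M hU hM2 hMne
  obtain ⟨g, hg, hgv⟩ := exists_frame hF v hv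
  -- the conjugate `N = g⁻¹ t g`
  obtain ⟨T, hT⟩ : ∃ T : GL (Fin 3) F, T = Matrix.SpecialLinearGroup.toGL t.1 := ⟨_, rfl⟩
  have hTval : (T : Matrix (Fin 3) (Fin 3) F) = M := by rw [hT, hM]; rfl
  have hTmem : T ∈ Cfsg.GU 3 F q := by rw [hT]; exact t.2
  obtain ⟨N, hN⟩ : ∃ N : GL (Fin 3) F, N = g⁻¹ * T * g := ⟨_, rfl⟩
  have hNmem : N ∈ Cfsg.GU 3 F q := by
    rw [hN]
    exact Subgroup.mul_mem _ (Subgroup.mul_mem _ (Subgroup.inv_mem _ hg) hTmem) hg
  have hTT : T * T = 1 := by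
    apply Units.ext
    rw [Units.val_mul, hTval, hM2]
    rfl
  have hNN : N * N = 1 := by
    rw [hN]
    calc g⁻¹ * T * g * (g⁻¹ * T * g) = g⁻¹ * (T * T) * g := by group
      _ = 1 := by rw [hTT]; group
  have hNdet : (N : Matrix (Fin 3) (Fin 3) F).det = 1 := by
    have e : Matrix.GeneralLinearGroup.det N = Matrix.GeneralLinearGroup.det T := by
      rw [hN, map_mul, map_mul, map_inv, mul_comm, ← mul_assoc, mul_inv_cancel, one_mul]
    have := congrArg Units.val e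
    rw [Matrix.GeneralLinearGroup.val_det_apply, Matrix.GeneralLinearGroup.val_det_apply,
      hTval, hdetM] at this
    exact this
  have hgcol : (g : Matrix (Fin 3) (Fin 3) F) *ᵥ Pi.single 0 1 = v := by
    rw [Cfsg.Agent.Helper2.Herm.mulVec_single, hgv]
  have hNcol : (N : Matrix (Fin 3) (Fin 3) F) *ᵥ Pi.single 0 1 = Pi.single 0 1 := by
    rw [hN, Units.val_mul, Units.val_mul, ← Matrix.mulVec_mulVec, ← Matrix.mulVec_mulVec, hgcol,
      hTval, hvfix, ← hgcol, Matrix.mulVec_mulVec, ← Units.val_mul, inv_mul_cancel, Units.val_one,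
      Matrix.one_mulVec]
  have hN1 : (N : Matrix (Fin 3) (Fin 3) F) ≠ 1 := by
    intro h
    have hN' : N = 1 := Units.ext h
    apply ht
    have hT1 : T = 1 := by
      have : T = g * N * g⁻¹ := by rw [hN]; group
      rw [this, hN']; group
    apply Subtype.ext
    apply Matrix.SpecialLinearGroup.toGL_injective
    rw [← hT, hT1]
    exact (map_one _).symm
  have hND := eq_Dm h2 (cj hF) _ ((mem_GU_iff_mat hF N).mp hNmem) hNcol
    (by rw [← Units.val_mul, hNN]; rfl) hNdet hN1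
  -- adjust the determinant
  obtain ⟨δ, hδ⟩ : ∃ δ : Fˣ, δ = Matrix.GeneralLinearGroup.det g := ⟨_, rfl⟩
  have hδq : δ ^ (q + 1) = 1 := by rw [hδ]; exact det_pow_eq_one hF hg
  obtain ⟨d, hd⟩ : ∃ d : Fin 3 → Fˣ, d = ![δ⁻¹, 1, 1] := ⟨_, rfl⟩
  have hdq : ∀ i, d i ^ (q + 1) = 1 := by
    intro i
    rw [hd]
    fin_cases i
    · simp [hδq]
    · simp
    · simp
  have hemem := diagGL_mem hF d hdq
  have hedet : Matrix.GeneralLinearGroup.det (diagGL d) = δ⁻¹ := by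
    rw [det_diagGL, hd, Fin.prod_univ_three]
    simp
  have hecomm : diagGL d * N = N * diagGL d := by
    apply Units.ext
    rw [Units.val_mul, Units.val_mul, hND, Dm_eq]
    show Matrix.diagonal _ * Matrix.diagonal _ = Matrix.diagonal _ * Matrix.diagonal _
    rw [Matrix.diagonal_mul_diagonal, Matrix.diagonal_mul_diagonal]
    congr 1
    funext i
    rw [mul_comm]
  obtain ⟨g', hg'⟩ : ∃ g' : GL (Fin 3) F, g' = g * diagGL d := ⟨_, rfl⟩
  have hg'mem : g' ∈ Cfsg.GU 3 F q := by rw [hg']; exact Subgroup.mul_mem _ hg hemem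
  have hg'det : (g' : Matrix (Fin 3) (Fin 3) F).det = 1 := by
    have e : Matrix.GeneralLinearGroup.det g' = 1 := by
      rw [hg', map_mul, hedet, ← hδ, mul_inv_cancel]
    have := congrArg Units.val e
    rw [Matrix.GeneralLinearGroup.val_det_apply, Units.val_one] at this
    exact this
  obtain ⟨s, hs⟩ : ∃ s : Matrix.SpecialLinearGroup (Fin 3) F,
      s = ⟨(g' : Matrix (Fin 3) (Fin 3) F), hg'det⟩ := ⟨_, rfl⟩
  have hsGL : Matrix.SpecialLinearGroup.toGL s = g' := by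
    apply Units.ext
    rw [hs]
    rfl
  have hsmem : s ∈ Cfsg.SU 3 F q := by
    rw [Cfsg.Agent.Helper2.Herm.mem_SU_iff, hsGL]
    exact hg'mem
  refine ⟨⟨s, hsmem⟩, ?_⟩
  apply Subtype.ext
  apply Matrix.SpecialLinearGroup.toGL_injective
  show Matrix.SpecialLinearGroup.toGL (s * DS * s⁻¹) = Matrix.SpecialLinearGroup.toGL t.1
  rw [map_mul, map_mul, map_inv, hsGL, ← hT]
  have hDN : Matrix.SpecialLinearGroup.toGL (DS : Matrix.SpecialLinearGroup (Fin 3) F) = N := by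
    apply Units.ext
    rw [hND]
    rfl
  rw [hDN, hg']
  calc g * diagGL d * N * (g * diagGL d)⁻¹ = g * (diagGL d * N) * (diagGL d)⁻¹ * g⁻¹ := by group
    _ = g * (N * diagGL d) * (diagGL d)⁻¹ * g⁻¹ := by rw [hecomm]
    _ = g * N * g⁻¹ := by group
    _ = T := by rw [hN]; group

end Cfsg.Agent.Helper18.SU3Inv
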