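import Mathlib
import Cfsg.Agent.Helper18.SU3Inv4

set_option autoImplicit false

/-! Involutions of `SU(3,q)`, `q` odd: centralizer of `diag(1,-1,-1)` and commuting involutions. -/

namespace Cfsg.Agent.Helper18.SU3Inv

open Matrix Cfsg.Agent.Helper2.Herm Cfsg.Agent.Helper18.PSL3Inv

variable {F : Type*} [Field F] [Fintype F] {q : ℕ}

theorem idet_norm (hF : Fintype.card F = q ^ 2) {B : GL (Fin 2) F} (hB : B ∈ Cfsg.GU 2 F q) :
    idet B * cj hF (idet B) = 1 := by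
  rw [cj_apply, ← pow_succ', idet, ← Units.val_pow_eq_pow_val, inv_pow, det_pow_eq_one hF hB,
    inv_one, Units.val_one]

theorem psi0_mem (hF : Fintype.card F = q ^ 2) {B : GL (Fin 2) F} (hB : B ∈ Cfsg.GU 2 F q) :
    psi0 B ∈ Cfsg.SU 3 F q := by
  rw [mem_SU_iff_mat hF, psi0_val, blk_unitary_iff]
  exact ⟨(mem_GU_iff_mat hF B).mp hB, idet_norm hF hB⟩

theorem comm_DU_iff (hF : Fintype.card F = q ^ 2) (x : ↥(Cfsg.SU 3 F q)) :
    x ∈ Subgroup.centralizer ({DU hF} : Set ↥(Cfsg.SU 3 F q)) ↔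
      ((x : Matrix.SpecialLinearGroup (Fin 3) F) : Matrix (Fin 3) (Fin 3) F) * Dm =
        Dm * ((x : Matrix.SpecialLinearGroup (Fin 3) F) : Matrix (Fin 3) (Fin 3) F) := by
  rw [Subgroup.mem_centralizer_iff]
  constructor
  · intro h
    have := h (DU hF) rfl
    have h' := congrArg (fun y : ↥(Cfsg.SU 3 F q) =>
      ((y : Matrix.SpecialLinearGroup (Fin 3) F) : Matrix (Fin 3) (Fin 3) F)) this
    exact h'.symm
  · intro h y hy
    rw [Set.mem_singleton_iff] at hy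
    subst hy
    apply Subtype.ext
    apply Subtype.ext
    exact h.symm

/-- the centralizer of `diag(1,-1,-1)` in `SU₃(q)` has the order of `GU₂(q)` -/
theorem card_centralizer_DU (hF : Fintype.card F = q ^ 2) (h2 : (2 : F) ≠ 0) :
    Nat.card ↥(Subgroup.centralizer ({DU hF} : Set ↥(Cfsg.SU 3 F q))) =
      Nat.card ↥(Cfsg.GU 2 F q) := by
  symm
  apply Nat.card_congr
  refine Equiv.ofBijective (fun B => ⟨⟨psi0 B.1, psi0_mem hF B.2⟩, ?_⟩) ⟨?_, ?_⟩
  · rw [comm_DU_iff]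
    show (psi0 B.1 : Matrix (Fin 3) (Fin 3) F) * Dm = Dm * (psi0 B.1 : Matrix (Fin 3) (Fin 3) F)
    rw [psi0_val]
    exact blk_comm_Dm _ _
  · intro B B' h
    have h1 : (psi0 B.1 : Matrix (Fin 3) (Fin 3) F) = (psi0 B'.1 : Matrix (Fin 3) (Fin 3) F) :=
      congrArg (fun y : ↥(Subgroup.centralizer ({DU hF} : Set ↥(Cfsg.SU 3 F q))) =>
        (((y : ↥(Cfsg.SU 3 F q)) : Matrix.SpecialLinearGroup (Fin 3) F) :
          Matrix (Fin 3) (Fin 3) F)) h
    rw [psi0_val, psi0_val] at h1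
    exact Subtype.ext (Units.ext (blk_injective h1).1)
  · intro x
    obtain ⟨a, ha⟩ : ∃ a : Matrix (Fin 3) (Fin 3) F,
      a = (((x : ↥(Cfsg.SU 3 F q)) : Matrix.SpecialLinearGroup (Fin 3) F) :
          Matrix (Fin 3) (Fin 3) F) := ⟨_, rfl⟩
    have hcomm : a * Dm = Dm * a := by rw [ha]; exact (comm_DU_iff hF x.1).mp x.2
    have hform := comm_Dm_form h2 a hcomm
    obtain ⟨B0, hB0⟩ : ∃ B0 : Matrix (Fin 2) (Fin 2) F, B0 = !![a 1 1, a 1 2; a 2 1, a 2 2] :=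
      ⟨_, rfl⟩
    rw [← hB0] at hform
    have hU : aᵀ * a.map (cj hF) = 1 := by rw [ha]; exact (mem_SU_iff_mat hF x.1.1).mp x.1.2
    rw [hform, blk_unitary_iff] at hU
    have hdet : a.det = 1 := by rw [ha]; exact x.1.1.2
    rw [hform, det_blk] at hdet
    have hB0det : B0.det ≠ 0 := by
      intro h0
      rw [h0, mul_zero] at hdet
      exact zero_ne_one hdet
    obtain ⟨B, hB⟩ : ∃ B : GL (Fin 2) F, B = Matrix.GeneralLinearGroup.mkOfDetNeZero B0 hB0det :=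
      ⟨_, rfl⟩
    have hBval : (B : Matrix (Fin 2) (Fin 2) F) = B0 := by rw [hB]; rfl
    have hBmem : B ∈ Cfsg.GU 2 F q := by
      rw [mem_GU_iff_mat hF, hBval]
      exact hU.1
    refine ⟨⟨B, hBmem⟩, ?_⟩
    apply Subtype.ext
    apply Subtype.ext
    apply Subtype.ext
    show (psi0 B : Matrix (Fin 3) (Fin 3) F) = _
    rw [psi0_val, hBval, ← ha, hform]
    have hid : idet B = a 0 0 := by
      have := idet_mul_det B
      rw [hBval] at this
      exact mul_right_cancel₀ hB0det (this.trans hdet.symm)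
    rw [hid]

omit [Fintype F] in
/-- shape of an involution commuting with `diag(1,-1,-1)` -/
theorem inv_form (h2 : (2 : F) ≠ 0) (B : Matrix (Fin 2) (Fin 2) F) (d : F)
    (hX2 : blk B d * blk B d = 1) (hdet : (blk B d).det = 1) (hX1 : blk B d ≠ 1)
    (hXD : blk B d ≠ Dm) : d = -1 ∧ B * B = 1 ∧ B.det = -1 := by
  rw [blk_mul, ← blk_one] at hX2
  obtain ⟨hBB, hdd⟩ := blk_injective hX2
  rw [det_blk] at hdet
  have hd : (d - 1) * (d + 1) = 0 := by linear_combination hdd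
  rcases mul_eq_zero.mp hd with h | h
  · exfalso
    have hd1 : d = 1 := by linear_combination h
    rw [hd1, one_mul] at hdet
    rcases two_by_two h2 B hBB hdet with hB | hB
    · apply hX1
      rw [hd1, hB, blk_one]
    · apply hXD
      rw [hd1, hB, blk_neg_one]
  · have hd1 : d = -1 := by linear_combination h
    refine ⟨hd1, hBB, ?_⟩
    rw [hd1] at hdet
    linear_combination -hdet

omit [Fintype F] in
/-- two distinct commuting involutions in the centralizer of `diag(1,-1,-1)` -/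
theorem third_mat (h2 : (2 : F) ≠ 0) (X Y : Matrix (Fin 3) (Fin 3) F)
    (hXD : X * Dm = Dm * X) (hYD : Y * Dm = Dm * Y) (hX2 : X * X = 1) (hY2 : Y * Y = 1)
    (hXdet : X.det = 1) (hYdet : Y.det = 1) (hX1 : X ≠ 1) (hY1 : Y ≠ 1) (hXne : X ≠ Dm)
    (hYne : Y ≠ Dm) (hXY : X * Y = Y * X) (hne : Y ≠ X) : Y = Dm * X := by
  have hXf := comm_Dm_form h2 X hXD
  have hYf := comm_Dm_form h2 Y hYD
  obtain ⟨B, hB⟩ : ∃ B : Matrix (Fin 2) (Fin 2) F, B = !![X 1 1, X 1 2; X 2 1, X 2 2] := ⟨_, rfl⟩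
  obtain ⟨B', hB'⟩ : ∃ B' : Matrix (Fin 2) (Fin 2) F, B' = !![Y 1 1, Y 1 2; Y 2 1, Y 2 2] :=
    ⟨_, rfl⟩
  obtain ⟨d, hd⟩ : ∃ d : F, d = X 0 0 := ⟨_, rfl⟩
  obtain ⟨d', hd'⟩ : ∃ d' : F, d' = Y 0 0 := ⟨_, rfl⟩
  rw [← hB, ← hd] at hXf
  rw [← hB', ← hd'] at hYf
  rw [hXf] at hX2 hXdet hX1 hXne
  rw [hYf] at hY2 hYdet hY1 hYne
  obtain ⟨hd1, hBB, hBdet⟩ := inv_form h2 B d hX2 hXdet hX1 hXne
  obtain ⟨hd1', hBB', hBdet'⟩ := inv_form h2 B' d' hY2 hYdet hY1 hYne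
  have hcomm : B * B' = B' * B := by
    rw [hXf, hYf, blk_mul, blk_mul] at hXY
    exact (blk_injective hXY).1
  have hCC : (B * B') * (B * B') = 1 := by
    calc (B * B') * (B * B') = B * (B' * B) * B' := by simp only [Matrix.mul_assoc]
      _ = B * (B * B') * B' := by rw [hcomm]
      _ = (B * B) * (B' * B') := by simp only [Matrix.mul_assoc]
      _ = 1 := by rw [hBB, hBB', Matrix.mul_one]
  have hCdet : (B * B').det = 1 := by
    rw [Matrix.det_mul, hBdet, hBdet']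
    ring
  have hB'eq : B' = B * (B * B') := by rw [← Matrix.mul_assoc, hBB, Matrix.one_mul]
  rcases two_by_two h2 _ hCC hCdet with h | h
  · exfalso
    apply hne
    rw [h, Matrix.mul_one] at hB'eq
    rw [hXf, hYf, hB'eq, hd1, hd1']
  · rw [h] at hB'eq
    rw [hXf, hYf, hB'eq, hd1, hd1', ← blk_neg_one, blk_mul]
    congr 1
    · rw [Matrix.mul_neg, Matrix.mul_one, Matrix.neg_mul, Matrix.one_mul]
    · ring

end Cfsg.Agent.Helper18.SU3Inv
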