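import Mathlib
import Cfsg.Agent.Helper18.SU3Inv5

set_option autoImplicit false

/-! Involutions of `SU(3,q)`, `q` odd: the main theorem. -/

namespace Cfsg.Agent.Helper18.SU3Inv

open Matrix Cfsg.Agent.Helper2.Herm Cfsg.Agent.Helper18.PSL3Inv

theorem card_class_mul {G : Type*} [Group G] [Finite G] (c : G) :
    Nat.card {y : G // IsConj c y} * Nat.card (Subgroup.centralizer ({c} : Set G)) =
      Nat.card G := by
  have h1 : Nat.card (MulAction.orbit (ConjAct G) c) *
      Nat.card (MulAction.stabilizer (ConjAct G) c) = Nat.card (ConjAct G) := by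
    rw [← Nat.card_prod, Nat.card_congr (MulAction.orbitProdStabilizerEquivGroup (ConjAct G) c)]
  have h2 : Nat.card (MulAction.orbit (ConjAct G) c) = Nat.card {y : G // IsConj c y} := by
    apply Nat.card_congr
    apply Equiv.subtypeEquivRight
    intro y
    rw [ConjAct.mem_orbit_conjAct, isConj_comm]
  have h3 : Nat.card (ConjAct G) = Nat.card G := rfl
  rw [← h2, Subgroup.nat_card_centralizer_nat_card_stabilizer, h1, h3]

theorem card_centralizer_conj {G : Type*} [Group G] (g c : G) :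
    Nat.card (Subgroup.centralizer ({c * g * c⁻¹} : Set G)) =
      Nat.card (Subgroup.centralizer ({g} : Set G)) := by
  apply Nat.card_congr
  refine ⟨fun x => ⟨c⁻¹ * x.1 * c, ?_⟩, fun x => ⟨c * x.1 * c⁻¹, ?_⟩, fun x => ?_, fun x => ?_⟩
  · have hx := Subgroup.mem_centralizer_iff.mp x.2 (c * g * c⁻¹) (Set.mem_singleton _)
    rw [Subgroup.mem_centralizer_iff]
    intro z hz
    rw [Set.mem_singleton_iff] at hz
    subst hz
    calc z * (c⁻¹ * x.1 * c) = c⁻¹ * ((c * z * c⁻¹) * x.1) * c := by group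
      _ = c⁻¹ * (x.1 * (c * z * c⁻¹)) * c := by rw [hx]
      _ = c⁻¹ * x.1 * c * z := by group
  · have hx := Subgroup.mem_centralizer_iff.mp x.2 g (Set.mem_singleton _)
    rw [Subgroup.mem_centralizer_iff]
    intro z hz
    rw [Set.mem_singleton_iff] at hz
    subst hz
    calc c * g * c⁻¹ * (c * x.1 * c⁻¹) = c * (g * x.1) * c⁻¹ := by group
      _ = c * (x.1 * g) * c⁻¹ := by rw [hx]
      _ = c * x.1 * c⁻¹ * (c * g * c⁻¹) := by group
  · apply Subtype.ext; simp [mul_assoc]
  · apply Subtype.ext; simp [mul_assoc]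

variable {F : Type*} [Field F] [Fintype F] {q : ℕ}

/-- the underlying matrix -/
def val (x : ↥(Cfsg.SU 3 F q)) : Matrix (Fin 3) (Fin 3) F :=
  ((x : Matrix.SpecialLinearGroup (Fin 3) F) : Matrix (Fin 3) (Fin 3) F)

omit [Fintype F] in
theorem val_mul (x y : ↥(Cfsg.SU 3 F q)) : val (x * y) = val x * val y := rfl

omit [Fintype F] in
theorem val_one : val (1 : ↥(Cfsg.SU 3 F q)) = 1 := rfl

omit [Fintype F] in
theorem val_injective : Function.Injective (val : ↥(Cfsg.SU 3 F q) → _) := by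
  intro x y h
  exact Subtype.ext (Subtype.ext h)

omit [Fintype F] in
theorem val_det (x : ↥(Cfsg.SU 3 F q)) : (val x).det = 1 := x.1.2

theorem third_DU (hF : Fintype.card F = q ^ 2) (h2 : (2 : F) ≠ 0) (x y : ↥(Cfsg.SU 3 F q))
    (hx1 : x ≠ 1) (hx2 : x * x = 1) (hy1 : y ≠ 1) (hy2 : y * y = 1) (hxD : x ≠ DU hF)
    (hyD : y ≠ DU hF) (hyx : y ≠ x) (hDx : Commute (DU hF) x) (hDy : Commute (DU hF) y)
    (hxy : Commute x y) : y = DU hF * x := by
  apply val_injective
  rw [val_mul]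
  have hD : val (DU hF) = Dm := rfl
  rw [hD]
  apply third_mat h2 (val x) (val y)
  · rw [← hD, ← val_mul, ← val_mul, hDx.eq]
  · rw [← hD, ← val_mul, ← val_mul, hDy.eq]
  · rw [← val_mul, hx2, val_one]
  · rw [← val_mul, hy2, val_one]
  · exact val_det x
  · exact val_det y
  · intro h; exact hx1 (val_injective (h.trans val_one.symm))
  · intro h; exact hy1 (val_injective (h.trans val_one.symm))
  · intro h; exact hxD (val_injective (h.trans hD.symm))
  · intro h; exact hyD (val_injective (h.trans hD.symm))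
  · rw [← val_mul, ← val_mul, hxy.eq]
  · intro h; exact hyx (val_injective h)

theorem third (hF : Fintype.card F = q ^ 2) (hq : Odd q) (t x y : ↥(Cfsg.SU 3 F q))
    (ht1 : t ≠ 1) (ht2 : t * t = 1)
    (hx1 : x ≠ 1) (hx2 : x * x = 1) (hy1 : y ≠ 1) (hy2 : y * y = 1) (hxt : x ≠ t)
    (hyt : y ≠ t) (hyx : y ≠ x) (htx : Commute t x) (hty : Commute t y)
    (hxy : Commute x y) : y = t * x := by
  have h2 := two_ne_zero_of_odd hq hF
  obtain ⟨g, hg⟩ := exists_conj hF hq t ht1 ht2
  obtain ⟨φ, hφ⟩ : ∃ φ : MulAut ↥(Cfsg.SU 3 F q), φ = MulAut.conj g := ⟨_, rfl⟩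
  have hφD : φ (DU hF) = t := by rw [hφ, MulAut.conj_apply, hg]
  have hφD' : φ.symm t = DU hF := by rw [← hφD, MulEquiv.symm_apply_apply]
  have key := third_DU hF h2 (φ.symm x) (φ.symm y)
    (by intro h; apply hx1; rw [← φ.apply_symm_apply x, h, map_one])
    (by rw [← map_mul, hx2, map_one])
    (by intro h; apply hy1; rw [← φ.apply_symm_apply y, h, map_one])
    (by rw [← map_mul, hy2, map_one])
    (by intro h; apply hxt; rw [← φ.apply_symm_apply x, h, hφD])
    (by intro h; apply hyt; rw [← φ.apply_symm_apply y, h, hφD])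
    (by intro h; exact hyx (φ.symm.injective h))
    (by rw [← hφD']; exact htx.map φ.symm)
    (by rw [← hφD']; exact hty.map φ.symm)
    (hxy.map φ.symm)
  have := congrArg φ key
  rw [map_mul, φ.apply_symm_apply, φ.apply_symm_apply, hφD] at this
  exact this

theorem card_GU2 (hF : Fintype.card F = q ^ 2) :
    Nat.card ↥(Cfsg.GU 2 F q) = q * (q + 1) * (q ^ 2 - 1) := by
  rw [card_GU_closed hF 2]
  simp [Finset.prod_range_succ]
  ring

theorem card_SU3 (hF : Fintype.card F = q ^ 2) :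
    (q + 1) * Nat.card ↥(Cfsg.SU 3 F q) = q ^ 3 * ((q + 1) * (q ^ 2 - 1) * (q ^ 3 + 1)) := by
  rw [card_SU_closed hF 3 (by norm_num)]
  simp [Finset.prod_range_succ]

theorem main (hq : Odd q) (hF : Fintype.card F = q ^ 2) (t : ↥(Cfsg.SU 3 F q)) (ht : t ≠ 1)
    (ht2 : t * t = 1) :
    (∀ x : ↥(Cfsg.SU 3 F q), x ≠ 1 → x * x = 1 → ∃ g : ↥(Cfsg.SU 3 F q), g * t * g⁻¹ = x) ∧
    Nat.card {x : ↥(Cfsg.SU 3 F q) // x ≠ 1 ∧ x * x = 1} = q ^ 2 * (q ^ 2 - q + 1) ∧
    Nat.card ↥(Subgroup.centralizer ({t} : Set ↥(Cfsg.SU 3 F q))) = q * (q + 1) * (q ^ 2 - 1) ∧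
    ∀ x : ↥(Cfsg.SU 3 F q), x ≠ 1 → x * x = 1 → x ≠ t → Commute t x →
      Nat.card {y : ↥(Cfsg.SU 3 F q) // y ≠ 1 ∧ y * y = 1 ∧ y ≠ t ∧ y ≠ x ∧ Commute t y ∧
        Commute x y} = 1 := by
  have h2 := two_ne_zero_of_odd hq hF
  have hq2 := two_le_q hF
  have hconj : ∀ x : ↥(Cfsg.SU 3 F q), x ≠ 1 → x * x = 1 →
      ∃ g : ↥(Cfsg.SU 3 F q), g * t * g⁻¹ = x := by
    intro x hx1 hx2
    obtain ⟨g, hg⟩ := exists_conj hF hq t ht ht2
    obtain ⟨k, hk⟩ := exists_conj hF hq x hx1 hx2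
    refine ⟨k * g⁻¹, ?_⟩
    rw [← hg, ← hk]
    group
  have hcent : Nat.card ↥(Subgroup.centralizer ({t} : Set ↥(Cfsg.SU 3 F q))) =
      q * (q + 1) * (q ^ 2 - 1) := by
    obtain ⟨g, hg⟩ := exists_conj hF hq t ht ht2
    rw [← hg, card_centralizer_conj, card_centralizer_DU hF h2, card_GU2 hF]
  refine ⟨hconj, ?_, hcent, ?_⟩
  · have e : Nat.card {x : ↥(Cfsg.SU 3 F q) // x ≠ 1 ∧ x * x = 1} =
        Nat.card {y : ↥(Cfsg.SU 3 F q) // IsConj t y} := by
      apply Nat.card_congr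
      apply Equiv.subtypeEquivRight
      intro x
      constructor
      · rintro ⟨hx1, hx2⟩
        obtain ⟨g, hg⟩ := hconj x hx1 hx2
        exact isConj_iff.mpr ⟨g, hg⟩
      · intro h
        obtain ⟨g, hg⟩ := isConj_iff.mp h
        refine ⟨?_, ?_⟩
        · intro hx
          apply ht
          rw [hx] at hg
          have : t = g⁻¹ * (g * t * g⁻¹) * g := by group
          rw [this, hg]
          group
        · rw [← hg]
          calc g * t * g⁻¹ * (g * t * g⁻¹) = g * (t * t) * g⁻¹ := by group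
            _ = 1 := by rw [ht2]; group
    rw [e]
    have h1 := card_class_mul t
    rw [hcent] at h1
    have h3 := card_SU3 hF
    rw [← h1] at h3
    have hpos : 0 < q * (q + 1) * (q ^ 2 - 1) := by
      have : 1 < q ^ 2 := by nlinarith
      apply Nat.mul_pos (Nat.mul_pos (by omega) (by omega))
      omega
    have hfac : q ^ 3 + 1 = (q + 1) * (q ^ 2 - q + 1) := by
      have hle : q ≤ q ^ 2 := by nlinarith
      zify [hle]
      ring
    have h4 : Nat.card {y : ↥(Cfsg.SU 3 F q) // IsConj t y} * (q * (q + 1) * (q ^ 2 - 1)) * (q + 1)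
        = q ^ 2 * (q ^ 2 - q + 1) * (q * (q + 1) * (q ^ 2 - 1)) * (q + 1) := by
      rw [hfac] at h3
      linarith
    have h5 := Nat.eq_of_mul_eq_mul_right (by omega : 0 < q + 1) h4
    exact Nat.eq_of_mul_eq_mul_right hpos h5
  · intro x hx1 hx2 hxt htx
    rw [Nat.card_eq_one_iff_unique]
    constructor
    · constructor
      rintro ⟨y, hy1, hy2, hyt, hyx, hty, hxy⟩ ⟨y', hy1', hy2', hyt', hyx', hty', hxy'⟩
      apply Subtype.ext
      show y = y'
      rw [third hF hq t x y ht ht2 hx1 hx2 hy1 hy2 hxt hyt hyx htx hty hxy,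
        third hF hq t x y' ht ht2 hx1 hx2 hy1' hy2' hxt hyt' hyx' htx hty' hxy']
    · refine ⟨⟨t * x, ?_, ?_, ?_, ?_, ?_, ?_⟩⟩
      · intro h
        apply hxt
        calc x = t * (t * x) := by rw [← mul_assoc, ht2, one_mul]
          _ = t := by rw [h, mul_one]
      · calc t * x * (t * x) = t * (x * t) * x := by group
          _ = t * (t * x) * x := by rw [htx.eq]
          _ = (t * t) * (x * x) := by group
          _ = 1 := by rw [ht2, hx2, mul_one]
      · intro h
        apply hx1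
        exact mul_left_cancel (h.trans (mul_one t).symm)
      · intro h
        apply ht
        exact mul_right_cancel (h.trans (one_mul x).symm)
      · exact (Commute.refl t).mul_right htx
      · exact htx.symm.mul_right (Commute.refl x)

end Cfsg.Agent.Helper18.SU3Inv
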