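import Mathlib
import Cfsg.Agent.Helper18.SU3Inv6

set_option autoImplicit false

/-! Involutions of `SU(3,q)` as reflections `2 v v* - 1` in unit vectors. -/

namespace Cfsg.Agent.Helper18.SU3Inv

open Matrix Cfsg.Agent.Helper2.Herm Cfsg.Agent.Helper18.PSL3Inv

variable {F : Type*} [Field F] [Fintype F] {q : ℕ}

/-- conjugate of a vector -/
def cv (hF : Fintype.card F = q ^ 2) {n : ℕ} (v : Fin n → F) : Fin n → F := cj hF ∘ v

theorem cv_apply (hF : Fintype.card F = q ^ 2) {n : ℕ} (v : Fin n → F) (i : Fin n) :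
    cv hF v i = cj hF (v i) := rfl

theorem cv_cv (hF : Fintype.card F = q ^ 2) {n : ℕ} (v : Fin n → F) : cv hF (cv hF v) = v := by
  ext i
  rw [cv_apply, cv_apply, cj_cj]

theorem cv_dot (hF : Fintype.card F = q ^ 2) {n : ℕ} (v u : Fin n → F) :
    cv hF v ⬝ᵥ u = Cfsg.hermForm n F q u v := by
  rw [hf_eq hF, dotProduct]
  apply Finset.sum_congr rfl
  intro i _
  rw [cv_apply, mul_comm]

theorem dot_cv (hF : Fintype.card F = q ^ 2) {n : ℕ} (v u : Fin n → F) :
    u ⬝ᵥ cv hF v = Cfsg.hermForm n F q u v := by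
  rw [dotProduct_comm, cv_dot]

/-- the matrix `2 v v* - 1` -/
def Rm (hF : Fintype.card F = q ^ 2) {n : ℕ} (v : Fin n → F) : Matrix (Fin n) (Fin n) F :=
  (2 : F) • vecMulVec v (cv hF v) - 1

theorem Rm_apply (hF : Fintype.card F = q ^ 2) {n : ℕ} (v : Fin n → F) (i j : Fin n) :
    Rm hF v i j = 2 * (v i * cj hF (v j)) - (1 : Matrix (Fin n) (Fin n) F) i j := by
  rw [Rm, Matrix.sub_apply, Matrix.smul_apply, vecMulVec_apply, cv_apply, smul_eq_mul]

theorem Rm_mulVec (hF : Fintype.card F = q ^ 2) {n : ℕ} (v u : Fin n → F) :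
    Rm hF v *ᵥ u = (2 * Cfsg.hermForm n F q u v) • v - u := by
  rw [Rm, Matrix.sub_mulVec, Matrix.smul_mulVec, vecMulVec_mulVec, Matrix.one_mulVec, cv_dot,
    op_smul_eq_smul, smul_smul]

theorem Rm_mul_Rm (hF : Fintype.card F = q ^ 2) {n : ℕ} (v w : Fin n → F) :
    Rm hF v * Rm hF w = (4 * Cfsg.hermForm n F q w v) • vecMulVec v (cv hF w) -
      (2 : F) • vecMulVec v (cv hF v) - (2 : F) • vecMulVec w (cv hF w) + 1 := by
  rw [Rm, Rm, Matrix.sub_mul, Matrix.mul_sub, Matrix.mul_sub, Matrix.mul_one, Matrix.one_mul,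
    Matrix.mul_one, Matrix.smul_mul, Matrix.mul_smul, vecMulVec_mul_vecMulVec, cv_dot,
    vecMulVec_smul, smul_smul, smul_smul]
  have : (2 : F) * 2 * Cfsg.hermForm n F q w v = 4 * Cfsg.hermForm n F q w v := by ring
  rw [this]
  abel

theorem Rm_sq (hF : Fintype.card F = q ^ 2) {n : ℕ} (v : Fin n → F)
    (hv : Cfsg.hermForm n F q v v = 1) : Rm hF v * Rm hF v = 1 := by
  rw [Rm_mul_Rm, hv, mul_one]
  have : (4 : F) • vecMulVec v (cv hF v) =
      (2 : F) • vecMulVec v (cv hF v) + (2 : F) • vecMulVec v (cv hF v) := by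
    rw [← add_smul]
    norm_num
  rw [this]
  abel

theorem Rm_transpose (hF : Fintype.card F = q ^ 2) {n : ℕ} (v : Fin n → F) :
    (Rm hF v)ᵀ = (2 : F) • vecMulVec (cv hF v) v - 1 := by
  rw [Rm, Matrix.transpose_sub, Matrix.transpose_smul, transpose_vecMulVec, Matrix.transpose_one]

theorem Rm_map (hF : Fintype.card F = q ^ 2) {n : ℕ} (v : Fin n → F) :
    (Rm hF v).map (cj hF) = (2 : F) • vecMulVec (cv hF v) v - 1 := by
  ext i j
  rw [Matrix.map_apply, Rm_apply, Matrix.sub_apply, Matrix.smul_apply, vecMulVec_apply, cv_apply,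
    map_sub, map_mul, map_mul, cj_cj, smul_eq_mul, map_ofNat]
  congr 1
  rw [Matrix.one_apply]
  split_ifs
  · exact map_one _
  · exact map_zero _

theorem Rm_unitary (hF : Fintype.card F = q ^ 2) {n : ℕ} (v : Fin n → F)
    (hv : Cfsg.hermForm n F q v v = 1) : (Rm hF v)ᵀ * (Rm hF v).map (cj hF) = 1 := by
  have h := Rm_sq hF (cv hF v) (by
    rw [← dot_cv hF, cv_cv, dotProduct_comm, dot_cv hF, hv])
  rw [Rm_transpose, Rm_map]
  rw [Rm, cv_cv] at h
  exact h

theorem Rm_smul (hF : Fintype.card F = q ^ 2) {n : ℕ} (v : Fin n → F) (c : F)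
    (hc : c * cj hF c = 1) : Rm hF (c • v) = Rm hF v := by
  ext i j
  rw [Rm_apply, Rm_apply, Pi.smul_apply, Pi.smul_apply, smul_eq_mul, smul_eq_mul, map_mul]
  congr 1
  calc 2 * (c * v i * (cj hF c * cj hF (v j))) = (c * cj hF c) * (2 * (v i * cj hF (v j))) := by
        ring
    _ = 2 * (v i * cj hF (v j)) := by rw [hc, one_mul]

theorem det_Rm (hF : Fintype.card F = q ^ 2) (v : Fin 3 → F)
    (hv : Cfsg.hermForm 3 F q v v = 1) : (Rm hF v).det = 1 := by
  rw [hf_eq hF, Fin.sum_univ_three] at hv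
  rw [Matrix.det_fin_three]
  simp only [Rm_apply, Matrix.one_apply_eq, Matrix.one_apply_ne, ne_eq, Fin.reduceEq,
    not_false_eq_true, Fin.isValue, sub_zero]
  linear_combination 2 * hv

theorem Rm_ne_one (hF : Fintype.card F = q ^ 2) (h2 : (2 : F) ≠ 0) (v : Fin 3 → F) :
    Rm hF v ≠ 1 := by
  intro h
  have h00 := congrFun (congrFun h 0) 0
  have h01 := congrFun (congrFun h 0) 1
  have h11 := congrFun (congrFun h 1) 1
  rw [Rm_apply] at h00 h01 h11
  simp only [Matrix.one_apply_eq, Matrix.one_apply_ne, ne_eq, Fin.reduceEq, not_false_eq_true,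
    Fin.isValue, sub_zero] at h00 h01 h11
  have e0 : v 0 * cj hF (v 0) = 1 := by
    have : (2 : F) * (v 0 * cj hF (v 0) - 1) = 0 := by linear_combination h00
    have := (mul_eq_zero.mp this).resolve_left h2
    linear_combination this
  have e1 : v 1 * cj hF (v 1) = 1 := by
    have : (2 : F) * (v 1 * cj hF (v 1) - 1) = 0 := by linear_combination h11
    have := (mul_eq_zero.mp this).resolve_left h2
    linear_combination this
  have e01 : v 0 * cj hF (v 1) = 0 := (mul_eq_zero.mp h01).resolve_left h2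
  rcases mul_eq_zero.mp e01 with h | h
  · rw [h, zero_mul] at e0
    exact zero_ne_one e0
  · rw [h, mul_zero] at e1
    exact zero_ne_one e1

/-- conjugating a reflection by a unitary matrix -/
theorem conj_Rm (hF : Fintype.card F = q ^ 2) {n : ℕ} (G G' : Matrix (Fin n) (Fin n) F)
    (hU : Gᵀ * G.map (cj hF) = 1) (hG : G * G' = 1) (v : Fin n → F) :
    G * Rm hF v * G' = Rm hF (G *ᵥ v) := by
  have h1 : (G.map (cj hF))ᵀ * G = 1 := by
    have := congrArg Matrix.transpose hU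
    rw [Matrix.transpose_mul, Matrix.transpose_transpose, Matrix.transpose_one] at this
    exact this
  have hG' : G' = (G.map (cj hF))ᵀ := by
    calc G' = ((G.map (cj hF))ᵀ * G) * G' := by rw [h1, Matrix.one_mul]
      _ = (G.map (cj hF))ᵀ * (G * G') := by rw [Matrix.mul_assoc]
      _ = (G.map (cj hF))ᵀ := by rw [hG, Matrix.mul_one]
  have h3 : cv hF v ᵥ* G' = cv hF (G *ᵥ v) := by
    rw [hG', Matrix.vecMul_transpose]
    exact (Cfsg.Agent.Helper28.GUlib.comp_mulVec (cj hF) G v).symm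
  rw [Rm, Rm, Matrix.mul_sub, Matrix.sub_mul, Matrix.mul_one, hG, Matrix.mul_smul,
    Matrix.smul_mul, mul_vecMulVec, vecMulVec_mul, h3]

end Cfsg.Agent.Helper18.SU3Inv
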