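import Mathlib
import Cfsg.Agent.Helper18.SU3Refl1

set_option autoImplicit false

/-! Involutions of `SU(3,q)` as reflections: the dictionary. -/

namespace Cfsg.Agent.Helper18.SU3Inv

open Matrix Cfsg.Agent.Helper2.Herm Cfsg.Agent.Helper18.PSL3Inv

variable {F : Type*} [Field F] [Fintype F] {q : ℕ}

/-- the reflection in a unit vector, in `SU₃` -/
def R (hF : Fintype.card F = q ^ 2) (w : Fin 3 → F) (hw : Cfsg.hermForm 3 F q w w = 1) :
    ↥(Cfsg.SU 3 F q) :=
  ⟨⟨Rm hF w, det_Rm hF w hw⟩, (mem_SU_iff_mat hF _).mpr (Rm_unitary hF w hw)⟩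

theorem val_R (hF : Fintype.card F = q ^ 2) (w : Fin 3 → F) (hw : Cfsg.hermForm 3 F q w w = 1) :
    val (R hF w hw) = Rm hF w := rfl

theorem R_sq (hF : Fintype.card F = q ^ 2) (w : Fin 3 → F) (hw : Cfsg.hermForm 3 F q w w = 1) :
    R hF w hw * R hF w hw = 1 := by
  apply val_injective
  rw [val_mul, val_R, Rm_sq hF w hw, val_one]

theorem R_ne_one (hF : Fintype.card F = q ^ 2) (h2 : (2 : F) ≠ 0) (w : Fin 3 → F)
    (hw : Cfsg.hermForm 3 F q w w = 1) : R hF w hw ≠ 1 := by
  intro h
  have := congrArg val h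
  rw [val_R, val_one] at this
  exact Rm_ne_one hF h2 w this

/-- the first standard basis vector -/
def e0 : Fin 3 → F := Pi.single 0 1

theorem e0_unit (hF : Fintype.card F = q ^ 2) : Cfsg.hermForm 3 F q (e0 : Fin 3 → F) e0 = 1 := by
  rw [e0, hf_single hF, if_pos rfl]

theorem Rm_e0 (hF : Fintype.card F = q ^ 2) : Rm hF (e0 : Fin 3 → F) = Dm := by
  ext i j
  rw [Rm_apply]
  fin_cases i <;> fin_cases j <;> simp [e0, Dm] <;> norm_num

theorem DU_eq_R (hF : Fintype.card F = q ^ 2) : DU hF = R hF e0 (e0_unit hF) := by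
  apply val_injective
  rw [val_R, Rm_e0]
  rfl

theorem val_mulVec_unit (x : ↥(Cfsg.SU 3 F q)) (u v : Fin 3 → F) :
    Cfsg.hermForm 3 F q (val x *ᵥ u) (val x *ᵥ v) = Cfsg.hermForm 3 F q u v := x.2 u v

theorem val_mul_val_inv (x : ↥(Cfsg.SU 3 F q)) : val x * val x⁻¹ = 1 := by
  rw [← val_mul, mul_inv_cancel, val_one]

theorem conj_R (hF : Fintype.card F = q ^ 2) (g : ↥(Cfsg.SU 3 F q)) (w : Fin 3 → F)
    (hw : Cfsg.hermForm 3 F q w w = 1) :
    g * R hF w hw * g⁻¹ = R hF (val g *ᵥ w) (by rw [val_mulVec_unit, hw]) := by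
  apply val_injective
  rw [val_mul, val_mul, val_R, val_R]
  exact conj_Rm hF (val g) (val g⁻¹) ((mem_SU_iff_mat hF g.1).mp g.2) (val_mul_val_inv g) w

/-- every involution is a reflection -/
theorem exists_R (hF : Fintype.card F = q ^ 2) (hq : Odd q) (x : ↥(Cfsg.SU 3 F q))
    (hx1 : x ≠ 1) (hx2 : x * x = 1) :
    ∃ (w : Fin 3 → F) (hw : Cfsg.hermForm 3 F q w w = 1), R hF w hw = x := by
  obtain ⟨g, hg⟩ := exists_conj hF hq x hx1 hx2
  refine ⟨val g *ᵥ e0, by rw [val_mulVec_unit, e0_unit hF], ?_⟩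
  rw [← hg, DU_eq_R, conj_R]

theorem R_eq_R_iff (hF : Fintype.card F = q ^ 2) (h2 : (2 : F) ≠ 0) (v w : Fin 3 → F)
    (hv : Cfsg.hermForm 3 F q v v = 1) (hw : Cfsg.hermForm 3 F q w w = 1) :
    R hF v hv = R hF w hw ↔ w = Cfsg.hermForm 3 F q w v • v := by
  constructor
  · intro h
    have h1 := congrArg val h
    rw [val_R, val_R] at h1
    have h3 := congrArg (fun M => M *ᵥ w) h1
    simp only [Rm_mulVec, hw, mul_one] at h3
    have h4 : (2 : F) • w = (2 : F) • (Cfsg.hermForm 3 F q w v • v) := by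
      rw [two_smul, smul_smul]
      have : (2 * Cfsg.hermForm 3 F q w v) • v = w + w := by
        rw [two_smul] at h3
        have := congrArg (fun z => z + w) h3
        simp only [sub_add_cancel] at this
        rw [this]
      rw [this]
    have h5 := congrArg (fun z => (2 : F)⁻¹ • z) h4
    simp only [smul_smul, inv_mul_cancel₀ h2, one_smul] at h5
    rw [← smul_smul, ← smul_smul, smul_smul (2 : F)⁻¹ 2, inv_mul_cancel₀ h2, one_smul] at h5
    exact h5
  · intro h
    apply val_injective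
    rw [val_R, val_R]
    have hc : Cfsg.hermForm 3 F q w v * cj hF (Cfsg.hermForm 3 F q w v) = 1 := by
      have := hw
      nth_rewrite 1 [h] at this
      nth_rewrite 2 [h] at this
      rw [hf_smul_left, hf_smul_right hF, hv, mul_one] at this
      exact this
    rw [h, Rm_smul hF v _ hc]

theorem commute_R_iff (hF : Fintype.card F = q ^ 2) (h2 : (2 : F) ≠ 0) (v w : Fin 3 → F)
    (hv : Cfsg.hermForm 3 F q v v = 1) (hw : Cfsg.hermForm 3 F q w w = 1) :
    Commute (R hF v hv) (R hF w hw) ↔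
      Cfsg.hermForm 3 F q v w = 0 ∨ R hF v hv = R hF w hw := by
  constructor
  · intro h
    by_cases h0 : Cfsg.hermForm 3 F q v w = 0
    · exact Or.inl h0
    · right
      have hwv : Cfsg.hermForm 3 F q w v ≠ 0 := by
        intro h'
        exact h0 (hf_eq_zero_of_symm hF h')
      have h1 : Rm hF v * Rm hF w = Rm hF w * Rm hF v := by
        have := congrArg val h.eq
        rw [val_mul, val_mul, val_R, val_R] at this
        exact this
      have h3 := congrArg (fun M => M *ᵥ w) h1
      simp only [← Matrix.mulVec_mulVec] at h3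
      obtain ⟨u, hu⟩ : ∃ u : Fin 3 → F, u = Rm hF v *ᵥ w := ⟨_, rfl⟩
      have hww : Rm hF w *ᵥ w = w := by
        rw [Rm_mulVec, hw, mul_one, two_smul]
        abel
      rw [hww, ← hu, Rm_mulVec] at h3
      -- `u = h(u,w) w`
      have h4 : (2 : F) • u = (2 * Cfsg.hermForm 3 F q u w) • w := by
        rw [two_smul]
        have := congrArg (fun z => z + u) h3
        simp only [sub_add_cancel] at this
        exact this
      rw [Rm_mulVec] at hu
      -- so `2 h(w,v) v = (1 + h(u,w)) w`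
      have h5 : (2 * Cfsg.hermForm 3 F q w v) • v = (1 + Cfsg.hermForm 3 F q u w) • w := by
        have e1 : (2 * Cfsg.hermForm 3 F q w v) • v = u + w := by rw [hu]; abel
        have e2 : (2 : F) • ((2 * Cfsg.hermForm 3 F q w v) • v) =
            (2 : F) • ((1 + Cfsg.hermForm 3 F q u w) • w) := by
          rw [e1, smul_add, h4, smul_smul, ← add_smul]
          congr 1
          ring
        have e3 := congrArg (fun z => (2 : F)⁻¹ • z) e2
        simp only [smul_smul (2 : F)⁻¹ 2, inv_mul_cancel₀ h2, one_smul] at e3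
        exact e3
      obtain ⟨μ, hμ⟩ : ∃ μ : F, μ = (2 * Cfsg.hermForm 3 F q w v)⁻¹ *
          (1 + Cfsg.hermForm 3 F q u w) := ⟨_, rfl⟩
      have h6 : v = μ • w := by
        have e3 := congrArg (fun z => (2 * Cfsg.hermForm 3 F q w v)⁻¹ • z) h5
        simp only [smul_smul, inv_mul_cancel₀ (mul_ne_zero h2 hwv), one_smul] at e3
        rw [e3, hμ]
      have hμ1 : μ * cj hF μ = 1 := by
        have := hv
        rw [h6, hf_smul_left, hf_smul_right hF, hw, mul_one] at this
        exact this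
      apply val_injective
      rw [val_R, val_R]
      rw [h6, Rm_smul hF w μ hμ1]
  · rintro (h | h)
    · have h' : Cfsg.hermForm 3 F q w v = 0 := hf_eq_zero_of_symm hF h
      apply val_injective
      show val (R hF v hv * R hF w hw) = val (R hF w hw * R hF v hv)
      rw [val_mul, val_mul, val_R, val_R, Rm_mul_Rm, Rm_mul_Rm, h, h']
      simp only [mul_zero, zero_smul, zero_sub]
      abel
    · rw [h]

end Cfsg.Agent.Helper18.SU3Inv
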