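import Mathlib
import Cfsg.Agent.Helper18.SU3Refl2

set_option autoImplicit false

/-! Involutions of `SU(3,q)` as reflections: fibres of `w ↦ R w`. -/

namespace Cfsg.Agent.Helper18.SU3Inv

open Matrix Cfsg.Agent.Helper2.Herm Cfsg.Agent.Helper18.PSL3Inv

variable {F : Type*} [Field F] [Fintype F] {q : ℕ}

/-- unit vectors -/
abbrev Uv (F : Type*) [Field F] (q : ℕ) := {w : Fin 3 → F // Cfsg.hermForm 3 F q w w = 1}

/-- the reflection of a unit vector -/
def RU (hF : Fintype.card F = q ^ 2) (w : Uv F q) : ↥(Cfsg.SU 3 F q) := R hF w.1 w.2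

theorem card_fiber_R (hF : Fintype.card F = q ^ 2) (h2 : (2 : F) ≠ 0) (w0 : Uv F q) :
    Nat.card {w : Uv F q // RU hF w = RU hF w0} = q + 1 := by
  rw [← card_ker_norm hF]
  symm
  apply Nat.card_congr
  have hcc : ∀ c : (powMonoidHom (q + 1) : Fˣ →* Fˣ).ker,
      ((c : Fˣ) : F) * cj hF ((c : Fˣ) : F) = 1 := by
    intro c
    have := c.2
    rw [MonoidHom.mem_ker, powMonoidHom_apply] at this
    have h := congrArg Units.val this
    rw [Units.val_pow_eq_pow_val, Units.val_one] at h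
    rw [cj_apply, ← pow_succ']
    exact h
  refine Equiv.ofBijective (fun c => ⟨⟨((c : Fˣ) : F) • w0.1, ?_⟩, ?_⟩) ⟨?_, ?_⟩
  · rw [hf_smul_left, hf_smul_right hF, w0.2, mul_one]
    exact hcc c
  · apply val_injective
    show Rm hF (((c : Fˣ) : F) • w0.1) = Rm hF w0.1
    exact Rm_smul hF w0.1 _ (hcc c)
  · intro c c' h
    have h1 : ((c : Fˣ) : F) • w0.1 = ((c' : Fˣ) : F) • w0.1 :=
      congrArg (fun z : {w : Uv F q // RU hF w = RU hF w0} => ((z : Uv F q) : Fin 3 → F)) h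
    have h3 := congrArg (fun z => Cfsg.hermForm 3 F q z w0.1) h1
    simp only [hf_smul_left, w0.2, mul_one] at h3
    exact Subtype.ext (Units.ext h3)
  · rintro ⟨w, hw⟩
    have h1 : w.1 = Cfsg.hermForm 3 F q w.1 w0.1 • w0.1 :=
      (R_eq_R_iff hF h2 w0.1 w.1 w0.2 w.2).mp hw.symm
    have hc : Cfsg.hermForm 3 F q w.1 w0.1 * cj hF (Cfsg.hermForm 3 F q w.1 w0.1) = 1 := by
      have := w.2
      nth_rewrite 1 [h1] at this
      nth_rewrite 2 [h1] at this
      rw [hf_smul_left, hf_smul_right hF, w0.2, mul_one] at this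
      exact this
    have hc0 : Cfsg.hermForm 3 F q w.1 w0.1 ≠ 0 := by
      intro h0
      rw [h0, zero_mul] at hc
      exact zero_ne_one hc
    refine ⟨⟨Units.mk0 _ hc0, ?_⟩, ?_⟩
    · rw [MonoidHom.mem_ker, powMonoidHom_apply]
      apply Units.ext
      rw [Units.val_pow_eq_pow_val, Units.val_mk0, Units.val_one, pow_succ', ← cj_apply hF]
      exact hc
    · apply Subtype.ext
      apply Subtype.ext
      exact h1.symm

/-- counting involutions through unit vectors -/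
theorem card_preimage (hF : Fintype.card F = q ^ 2) (hq : Odd q)
    (P : ↥(Cfsg.SU 3 F q) → Prop) (hP : ∀ x, P x → x ≠ 1 ∧ x * x = 1) :
    Nat.card {w : Uv F q // P (RU hF w)} = (q + 1) * Nat.card {x : ↥(Cfsg.SU 3 F q) // P x} := by
  classical
  have h2 := two_ne_zero_of_odd hq hF
  obtain ⟨f, hf⟩ : ∃ f : {w : Uv F q // P (RU hF w)} → {x : ↥(Cfsg.SU 3 F q) // P x},
      f = fun w => ⟨RU hF w.1, w.2⟩ := ⟨_, rfl⟩
  have hfa : ∀ a, (f a).1 = RU hF a.1 := by
    intro a
    rw [hf]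
  haveI : Fintype {x : ↥(Cfsg.SU 3 F q) // P x} := Fintype.ofFinite _
  haveI : ∀ y, Fintype {a : {w : Uv F q // P (RU hF w)} // f a = y} := fun y => Fintype.ofFinite _
  rw [← Nat.card_congr (Equiv.sigmaFiberEquiv f), Nat.card_sigma]
  have hfib : ∀ y, Nat.card {a : {w : Uv F q // P (RU hF w)} // f a = y} = q + 1 := by
    intro y
    obtain ⟨w0, hw0, hR⟩ := exists_R hF hq y.1 (hP y.1 y.2).1 (hP y.1 y.2).2
    rw [← card_fiber_R hF h2 ⟨w0, hw0⟩]
    apply Nat.card_congr
    refine ⟨fun a => ⟨a.1.1, ?_⟩, fun w => ⟨⟨w.1, ?_⟩, ?_⟩, fun a => ?_, fun w => ?_⟩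
    · have := congrArg Subtype.val a.2
      rw [hfa] at this
      exact this.trans hR.symm
    · have : RU hF w.1 = y.1 := w.2.trans hR
      rw [this]
      exact y.2
    · apply Subtype.ext
      rw [hfa]
      exact w.2.trans hR
    · rfl
    · rfl
  rw [Finset.sum_congr rfl (fun y _ => hfib y), Finset.sum_const, Finset.card_univ, smul_eq_mul,
    Nat.card_eq_fintype_card, mul_comm]

end Cfsg.Agent.Helper18.SU3Inv
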