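import Mathlib
import Cfsg.Agent.Helper18.SU3Refl3

set_option autoImplicit false

/-! Involutions of `SU(3,q)` as reflections: neighbours of `diag(1,-1,-1)`. -/

namespace Cfsg.Agent.Helper18.SU3Inv

open Matrix Cfsg.Agent.Helper2.Herm Cfsg.Agent.Helper18.PSL3Inv

variable {F : Type*} [Field F] [Fintype F] {q : ℕ}

theorem hf_e0_left (hF : Fintype.card F = q ^ 2) (w : Fin 3 → F) :
    Cfsg.hermForm 3 F q e0 w = cj hF (w 0) := by
  rw [hf_eq hF, Fin.sum_univ_three]
  simp [e0]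

omit [Fintype F] in
theorem hf_e0_right (hq : q ≠ 0) (w : Fin 3 → F) : Cfsg.hermForm 3 F q w e0 = w 0 := by
  unfold Cfsg.hermForm
  rw [Fin.sum_univ_three]
  simp [e0, hq]

theorem hf_cons (hF : Fintype.card F = q ^ 2) (w : Fin 3 → F) :
    Cfsg.hermForm 3 F q w w =
      w 0 * cj hF (w 0) + Cfsg.hermForm 2 F q (Fin.tail w) (Fin.tail w) := by
  rw [hf_eq hF, hf_eq hF, Fin.sum_univ_succ]
  rfl

theorem DU_eq_R_iff (hF : Fintype.card F = q ^ 2) (h2 : (2 : F) ≠ 0) (w : Fin 3 → F)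
    (hw : Cfsg.hermForm 3 F q w w = 1) : DU hF = R hF w hw ↔ w 1 = 0 ∧ w 2 = 0 := by
  have hq0 : q ≠ 0 := by have := two_le_q hF; omega
  rw [DU_eq_R, R_eq_R_iff hF h2, hf_e0_right hq0]
  constructor
  · intro h
    constructor
    · have := congrFun h 1
      rw [this]
      simp [e0]
    · have := congrFun h 2
      rw [this]
      simp [e0]
  · rintro ⟨h1, h2'⟩
    ext i
    fin_cases i <;> simp [e0, h1, h2']

theorem commute_DU_R_iff (hF : Fintype.card F = q ^ 2) (h2 : (2 : F) ≠ 0) (w : Fin 3 → F)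
    (hw : Cfsg.hermForm 3 F q w w = 1) :
    Commute (DU hF) (R hF w hw) ↔ w 0 = 0 ∨ DU hF = R hF w hw := by
  have h := commute_R_iff hF h2 e0 w (e0_unit hF) hw
  rw [← DU_eq_R, hf_e0_left hF] at h
  rw [h]
  have : cj hF (w 0) = 0 ↔ w 0 = 0 := by
    constructor
    · intro h0
      rw [← map_zero (cj hF)] at h0
      exact (cj hF).injective h0
    · intro h0
      rw [h0, map_zero]
  rw [this]

theorem not_both_zero (hF : Fintype.card F = q ^ 2) (w : Fin 3 → F)
    (hw : Cfsg.hermForm 3 F q w w = 1) (h0 : w 0 = 0) : ¬ (w 1 = 0 ∧ w 2 = 0) := by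
  rintro ⟨h1, h2'⟩
  rw [hf_eq hF, Fin.sum_univ_three, h0, h1, h2'] at hw
  simp at hw

/-- the neighbours of `diag(1,-1,-1)` in terms of unit vectors -/
theorem Pa_iff (hF : Fintype.card F = q ^ 2) (h2 : (2 : F) ≠ 0) (w : Uv F q) :
    (RU hF w ≠ 1 ∧ RU hF w * RU hF w = 1 ∧ RU hF w ≠ DU hF ∧ Commute (DU hF) (RU hF w)) ↔
      w.1 0 = 0 := by
  constructor
  · rintro ⟨-, -, hne, hc⟩
    rcases (commute_DU_R_iff hF h2 w.1 w.2).mp hc with h | h
    · exact h
    · exact absurd h.symm hne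
  · intro h0
    refine ⟨R_ne_one hF h2 w.1 w.2, R_sq hF w.1 w.2, ?_, ?_⟩
    · intro h
      exact not_both_zero hF w.1 w.2 h0 ((DU_eq_R_iff hF h2 w.1 w.2).mp h.symm)
    · exact (commute_DU_R_iff hF h2 w.1 w.2).mpr (Or.inl h0)

theorem card_first_zero (hF : Fintype.card F = q ^ 2) :
    Nat.card {w : Uv F q // w.1 0 = 0} = q * (q ^ 2 - 1) := by
  have h1 : Nat.card {w : Uv F q // w.1 0 = 0} =
      Nat.card {p : Fin 2 → F // Cfsg.hermForm 2 F q p p = 1} := by
    apply Nat.card_congr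
    refine ⟨fun w => ⟨Fin.tail w.1.1, ?_⟩, fun p => ⟨⟨Fin.cons 0 p.1, ?_⟩, ?_⟩, fun w => ?_,
      fun p => ?_⟩
    · have := w.1.2
      rw [hf_cons hF, w.2, zero_mul, zero_add] at this
      exact this
    · rw [hf_cons hF, Fin.cons_zero, zero_mul, zero_add, Fin.tail_cons]
      exact p.2
    · show (Fin.cons 0 p.1 : Fin 3 → F) 0 = 0
      exact Fin.cons_zero _ _
    · apply Subtype.ext
      apply Subtype.ext
      show Fin.cons 0 (Fin.tail w.1.1) = w.1.1
      have := Fin.cons_self_tail w.1.1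
      rw [w.2] at this
      exact this
    · apply Subtype.ext
      show Fin.tail (Fin.cons 0 p.1 : Fin 3 → F) = p.1
      exact Fin.tail_cons _ _
  rw [h1, card_hermForm_eq, T_one hF]
  simp

end Cfsg.Agent.Helper18.SU3Inv
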