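import Mathlib
import Cfsg.Agent.Helper18.SU3Refl4

set_option autoImplicit false

/-! Involutions of `SU(3,q)` as reflections: distance two from `diag(1,-1,-1)`. -/

namespace Cfsg.Agent.Helper18.SU3Inv

open Matrix Cfsg.Agent.Helper2.Herm Cfsg.Agent.Helper18.PSL3Inv

variable {F : Type*} [Field F] [Fintype F] {q : ℕ}

theorem lagrange (hF : Fintype.card F = q ^ 2) (a b c d : F) :
    (a * cj hF a + b * cj hF b) * (c * cj hF c + d * cj hF d) =
      (c * cj hF a + d * cj hF b) * cj hF (c * cj hF a + d * cj hF b) +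
        (c * b - d * a) * cj hF (c * b - d * a) := by
  simp only [map_add, map_mul, map_sub, cj_cj]
  ring

theorem hf_tail (hF : Fintype.card F = q ^ 2) (w : Fin 3 → F) :
    Cfsg.hermForm 2 F q (Fin.tail w) (Fin.tail w) = w 1 * cj hF (w 1) + w 2 * cj hF (w 2) := by
  rw [hf_eq hF, Fin.sum_univ_two]
  rfl

theorem cj_eq_zero_iff (hF : Fintype.card F = q ^ 2) (x : F) : cj hF x = 0 ↔ x = 0 := by
  constructor
  · intro h0
    rw [← map_zero (cj hF)] at h0
    exact (cj hF).injective h0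
  · intro h0
    rw [h0, map_zero]

theorem hf3 (hF : Fintype.card F = q ^ 2) (u w : Fin 3 → F) :
    Cfsg.hermForm 3 F q u w = u 0 * cj hF (w 0) + u 1 * cj hF (w 1) + u 2 * cj hF (w 2) := by
  rw [hf_eq hF, Fin.sum_univ_three]

/-- involutions at distance two from `diag(1,-1,-1)` in terms of unit vectors -/
theorem Pb_iff (hF : Fintype.card F = q ^ 2) (hq : Odd q) (w : Uv F q) :
    (RU hF w ≠ 1 ∧ RU hF w * RU hF w = 1 ∧ ¬ Commute (DU hF) (RU hF w) ∧
      ∃ y : ↥(Cfsg.SU 3 F q), y ≠ 1 ∧ y * y = 1 ∧ Commute (DU hF) y ∧ Commute y (RU hF w)) ↔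
      w.1 0 ≠ 0 ∧ Cfsg.hermForm 2 F q (Fin.tail w.1) (Fin.tail w.1) ≠ 0 := by
  have h2 := two_ne_zero_of_odd hq hF
  obtain ⟨w, hw⟩ := w
  show (R hF w hw ≠ 1 ∧ R hF w hw * R hF w hw = 1 ∧ ¬ Commute (DU hF) (R hF w hw) ∧
      ∃ y : ↥(Cfsg.SU 3 F q), y ≠ 1 ∧ y * y = 1 ∧ Commute (DU hF) y ∧ Commute y (R hF w hw)) ↔
      w 0 ≠ 0 ∧ Cfsg.hermForm 2 F q (Fin.tail w) (Fin.tail w) ≠ 0
  constructor
  · rintro ⟨-, -, hnc, y, hy1, hy2, hty, hyx⟩
    have hw0 : w 0 ≠ 0 := fun h0 => hnc ((commute_DU_R_iff hF h2 w hw).mpr (Or.inl h0))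
    have hne : DU hF ≠ R hF w hw := fun h => hnc ((commute_DU_R_iff hF h2 w hw).mpr (Or.inr h))
    refine ⟨hw0, ?_⟩
    obtain ⟨u, hu, rfl⟩ := exists_R hF hq y hy1 hy2
    have hu0 : u 0 = 0 := by
      rcases (commute_DU_R_iff hF h2 u hu).mp hty with h | h
      · exact h
      · exfalso
        rw [← h] at hyx
        exact hnc hyx
    have huw : Cfsg.hermForm 3 F q u w = 0 := by
      rcases (commute_R_iff hF h2 u w hu hw).mp hyx with h | h
      · exact h
      · exfalso
        rw [h] at hty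
        exact hnc hty
    intro hs
    rw [hf_tail hF] at hs
    rw [hf3 hF, hu0, zero_mul, zero_add] at huw
    have hNu : u 1 * cj hF (u 1) + u 2 * cj hF (u 2) = 1 := by
      have := hu
      rw [hf3 hF, hu0, zero_mul, zero_add] at this
      exact this
    have hA : cj hF (u 1) * w 1 + cj hF (u 2) * w 2 = 0 := by
      have := congrArg (cj hF) huw
      rw [map_add, map_mul, map_mul, cj_cj, cj_cj, map_zero] at this
      exact this
    have hL := lagrange hF (u 1) (u 2) (w 1) (w 2)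
    rw [hNu, hs, mul_zero] at hL
    have hA' : w 1 * cj hF (u 1) + w 2 * cj hF (u 2) = 0 := by linear_combination hA
    rw [hA', zero_mul, zero_add] at hL
    have hB : w 1 * u 2 - w 2 * u 1 = 0 := by
      rcases mul_eq_zero.mp hL.symm with h | h
      · exact h
      · exact (cj_eq_zero_iff hF _).mp h
    have hw1 : w 1 = 0 := by
      linear_combination (-(w 1)) * hNu + u 1 * hA + cj hF (u 2) * hB
    have hw2 : w 2 = 0 := by
      linear_combination (-(w 2)) * hNu + u 2 * hA - cj hF (u 1) * hB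
    exact hne ((DU_eq_R_iff hF h2 w hw).mpr ⟨hw1, hw2⟩)
  · rintro ⟨hw0, hs⟩
    refine ⟨R_ne_one hF h2 w hw, R_sq hF w hw, ?_, ?_⟩
    · intro hc
      rcases (commute_DU_R_iff hF h2 w hw).mp hc with h | h
      · exact hw0 h
      · obtain ⟨h1, h2'⟩ := (DU_eq_R_iff hF h2 w hw).mp h
        apply hs
        rw [hf_tail hF, h1, h2']
        simp
    · have hK := hf_self_mem_K hF (Fin.tail w)
      rw [mem_K] at hK
      obtain ⟨c, hc⟩ := exists_norm_eq hF (inv_ne_zero hs) (by rw [inv_pow, hK])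
      rw [hf_tail hF] at hs hc
      obtain ⟨u0, hu0⟩ : ∃ u0 : Fin 3 → F, u0 = ![0, -cj hF (w 2), cj hF (w 1)] := ⟨_, rfl⟩
      have hu0u0 : Cfsg.hermForm 3 F q u0 u0 = w 1 * cj hF (w 1) + w 2 * cj hF (w 2) := by
        rw [hf3 hF, hu0]
        simp only [Matrix.cons_val_zero, Matrix.cons_val_one, Matrix.cons_val_two, map_neg,
          cj_cj, map_zero, Matrix.head_cons, Matrix.tail_cons]
        ring
      have hu0w : Cfsg.hermForm 3 F q u0 w = 0 := by
        rw [hf3 hF, hu0]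
        simp only [Matrix.cons_val_zero, Matrix.cons_val_one, Matrix.cons_val_two,
          Matrix.head_cons, Matrix.tail_cons]
        ring
      have hu : Cfsg.hermForm 3 F q (c • u0) (c • u0) = 1 := by
        rw [hf_smul_left, hf_smul_right hF, hu0u0, cj_apply, ← mul_assoc, ← pow_succ', hc,
          inv_mul_cancel₀ hs]
      refine ⟨R hF (c • u0) hu, R_ne_one hF h2 _ hu, R_sq hF _ hu, ?_, ?_⟩
      · apply (commute_DU_R_iff hF h2 _ hu).mpr
        left
        rw [Pi.smul_apply, hu0]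
        simp
      · apply (commute_R_iff hF h2 _ w hu hw).mpr
        left
        rw [hf_smul_left, hu0w, mul_zero]

end Cfsg.Agent.Helper18.SU3Inv
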