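import Mathlib
import Cfsg.Agent.Helper18.SU3Refl5

set_option autoImplicit false

/-! Involutions of `SU(3,q)` as reflections: counting vectors. -/

namespace Cfsg.Agent.Helper18.SU3Inv

open Matrix Cfsg.Agent.Helper2.Herm Cfsg.Agent.Helper18.PSL3Inv

variable {F : Type*} [Field F] [Fintype F] {q : ℕ}

theorem card_fiber_norm (hF : Fintype.card F = q ^ 2) {k : F} (hk : k ∈ K hF) (hk0 : k ≠ 0) :
    Nat.card {a : F // a ^ (q + 1) = k} = q + 1 := by
  classical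
  rw [Nat.card_eq_fintype_card, Fintype.card_subtype]
  exact card_fiber_ne_zero hF hk hk0

theorem card_base (hF : Fintype.card F = q ^ 2) :
    Nat.card {p : Fin 2 → F // Cfsg.hermForm 2 F q p p ≠ 0 ∧ Cfsg.hermForm 2 F q p p ≠ 1} =
      q * (q - 2) * (q ^ 2 - 1) := by
  classical
  have hq := two_le_q hF
  have h0 : Nat.card {p : Fin 2 → F // Cfsg.hermForm 2 F q p p = 0} =
      (q ^ 2 - 1) * (q + 1) + 1 := by
    rw [card_hermForm_eq, T_zero hF]
    simp
  have h1 : Nat.card {p : Fin 2 → F // Cfsg.hermForm 2 F q p p = 1} = q * (q ^ 2 - 1) := by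
    rw [card_hermForm_eq, T_one hF]
    simp
  have htot : Nat.card (Fin 2 → F) = (q ^ 2) ^ 2 := by
    rw [Nat.card_eq_fintype_card, Fintype.card_fun, Fintype.card_fin, hF]
  have hsplit : Nat.card (Fin 2 → F) =
      Nat.card {p : Fin 2 → F // Cfsg.hermForm 2 F q p p = 0 ∨ Cfsg.hermForm 2 F q p p = 1} +
      Nat.card {p : Fin 2 → F // Cfsg.hermForm 2 F q p p ≠ 0 ∧ Cfsg.hermForm 2 F q p p ≠ 1} := by
    rw [Nat.card_eq_fintype_card, Nat.card_eq_fintype_card, Nat.card_eq_fintype_card]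
    have e : Fintype.card {p : Fin 2 → F // Cfsg.hermForm 2 F q p p ≠ 0 ∧
        Cfsg.hermForm 2 F q p p ≠ 1} = Fintype.card {p : Fin 2 → F //
        ¬ (Cfsg.hermForm 2 F q p p = 0 ∨ Cfsg.hermForm 2 F q p p = 1)} := by
      apply Fintype.card_congr
      apply Equiv.subtypeEquivRight
      intro p
      rw [not_or]
    rw [e, Fintype.card_subtype_compl]
    have hle := Fintype.card_subtype_le
      (fun p : Fin 2 → F => Cfsg.hermForm 2 F q p p = 0 ∨ Cfsg.hermForm 2 F q p p = 1)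
    omega
  have hor : Nat.card {p : Fin 2 → F // Cfsg.hermForm 2 F q p p = 0 ∨
      Cfsg.hermForm 2 F q p p = 1} = ((q ^ 2 - 1) * (q + 1) + 1) + q * (q ^ 2 - 1) := by
    rw [← h0, ← h1, Nat.card_eq_fintype_card, Nat.card_eq_fintype_card, Nat.card_eq_fintype_card]
    apply Fintype.card_subtype_or_disjoint
    rw [Pi.disjoint_iff]
    intro p
    exact disjoint_iff_inf_le.mpr (fun ⟨ha, hb⟩ => zero_ne_one (ha.symm.trans hb))
  rw [htot, hor] at hsplit
  obtain ⟨k, rfl⟩ : ∃ k, q = k + 2 := ⟨q - 2, by omega⟩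
  have e1 : (k + 2) ^ 2 - 1 = k ^ 2 + 4 * k + 3 := by
    apply Nat.sub_eq_of_eq_add
    ring
  rw [e1] at hsplit ⊢
  rw [Nat.add_sub_cancel]
  have : ((k + 2) ^ 2) ^ 2 = ((k ^ 2 + 4 * k + 3) * (k + 2 + 1) + 1 + (k + 2) * (k ^ 2 + 4 * k + 3)) +
      (k + 2) * k * (k ^ 2 + 4 * k + 3) := by ring
  omega

theorem card_Pb_vec (hF : Fintype.card F = q ^ 2) :
    Nat.card {w : Uv F q // w.1 0 ≠ 0 ∧
      Cfsg.hermForm 2 F q (Fin.tail w.1) (Fin.tail w.1) ≠ 0} =
      (q + 1) * (q * (q - 2) * (q ^ 2 - 1)) := by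
  classical
  have hq := two_le_q hF
  rw [← card_base hF]
  obtain ⟨f, hf⟩ : ∃ f : {w : Uv F q // w.1 0 ≠ 0 ∧
      Cfsg.hermForm 2 F q (Fin.tail w.1) (Fin.tail w.1) ≠ 0} →
      {p : Fin 2 → F // Cfsg.hermForm 2 F q p p ≠ 0 ∧ Cfsg.hermForm 2 F q p p ≠ 1},
      ∀ w, (f w).1 = Fin.tail w.1.1 := by
    refine ⟨fun w => ⟨Fin.tail w.1.1, w.2.2, ?_⟩, fun w => rfl⟩
    intro h1
    have := w.1.2
    rw [hf_cons hF, h1] at this
    have h0 : w.1.1 0 * cj hF (w.1.1 0) = 0 := by linear_combination this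
    rcases mul_eq_zero.mp h0 with h | h
    · exact w.2.1 h
    · exact w.2.1 ((cj_eq_zero_iff hF _).mp h)
  haveI : Fintype {p : Fin 2 → F // Cfsg.hermForm 2 F q p p ≠ 0 ∧
    Cfsg.hermForm 2 F q p p ≠ 1} := Fintype.ofFinite _
  haveI : ∀ y, Fintype {a : {w : Uv F q // w.1 0 ≠ 0 ∧
      Cfsg.hermForm 2 F q (Fin.tail w.1) (Fin.tail w.1) ≠ 0} // f a = y} :=
    fun y => Fintype.ofFinite _
  rw [← Nat.card_congr (Equiv.sigmaFiberEquiv f), Nat.card_sigma]
  have hfib : ∀ y, Nat.card {a : {w : Uv F q // w.1 0 ≠ 0 ∧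
      Cfsg.hermForm 2 F q (Fin.tail w.1) (Fin.tail w.1) ≠ 0} // f a = y} = q + 1 := by
    intro y
    have hk : 1 - Cfsg.hermForm 2 F q y.1 y.1 ∈ K hF :=
      AddSubgroup.sub_mem _ (one_mem_K hF) (hf_self_mem_K hF y.1)
    have hk0 : 1 - Cfsg.hermForm 2 F q y.1 y.1 ≠ 0 := by
      intro h
      apply y.2.2
      linear_combination -h
    rw [← card_fiber_norm hF hk hk0]
    apply Nat.card_congr
    refine ⟨fun a => ⟨a.1.1.1 0, ?_⟩, fun b => ⟨⟨⟨Fin.cons b.1 y.1, ?_⟩, ?_, ?_⟩, ?_⟩,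
      fun a => ?_, fun b => ?_⟩
    · have h1 := a.1.1.2
      rw [hf_cons hF] at h1
      have h3 : Fin.tail a.1.1.1 = y.1 := by
        rw [← hf a.1, a.2]
      rw [h3] at h1
      rw [pow_succ', ← cj_apply hF]
      linear_combination h1
    · rw [hf_cons hF, Fin.cons_zero, Fin.tail_cons, cj_apply, ← pow_succ', b.2]
      ring
    · show (Fin.cons b.1 y.1 : Fin 3 → F) 0 ≠ 0
      rw [Fin.cons_zero]
      intro h0
      have := b.2
      rw [h0, zero_pow (by omega)] at this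
      exact hk0 this.symm
    · show Cfsg.hermForm 2 F q (Fin.tail (Fin.cons b.1 y.1 : Fin 3 → F))
        (Fin.tail (Fin.cons b.1 y.1 : Fin 3 → F)) ≠ 0
      rw [Fin.tail_cons]
      exact y.2.1
    · apply Subtype.ext
      rw [hf]
      show Fin.tail (Fin.cons b.1 y.1 : Fin 3 → F) = y.1
      exact Fin.tail_cons _ _
    · apply Subtype.ext
      apply Subtype.ext
      apply Subtype.ext
      show (Fin.cons (a.1.1.1 0) y.1 : Fin 3 → F) = a.1.1.1
      have h3 : Fin.tail a.1.1.1 = y.1 := by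
        rw [← hf a.1, a.2]
      rw [← h3]
      exact Fin.cons_self_tail _
    · apply Subtype.ext
      show (Fin.cons b.1 y.1 : Fin 3 → F) 0 = b.1
      exact Fin.cons_zero _ _
  rw [Finset.sum_congr rfl (fun y _ => hfib y), Finset.sum_const, Finset.card_univ, smul_eq_mul,
    Nat.card_eq_fintype_card, mul_comm]

end Cfsg.Agent.Helper18.SU3Inv
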