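import Mathlib
import Cfsg.Agent.Helper18.SU3Refl6

set_option autoImplicit false

/-! The commuting involution graph of `SU(3,q)`, `q` odd. -/

namespace Cfsg.Agent.Helper18.SU3Inv

open Matrix Cfsg.Agent.Helper2.Herm Cfsg.Agent.Helper18.PSL3Inv

section generic

variable {G : Type*} [Group G]

theorem commute_map_iff (φ : G ≃* G) (a b : G) : Commute (φ a) (φ b) ↔ Commute a b := by
  constructor
  · intro h
    have := h.map φ.symm
    rwa [φ.symm_apply_apply, φ.symm_apply_apply] at this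
  · intro h
    exact h.map φ

theorem Pa_map (φ : G ≃* G) (t x : G) :
    (φ x ≠ 1 ∧ φ x * φ x = 1 ∧ φ x ≠ φ t ∧ Commute (φ t) (φ x)) ↔
      (x ≠ 1 ∧ x * x = 1 ∧ x ≠ t ∧ Commute t x) := by
  rw [← map_mul, commute_map_iff, Ne, Ne, MulEquiv.map_eq_one_iff, MulEquiv.map_eq_one_iff,
    EmbeddingLike.apply_eq_iff_eq]

theorem Pb_map (φ : G ≃* G) (t x : G) :
    (φ x ≠ 1 ∧ φ x * φ x = 1 ∧ ¬ Commute (φ t) (φ x) ∧
      ∃ y : G, y ≠ 1 ∧ y * y = 1 ∧ Commute (φ t) y ∧ Commute y (φ x)) ↔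
    (x ≠ 1 ∧ x * x = 1 ∧ ¬ Commute t x ∧
      ∃ y : G, y ≠ 1 ∧ y * y = 1 ∧ Commute t y ∧ Commute y x) := by
  rw [← map_mul, commute_map_iff, Ne, MulEquiv.map_eq_one_iff, MulEquiv.map_eq_one_iff,
    φ.surjective.exists]
  simp only [← map_mul, commute_map_iff, Ne, MulEquiv.map_eq_one_iff]

theorem card_split {α : Type*} [Finite α] (p r : α → Prop) :
    Nat.card {x // p x} = Nat.card {x // p x ∧ r x} + Nat.card {x // p x ∧ ¬ r x} := by
  classical
  haveI := Fintype.ofFinite α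
  rw [Nat.card_eq_fintype_card, Nat.card_eq_fintype_card, Nat.card_eq_fintype_card,
    Fintype.card_subtype, Fintype.card_subtype, Fintype.card_subtype,
    ← Finset.card_union_of_disjoint]
  · congr 1
    ext x
    simp only [Finset.mem_filter, Finset.mem_univ, true_and, Finset.mem_union]
    tauto
  · rw [Finset.disjoint_filter]
    intro x _ h1 h2
    exact h2.2 h1.2

end generic

variable {F : Type*} [Field F] [Fintype F] {q : ℕ}

theorem normalize (hF : Fintype.card F = q ^ 2) {n : ℕ} (z0 : Fin n → F)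
    (h0 : Cfsg.hermForm n F q z0 z0 ≠ 0) :
    ∃ c : F, Cfsg.hermForm n F q (c • z0) (c • z0) = 1 := by
  have hK := hf_self_mem_K hF z0
  rw [mem_K] at hK
  obtain ⟨c, hc⟩ := exists_norm_eq hF (inv_ne_zero h0) (by rw [inv_pow, hK])
  refine ⟨c, ?_⟩
  rw [hf_smul_left, hf_smul_right hF, cj_apply, ← mul_assoc, ← pow_succ', hc, inv_mul_cancel₀ h0]

theorem exists_perp (hF : Fintype.card F = q ^ 2) (w : Fin 3 → F)
    (hw : Cfsg.hermForm 3 F q w w = 1) (i : Fin 3) (hi : w i * cj hF (w i) ≠ 1) :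
    ∃ z : Fin 3 → F, Cfsg.hermForm 3 F q z z = 1 ∧ z i = 0 ∧ Cfsg.hermForm 3 F q z w = 0 := by
  rw [hf3 hF] at hw
  suffices h : ∃ z0 : Fin 3 → F, Cfsg.hermForm 3 F q z0 z0 ≠ 0 ∧ z0 i = 0 ∧
      Cfsg.hermForm 3 F q z0 w = 0 by
    obtain ⟨z0, h0, hi0, hw0⟩ := h
    obtain ⟨c, hc⟩ := normalize hF z0 h0
    refine ⟨c • z0, hc, ?_, ?_⟩
    · rw [Pi.smul_apply, hi0, smul_zero]
    · rw [hf_smul_left, hw0, mul_zero]
  fin_cases i
  · refine ⟨![0, -cj hF (w 2), cj hF (w 1)], ?_, rfl, ?_⟩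
    · rw [hf3 hF]
      simp only [Matrix.cons_val_zero, Matrix.cons_val_one, Matrix.cons_val_two, map_neg,
        cj_cj, map_zero, Matrix.head_cons, Matrix.tail_cons]
      intro h
      apply hi
      show w 0 * cj hF (w 0) = 1
      linear_combination hw - h
    · rw [hf3 hF]
      simp only [Matrix.cons_val_zero, Matrix.cons_val_one, Matrix.cons_val_two,
        Matrix.head_cons, Matrix.tail_cons]
      ring
  · refine ⟨![cj hF (w 2), 0, -cj hF (w 0)], ?_, rfl, ?_⟩
    · rw [hf3 hF]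
      simp only [Matrix.cons_val_zero, Matrix.cons_val_one, Matrix.cons_val_two, map_neg,
        cj_cj, map_zero, Matrix.head_cons, Matrix.tail_cons]
      intro h
      apply hi
      show w 1 * cj hF (w 1) = 1
      linear_combination hw - h
    · rw [hf3 hF]
      simp only [Matrix.cons_val_zero, Matrix.cons_val_one, Matrix.cons_val_two,
        Matrix.head_cons, Matrix.tail_cons]
      ring
  · refine ⟨![-cj hF (w 1), cj hF (w 0), 0], ?_, rfl, ?_⟩
    · rw [hf3 hF]
      simp only [Matrix.cons_val_zero, Matrix.cons_val_one, Matrix.cons_val_two, map_neg,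
        cj_cj, map_zero, Matrix.head_cons, Matrix.tail_cons]
      intro h
      apply hi
      show w 2 * cj hF (w 2) = 1
      linear_combination hw - h
    · rw [hf3 hF]
      simp only [Matrix.cons_val_zero, Matrix.cons_val_one, Matrix.cons_val_two,
        Matrix.head_cons, Matrix.tail_cons]
      ring

theorem exists_index (hF : Fintype.card F = q ^ 2) (h2 : (2 : F) ≠ 0) (w : Fin 3 → F)
    (hw : Cfsg.hermForm 3 F q w w = 1) : ∃ i : Fin 3, w i * cj hF (w i) ≠ 1 := by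
  by_contra hcon
  push Not at hcon
  rw [hf3 hF, hcon 0, hcon 1, hcon 2] at hw
  apply h2
  linear_combination hw

theorem hf_single_left (hF : Fintype.card F = q ^ 2) (i : Fin 3) (z : Fin 3 → F) :
    Cfsg.hermForm 3 F q (Pi.single i 1) z = cj hF (z i) := by
  rw [hf3 hF]
  fin_cases i <;> simp

/-- a path of length at most three from `diag(1,-1,-1)` to any involution -/
theorem path_DU (hF : Fintype.card F = q ^ 2) (hq : Odd q) (x : ↥(Cfsg.SU 3 F q))
    (hx1 : x ≠ 1) (hx2 : x * x = 1) :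
    ∃ y z : ↥(Cfsg.SU 3 F q), y ≠ 1 ∧ y * y = 1 ∧ z ≠ 1 ∧ z * z = 1 ∧
      Commute (DU hF) y ∧ Commute y z ∧ Commute z x := by
  have h2 := two_ne_zero_of_odd hq hF
  obtain ⟨w, hw, rfl⟩ := exists_R hF hq x hx1 hx2
  obtain ⟨i, hi⟩ := exists_index hF h2 w hw
  obtain ⟨z, hz, hzi, hzw⟩ := exists_perp hF w hw i hi
  have hei : Cfsg.hermForm 3 F q (Pi.single i 1 : Fin 3 → F) (Pi.single i 1) = 1 := by
    rw [hf_single hF, if_pos rfl]
  refine ⟨R hF (Pi.single i 1) hei, R hF z hz, R_ne_one hF h2 _ hei, R_sq hF _ hei,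
    R_ne_one hF h2 _ hz, R_sq hF _ hz, ?_, ?_, ?_⟩
  · apply (commute_DU_R_iff hF h2 _ hei).mpr
    by_cases h0 : i = 0
    · right
      subst h0
      exact DU_eq_R hF
    · left
      exact Pi.single_eq_of_ne (Ne.symm h0) _
  · apply (commute_R_iff hF h2 _ z hei hz).mpr
    left
    rw [hf_single_left hF, hzi, map_zero]
  · apply (commute_R_iff hF h2 z w hz hw).mpr
    left
    exact hzw

end Cfsg.Agent.Helper18.SU3Inv
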