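import Mathlib
import Cfsg.Agent.Helper18.SU3Refl7

set_option autoImplicit false

/-! The commuting involution graph of `SU(3,q)`, `q` odd: main theorem. -/

namespace Cfsg.Agent.Helper18.SU3Inv

open Matrix Cfsg.Agent.Helper2.Herm Cfsg.Agent.Helper18.PSL3Inv

variable {F : Type*} [Field F] [Fintype F] {q : ℕ}

theorem card_Pa_DU (hF : Fintype.card F = q ^ 2) (hq : Odd q) :
    Nat.card {x : ↥(Cfsg.SU 3 F q) // x ≠ 1 ∧ x * x = 1 ∧ x ≠ DU hF ∧ Commute (DU hF) x} =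
      q * (q - 1) := by
  have h2 := two_ne_zero_of_odd hq hF
  have hq2 := two_le_q hF
  have h1 := card_preimage hF hq
    (fun x => x ≠ 1 ∧ x * x = 1 ∧ x ≠ DU hF ∧ Commute (DU hF) x) (fun x hx => ⟨hx.1, hx.2.1⟩)
  have h3 : Nat.card {w : Uv F q // (fun x => x ≠ 1 ∧ x * x = 1 ∧ x ≠ DU hF ∧
      Commute (DU hF) x) (RU hF w)} = Nat.card {w : Uv F q // w.1 0 = 0} :=
    Nat.card_congr (Equiv.subtypeEquivRight (fun w => Pa_iff hF h2 w))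
  rw [h3, card_first_zero hF] at h1
  rw [factor hq2] at h1
  have h4 : (q + 1) * (q * (q - 1)) = (q + 1) *
      Nat.card {x : ↥(Cfsg.SU 3 F q) // x ≠ 1 ∧ x * x = 1 ∧ x ≠ DU hF ∧ Commute (DU hF) x} := by
    rw [← h1]
    ring
  exact (Nat.eq_of_mul_eq_mul_left (by omega : 0 < q + 1) h4).symm

theorem card_Pb_DU (hF : Fintype.card F = q ^ 2) (hq : Odd q) :
    Nat.card {x : ↥(Cfsg.SU 3 F q) // x ≠ 1 ∧ x * x = 1 ∧ ¬ Commute (DU hF) x ∧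
      ∃ y : ↥(Cfsg.SU 3 F q), y ≠ 1 ∧ y * y = 1 ∧ Commute (DU hF) y ∧ Commute y x} =
      q * (q - 2) * (q ^ 2 - 1) := by
  have h1 := card_preimage hF hq
    (fun x => x ≠ 1 ∧ x * x = 1 ∧ ¬ Commute (DU hF) x ∧
      ∃ y : ↥(Cfsg.SU 3 F q), y ≠ 1 ∧ y * y = 1 ∧ Commute (DU hF) y ∧ Commute y x)
    (fun x hx => ⟨hx.1, hx.2.1⟩)
  have h3 : Nat.card {w : Uv F q // (fun x => x ≠ 1 ∧ x * x = 1 ∧ ¬ Commute (DU hF) x ∧
      ∃ y : ↥(Cfsg.SU 3 F q), y ≠ 1 ∧ y * y = 1 ∧ Commute (DU hF) y ∧ Commute y x) (RU hF w)} =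
      Nat.card {w : Uv F q // w.1 0 ≠ 0 ∧
        Cfsg.hermForm 2 F q (Fin.tail w.1) (Fin.tail w.1) ≠ 0} :=
    Nat.card_congr (Equiv.subtypeEquivRight (fun w => Pb_iff hF hq w))
  rw [h3, card_Pb_vec hF] at h1
  exact (Nat.eq_of_mul_eq_mul_left (by omega : 0 < q + 1) h1).symm

theorem main2 (hq : Odd q) (hF : Fintype.card F = q ^ 2) (t : ↥(Cfsg.SU 3 F q)) (ht : t ≠ 1)
    (ht2 : t * t = 1) :
    Nat.card {x : ↥(Cfsg.SU 3 F q) // x ≠ 1 ∧ x * x = 1 ∧ x ≠ t ∧ Commute t x} = q * (q - 1) ∧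
    Nat.card {x : ↥(Cfsg.SU 3 F q) // x ≠ 1 ∧ x * x = 1 ∧ ¬ Commute t x ∧
        ∃ y : ↥(Cfsg.SU 3 F q), y ≠ 1 ∧ y * y = 1 ∧ Commute t y ∧ Commute y x} =
      q * (q - 2) * (q ^ 2 - 1) ∧
    Nat.card {x : ↥(Cfsg.SU 3 F q) // x ≠ 1 ∧ x * x = 1 ∧ ¬ Commute t x ∧
        ∀ y : ↥(Cfsg.SU 3 F q), y ≠ 1 → y * y = 1 → ¬ (Commute t y ∧ Commute y x)} =
      (q + 1) * (q ^ 2 - 1) ∧
    ∀ x : ↥(Cfsg.SU 3 F q), x ≠ 1 → x * x = 1 →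
      ∃ y z : ↥(Cfsg.SU 3 F q), y ≠ 1 ∧ y * y = 1 ∧ z ≠ 1 ∧ z * z = 1 ∧
        Commute t y ∧ Commute y z ∧ Commute z x := by
  have hq2 := two_le_q hF
  obtain ⟨g, hg⟩ := exists_conj hF hq t ht ht2
  obtain ⟨φ, hφ⟩ : ∃ φ : ↥(Cfsg.SU 3 F q) ≃* ↥(Cfsg.SU 3 F q), φ = MulAut.conj g := ⟨_, rfl⟩
  have hφD : φ (DU hF) = t := by rw [hφ, MulAut.conj_apply, hg]
  have hA : Nat.card {x : ↥(Cfsg.SU 3 F q) // x ≠ 1 ∧ x * x = 1 ∧ x ≠ t ∧ Commute t x} =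
      q * (q - 1) := by
    rw [← card_Pa_DU hF hq]
    symm
    apply Nat.card_congr
    refine φ.toEquiv.subtypeEquiv (fun x => ?_)
    rw [← hφD]
    exact (Pa_map φ (DU hF) x).symm
  have hB : Nat.card {x : ↥(Cfsg.SU 3 F q) // x ≠ 1 ∧ x * x = 1 ∧ ¬ Commute t x ∧
        ∃ y : ↥(Cfsg.SU 3 F q), y ≠ 1 ∧ y * y = 1 ∧ Commute t y ∧ Commute y x} =
      q * (q - 2) * (q ^ 2 - 1) := by
    rw [← card_Pb_DU hF hq]
    symm
    apply Nat.card_congr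
    refine φ.toEquiv.subtypeEquiv (fun x => ?_)
    rw [← hφD]
    exact (Pb_map φ (DU hF) x).symm
  refine ⟨hA, hB, ?_, ?_⟩
  · have htot := (main hq hF t ht ht2).2.1
    have s1 := card_split (fun x : ↥(Cfsg.SU 3 F q) => x ≠ 1 ∧ x * x = 1)
      (fun x => Commute t x)
    have s2 := card_split (fun x : ↥(Cfsg.SU 3 F q) => (x ≠ 1 ∧ x * x = 1) ∧ Commute t x)
      (fun x => x = t)
    have s3 := card_split (fun x : ↥(Cfsg.SU 3 F q) => (x ≠ 1 ∧ x * x = 1) ∧ ¬ Commute t x)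
      (fun x => ∃ y : ↥(Cfsg.SU 3 F q), y ≠ 1 ∧ y * y = 1 ∧ Commute t y ∧ Commute y x)
    have c1 : Nat.card {x : ↥(Cfsg.SU 3 F q) // ((x ≠ 1 ∧ x * x = 1) ∧ Commute t x) ∧ x = t} =
        1 := by
      rw [Nat.card_eq_one_iff_unique]
      constructor
      · constructor
        rintro ⟨a, -, ha⟩ ⟨b, -, hb⟩
        apply Subtype.ext
        show a = b
        rw [ha, hb]
      · exact ⟨⟨t, ⟨⟨ht, ht2⟩, Commute.refl t⟩, rfl⟩⟩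
    have c2 : Nat.card {x : ↥(Cfsg.SU 3 F q) // ((x ≠ 1 ∧ x * x = 1) ∧ Commute t x) ∧ ¬ x = t} =
        q * (q - 1) := by
      rw [← hA]
      apply Nat.card_congr
      apply Equiv.subtypeEquivRight
      intro x
      constructor
      · rintro ⟨⟨⟨h1, h2⟩, h3⟩, h4⟩
        exact ⟨h1, h2, h4, h3⟩
      · rintro ⟨h1, h2, h3, h4⟩
        exact ⟨⟨⟨h1, h2⟩, h4⟩, h3⟩
    have c3 : Nat.card {x : ↥(Cfsg.SU 3 F q) // ((x ≠ 1 ∧ x * x = 1) ∧ ¬ Commute t x) ∧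
        ∃ y : ↥(Cfsg.SU 3 F q), y ≠ 1 ∧ y * y = 1 ∧ Commute t y ∧ Commute y x} =
        q * (q - 2) * (q ^ 2 - 1) := by
      rw [← hB]
      apply Nat.card_congr
      apply Equiv.subtypeEquivRight
      intro x
      constructor
      · rintro ⟨⟨⟨h1, h2⟩, h3⟩, h4⟩
        exact ⟨h1, h2, h3, h4⟩
      · rintro ⟨h1, h2, h3, h4⟩
        exact ⟨⟨⟨h1, h2⟩, h3⟩, h4⟩
    have c4 : Nat.card {x : ↥(Cfsg.SU 3 F q) // ((x ≠ 1 ∧ x * x = 1) ∧ ¬ Commute t x) ∧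
        ¬ ∃ y : ↥(Cfsg.SU 3 F q), y ≠ 1 ∧ y * y = 1 ∧ Commute t y ∧ Commute y x} =
        Nat.card {x : ↥(Cfsg.SU 3 F q) // x ≠ 1 ∧ x * x = 1 ∧ ¬ Commute t x ∧
        ∀ y : ↥(Cfsg.SU 3 F q), y ≠ 1 → y * y = 1 → ¬ (Commute t y ∧ Commute y x)} := by
      apply Nat.card_congr
      apply Equiv.subtypeEquivRight
      intro x
      constructor
      · rintro ⟨⟨⟨h1, h2⟩, h3⟩, h4⟩
        refine ⟨h1, h2, h3, ?_⟩
        intro y hy1 hy2 hy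
        exact h4 ⟨y, hy1, hy2, hy.1, hy.2⟩
      · rintro ⟨h1, h2, h3, h4⟩
        refine ⟨⟨⟨h1, h2⟩, h3⟩, ?_⟩
        rintro ⟨y, hy1, hy2, hy3, hy4⟩
        exact h4 y hy1 hy2 ⟨hy3, hy4⟩
    rw [c1, c2] at s2
    rw [c3, c4] at s3
    rw [htot, s2, s3] at s1
    obtain ⟨k, rfl⟩ : ∃ k, q = k + 2 := ⟨q - 2, by omega⟩
    have e1 : (k + 2) ^ 2 - 1 = k ^ 2 + 4 * k + 3 := by
      apply Nat.sub_eq_of_eq_add
      ring
    have e2 : (k + 2) ^ 2 - (k + 2) + 1 = k ^ 2 + 3 * k + 3 := by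
      have : (k + 2) ^ 2 - (k + 2) = k ^ 2 + 3 * k + 2 := by
        apply Nat.sub_eq_of_eq_add
        ring
      rw [this]
    rw [e1, e2, Nat.add_sub_cancel] at s1
    rw [e1]
    have e3 : k + 2 - 1 = k + 1 := by omega
    rw [e3] at s1
    have : (k + 2) ^ 2 * (k ^ 2 + 3 * k + 3) = 1 + (k + 2) * (k + 1) +
        ((k + 2) * k * (k ^ 2 + 4 * k + 3) + (k + 2 + 1) * (k ^ 2 + 4 * k + 3)) := by ring
    omega
  · intro x hx1 hx2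
    obtain ⟨y, z, hy1, hy2, hz1, hz2, h1, h2, h3⟩ := path_DU hF hq (φ.symm x)
      (by rw [Ne, MulEquiv.map_eq_one_iff]; exact hx1) (by rw [← map_mul, hx2, map_one])
    refine ⟨φ y, φ z, ?_, ?_, ?_, ?_, ?_, ?_, ?_⟩
    · rw [Ne, MulEquiv.map_eq_one_iff]; exact hy1
    · rw [← map_mul, hy2, map_one]
    · rw [Ne, MulEquiv.map_eq_one_iff]; exact hz1
    · rw [← map_mul, hz2, map_one]
    · rw [← hφD]; exact h1.map φ
    · exact h2.map φ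
    · have := h3.map φ
      rwa [φ.apply_symm_apply] at this

end Cfsg.Agent.Helper18.SU3Inv
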