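import Mathlib
import Cfsg.Agent.Helper18.SU3Refl8
import Cfsg.Agent.S2644
import Cfsg.Agent.S0837

set_option autoImplicit false

/-! `SU(3,q)` acting on nonzero isotropic vectors: transitivity and stabilizers. -/

namespace Cfsg.Agent.Helper18.SU3Iso

open Matrix Cfsg.Agent.Helper2.Herm Cfsg.Agent.Helper18.SU3Inv

variable {K : Type*} [Field K] {q : ℕ}

/-- nonzero isotropic vectors -/
abbrev Iv (K : Type*) [Field K] (q : ℕ) :=
  {v : Fin 3 → K // v ≠ 0 ∧ Cfsg.hermForm 3 K q v v = 0}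

theorem val_inv_mul_val (x : ↥(Cfsg.SU 3 K q)) : val x⁻¹ * val x = 1 := by
  rw [← val_mul, inv_mul_cancel, val_one]

theorem val_mulVec_ne_zero (x : ↥(Cfsg.SU 3 K q)) {v : Fin 3 → K} (hv : v ≠ 0) :
    val x *ᵥ v ≠ 0 := by
  intro h
  apply hv
  have := congrArg (fun u => val x⁻¹ *ᵥ u) h
  simp only [Matrix.mulVec_mulVec, val_inv_mul_val, Matrix.one_mulVec, Matrix.mulVec_zero] at this
  exact this

instance : MulAction ↥(Cfsg.SU 3 K q) (Iv K q) where
  smul g v := ⟨val g *ᵥ v.1, val_mulVec_ne_zero g v.2.1, by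
    have := g.2 v.1 v.1
    exact this.trans v.2.2⟩
  one_smul v := by
    apply Subtype.ext
    show val (1 : ↥(Cfsg.SU 3 K q)) *ᵥ v.1 = v.1
    rw [val_one, Matrix.one_mulVec]
  mul_smul g g' v := by
    apply Subtype.ext
    show val (g * g') *ᵥ v.1 = val g *ᵥ (val g' *ᵥ v.1)
    rw [val_mul, Matrix.mulVec_mulVec]

theorem smul_val (g : ↥(Cfsg.SU 3 K q)) (v : Iv K q) : (g • v).1 = val g *ᵥ v.1 := rfl

variable [Fintype K]

theorem exists_smul_eq (hF : Fintype.card K = q ^ 2) (v w : Iv K q) :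
    ∃ g : ↥(Cfsg.SU 3 K q), g • v = w := by
  have hσid := Cfsg.Agent.S0837.frob_ne_id hF (cj hF) (cj_apply hF)
  obtain ⟨v0, hv0, hv00, hD⟩ := Cfsg.Agent.S2644.exists_std (cj hF) (cj_apply hF) (cj_cj hF) hσid
    (le_refl 3)
  obtain ⟨G1, hG1P, hG1d, hG1v⟩ := Cfsg.Agent.S2644.exists_SU_map (cj hF) (cj_apply hF) (cj_cj hF)
    hσid v0 hv0 hv00 hD v.1 v.2.1 v.2.2
  obtain ⟨G2, hG2P, hG2d, hG2v⟩ := Cfsg.Agent.S2644.exists_SU_map (cj hF) (cj_apply hF) (cj_cj hF)
    hσid v0 hv0 hv00 hD w.1 w.2.1 w.2.2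
  refine ⟨(Cfsg.Agent.S2644.mkSU G2 hG2d hG2P)⁻¹ * Cfsg.Agent.S2644.mkSU G1 hG1d hG1P, ?_⟩
  rw [mul_smul]
  have h1 : Cfsg.Agent.S2644.mkSU G1 hG1d hG1P • v = Cfsg.Agent.S2644.mkSU G2 hG2d hG2P • w := by
    apply Subtype.ext
    show G1 *ᵥ v.1 = G2 *ᵥ w.1
    rw [hG1v, hG2v]
  rw [h1, inv_smul_smul]

theorem card_Iv (hF : Fintype.card K = q ^ 2) :
    Nat.card (Iv K q) = (q ^ 3 + 1) * (q ^ 2 - 1) := by
  classical
  have h1 := card_hermForm_eq (F := K) (q := q) 3 0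
  rw [T_zero hF] at h1
  have h2 : ¬ Even 3 := by decide
  rw [if_neg h2] at h1
  have h3 : Nat.card {v : Fin 3 → K // Cfsg.hermForm 3 K q v v = 0} = Nat.card (Iv K q) + 1 := by
    have e : {v : Fin 3 → K // Cfsg.hermForm 3 K q v v = 0} ≃ Option (Iv K q) :=
      { toFun := fun v => if h : v.1 = 0 then none else some ⟨v.1, h, v.2⟩
        invFun := fun o => match o with
          | none => ⟨0, hf_zero_left 0⟩
          | some w => ⟨w.1, w.2.2⟩
        left_inv := by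
          intro v
          by_cases h : v.1 = 0
          · simp only [h, dif_pos]
            apply Subtype.ext
            exact h.symm
          · simp only [h, dif_neg, not_false_eq_true]
        right_inv := by
          intro o
          cases o with
          | none => simp
          | some w => simp [w.2.1] }
    rw [Nat.card_congr e, Nat.card_eq_fintype_card, Fintype.card_option,
      Nat.card_eq_fintype_card]
  rw [h3] at h1
  have : Nat.card (Iv K q) = (q ^ 3 + 1) * (q ^ (3 - 1) - 1) := by omega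
  rw [this]

theorem card_stabilizer (hF : Fintype.card K = q ^ 2) (e : Iv K q) :
    Nat.card (MulAction.stabilizer ↥(Cfsg.SU 3 K q) e) = q ^ 3 := by
  have hq := two_le_q hF
  have h1 : Nat.card (MulAction.orbit ↥(Cfsg.SU 3 K q) e) *
      Nat.card (MulAction.stabilizer ↥(Cfsg.SU 3 K q) e) = Nat.card ↥(Cfsg.SU 3 K q) := by
    rw [← Nat.card_prod,
      Nat.card_congr (MulAction.orbitProdStabilizerEquivGroup ↥(Cfsg.SU 3 K q) e)]
  have h2 : MulAction.orbit ↥(Cfsg.SU 3 K q) e = Set.univ := by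
    ext w
    simp only [Set.mem_univ, iff_true]
    obtain ⟨g, hg⟩ := exists_smul_eq hF e w
    exact ⟨g, hg⟩
  rw [h2, Nat.card_congr (Equiv.Set.univ _), card_Iv hF] at h1
  have h3 := card_SU3 hF
  rw [← h1] at h3
  have hpos : 0 < (q + 1) * ((q ^ 3 + 1) * (q ^ 2 - 1)) := by
    have : 1 < q ^ 2 := by nlinarith
    apply Nat.mul_pos (by omega) (Nat.mul_pos (by positivity) (by omega))
  have h4 : (q + 1) * ((q ^ 3 + 1) * (q ^ 2 - 1)) *
      Nat.card (MulAction.stabilizer ↥(Cfsg.SU 3 K q) e) =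
      (q + 1) * ((q ^ 3 + 1) * (q ^ 2 - 1)) * q ^ 3 := by
    rw [mul_assoc, h3]
    ring
  exact Nat.eq_of_mul_eq_mul_left hpos h4

end Cfsg.Agent.Helper18.SU3Iso
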