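import Mathlib
import Cfsg.Agent.Helper18.SU3Iso1

set_option autoImplicit false

/-! Isotropic vectors in the unitary 3-space: geometry. -/

namespace Cfsg.Agent.Helper18.SU3Iso

open Matrix Cfsg.Agent.Helper2.Herm Cfsg.Agent.Helper18.SU3Inv Cfsg.Agent.Helper18.PSL3Inv

variable {K : Type*} [Field K] [Fintype K] {q : ℕ}

theorem two_dim_core (hF : Fintype.card K = q ^ 2) (a b c d : K)
    (hab : a * cj hF a + b * cj hF b ≠ 0) (hcd : c * cj hF c + d * cj hF d = 0)
    (horth : c * cj hF a + d * cj hF b = 0) : c = 0 ∧ d = 0 := by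
  have hL := lagrange hF a b c d
  rw [hcd, mul_zero, horth, zero_mul, zero_add] at hL
  have hB : c * b - d * a = 0 := by
    rcases mul_eq_zero.mp hL.symm with h | h
    · exact h
    · exact (cj_eq_zero_iff hF _).mp h
  constructor
  · have : c * (a * cj hF a + b * cj hF b) = 0 := by
      linear_combination a * horth + cj hF b * hB
    exact (mul_eq_zero.mp this).resolve_right hab
  · have : d * (a * cj hF a + b * cj hF b) = 0 := by
      linear_combination b * horth - cj hF a * hB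
    exact (mul_eq_zero.mp this).resolve_right hab

/-- orthogonal isotropic vectors are proportional (first coordinate nonzero) -/
theorem iso_orth_prop0 (hF : Fintype.card K = q ^ 2) (e f : Fin 3 → K) (he0 : e 0 ≠ 0)
    (hee : Cfsg.hermForm 3 K q e e = 0) (hff : Cfsg.hermForm 3 K q f f = 0)
    (hfe : Cfsg.hermForm 3 K q f e = 0) : ∃ c : K, f = c • e := by
  have hef : Cfsg.hermForm 3 K q e f = 0 := hf_eq_zero_of_symm hF hfe
  obtain ⟨c, hc⟩ : ∃ c : K, c = f 0 / e 0 := ⟨_, rfl⟩
  obtain ⟨f', hf'⟩ : ∃ f' : Fin 3 → K, f' = f - c • e := ⟨_, rfl⟩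
  have h0 : f' 0 = 0 := by
    rw [hf', Pi.sub_apply, Pi.smul_apply, smul_eq_mul, hc]
    field_simp
    ring
  have h1 : Cfsg.hermForm 3 K q f' f' = 0 := by
    have e1 : Cfsg.hermForm 3 K q (c • e) f = 0 := by rw [hf_smul_left, hef, mul_zero]
    have e2 : Cfsg.hermForm 3 K q f (c • e) = 0 := by rw [hf_smul_right hF, hfe, mul_zero]
    have e3 : Cfsg.hermForm 3 K q (c • e) (c • e) = 0 := by
      rw [hf_smul_left, hf_smul_right hF, hee, mul_zero, mul_zero]
    have e4 : Cfsg.hermForm 3 K q f' (c • e) = 0 := by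
      rw [hf', hf_sub_left, e2, e3, sub_zero]
    have e5 : Cfsg.hermForm 3 K q f' f = 0 := by
      rw [hf', hf_sub_left, hff, e1, sub_zero]
    have e6 : f = f' + c • e := by rw [hf']; abel
    have : Cfsg.hermForm 3 K q f' (f' + c • e) = 0 := by rw [← e6]; exact e5
    rw [hf_add_right hF, e4, add_zero] at this
    exact this
  have h2 : Cfsg.hermForm 3 K q f' e = 0 := by
    rw [hf', hf_sub_left, hfe, hf_smul_left, hee, mul_zero, sub_zero]
  rw [hf3 hF, h0, zero_mul, zero_add] at h1 h2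
  rw [hf3 hF] at hee
  have hab : e 1 * cj hF (e 1) + e 2 * cj hF (e 2) ≠ 0 := by
    intro h
    have h3 : e 0 * cj hF (e 0) = 0 := by linear_combination hee - h
    rcases mul_eq_zero.mp h3 with h4 | h4
    · exact he0 h4
    · exact he0 ((cj_eq_zero_iff hF _).mp h4)
  obtain ⟨k1, k2⟩ := two_dim_core hF (e 1) (e 2) (f' 1) (f' 2) hab h1 h2
  refine ⟨c, ?_⟩
  have : f' = 0 := by
    ext i
    fin_cases i
    · exact h0
    · exact k1
    · exact k2
  rw [hf'] at this
  exact sub_eq_zero.mp this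

theorem hf_comp_perm (π : Equiv.Perm (Fin 3)) (u v : Fin 3 → K) :
    Cfsg.hermForm 3 K q (u ∘ π) (v ∘ π) = Cfsg.hermForm 3 K q u v := by
  unfold Cfsg.hermForm
  exact Equiv.sum_comp π (fun i => u i * v i ^ q)

/-- orthogonal isotropic vectors are proportional -/
theorem iso_orth_prop (hF : Fintype.card K = q ^ 2) (e f : Fin 3 → K) (he : e ≠ 0)
    (hee : Cfsg.hermForm 3 K q e e = 0) (hff : Cfsg.hermForm 3 K q f f = 0)
    (hfe : Cfsg.hermForm 3 K q f e = 0) : ∃ c : K, f = c • e := by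
  obtain ⟨i, hi⟩ : ∃ i, e i ≠ 0 := by
    by_contra hcon
    push Not at hcon
    exact he (funext hcon)
  obtain ⟨π, hπ⟩ : ∃ π : Equiv.Perm (Fin 3), π = Equiv.swap 0 i := ⟨_, rfl⟩
  obtain ⟨c, hc⟩ := iso_orth_prop0 hF (e ∘ π) (f ∘ π)
    (by rw [Function.comp_apply, hπ, Equiv.swap_apply_left]; exact hi)
    (by rw [hf_comp_perm, hee]) (by rw [hf_comp_perm, hff]) (by rw [hf_comp_perm, hfe])
  refine ⟨c, ?_⟩
  ext j
  have := congrFun hc (π.symm j)
  simp only [Function.comp_apply, Equiv.apply_symm_apply, Pi.smul_apply] at this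
  exact this

end Cfsg.Agent.Helper18.SU3Iso
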