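import Mathlib
import Cfsg.Agent.Helper18.SU3Iso2

set_option autoImplicit false

/-! An element of `SU(3,q)` fixing two non-orthogonal isotropic vectors is trivial. -/

namespace Cfsg.Agent.Helper18.SU3Iso

open Matrix Cfsg.Agent.Helper2.Herm Cfsg.Agent.Helper18.SU3Inv Cfsg.Agent.Helper18.PSL3Inv

variable {K : Type*} [Field K] [Fintype K] {q : ℕ}

/-- a unitary matrix with two prescribed orthonormal columns -/
theorem exists_frame2 (hF : Fintype.card K = q ^ 2) (u1 u2 : Fin 3 → K)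
    (h11 : Cfsg.hermForm 3 K q u1 u1 = 1) (h22 : Cfsg.hermForm 3 K q u2 u2 = 1)
    (h12 : Cfsg.hermForm 3 K q u1 u2 = 0) :
    ∃ g : GL (Fin 3) K, g ∈ Cfsg.GU 3 K q ∧ cols (g : Matrix (Fin 3) (Fin 3) K) 0 = u1 ∧
      cols (g : Matrix (Fin 3) (Fin 3) K) 1 = u2 := by
  have h0 : IsON q (Fin.elim0 : Fin 0 → (Fin 3 → K)) := fun i => i.elim0
  have h1 : IsON q (Fin.cons u2 (Fin.elim0 : Fin 0 → (Fin 3 → K)) : Fin 1 → (Fin 3 → K)) :=
    (isON_cons hF _ u2).mpr ⟨h0, fun j => j.elim0, h22⟩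
  have h2 : IsON q (Fin.cons u1 (Fin.cons u2 (Fin.elim0 : Fin 0 → (Fin 3 → K))) :
      Fin 2 → (Fin 3 → K)) := by
    refine (isON_cons hF _ u1).mpr ⟨h1, ?_, h11⟩
    intro j
    have : j = 0 := Subsingleton.elim _ _
    subst this
    exact h12
  obtain ⟨z, h3⟩ := exists_cons hF (by norm_num : 3 = 1 + 2) (by norm_num) _ h2
  have h4 := isON_comp (finRotate 3) h3
  obtain ⟨g, hg⟩ := exists_unit_of_isON hF h4
  refine ⟨g, (Cfsg.Agent.Helper2.Herm.mem_GU_iff hF g).mpr (by rw [hg]; exact h4), ?_, ?_⟩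
  · rw [hg]
    rfl
  · rw [hg]
    rfl

omit [Fintype K] in
/-- a unitary matrix of determinant one fixing `e₀` and `e₁` is the identity -/
theorem unitary_fix_two (σ : K →+* K) (N : Matrix (Fin 3) (Fin 3) K)
    (hU : Nᵀ * N.map σ = 1) (hc0 : N *ᵥ Pi.single 0 1 = Pi.single 0 1)
    (hc1 : N *ᵥ Pi.single 1 1 = Pi.single 1 1) (hdet : N.det = 1) : N = 1 := by
  have c00 : N 0 0 = 1 := by
    have := congrFun hc0 0
    simpa [Matrix.mulVec, dotProduct, Fin.sum_univ_three] using this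
  have c10 : N 1 0 = 0 := by
    have := congrFun hc0 1
    simpa [Matrix.mulVec, dotProduct, Fin.sum_univ_three] using this
  have c20 : N 2 0 = 0 := by
    have := congrFun hc0 2
    simpa [Matrix.mulVec, dotProduct, Fin.sum_univ_three] using this
  have c01 : N 0 1 = 0 := by
    have := congrFun hc1 0
    simpa [Matrix.mulVec, dotProduct, Fin.sum_univ_three] using this
  have c11 : N 1 1 = 1 := by
    have := congrFun hc1 1
    simpa [Matrix.mulVec, dotProduct, Fin.sum_univ_three] using this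
  have c21 : N 2 1 = 0 := by
    have := congrFun hc1 2
    simpa [Matrix.mulVec, dotProduct, Fin.sum_univ_three] using this
  have e1 : σ (N 0 2) = 0 := by
    have := congrFun (congrFun hU 0) 2
    simpa [Matrix.mul_apply, Fin.sum_univ_three, c00, c10, c20] using this
  have e2 : σ (N 1 2) = 0 := by
    have := congrFun (congrFun hU 1) 2
    simpa [Matrix.mul_apply, Fin.sum_univ_three, c01, c11, c21] using this
  have c02 : N 0 2 = 0 := by
    rw [← map_zero σ] at e1
    exact σ.injective e1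
  have c12 : N 1 2 = 0 := by
    rw [← map_zero σ] at e2
    exact σ.injective e2
  have c22 : N 2 2 = 1 := by
    rw [Matrix.det_fin_three, c00, c10, c20, c01, c11, c21, c02, c12] at hdet
    linear_combination hdet
  ext i j
  fin_cases i <;> fin_cases j <;> simp [c00, c10, c20, c01, c11, c21, c02, c12, c22]

/-- an element of `SU₃` fixing two orthonormal vectors is trivial -/
theorem eq_one_of_fix_orthonormal (hF : Fintype.card K = q ^ 2) (x : ↥(Cfsg.SU 3 K q))
    (u1 u2 : Fin 3 → K) (h11 : Cfsg.hermForm 3 K q u1 u1 = 1)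
    (h22 : Cfsg.hermForm 3 K q u2 u2 = 1) (h12 : Cfsg.hermForm 3 K q u1 u2 = 0)
    (hx1 : val x *ᵥ u1 = u1) (hx2 : val x *ᵥ u2 = u2) : x = 1 := by
  obtain ⟨g, hg, hg1, hg2⟩ := exists_frame2 hF u1 u2 h11 h22 h12
  obtain ⟨T, hT⟩ : ∃ T : GL (Fin 3) K, T = Matrix.SpecialLinearGroup.toGL x.1 := ⟨_, rfl⟩
  have hTval : (T : Matrix (Fin 3) (Fin 3) K) = val x := by rw [hT]; rfl
  have hTmem : T ∈ Cfsg.GU 3 K q := by rw [hT]; exact x.2
  obtain ⟨N, hN⟩ : ∃ N : GL (Fin 3) K, N = g⁻¹ * T * g := ⟨_, rfl⟩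
  have hNmem : N ∈ Cfsg.GU 3 K q := by
    rw [hN]
    exact Subgroup.mul_mem _ (Subgroup.mul_mem _ (Subgroup.inv_mem _ hg) hTmem) hg
  have hNdet : (N : Matrix (Fin 3) (Fin 3) K).det = 1 := by
    have e : Matrix.GeneralLinearGroup.det N = Matrix.GeneralLinearGroup.det T := by
      rw [hN, map_mul, map_mul, map_inv, mul_comm, ← mul_assoc, mul_inv_cancel, one_mul]
    have := congrArg Units.val e
    rw [Matrix.GeneralLinearGroup.val_det_apply, Matrix.GeneralLinearGroup.val_det_apply,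
      hTval, val_det] at this
    exact this
  have hgcol : ∀ (j : Fin 3) (u : Fin 3 → K), cols (g : Matrix (Fin 3) (Fin 3) K) j = u →
      val x *ᵥ u = u → (N : Matrix (Fin 3) (Fin 3) K) *ᵥ Pi.single j 1 = Pi.single j 1 := by
    intro j u hju hxu
    have hgj : (g : Matrix (Fin 3) (Fin 3) K) *ᵥ Pi.single j 1 = u := by
      rw [Cfsg.Agent.Helper2.Herm.mulVec_single, hju]
    rw [hN, Units.val_mul, Units.val_mul, ← Matrix.mulVec_mulVec, ← Matrix.mulVec_mulVec, hgj,
      hTval, hxu, ← hgj, Matrix.mulVec_mulVec, ← Units.val_mul, inv_mul_cancel, Units.val_one,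
      Matrix.one_mulVec]
  have hN1 := unitary_fix_two (cj hF) _ ((mem_GU_iff_mat hF N).mp hNmem) (hgcol 0 u1 hg1 hx1)
    (hgcol 1 u2 hg2 hx2) hNdet
  have hN' : N = 1 := Units.ext hN1
  have hT1 : T = 1 := by
    have : T = g * N * g⁻¹ := by rw [hN]; group
    rw [this, hN']; group
  apply Subtype.ext
  apply Matrix.SpecialLinearGroup.toGL_injective
  rw [← hT, hT1]
  exact (map_one _).symm

theorem hf_sub_right (hF : Fintype.card K = q ^ 2) {n : ℕ} (u v v' : Fin n → K) :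
    Cfsg.hermForm n K q u (v - v') = Cfsg.hermForm n K q u v - Cfsg.hermForm n K q u v' := by
  rw [← hf_symm hF, hf_sub_left, map_sub, hf_symm hF, hf_symm hF]

/-- an element of `SU₃` fixing two non-orthogonal isotropic vectors is trivial -/
theorem eq_one_of_fix_iso (hF : Fintype.card K = q ^ 2) (h2 : (2 : K) ≠ 0)
    (x : ↥(Cfsg.SU 3 K q)) (e f : Fin 3 → K)
    (hee : Cfsg.hermForm 3 K q e e = 0) (hff : Cfsg.hermForm 3 K q f f = 0)
    (hef : Cfsg.hermForm 3 K q e f ≠ 0)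
    (hxe : val x *ᵥ e = e) (hxf : val x *ᵥ f = f) : x = 1 := by
  obtain ⟨a, ha⟩ : ∃ a : K, a = Cfsg.hermForm 3 K q e f := ⟨_, rfl⟩
  have ha0 : a ≠ 0 := by rw [ha]; exact hef
  have hfe : Cfsg.hermForm 3 K q f e = cj hF a := by rw [ha, hf_symm hF]
  obtain ⟨c, hc⟩ : ∃ c : K, c = (cj hF a)⁻¹ := ⟨_, rfl⟩
  have hca : c * cj hF a = 1 := by
    rw [hc, inv_mul_cancel₀]
    intro h
    exact ha0 ((cj_eq_zero_iff hF a).mp h)
  have hca' : cj hF c * a = 1 := by
    have := congrArg (cj hF) hca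
    rw [map_mul, cj_cj, map_one] at this
    exact this
  obtain ⟨u, hu⟩ : ∃ u : Fin 3 → K, u = e + c • f := ⟨_, rfl⟩
  obtain ⟨u', hu'⟩ : ∃ u' : Fin 3 → K, u' = e - c • f := ⟨_, rfl⟩
  have huu : Cfsg.hermForm 3 K q u u = 2 := by
    rw [hu, hf_add_left, hf_add_right hF, hf_add_right hF, hf_smul_left, hf_smul_left,
      hf_smul_right hF, hf_smul_right hF, hee, hff, ← ha, hfe]
    linear_combination hca + hca'
  have hu'u' : Cfsg.hermForm 3 K q u' u' = -2 := by
    rw [hu', hf_sub_left, hf_sub_right hF, hf_sub_right hF, hf_smul_left, hf_smul_left,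
      hf_smul_right hF, hf_smul_right hF, hee, hff, ← ha, hfe]
    linear_combination -hca - hca'
  have huu' : Cfsg.hermForm 3 K q u u' = 0 := by
    rw [hu, hu', hf_add_left, hf_sub_right hF, hf_sub_right hF, hf_smul_left, hf_smul_left,
      hf_smul_right hF, hf_smul_right hF, hee, hff, ← ha, hfe]
    linear_combination hca - hca'
  have hxu : val x *ᵥ u = u := by
    rw [hu, Matrix.mulVec_add, Matrix.mulVec_smul, hxe, hxf]
  have hxu' : val x *ᵥ u' = u' := by
    rw [hu', Matrix.mulVec_sub, Matrix.mulVec_smul, hxe, hxf]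
  obtain ⟨α, hα⟩ := normalize hF u (by rw [huu]; exact h2)
  obtain ⟨β, hβ⟩ := normalize hF u' (by rw [hu'u']; exact neg_ne_zero.mpr h2)
  apply eq_one_of_fix_orthonormal hF x (α • u) (β • u') hα hβ
  · rw [hf_smul_left, hf_smul_right hF, huu', mul_zero, mul_zero]
  · rw [Matrix.mulVec_smul, hxu]
  · rw [Matrix.mulVec_smul, hxu']

end Cfsg.Agent.Helper18.SU3Iso
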