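import Mathlib
import Cfsg.Agent.Helper18.SU3Iso3

set_option autoImplicit false

/-! `p`-local subgroups of `SU(3,q)`, `q = p^n` odd, are `p`-closed. -/

namespace Cfsg.Agent.Helper18.SU3Iso

open Matrix Cfsg.Agent.Helper2.Herm Cfsg.Agent.Helper18.SU3Inv

variable {K : Type*} [Field K] [Fintype K] {p n : ℕ} [Fact p.Prime]

theorem not_dvd_card_Iv (hF : Fintype.card K = (p ^ n) ^ 2) (hn : 1 ≤ n) :
    ¬ p ∣ Nat.card (Iv K (p ^ n)) := by
  have hp := (Fact.out : p.Prime)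
  rw [card_Iv hF]
  have hq : p ∣ p ^ n := dvd_pow_self p (by omega)
  have hq1 : 1 ≤ (p ^ n) ^ 2 := Nat.one_le_pow _ _ (Nat.pow_pos hp.pos)
  intro h
  rcases (Nat.Prime.dvd_mul hp).mp h with h1 | h1
  · have h2 : p ∣ (p ^ n) ^ 3 := dvd_pow hq (by norm_num)
    have h3 : p ∣ 1 := (Nat.dvd_add_right h2).mp h1
    exact hp.one_lt.ne' (Nat.dvd_one.mp h3)
  · have h2 : p ∣ (p ^ n) ^ 2 := dvd_pow hq (by norm_num)
    have h4 : p ∣ ((p ^ n) ^ 2 - 1) + 1 := by rw [Nat.sub_add_cancel hq1]; exact h2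
    have h3 : p ∣ 1 := (Nat.dvd_add_right h1).mp h4
    exact hp.one_lt.ne' (Nat.dvd_one.mp h3)

theorem exists_fixed_iso (hF : Fintype.card K = (p ^ n) ^ 2) (hn : 1 ≤ n)
    (X : Subgroup ↥(Cfsg.SU 3 K (p ^ n))) (hX : IsPGroup p ↥X) :
    ∃ e : Iv K (p ^ n), ∀ x ∈ X, x • e = e := by
  obtain ⟨e, he⟩ := hX.nonempty_fixed_point_of_prime_not_dvd_card (Iv K (p ^ n))
    (not_dvd_card_Iv hF hn)
  exact ⟨e, fun x hx => he ⟨x, hx⟩⟩

theorem two_ne_zero_of_ne_two [CharP K p] (hp2 : p ≠ 2) : (2 : K) ≠ 0 := by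
  intro h
  have h1 : ((2 : ℕ) : K) = 0 := by exact_mod_cast h
  have h2 := (CharP.cast_eq_zero_iff K p 2).mp h1
  have hp := (Fact.out : p.Prime)
  exact hp2 ((Nat.prime_dvd_prime_iff_eq hp Nat.prime_two).mp h2)

/-- the normalizer of a nontrivial `p`-subgroup stabilizes an isotropic point -/
theorem normalizer_stab [CharP K p] (hp2 : p ≠ 2) (hF : Fintype.card K = (p ^ n) ^ 2)
    (hn : 1 ≤ n) (X : Subgroup ↥(Cfsg.SU 3 K (p ^ n))) (hX : IsPGroup p ↥X) (hX1 : X ≠ ⊥) :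
    ∃ e : Iv K (p ^ n), (∀ x ∈ X, x • e = e) ∧
      ∀ g ∈ Subgroup.normalizer (X : Set ↥(Cfsg.SU 3 K (p ^ n))), ∃ c : K, (g • e).1 = c • e.1 := by
  have h2 := two_ne_zero_of_ne_two (K := K) hp2
  obtain ⟨e, he⟩ := exists_fixed_iso hF hn X hX
  refine ⟨e, he, ?_⟩
  intro g hg
  have hfix : ∀ x ∈ X, x • (g • e) = g • e := by
    intro x hx
    have hc : g⁻¹ * x * g ∈ X := by
      have hg' := Subgroup.inv_mem _ hg
      rw [Subgroup.mem_normalizer_iff] at hg'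
      have := (hg' x).mp hx
      rwa [inv_inv] at this
    have := he _ hc
    rw [mul_smul, mul_smul] at this
    have h3 := congrArg (fun v => g • v) this
    simp only [smul_inv_smul] at h3
    exact h3
  by_cases hgo : Cfsg.hermForm 3 K (p ^ n) (g • e).1 e.1 = 0
  · exact iso_orth_prop hF e.1 (g • e).1 e.2.1 e.2.2 (g • e).2.2 hgo
  · exfalso
    apply hX1
    rw [eq_bot_iff]
    intro x hx
    rw [Subgroup.mem_bot]
    have hgo' : Cfsg.hermForm 3 K (p ^ n) e.1 (g • e).1 ≠ 0 := by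
      intro h
      exact hgo (hf_eq_zero_of_symm hF h)
    apply eq_one_of_fix_iso hF h2 x e.1 (g • e).1 e.2.2 (g • e).2.2 hgo'
    · exact congrArg Subtype.val (he x hx)
    · exact congrArg Subtype.val (hfix x hx)

/-- subgroups of `p`-local subgroups of `SU₃(q)` have a normal Sylow `p`-subgroup -/
theorem normal_sylow_of_le_normalizer [CharP K p] (hp2 : p ≠ 2)
    (hF : Fintype.card K = (p ^ n) ^ 2) (hn : 1 ≤ n) (X : Subgroup ↥(Cfsg.SU 3 K (p ^ n)))
    (hX : IsPGroup p ↥X) (hX1 : X ≠ ⊥) (H : Subgroup ↥(Cfsg.SU 3 K (p ^ n)))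
    (hH : H ≤ Subgroup.normalizer (X : Set ↥(Cfsg.SU 3 K (p ^ n)))) :
    ∃ S : Sylow p ↥H, (S : Subgroup ↥H).Normal := by
  obtain ⟨e, -, hN⟩ := normalizer_stab hp2 hF hn X hX hX1
  obtain ⟨St, hSt⟩ : ∃ St : Subgroup ↥(Cfsg.SU 3 K (p ^ n)),
    St = MulAction.stabilizer ↥(Cfsg.SU 3 K (p ^ n)) e := ⟨_, rfl⟩
  have hStp : IsPGroup p ↥St := by
    rw [hSt]
    apply IsPGroup.of_card (n := n * 3)
    rw [card_stabilizer hF, pow_mul]
  obtain ⟨P, hP⟩ : ∃ P : Subgroup ↥H, P = St.subgroupOf H := ⟨_, rfl⟩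
  have hPp : IsPGroup p ↥P := by
    rw [hP]
    exact hStp.comap_subtype
  -- elements of `H` scale `e`
  have hscale : ∀ h : ↥H, ∃ c : K, ((h : ↥(Cfsg.SU 3 K (p ^ n))) • e).1 = c • e.1 :=
    fun h => hN h.1 (hH h.2)
  have hmemP : ∀ h : ↥H, h ∈ P ↔ (h : ↥(Cfsg.SU 3 K (p ^ n))) • e = e := by
    intro h
    rw [hP, Subgroup.mem_subgroupOf, hSt, MulAction.mem_stabilizer_iff]
  have hnormal : P.Normal := by
    constructor
    intro s hs h
    rw [hmemP] at hs ⊢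
    obtain ⟨c, hc⟩ := hscale h⁻¹
    have h1 : (s : ↥(Cfsg.SU 3 K (p ^ n))) • ((h⁻¹ : ↥H) : ↥(Cfsg.SU 3 K (p ^ n))) • e =
        ((h⁻¹ : ↥H) : ↥(Cfsg.SU 3 K (p ^ n))) • e := by
      apply Subtype.ext
      rw [smul_val, hc, Matrix.mulVec_smul, ← smul_val, hs]
    show ((h * s * h⁻¹ : ↥H) : ↥(Cfsg.SU 3 K (p ^ n))) • e = e
    rw [Subgroup.coe_mul, Subgroup.coe_mul, mul_smul, mul_smul, h1, ← mul_smul, ← Subgroup.coe_mul,
      mul_inv_cancel, Subgroup.coe_one, one_smul]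
  -- `p`-elements of `H` lie in `P`
  have hpel : ∀ (y : ↥H) (k : ℕ), y ^ (p ^ k) = 1 → y ∈ P := by
    intro y k hy
    rw [hmemP]
    obtain ⟨c, hc⟩ := hscale y
    have hpow : ∀ m : ℕ, (((y ^ m : ↥H) : ↥(Cfsg.SU 3 K (p ^ n))) • e).1 = c ^ m • e.1 := by
      intro m
      induction m with
      | zero => simp
      | succ m ih =>
        rw [pow_succ, Subgroup.coe_mul, mul_smul, smul_val, hc, Matrix.mulVec_smul, ← smul_val, ih,
          smul_smul, pow_succ, mul_comm]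
    have h1 := hpow (p ^ k)
    rw [hy, Subgroup.coe_one, one_smul] at h1
    have hc1 : c ^ (p ^ k) = 1 := by
      obtain ⟨i, hi⟩ : ∃ i, e.1 i ≠ 0 := by
        by_contra hcon
        push Not at hcon
        exact e.2.1 (funext hcon)
      have := congrFun h1 i
      rw [Pi.smul_apply, smul_eq_mul] at this
      have h3 : (c ^ (p ^ k) - 1) * e.1 i = 0 := by linear_combination -this
      rcases mul_eq_zero.mp h3 with h4 | h4
      · linear_combination h4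
      · exact absurd h4 hi
    have hc' : c = 1 := by
      have h3 : (c - 1) ^ (p ^ k) = 0 := by
        rw [sub_pow_char_pow, hc1, one_pow, sub_self]
      have := pow_eq_zero_iff (pow_ne_zero k (Fact.out : p.Prime).ne_zero) |>.mp h3
      linear_combination this
    apply Subtype.ext
    rw [hc, hc', one_smul]
  obtain ⟨S⟩ : Nonempty (Sylow p ↥H) := inferInstance
  have hle : (S : Subgroup ↥H) ≤ P := by
    intro y hy
    obtain ⟨k, hk⟩ := S.2 ⟨y, hy⟩
    apply hpel y k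
    have := congrArg Subtype.val hk
    simpa using this
  have hSP : P = (S : Subgroup ↥H) := S.is_maximal' hPp hle
  refine ⟨S, ?_⟩
  rw [← hSP]
  exact hnormal

end Cfsg.Agent.Helper18.SU3Iso
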