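import Mathlib
import Cfsg.Agent.Helper18.SU3Iso4
import Cfsg.Agent.Helper26.Involves
import Cfsg.Agent.Helper14.QdOver4
import Cfsg.Agent.Helper14.QdTwo
import Cfsg.Agent.Helper14.SL2Nat

set_option autoImplicit false

/-! `PSU(3,q)`, `q = p^n` odd, does not involve `Qd(p)`. -/

namespace Cfsg.Agent.Helper18.SU3Iso

open Matrix

/-- Frattini reduction: a section with a nontrivial normal `p`-subgroup is an image of a
subgroup of a `p`-local subgroup -/
theorem exists_local_of_surjective {G Q : Type*} [Group G] [Finite G] [Group Q] (p : ℕ)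
    [Fact p.Prime] (K : Subgroup G) (f : ↥K →* Q) (hf : Function.Surjective f) (V : Subgroup Q)
    [V.Normal] (hV : IsPGroup p ↥V) (hV1 : V ≠ ⊥) :
    ∃ X : Subgroup G, IsPGroup p ↥X ∧ X ≠ ⊥ ∧ ∃ H : Subgroup G,
      H ≤ Subgroup.normalizer (X : Set G) ∧ ∃ f' : ↥H →* Q, Function.Surjective f' := by
  classical
  obtain ⟨V', hV'⟩ : ∃ V' : Subgroup ↥K, V' = V.comap f := ⟨_, rfl⟩
  haveI : V'.Normal := by rw [hV']; infer_instance
  obtain ⟨P0⟩ : Nonempty (Sylow p ↥V') := inferInstance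
  obtain ⟨P1, hP1⟩ : ∃ P1 : Subgroup ↥K, P1 = (P0 : Subgroup ↥V').map V'.subtype := ⟨_, rfl⟩
  have hfrat : Subgroup.normalizer (P1 : Set ↥K) ⊔ V' = ⊤ := by
    rw [hP1]
    exact Sylow.normalizer_sup_eq_top P0
  -- the image of `P1` is `V`
  have hP1V : ∀ v ∈ V, ∃ u ∈ P1, f u = v := by
    intro v hv
    subst hV'
    have hgsurj : Function.Surjective (f.subgroupComap V) :=
      f.subgroupComap_surjective_of_surjective V hf
    obtain ⟨T, hT⟩ : ∃ T : Sylow p ↥V, T = P0.mapSurjective hgsurj := ⟨_, rfl⟩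
    have hTtop : (T : Subgroup ↥V) = ⊤ := (T.is_maximal' (hV.to_subgroup ⊤) le_top).symm
    have hmem : (⟨v, hv⟩ : ↥V) ∈ (T : Subgroup ↥V) := by rw [hTtop]; exact Subgroup.mem_top _
    rw [hT, Sylow.coe_mapSurjective] at hmem
    obtain ⟨u, hu, huv⟩ := hmem
    refine ⟨u.1, ?_, ?_⟩
    · rw [hP1]
      exact ⟨u, hu, rfl⟩
    · exact congrArg Subtype.val huv
  obtain ⟨NK, hNK⟩ : ∃ NK : Subgroup ↥K, NK = Subgroup.normalizer (P1 : Set ↥K) := ⟨_, rfl⟩
  have hP1NK : P1 ≤ NK := by rw [hNK]; exact Subgroup.le_normalizer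
  have hNKsurj : ∀ y : Q, ∃ a ∈ NK, f a = y := by
    intro y
    obtain ⟨k, rfl⟩ := hf y
    have hk : k ∈ (↑(NK ⊔ V') : Set ↥K) := by
      rw [hNK, hfrat]
      exact Set.mem_univ _
    rw [Subgroup.mul_normal] at hk
    obtain ⟨a, ha, b, hb, rfl⟩ := hk
    have hfb : f b ∈ V := by
      rw [hV'] at hb
      exact hb
    obtain ⟨u, hu, huv⟩ := hP1V (f b) hfb
    refine ⟨a * u, Subgroup.mul_mem _ ha (hP1NK hu), ?_⟩
    rw [map_mul, map_mul, huv]
  refine ⟨P1.map K.subtype, ?_, ?_, NK.map K.subtype, ?_, ?_⟩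
  · rw [hP1]
    exact (P0.2.map V'.subtype).map K.subtype
  · intro h
    rw [Subgroup.map_eq_bot_iff_of_injective _ K.subtype_injective] at h
    apply hV1
    rw [eq_bot_iff]
    intro v hv
    obtain ⟨u, hu, rfl⟩ := hP1V v hv
    rw [h, Subgroup.mem_bot] at hu
    rw [hu, map_one]
    exact Subgroup.one_mem _
  · rw [hNK]
    exact Subgroup.le_normalizer_map K.subtype
  · obtain ⟨e, he⟩ : ∃ e : ↥NK ≃* ↥(NK.map K.subtype),
        e = NK.equivMapOfInjective K.subtype K.subtype_injective := ⟨_, rfl⟩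
    refine ⟨(f.comp NK.subtype).comp e.symm.toMonoidHom, ?_⟩
    intro y
    obtain ⟨a, ha, hay⟩ := hNKsurj y
    refine ⟨e ⟨a, ha⟩, ?_⟩
    simp only [MonoidHom.coe_comp, MulEquiv.coe_toMonoidHom, Function.comp_apply,
      MulEquiv.symm_apply_apply, Subgroup.coe_subtype]
    exact hay

/-- involvement lifts through quotients -/
theorem involves_of_quotient {H : Type*} [Group H] {G : Type*} [Group G] (N : Subgroup G)
    [N.Normal] (h : Cfsg.Involves H (G ⧸ N)) : Cfsg.Involves H G := by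
  obtain ⟨K, f, hf⟩ := Cfsg.Agent.Helper26.exists_surjective_of_involves h
  exact Cfsg.Agent.Helper26.involves_of_surjective (K.comap (QuotientGroup.mk' N))
    (f.comp ((QuotientGroup.mk' N).subgroupComap K))
    (hf.comp ((QuotientGroup.mk' N).subgroupComap_surjective_of_surjective K
      (QuotientGroup.mk'_surjective N)))

section qd

open Cfsg.Agent.Helper14

variable {p : ℕ} [Fact p.Prime]

/-- an element of order `p` in `SL₂(p)` -/
theorem dvd_card_sl2 : p ∣ Nat.card (SpecialLinearGroup (Fin 2) (ZMod p)) := by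
  obtain ⟨u, hu⟩ : ∃ u : SpecialLinearGroup (Fin 2) (ZMod p),
      u = ⟨!![1, 1; 0, 1], by simp [Matrix.det_fin_two]⟩ := ⟨_, rfl⟩
  have hpow : ∀ k : ℕ, ((u ^ k : SpecialLinearGroup (Fin 2) (ZMod p)) :
      Matrix (Fin 2) (Fin 2) (ZMod p)) = !![1, (k : ZMod p); 0, 1] := by
    intro k
    induction k with
    | zero =>
      rw [pow_zero]
      ext i j
      fin_cases i <;> fin_cases j <;> simp
    | succ k ih =>
      rw [pow_succ, Matrix.SpecialLinearGroup.coe_mul, ih, hu]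
      ext i j
      fin_cases i <;> fin_cases j <;> simp [Matrix.mul_apply, Fin.sum_univ_two, add_comm]
  have h1 : u ^ p = 1 := by
    apply Subtype.ext
    rw [hpow, CharP.cast_eq_zero]
    ext i j
    fin_cases i <;> fin_cases j <;> simp
  have h2 : u ≠ 1 := by
    intro h
    have := congrArg (fun M : SpecialLinearGroup (Fin 2) (ZMod p) =>
      (M : Matrix (Fin 2) (Fin 2) (ZMod p)) 0 1) h
    rw [hu] at this
    simp at this
  have h3 : orderOf u = p := orderOf_eq_prime h1 h2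
  have h4 := orderOf_dvd_natCard u
  rw [h3] at h4
  exact h4

/-- `Qd(p)` has no normal Sylow `p`-subgroup -/
theorem affSub_not_pClosed :
    ¬ ∃ S : Sylow p ↥(Cfsg.Agent.Helper17.affSub (ZMod p)),
      (S : Subgroup ↥(Cfsg.Agent.Helper17.affSub (ZMod p))).Normal := by
  rintro ⟨S, hS⟩
  obtain ⟨T, hT⟩ : ∃ T : Sylow p (SpecialLinearGroup (Fin 2) (ZMod p)),
      T = S.mapSurjective (affPi_surjective (F := ZMod p)) := ⟨_, rfl⟩
  have hTn : (T : Subgroup (SpecialLinearGroup (Fin 2) (ZMod p))).Normal := by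
    rw [hT, Sylow.coe_mapSurjective]
    exact hS.map _ (affPi_surjective (F := ZMod p))
  haveI := hTn
  have hbot := normal_pSubgroup_sl2_eq_bot (p := p)
    (T : Subgroup (SpecialLinearGroup (Fin 2) (ZMod p))) T.2
  exact T.ne_bot_of_dvd_card dvd_card_sl2 hbot

theorem ker_affPi_ne_bot : (affPi (ZMod p)).ker ≠ ⊥ := by
  intro h
  have h1 : affTau (fun _ => (1 : ZMod p)) ∈ (affPi (ZMod p)).ker := affTau_mem_ker _
  rw [h, Subgroup.mem_bot] at h1
  have h2 := congrArg affVec h1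
  rw [affVec_affTau] at h2
  have h3 := congrFun h2 0
  have h4 : affVec (1 : ↥(Cfsg.Agent.Helper17.affSub (ZMod p))) 0 = 0 := by
    simp [affVec, affMat3_one]
  rw [h4] at h3
  exact one_ne_zero h3

end qd

end Cfsg.Agent.Helper18.SU3Iso
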