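import Mathlib
import Cfsg.Agent.Helper18.SU3Iso5

set_option autoImplicit false

/-! `PSU(3,q)`, `q = p^n` odd, does not involve `Qd(p)`: main theorem. -/

namespace Cfsg.Agent.Helper18.SU3Iso

open Matrix Cfsg.Agent.Helper14

variable {K : Type*} [Field K] [Fintype K] {p n : ℕ} [Fact p.Prime] [CharP K p]

theorem not_involves_SU (hp2 : p ≠ 2) (hF : Fintype.card K = (p ^ n) ^ 2) (hn : 1 ≤ n) :
    ¬ Cfsg.Involves ↥(Cfsg.Agent.Helper17.affSub (ZMod p)) ↥(Cfsg.SU 3 K (p ^ n)) := by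
  intro hinv
  obtain ⟨K0, f, hf⟩ := Cfsg.Agent.Helper26.exists_surjective_of_involves hinv
  have hV : IsPGroup p ↥(affPi (ZMod p)).ker := isPGroup_ker_affPi
  obtain ⟨X, hX, hX1, H, hH, f', hf'⟩ :=
    exists_local_of_surjective p K0 f hf (affPi (ZMod p)).ker hV ker_affPi_ne_bot
  obtain ⟨S, hS⟩ := normal_sylow_of_le_normalizer hp2 hF hn X hX hX1 H hH
  apply affSub_not_pClosed (p := p)
  refine ⟨S.mapSurjective hf', ?_⟩
  rw [Sylow.coe_mapSurjective]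
  exact hS.map _ hf'

theorem main (hp2 : p ≠ 2) (hF : Fintype.card K = (p ^ n) ^ 2) (hn : 1 ≤ n) :
    ¬ Cfsg.Involves ↥(Cfsg.qd p) (Cfsg.PSU 3 K (p ^ n)) := by
  intro h
  rw [qd_eq_affSub p] at h
  exact not_involves_SU hp2 hF hn (involves_of_quotient _ h)

end Cfsg.Agent.Helper18.SU3Iso
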