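import Cfsg.Agent.Helper12.SzTDefs
import Cfsg.Agent.Helper8.AS7
import Cfsg.Agent.Helper8.DualGroup
import Cfsg.Agent.Helper18.SZTDUALORB1

/-! SZT piece DUALORB2 (helper18): `sum_dual_orbSum_mul`, `sum_dual_orbSum_mul_mul_conj`. -/

set_option autoImplicit false

namespace Cfsg.Agent.SZT

open Cfsg Cfsg.Agent.Helper11.SCTI
open scoped Classical ComplexConjugate

universe u

namespace DUALORB2

open DUALORB1

variable {B : Type u} [Group B] [Fintype B]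

/-- G2 -/
theorem sum_dual_mul (hc : ∀ a b : B, a * b = b * a) (F₁ F₂ : B → ℂ) :
    ∑ θ : B →* ℂˣ, (∑ a : B, F₁ a * ((θ a : ℂˣ) : ℂ)) * (∑ b : B, F₂ b * ((θ b : ℂˣ) : ℂ)) =
      (Nat.card B : ℂ) * ∑ p : B × B, if p.1 * p.2 = 1 then F₁ p.1 * F₂ p.2 else 0 := by
  have h1 : ∀ θ : B →* ℂˣ, (∑ a : B, F₁ a * ((θ a : ℂˣ) : ℂ)) *
      (∑ b : B, F₂ b * ((θ b : ℂˣ) : ℂ)) =
      ∑ p : B × B, (F₁ p.1 * F₂ p.2) * ((θ (p.1 * p.2) : ℂˣ) : ℂ) := by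
    intro θ
    rw [Finset.sum_mul_sum, Fintype.sum_prod_type]
    apply Finset.sum_congr rfl
    intro a _
    apply Finset.sum_congr rfl
    intro b _
    rw [map_mul, Units.val_mul]
    ring
  rw [Finset.sum_congr rfl (fun θ _ => h1 θ), sum_dual_sum hc]

/-- G3 -/
theorem sum_dual_mul_mul_conj (hc : ∀ a b : B, a * b = b * a) (F₁ F₂ F₃ : B → ℂ) :
    ∑ θ : B →* ℂˣ, (∑ a : B, F₁ a * ((θ a : ℂˣ) : ℂ)) * (∑ b : B, F₂ b * ((θ b : ℂˣ) : ℂ)) *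
        conj (∑ c : B, F₃ c * ((θ c : ℂˣ) : ℂ)) =
      (Nat.card B : ℂ) * ∑ p : B × B, F₁ p.1 * F₂ p.2 * conj (F₃ (p.1 * p.2)) := by
  have h1 : ∀ θ : B →* ℂˣ, (∑ a : B, F₁ a * ((θ a : ℂˣ) : ℂ)) *
      (∑ b : B, F₂ b * ((θ b : ℂˣ) : ℂ)) * conj (∑ c : B, F₃ c * ((θ c : ℂˣ) : ℂ)) =
      ∑ p : (B × B) × B, (F₁ p.1.1 * F₂ p.1.2 * conj (F₃ p.2)) *
        ((θ (p.1.1 * p.1.2 * p.2⁻¹) : ℂˣ) : ℂ) := by
    intro θ
    rw [map_sum, Finset.sum_mul_sum, Finset.sum_mul, Fintype.sum_prod_type, Fintype.sum_prod_type]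
    apply Finset.sum_congr rfl
    intro a _
    rw [Finset.sum_mul_sum]
    apply Finset.sum_congr rfl
    intro b _
    apply Finset.sum_congr rfl
    intro c _
    rw [map_mul, conj_val, map_mul, map_mul, Units.val_mul, Units.val_mul]
    ring
  rw [Finset.sum_congr rfl (fun θ _ => h1 θ), sum_dual_sum hc]
  congr 1
  rw [Fintype.sum_prod_type]
  apply Finset.sum_congr rfl
  intro p _
  rw [Finset.sum_eq_single (p.1 * p.2)]
  · simp
  · intro c _ hc'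
    rw [if_neg]
    intro h
    apply hc'
    rw [mul_inv_eq_one] at h
    exact h.symm
  · intro h
    exact absurd (Finset.mem_univ _) h

end DUALORB2

variable {G : Type u} [Group G] [Fintype G]

open DUALORB1 DUALORB2 in
/-- A11c -/
theorem sum_dual_orbSum_mul (A : Subgroup G) (hc : ∀ a b : A, a * b = b * a) (g h : G) :
    ∑ θ : A →* ℂˣ, orbSum A θ g * orbSum A θ h =
      (Nat.card A : ℂ) *
        (Nat.card {p : A × A // ((p.1 : G) ≠ 1 ∧ IsConj (p.1 : G) g) ∧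
          ((p.2 : G) ≠ 1 ∧ IsConj (p.2 : G) h) ∧ p.1 * p.2 = 1} : ℂ) := by
  simp only [orbSum_eq_sum]
  rw [sum_dual_mul hc (ind A g) (ind A h)]
  congr 1
  rw [← sum_boole_card]
  apply Finset.sum_congr rfl
  intro p _
  unfold ind
  exact ind_mul_ind_if _ _ _ _ _ _ _

open DUALORB1 DUALORB2 in
/-- A11d -/
theorem sum_dual_orbSum_mul_mul_conj (A : Subgroup G) (hc : ∀ a b : A, a * b = b * a)
    (g h k : G) :
    ∑ θ : A →* ℂˣ, orbSum A θ g * orbSum A θ h * conj (orbSum A θ k) =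
      (Nat.card A : ℂ) *
        (Nat.card {p : A × A // ((p.1 : G) ≠ 1 ∧ IsConj (p.1 : G) g) ∧
          ((p.2 : G) ≠ 1 ∧ IsConj (p.2 : G) h) ∧
          (((p.1 * p.2 : A) : G) ≠ 1 ∧ IsConj ((p.1 * p.2 : A) : G) k)} : ℂ) := by
  simp only [orbSum_eq_sum]
  rw [sum_dual_mul_mul_conj hc (ind A g) (ind A h) (ind A k)]
  congr 1
  rw [← sum_boole_card]
  apply Finset.sum_congr rfl
  intro p _
  rw [conj_ind]
  unfold ind
  exact ind_mul_ind_mul_ind _ _ _ _ _ _ _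

end Cfsg.Agent.SZT
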