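import Cfsg.Agent.Helper12.SzTDefs

/-! SZT piece SUMIND (helper18): `sum_indA`, `sum_indA_one_char`. -/

set_option autoImplicit false

namespace Cfsg.Agent.SZT

open Cfsg Cfsg.Agent.Helper11.SCTI
open scoped Classical ComplexConjugate

universe u

variable {G : Type u} [Group G] [Fintype G]

/-- D generic: sums of `indA` over `A` -/
theorem sum_indA {A : Subgroup G} (hA : SC A) {θ : A →* ℂˣ} (hθ : θ ≠ 1) :
    ∑ x : A, indA A θ x = 0 := by
  unfold indA
  rw [← Finset.mul_sum, Finset.sum_comm]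
  have h0 : ∀ n : Subgroup.normalizer (A : Set G),
      ∑ x : A, ((θ (conjN A n x) : ℂˣ) : ℂ) = 0 := by
    intro n
    have hre : ∑ x : A, ((θ (conjN A n x) : ℂˣ) : ℂ) = ∑ y : A, ((θ y : ℂˣ) : ℂ) :=
      Equiv.sum_comp (conjN A n).toEquiv (fun y : A => ((θ y : ℂˣ) : ℂ))
    rw [hre]
    have hne : (Units.coeHom ℂ).comp θ ≠ 1 := by
      intro h
      apply hθ
      ext a
      have := DFunLike.congr_fun h a
      simpa using this
    exact sum_hom_units_eq_zero ((Units.coeHom ℂ).comp θ) hne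
  rw [Finset.sum_congr rfl (fun n _ => h0 n), Finset.sum_const_zero, mul_zero]

theorem sum_indA_one_char {A : Subgroup G} (hA : SC A) :
    ∑ x : A, indA A (1 : A →* ℂˣ) x = (Nat.card (Subgroup.normalizer (A : Set G)) : ℂ) := by
  unfold indA
  have hA0 : (Nat.card A : ℂ) ≠ 0 := Nat.cast_ne_zero.mpr Nat.card_pos.ne'
  simp only [MonoidHom.one_apply, Units.val_one, Finset.sum_const, Finset.card_univ,
    nsmul_eq_mul, mul_one]
  rw [← Nat.card_eq_fintype_card, ← Nat.card_eq_fintype_card]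
  field_simp

end Cfsg.Agent.SZT
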