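import Mathlib
import Cfsg.Agent.Helper28.Siegel6
import Cfsg.Agent.Helper28.Spin6
import Cfsg.Agent.S2613

set_option autoImplicit false
set_option linter.unusedSectionVars false

/-! Piece SGEN of S1082 (driver helper28): the coordinate Siegel transformations
`siegO (δ_p, c δ_q)` generate the group `S (QfPlus m F)` of all Siegel transformations. -/

namespace Cfsg.Agent.Helper18.SgSGEN

open Cfsg.Agent.Helper28.Spin Cfsg.Agent.Helper28.Sg Matrix

variable {F : Type*} [Field F] {m : ℕ}

/-- every coordinate vector is singular -/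
theorem Q_single (p : Fin m ⊕ Fin m) : QfPlus m F (Pi.single p 1) = 0 := by
  rcases p with j | j
  · exact Q_single_left (Cfsg.Agent.S2613.hypPair_plus m j)
  · exact Q_single_right (Cfsg.Agent.S2613.hypPair_plus m j)

/-- the polar form against a coordinate vector reads off the swapped coordinate -/
theorem B_single (p : Fin m ⊕ Fin m) (x : Fin m ⊕ Fin m → F) :
    B (QfPlus m F) (Pi.single p 1) x = x p.swap := by
  rcases p with j | j
  · exact polar_single_left (Cfsg.Agent.S2613.hypPair_plus m j) x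
  · exact polar_single_right (Cfsg.Agent.S2613.hypPair_plus m j) x

theorem swap_ne (p : Fin m ⊕ Fin m) : p.swap ≠ p := by
  rcases p with j | j <;> simp

section

variable (R : Subgroup ↥(Cfsg.isometryGroup F ⇑(QfPlus m F)))
  (hR : ∀ (p q : Fin m ⊕ Fin m) (c : F), q ≠ p → q ≠ p.swap →
      ∀ (hu : QfPlus m F (Pi.single p 1) = 0)
        (huv : B (QfPlus m F) (Pi.single p 1) (c • Pi.single q 1) = 0),
        siegO (QfPlus m F) (Pi.single p 1) (c • Pi.single q 1) hu huv ∈ R)

include hR in
/-- partial sums -/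
theorem sieg_sum_mem (p : Fin m ⊕ Fin m) (v : Fin m ⊕ Fin m → F) (s : Finset (Fin m ⊕ Fin m))
    (hs : p.swap ∉ s) :
    ∀ (w : Fin m ⊕ Fin m → F), w = ∑ q ∈ s, v q • Pi.single q 1 →
      ∀ (h : B (QfPlus m F) (Pi.single p 1) w = 0),
        siegO (QfPlus m F) (Pi.single p 1) w (Q_single p) h ∈ R := by
  classical
  induction s using Finset.induction_on with
  | empty =>
    intro w hw h
    rw [Finset.sum_empty] at hw
    subst hw
    rw [siegO_zero]
    exact R.one_mem
  | insert a s ha ih =>
    intro w hw h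
    rw [Finset.sum_insert ha] at hw
    have hs' : p.swap ∉ s := fun h' => hs (Finset.mem_insert_of_mem h')
    have hap : a ≠ p.swap := fun h' => hs (h' ▸ Finset.mem_insert_self a s)
    have h1 : B (QfPlus m F) (Pi.single p 1) (v a • Pi.single a 1) = 0 := by
      rw [B_single]
      simp [hap.symm]
    have h2 : B (QfPlus m F) (Pi.single p 1) (∑ q ∈ s, v q • Pi.single q 1) = 0 := by
      rw [B_single, Finset.sum_apply]
      apply Finset.sum_eq_zero
      intro q hq
      have : q ≠ p.swap := fun h' => hs' (h' ▸ hq)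
      simp [this.symm]
    have h3 := siegO_mul (QfPlus m F) (Q_single p) h1 h2 (B_add_right_zero _ h1 h2)
    have h4 : siegO (QfPlus m F) (Pi.single p 1) w (Q_single p) h =
        siegO (QfPlus m F) (Pi.single p 1) (v a • Pi.single a 1 + ∑ q ∈ s, v q • Pi.single q 1)
          (Q_single p) (B_add_right_zero _ h1 h2) :=
      siegO_congr _ _ _ _ _ rfl hw
    rw [h4, ← h3]
    apply R.mul_mem _ (ih hs' _ rfl h2)
    by_cases hpa : a = p
    · subst hpa
      have h0 : B (QfPlus m F) (Pi.single a 1) (0 : Fin m ⊕ Fin m → F) = 0 :=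
        QuadraticMap.polar_zero_right _ _
      have h5 : B (QfPlus m F) (Pi.single a 1) (0 + v a • Pi.single a 1) = 0 := by
        rw [zero_add]; exact h1
      have h6 := siegO_add_smul_self (QfPlus m F) (v a) (Q_single a) h0 h5
      have h7 : siegO (QfPlus m F) (Pi.single a 1) (v a • Pi.single a 1) (Q_single a) h1 =
          siegO (QfPlus m F) (Pi.single a 1) (0 + v a • Pi.single a 1) (Q_single a) h5 :=
        siegO_congr _ _ _ _ _ rfl (zero_add _).symm
      rw [h7, h6, siegO_zero]
      exact R.one_mem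
    · exact hR p a (v a) hpa hap (Q_single p) h1

include hR in
/-- step (1): the whole group `T (δ_p)` lies in `R` -/
theorem sieg_single_mem (p : Fin m ⊕ Fin m) (w : Fin m ⊕ Fin m → F)
    (h : B (QfPlus m F) (Pi.single p 1) w = 0) :
    siegO (QfPlus m F) (Pi.single p 1) w (Q_single p) h ∈ R := by
  classical
  have hw0 : w p.swap = 0 := by rw [← B_single p w]; exact h
  apply sieg_sum_mem R hR p w (Finset.univ.erase p.swap) (Finset.notMem_erase _ _) w _ h
  funext i
  rw [Finset.sum_apply]
  by_cases hi : i = p.swap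
  · rw [hi, hw0]
    symm
    apply Finset.sum_eq_zero
    intro q hq
    have : q ≠ p.swap := Finset.ne_of_mem_erase hq
    simp [this.symm]
  · rw [Finset.sum_eq_single i]
    · simp
    · intro q _ hqi
      simp [hqi.symm]
    · intro hi'
      exact absurd (Finset.mem_erase.2 ⟨hi, Finset.mem_univ i⟩) hi'

include hR in
theorem S_le_of_single' : S (QfPlus m F) ≤ R := by
  classical
  unfold S
  rw [Subgroup.closure_le]
  rintro g ⟨u, v, hu, huv, rfl⟩
  rw [SetLike.mem_coe]
  by_cases hu0 : u = 0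
  · subst hu0
    rw [siegO_zero_left]
    exact R.one_mem
  -- a non-zero coordinate of `u`
  obtain ⟨p', hp'⟩ : ∃ p', u p' ≠ 0 := by
    by_contra hcon
    push Not at hcon
    exact hu0 (funext hcon)
  set c := u p' with hc
  set p := p'.swap with hp
  have hpp' : p.swap = p' := by rw [hp, Sum.swap_swap]
  set x : Fin m ⊕ Fin m → F := Pi.single p' 1 with hx
  set y : Fin m ⊕ Fin m → F := c⁻¹ • u with hy
  have hQx : QfPlus m F x = 0 := Q_single p'
  have hQy : QfPlus m F y = 0 := by rw [hy, Q_smul, hu, mul_zero]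
  have hpx : B (QfPlus m F) (Pi.single p 1) x = 1 := by
    rw [B_single, hpp', hx]; simp
  have hpy : B (QfPlus m F) (Pi.single p 1) y = 1 := by
    rw [B_single, hpp', hy, Pi.smul_apply, smul_eq_mul, ← hc]
    exact inv_mul_cancel₀ hp'
  have hd : B (QfPlus m F) (Pi.single p 1) (y - x) = 0 := by
    show QuadraticMap.polar _ _ (y - x) = 0
    rw [QuadraticMap.polar_sub_right]
    simp only [B] at hpx hpy
    rw [hpx, hpy, sub_self]
  set g := siegO (QfPlus m F) (Pi.single p 1) (y - x) (Q_single p) hd with hg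
  have hgR : g ∈ R := sieg_single_mem R hR p (y - x) hd
  have hgx : mt (QfPlus m F) g *ᵥ x = y := siegO_move (Q_single p) hQx hQy hpx hpy hd
  -- `u = c • y`
  have huy : u = c • y := by rw [hy, smul_smul, mul_inv_cancel₀ hp', one_smul]
  have hyv : B (QfPlus m F) y v = 0 := B_smul_left_zero _ c⁻¹ huv
  have hcy : QfPlus m F (c • y) = 0 := by rw [← huy]; exact hu
  have hcyv : B (QfPlus m F) (c • y) v = 0 := by rw [← huy]; exact huv
  have hycv : B (QfPlus m F) y (c • v) = 0 := B_smul_right_zero _ c hyv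
  have e1 : siegO (QfPlus m F) u v hu huv = siegO (QfPlus m F) y (c • v) hQy hycv := by
    rw [siegO_congr _ hu huv hcy hcyv huy rfl]
    exact siegO_smul _ c hQy hyv hcy hcyv hycv
  -- pull back along `g`
  set v' := mt (QfPlus m F) g⁻¹ *ᵥ (c • v) with hv'
  have hgv' : mt (QfPlus m F) g *ᵥ v' = c • v := by rw [hv', mt_mulVec_inv]
  have hxv' : B (QfPlus m F) x v' = 0 := by
    rw [← B_isom _ g, hgx, hgv']; exact hycv
  have hgxQ : QfPlus m F (mt (QfPlus m F) g *ᵥ x) = 0 := by rw [hgx]; exact hQy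
  have hgxv : B (QfPlus m F) (mt (QfPlus m F) g *ᵥ x) (mt (QfPlus m F) g *ᵥ v') = 0 := by
    rw [B_isom]; exact hxv'
  have e2 := siegO_conj (QfPlus m F) g hQx hxv' hgxQ hgxv
  have e3 : siegO (QfPlus m F) y (c • v) hQy hycv =
      siegO (QfPlus m F) (mt (QfPlus m F) g *ᵥ x) (mt (QfPlus m F) g *ᵥ v') hgxQ hgxv :=
    siegO_congr _ _ _ _ _ hgx.symm hgv'.symm
  rw [e1, e3, ← e2]
  apply R.mul_mem (R.mul_mem hgR _) (R.inv_mem hgR)
  exact sieg_single_mem R hR p' v' hxv'

end

/-- **Piece SGEN**: the coordinate Siegel transformations generate `S (QfPlus m F)`. -/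
theorem S_le_of_single {F : Type*} [Field F] {m : ℕ}
    (R : Subgroup ↥(Cfsg.isometryGroup F ⇑(QfPlus m F)))
    (hR : ∀ (p q : Fin m ⊕ Fin m) (c : F), q ≠ p → q ≠ p.swap →
      ∀ (hu : QfPlus m F (Pi.single p 1) = 0)
        (huv : B (QfPlus m F) (Pi.single p 1) (c • Pi.single q 1) = 0),
        siegO (QfPlus m F) (Pi.single p 1) (c • Pi.single q 1) hu huv ∈ R) :
    S (QfPlus m F) ≤ R :=
  S_le_of_single' R hR

end Cfsg.Agent.Helper18.SgSGEN
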