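import Mathlib

/-!
# Pieces for S0689 (insoluble sharply doubly transitive groups)

* `exists_half`: two anticommuting square roots of `-1` on a finite `𝔽_p`-space `V` (`p` odd)
  give a subspace `W` with `|V| = |W|²` which is invariant under everything commuting with both.
* `arith`: the finite arithmetic check.
* `nonempty_mulEquiv_prod`: internal direct products.
-/

set_option autoImplicit false

namespace Cfsg.Agent.Helper18.SharpIns

section half

variable {p : ℕ} [Fact p.Prime] {V : Type*} [AddCommGroup V] [Module (ZMod p) V]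

theorem exists_half (hp2 : p ≠ 2) (i j : Module.End (ZMod p) V) (hi : i * i = -1)
    (hj : j * j = -1) (hij : i * j = -(j * i)) :
    ∃ W : Submodule (ZMod p) V, Nat.card V = Nat.card W ^ 2 ∧
      ∀ g : Module.End (ZMod p) V, g * i = i * g → g * j = j * g → ∀ w ∈ W, g w ∈ W := by
  obtain ⟨a, b, hab⟩ := ZMod.sq_add_sq p (-1)
  have hab' : a * a + b * b = -1 := by rw [← hab]; ring
  have h2 : (2 : ZMod p) ≠ 0 := by
    intro h
    have : ((2 : ℕ) : ZMod p) = 0 := by exact_mod_cast h
    rw [ZMod.natCast_eq_zero_iff] at this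
    have := (Nat.prime_dvd_prime_iff_eq (Fact.out : p.Prime) Nat.prime_two).1 this
    exact hp2 this
  set t : Module.End (ZMod p) V := a • i + b • j with ht
  set s : Module.End (ZMod p) V := b • i - a • j with hs
  have hji : j * i = -(i * j) := by rw [hij, neg_neg]
  have htt : t * t = 1 := by
    rw [ht]
    simp only [add_mul, mul_add, smul_mul_assoc, mul_smul_comm, hi, hj, hji]
    linear_combination (norm := module) (-hab') • (1 : Module.End (ZMod p) V)
  have hss : s * s = 1 := by
    rw [hs]
    simp only [sub_mul, mul_sub, smul_mul_assoc, mul_smul_comm, hi, hj, hji]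
    linear_combination (norm := module) (-hab') • (1 : Module.End (ZMod p) V)
  have hts : t * s = -(s * t) := by
    rw [ht, hs]
    simp only [add_mul, mul_add, sub_mul, mul_sub, smul_mul_assoc, mul_smul_comm, hi, hj, hji]
    module
  -- pointwise versions
  have htt' : ∀ v, t (t v) = v := fun v => by
    have := congrArg (fun f : Module.End (ZMod p) V => f v) htt
    simpa using this
  have hss' : ∀ v, s (s v) = v := fun v => by
    have := congrArg (fun f : Module.End (ZMod p) V => f v) hss
    simpa using this
  have hts' : ∀ v, t (s v) = -(s (t v)) := fun v => by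
    have := congrArg (fun f : Module.End (ZMod p) V => f v) hts
    simpa using this
  set W : Submodule (ZMod p) V := LinearMap.ker (t - 1) with hW
  set W' : Submodule (ZMod p) V := LinearMap.ker (t + 1) with hW'
  have memW : ∀ v, v ∈ W ↔ t v = v := fun v => by
    rw [hW, LinearMap.mem_ker, LinearMap.sub_apply, Module.End.one_apply, sub_eq_zero]
  have memW' : ∀ v, v ∈ W' ↔ t v = -v := fun v => by
    rw [hW', LinearMap.mem_ker, LinearMap.add_apply, Module.End.one_apply,
      add_eq_zero_iff_eq_neg]
  refine ⟨W, ?_, ?_⟩
  · -- `V = W ⊕ W'` and `s : W ≃ W'`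
    have hcompl : IsCompl W W' := by
      constructor
      · rw [Submodule.disjoint_def]
        intro v hv hv'
        rw [memW] at hv
        rw [memW'] at hv'
        have h3 : (2 : ZMod p) • v = 0 := by
          rw [two_smul]
          nth_rewrite 1 [← hv]
          rw [hv', neg_add_cancel]
        rcases smul_eq_zero.1 h3 with h | h
        · exact absurd h h2
        · exact h
      · rw [codisjoint_iff, eq_top_iff]
        intro v _
        have e : v = (2 : ZMod p)⁻¹ • (v + t v) + (2 : ZMod p)⁻¹ • (v - t v) := by
          rw [← smul_add]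
          have : v + t v + (v - t v) = (2 : ZMod p) • v := by rw [two_smul]; abel
          rw [this, smul_smul, inv_mul_cancel₀ h2, one_smul]
        rw [e]
        apply Submodule.add_mem_sup
        · apply Submodule.smul_mem
          rw [memW, map_add, htt', add_comm]
        · apply Submodule.smul_mem
          rw [memW', map_sub, htt']; abel
    have hcard : Nat.card V = Nat.card W * Nat.card W' := by
      rw [← Nat.card_prod]
      exact (Nat.card_congr (Submodule.prodEquivOfIsCompl W W' hcompl).toEquiv).symm
    have heq : Nat.card W' = Nat.card W := by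
      apply Nat.card_congr
      refine ⟨fun w => ⟨s w, ?_⟩, fun w => ⟨s w, ?_⟩, fun w => ?_, fun w => ?_⟩
      · rw [memW, hts']
        have := (memW' w.1).1 w.2
        rw [this, map_neg, neg_neg]
      · rw [memW', hts']
        have := (memW w.1).1 w.2
        rw [this]
      · apply Subtype.ext; exact hss' _
      · apply Subtype.ext; exact hss' _
    rw [hcard, heq, sq]
  · intro g hgi hgj w hw
    rw [memW] at hw ⊢
    have hgt : g * t = t * g := by
      rw [ht, mul_add, add_mul, mul_smul_comm, mul_smul_comm, smul_mul_assoc, smul_mul_assoc, hgi,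
        hgj]
    have := congrArg (fun f : Module.End (ZMod p) V => f w) hgt
    simp only [Module.End.mul_apply] at this
    rw [← this, hw]

end half

section arith

/-- the arithmetic of the insoluble near-field case -/
theorem arith (p n q ι m : ℕ) (hp : p.Prime) (hq : q ^ 2 = p ^ n) (hι : ι = 1 ∨ ι = 2)
    (hH : q ^ 2 - 1 = 120 * ι * m) (hm : m ∣ q - 1) (hcop : m.Coprime 30) (hq1 : 1 < q) :
    (q = 11 ∧ ι = 1 ∧ m = 1) ∨ (q = 29 ∧ ι = 1 ∧ m = 7) ∨ (q = 59 ∧ ι = 1 ∧ m = 29) := by
  have hm0 : 0 < m := by
    rcases Nat.eq_zero_or_pos m with h | h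
    · subst h; simp at hcop
    · exact h
  have hmv : m = (q ^ 2 - 1) / (120 * ι) := by
    rw [hH]
    have : 0 < 120 * ι := by rcases hι with h | h <;> subst h <;> norm_num
    exact (Nat.mul_div_cancel_left m this).symm
  obtain ⟨j, hj⟩ := id hm
  have hq2 : q ^ 2 - 1 = (q - 1) * (q + 1) := by
    obtain ⟨k, rfl⟩ : ∃ k, q = k + 1 := ⟨q - 1, by omega⟩
    simp only [Nat.add_sub_cancel]
    have : (k + 1) ^ 2 = k * (k + 1 + 1) + 1 := by ring
    rw [this, Nat.add_sub_cancel]
  have hkey : j * (q + 1) = 120 * ι := by
    have h1 : m * (j * (q + 1)) = m * (120 * ι) := by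
      calc m * (j * (q + 1)) = (m * j) * (q + 1) := by ring
        _ = (q - 1) * (q + 1) := by rw [hj]
        _ = 120 * ι * m := by rw [← hq2, hH]
        _ = m * (120 * ι) := by ring
    exact Nat.eq_of_mul_eq_mul_left hm0 h1
  have hdvd : q + 1 ∣ 240 := by
    have h1 : q + 1 ∣ 120 * ι := ⟨j, by rw [← hkey, mul_comm]⟩
    have h2 : 120 * ι ∣ 240 := by rcases hι with h | h <;> subst h <;> norm_num
    exact h1.trans h2
  have hmem : q + 1 ∈ Nat.divisors 240 := Nat.mem_divisors.2 ⟨hdvd, by norm_num⟩
  have hdiv : Nat.divisors 240 = {1, 2, 3, 4, 5, 6, 8, 10, 12, 15, 16, 20, 24, 30, 40, 48, 60, 80,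
      120, 240} := by decide
  rw [hdiv] at hmem
  simp only [Finset.mem_insert, Finset.mem_singleton] at hmem
  have hq119 : q ≠ 119 := by
    intro h
    subst h
    have h7 : 7 ∣ p ^ n := by rw [← hq]; norm_num
    have h17 : 17 ∣ p ^ n := by rw [← hq]; norm_num
    have e7 := (Nat.prime_dvd_prime_iff_eq (by norm_num) hp).1
      ((by norm_num : Nat.Prime 7).dvd_of_dvd_pow h7)
    have e17 := (Nat.prime_dvd_prime_iff_eq (by norm_num) hp).1
      ((by norm_num : Nat.Prime 17).dvd_of_dvd_pow h17)
    omega
  clear hj hkey hdvd hdiv hq2 hq hp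
  rcases hmem with h | h | h | h | h | h | h | h | h | h | h | h | h | h | h | h | h | h | h | h <;>
    (have hqv : q = _ := Nat.add_right_cancel h) <;> subst hqv <;>
    rcases hι with h' | h' <;> subst h' <;> norm_num at hmv <;> subst hmv <;>
    revert hH hm hcop hq119 hq1 <;> decide

end arith

end Cfsg.Agent.Helper18.SharpIns
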