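import Mathlib
import Cfsg.Agent.Helper1.Dihedral

set_option autoImplicit false

namespace Cfsg.Agent.Helper18

open Cfsg.Agent.Helper1

/-- A normal subgroup inside a point stabilizer of a faithful transitive action is trivial. -/
theorem normal_le_stabilizer_eq_bot {G Ω : Type*} [Group G] [MulAction G Ω] [FaithfulSMul G Ω]
    [MulAction.IsPretransitive G Ω] (K : Subgroup G) [hK : K.Normal] (a : Ω)
    (hle : K ≤ MulAction.stabilizer G a) : K = ⊥ := by
  rw [eq_bot_iff]
  intro k hk
  rw [Subgroup.mem_bot]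
  apply FaithfulSMul.eq_of_smul_eq_smul (α := Ω)
  intro ω
  obtain ⟨g, rfl⟩ := MulAction.exists_smul_eq G a ω
  rw [one_smul]
  have h1 : g⁻¹ * k * g ∈ K := by
    have := hK.conj_mem k hk g⁻¹
    rwa [inv_inv] at this
  have h2 : (g⁻¹ * k * g) • a = a := MulAction.mem_stabilizer_iff.mp (hle h1)
  calc k • g • a = g • ((g⁻¹ * k * g) • a) := by simp [mul_smul]
    _ = g • a := by rw [h2]

/-- Two involutions generating a finite group: the group has order `2 * orderOf (x * y)` and
is dihedral. -/
theorem dihedral_of_closure_eq_top {G : Type*} [Group G] {x y : G}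
    (hx : x * x = 1) (hy : y * y = 1) (hx1 : x ≠ 1) (hy1 : y ≠ 1)
    (hgen : Subgroup.closure ({x, y} : Set G) = ⊤) :
    Nonempty (G ≃* DihedralGroup (orderOf (x * y))) := by
  have hinj := dihedralHom_injective hx hy hx1 hy1
  have hsurj : Function.Surjective (dihedralHom hx hy) := by
    rw [← MonoidHom.range_eq_top, dihedralHom_range, hgen]
  exact ⟨(MulEquiv.ofBijective _ ⟨hinj, hsurj⟩).symm⟩

theorem card_of_closure_eq_top {G : Type*} [Group G] {x y : G}
    (hx : x * x = 1) (hy : y * y = 1) (hx1 : x ≠ 1) (hy1 : y ≠ 1)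
    (hgen : Subgroup.closure ({x, y} : Set G) = ⊤) :
    Nat.card G = 2 * orderOf (x * y) := by
  obtain ⟨e⟩ := dihedral_of_closure_eq_top hx hy hx1 hy1 hgen
  rw [Nat.card_congr e.toEquiv, DihedralGroup.nat_card]

theorem primitive_suborbit_two {G Ω : Type*} [Group G] [Finite G] [MulAction G Ω]
    [FaithfulSMul G Ω] [Finite Ω]
    (hprim : MulAction.IsPreprimitive G Ω) (a b : Ω)
    (h2 : Nat.card (MulAction.orbit (MulAction.stabilizer G a) b) = 2) :
    Nat.card (MulAction.stabilizer G a) = 2 ∧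
      ∃ p : ℕ, p.Prime ∧ Nonempty (G ≃* DihedralGroup p) := by
  classical
  have := hprim
  have htrans : MulAction.IsPretransitive G Ω := hprim.toIsPretransitive
  -- a ≠ b
  have hab : a ≠ b := by
    intro e
    subst e
    have hsub : (MulAction.orbit (MulAction.stabilizer G a) a).Subsingleton := by
      rintro _ ⟨g, rfl⟩ _ ⟨h, rfl⟩
      show (g : G) • a = (h : G) • a
      rw [MulAction.mem_stabilizer_iff.mp g.2, MulAction.mem_stabilizer_iff.mp h.2]
    have := hsub.coe_sort
    have h1 : Nat.card (MulAction.orbit (MulAction.stabilizer G a) a) ≤ 1 :=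
      Finite.card_le_one_iff_subsingleton.mpr this
    omega
  have : Nontrivial Ω := ⟨⟨a, b, hab⟩⟩
  set H := MulAction.stabilizer G a with hH
  set H' := MulAction.stabilizer G b with hH'
  set K := H ⊓ H' with hK
  have hcoatom : IsCoatom H := MulAction.IsPreprimitive.isCoatom_stabilizer_of_isPreprimitive G a
  -- index of K in H is 2
  have hsub1 : K.subgroupOf H = MulAction.stabilizer H b := by
    ext h
    rw [Subgroup.mem_subgroupOf, MulAction.mem_stabilizer_iff, hK, Subgroup.mem_inf]
    constructor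
    · rintro ⟨_, h2⟩; exact MulAction.mem_stabilizer_iff.mp h2
    · intro h2; exact ⟨h.2, MulAction.mem_stabilizer_iff.mpr h2⟩
  have hidx1 : (K.subgroupOf H).index = 2 := by
    rw [hsub1, MulAction.index_stabilizer, ← Nat.card_coe_set_eq]; exact h2
  have hcardK1 : Nat.card (K.subgroupOf H) = Nat.card K :=
    Nat.card_congr (Subgroup.subgroupOfEquivOfLe (inf_le_left : K ≤ H)).toEquiv
  have hcardK2 : Nat.card (K.subgroupOf H') = Nat.card K :=
    Nat.card_congr (Subgroup.subgroupOfEquivOfLe (inf_le_right : K ≤ H')).toEquiv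
  have hcardH : Nat.card H = Nat.card K * 2 := by
    rw [← hcardK1, ← hidx1]; exact (Subgroup.card_mul_index _).symm
  have hcardHH' : Nat.card H = Nat.card H' := by
    have e1 := Subgroup.card_mul_index H
    have e2 := Subgroup.card_mul_index H'
    rw [hH, MulAction.index_stabilizer_of_transitive] at e1
    rw [hH', MulAction.index_stabilizer_of_transitive] at e2
    have hpos : 0 < Nat.card Ω := Nat.card_pos
    exact Nat.eq_of_mul_eq_mul_right hpos (e1.trans e2.symm)
  have hidx2 : (K.subgroupOf H').index = 2 := by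
    have e := Subgroup.card_mul_index (K.subgroupOf H')
    rw [hcardK2, ← hcardHH', hcardH] at e
    have hpos : 0 < Nat.card K := Nat.card_pos
    exact Nat.eq_of_mul_eq_mul_left hpos e
  have hn1 : H ≤ Subgroup.normalizer K :=
    (Subgroup.normal_subgroupOf_iff_le_normalizer inf_le_left).mp
      (Subgroup.normal_of_index_eq_two hidx1)
  have hn2 : H' ≤ Subgroup.normalizer K :=
    (Subgroup.normal_subgroupOf_iff_le_normalizer inf_le_right).mp
      (Subgroup.normal_of_index_eq_two hidx2)
  have hnle : ¬ H' ≤ H := by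
    intro hle
    have hKH' : K = H' := inf_eq_right.mpr hle
    have hpos : 0 < Nat.card K := Nat.card_pos
    rw [hKH'] at hcardH hpos
    omega
  have hsup : H ⊔ H' = ⊤ := hcoatom.2 _ (left_lt_sup.mpr hnle)
  have hKn : K.Normal := by
    rw [← Subgroup.normalizer_eq_top_iff, eq_top_iff, ← hsup]
    exact sup_le hn1 hn2
  have hKbot : K = ⊥ := normal_le_stabilizer_eq_bot K a inf_le_left
  have hcardH2 : Nat.card H = 2 := by
    rw [hcardH, hKbot, Subgroup.card_bot]
  refine ⟨hcardH2, ?_⟩
  -- the involution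
  obtain ⟨t, ht1, htu⟩ := (Nat.card_eq_two_iff' (1 : H)).mp hcardH2
  have hHelts : ∀ h : G, h ∈ H → h = 1 ∨ h = (t : G) := by
    intro h hh
    by_cases h1 : h = 1
    · left; exact h1
    · right
      have : (⟨h, hh⟩ : H) = t := htu _ (fun e => h1 (congrArg Subtype.val e))
      exact congrArg Subtype.val this
  have ht1' : (t : G) ≠ 1 := fun e => ht1 (Subtype.ext e)
  have ht2 : (t : G) * t = 1 := by
    rcases hHelts _ (H.mul_mem t.2 t.2) with h | h
    · exact h
    · exfalso; exact ht1' (by simpa using h)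
  have htinv : (t : G)⁻¹ = t := inv_eq_of_mul_eq_one_right ht2
  -- H is not normal
  have hHnn : ¬ H.Normal := by
    intro hn
    have := normal_le_stabilizer_eq_bot H a le_rfl
    rw [this, Subgroup.card_bot] at hcardH2
    omega
  obtain ⟨g, hg⟩ : ∃ g : G, g * t * g⁻¹ ∉ H := by
    by_contra hcon
    push Not at hcon
    apply hHnn
    refine ⟨fun h hh g => ?_⟩
    rcases hHelts h hh with rfl | rfl
    · simp
    · exact hcon g
  obtain ⟨s, hs⟩ : ∃ s : G, s = g * t * g⁻¹ := ⟨_, rfl⟩
  rw [← hs] at hg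
  have hs2 : s * s = 1 := by
    rw [hs]; calc g * t * g⁻¹ * (g * t * g⁻¹) = g * (t * t) * g⁻¹ := by group
      _ = 1 := by rw [ht2]; group
  have hs1 : s ≠ 1 := fun e => hg (e ▸ H.one_mem)
  -- generation
  have hgen_of : ∀ u : G, u ∉ H → Subgroup.closure ({(t : G), u} : Set G) = ⊤ := by
    intro u hu
    apply hcoatom.2
    have hle : H ≤ Subgroup.closure ({(t : G), u} : Set G) := by
      intro h hh
      rcases hHelts h hh with rfl | rfl
      · exact Subgroup.one_mem _
      · exact Subgroup.subset_closure (by simp)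
    refine lt_of_le_of_ne hle (fun e => hu ?_)
    rw [e]; exact Subgroup.subset_closure (by simp)
  have hgen := hgen_of s hg
  set m := orderOf ((t : G) * s) with hm
  refine ⟨m, ?_, dihedral_of_closure_eq_top ht2 hs2 ht1' hs1 hgen⟩
  have hcardG := card_of_closure_eq_top ht2 hs2 ht1' hs1 hgen
  have hmpos : 0 < m := orderOf_pos _
  have hm1 : m ≠ 1 := by
    intro e
    rw [hm, orderOf_eq_one_iff] at e
    apply hg
    have : s = (t : G)⁻¹ := (inv_eq_of_mul_eq_one_right e).symm
    rw [this, htinv]; exact t.2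
  by_contra hnp
  obtain ⟨d, hdm, hd2, hdlt⟩ := Nat.exists_dvd_of_not_prime2 (by omega : 2 ≤ m) hnp
  set ρ := (t : G) * s with hρ
  have hnz : (t : G) ∉ Subgroup.zpowers ρ := not_mem_zpowers_of_ne ht2 hs2 ht1' hs1
  obtain ⟨s', hs'⟩ : ∃ s' : G, s' = t * ρ ^ d := ⟨_, rfl⟩
  have hρd1 : ρ ^ d ≠ 1 := by
    intro e
    have := orderOf_dvd_of_pow_eq_one e
    have := Nat.le_of_dvd (by omega) this
    omega
  have hs'H : s' ∉ H := by
    intro hmem
    rcases hHelts s' hmem with h | h
    · apply hnz
      have : ρ ^ d = (t : G)⁻¹ := by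
        rw [hs'] at h; exact (inv_eq_of_mul_eq_one_right h).symm
      rw [htinv] at this
      rw [← this]; exact Subgroup.pow_mem _ (Subgroup.mem_zpowers ρ) d
    · apply hρd1
      rw [hs'] at h
      exact mul_left_cancel (h.trans (mul_one _).symm)
  have hconj : (t : G) * ρ * (t : G)⁻¹ = ρ⁻¹ := conj_xy ht2 hs2
  have hs'2 : s' * s' = 1 := by
    have h1 : (t : G) * ρ ^ d * (t : G)⁻¹ = (ρ⁻¹) ^ d := by rw [← conj_pow, hconj]
    rw [htinv] at h1
    calc s' * s' = ((t : G) * ρ ^ d * t) * ρ ^ d := by rw [hs']; group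
      _ = 1 := by rw [h1, inv_pow, inv_mul_cancel]
  have hs'1 : s' ≠ 1 := fun e => hs'H (e ▸ H.one_mem)
  have hcardG' := card_of_closure_eq_top ht2 hs'2 ht1' hs'1 (hgen_of s' hs'H)
  have hts' : (t : G) * s' = ρ ^ d := by
    rw [hs', ← mul_assoc, ht2, one_mul]
  rw [hts', orderOf_pow' ρ (by omega : d ≠ 0), ← hm, Nat.gcd_eq_right hdm] at hcardG'
  have : m / d < m := Nat.div_lt_self hmpos (by omega)
  omega

end Cfsg.Agent.Helper18
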