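import Mathlib

set_option autoImplicit false

namespace Cfsg.Agent.Helper18

open Equiv Equiv.Perm

section
variable {α : Type*} [Fintype α] [DecidableEq α]

/-- A `σ`-invariant set has cardinality congruent mod `r` to a number at most the number of fixed
points, if `σ ^ r = 1` with `r` prime. -/
theorem card_invariant_mod {r : ℕ} (hr : r.Prime) (σ : Equiv.Perm α) (hσ : σ ^ r = 1)
    (s : Finset α) (hs : s.image σ = s) :
    ∃ c, c ≤ (σ.supportᶜ).card ∧ s.card ≡ c [MOD r] := by
  have h : ∀ x, σ x ∈ s ↔ x ∈ s := by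
    intro x
    constructor
    · intro hx
      rw [← hs, Finset.mem_image] at hx
      obtain ⟨y, hy, hyx⟩ := hx
      rwa [← σ.injective hyx]
    · intro hx
      rw [← hs]; exact Finset.mem_image_of_mem σ hx
  have : Fact r.Prime := ⟨hr⟩
  have hτ : (σ.subtypePerm h) ^ r ^ 1 = 1 := by
    rw [pow_one, Equiv.Perm.subtypePerm_pow]
    simp only [hσ]
    exact Equiv.Perm.subtypePerm_one _ _
  have h1 := Equiv.Perm.card_compl_support_modEq (p := r) (n := 1) hτ
  rw [Fintype.card_coe] at h1
  refine ⟨_, ?_, h1.symm⟩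
  apply Finset.card_le_card_of_injOn (fun x => x.1)
  · intro x hx
    simp only [Finset.coe_compl, Set.mem_compl_iff, Finset.mem_coe, Equiv.Perm.mem_support,
      not_not] at hx ⊢
    have := congrArg Subtype.val hx
    simpa using this
  · intro x _ y _ hxy
    exact Subtype.ext hxy

/-- Existence of invariant sets of prescribed sizes. -/
theorem exists_invariant_of_pow_prime {r : ℕ} (hr : r.Prime) (σ : Equiv.Perm α) (hσ : σ ^ r = 1)
    (a b : ℕ) (ha : r * a ≤ σ.support.card) (hb : b ≤ σ.supportᶜ.card) :
    ∃ s : Finset α, s.card = r * a + b ∧ s.image σ = s := by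
  have : Fact r.Prime := ⟨hr⟩
  have hC : ∀ c ∈ σ.cycleFactorsFinset, c.support.card = r := by
    intro c hc
    apply Equiv.Perm.pow_prime_eq_one_iff.mp hσ
    rw [Equiv.Perm.cycleType_def, Multiset.mem_map]
    exact ⟨c, hc, rfl⟩
  have hsum : σ.support.card = σ.cycleFactorsFinset.card * r := by
    rw [← Equiv.Perm.sum_cycleType, Equiv.Perm.cycleType_def]
    show ∑ c ∈ σ.cycleFactorsFinset, c.support.card = _
    rw [Finset.sum_congr rfl hC, Finset.sum_const, smul_eq_mul]
  have ha' : a ≤ σ.cycleFactorsFinset.card := by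
    rw [hsum, mul_comm] at ha
    exact Nat.le_of_mul_le_mul_right ha hr.pos
  obtain ⟨A, hAC, hAcard⟩ := Finset.exists_subset_card_eq ha'
  obtain ⟨B, hBs, hBcard⟩ := Finset.exists_subset_card_eq hb
  have himg : ∀ c ∈ σ.cycleFactorsFinset, c.support.image σ = c.support := by
    intro c hc
    have hc' := (Equiv.Perm.mem_cycleFactorsFinset_iff.mp hc).2
    apply Finset.eq_of_subset_of_card_le
    · intro z hz
      rw [Finset.mem_image] at hz
      obtain ⟨y, hy, rfl⟩ := hz
      rw [← hc' y hy]
      exact Equiv.Perm.apply_mem_support.mpr hy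
    · rw [Finset.card_image_of_injective _ σ.injective]
  have himgB : B.image σ = B := by
    ext z
    rw [Finset.mem_image]
    constructor
    · rintro ⟨y, hy, rfl⟩
      have : σ y = y := by
        have := hBs hy
        simpa using this
      rwa [this]
    · intro hz
      refine ⟨z, hz, ?_⟩
      have := hBs hz
      simpa using this
  refine ⟨A.biUnion Equiv.Perm.support ∪ B, ?_, ?_⟩
  · have hdisj : Disjoint (A.biUnion Equiv.Perm.support) B := by
      rw [Finset.disjoint_left]
      intro z hz hzB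
      rw [Finset.mem_biUnion] at hz
      obtain ⟨c, hc, hzc⟩ := hz
      have h1 := Equiv.Perm.mem_cycleFactorsFinset_support_le (hAC hc) hzc
      have h2 := hBs hzB
      rw [Finset.mem_compl] at h2
      exact h2 h1
    rw [Finset.card_union_of_disjoint hdisj, hBcard, Finset.card_biUnion]
    · rw [Finset.sum_congr rfl (fun c hc => hC c (hAC hc)), Finset.sum_const, smul_eq_mul,
        hAcard, mul_comm]
    · intro c hc d hd hcd
      exact (Equiv.Perm.cycleFactorsFinset_pairwise_disjoint σ (hAC hc) (hAC hd)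
        hcd).disjoint_support
  · rw [Finset.image_union, Finset.biUnion_image, himgB]
    congr 1
    exact Finset.biUnion_congr rfl (fun c hc => himg c (hAC hc))

end

/-- A permutation of `Fin n` of prime order `r` with exactly `n % r` fixed points. -/
theorem exists_perm_prime_order (n r : ℕ) (hr : r.Prime) (hrn : r ≤ n) :
    ∃ g : Equiv.Perm (Fin n), orderOf g = r ∧ g.supportᶜ.card = n % r := by
  have : Fact r.Prime := ⟨hr⟩
  have hpos : 0 < n / r := Nat.div_pos hrn hr.pos
  obtain ⟨g, hg⟩ := (Equiv.Perm.exists_with_cycleType_iff (α := Fin n)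
    (m := Multiset.replicate (n / r) r)).mpr (by
      constructor
      · rw [Multiset.sum_replicate, smul_eq_mul, Fintype.card_fin]
        exact Nat.div_mul_le_self n r
      · intro a ha
        rw [Multiset.eq_of_mem_replicate ha]; exact hr.two_le)
  have hgr : g ^ r = 1 := by
    rw [Equiv.Perm.pow_prime_eq_one_iff, hg]
    intro c hc
    exact Multiset.eq_of_mem_replicate hc
  have hg1 : g ≠ 1 := by
    intro e
    rw [← Equiv.Perm.cycleType_eq_zero, hg] at e
    have := congrArg Multiset.card e
    rw [Multiset.card_replicate, Multiset.card_zero] at this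
    omega
  refine ⟨g, orderOf_eq_prime hgr hg1, ?_⟩
  rw [Finset.card_compl, ← Equiv.Perm.sum_cycleType, hg, Multiset.sum_replicate, smul_eq_mul,
    Fintype.card_fin]
  have := Nat.div_add_mod n r
  have h2 : n / r * r = r * (n / r) := mul_comm _ _
  omega

theorem all_fix_iff (n k r : ℕ) (hr : r.Prime) (hrn : r ≤ n) (hkn : k ≤ n) :
    (∀ σ : Equiv.Perm (Fin n), orderOf σ = r →
      ∃ s : Finset (Fin n), s.card = k ∧ s.image σ = s) ↔ k % r ≤ n % r := by
  constructor
  · intro h
    obtain ⟨g, hgo, hgc⟩ := exists_perm_prime_order n r hr hrn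
    obtain ⟨s, hsk, hsg⟩ := h g hgo
    have hgr : g ^ r = 1 := by rw [← hgo]; exact pow_orderOf_eq_one g
    obtain ⟨c, hc, hmod⟩ := card_invariant_mod hr g hgr s hsg
    rw [hgc] at hc
    rw [hsk] at hmod
    have hlt : n % r < r := Nat.mod_lt _ hr.pos
    have : k % r = c := by
      rw [hmod]; exact Nat.mod_eq_of_lt (by omega)
    omega
  · intro h σ hσ
    have hσr : σ ^ r = 1 := by rw [← hσ]; exact pow_orderOf_eq_one σ
    have : Fact r.Prime := ⟨hr⟩
    have hcc : σ.support.card + σ.supportᶜ.card = n := by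
      rw [Finset.card_add_card_compl, Fintype.card_fin]
    have hmod : σ.supportᶜ.card ≡ n [MOD r] := by
      have := Equiv.Perm.card_compl_support_modEq (p := r) (n := 1) (σ := σ) (by rwa [pow_one])
      rwa [Fintype.card_fin] at this
    -- support card = r * m
    obtain ⟨m, hm⟩ : r ∣ σ.support.card := by
      have h1 : (σ.support.card + σ.supportᶜ.card) ≡ (0 + σ.supportᶜ.card) [MOD r] := by
        rw [hcc, zero_add]; exact hmod.symm
      have h2 := Nat.ModEq.add_right_cancel' _ h1
      exact (Nat.modEq_zero_iff_dvd.mp h2)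
    have hkdm := Nat.div_add_mod k r
    have hfmod : n % r ≤ σ.supportᶜ.card := by
      have : σ.supportᶜ.card % r = n % r := hmod
      rw [← this]; exact Nat.mod_le _ _
    by_cases hcase : k / r ≤ m
    · obtain ⟨s, hs1, hs2⟩ := exists_invariant_of_pow_prime hr σ hσr (k / r) (k % r)
        (by rw [hm]; exact Nat.mul_le_mul_left r hcase) (by omega)
      exact ⟨s, by omega, hs2⟩
    · push Not at hcase
      have hle : r * m ≤ k := by
        have : r * m ≤ r * (k / r) := Nat.mul_le_mul_left r hcase.le
        omega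
      obtain ⟨s, hs1, hs2⟩ := exists_invariant_of_pow_prime hr σ hσr m (k - r * m)
        (by rw [hm]) (by omega)
      exact ⟨s, by omega, hs2⟩

theorem prime_le_of_dvd_choose {n k r : ℕ} (hr : r.Prime) (hkn : k ≤ n) (hrd : r ∣ Nat.choose n k) :
    r ≤ n := by
  rw [← hr.dvd_factorial, ← Nat.choose_mul_factorial_mul_factorial hkn, mul_assoc]
  exact Dvd.dvd.mul_right hrd _

theorem subset_fix_main (n k : ℕ) (hk : 1 ≤ k) (hkn : 2 * k < n) (r : ℕ) (hr : r.Prime)
    (hrd : r ∣ Nat.choose n k) :
    (r ≠ 2 → ((∀ σ : Equiv.Perm (Fin n), orderOf σ = r →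
        ∃ s : Finset (Fin n), s.card = k ∧ s.image σ = s) ↔
      (r ≤ k ∧ k % r ≤ n % r))) ∧
    (r = 2 → ((∀ σ : Equiv.Perm (Fin n), orderOf σ = 2 →
        ∃ s : Finset (Fin n), s.card = k ∧ s.image σ = s) ↔
      (Even k ∨ Odd n))) := by
  have hkn' : k ≤ n := by omega
  have hrn : r ≤ n := prime_le_of_dvd_choose hr hkn' hrd
  constructor
  · intro _
    rw [all_fix_iff n k r hr hrn hkn']
    constructor
    · intro h
      refine ⟨?_, h⟩
      by_contra hlt
      push Not at hlt
      have : Fact r.Prime := ⟨hr⟩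
      have hL := Choose.choose_modEq_choose_mod_mul_choose_div_nat (n := n) (k := k) (p := r)
      rw [Nat.mod_eq_of_lt hlt, Nat.div_eq_of_lt hlt, Nat.choose_zero_right, mul_one] at hL
      rw [Nat.mod_eq_of_lt hlt] at h
      have h1 : r ∣ Nat.choose (n % r) k := by
        rw [← Nat.modEq_zero_iff_dvd]
        exact hL.symm.trans (Nat.modEq_zero_iff_dvd.mpr hrd)
      have h2 := prime_le_of_dvd_choose hr h h1
      have := Nat.mod_lt n hr.pos
      omega
    · exact fun h => h.2
  · intro h2
    subst h2
    rw [all_fix_iff n k 2 hr hrn hkn', Nat.even_iff, Nat.odd_iff]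
    omega

end Cfsg.Agent.Helper18
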