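import Mathlib
import Cfsg.Agent.Helper18.SuzU7

set_option autoImplicit false

/-! Semilinear structure of the maps induced by an automorphism of the Sylow 2-subgroup of
`SU₃(q)`, `q` even, on `G/Z ≅ F` and on `Z ≅ Fix`. -/

namespace Cfsg.Agent.Helper18.SuzU

/-- Artin–Schreier for an involutive automorphism of a finite field of characteristic two:
elements fixed by the automorphism are of the form `y² + y`. -/
theorem artin_schreier_invol {K : Type*} [Field K] [Finite K] (h2 : (1 : K) + 1 = 0) (σ : K →+* K)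
    (hσ : ∀ x, σ (σ x) = x) {z₀ : K} (hz : σ z₀ ≠ z₀) (η : K) (hη : σ η = η) :
    ∃ y : K, y * y + y = η := by
  have hadd : ∀ x : K, x + x = 0 := fun x => by
    have : x + x = x * (1 + 1) := by ring
    rw [this, h2, mul_zero]
  let ℘ : K →+ K :=
    { toFun := fun y => y * y + y
      map_zero' := by ring
      map_add' := fun x y => by
        have := hadd (x * y)
        linear_combination this }
  have h℘ : ∀ y, ℘ y = y * y + y := fun y => rfl
  have hker : ∀ y : K, y ∈ ℘.ker ↔ y = 0 ∨ y = 1 := by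
    intro y
    rw [AddMonoidHom.mem_ker, h℘]
    constructor
    · intro h
      have : y * (y + 1) = 0 := by linear_combination h
      rcases mul_eq_zero.mp this with h | h
      · left; exact h
      · right
        linear_combination h - h2
    · rintro (rfl | rfl)
      · ring
      · linear_combination h2
  have hcard : Nat.card ℘.ker = 2 := by
    rw [Nat.card_eq_two_iff]
    refine ⟨⟨0, (hker 0).mpr (Or.inl rfl)⟩, ⟨1, (hker 1).mpr (Or.inr rfl)⟩, ?_, ?_⟩
    · intro h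
      exact zero_ne_one (congrArg Subtype.val h)
    · ext ⟨y, hy⟩
      simp only [Set.mem_insert_iff, Set.mem_singleton_iff, Set.mem_univ, iff_true]
      rcases (hker y).mp hy with rfl | rfl
      · left; rfl
      · right; rfl
  have hidx : ℘.range.index = 2 := by
    rw [AddSubgroup.index_range, hcard]
  have hδ : z₀ + σ z₀ ≠ 0 := by
    intro h
    apply hz
    have := hadd z₀
    linear_combination h - this
  have hσδ : σ (z₀ + σ z₀) = z₀ + σ z₀ := by rw [map_add, hσ]; ring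
  have hσz1 : σ (z₀ / (z₀ + σ z₀)) = σ z₀ / (z₀ + σ z₀) := by rw [map_div₀, hσδ]
  have hsum : z₀ / (z₀ + σ z₀) + σ (z₀ / (z₀ + σ z₀)) = 1 := by
    rw [hσz1, ← add_div, div_self hδ]
  have hmem : ∀ a : K, a ∈ ℘.range → σ a ∈ ℘.range := by
    rintro _ ⟨y, rfl⟩
    refine ⟨σ y, ?_⟩
    rw [h℘, h℘, map_add, map_mul]
  have hiff : ∀ a : K, a ∈ ℘.range ↔ σ a ∈ ℘.range := by
    intro a
    refine ⟨hmem a, fun h => ?_⟩
    have := hmem _ h
    rwa [hσ] at this
  have hη' : η = η * (z₀ / (z₀ + σ z₀)) + σ (η * (z₀ / (z₀ + σ z₀))) := by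
    rw [map_mul, hη, ← mul_add, hsum, mul_one]
  have : η ∈ ℘.range := by
    rw [hη', AddSubgroup.add_mem_iff_of_index_two hidx]
    exact hiff _
  obtain ⟨y, hy⟩ := this
  exact ⟨y, hy⟩

variable {F : Type*} [Field F] [Fintype F] {q : ℕ}

namespace FqSq

variable (H : FqSq F q)
include H

theorem inv_mem_Fix {c : F} (hc : c ∈ H.Fix) : c⁻¹ ∈ H.Fix := by
  rw [H.mem_Fix] at hc ⊢
  rw [inv_pow, hc]

theorem div_mem_Fix {c d : F} (hc : c ∈ H.Fix) (hd : d ∈ H.Fix) : c / d ∈ H.Fix := by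
  rw [div_eq_mul_inv]
  exact H.mul_mem_Fix hc (H.inv_mem_Fix hd)

theorem norm_Fix {c : F} (hc : c ∈ H.Fix) : c ^ (q + 1) = c * c := by
  rw [pow_succ, H.mem_Fix.mp hc]

theorem norm_eq_zero {a : F} : a ^ (q + 1) = 0 ↔ a = 0 := by
  have := H.two_le
  exact pow_eq_zero_iff (by omega)

theorem norm_add (a a' : F) :
    (a + a') ^ (q + 1) = a ^ (q + 1) + a' ^ (q + 1) + (a ^ q * a' + a' ^ q * a) := by
  rw [pow_succ, H.frob_add, pow_succ, pow_succ]
  ring

theorem polar_mem_Fix (a a' : F) : a ^ q * a' + a' ^ q * a ∈ H.Fix := by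
  rw [H.mem_Fix, H.frob_add, mul_pow, mul_pow, H.pow_qq, H.pow_qq]
  ring

theorem polar_eq_zero_iff {a a' : F} (ha : a ≠ 0) :
    a ^ q * a' + a' ^ q * a = 0 ↔ ∃ c ∈ H.Fix, a' = c * a := by
  constructor
  · intro h
    refine ⟨a' / a, ?_, by field_simp⟩
    rw [H.mem_Fix, div_pow]
    have haq : a ^ q ≠ 0 := pow_ne_zero _ ha
    rw [div_eq_div_iff haq ha]
    have := H.add_self (a' ^ q * a)
    linear_combination -h + this
  · rintro ⟨c, hc, rfl⟩
    rw [mul_pow, H.mem_Fix.mp hc]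
    have := H.add_self (c * a ^ q * a)
    linear_combination this

theorem indep {a a' x y : F} (hx : x ∈ H.Fix) (hy : y ∈ H.Fix)
    (hind : ¬ ∃ c ∈ H.Fix, a' = c * a) (ha : a ≠ 0) (h : x * a + y * a' = 0) :
    x = 0 ∧ y = 0 := by
  have hy0 : y = 0 := by
    by_contra hy0
    apply hind
    refine ⟨x / y, H.div_mem_Fix hx hy, ?_⟩
    have := H.add_self (x * a)
    field_simp
    linear_combination h - this
  refine ⟨?_, hy0⟩
  rw [hy0, zero_mul, add_zero] at h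
  exact (mul_eq_zero.mp h).resolve_right ha

/-- the fixed field as a subfield -/
def FixField (H : FqSq F q) : Subfield F where
  carrier := H.Fix
  mul_mem' := H.mul_mem_Fix
  one_mem' := H.one_mem_Fix
  add_mem' := H.add_mem_Fix
  zero_mem' := H.zero_mem_Fix
  neg_mem' := by
    intro x hx
    rw [H.neg_eq]
    exact hx
  inv_mem' := fun _ hx => H.inv_mem_Fix hx

theorem mem_FixField {c : F} : c ∈ H.FixField ↔ c ∈ H.Fix := Iff.rfl

omit H in
/-- the data induced by an automorphism on `F ≅ G/Z` and on `Fix ≅ Z` -/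
structure AutData (H : FqSq F q) (ρ ζ : F → F) : Prop where
  add : ∀ a a', ρ (a + a') = ρ a + ρ a'
  inj : ∀ a, ρ a = 0 → a = 0
  hN : ∀ a, ζ (a ^ (q + 1)) = (ρ a) ^ (q + 1)
  hB : ∀ a a', ζ (a ^ q * a' + a' ^ q * a) = (ρ a) ^ q * ρ a' + (ρ a') ^ q * ρ a

omit H in
/-- the scalar by which `ρ (c a)` differs from `ρ a` -/
noncomputable def sg (ρ : F → F) (a c : F) : F := ρ (c * a) / ρ a

end FqSq

namespace FqSq.AutData

variable {H : FqSq F q} {ρ ζ : F → F} (D : H.AutData ρ ζ)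
include D

theorem rho_zero : ρ 0 = 0 := by
  have := D.add 0 0
  rw [add_zero] at this
  exact add_eq_left.mp this.symm

theorem rho_ne_zero {a : F} (ha : a ≠ 0) : ρ a ≠ 0 := fun h => ha (D.inj a h)

theorem zeta_zero : ζ 0 = 0 := by
  have h2 := H.two_le
  have := D.hN 0
  rw [zero_pow (by omega), D.rho_zero, zero_pow (by omega)] at this
  exact this

theorem zeta_mem {c : F} (hc : c ∈ H.Fix) : ζ c ∈ H.Fix := by
  obtain ⟨d, hd, rfl⟩ := H.exists_sqrt hc
  rw [← H.norm_Fix hd, D.hN]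
  exact H.norm_mem_Fix _

theorem zeta_ne_zero {c : F} (hc : c ∈ H.Fix) (h : ζ c = 0) : c = 0 := by
  obtain ⟨d, hd, rfl⟩ := H.exists_sqrt hc
  rw [← H.norm_Fix hd, D.hN, H.norm_eq_zero] at h
  rw [D.inj d h, mul_zero]

theorem exists_scalar {c : F} (hc : c ∈ H.Fix) {a : F} (ha : a ≠ 0) :
    ∃ s ∈ H.Fix, ρ (c * a) = s * ρ a := by
  have h0 : a ^ q * (c * a) + (c * a) ^ q * a = 0 := (H.polar_eq_zero_iff ha).mpr ⟨c, hc, rfl⟩
  have h1 := D.hB a (c * a)
  rw [h0, D.zeta_zero] at h1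
  exact (H.polar_eq_zero_iff (D.rho_ne_zero ha)).mp h1.symm

theorem sg_spec {c : F} (hc : c ∈ H.Fix) {a : F} (ha : a ≠ 0) :
    sg ρ a c ∈ H.Fix ∧ ρ (c * a) = sg ρ a c * ρ a := by
  obtain ⟨s, hs, he⟩ := D.exists_scalar hc ha
  have hρa := D.rho_ne_zero ha
  have : sg ρ a c = s := by
    unfold sg
    rw [he]
    field_simp
  rw [this]
  exact ⟨hs, he⟩

theorem indep_map {a a' : F} (ha : a ≠ 0) (hind : ¬ ∃ c ∈ H.Fix, a' = c * a) :
    ¬ ∃ c ∈ H.Fix, ρ a' = c * ρ a := by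
  intro h
  have h1 := (H.polar_eq_zero_iff (D.rho_ne_zero ha)).mpr h
  rw [← D.hB] at h1
  have h2 := D.zeta_ne_zero (H.polar_mem_Fix a a') h1
  exact hind ((H.polar_eq_zero_iff ha).mp h2)

theorem sg_eq_of_indep {c : F} (hc : c ∈ H.Fix) {a a' : F} (ha : a ≠ 0)
    (hind : ¬ ∃ c ∈ H.Fix, a' = c * a) : sg ρ a c = sg ρ a' c := by
  have ha' : a' ≠ 0 := by
    rintro rfl
    exact hind ⟨0, H.zero_mem_Fix, by rw [zero_mul]⟩
  have haa' : a + a' ≠ 0 := by
    intro h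
    apply hind
    refine ⟨1, H.one_mem_Fix, ?_⟩
    rw [one_mul]
    have := H.add_self a
    linear_combination h - this
  obtain ⟨h1, e1⟩ := D.sg_spec hc ha
  obtain ⟨h2, e2⟩ := D.sg_spec hc ha'
  obtain ⟨h3, e3⟩ := D.sg_spec hc haa'
  have key : (sg ρ (a + a') c + sg ρ a c) * ρ a + (sg ρ (a + a') c + sg ρ a' c) * ρ a' = 0 := by
    have : ρ (c * (a + a')) = ρ (c * a) + ρ (c * a') := by rw [mul_add, D.add]
    rw [e3, e1, e2, D.add] at this
    have t1 := H.add_self (sg ρ a c * ρ a)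
    have t2 := H.add_self (sg ρ a' c * ρ a')
    linear_combination this + t1 + t2
  obtain ⟨k1, k2⟩ := H.indep (H.add_mem_Fix h3 h1) (H.add_mem_Fix h3 h2)
    (D.indep_map ha hind) (D.rho_ne_zero ha) key
  linear_combination k1 - k2

theorem sg_eq {c : F} (hc : c ∈ H.Fix) {a a' : F} (ha : a ≠ 0) (ha' : a' ≠ 0) :
    sg ρ a c = sg ρ a' c := by
  by_cases hind : ∃ d ∈ H.Fix, a' = d * a
  · obtain ⟨d, hd, rfl⟩ := hind
    obtain ⟨t, ht⟩ := H.exists_not_mem_Fix
    have i1 : ¬ ∃ c ∈ H.Fix, t * a = c * a := by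
      rintro ⟨c', hc', he⟩
      exact ht ((mul_right_cancel₀ ha he) ▸ hc')
    have i2 : ¬ ∃ c ∈ H.Fix, t * a = c * (d * a) := by
      rintro ⟨c', hc', he⟩
      have : t = c' * d := mul_right_cancel₀ ha (by rw [he]; ring)
      exact ht (this ▸ H.mul_mem_Fix hc' hd)
    rw [D.sg_eq_of_indep hc ha i1, D.sg_eq_of_indep hc ha' i2]
  · exact D.sg_eq_of_indep hc ha hind

/-- `ρ` is semilinear over the fixed field with respect to `sg ρ 1` -/
theorem semilinear {c : F} (hc : c ∈ H.Fix) (a : F) : ρ (c * a) = sg ρ 1 c * ρ a := by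
  by_cases ha : a = 0
  · rw [ha, mul_zero, D.rho_zero, mul_zero]
  · rw [D.sg_eq hc one_ne_zero ha]
    exact (D.sg_spec hc ha).2

theorem sig_mem {c : F} (hc : c ∈ H.Fix) : sg ρ 1 c ∈ H.Fix := (D.sg_spec hc one_ne_zero).1

theorem sig_mul {c d : F} (hc : c ∈ H.Fix) (hd : d ∈ H.Fix) :
    sg ρ 1 (c * d) = sg ρ 1 c * sg ρ 1 d := by
  have h1 := D.semilinear (H.mul_mem_Fix hc hd) 1
  have h2 := D.semilinear hc (d * 1)
  have h3 := D.semilinear hd 1
  rw [mul_assoc, h2, h3, ← mul_assoc] at h1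
  exact (mul_right_cancel₀ (D.rho_ne_zero one_ne_zero) h1).symm

theorem sig_add (c d : F) : sg ρ 1 (c + d) = sg ρ 1 c + sg ρ 1 d := by
  unfold sg
  rw [add_mul, D.add, add_div]

theorem sig_one : sg ρ 1 1 = 1 := by
  unfold sg
  rw [one_mul]
  exact div_self (D.rho_ne_zero one_ne_zero)

theorem sig_zero : sg ρ 1 0 = 0 := by
  unfold sg
  rw [zero_mul, D.rho_zero, zero_div]

theorem sig_eq_zero {c : F} (h : sg ρ 1 c = 0) : c = 0 := by
  unfold sg at h
  rw [mul_one, div_eq_zero_iff] at h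
  rcases h with h | h
  · exact D.inj c h
  · exact absurd h (D.rho_ne_zero one_ne_zero)

theorem sig_div {c d : F} (hc : c ∈ H.Fix) (hd : d ∈ H.Fix) (hd0 : d ≠ 0) :
    sg ρ 1 (c / d) = sg ρ 1 c / sg ρ 1 d := by
  have hσd : sg ρ 1 d ≠ 0 := fun h => hd0 (D.sig_eq_zero h)
  rw [eq_div_iff hσd, ← D.sig_mul (H.div_mem_Fix hc hd) hd, div_mul_cancel₀ c hd0]

/-- `ζ` is `ζ 1` times `sg ρ 1` on the fixed field -/
theorem zeta_eq {c : F} (hc : c ∈ H.Fix) : ζ c = ζ 1 * sg ρ 1 c := by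
  obtain ⟨d, hd, rfl⟩ := H.exists_sqrt hc
  have h1 := D.hN d
  have h2 := D.hN 1
  rw [one_pow] at h2
  have h3 : ρ d = sg ρ 1 d * ρ 1 := by
    have := D.semilinear hd 1
    rwa [mul_one] at this
  rw [h3, mul_pow, ← h2, H.norm_Fix hd, H.norm_Fix (D.sig_mem hd)] at h1
  rw [h1, D.sig_mul hd hd]
  ring

end FqSq.AutData

end Cfsg.Agent.Helper18.SuzU
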