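import Mathlib
import Cfsg.Agent.Helper18.SuzAut1

set_option autoImplicit false

/-! If the induced maps `ρ`, `ζ` are involutions, then `ζ` is the identity on the fixed
field. -/

namespace Cfsg.Agent.Helper18.SuzU

variable {F : Type*} [Field F] [Fintype F] {q : ℕ}

namespace FqSq.AutData

variable {H : FqSq F q} {ρ ζ : F → F} (D : H.AutData ρ ζ)
include D

/-- the ring endomorphism of the fixed field induced by `ρ` -/
noncomputable def sigHom : H.FixField →+* H.FixField where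
  toFun c := ⟨sg ρ 1 c.1, D.sig_mem c.2⟩
  map_one' := Subtype.ext D.sig_one
  map_mul' c d := Subtype.ext (D.sig_mul c.2 d.2)
  map_zero' := Subtype.ext D.sig_zero
  map_add' c d := Subtype.ext (D.sig_add c.1 d.1)

theorem sigHom_coe (c : H.FixField) : (D.sigHom c : F) = sg ρ 1 c.1 := rfl

section invol

variable (hρρ : ∀ a, ρ (ρ a) = a) (hζζ : ∀ c ∈ H.Fix, ζ (ζ c) = c)
include hρρ hζζ

omit hρρ in
theorem mu_mul_sig_mu : ζ 1 * sg ρ 1 (ζ 1) = 1 := by
  have h1 := hζζ 1 H.one_mem_Fix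
  rw [D.zeta_eq (D.zeta_mem H.one_mem_Fix)] at h1
  exact h1

omit hρρ in
theorem sig_sig {d : F} (hd : d ∈ H.Fix) : sg ρ 1 (sg ρ 1 d) = d := by
  have hμ := D.zeta_mem H.one_mem_Fix
  have h1 := hζζ d hd
  rw [D.zeta_eq hd, D.zeta_eq (H.mul_mem_Fix hμ (D.sig_mem hd)), D.sig_mul hμ (D.sig_mem hd),
    ← mul_assoc, D.mu_mul_sig_mu hζζ, one_mul] at h1
  exact h1

omit hρρ in
/-- Artin–Schreier in the fixed field -/
theorem exists_as {z₀ : F} (hz₀ : z₀ ∈ H.Fix) (hne : sg ρ 1 z₀ ≠ z₀) {η : F} (hη : η ∈ H.Fix)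
    (hση : sg ρ 1 η = η) : ∃ y ∈ H.Fix, y * y + y = η := by
  have h2 : (1 : H.FixField) + 1 = 0 := Subtype.ext (H.add_self 1)
  obtain ⟨⟨y, hy⟩, h⟩ := artin_schreier_invol h2 D.sigHom
    (fun x => Subtype.ext (D.sig_sig hζζ x.2)) (z₀ := ⟨z₀, hz₀⟩)
    (fun h => hne (congrArg Subtype.val h)) ⟨η, hη⟩ (Subtype.ext hση)
  exact ⟨y, hy, congrArg Subtype.val h⟩

/-- if `sg ρ 1` is not the identity on the fixed field, every line is fixed by `ρ` -/
theorem line_fixed {z₀ : F} (hz₀ : z₀ ∈ H.Fix) (hne : sg ρ 1 z₀ ≠ z₀) (a : F) :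
    ∃ k ∈ H.Fix, ρ a = k * a := by
  by_contra hno
  have ha : a ≠ 0 := by
    rintro rfl
    exact hno ⟨0, H.zero_mem_Fix, by rw [D.rho_zero, zero_mul]⟩
  have hμ := D.zeta_mem H.one_mem_Fix
  -- e = N a, t = B(a, ρ a)
  have he : a ^ (q + 1) ∈ H.Fix := H.norm_mem_Fix a
  have he0 : a ^ (q + 1) ≠ 0 := fun h => ha (H.norm_eq_zero.mp h)
  have ht : a ^ q * ρ a + ρ a ^ q * a ∈ H.Fix := H.polar_mem_Fix a (ρ a)
  have ht0 : a ^ q * ρ a + ρ a ^ q * a ≠ 0 := fun h => hno ((H.polar_eq_zero_iff ha).mp h)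
  have hζt : ζ (a ^ q * ρ a + ρ a ^ q * a) = a ^ q * ρ a + ρ a ^ q * a := by
    rw [D.hB, hρρ]
    ring
  set e := a ^ (q + 1) with hedef
  set t := a ^ q * ρ a + ρ a ^ q * a with htdef
  have hμt : ζ 1 * sg ρ 1 t = t := by rw [← D.zeta_eq ht]; exact hζt
  have hs : sg ρ 1 t ∈ H.Fix := D.sig_mem ht
  have hs0 : sg ρ 1 t ≠ 0 := fun h => ht0 (D.sig_eq_zero h)
  have hf : sg ρ 1 e ∈ H.Fix := D.sig_mem he
  have hηmem : e * sg ρ 1 e / (t * sg ρ 1 t) ∈ H.Fix :=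
    H.div_mem_Fix (H.mul_mem_Fix he hf) (H.mul_mem_Fix ht hs)
  have hση : sg ρ 1 (e * sg ρ 1 e / (t * sg ρ 1 t)) = e * sg ρ 1 e / (t * sg ρ 1 t) := by
    rw [D.sig_div (H.mul_mem_Fix he hf) (H.mul_mem_Fix ht hs) (mul_ne_zero ht0 hs0),
      D.sig_mul he hf, D.sig_mul ht hs, D.sig_sig hζζ he, D.sig_sig hζζ ht]
    ring
  obtain ⟨Y, hY, hYe⟩ := D.exists_as hζζ hz₀ hne hηmem hση
  have hx : t / e * Y ∈ H.Fix := H.mul_mem_Fix (H.div_mem_Fix ht he) hY
  have hμ' : ζ 1 = t / sg ρ 1 t := by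
    rw [eq_div_iff hs0]
    exact hμt
  have hsum : (t / e * Y) * (t / e * Y) * e + (t / e * Y) * t = ζ 1 * sg ρ 1 e := by
    calc (t / e * Y) * (t / e * Y) * e + (t / e * Y) * t = (t * t / e) * (Y * Y + Y) := by
          field_simp
      _ = (t * t / e) * (e * sg ρ 1 e / (t * sg ρ 1 t)) := by rw [hYe]
      _ = ζ 1 * sg ρ 1 e := by
          rw [hμ']
          field_simp
  have hnorm : (t / e * Y * a + ρ a) ^ (q + 1) = 0 := by
    rw [H.norm_add, mul_pow, H.norm_Fix hx, ← D.hN, ← hedef, D.zeta_eq he, mul_pow,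
      H.mem_Fix.mp hx]
    have e1 : t / e * Y * a ^ q * ρ a + ρ a ^ q * (t / e * Y * a) = t / e * Y * t := by
      rw [htdef]
      ring
    rw [e1]
    have := H.add_self (ζ 1 * sg ρ 1 e)
    linear_combination hsum + this
  have hfin := H.norm_eq_zero.mp hnorm
  apply hno
  refine ⟨t / e * Y, hx, ?_⟩
  have := H.add_self (t / e * Y * a)
  linear_combination hfin - this

/-- the main consequence: `ζ` is the identity on the fixed field -/
theorem zeta_eq_self {c : F} (hc : c ∈ H.Fix) : ζ c = c := by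
  have hμ := D.zeta_mem H.one_mem_Fix
  by_cases hid : ∀ c ∈ H.Fix, sg ρ 1 c = c
  · have h1 := D.mu_mul_sig_mu hζζ
    rw [hid _ hμ] at h1
    have h2 : ζ 1 = 1 := H.sq_inj (by rw [h1, mul_one])
    rw [D.zeta_eq hc, h2, one_mul, hid c hc]
  · exfalso
    push Not at hid
    obtain ⟨z₀, hz₀, hne⟩ := hid
    obtain ⟨t₀, ht₀⟩ := H.exists_not_mem_Fix
    have hind : ¬ ∃ c ∈ H.Fix, t₀ = c * 1 := by
      rintro ⟨c, hc, he⟩
      rw [mul_one] at he
      exact ht₀ (he ▸ hc)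
    obtain ⟨k₁, hk₁, e₁⟩ := D.line_fixed hρρ hζζ hz₀ hne 1
    obtain ⟨k₂, hk₂, e₂⟩ := D.line_fixed hρρ hζζ hz₀ hne t₀
    obtain ⟨k₃, hk₃, e₃⟩ := D.line_fixed hρρ hζζ hz₀ hne (1 + t₀)
    obtain ⟨k₅, hk₅, e₅⟩ := D.line_fixed hρρ hζζ hz₀ hne (z₀ + t₀)
    have hk₁0 : k₁ ≠ 0 := by
      rintro rfl
      rw [zero_mul] at e₁
      exact D.rho_ne_zero one_ne_zero e₁
    -- first relation
    have r1 : (k₃ + k₁) * 1 + (k₃ + k₂) * t₀ = 0 := by
      have := D.add 1 t₀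
      rw [e₃, e₁, e₂] at this
      have t1 := H.add_self (k₁ * 1)
      have t2 := H.add_self (k₂ * t₀)
      linear_combination this + t1 + t2
    obtain ⟨a1, a2⟩ := H.indep (H.add_mem_Fix hk₃ hk₁) (H.add_mem_Fix hk₃ hk₂) hind one_ne_zero r1
    -- second relation
    have hz1 : ρ z₀ = sg ρ 1 z₀ * ρ 1 := by
      have := D.semilinear hz₀ 1
      rwa [mul_one] at this
    have r2 : (k₅ * z₀ + sg ρ 1 z₀ * k₁) * 1 + (k₅ + k₂) * t₀ = 0 := by
      have := D.add z₀ t₀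
      rw [e₅, hz1, e₁, e₂] at this
      have t1 := H.add_self (sg ρ 1 z₀ * k₁)
      have t2 := H.add_self (k₂ * t₀)
      linear_combination this + t1 + t2
    obtain ⟨b1, b2⟩ := H.indep
      (H.add_mem_Fix (H.mul_mem_Fix hk₅ hz₀) (H.mul_mem_Fix (D.sig_mem hz₀) hk₁))
      (H.add_mem_Fix hk₅ hk₂) hind one_ne_zero r2
    apply hne
    have e21 : k₂ = k₁ := by
      have := H.add_self k₃
      linear_combination a2 - a1
    have e52 : k₅ = k₂ := by
      have := H.add_self k₂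
      linear_combination b2 - this
    rw [e52, e21] at b1
    have : k₁ * (z₀ + sg ρ 1 z₀) = 0 := by linear_combination b1
    have h3 := (mul_eq_zero.mp this).resolve_left hk₁0
    have := H.add_self z₀
    linear_combination h3 - this

end invol

end FqSq.AutData

end Cfsg.Agent.Helper18.SuzU
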