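import Mathlib
import Cfsg.Agent.Helper18.SuzAut2

set_option autoImplicit false

/-! The maps induced on coordinates by an automorphism of a group with `UCoord`; an
automorphism whose square is inner centralizes the centre. -/

namespace Cfsg.Agent.Helper18.SuzU

variable {F : Type*} [Field F] [Fintype F] {q : ℕ} {G : Type*} [Group G]

open scoped commutatorElement

theorem aut_mem_center (α : G ≃* G) {z : G} (hz : z ∈ Subgroup.center G) :
    α z ∈ Subgroup.center G := by
  rw [Subgroup.mem_center_iff] at hz ⊢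
  intro g
  have h2 := congrArg α (hz (α.symm g))
  rw [map_mul, map_mul, MulEquiv.apply_symm_apply] at h2
  exact h2

namespace FqSq

/-- the map induced on `G/Z ≅ F` -/
noncomputable def rho (H : FqSq F q) (C : UCoord F q G) (α : G ≃* G) (a : F) : F :=
  C.fst (α (C.u a (Classical.choose (H.exists_valid a))))

/-- the map induced on `Z ≅ Fix` -/
noncomputable def zeta (_ : FqSq F q) (C : UCoord F q G) (α : G ≃* G) (c : F) : F :=
  C.snd (α (C.u 0 c))

variable (H : FqSq F q) (C : UCoord F q G)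
include H

theorem fst_mul (g g' : G) : C.fst (g * g') = C.fst g + C.fst g' := by
  have h := C.mul _ _ _ _ (C.valid_coord g) (C.valid_coord g')
  rw [C.u_coord, C.u_coord] at h
  rw [h, C.fst_u (H.valid_mul (C.valid_coord g) (C.valid_coord g'))]

theorem fst_eq_zero_iff (g : G) : C.fst g = 0 ↔ g ∈ Subgroup.center G := by
  have := H.mem_center_iff C (C.valid_coord g)
  rw [C.u_coord] at this
  exact this.symm

theorem fst_one : C.fst (1 : G) = 0 := (H.fst_eq_zero_iff C 1).mpr (Subgroup.one_mem _)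

theorem fst_conj (g x : G) : C.fst (g * x * g⁻¹) = C.fst x := by
  have h1 : C.fst g + C.fst g⁻¹ = 0 := by
    rw [← H.fst_mul C, mul_inv_cancel, H.fst_one C]
  rw [H.fst_mul C, H.fst_mul C]
  linear_combination h1

theorem eq_u_zero_snd {z : G} (hz : z ∈ Subgroup.center G) :
    z = C.u 0 (C.snd z) ∧ C.snd z ∈ H.Fix := by
  have h0 := (H.fst_eq_zero_iff C z).mpr hz
  have hv := C.valid_coord z
  have hu := C.u_coord z
  rw [h0] at hv hu
  exact ⟨hu.symm, H.valid_zero_iff.mp hv⟩

theorem aut_center (α : G ≃* G) {c : F} (hc : c ∈ H.Fix) :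
    α (C.u 0 c) = C.u 0 (H.zeta C α c) ∧ H.zeta C α c ∈ H.Fix :=
  H.eq_u_zero_snd C (aut_mem_center α ((H.mem_center_iff_exists C _).mpr ⟨c, hc, rfl⟩))

theorem fst_aut_u (α : G ≃* G) {a b : F} (hv : Valid q a b) :
    C.fst (α (C.u a b)) = H.rho C α a := by
  have h2 := H.two_le
  have hv0 := Classical.choose_spec (H.exists_valid a)
  have hc : b + Classical.choose (H.exists_valid a) ∈ H.Fix := by
    rw [← H.valid_zero_iff]
    unfold Valid at *
    rw [H.frob_add, zero_pow (by omega)]
    have := H.add_self (a ^ (q + 1))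
    linear_combination hv + hv0 + this
  have hprod : C.u a b = C.u a (Classical.choose (H.exists_valid a)) *
      C.u 0 (b + Classical.choose (H.exists_valid a)) := by
    rw [C.mul _ _ _ _ hv0 (H.valid_zero_iff.mpr hc)]
    congr 1
    · rw [add_zero]
    · rw [mul_zero, add_zero]
      have := H.add_self (Classical.choose (H.exists_valid a))
      linear_combination -this
  have hz : C.u 0 (b + Classical.choose (H.exists_valid a)) ∈ Subgroup.center G :=
    (H.mem_center_iff_exists C _).mpr ⟨_, hc, rfl⟩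
  rw [hprod, map_mul, H.fst_mul C, (H.fst_eq_zero_iff C _).mpr (aut_mem_center α hz), add_zero]
  rfl

/-- the image of `u a b` -/
theorem aut_u (α : G ≃* G) {a b : F} (hv : Valid q a b) :
    α (C.u a b) = C.u (H.rho C α a) (C.snd (α (C.u a b))) ∧
      Valid q (H.rho C α a) (C.snd (α (C.u a b))) := by
  have h1 := C.valid_coord (α (C.u a b))
  have h2 := C.u_coord (α (C.u a b))
  rw [H.fst_aut_u C α hv] at h1 h2
  exact ⟨h2.symm, h1⟩

theorem autData (α : G ≃* G) : H.AutData (H.rho C α) (H.zeta C α) where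
  add a a' := by
    obtain ⟨b, hb⟩ := H.exists_valid a
    obtain ⟨b', hb'⟩ := H.exists_valid a'
    rw [← H.fst_aut_u C α hb, ← H.fst_aut_u C α hb', ← H.fst_aut_u C α (H.valid_mul hb hb'),
      ← C.mul _ _ _ _ hb hb', map_mul, H.fst_mul C]
  inj a h := by
    obtain ⟨b, hb⟩ := H.exists_valid a
    rw [← H.fst_aut_u C α hb, H.fst_eq_zero_iff C] at h
    have := aut_mem_center α.symm h
    rw [MulEquiv.symm_apply_apply] at this
    exact (H.mem_center_iff C hb).mp this
  hN a := by
    obtain ⟨b, hb⟩ := H.exists_valid a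
    have h1 : α (C.u a b) ^ 2 = α (C.u 0 (a ^ (q + 1))) := by rw [← map_pow, H.u_sq C hb]
    obtain ⟨e1, hv1⟩ := H.aut_u C α hb
    have h2 := H.u_sq C hv1
    rw [← e1, h1, (H.aut_center C α (H.norm_mem_Fix a)).1] at h2
    exact (C.inj _ _ _ _ (H.valid_zero_iff.mpr (H.aut_center C α (H.norm_mem_Fix a)).2)
      (H.valid_zero_iff.mpr (H.norm_mem_Fix _)) h2).2
  hB a a' := by
    obtain ⟨b, hb⟩ := H.exists_valid a
    obtain ⟨b', hb'⟩ := H.exists_valid a'
    have h1 : ⁅α (C.u a b), α (C.u a' b')⁆ = α (C.u 0 (a ^ q * a' + a' ^ q * a)) := by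
      rw [← map_commutatorElement, H.comm_eq C hb hb']
    obtain ⟨e1, hv1⟩ := H.aut_u C α hb
    obtain ⟨e2, hv2⟩ := H.aut_u C α hb'
    have h2 := H.comm_eq C hv1 hv2
    rw [← e1, ← e2, h1, (H.aut_center C α (H.polar_mem_Fix a a')).1] at h2
    exact (C.inj _ _ _ _ (H.valid_zero_iff.mpr (H.aut_center C α (H.polar_mem_Fix a a')).2)
      (H.valid_zero_iff.mpr (H.polar_mem_Fix _ _)) h2).2

include C in
/-- an automorphism whose square is inner fixes the centre pointwise -/
theorem aut_center_fixed (α : G ≃* G) (g : G) (hα : ∀ x, α (α x) = g * x * g⁻¹) {z : G}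
    (hz : z ∈ Subgroup.center G) : α z = z := by
  have D := H.autData C α
  have hρρ : ∀ a, H.rho C α (H.rho C α a) = a := by
    intro a
    obtain ⟨b, hb⟩ := H.exists_valid a
    obtain ⟨e1, hv1⟩ := H.aut_u C α hb
    rw [← H.fst_aut_u C α hv1, ← e1, hα, H.fst_conj C, C.fst_u hb]
  have hζζ : ∀ c ∈ H.Fix, H.zeta C α (H.zeta C α c) = c := by
    intro c hc
    obtain ⟨e1, h1⟩ := H.aut_center C α hc
    obtain ⟨e2, h2⟩ := H.aut_center C α h1
    have hcen : C.u 0 c ∈ Subgroup.center G := (H.mem_center_iff_exists C _).mpr ⟨c, hc, rfl⟩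
    have h3 : α (α (C.u 0 c)) = C.u 0 c := by
      rw [hα, (Subgroup.mem_center_iff.mp hcen) g, mul_inv_cancel_right]
    rw [e1, e2] at h3
    exact (C.inj _ _ _ _ (H.valid_zero_iff.mpr h2) (H.valid_zero_iff.mpr hc) h3).2
  obtain ⟨c, hc, rfl⟩ := (H.mem_center_iff_exists C z).mp hz
  rw [(H.aut_center C α hc).1, D.zeta_eq_self hρρ hζζ hc]

end FqSq

end Cfsg.Agent.Helper18.SuzU
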