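import Mathlib
import Cfsg.Agent.Helper18.SuzAut3

set_option autoImplicit false

/-! Every Sylow 2-subgroup of `SU₃(q)`, `q = 2ⁿ`, carries `UCoord` coordinates. -/

namespace Cfsg.Agent.Helper18.SuzU

variable {F : Type*} [Field F] [Fintype F] {q : ℕ}

namespace FqSq

variable (H : FqSq F q)
include H

theorem not_dvd_index_Q0 : ¬ 2 ∣ H.Q0.index := by
  intro hdvd
  have h1 := Cfsg.Agent.Helper2.Herm.card_SU_closed H.card 3 (by norm_num)
  have hprod : ∏ i ∈ Finset.range 3, (if Even i then q ^ (i + 1) + 1 else q ^ (i + 1) - 1) =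
      (q + 1) * (q ^ 2 - 1) * (q ^ 3 + 1) := by
    rw [Finset.prod_range_succ, Finset.prod_range_succ, Finset.prod_range_succ,
      Finset.prod_range_zero]
    simp [Nat.even_add_one]
  rw [hprod] at h1
  have h3 : (3 * (3 - 1) / 2) = 3 := by norm_num
  rw [h3] at h1
  have h2 := Subgroup.card_mul_index H.Q0
  rw [H.card_Q0] at h2
  rw [← h2] at h1
  have hq0 : 0 < q ^ 3 := by have := H.two_le; positivity
  have h4 : q ^ 3 * ((q + 1) * H.Q0.index) = q ^ 3 * ((q + 1) * (q ^ 2 - 1) * (q ^ 3 + 1)) := by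
    rw [← h1]; ring
  have h5 := Nat.eq_of_mul_eq_mul_left hq0 h4
  have h6 : 2 ∣ (q + 1) * (q ^ 2 - 1) * (q ^ 3 + 1) := by
    rw [← h5]
    exact Dvd.dvd.mul_left hdvd _
  have := H.odd_aux
  rw [Nat.odd_iff] at this
  omega

/-- the explicit Sylow 2-subgroup of `SU₃(q)` -/
noncomputable def sylowSU0 {n : ℕ} (hq : q = 2 ^ n) : Sylow 2 (Cfsg.SU 3 F q) :=
  haveI : Fact (Nat.Prime 2) := ⟨Nat.prime_two⟩
  (IsPGroup.of_card (n := 3 * n) (by rw [H.card_Q0, hq, ← pow_mul, mul_comm])).toSylow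
    H.not_dvd_index_Q0

/-- coordinates on any Sylow 2-subgroup of `SU₃(q)` -/
noncomputable def coordSylowSU {n : ℕ} (hq : q = 2 ^ n) (S : Sylow 2 (Cfsg.SU 3 F q)) :
    UCoord F q (S : Subgroup (Cfsg.SU 3 F q)) :=
  haveI : Fact (Nat.Prime 2) := ⟨Nat.prime_two⟩
  H.coordQ0.map (Sylow.equiv (H.sylowSU0 hq) S)

end FqSq

/-- S3315 -/
theorem index_two_overgroup {R : Type*} [Group R] [Finite R] (n : ℕ) (hn : 1 ≤ n)
    (hF : Fintype.card F = 4 ^ n) (P : Sylow 2 ↥(Cfsg.SU 3 F (2 ^ n))) (S' : Subgroup R)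
    (hS : Nonempty (↥S' ≃* ↥(P : Subgroup ↥(Cfsg.SU 3 F (2 ^ n))))) (hidx : S'.index = 2) :
    (Subgroup.center ↥S').map S'.subtype ≤ Subgroup.center R := by
  have hF' : Fintype.card F = (2 ^ n) ^ 2 := by
    rw [hF, ← pow_mul, mul_comm, pow_mul]
    norm_num
  have H : FqSq F (2 ^ n) := FqSq.of_pow hn hF'
  obtain ⟨e⟩ := hS
  have C : UCoord F (2 ^ n) S' := (H.coordSylowSU rfl P).map e.symm
  have : S'.Normal := Subgroup.normal_of_index_eq_two hidx
  rintro _ ⟨z, hz, rfl⟩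
  rw [Subgroup.mem_center_iff]
  intro x
  have hx2 : x ^ 2 ∈ S' := Subgroup.sq_mem_of_index_two hidx x
  have hα : ∀ y : S', MulAut.conjNormal x (MulAut.conjNormal x y) =
      (⟨x ^ 2, hx2⟩ : S') * y * (⟨x ^ 2, hx2⟩ : S')⁻¹ := by
    intro y
    apply Subtype.ext
    rw [MulAut.conjNormal_apply, MulAut.conjNormal_apply]
    simp only [Subgroup.coe_mul, Subgroup.coe_inv]
    rw [pow_two]
    group
  have := H.aut_center_fixed C (MulAut.conjNormal x) ⟨x ^ 2, hx2⟩ hα hz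
  have h2 := congrArg Subtype.val this
  rw [MulAut.conjNormal_apply] at h2
  show x * (z : R) = (z : R) * x
  calc x * (z : R) = x * (z : R) * x⁻¹ * x := by group
    _ = (z : R) * x := by rw [h2]
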