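import Mathlib
import Cfsg.Agent.Helper18.SuzAut4
import Cfsg.Agent.Helper18.SuzU6

set_option autoImplicit false

/-! No `S₃` in the automorphism group of the Sylow 2-subgroup of `PSU₃(4)`. -/

namespace Cfsg.Agent.Helper18.SuzU

variable {F : Type*} [Field F] [Fintype F] {q : ℕ} {G : Type*} [Group G]

namespace FqSq

variable (H : FqSq F q) (C : UCoord F q G)
include H

theorem card_norm_one : Nat.card {a : F // a ^ (q + 1) = 1} = q + 1 := by
  have h2 := H.two_le
  have h1 := IsCyclic.card_powMonoidHom_ker Fˣ (q + 1)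
  rw [H.card_units, Nat.gcd_eq_right (dvd_mul_left _ _)] at h1
  refine Eq.trans (Nat.card_congr ?_) h1
  refine
    { toFun := fun a => ⟨Units.mk0 a.1 ?_, ?_⟩
      invFun := fun l => ⟨((l.1 : Fˣ) : F), ?_⟩
      left_inv := fun a => Subtype.ext rfl
      right_inv := fun l => Subtype.ext (Units.ext rfl) }
  · intro h
    have := a.2
    rw [h, zero_pow (by omega)] at this
    exact zero_ne_one this
  · rw [MonoidHom.mem_ker, powMonoidHom_apply]
    apply Units.ext
    rw [Units.val_pow_eq_pow_val, Units.val_mk0, Units.val_one]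
    exact a.2
  · have := l.2
    rw [MonoidHom.mem_ker, powMonoidHom_apply] at this
    have := congrArg Units.val this
    rwa [Units.val_pow_eq_pow_val, Units.val_one] at this

/-- a map of order three preserving the norm and its polar form is the identity when
`q + 1 ≡ 2 mod 3` -/
theorem rho_eq_id_of_cube (hq : (q + 1) % 3 = 2) {ρ : F → F}
    (hN : ∀ a, (ρ a) ^ (q + 1) = a ^ (q + 1))
    (hB : ∀ a a', (ρ a) ^ q * ρ a' + (ρ a') ^ q * ρ a = a ^ q * a' + a' ^ q * a)
    (h3 : ∀ a, ρ (ρ (ρ a)) = a) (a : F) : ρ a = a := by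
  classical
  have h2 := H.two_le
  let f : Function.End {a : F // a ^ (q + 1) = 1} := fun a => ⟨ρ a.1, by rw [hN, a.2]⟩
  have hf : f ^ 3 ^ 1 = 1 := by
    rw [pow_one]
    funext a
    apply Subtype.ext
    show ρ (ρ (ρ a.1)) = a.1
    exact h3 a.1
  have : Fact (Nat.Prime 3) := ⟨Nat.prime_three⟩
  have hmod := Equiv.Perm.card_fixedPoints_modEq (p := 3) (n := 1) hf
  have hcard : Fintype.card {a : F // a ^ (q + 1) = 1} = q + 1 := by
    rw [← Nat.card_eq_fintype_card, H.card_norm_one]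
  rw [hcard] at hmod
  have hlt : 1 < Fintype.card (Function.fixedPoints f) := by
    unfold Nat.ModEq at hmod
    rw [hq] at hmod
    by_contra hle
    push Not at hle
    interval_cases h : Fintype.card (Function.fixedPoints f) <;> omega
  obtain ⟨⟨⟨a₁, hn₁⟩, hf₁⟩, ⟨⟨a₂, hn₂⟩, hf₂⟩, hne⟩ := Fintype.one_lt_card_iff.mp hlt
  have hρ₁ : ρ a₁ = a₁ := congrArg Subtype.val hf₁
  have hρ₂ : ρ a₂ = a₂ := congrArg Subtype.val hf₂
  have hne' : a₁ ≠ a₂ := by
    intro h
    apply hne
    apply Subtype.ext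
    apply Subtype.ext
    exact h
  have ha₁ : a₁ ≠ 0 := by
    rintro rfl
    rw [zero_pow (by omega)] at hn₁
    exact zero_ne_one hn₁
  have ha₂ : a₂ ≠ 0 := by
    rintro rfl
    rw [zero_pow (by omega)] at hn₂
    exact zero_ne_one hn₂
  have hind : ¬ ∃ c ∈ H.Fix, a₂ = c * a₁ := by
    rintro ⟨c, hc, he⟩
    rw [he, mul_pow, hn₁, mul_one, H.norm_Fix hc] at hn₂
    have : c = 1 := H.sq_inj (by rw [hn₂, mul_one])
    rw [this, one_mul] at he
    exact hne' he.symm
  have h1 : ∃ c ∈ H.Fix, ρ a + a = c * a₁ := by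
    rw [← H.polar_eq_zero_iff ha₁]
    have e := hB a₁ a
    rw [hρ₁] at e
    rw [H.frob_add]
    have := H.add_self (a₁ ^ q * a + a ^ q * a₁)
    linear_combination e + this
  have h2' : ∃ c ∈ H.Fix, ρ a + a = c * a₂ := by
    rw [← H.polar_eq_zero_iff ha₂]
    have e := hB a₂ a
    rw [hρ₂] at e
    rw [H.frob_add]
    have := H.add_self (a₂ ^ q * a + a ^ q * a₂)
    linear_combination e + this
  obtain ⟨c₁, hc₁, e₁⟩ := h1
  obtain ⟨c₂, hc₂, e₂⟩ := h2'
  have hsum : c₁ * a₁ + c₂ * a₂ = 0 := by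
    rw [← e₁, ← e₂]
    exact H.add_self _
  obtain ⟨k1, -⟩ := H.indep hc₁ hc₂ hind ha₁ hsum
  rw [k1, zero_mul] at e₁
  have := H.add_self a
  linear_combination e₁ - this

/-- an automorphism of order dividing three acting trivially on `G/Z` and on `Z` is trivial -/
theorem aut_eq_self_of_trivial (α : G ≃* G) (hρ : ∀ a, H.rho C α a = a)
    (hz : ∀ z ∈ Subgroup.center G, α z = z) (h3 : ∀ g, α (α (α g)) = g) (g : G) : α g = g := by
  have hsq : ∀ g, α (α g) = g := by
    intro g
    have hfst : C.fst (α g) = C.fst g := by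
      have := H.fst_aut_u C α (C.valid_coord g)
      rw [C.u_coord, hρ] at this
      exact this
    have hc : g⁻¹ * α g ∈ Subgroup.center G := by
      rw [← H.fst_eq_zero_iff C, H.fst_mul C, hfst, ← H.fst_mul C, inv_mul_cancel, H.fst_one C]
    have e1 : α g = g * (g⁻¹ * α g) := by group
    have e2 : α (α g) = α g * (g⁻¹ * α g) := by
      conv_lhs => rw [e1, map_mul, hz _ hc]
    rw [e2, e1]
    have := H.center_sq C hc
    rw [pow_two] at this
    rw [mul_assoc, ← e1, this, mul_one]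
  have := h3 g
  rw [hsq] at this
  exact this

include C in
/-- no `S₃` acts faithfully -/
theorem no_S3 (hq : (q + 1) % 3 = 2) (x r : G ≃* G) (hx : ∀ g, x (x g) = g)
    (hr3 : ∀ g, r (r (r g)) = g) (hxr : ∀ g, x (r (x g)) = r (r g)) (g : G) : r g = g := by
  have hxz : ∀ z ∈ Subgroup.center G, x z = z := by
    intro z hz
    exact H.aut_center_fixed C x 1 (fun y => by rw [hx, one_mul, inv_one, mul_one]) hz
  have hrz : ∀ z ∈ Subgroup.center G, r z = z := by
    intro z hz
    have h1 := hxr z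
    rw [hxz z hz, hxz _ (aut_mem_center r hz)] at h1
    exact (r.injective h1).symm
  have D := H.autData C r
  have hζ : ∀ c ∈ H.Fix, H.zeta C r c = c := by
    intro c hc
    obtain ⟨e1, h1⟩ := H.aut_center C r hc
    rw [hrz _ ((H.mem_center_iff_exists C _).mpr ⟨c, hc, rfl⟩)] at e1
    exact (C.inj _ _ _ _ (H.valid_zero_iff.mpr hc) (H.valid_zero_iff.mpr h1) e1).2.symm
  have hN : ∀ a, (H.rho C r a) ^ (q + 1) = a ^ (q + 1) := by
    intro a
    rw [← D.hN, hζ _ (H.norm_mem_Fix a)]
  have hB : ∀ a a', (H.rho C r a) ^ q * H.rho C r a' + (H.rho C r a') ^ q * H.rho C r a =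
      a ^ q * a' + a' ^ q * a := by
    intro a a'
    rw [← D.hB, hζ _ (H.polar_mem_Fix a a')]
  have hρ3 : ∀ a, H.rho C r (H.rho C r (H.rho C r a)) = a := by
    intro a
    obtain ⟨b, hb⟩ := H.exists_valid a
    obtain ⟨e1, hv1⟩ := H.aut_u C r hb
    obtain ⟨e2, hv2⟩ := H.aut_u C r hv1
    rw [← H.fst_aut_u C r hv2, ← e2, ← e1, hr3, C.fst_u hb]
  exact H.aut_eq_self_of_trivial C r (H.rho_eq_id_of_cube hq hN hB hρ3) hrz hr3 g

end FqSq

/-- S3156 -/
theorem no_symmetric_three {T : Type*} [Group T] (hF : Fintype.card F = 16)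
    (S : Sylow 2 (Cfsg.PSU 3 F 4)) (e : T ≃* ↥(S : Subgroup (Cfsg.PSU 3 F 4)))
    (K : Subgroup (MulAut T)) : ¬ Nonempty (↥K ≃* Equiv.Perm (Fin 3)) := by
  rintro ⟨ε⟩
  have hq : (4 : ℕ) = 2 ^ 2 := by norm_num
  have H : FqSq F 4 := FqSq.of_pow' hq (by norm_num) (by rw [hF]; norm_num)
  have C : UCoord F 4 T := (H.coordSylow hq S).map e.symm
  let s : Equiv.Perm (Fin 3) := Equiv.swap 0 1
  let c : Equiv.Perm (Fin 3) := finRotate 3
  have hs : s * s = 1 := by decide
  have hc3 : c * c * c = 1 := by decide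
  have hsc : s * c * s = c * c := by decide
  have hc1 : c ≠ 1 := by decide
  have hx : (ε.symm s : MulAut T) * (ε.symm s : MulAut T) = 1 := by
    rw [← Subgroup.coe_mul, ← map_mul, hs, map_one, Subgroup.coe_one]
  have hr3 : (ε.symm c : MulAut T) * (ε.symm c : MulAut T) * (ε.symm c : MulAut T) = 1 := by
    rw [← Subgroup.coe_mul, ← Subgroup.coe_mul, ← map_mul, ← map_mul, hc3, map_one,
      Subgroup.coe_one]
  have hxr : (ε.symm s : MulAut T) * (ε.symm c : MulAut T) * (ε.symm s : MulAut T) =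
      (ε.symm c : MulAut T) * (ε.symm c : MulAut T) := by
    rw [← Subgroup.coe_mul, ← Subgroup.coe_mul, ← map_mul, ← map_mul, hsc, map_mul,
      Subgroup.coe_mul]
  have key := H.no_S3 C (by norm_num) (ε.symm s : MulAut T) (ε.symm c : MulAut T)
    (fun g => by
      have := congrArg (fun f : MulAut T => f g) hx
      simpa [MulAut.mul_apply] using this)
    (fun g => by
      have := congrArg (fun f : MulAut T => f g) hr3
      simpa [MulAut.mul_apply] using this)
    (fun g => by
      have := congrArg (fun f : MulAut T => f g) hxr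
      simpa [MulAut.mul_apply] using this)
  apply hc1
  have h1 : (ε.symm c : MulAut T) = 1 := by
    ext g
    exact key g
  have h2 : ε.symm c = 1 := Subtype.ext h1
  have := congrArg ε h2
  rwa [MulEquiv.apply_symm_apply, map_one] at this

end Cfsg.Agent.Helper18.SuzU
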