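import Mathlib
import Cfsg.Agent.Helper18.SuzAut5

set_option autoImplicit false

/-! The map induced on `F ≅ G/Z` by an automorphism is `a ↦ λ τ(a)` for a field automorphism
`τ` of `F`. -/

namespace Cfsg.Agent.Helper18.SuzU

variable {F : Type*} [Field F] [Fintype F] {q : ℕ}

namespace FqSq

variable (H : FqSq F q)
include H

theorem trace_eq_zero_iff {a : F} : a + a ^ q = 0 ↔ a ∈ H.Fix := by
  rw [H.mem_Fix]
  constructor
  · intro h
    have := H.add_self a
    linear_combination h - this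
  · intro h
    rw [h]
    exact H.add_self a

/-- decomposition with respect to the basis `1, t` -/
theorem decomp {t : F} (ht : t ∉ H.Fix) (a : F) : ∃ x ∈ H.Fix, ∃ y ∈ H.Fix, a = x + y * t := by
  have htr : t + t ^ q ≠ 0 := fun h => ht (H.trace_eq_zero_iff.mp h)
  have hy : (a + a ^ q) / (t + t ^ q) ∈ H.Fix :=
    H.div_mem_Fix (H.trace_mem_Fix a) (H.trace_mem_Fix t)
  refine ⟨a + (a + a ^ q) / (t + t ^ q) * t, ?_, (a + a ^ q) / (t + t ^ q), hy, ?_⟩
  · rw [← H.trace_eq_zero_iff, H.frob_add, mul_pow, H.mem_Fix.mp hy]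
    have e : (a + a ^ q) / (t + t ^ q) * t + (a + a ^ q) / (t + t ^ q) * t ^ q = a + a ^ q := by
      field_simp
    have := H.add_self (a + a ^ q)
    linear_combination e + this
  · have := H.add_self ((a + a ^ q) / (t + t ^ q) * t)
    linear_combination -this

theorem sq_eq (a : F) : a * a = (a + a ^ q) * a + a ^ (q + 1) := by
  have := H.add_self (a ^ (q + 1))
  rw [pow_succ] at this ⊢
  linear_combination -this

end FqSq

namespace FqSq.AutData

variable {H : FqSq F q} {ρ ζ : F → F} (D : H.AutData ρ ζ)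
include D

theorem zeta_one : ζ 1 = ρ 1 ^ (q + 1) := by
  have := D.hN 1
  rwa [one_pow] at this

theorem zeta_one_ne_zero : ζ 1 ≠ 0 := by
  rw [D.zeta_one]
  exact pow_ne_zero _ (D.rho_ne_zero one_ne_zero)

/-- the normalized map `τ = ρ / ρ 1` -/
theorem tau_add (a a' : F) : ρ (a + a') / ρ 1 = ρ a / ρ 1 + ρ a' / ρ 1 := by
  rw [D.add, add_div]

theorem tau_one : ρ 1 / ρ 1 = 1 := div_self (D.rho_ne_zero one_ne_zero)

theorem tau_smul {c : F} (hc : c ∈ H.Fix) (a : F) : ρ (c * a) / ρ 1 = sg ρ 1 c * (ρ a / ρ 1) := by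
  rw [D.semilinear hc a, mul_div_assoc]

theorem tau_Fix {c : F} (hc : c ∈ H.Fix) : ρ c / ρ 1 = sg ρ 1 c := by
  have := D.tau_smul hc 1
  rwa [mul_one, D.tau_one, mul_one] at this

theorem tau_norm (a : F) : (ρ a / ρ 1) ^ (q + 1) = sg ρ 1 (a ^ (q + 1)) := by
  rw [div_pow, ← D.hN, ← D.zeta_one, D.zeta_eq (H.norm_mem_Fix a),
    mul_div_cancel_left₀ _ D.zeta_one_ne_zero]

theorem tau_trace (a : F) : ρ a / ρ 1 + (ρ a / ρ 1) ^ q = sg ρ 1 (a + a ^ q) := by
  have h1 := D.hB 1 a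
  rw [one_pow, one_mul, mul_one, D.zeta_eq (H.trace_mem_Fix a), D.zeta_one] at h1
  have hl := D.rho_ne_zero one_ne_zero
  have hlq : ρ 1 ^ q ≠ 0 := pow_ne_zero _ hl
  rw [div_pow]
  have e : ρ 1 ^ (q + 1) = ρ 1 ^ q * ρ 1 := pow_succ _ _
  rw [e] at h1
  field_simp
  linear_combination -h1

theorem tau_sq (a : F) : ρ (a * a) / ρ 1 = ρ a / ρ 1 * (ρ a / ρ 1) := by
  rw [H.sq_eq (ρ a / ρ 1), D.tau_trace, D.tau_norm]
  conv_lhs => rw [H.sq_eq a, D.tau_add, D.tau_smul (H.trace_mem_Fix a), D.tau_Fix (H.norm_mem_Fix a)]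

theorem tau_mul (a a' : F) : ρ (a * a') / ρ 1 = ρ a / ρ 1 * (ρ a' / ρ 1) := by
  obtain ⟨t, ht⟩ := H.exists_not_mem_Fix
  have key : ∀ a' : F, ρ (t * a') / ρ 1 = ρ t / ρ 1 * (ρ a' / ρ 1) := by
    intro a'
    obtain ⟨x, hx, y, hy, rfl⟩ := H.decomp ht a'
    have e1 : t * (x + y * t) = x * t + y * (t * t) := by ring
    rw [e1, D.tau_add, D.tau_smul hx, D.tau_smul hy, D.tau_sq, D.tau_add, D.tau_smul hy,
      D.tau_Fix hx]
    ring
  obtain ⟨x, hx, y, hy, rfl⟩ := H.decomp ht a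
  have e1 : (x + y * t) * a' = x * a' + y * (t * a') := by ring
  rw [e1, D.tau_add, D.tau_smul hx, D.tau_smul hy, key, D.tau_add, D.tau_smul hy, D.tau_Fix hx]
  ring

/-- the normalized map as a ring homomorphism -/
noncomputable def tauHom : F →+* F where
  toFun a := ρ a / ρ 1
  map_one' := D.tau_one
  map_mul' := D.tau_mul
  map_zero' := by rw [D.rho_zero, zero_div]
  map_add' := D.tau_add

/-- the normalized map as a ring automorphism -/
noncomputable def tauEquiv : F ≃+* F :=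
  RingEquiv.ofBijective D.tauHom
    ((Finite.injective_iff_bijective).mp D.tauHom.injective)

theorem rho_eq (a : F) : ρ a = ρ 1 * D.tauEquiv a := by
  show ρ a = ρ 1 * (ρ a / ρ 1)
  rw [mul_div_cancel₀ _ (D.rho_ne_zero one_ne_zero)]

end FqSq.AutData

end Cfsg.Agent.Helper18.SuzU
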