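import Mathlib
import Cfsg.Agent.Helper18.SuzAut6

set_option autoImplicit false

/-! The action of `Aut G` on `G/Z ≅ F` as a homomorphism `Psi`; the explicit automorphisms
`phi l`, `psi τ`, `kappa h`. -/

namespace Cfsg.Agent.Helper18.SuzU

variable {F : Type*} [Field F] [Fintype F] {q : ℕ} {G : Type*} [Group G]

namespace FqSq

variable (H : FqSq F q) (C : UCoord F q G)
include H

theorem rho_mul (α β : MulAut G) (a : F) :
    H.rho C (α * β) a = H.rho C α (H.rho C β a) := by
  obtain ⟨b, hb⟩ := H.exists_valid a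
  obtain ⟨e1, hv1⟩ := H.aut_u C β hb
  rw [← H.fst_aut_u C (α * β) hb, MulAut.mul_apply, e1, H.fst_aut_u C α hv1]

theorem rho_one (a : F) : H.rho C (1 : MulAut G) a = a := by
  obtain ⟨b, hb⟩ := H.exists_valid a
  rw [← H.fst_aut_u C (1 : MulAut G) hb, MulAut.one_apply, C.fst_u hb]

/-- the action on `G/Z ≅ F` -/
noncomputable def Psi : MulAut G →* Equiv.Perm F where
  toFun α :=
    { toFun := H.rho C α
      invFun := H.rho C α⁻¹
      left_inv := fun a => by rw [← H.rho_mul C, inv_mul_cancel, H.rho_one C]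
      right_inv := fun a => by rw [← H.rho_mul C, mul_inv_cancel, H.rho_one C] }
  map_one' := by
    ext a
    exact H.rho_one C a
  map_mul' α β := by
    ext a
    exact H.rho_mul C α β a

theorem Psi_apply (α : MulAut G) (a : F) : H.Psi C α a = H.rho C α a := rfl

theorem mem_ker_Psi {α : MulAut G} : α ∈ (H.Psi C).ker ↔ ∀ a, H.rho C α a = a := by
  rw [MonoidHom.mem_ker]
  constructor
  · intro h a
    rw [← H.Psi_apply C, h]
    rfl
  · intro h
    ext a
    rw [H.Psi_apply C, h]
    rfl

theorem rho_phi (l : Fˣ) (a : F) : H.rho C (H.phi C l) a = l * a := by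
  obtain ⟨b, hb⟩ := H.exists_valid a
  rw [← H.fst_aut_u C (H.phi C l) hb, H.phi_apply C, H.phiFun_u C _ hb,
    C.fst_u (H.valid_scale _ hb)]

omit [Fintype F] H in
theorem valid_ringEquiv (τ : F ≃+* F) {a b : F} (hv : Valid q a b) : Valid q (τ a) (τ b) := by
  unfold Valid at *
  rw [← map_pow, ← map_add, hv, map_pow]

omit H in
/-- the map induced by a field automorphism -/
noncomputable def psiFun (C : UCoord F q G) (τ : F ≃+* F) (g : G) : G :=
  C.u (τ (C.fst g)) (τ (C.snd g))

omit H in
theorem psiFun_u (τ : F ≃+* F) {a b : F} (hv : Valid q a b) :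
    psiFun C τ (C.u a b) = C.u (τ a) (τ b) := by
  rw [psiFun, C.fst_u hv, C.snd_u hv]

theorem psiFun_mul (τ : F ≃+* F) (g g' : G) :
    psiFun C τ (g * g') = psiFun C τ g * psiFun C τ g' := by
  obtain ⟨a, b, hv, rfl⟩ := C.surj g
  obtain ⟨a', b', hv', rfl⟩ := C.surj g'
  rw [C.mul _ _ _ _ hv hv', psiFun_u C τ (H.valid_mul hv hv'), psiFun_u C τ hv,
    psiFun_u C τ hv', C.mul _ _ _ _ (valid_ringEquiv τ hv) (valid_ringEquiv τ hv')]
  congr 1
  · exact map_add τ a a'
  · rw [map_add, map_add, map_mul, map_pow]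

omit H in
theorem psiFun_symm (τ : F ≃+* F) (g : G) : psiFun C τ.symm (psiFun C τ g) = g := by
  obtain ⟨a, b, hv, rfl⟩ := C.surj g
  rw [psiFun_u C τ hv, psiFun_u C τ.symm (valid_ringEquiv τ hv), RingEquiv.symm_apply_apply,
    RingEquiv.symm_apply_apply]

/-- the automorphism induced by a field automorphism -/
noncomputable def psi (τ : F ≃+* F) : MulAut G :=
  { toFun := psiFun C τ
    invFun := psiFun C τ.symm
    left_inv := psiFun_symm C τ
    right_inv := fun g => by
      have := psiFun_symm C τ.symm g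
      rwa [RingEquiv.symm_symm] at this
    map_mul' := H.psiFun_mul C τ }

theorem psi_apply (τ : F ≃+* F) (g : G) : H.psi C τ g = psiFun C τ g := rfl

theorem rho_psi (τ : F ≃+* F) (a : F) : H.rho C (H.psi C τ) a = τ a := by
  obtain ⟨b, hb⟩ := H.exists_valid a
  rw [← H.fst_aut_u C (H.psi C τ) hb, H.psi_apply C, psiFun_u C τ hb,
    C.fst_u (valid_ringEquiv τ hb)]

/-! ### central automorphisms -/

theorem valid_kappa (h : F →+ H.FixField) {a b : F} (hv : Valid q a b) :
    Valid q a (b + (h a : F)) := by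
  unfold Valid at *
  have hm : (h a : F) ∈ H.Fix := (h a).2
  rw [H.frob_add, H.mem_Fix.mp hm]
  have := H.add_self (h a : F)
  linear_combination hv + this

/-- the central automorphism attached to an additive map `F → Fix` -/
noncomputable def kappaFun (h : F →+ H.FixField) (g : G) : G :=
  C.u (C.fst g) (C.snd g + (h (C.fst g) : F))

theorem kappaFun_u (h : F →+ H.FixField) {a b : F} (hv : Valid q a b) :
    H.kappaFun C h (C.u a b) = C.u a (b + (h a : F)) := by
  rw [kappaFun, C.fst_u hv, C.snd_u hv]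

theorem kappaFun_mul (h : F →+ H.FixField) (g g' : G) :
    H.kappaFun C h (g * g') = H.kappaFun C h g * H.kappaFun C h g' := by
  obtain ⟨a, b, hv, rfl⟩ := C.surj g
  obtain ⟨a', b', hv', rfl⟩ := C.surj g'
  rw [C.mul _ _ _ _ hv hv', H.kappaFun_u C h (H.valid_mul hv hv'), H.kappaFun_u C h hv,
    H.kappaFun_u C h hv', C.mul _ _ _ _ (H.valid_kappa h hv) (H.valid_kappa h hv')]
  congr 1
  rw [map_add, Subfield.coe_add]
  ring

theorem kappaFun_kappaFun (h : F →+ H.FixField) (g : G) :
    H.kappaFun C h (H.kappaFun C h g) = g := by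
  obtain ⟨a, b, hv, rfl⟩ := C.surj g
  rw [H.kappaFun_u C h hv, H.kappaFun_u C h (H.valid_kappa h hv)]
  congr 1
  have := H.add_self (h a : F)
  linear_combination this

/-- the central automorphism attached to an additive map `F → Fix` -/
noncomputable def kappa (h : F →+ H.FixField) : MulAut G :=
  { toFun := H.kappaFun C h
    invFun := H.kappaFun C h
    left_inv := H.kappaFun_kappaFun C h
    right_inv := H.kappaFun_kappaFun C h
    map_mul' := H.kappaFun_mul C h }

theorem kappa_apply (h : F →+ H.FixField) (g : G) : H.kappa C h g = H.kappaFun C h g := rfl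

theorem rho_kappa (h : F →+ H.FixField) (a : F) : H.rho C (H.kappa C h) a = a := by
  obtain ⟨b, hb⟩ := H.exists_valid a
  rw [← H.fst_aut_u C (H.kappa C h) hb, H.kappa_apply C, H.kappaFun_u C h hb,
    C.fst_u (H.valid_kappa h hb)]

theorem kappa_mem_ker (h : F →+ H.FixField) : H.kappa C h ∈ (H.Psi C).ker :=
  (H.mem_ker_Psi C).mpr (H.rho_kappa C h)

theorem kappa_injective : Function.Injective (H.kappa C) := by
  intro h h' he
  ext a
  obtain ⟨b, hb⟩ := H.exists_valid a
  have h1 : H.kappa C h (C.u a b) = H.kappa C h' (C.u a b) := by rw [he]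
  rw [H.kappa_apply C, H.kappa_apply C, H.kappaFun_u C h hb, H.kappaFun_u C h' hb] at h1
  have := (C.inj _ _ _ _ (H.valid_kappa h hb) (H.valid_kappa h' hb) h1).2
  exact add_left_cancel this

end FqSq

end Cfsg.Agent.Helper18.SuzU
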