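import Mathlib

set_option autoImplicit false

/-! Counting additive maps between elementary abelian 2-groups and automorphisms of a finite
field of characteristic two. -/

namespace Cfsg.Agent.Helper18.SuzU

theorem finrank_zmod_two_of_card {V : Type*} [AddCommGroup V] [Module (ZMod 2) V] [Finite V]
    {m : ℕ} (h : Nat.card V = 2 ^ m) : Module.finrank (ZMod 2) V = m := by
  have : Fact (Nat.Prime 2) := ⟨Nat.prime_two⟩
  have h1 := Module.natCard_eq_pow_finrank (K := ZMod 2) (V := V)
  rw [h, Nat.card_zmod] at h1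
  exact (Nat.pow_right_injective (le_refl 2) h1).symm

theorem card_addMonoidHom_of_exp_two {V W : Type*} [AddCommGroup V] [AddCommGroup W] [Finite V]
    [Finite W] (hV2 : ∀ x : V, 2 • x = 0) (hW2 : ∀ x : W, 2 • x = 0) {m k : ℕ}
    (hV : Nat.card V = 2 ^ m) (hW : Nat.card W = 2 ^ k) : Nat.card (V →+ W) = 2 ^ (m * k) := by
  have : Fact (Nat.Prime 2) := ⟨Nat.prime_two⟩
  let _ : Module (ZMod 2) V := AddCommGroup.zmodModule hV2
  let _ : Module (ZMod 2) W := AddCommGroup.zmodModule hW2
  rw [Nat.card_congr (AddMonoidHom.toZModLinearMapEquiv 2 (M := V) (M₁ := W)).toEquiv,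
    Module.natCard_eq_pow_finrank (K := ZMod 2), Module.finrank_linearMap,
    finrank_zmod_two_of_card hV, finrank_zmod_two_of_card hW, Nat.card_zmod]

theorem card_ringAut_char_two {F : Type*} [Field F] [Finite F] (h2 : (2 : F) = 0) {m : ℕ}
    (hF : Nat.card F = 2 ^ m) : Nat.card (F ≃+* F) = m := by
  have : CharP F 2 := CharTwo.of_one_ne_zero_of_two_eq_zero one_ne_zero h2
  have : Fact (Nat.Prime 2) := ⟨Nat.prime_two⟩
  let _ : Algebra (ZMod 2) F := ZMod.algebra F 2
  have h1 := IsGalois.card_aut_eq_finrank (ZMod 2) F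
  rw [finrank_zmod_two_of_card hF] at h1
  rw [← h1]
  apply Nat.card_congr
  exact
    { toFun := fun f => AlgEquiv.ofRingEquiv (f := f) (fun r => by
        have : (f : F →+* F).comp (algebraMap (ZMod 2) F) = algebraMap (ZMod 2) F :=
          Subsingleton.elim _ _
        exact RingHom.congr_fun this r)
      invFun := fun g => g.toRingEquiv
      left_inv := fun f => by ext; rfl
      right_inv := fun g => by ext; rfl }

end Cfsg.Agent.Helper18.SuzU
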