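import Mathlib
import Cfsg.Agent.Helper18.SuzAut7
import Cfsg.Agent.Helper18.SuzAut8

set_option autoImplicit false

/-! The order of `Aut G` for a group with `UCoord`. -/

namespace Cfsg.Agent.Helper18.SuzU

variable {F : Type*} [Field F] [Fintype F] {q : ℕ} {G : Type*} [Group G]

namespace FqSq

variable (H : FqSq F q) (C : UCoord F q G)
include H

/-- two valid second coordinates differ by an element of the fixed field -/
theorem u_eq_mul_center {a b b₀ : F} (hv : Valid q a b) (hv0 : Valid q a b₀) :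
    b + b₀ ∈ H.Fix ∧ C.u a b = C.u a b₀ * C.u 0 (b + b₀) := by
  have h2 := H.two_le
  have hc : b + b₀ ∈ H.Fix := by
    rw [← H.valid_zero_iff]
    unfold Valid at *
    rw [H.frob_add, zero_pow (by omega)]
    have := H.add_self (a ^ (q + 1))
    linear_combination hv + hv0 + this
  refine ⟨hc, ?_⟩
  rw [C.mul _ _ _ _ hv0 (H.valid_zero_iff.mpr hc)]
  congr 1
  · rw [add_zero]
  · rw [mul_zero, add_zero]
    have := H.add_self b₀
    linear_combination -this

theorem valid_add_Fix {a b c : F} (hv : Valid q a b) (hc : c ∈ H.Fix) : Valid q a (b + c) := by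
  unfold Valid at *
  rw [H.frob_add, H.mem_Fix.mp hc]
  have := H.add_self c
  linear_combination hv + this

/-- the shift of the second coordinate under a central automorphism -/
noncomputable def delta (H : FqSq F q) (C : UCoord F q G) (α : MulAut G) (a : F) : F :=
  C.snd (α (C.u a (Classical.choose (H.exists_valid a)))) + Classical.choose (H.exists_valid a)

section ker

variable {α : MulAut G} (hα : ∀ a, H.rho C α a = a)
include hα

theorem ker_zeta {c : F} (hc : c ∈ H.Fix) : α (C.u 0 c) = C.u 0 c := by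
  have D := H.autData C α
  obtain ⟨e1, h1⟩ := H.aut_center C α hc
  rw [e1]
  congr 1
  obtain ⟨d, hd, rfl⟩ := H.exists_sqrt hc
  rw [← H.norm_Fix hd, D.hN, hα]

theorem ker_apply {a b : F} (hv : Valid q a b) :
    α (C.u a b) = C.u a (b + H.delta C α a) ∧ H.delta C α a ∈ H.Fix := by
  have hv0 := Classical.choose_spec (H.exists_valid a)
  obtain ⟨e1, hv1⟩ := H.aut_u C α hv0
  rw [hα] at e1 hv1
  obtain ⟨hc, hprod⟩ := H.u_eq_mul_center C hv hv0
  obtain ⟨hδ, -⟩ := H.u_eq_mul_center C hv1 hv0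
  refine ⟨?_, hδ⟩
  rw [hprod, map_mul, e1, H.ker_zeta C hα hc, C.mul _ _ _ _ hv1 (H.valid_zero_iff.mpr hc)]
  congr 1
  · rw [add_zero]
  · unfold delta
    ring

theorem delta_mem (a : F) : H.delta C α a ∈ H.Fix :=
  (H.ker_apply C hα (Classical.choose_spec (H.exists_valid a))).2

theorem delta_add (a a' : F) : H.delta C α (a + a') = H.delta C α a + H.delta C α a' := by
  obtain ⟨b, hb⟩ := H.exists_valid a
  obtain ⟨b', hb'⟩ := H.exists_valid a'
  have h1 := (H.ker_apply C hα hb).1
  have h2 := (H.ker_apply C hα hb').1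
  have h3 := (H.ker_apply C hα (H.valid_mul hb hb')).1
  have v1 := H.valid_add_Fix hb (H.delta_mem C hα a)
  have v2 := H.valid_add_Fix hb' (H.delta_mem C hα a')
  rw [← C.mul _ _ _ _ hb hb', map_mul, h1, h2, C.mul _ _ _ _ v1 v2] at h3
  have := (C.inj _ _ _ _ (H.valid_mul v1 v2)
    (H.valid_add_Fix (H.valid_mul hb hb') (H.delta_mem C hα (a + a'))) h3).2
  linear_combination -this

/-- the additive map attached to a central automorphism -/
noncomputable def deltaHom : F →+ H.FixField :=
  AddMonoidHom.mk' (fun a => ⟨H.delta C α a, H.delta_mem C hα a⟩)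
    (fun a a' => Subtype.ext (H.delta_add C hα a a'))

theorem kappa_deltaHom : H.kappa C (H.deltaHom C hα) = α := by
  ext g
  obtain ⟨a, b, hv, rfl⟩ := C.surj g
  rw [H.kappa_apply C, H.kappaFun_u C _ hv, (H.ker_apply C hα hv).1]
  rfl

end ker

theorem card_ker_Psi {n : ℕ} (hq : q = 2 ^ n) : Nat.card (H.Psi C).ker = 2 ^ (2 * n * n) := by
  have e : (F →+ H.FixField) ≃ (H.Psi C).ker :=
    Equiv.ofBijective (fun h => ⟨H.kappa C h, H.kappa_mem_ker C h⟩)
      ⟨fun h h' he => H.kappa_injective C (congrArg Subtype.val he),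
       fun α => ⟨H.deltaHom C ((H.mem_ker_Psi C).mp α.2),
        Subtype.ext (H.kappa_deltaHom C ((H.mem_ker_Psi C).mp α.2))⟩⟩
  rw [← Nat.card_congr e]
  apply card_addMonoidHom_of_exp_two (m := 2 * n) (k := n)
  · intro x
    rw [two_smul]
    exact H.add_self x
  · intro x
    apply Subtype.ext
    rw [two_smul]
    exact H.add_self _
  · rw [Nat.card_eq_fintype_card, H.card, hq, ← pow_mul, mul_comm]
  · rw [← hq]
    exact H.card_Fix

theorem Psi_eq (α : MulAut G) :
    ∃ (l : Fˣ) (τ : F ≃+* F), H.Psi C α = H.Psi C (H.phi C l * H.psi C τ) := by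
  have D := H.autData C α
  refine ⟨Units.mk0 (H.rho C α 1) (D.rho_ne_zero one_ne_zero), D.tauEquiv, ?_⟩
  ext a
  rw [H.Psi_apply C, H.Psi_apply C, H.rho_mul C, H.rho_phi C, H.rho_psi C, Units.val_mk0]
  exact D.rho_eq a

theorem card_range_Psi {n : ℕ} (hq : q = 2 ^ n) :
    Nat.card (H.Psi C).range = (q - 1) * (q + 1) * (2 * n) := by
  have e : Fˣ × (F ≃+* F) ≃ (H.Psi C).range :=
    Equiv.ofBijective (fun p => ⟨H.Psi C (H.phi C p.1 * H.psi C p.2), ⟨_, rfl⟩⟩)
      ⟨?_, ?_⟩
  · rw [← Nat.card_congr e, Nat.card_prod, H.card_units,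
      card_ringAut_char_two H.two (m := 2 * n)
        (by rw [Nat.card_eq_fintype_card, H.card, hq, ← pow_mul, mul_comm])]
  · rintro ⟨l, τ⟩ ⟨l', τ'⟩ he
    have h1 : ∀ a : F, (l : F) * τ a = l' * τ' a := by
      intro a
      have := congrArg (fun p : (H.Psi C).range => (p : Equiv.Perm F) a) he
      simp only [H.Psi_apply C, H.rho_mul C, H.rho_phi C, H.rho_psi C] at this
      exact this
    have hl : (l : F) = l' := by
      have := h1 1
      rwa [map_one, map_one, mul_one, mul_one] at this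
    have hτ : τ = τ' := by
      ext a
      have := h1 a
      rw [hl] at this
      exact mul_left_cancel₀ l'.ne_zero this
    rw [Units.ext hl, hτ]
  · rintro ⟨_, α, rfl⟩
    obtain ⟨l, τ, he⟩ := H.Psi_eq C α
    exact ⟨⟨l, τ⟩, Subtype.ext he.symm⟩

include C in
theorem card_mulAut {n : ℕ} (hq : q = 2 ^ n) :
    Nat.card (MulAut G) = 2 ^ (2 * n * n) * ((q - 1) * (q + 1) * (2 * n)) := by
  rw [← Subgroup.card_mul_index (H.Psi C).ker, Subgroup.index_ker, H.card_ker_Psi C hq,
    H.card_range_Psi C hq]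

end FqSq

end Cfsg.Agent.Helper18.SuzU
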