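import Mathlib
import Cfsg.Agent.Helper18.SuzAut9
import Cfsg.Prelude.Def_Solvable
import Cfsg.Prelude.Def_Transfer

set_option autoImplicit false

/-! `O₂(Aut G)` is the group of central automorphisms, for a group `G` with `UCoord`. -/

namespace Cfsg.Agent.Helper18.SuzU

variable {F : Type*} [Field F] [Fintype F] {q : ℕ} {G : Type*} [Group G]

namespace FqSq

variable (H : FqSq F q) (C : UCoord F q G)
include H

theorem eq_one_of_pow_two_pow {x : F} {k : ℕ} (h : x ^ 2 ^ k = 1) : x = 1 := by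
  induction k with
  | zero => simpa using h
  | succ k ih =>
    apply ih
    apply H.sq_inj
    rw [mul_one, ← pow_two, ← pow_mul, ← pow_succ]
    exact h

theorem rho_pow {β : MulAut G} {ε : F} (h : ∀ a, H.rho C β a = ε * a) (j : ℕ) (a : F) :
    H.rho C (β ^ j) a = ε ^ j * a := by
  induction j generalizing a with
  | zero => rw [pow_zero, pow_zero, one_mul, H.rho_one C]
  | succ j ih => rw [pow_succ, H.rho_mul C, h, ih, pow_succ]; ring

theorem ker_Psi_sq {α : MulAut G} (hα : α ∈ (H.Psi C).ker) : α * α = 1 := by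
  have hα' := (H.mem_ker_Psi C).mp hα
  ext g
  obtain ⟨a, b, hv, rfl⟩ := C.surj g
  rw [MulAut.mul_apply, MulAut.one_apply, (H.ker_apply C hα' hv).1,
    (H.ker_apply C hα' (H.valid_add_Fix hv (H.delta_mem C hα' a))).1]
  congr 1
  have := H.add_self (H.delta C α a)
  linear_combination this

theorem ker_Psi_comm {α β : MulAut G} (hα : α ∈ (H.Psi C).ker) (hβ : β ∈ (H.Psi C).ker) :
    α * β = β * α := by
  have hα' := (H.mem_ker_Psi C).mp hα
  have hβ' := (H.mem_ker_Psi C).mp hβ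
  ext g
  obtain ⟨a, b, hv, rfl⟩ := C.surj g
  rw [MulAut.mul_apply, MulAut.mul_apply, (H.ker_apply C hα' hv).1, (H.ker_apply C hβ' hv).1,
    (H.ker_apply C hα' (H.valid_add_Fix hv (H.delta_mem C hβ' a))).1,
    (H.ker_apply C hβ' (H.valid_add_Fix hv (H.delta_mem C hα' a))).1]
  congr 1
  ring

theorem isPGroup_ker_Psi : IsPGroup 2 (H.Psi C).ker := by
  intro α
  refine ⟨1, ?_⟩
  apply Subtype.ext
  rw [pow_one, pow_two]
  exact H.ker_Psi_sq C α.2

/-- a normal 2-subgroup of `Aut G` consists of central automorphisms -/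
theorem le_ker_Psi_of_normal (N : Subgroup (MulAut G)) [hN : N.Normal] (hp : IsPGroup 2 N) :
    N ≤ (H.Psi C).ker := by
  intro α hα
  have D := H.autData C α
  have hl0 : H.rho C α 1 ≠ 0 := D.rho_ne_zero one_ne_zero
  -- `τ` fixes every unit
  have hτ : ∀ m : Fˣ, D.tauEquiv (m : F) = m := by
    intro m
    have hβ : α * (H.phi C m * α⁻¹ * (H.phi C m)⁻¹) ∈ N :=
      N.mul_mem hα (hN.conj_mem _ (N.inv_mem hα) _)
    have hρβ : ∀ a, H.rho C (α * (H.phi C m * α⁻¹ * (H.phi C m)⁻¹)) a =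
        (D.tauEquiv (m : F) / m) * a := by
      intro a
      have e1 : (H.phi C m)⁻¹ = H.phi C m⁻¹ := (map_inv (H.phi C) m).symm
      rw [H.rho_mul C, H.rho_mul C, H.rho_mul C, e1, H.rho_phi C, H.rho_phi C]
      have e2 : H.rho C α (H.rho C α⁻¹ (((m⁻¹ : Fˣ) : F) * a)) = ((m⁻¹ : Fˣ) : F) * a := by
        rw [← H.rho_mul C, mul_inv_cancel, H.rho_one C]
      rw [D.rho_eq] at e2 ⊢
      rw [map_mul, mul_left_comm, e2, Units.val_inv_eq_inv_val, div_eq_mul_inv, mul_assoc]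
    obtain ⟨k, hk⟩ := hp ⟨_, hβ⟩
    have hk' : (α * (H.phi C m * α⁻¹ * (H.phi C m)⁻¹)) ^ 2 ^ k = 1 := by
      have := congrArg Subtype.val hk
      rwa [Subgroup.coe_pow, Subgroup.coe_one] at this
    have h1 := H.rho_pow C hρβ (2 ^ k) 1
    rw [hk', H.rho_one C, mul_one] at h1
    have h2 := H.eq_one_of_pow_two_pow h1.symm
    rw [div_eq_one_iff_eq m.ne_zero] at h2
    exact h2
  -- hence `ρ a = l * a`
  have hρ : ∀ a, H.rho C α a = H.rho C α 1 * a := by
    intro a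
    rw [D.rho_eq]
    by_cases ha : a = 0
    · rw [ha, map_zero]
    · have := hτ (Units.mk0 a ha)
      rw [Units.val_mk0] at this
      rw [this]
  obtain ⟨k, hk⟩ := hp ⟨α, hα⟩
  have hk' : α ^ 2 ^ k = 1 := by
    have := congrArg Subtype.val hk
    rwa [Subgroup.coe_pow, Subgroup.coe_one] at this
  have h1 := H.rho_pow C hρ (2 ^ k) 1
  rw [hk', H.rho_one C, mul_one] at h1
  have h2 := H.eq_one_of_pow_two_pow h1.symm
  rw [H.mem_ker_Psi C]
  intro a
  rw [hρ, h2, one_mul]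

theorem pCore_eq_ker_Psi : Cfsg.pCore 2 (MulAut G) = (H.Psi C).ker := by
  apply le_antisymm
  · apply sSup_le
    rintro N ⟨hN, hp⟩
    exact H.le_ker_Psi_of_normal C N hp
  · apply le_sSup
    exact ⟨MonoidHom.normal_ker _, H.isPGroup_ker_Psi C⟩

include C in
/-- S3162 for groups with coordinates -/
theorem aut_structure {n : ℕ} (hq : q = 2 ^ n) :
    Cfsg.IsElementaryAbelian 2 (Cfsg.pCore 2 (MulAut G)) ∧
      Nat.card ↥(Cfsg.pCore 2 (MulAut G)) = 2 ^ (2 * n ^ 2) ∧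
      Nat.card (MulAut G) = 2 ^ (2 * n ^ 2) * (2 * n * (q ^ 2 - 1)) := by
  have h2 := H.two_le
  have e1 : 2 * n ^ 2 = 2 * n * n := by ring
  have e2 : (q - 1) * (q + 1) = q ^ 2 - 1 := by
    obtain ⟨k, rfl⟩ : ∃ k, q = k + 1 := ⟨q - 1, by omega⟩
    have : (k + 1) ^ 2 = k * (k + 2) + 1 := by ring
    rw [this]
    simp
  refine ⟨⟨?_, ?_⟩, ?_, ?_⟩
  · rw [H.pCore_eq_ker_Psi C]
    exact ⟨⟨fun α β => Subtype.ext (H.ker_Psi_comm C α.2 β.2)⟩⟩
  · intro α hα
    rw [H.pCore_eq_ker_Psi C] at hα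
    rw [pow_two]
    exact H.ker_Psi_sq C hα
  · rw [H.pCore_eq_ker_Psi C, H.card_ker_Psi C hq, e1]
  · rw [H.card_mulAut C hq, e1, e2]
    ring

end FqSq

end Cfsg.Agent.Helper18.SuzU
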