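import Mathlib
import Cfsg.Agent.Helper10.SwDefs
import Cfsg.Agent.Helper12.SL2OrderFour
import Cfsg.Agent.Helper12.SL2TorusA

/-!
# S3211 piece SETUP: the hypotheses of S3211 give the abstract configuration `Cfg L₁ L₂ j n`.
-/

set_option autoImplicit false

namespace Cfsg.Agent.Helper18.Sw

open Cfsg.Agent.Helper10.Sw

section SL2

variable {F : Type*} [Field F]

local notation "S2" => Matrix.SpecialLinearGroup (Fin 2) F
local notation "M2" => Matrix (Fin 2) (Fin 2) F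

theorem two_ne_zero_of_odd [Fintype F] (hF : Odd (Fintype.card F)) : (2 : F) ≠ 0 := by
  apply Ring.two_ne_zero
  intro h
  have := FiniteField.even_card_of_char_two h
  rcases hF with ⟨k, hk⟩
  omega

theorem sl2_neg_one_ne_one (h2 : (2 : F) ≠ 0) : (-1 : S2) ≠ 1 := by
  intro h
  have h1 : ((-1 : S2) : M2) 0 0 = ((1 : S2) : M2) 0 0 := by rw [h]
  rw [Cfsg.Agent.Helper12.sl2_neg_one_coe, Matrix.SpecialLinearGroup.coe_one] at h1
  simp only [Matrix.neg_apply, Matrix.one_apply_eq] at h1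
  apply h2
  linear_combination -h1

theorem sl2_neg_one_sq : (-1 : S2) * (-1 : S2) = 1 := by
  simp

/-- centralizers of elements of square `-1` are abelian. -/
theorem sl2_cent_abelian (h2 : (2 : F) ≠ 0) (a : S2) (ha : a * a = -1) (c c' : S2)
    (hc : c * a = a * c) (hc' : c' * a = a * c') : c * c' = c' * c := by
  have hT := Cfsg.Agent.Helper12.isTorusGen_of_sq h2 a ha
  have haT : a ∈ Cfsg.Agent.Helper12.torusA (a : M2) := by
    rw [Cfsg.Agent.Helper12.mem_torusA]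
  have hne1 : (a : M2) ≠ 1 := by
    intro h
    have : a = 1 := by
      apply Subtype.ext; rw [h, Matrix.SpecialLinearGroup.coe_one]
    rw [this, mul_one] at ha
    exact sl2_neg_one_ne_one h2 ha.symm
  have hne2 : (a : M2) ≠ -1 := by
    intro h
    have : a = -1 := by
      apply Subtype.ext; rw [h, Cfsg.Agent.Helper12.sl2_neg_one_coe]
    rw [this, sl2_neg_one_sq] at ha
    exact sl2_neg_one_ne_one h2 ha.symm
  have hcent := hT.centralizer_eq haT hne1 hne2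
  have hcT : c ∈ Cfsg.Agent.Helper12.torusA (a : M2) := by
    rw [← hcent, Subgroup.mem_centralizer_singleton_iff]; exact hc
  have hcT' : c' ∈ Cfsg.Agent.Helper12.torusA (a : M2) := by
    rw [← hcent, Subgroup.mem_centralizer_singleton_iff]; exact hc'
  exact hT.torus_comm hcT hcT'

/-- a transvection, not `±1`. -/
theorem sl2_exists_noncentral : ∃ x : S2, x ≠ 1 ∧ x ≠ -1 := by
  refine ⟨⟨!![1, 1; 0, 1], by simp [Matrix.det_fin_two]⟩, ?_, ?_⟩
  · intro h
    have h1 := congrArg (fun x : S2 => (x : M2) 0 1) h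
    simp at h1
  · intro h
    have h1 := congrArg (fun x : S2 => (x : M2) 0 1) h
    simp at h1

end SL2

section Transfer

variable {G : Type*} [Group G] {F : Type*} [Field F] [Fintype F]

/-- facts about a subgroup isomorphic to `SL₂(F)`, `F` odd, with its involution `j`. -/
theorem sl2_sub_facts (hF : Odd (Fintype.card F)) (L : Subgroup G)
    (e : ↥L ≃* Matrix.SpecialLinearGroup (Fin 2) F) (j : G) (hjL : j ∈ L) (hj1 : j ≠ 1)
    (hj2 : j * j = 1) :
    (∀ x ∈ L, x * x = 1 → x = 1 ∨ x = j) ∧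
    (∀ a ∈ L, ∀ a' ∈ L, a * a = j → a' * a' = j → ∃ x ∈ L, x * a * x⁻¹ = a') ∧
    (∀ a ∈ L, a * a = j → ∀ c ∈ L, ∀ c' ∈ L, c * a = a * c → c' * a = a * c' →
      c * c' = c' * c) ∧
    (∃ x ∈ L, x ≠ 1 ∧ x ≠ j) := by
  have h2 := two_ne_zero_of_odd hF
  have hej : e ⟨j, hjL⟩ = -1 := by
    have h1 : e ⟨j, hjL⟩ * e ⟨j, hjL⟩ = 1 := by
      rw [← map_mul]
      have : (⟨j, hjL⟩ : L) * ⟨j, hjL⟩ = 1 := Subtype.ext hj2
      rw [this, map_one]
    rcases Cfsg.Agent.Helper12.sl2_eq_of_sq_eq_one h2 _ h1 with h | h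
    · exfalso
      have : (⟨j, hjL⟩ : L) = 1 := e.injective (by rw [h, map_one])
      exact hj1 (congrArg Subtype.val this)
    · exact h
  have hsq : ∀ (a : G) (ha : a ∈ L), a * a = j → e ⟨a, ha⟩ * e ⟨a, ha⟩ = -1 := by
    intro a ha haj
    rw [← map_mul, ← hej]
    congr 1
    exact Subtype.ext haj
  have hcomm : ∀ (a c : G) (ha : a ∈ L) (hc : c ∈ L), c * a = a * c →
      e ⟨c, hc⟩ * e ⟨a, ha⟩ = e ⟨a, ha⟩ * e ⟨c, hc⟩ := by
    intro a c ha hc h
    rw [← map_mul, ← map_mul]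
    congr 1
    exact Subtype.ext h
  refine ⟨?_, ?_, ?_, ?_⟩
  · intro x hx hxx
    have h1 : e ⟨x, hx⟩ * e ⟨x, hx⟩ = 1 := by
      rw [← map_mul]
      have : (⟨x, hx⟩ : L) * ⟨x, hx⟩ = 1 := Subtype.ext hxx
      rw [this, map_one]
    rcases Cfsg.Agent.Helper12.sl2_eq_of_sq_eq_one h2 _ h1 with h | h
    · left
      have : (⟨x, hx⟩ : L) = 1 := e.injective (by rw [h, map_one])
      exact congrArg Subtype.val this
    · right
      have : (⟨x, hx⟩ : L) = ⟨j, hjL⟩ := e.injective (by rw [h, hej])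
      exact congrArg Subtype.val this
  · intro a ha a' ha' haj haj'
    have hc := Cfsg.Agent.Helper12.isConj_of_sq_eq_neg_one h2 _ _ (hsq a ha haj) (hsq a' ha' haj')
    obtain ⟨c, hc⟩ := isConj_iff.1 hc
    refine ⟨(e.symm c : L), (e.symm c).2, ?_⟩
    have : e.symm c * ⟨a, ha⟩ * (e.symm c)⁻¹ = (⟨a', ha'⟩ : L) := by
      apply e.injective
      rw [map_mul, map_mul, map_inv, e.apply_symm_apply, hc]
    exact congrArg Subtype.val this
  · intro a ha haj c hc c' hc' hca hca'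
    have := sl2_cent_abelian h2 _ (hsq a ha haj) _ _ (hcomm a c ha hc hca) (hcomm a c' ha hc' hca')
    rw [← map_mul, ← map_mul] at this
    exact congrArg Subtype.val (e.injective this)
  · obtain ⟨x, hx1, hx2⟩ := sl2_exists_noncentral (F := F)
    refine ⟨(e.symm x : L), (e.symm x).2, ?_, ?_⟩
    · intro h
      apply hx1
      have : e.symm x = 1 := Subtype.ext h
      rw [← e.apply_symm_apply x, this, map_one]
    · intro h
      apply hx2
      have : e.symm x = ⟨j, hjL⟩ := Subtype.ext h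
      rw [← e.apply_symm_apply x, this, hej]

end Transfer

/-- Elements of `L₁ ⊔ L₂` are products `x * y` when `L₁, L₂` commute elementwise. -/
theorem mem_sup_of_comm {G : Type*} [Group G] {L₁ L₂ : Subgroup G}
    (hc : ∀ x ∈ L₁, ∀ y ∈ L₂, x * y = y * x) {g : G} (hg : g ∈ L₁ ⊔ L₂) :
    ∃ x ∈ L₁, ∃ y ∈ L₂, g = x * y := by
  let M' : Subgroup G :=
    { carrier := {g | ∃ x ∈ L₁, ∃ y ∈ L₂, g = x * y}
      one_mem' := ⟨1, L₁.one_mem, 1, L₂.one_mem, by simp⟩
      mul_mem' := by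
        rintro u v ⟨x, hx, y, hy, rfl⟩ ⟨x', hx', y', hy', rfl⟩
        refine ⟨x * x', L₁.mul_mem hx hx', y * y', L₂.mul_mem hy hy', ?_⟩
        have := hc x' hx' y hy
        calc x * y * (x' * y') = x * (y * x') * y' := by group
          _ = x * (x' * y) * y' := by rw [this]
          _ = x * x' * (y * y') := by group
      inv_mem' := by
        rintro u ⟨x, hx, y, hy, rfl⟩
        refine ⟨x⁻¹, L₁.inv_mem hx, y⁻¹, L₂.inv_mem hy, ?_⟩
        have := hc x⁻¹ (L₁.inv_mem hx) y⁻¹ (L₂.inv_mem hy)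
        rw [mul_inv_rev, this] }
  have hle : L₁ ⊔ L₂ ≤ M' := by
    apply sup_le
    · intro x hx; exact ⟨x, hx, 1, L₂.one_mem, by simp⟩
    · intro y hy; exact ⟨1, L₁.one_mem, y, hy, by simp⟩
  exact hle hg

theorem setup {G : Type*} [Group G] [Finite G]
    {F₁ : Type*} [Field F₁] [Fintype F₁] {F₂ : Type*} [Field F₂] [Fintype F₂]
    (hF₁ : Odd (Fintype.card F₁)) (hF₂ : Odd (Fintype.card F₂)) (L₁ L₂ : Subgroup G)
    (e₁ : ↥L₁ ≃* Matrix.SpecialLinearGroup (Fin 2) F₁) (e₂ : ↥L₂ ≃* Matrix.SpecialLinearGroup (Fin 2) F₂)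
    (hc : ∀ x ∈ L₁, ∀ y ∈ L₂, x * y = y * x) (j : G) (hj : orderOf j = 2) (hm : L₁ ⊓ L₂ = Subgroup.zpowers j)
    (hle : L₁ ⊔ L₂ ≤ Subgroup.centralizer ({j} : Set G)) (hi : (L₁ ⊔ L₂).relIndex (Subgroup.centralizer ({j} : Set G)) = 2) (n : G) (hn : n ∈ Subgroup.centralizer ({j} : Set G))
    (hn2 : n ^ 2 = j) (hswap : L₁.map (MulAut.conj n).toMonoidHom = L₂) :
    Cfsg.Agent.Helper10.Sw.Cfg L₁ L₂ j n := by
  have hj1 : j ≠ 1 := by
    intro h; rw [h, orderOf_one] at hj; omega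
  have hj2 : j * j = 1 := by
    rw [← pow_two, ← hj, pow_orderOf_eq_one]
  have hjinv : j⁻¹ = j := by rw [inv_eq_iff_mul_eq_one]; exact hj2
  have hjm : j ∈ L₁ ⊓ L₂ := by rw [hm]; exact Subgroup.mem_zpowers j
  have hjL₁ : j ∈ L₁ := (Subgroup.mem_inf.1 hjm).1
  have hjL₂ : j ∈ L₂ := (Subgroup.mem_inf.1 hjm).2
  have hinter : ∀ x, x ∈ L₁ → x ∈ L₂ → x = 1 ∨ x = j := by
    intro x h1 h2
    have hx : x ∈ Subgroup.zpowers j := by rw [← hm]; exact ⟨h1, h2⟩
    obtain ⟨k, rfl⟩ := Subgroup.mem_zpowers_iff.1 hx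
    rcases Int.even_or_odd' k with ⟨m, hk | hk⟩
    · left
      rw [hk, zpow_mul, zpow_two, hj2, one_zpow]
    · right
      rw [hk, zpow_add, zpow_mul, zpow_two, hj2, one_zpow, one_mul, zpow_one]
  obtain ⟨hinv₁, hconj₁, hab₁, x₀, hx₀L, hx₀1, hx₀j⟩ := sl2_sub_facts hF₁ L₁ e₁ j hjL₁ hj1 hj2
  obtain ⟨hinv₂, _, hab₂, _⟩ := sl2_sub_facts hF₂ L₂ e₂ j hjL₂ hj1 hj2
  have hncomm : n * j = j * n := Subgroup.mem_centralizer_singleton_iff.1 hn
  have hnsq : n * n = j := by rw [← pow_two]; exact hn2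
  have hswap₁ : ∀ x ∈ L₁, n * x * n⁻¹ ∈ L₂ := by
    intro x hx
    rw [← hswap]
    exact ⟨x, hx, by simp [MulAut.conj_apply]⟩
  have hswap₂ : ∀ y ∈ L₂, n * y * n⁻¹ ∈ L₁ := by
    intro y hy
    rw [← hswap] at hy
    obtain ⟨x, hx, rfl⟩ := hy
    have h1 : n * ((MulAut.conj n).toMonoidHom x) * n⁻¹ = (n * n) * x * (n * n)⁻¹ := by
      simp only [MulEquiv.coe_toMonoidHom, MulAut.conj_apply]; group
    rw [h1, hnsq, hjinv, ← hc x hx j hjL₂, mul_assoc, hj2, mul_one]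
    exact hx
  have hnnot : n ∉ L₁ ⊔ L₂ := by
    intro hnM
    obtain ⟨x, hx, y, hy, hxy⟩ := mem_sup_of_comm hc hnM
    -- for l ∈ L₁, n l n⁻¹ = x l x⁻¹ ∈ L₁ ∩ L₂
    have key : ∀ l ∈ L₁, l = 1 ∨ l = j := by
      intro l hl
      have h1 : n * l * n⁻¹ = x * l * x⁻¹ := by
        rw [hxy]
        have := hc l hl y hy
        calc x * y * l * (x * y)⁻¹ = x * (y * l) * y⁻¹ * x⁻¹ := by group
          _ = x * (l * y) * y⁻¹ * x⁻¹ := by rw [this]
          _ = x * l * x⁻¹ := by group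
      have h2 : x * l * x⁻¹ ∈ L₂ := by rw [← h1]; exact hswap₁ l hl
      have h3 : x * l * x⁻¹ ∈ L₁ := L₁.mul_mem (L₁.mul_mem hx hl) (L₁.inv_mem hx)
      rcases hinter _ h3 h2 with h | h
      · left
        have : l = x⁻¹ * (x * l * x⁻¹) * x := by group
        rw [this, h]; group
      · right
        have : l = x⁻¹ * (x * l * x⁻¹) * x := by group
        rw [this, h, mul_assoc, ← hc x hx j hjL₂, ← mul_assoc, inv_mul_cancel, one_mul]
    rcases key x₀ hx₀L with h | h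
    · exact hx₀1 h
    · exact hx₀j h
  have hninvnot : n⁻¹ ∉ L₁ ⊔ L₂ := fun h => hnnot (by simpa using (L₁ ⊔ L₂).inv_mem h)
  refine
    { j_ne := hj1
      j_sq := hj2
      comm := hc
      inter := hinter
      j_mem₁ := hjL₁
      j_mem₂ := hjL₂
      le_cent := fun x hx => Subgroup.mem_centralizer_singleton_iff.1 (hle hx)
      cover := ?_
      n_comm := hncomm
      n_sq := hnsq
      n_not := hnnot
      swap₁ := hswap₁
      swap₂ := hswap₂
      inv₁ := hinv₁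
      inv₂ := hinv₂
      conj₁ := hconj₁
      ab₁ := hab₁
      ab₂ := hab₂ }
  intro g hg
  by_cases hgM : g ∈ L₁ ⊔ L₂
  · exact Or.inl hgM
  right
  have hgC : g ∈ Subgroup.centralizer ({j} : Set G) := Subgroup.mem_centralizer_singleton_iff.2 hg
  have hidx : ((L₁ ⊔ L₂).subgroupOf (Subgroup.centralizer ({j} : Set G))).index = 2 := hi
  have := Subgroup.mul_mem_iff_of_index_two hidx
    (a := (⟨g, hgC⟩ : Subgroup.centralizer ({j} : Set G)))
    (b := (⟨n⁻¹, Subgroup.inv_mem _ hn⟩ : Subgroup.centralizer ({j} : Set G)))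
  simp only [Subgroup.mem_subgroupOf, Subgroup.coe_mul] at this
  rw [this]
  exact ⟨fun h => absurd h hgM, fun h => absurd h hninvnot⟩

end Cfsg.Agent.Helper18.Sw
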