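import Mathlib
import Cfsg.Agent.S3360
import Cfsg.Agent.Helper24.Gam
import Cfsg.Agent.Helper25.ThDefs

set_option autoImplicit false

/-! # S3797 piece GL1: semilinear data from Huppert's theorem (S3360) -/

namespace Cfsg.Agent.Helper18.Th

open Subgroup

theorem semilinear_core {G W F : Type*} [Group G] [Finite G] [AddCommGroup W] [Field F] [Fintype F]
    (n : ℕ) (hF : Fintype.card F = 2 ^ n) (e : W ≃+ F) (ρ : G → W → W)
    (hone : ∀ v, ρ 1 v = v) (hmul : ∀ g h v, ρ (g * h) v = ρ g (ρ h v)) (hzero : ∀ g, ρ g 0 = 0)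
    (hsemi : ∀ g : G, ∃ (a : F) (σ : F ≃+* F), ∀ v : W, e (ρ g v) = a * σ (e v)) :
    ∃ N : Subgroup G, N.Normal ∧ (∀ x, (∀ v, ρ x v = v) → x ∈ N) ∧
      (∀ x ∈ N, ∀ v : W, v ≠ 0 → ρ x v = v → ∀ w, ρ x w = w) ∧
      (∃ g0 ∈ N, ∀ x ∈ N, ∃ k : ℕ, ∀ w, ρ (x * (g0 ^ k)⁻¹) w = w) ∧
      (∀ x ∈ N, ∀ w, ρ (x ^ (2 ^ n - 1)) w = w) ∧ N.index ∣ n := by
  classical
  choose a σ hs using hsemi
  have hinj : ∀ g v, ρ g v = 0 → v = 0 := by
    intro g v h
    have := hmul g⁻¹ g v
    rw [inv_mul_cancel, hone, h, hzero] at this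
    exact this
  have ha1 : ∀ g, a g = e (ρ g (e.symm 1)) := by
    intro g; rw [hs g, e.apply_symm_apply, map_one, mul_one]
  have ha0 : ∀ g, a g ≠ 0 := by
    intro g h0
    have h1 : e (ρ g (e.symm 1)) = 0 := by rw [← ha1, h0]
    have h2 : ρ g (e.symm 1) = 0 := (map_eq_zero_iff e e.injective).mp h1
    have h3 : e.symm 1 = 0 := hinj g _ h2
    have : (1 : F) = 0 := by rw [← e.apply_symm_apply 1, h3, map_zero]
    exact one_ne_zero this
  have hamul : ∀ g h, a (g * h) = a g * σ g (a h) := by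
    intro g h
    rw [ha1 (g * h), hmul, hs g, ← ha1 h]
  have hσmul : ∀ g h x, σ (g * h) x = σ g (σ h x) := by
    intro g h x
    have hx : e (e.symm x) = x := e.apply_symm_apply x
    have h1 : a (g * h) * σ (g * h) x = a (g * h) * σ g (σ h x) := by
      calc a (g * h) * σ (g * h) x = e (ρ (g * h) (e.symm x)) := by rw [hs, hx]
        _ = e (ρ g (ρ h (e.symm x))) := by rw [hmul]
        _ = a g * σ g (a h * σ h x) := by rw [hs g, hs h, hx]
        _ = a (g * h) * σ g (σ h x) := by rw [map_mul, hamul, mul_assoc]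
    exact mul_left_cancel₀ (ha0 (g * h)) h1
  let s : G →* RingAut F := MonoidHom.mk' σ (fun g h => by
    apply RingEquiv.ext
    intro x
    exact hσmul g h x)
  have hsapp : ∀ g, s g = σ g := fun g => rfl
  have hN : ∀ g, g ∈ s.ker ↔ ∀ y, σ g y = y := by
    intro g
    rw [MonoidHom.mem_ker, hsapp]
    constructor
    · intro h y; rw [h]; rfl
    · intro h; apply RingEquiv.ext; intro y; rw [h y]; rfl
  have key : ∀ x ∈ s.ker, a x = 1 → ∀ v, ρ x v = v := by
    intro x hx hax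
    intro v
    apply e.injective
    rw [hs x v, hax, one_mul, (hN x).mp hx]
  have key2 : ∀ x, (∀ v, ρ x v = v) → a x = 1 ∧ x ∈ s.ker := by
    intro x hx
    have h1 : a x = 1 := by rw [ha1, hx, e.apply_symm_apply]
    refine ⟨h1, ?_⟩
    rw [hN]
    intro y
    have := hs x (e.symm y)
    rw [hx, e.apply_symm_apply, h1, one_mul] at this
    exact this.symm
  refine ⟨s.ker, MonoidHom.normal_ker s, fun x hx => (key2 x hx).2, ?_, ?_, ?_, ?_⟩
  · intro x hx v hv hfix
    apply key x hx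
    have h1 := hs x v
    rw [hfix, (hN x).mp hx] at h1
    have hev : e v ≠ 0 := fun h => hv ((map_eq_zero_iff e e.injective).mp h)
    have h2 : 1 * e v = a x * e v := by rw [one_mul]; exact h1
    exact (mul_right_cancel₀ hev h2).symm
  · -- cyclic
    let α : ↥s.ker →* Fˣ := MonoidHom.mk' (fun x => Units.mk0 (a x.1) (ha0 x.1)) (fun x y => by
      apply Units.ext
      simp only [Units.val_mk0, Units.val_mul, Subgroup.coe_mul]
      rw [hamul, (hN x.1).mp x.2])
    have hαapp : ∀ x : ↥s.ker, ((α x : Fˣ) : F) = a x.1 := fun x => rfl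
    obtain ⟨⟨u, g0, hg0⟩, hu⟩ := IsCyclic.exists_generator (α := α.range)
    refine ⟨g0.1, g0.2, ?_⟩
    intro x hx
    have h1 := hu ⟨α ⟨x, hx⟩, ⟨_, rfl⟩⟩
    rw [← mem_powers_iff_mem_zpowers, Submonoid.mem_powers_iff] at h1
    obtain ⟨k, hk⟩ := h1
    have hk' : u ^ k = α ⟨x, hx⟩ := by
      have := congrArg Subtype.val hk
      simpa using this
    refine ⟨k, ?_⟩
    have hmem : x * (g0.1 ^ k)⁻¹ ∈ s.ker := mul_mem hx (inv_mem (pow_mem g0.2 k))
    apply key _ hmem
    have h2 : α (⟨x, hx⟩ * (g0 ^ k)⁻¹) = 1 := by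
      rw [map_mul, map_inv, map_pow, hg0, hk', mul_inv_cancel]
    have h3 := hαapp (⟨x, hx⟩ * (g0 ^ k)⁻¹)
    rw [h2] at h3
    simpa using h3.symm
  · intro x hx
    have hmem : x ^ (2 ^ n - 1) ∈ s.ker := pow_mem hx _
    apply key _ hmem
    have h4 : ∀ m : ℕ, a (x ^ m) = a x ^ m := by
      intro m
      induction m with
      | zero =>
        rw [pow_zero, pow_zero]
        exact (key2 1 hone).1
      | succ m ih =>
        rw [pow_succ, hamul, (hN _).mp (pow_mem hx m), ih, pow_succ]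
    rw [h4, ← hF]
    exact FiniteField.pow_card_sub_one_eq_one (a x) (ha0 x)
  · rw [Subgroup.index_ker]
    have hF' : Nat.card F = 2 ^ n := by rw [Nat.card_eq_fintype_card, hF]
    have : Fact (Nat.Prime 2) := ⟨Nat.prime_two⟩
    have h5 : Nat.card (F ≃+* F) = n := Cfsg.Agent.Helper24.Gam.card_ringAut hF'
    have h6 := Subgroup.card_subgroup_dvd_card s.range
    rw [h5] at h6
    exact h6

theorem semilinear_abstract {G : Type*} [Group G] [Finite G] (hsol : Group.IsSolvable G) {W : Type*}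
    [AddCommGroup W] [Module (ZMod 2) W] [Finite W] (n : ℕ) (hn : 1 ≤ n) (hW : Nat.card W = 2 ^ n)
    (ρ : G →* (W ≃ₗ[ZMod 2] W)) (htrans : ∀ v w : W, v ≠ 0 → w ≠ 0 → ∃ g, ρ g v = w) :
    ∃ N : Subgroup G, N.Normal ∧ (∀ x, (∀ v, ρ x v = v) → x ∈ N) ∧
      (∀ x ∈ N, ∀ v : W, v ≠ 0 → ρ x v = v → ∀ w, ρ x w = w) ∧
      (∃ g0 ∈ N, ∀ x ∈ N, ∃ k : ℕ, ∀ w, ρ (x * (g0 ^ k)⁻¹) w = w) ∧
      (∀ x ∈ N, ∀ w, ρ (x ^ (2 ^ n - 1)) w = w) ∧ N.index ∣ n := by
  classical
  have : Fact (Nat.Prime 2) := ⟨Nat.prime_two⟩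
  haveI : Nontrivial W := by
    rw [← Finite.one_lt_card_iff_nontrivial, hW]
    exact Nat.one_lt_two_pow (by omega)
  let ρ' := QuotientGroup.kerLift ρ
  have hsolq : Group.IsSolvable (G ⧸ ρ.ker) := by
    haveI := hsol
    infer_instance
  have hinj : Function.Injective ρ' := QuotientGroup.kerLift_injective ρ
  have htr' : ∀ v w : W, v ≠ 0 → w ≠ 0 → ∃ g : G ⧸ ρ.ker, ρ' g v = w := by
    intro v w hv hw
    obtain ⟨g, hg⟩ := htrans v w hv hw
    exact ⟨QuotientGroup.mk g, hg⟩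
  rcases Cfsg.Agent.S3360.result 2 hsolq ρ' hinj htr' with ⟨F, iF, iFt, e, hsemi⟩ | hbad
  · have hF : Fintype.card F = 2 ^ n := by
      rw [← hW, ← Nat.card_eq_fintype_card]
      exact (Nat.card_congr e.toEquiv).symm
    refine semilinear_core n hF e (fun g v => ρ g v) (fun v => by simp)
      (fun g h v => by simp) (fun g => by simp) ?_
    intro g
    exact hsemi (QuotientGroup.mk g)
  · exfalso
    rw [hW] at hbad
    have h2 : 2 ∣ 2 ^ n := dvd_pow_self 2 (by omega)
    simp only [Set.mem_insert_iff, Set.mem_singleton_iff] at hbad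
    rcases hbad with h | h | h | h | h | h <;> (rw [h] at h2; omega)

theorem semilinear_data {H : Type*} [Group H] [Finite H] (V : Subgroup H) [V.Normal] (n : ℕ)
    (hcard : Nat.card V = 2 ^ n) (hn : 2 ≤ n) (hV2 : ∀ v ∈ V, v ^ 2 = 1)
    (L : Subgroup H) (hsol : Group.IsSolvable L)
    (htrans : ∀ v ∈ V, ∀ w ∈ V, v ≠ 1 → w ≠ 1 → ∃ g ∈ L, g * v * g⁻¹ = w) :
    Cfsg.Agent.Helper25.Th.SemilinearData V n L := by
  classical
  have hsq : ∀ a : ↥V, a * a = 1 := by
    intro a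
    apply Subtype.ext
    have := hV2 a.1 a.2
    rw [pow_two] at this
    exact this
  have hVcomm : ∀ a b : ↥V, a * b = b * a := by
    intro a b
    have h1 := hsq (a * b)
    calc a * b = a * (a * b * (a * b)) * b := by rw [h1, mul_one]
      _ = (a * a) * (b * a) * (b * b) := by group
      _ = b * a := by rw [hsq a, hsq b, one_mul, mul_one]
  letI instC : CommGroup ↥V := { (inferInstance : Group ↥V) with mul_comm := hVcomm }
  have h2 : ∀ w : Additive ↥V, 2 • w = 0 := by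
    intro w
    rw [two_nsmul]
    exact congrArg Additive.ofMul (hsq (Additive.toMul w))
  letI instM : Module (ZMod 2) (Additive ↥V) := AddCommGroup.zmodModule h2
  let toL : (Additive ↥V ≃+ Additive ↥V) → (Additive ↥V ≃ₗ[ZMod 2] Additive ↥V) := fun f =>
    { toFun := f
      invFun := f.symm
      map_add' := f.map_add
      map_smul' := fun c x => ZMod.map_smul f c x
      left_inv := f.left_inv
      right_inv := f.right_inv }
  let ρ : ↥L →* (Additive ↥V ≃ₗ[ZMod 2] Additive ↥V) := MonoidHom.mk'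
    (fun g => toL (MulEquiv.toAdditive (MulAut.conjNormal (g : H)))) (by
      intro g h
      apply LinearEquiv.ext
      intro v
      apply congrArg Additive.ofMul
      apply Subtype.ext
      simp [toL])
  have hρ : ∀ (g : ↥L) (v : Additive ↥V),
      ((Additive.toMul (ρ g v) : ↥V) : H) = g.1 * (Additive.toMul v : ↥V).1 * g.1⁻¹ := fun g v => rfl
  have hfix : ∀ x : ↥L, (∀ v : Additive ↥V, ρ x v = v) ↔ x.1 ∈ centralizer (V : Set H) := by
    intro x
    rw [mem_centralizer_iff]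
    constructor
    · intro h v hv
      have h1 := hρ x (Additive.ofMul ⟨v, hv⟩)
      rw [h (Additive.ofMul ⟨v, hv⟩)] at h1
      change v = x.1 * v * x.1⁻¹ at h1
      calc v * x.1 = (x.1 * v * x.1⁻¹) * x.1 := by rw [← h1]
        _ = x.1 * v := by group
    · intro h v
      apply congrArg Additive.ofMul
      apply Subtype.ext
      change ((Additive.toMul (ρ x v) : ↥V) : H) = _
      rw [hρ x v, ← h _ (Additive.toMul v : ↥V).2]
      simp
      rfl
  have hW : Nat.card (Additive ↥V) = 2 ^ n := hcard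
  have htr : ∀ v w : Additive ↥V, v ≠ 0 → w ≠ 0 → ∃ g : ↥L, ρ g v = w := by
    intro v w hv hw
    have hv1 : (Additive.toMul v : ↥V).1 ≠ 1 := by
      intro h
      apply hv
      have : (Additive.toMul v : ↥V) = 1 := Subtype.ext h
      exact congrArg Additive.ofMul this
    have hw1 : (Additive.toMul w : ↥V).1 ≠ 1 := by
      intro h
      apply hw
      have : (Additive.toMul w : ↥V) = 1 := Subtype.ext h
      exact congrArg Additive.ofMul this
    obtain ⟨g, hgL, hg⟩ := htrans _ (Additive.toMul v : ↥V).2 _ (Additive.toMul w : ↥V).2 hv1 hw1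
    refine ⟨⟨g, hgL⟩, ?_⟩
    apply congrArg Additive.ofMul
    apply Subtype.ext
    change ((Additive.toMul (ρ ⟨g, hgL⟩ v) : ↥V) : H) = _
    rw [hρ]
    exact hg
  haveI : Finite (Additive ↥V) := inferInstanceAs (Finite ↥V)
  obtain ⟨N, hNn, hN1, hN2, ⟨g0, hg0N, hg0⟩, hN4, hN5⟩ :=
    semilinear_abstract hsol n (by omega) hW ρ htr
  refine ⟨N.map L.subtype, map_subtype_le N, ?_, ?_, ?_, ?_, ?_, ?_⟩
  · rintro g hg _ ⟨x, hx, rfl⟩
    refine ⟨(⟨g, hg⟩ : ↥L) * x * (⟨g, hg⟩ : ↥L)⁻¹, hNn.conj_mem x hx _, ?_⟩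
    simp
  · rintro x ⟨hxL, hxC⟩
    refine ⟨⟨x, hxL⟩, hN1 _ ((hfix ⟨x, hxL⟩).mpr hxC), rfl⟩
  · rintro _ ⟨x, hx, rfl⟩ v hv hv1 hcomm
    apply (hfix x).mp
    apply hN2 x hx (Additive.ofMul ⟨v, hv⟩)
    · intro h
      apply hv1
      have : (⟨v, hv⟩ : ↥V) = 1 := congrArg Additive.toMul h
      exact congrArg Subtype.val this
    · apply congrArg Additive.ofMul
      apply Subtype.ext
      change ((Additive.toMul (ρ x (Additive.ofMul ⟨v, hv⟩)) : ↥V) : H) = _
      rw [hρ]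
      change (L.subtype x) * v * (L.subtype x)⁻¹ = v
      rw [hcomm]
      group
  · refine ⟨g0.1, ⟨g0, hg0N, rfl⟩, ?_⟩
    rintro _ ⟨x, hx, rfl⟩
    obtain ⟨k, hk⟩ := hg0 x hx
    refine ⟨k, ?_⟩
    have := (hfix _).mp hk
    simpa using this
  · rintro _ ⟨x, hx, rfl⟩
    have := (hfix _).mp (hN4 x hx)
    simpa using this
  · have : (N.map L.subtype).relIndex L = N.index := by
      unfold Subgroup.relIndex Subgroup.subgroupOf
      rw [Subgroup.comap_map_eq_self_of_injective (Subgroup.subtype_injective L)]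
    rw [this]
    exact hN5

end Cfsg.Agent.Helper18.Th
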