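import Mathlib
import Cfsg.Agent.Helper29.SylMaxDefs
import Cfsg.Agent.Helper13.SylMaxAMB
import Cfsg.Agent.Helper13.SylMaxO2
import Cfsg.Agent.Helper3.Syl3AltA

/-!
# S2930 piece TRIT: a transitive 3-group on `3^a` points with invariant thirds and small fibres
lies in two maximal subgroups of the alternating group
-/

set_option autoImplicit false

namespace Cfsg.Agent.Helper18.ThreeMin

open MulAction Equiv Cfsg.Agent.Helper29.SylMax
open scoped Pointwise

universe v

variable {α : Type v} [Fintype α] [DecidableEq α]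

/-- the 3-cycle `a → c → b → a` -/
def cyc (a b c : α) : Perm α := swap a b * swap a c

omit [Fintype α] in
theorem cyc_apply_left {a b c : α} (ac : a ≠ c) (bc : b ≠ c) : cyc a b c a = c := by
  unfold cyc
  rw [Perm.mul_apply, swap_apply_left, swap_apply_of_ne_of_ne ac.symm bc.symm]

omit [Fintype α] in
theorem cyc_fix {a b c z : α} (za : z ≠ a) (zb : z ≠ b) (zc : z ≠ c) : cyc a b c z = z := by
  unfold cyc
  rw [Perm.mul_apply, swap_apply_of_ne_of_ne za zc, swap_apply_of_ne_of_ne za zb]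

theorem cyc_three {a b c : α} (ab : a ≠ b) (ac : a ≠ c) (bc : b ≠ c) :
    (cyc a b c).IsThreeCycle :=
  Equiv.Perm.isThreeCycle_swap_mul_swap_same ab ac bc

theorem isThreeCycle_conj' {τ : Perm α} (h : Perm α) (hτ : τ.IsThreeCycle) :
    (h * τ * h⁻¹).IsThreeCycle := by
  unfold Perm.IsThreeCycle
  rw [Perm.cycleType_conj]
  exact hτ

/-- a subgroup of `Alt(α)`, transitive on `3^a = 3 m` points, containing the pointwise stabilizer
of the complement of an `m`-set `T` and a 3-cycle moving a point of `T` out of `T`, is everything -/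
theorem eq_top_of_big (a m : ℕ) (hα : Nat.card α = 3 ^ a) (hm : 3 * m = Nat.card α) (hm3 : 3 ≤ m)
    (M : Subgroup (alternatingGroup α))
    (htrans : ∀ x y : α, ∃ r ∈ M, r • x = y)
    (T : Set α) (hT : T.ncard = m)
    (hF : ∀ k : alternatingGroup α, (∀ z, z ∉ T → k • z = z) → k ∈ M)
    (v u : α) (hv : v ∈ T) (hu : u ∉ T)
    (τ : alternatingGroup α) (hτM : τ ∈ M) (hτ3 : (τ : Perm α).IsThreeCycle) (hτv : τ • v = u) :
    M = ⊤ := by
  classical
  set M' : Subgroup (Perm α) := M.map (alternatingGroup α).subtype with hM'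
  have hmemM' : ∀ k : alternatingGroup α, k ∈ M → (k : Perm α) ∈ M' :=
    fun k hk => Subgroup.mem_map_of_mem _ hk
  have hM'mem : ∀ π : Perm α, π ∈ M' → ∃ k ∈ M, (k : Perm α) = π := by
    intro π hπ
    obtain ⟨k, hk, rfl⟩ := Subgroup.mem_map.1 hπ
    exact ⟨k, hk, rfl⟩
  set S : Set (Perm α) := {π | π.IsThreeCycle ∧ π ∈ M'} with hS
  set N : Subgroup (Perm α) := Subgroup.closure S with hN
  have hNM : N ≤ M' := (Subgroup.closure_le _).2 (fun π hπ => hπ.2)
  have hnorm : ∀ h k, h ∈ N → k ∈ M' → k * h * k⁻¹ ∈ N := by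
    intro h k hh hk
    induction hh using Subgroup.closure_induction with
    | mem π hπ =>
      exact Subgroup.subset_closure
        ⟨isThreeCycle_conj' k hπ.1, mul_mem (mul_mem hk hπ.2) (inv_mem hk)⟩
    | one => simp
    | mul x y _ _ hx hy =>
      have : k * (x * y) * k⁻¹ = (k * x * k⁻¹) * (k * y * k⁻¹) := by group
      rw [this]; exact mul_mem hx hy
    | inv x _ hx =>
      have : k * x⁻¹ * k⁻¹ = (k * x * k⁻¹)⁻¹ := by group
      rw [this]; exact inv_mem hx
  have hnormal : (N.subgroupOf M').Normal := (Subgroup.normal_subgroupOf_iff hNM).2 hnorm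
  have hpre : IsPretransitive M' α := ⟨fun x y => by
    obtain ⟨r, hr, hrx⟩ := htrans x y
    exact ⟨⟨(r : Perm α), hmemM' r hr⟩, hrx⟩⟩
  have hblock : IsBlock M' (orbit (N.subgroupOf M') v) := IsBlock.orbit_of_normal v
  have hdvd := hblock.ncard_dvd_card ⟨v, mem_orbit_self v⟩
  have horb : ∀ z, z ∈ orbit (N.subgroupOf M') v ↔ ∃ k ∈ N, k v = z := by
    intro z
    constructor
    · rintro ⟨k, rfl⟩
      exact ⟨((k : M') : Perm α), Subgroup.mem_subgroupOf.1 k.2, rfl⟩
    · rintro ⟨k, hk, rfl⟩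
      exact ⟨⟨⟨k, hNM hk⟩, Subgroup.mem_subgroupOf.2 hk⟩, rfl⟩
  -- `τ ∈ S`
  have hτS : (τ : Perm α) ∈ S := ⟨hτ3, hmemM' τ hτM⟩
  -- the orbit contains `T` and `u`
  have hTsub : insert u T ⊆ orbit (N.subgroupOf M') v := by
    intro z hz
    rw [horb]
    rcases hz with rfl | hz
    · exact ⟨(τ : Perm α), Subgroup.subset_closure hτS, hτv⟩
    · by_cases hzv : z = v
      · exact ⟨1, one_mem _, by rw [hzv]; rfl⟩
      · obtain ⟨z', hz'T, hz'⟩ : ∃ z' ∈ T, z' ∉ ({v, z} : Set α) := by
          apply Set.exists_mem_notMem_of_ncard_lt_ncard _ (Set.toFinite _)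
          have h2 : ({v, z} : Set α).ncard ≤ 2 := by
            have := Set.ncard_insert_le v ({z} : Set α)
            rw [Set.ncard_singleton] at this
            exact this
          omega
        have hz'v : z' ≠ v := fun h => hz' (by rw [h]; simp)
        have hz'z : z' ≠ z := fun h => hz' (by rw [h]; simp)
        have h3 := cyc_three (a := v) (b := z') (c := z) hz'v.symm (Ne.symm hzv) hz'z
        refine ⟨cyc v z' z, Subgroup.subset_closure ⟨h3, ?_⟩, cyc_apply_left (Ne.symm hzv) hz'z⟩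
        have hk : (⟨cyc v z' z, h3.mem_alternatingGroup⟩ : alternatingGroup α) ∈ M := by
          apply hF
          intro w hw
          show cyc v z' z w = w
          apply cyc_fix
          · exact fun h => hw (h ▸ hv)
          · exact fun h => hw (h ▸ hz'T)
          · exact fun h => hw (h ▸ hz)
        exact hmemM' _ hk
  have hcard1 : m + 1 ≤ (orbit (N.subgroupOf M') v).ncard := by
    have := Set.ncard_le_ncard hTsub (Set.toFinite _)
    rw [Set.ncard_insert_of_notMem hu (Set.toFinite _), hT] at this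
    exact this
  -- the orbit is everything
  have hfull : (orbit (N.subgroupOf M') v).ncard = Nat.card α := by
    rw [hα] at hdvd ⊢
    obtain ⟨j, hj, hjeq⟩ := (Nat.dvd_prime_pow Nat.prime_three).1 hdvd
    rw [hjeq] at hcard1 ⊢
    obtain ⟨a', rfl⟩ : ∃ a', a = a' + 1 := by
      cases a with
      | zero => rw [hα] at hm; omega
      | succ a' => exact ⟨a', rfl⟩
    have hm' : m = 3 ^ a' := by
      rw [hα, pow_succ] at hm
      omega
    by_cases hja : j = a' + 1
    · rw [hja]
    · exfalso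
      have hj' : j ≤ a' := by omega
      have := Nat.pow_le_pow_right (by norm_num : 0 < 3) hj'
      omega
  have huniv : orbit (N.subgroupOf M') v = Set.univ := by
    apply Set.eq_of_subset_of_ncard_le (Set.subset_univ _) _ (Set.toFinite _)
    rw [Set.ncard_univ, hfull]
  have hO : ∀ y : α, y ∈ (Finset.univ : Finset α) ↔ ∃ k ∈ Subgroup.closure S, k v = y := by
    intro y
    constructor
    · intro _
      have : y ∈ orbit (N.subgroupOf M') v := by rw [huniv]; trivial
      exact (horb y).1 this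
    · intro _
      exact Finset.mem_univ y
  have hmove : ∃ s ∈ S, s v ≠ v := by
    refine ⟨(τ : Perm α), hτS, ?_⟩
    intro h
    have : τ • v = v := h
    rw [hτv] at this
    exact hu (this ▸ hv)
  have hle := Cfsg.Agent.Helper3.Syl3Alt.alt_le_closure S (fun s hs => hs.1) v Finset.univ hO hmove
  rw [eq_top_iff]
  intro k _
  have hp : ∀ x : α, ((k : Perm α) x ∈ (Finset.univ : Finset α)) ↔ x ∈ (Finset.univ : Finset α) :=
    fun x => by simp
  have hp2 : ∀ x : α, (k : Perm α) x ≠ x → x ∈ (Finset.univ : Finset α) := fun x _ => Finset.mem_univ x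
  have h1 : Perm.ofSubtype (Perm.subtypePerm (k : Perm α) hp) = (k : Perm α) :=
    Perm.ofSubtype_subtypePerm hp hp2
  have h2 : Perm.subtypePerm (k : Perm α) hp ∈ alternatingGroup ↥(Finset.univ : Finset α) := by
    rw [Perm.mem_alternatingGroup, ← Perm.sign_ofSubtype, h1]
    exact Perm.mem_alternatingGroup.1 k.2
  have h3 : (k : Perm α) ∈ N := by
    apply hle
    exact ⟨_, h2, h1⟩
  obtain ⟨k', hk', hkk⟩ := hM'mem _ (hNM h3)
  have : k' = k := Subtype.ext hkk
  rw [← this]
  exact hk'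

theorem twoMax_of_thirds {ι κ : Type*} (a : ℕ) (hα : Nat.card α = 3 ^ a)
    (R : Subgroup (alternatingGroup α))
    (htrans : ∀ x y : α, ∃ r ∈ R, r • x = y)
    (c : α → κ) (hc : Pres R c) (f : α → ι) (hf : Pres R f)
    (href : ∀ x y : α, f x = f y → c x = c y)
    (m : ℕ) (hm : 3 * m = Nat.card α) (hthird : ∀ x : α, {y : α | c y = c x}.ncard = m)
    (t : ℕ) (ht : 2 ≤ t) (htm : t + 2 ≤ m) (hfib : ∀ x : α, {y : α | f y = f x}.ncard = t) :
    TwoMax R := by
  classical
  have hn12 : 12 ≤ Nat.card α := by omega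
  have hA : Amb (alternatingGroup α) α := Cfsg.Agent.Helper13.SylMax.amb_alt (by omega)
  have hne : Nonempty α := by
    rw [← Finite.card_pos_iff]
    omega
  obtain ⟨x⟩ := hne
  set T₁ : Set α := {z | c z = c x} with hT₁
  have hT₁card : T₁.ncard = m := hthird x
  obtain ⟨y, hy⟩ : ∃ y, c y ≠ c x := by
    by_contra hcon
    push Not at hcon
    have : T₁ = Set.univ := Set.eq_univ_of_forall hcon
    rw [this, Set.ncard_univ] at hT₁card
    omega
  set C : Set α := {z | f z = f x} with hC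
  set B : Set α := {z | f z = f y} with hB
  have hCcard : C.ncard = t := hfib x
  have hBcard : B.ncard = t := hfib y
  have hxC : x ∈ C := rfl
  have hCT : C ⊆ T₁ := fun z hz => href z x hz
  have hBT : ∀ z ∈ B, z ∉ T₁ := by
    intro z hz hzT
    apply hy
    rw [← href z y hz]
    exact hzT
  have hdisj : ∀ z ∈ B, z ∉ C := fun z hz hzC => hBT z hz (hCT hzC)
  obtain ⟨σ, hσalt, hσC, hσB, hσO⟩ := Cfsg.Agent.Helper13.SylMax.exists_even_exchange C B hdisj
    (by rw [hBcard, hCcard]) (by rw [hCcard]; exact ht)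
  set g : alternatingGroup α := ⟨σ, hσalt⟩ with hg
  have hgs : ∀ z : α, g • z = σ z := fun z => rfl
  have hfσ : ∀ z : α, f (σ z) = if f z = f x then f y else if f z = f y then f x else f z := by
    intro z
    by_cases h1 : f z = f x
    · rw [if_pos h1]; exact hσC z h1
    · rw [if_neg h1]
      by_cases h2 : f z = f y
      · rw [if_pos h2]; exact hσB z h2
      · rw [if_neg h2, hσO z h1 h2]
  have hgf : ∀ p q : α, f p = f q → f (g • p) = f (g • q) := by
    intro p q hpq
    rw [hgs, hgs, hfσ, hfσ, hpq]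
  have hfxy : f x ≠ f y := fun h => hy (href y x h.symm)
  -- two points in a fibre of `f`
  obtain ⟨x₁, x₂, hx₁, hx₂, hx₁₂⟩ : ∃ x₁ x₂, x₁ ∈ C ∧ x₂ ∈ C ∧ x₁ ≠ x₂ := by
    apply (Set.one_lt_ncard_iff (Set.toFinite _)).1
    omega
  -- first maximal subgroup
  have hne1 : Subgroup.closure ((R : Set (alternatingGroup α)) ∪ {g}) ≠ ⊤ := by
    apply ne_top_of_pres hA _ f
    · rintro k (hk | hk)
      · exact hf k hk
      · rw [Set.mem_singleton_iff] at hk
        subst hk
        exact hgf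
    · exact ⟨x₁, x₂, hx₁₂, hx₁.trans hx₂.symm⟩
    · exact ⟨x, y, hfxy⟩
  obtain ⟨M₁, hM₁, hle1⟩ := exists_coatom_ge hA _ hne1
  have hRM₁ : R ≤ M₁ := fun r hr => hle1 (Subgroup.subset_closure (Or.inl hr))
  have hgM₁ : g ∈ M₁ := hle1 (Subgroup.subset_closure (Or.inr rfl))
  -- second maximal subgroup
  set F₁ : Set (alternatingGroup α) := {k | ∀ z, z ∉ T₁ → k • z = z} with hF₁
  have hkc : ∀ k ∈ F₁, ∀ z : α, c (k • z) = c z := by
    intro k hk z
    by_cases hz : z ∈ T₁
    · have hkz : k • z ∈ T₁ := by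
        by_contra hkz
        have h1 := hk (k • z) hkz
        have h2 : k • z = z := MulAction.injective k h1
        exact hkz (h2.symm ▸ hz)
      exact hkz.trans hz.symm
    · rw [hk z hz]
  have hne2 : Subgroup.closure ((R : Set (alternatingGroup α)) ∪ F₁) ≠ ⊤ := by
    apply ne_top_of_pres hA _ c
    · rintro k (hk | hk)
      · exact hc k hk
      · intro p q hpq
        rw [hkc k hk, hkc k hk, hpq]
    · exact ⟨x₁, x₂, hx₁₂, (hCT hx₁).trans (hCT hx₂).symm⟩
    · exact ⟨y, x, hy⟩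
  obtain ⟨M₂, hM₂, hle2⟩ := exists_coatom_ge hA _ hne2
  have hRM₂ : R ≤ M₂ := fun r hr => hle2 (Subgroup.subset_closure (Or.inl hr))
  have hFM₂ : ∀ k ∈ F₁, k ∈ M₂ := fun k hk => hle2 (Subgroup.subset_closure (Or.inr hk))
  by_cases hM : M₁ = M₂
  · exfalso
    subst hM
    apply hM₁.1
    -- two points of `T₁ \ C`
    obtain ⟨v, w, hvTC, hwTC, hvw⟩ : ∃ v w, v ∈ T₁ \ C ∧ w ∈ T₁ \ C ∧ v ≠ w := by
      apply (Set.one_lt_ncard_iff (Set.toFinite _)).1
      rw [Set.ncard_sdiff hCT (Set.toFinite _), hT₁card, hCcard]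
      omega
    have hvT : v ∈ T₁ := hvTC.1
    have hwT : w ∈ T₁ := hwTC.1
    have hvx : v ≠ x := fun h => hvTC.2 (h ▸ hxC)
    have hwx : w ≠ x := fun h => hwTC.2 (h ▸ hxC)
    have hσv : σ v = v := hσO v hvTC.2 (fun h => hBT v h hvT)
    have hσinv : σ⁻¹ v = v := by
      rw [Perm.inv_eq_iff_eq]
      exact hσv.symm
    have hρ3 := cyc_three (a := v) (b := w) (c := x) hvw hvx hwx
    set ρ : alternatingGroup α := ⟨cyc v w x, hρ3.mem_alternatingGroup⟩ with hρ
    have hρM : ρ ∈ M₁ := by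
      apply hFM₂
      intro z hz
      show cyc v w x z = z
      apply cyc_fix
      · exact fun h => hz (h ▸ hvT)
      · exact fun h => hz (h ▸ hwT)
      · exact fun h => hz (h ▸ hCT hxC)
    refine eq_top_of_big a m hα hm (by omega) M₁ ?_ T₁ hT₁card hFM₂ v (σ x) hvT
      (hBT _ (hσC x hxC)) (g * ρ * g⁻¹) (mul_mem (mul_mem hgM₁ hρM) (inv_mem hgM₁)) ?_ ?_
    · intro p q
      obtain ⟨r, hr, hrp⟩ := htrans p q
      exact ⟨r, hRM₁ hr, hrp⟩
    · show ((g * ρ * g⁻¹ : alternatingGroup α) : Perm α).IsThreeCycle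
      have : ((g * ρ * g⁻¹ : alternatingGroup α) : Perm α) = σ * cyc v w x * σ⁻¹ := rfl
      rw [this]
      exact isThreeCycle_conj' σ hρ3
    · show (σ * cyc v w x * σ⁻¹) v = σ x
      rw [Perm.mul_apply, Perm.mul_apply, hσinv, cyc_apply_left hvx hwx]
  · exact ⟨M₁, M₂, hM, hM₁, hM₂, hRM₁, hRM₂⟩

end Cfsg.Agent.Helper18.ThreeMin
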