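import Cfsg.Prelude.Def_CaseTheorems
import Cfsg.Agent.Helper18.FocalFusion
import Mathlib.GroupTheory.Sylow

/-!
# Groups without subgroups of index two, and transfer into abelian Sylow 2-subgroups
-/

namespace Cfsg.Agent.Helper18

open Subgroup

variable {G : Type*} [Group G]

/-- A finite group without subgroups of index `2` has no nontrivial homomorphism to a `2`-group. -/
theorem hom_trivial_of_no_index_two [Finite G] (hG : ∀ H : Subgroup G, H.index ≠ 2)
    {A : Type*} [Group A] (hA : IsPGroup 2 A) (V : G →* A) (g : G) : V g = 1 := by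
  have hp2 : Fact (Nat.Prime 2) := ⟨Nat.prime_two⟩
  by_contra hg
  have hker : V.ker ≠ ⊤ := by
    intro h
    apply hg
    have : g ∈ V.ker := by rw [h]; trivial
    exact MonoidHom.mem_ker.1 this
  have hQ : IsPGroup 2 (G ⧸ V.ker) :=
    hA.of_injective (QuotientGroup.kerLift V) (QuotientGroup.kerLift_injective V)
  have hnt : Nontrivial (G ⧸ V.ker) := QuotientGroup.nontrivial_iff.2 hker
  obtain ⟨k, hk⟩ := IsPGroup.iff_card.1 hQ
  have hk0 : k ≠ 0 := by
    intro h0
    rw [h0, pow_zero] at hk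
    have := Finite.one_lt_card (α := G ⧸ V.ker)
    omega
  obtain ⟨k', rfl⟩ : ∃ k', k = k' + 1 := ⟨k - 1, by omega⟩
  obtain ⟨K, hK⟩ := Sylow.exists_subgroup_card_pow_prime (G := G ⧸ V.ker) 2 (n := k')
    (by rw [hk]; exact pow_dvd_pow 2 (Nat.le_succ k'))
  have hidx : K.index = 2 := by
    have h1 := K.card_mul_index
    rw [hK, hk, pow_succ] at h1
    exact Nat.eq_of_mul_eq_mul_left (pow_pos (by norm_num) k') h1
  have h2 : (K.comap (QuotientGroup.mk' V.ker)).index = 2 := by
    rw [Subgroup.index_comap_of_surjective _ (QuotientGroup.mk'_surjective _)]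
    exact hidx
  exact hG _ h2

/-- In a commutative group of `2`-rank at most `r`, if a subgroup `R'` contains an elementary abelian
subgroup of order more than `2 ^ r / 4`, then the involutions outside `R'` form (at most) a single
coset: `x * y⁻¹ ∈ R'` for `x, y` of exponent `2` outside `R'`. -/
theorem mul_inv_mem_of_rank {P : Type*} [Group P] [Finite P] [hc : IsMulCommutative P] (r : ℕ)
    (hP : Cfsg.PRankLE 2 r P) (R' B₀ : Subgroup P) (hB₀ : B₀ ≤ R') (hexp : ∀ b ∈ B₀, b ^ 2 = 1)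
    (hcard : 2 ^ r < 4 * Nat.card B₀) (x y : P) (hx : x ^ 2 = 1) (hy : y ^ 2 = 1)
    (hxR : x ∉ R') (hyR : y ∉ R') : x * y⁻¹ ∈ R' := by
  have hp2 : Fact (Nat.Prime 2) := ⟨Nat.prime_two⟩
  have hcomm : ∀ a b : P, a * b = b * a := fun a b => hc.is_comm.comm a b
  -- the subgroup of elements of exponent 2
  let E : Subgroup P :=
    { carrier := {a | a ^ 2 = 1}
      mul_mem' := by
        intro a b ha hb
        have ha' : a ^ 2 = 1 := ha
        have hb' : b ^ 2 = 1 := hb
        show (a * b) ^ 2 = 1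
        rw [(show Commute a b from hcomm a b).mul_pow, ha', hb', one_mul]
      one_mem' := by show (1 : P) ^ 2 = 1; simp
      inv_mem' := by
        intro a ha
        have ha' : a ^ 2 = 1 := ha
        show (a⁻¹) ^ 2 = 1
        rw [inv_pow, ha', inv_one] }
  have hEmem : ∀ a, a ∈ E ↔ a ^ 2 = 1 := fun a => Iff.rfl
  have hEc : IsMulCommutative E := ⟨⟨fun a b => Subtype.ext (hcomm a b)⟩⟩
  have hEcard : Nat.card E ≤ 2 ^ r := hP E hEc (fun a ha => (hEmem a).1 ha)
  have hEp : IsPGroup 2 E := by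
    intro a
    refine ⟨1, ?_⟩
    apply Subtype.ext
    rw [pow_one, Subgroup.coe_pow]
    exact (hEmem a).1 a.2
  obtain ⟨k, hk⟩ := IsPGroup.iff_card.1 hEp
  -- B = E ⊓ R'
  have hB₀le : B₀ ≤ E ⊓ R' := le_inf (fun b hb => (hEmem b).2 (hexp b hb)) hB₀
  have hBcard : Nat.card B₀ ≤ Nat.card (E ⊓ R' : Subgroup P) :=
    Nat.le_of_dvd Nat.card_pos (Subgroup.card_dvd_of_le hB₀le)
  have hidx := ((E ⊓ R').subgroupOf E).card_mul_index
  have hcardsub : Nat.card ((E ⊓ R').subgroupOf E) = Nat.card (E ⊓ R' : Subgroup P) :=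
    Nat.card_congr (Subgroup.subgroupOfEquivOfLe inf_le_left).toEquiv
  rw [hcardsub] at hidx
  have hdvd : ((E ⊓ R').subgroupOf E).index ∣ 2 ^ k := by
    rw [← hk]; exact Subgroup.index_dvd_card _
  obtain ⟨j, -, hj⟩ := (Nat.dvd_prime_pow Nat.prime_two).1 hdvd
  have hxE : x ∈ E := (hEmem x).2 hx
  have hyE : y ∈ E := (hEmem y).2 hy
  have hj1 : j = 1 := by
    rcases Nat.lt_or_ge j 1 with h0 | h1
    · exfalso
      have : j = 0 := by omega
      rw [this, pow_zero, Subgroup.index_eq_one] at hj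
      have : (⟨x, hxE⟩ : E) ∈ (E ⊓ R').subgroupOf E := by rw [hj]; trivial
      rw [Subgroup.mem_subgroupOf] at this
      exact hxR this.2
    · rcases Nat.lt_or_ge 1 j with h2 | h2
      · exfalso
        have h4 : 4 ∣ ((E ⊓ R').subgroupOf E).index := by
          rw [hj]; exact (show (4 : ℕ) = 2 ^ 2 by norm_num) ▸ pow_dvd_pow 2 h2
        obtain ⟨c, hc4⟩ := h4
        have hcpos : 0 < c := by
          rcases Nat.eq_zero_or_pos c with h0 | h0
          · rw [h0, mul_zero] at hc4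
            have := (Subgroup.index_ne_zero_of_finite (H := (E ⊓ R').subgroupOf E))
            exact absurd hc4 this
          · exact h0
        rw [hc4] at hidx
        have : 4 * Nat.card (E ⊓ R' : Subgroup P) ≤ Nat.card E := by
          rw [← hidx]
          calc 4 * Nat.card (E ⊓ R' : Subgroup P) = Nat.card (E ⊓ R' : Subgroup P) * (4 * 1) := by ring
            _ ≤ Nat.card (E ⊓ R' : Subgroup P) * (4 * c) :=
              Nat.mul_le_mul_left _ (Nat.mul_le_mul_left 4 hcpos)
        omega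
      · omega
  rw [hj1, pow_one] at hj
  have key := Subgroup.mul_mem_iff_of_index_two hj (a := (⟨x, hxE⟩ : E)) (b := (⟨y, hyE⟩ : E)⁻¹)
  have hxn : ¬ ((⟨x, hxE⟩ : E) ∈ (E ⊓ R').subgroupOf E) := by
    rw [Subgroup.mem_subgroupOf]; exact fun h => hxR h.2
  have hyn : ¬ ((⟨y, hyE⟩ : E)⁻¹ ∈ (E ⊓ R').subgroupOf E) := by
    rw [Subgroup.inv_mem_iff, Subgroup.mem_subgroupOf]; exact fun h => hyR h.2
  have := key.2 ⟨fun h => absurd h hxn, fun h => absurd h hyn⟩
  rw [Subgroup.mem_subgroupOf] at this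
  exact this.2

open scoped IsMulCommutative in
/-- Transfer into `S / R` for a commutative Sylow `2`-subgroup `S` of a group without subgroups of
index `2`: if the involutions of `S` outside `R` form a single coset of `R`, every involution of `S` is
`N_G(S)`-conjugate into `R`. -/
theorem exists_normalizer_conj_mem [Finite G] (hG : ∀ H : Subgroup G, H.index ≠ 2) (S : Sylow 2 G)
    (hS : IsMulCommutative (S : Subgroup G)) (R : Subgroup G)
    (hK : ∀ x ∈ (S : Subgroup G), x ^ 2 = 1 → x ∉ R → ∀ y ∈ (S : Subgroup G), y ^ 2 = 1 → y ∉ R →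
      x * y⁻¹ ∈ R)
    (t : G) (ht : t ^ 2 = 1) (htS : t ∈ (S : Subgroup G)) :
    ∃ n ∈ Subgroup.normalizer ((S : Subgroup G) : Set G), n * t * n⁻¹ ∈ R := by
  classical
  have hp2 : Fact (Nat.Prime 2) := ⟨Nat.prime_two⟩
  by_contra hcon
  push Not at hcon
  have htR : t ∉ R := by simpa using hcon 1 (one_mem _)
  have hcomm : ∀ a b : (S : Subgroup G), a * b = b * a := fun a b => hS.is_comm.comm a b
  have hRn : (R.subgroupOf (S : Subgroup G)).Normal := by
    constructor
    intro n hn g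
    have : g * n * g⁻¹ = n := by rw [hcomm g n, mul_inv_cancel_right]
    rw [this]; exact hn
  have hA : IsPGroup 2 ((S : Subgroup G) ⧸ R.subgroupOf (S : Subgroup G)) := S.2.to_quotient _
  have hV : ∀ g : G, MonoidHom.transfer (QuotientGroup.mk' (R.subgroupOf (S : Subgroup G))) g = 1 :=
    fun g => hom_trivial_of_no_index_two hG hA _ g
  have ha2 : ((QuotientGroup.mk' (R.subgroupOf (S : Subgroup G))) ⟨t, htS⟩) ^ 2 = 1 := by
    rw [← map_pow]
    have : (⟨t, htS⟩ : (S : Subgroup G)) ^ 2 = 1 := Subtype.ext (by simpa using ht)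
    rw [this, map_one]
  have hpow : MonoidHom.transfer (QuotientGroup.mk' (R.subgroupOf (S : Subgroup G)))
      ((⟨t, htS⟩ : (S : Subgroup G)) : G) =
      (QuotientGroup.mk' (R.subgroupOf (S : Subgroup G))) ⟨t, htS⟩ ^ (S : Subgroup G).index := by
    apply transfer_eq_pow_of_fusion
    intro k g₀ hmem
    rcases Nat.even_or_odd k with hk | hk
    · obtain ⟨c, rfl⟩ := hk
      have h1 : t ^ (c + c) = 1 := by rw [← two_mul, pow_mul, ht, one_pow]
      have h2 : (⟨g₀⁻¹ * ((⟨t, htS⟩ : (S : Subgroup G)) : G) ^ (c + c) * g₀, hmem⟩ :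
          (S : Subgroup G)) = 1 := by
        apply Subtype.ext
        simp [h1]
      rw [h2, map_one, ← two_mul, pow_mul, ha2, one_pow]
    · obtain ⟨c, rfl⟩ := hk
      have h1 : t ^ (2 * c + 1) = t := by rw [pow_succ, pow_mul, ht, one_pow, one_mul]
      have hmem' : g₀⁻¹ * t * g₀ ∈ (S : Subgroup G) := by
        have := hmem
        simp only [h1] at this
        exact this
      have hS' : IsMulCommutative S := hS
      obtain ⟨n, hn, hnt⟩ := S.conj_eq_normalizer_conj_of_mem t g₀ htS hmem'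
      have hyR : g₀⁻¹ * t * g₀ ∉ R := by
        rw [hnt]
        have := hcon n⁻¹ (Subgroup.inv_mem _ hn)
        rwa [inv_inv] at this
      have hy2 : (g₀⁻¹ * t * g₀) ^ 2 = 1 := by
        rw [pow_two]
        calc g₀⁻¹ * t * g₀ * (g₀⁻¹ * t * g₀) = g₀⁻¹ * (t ^ 2) * g₀ := by rw [pow_two]; group
          _ = 1 := by rw [ht]; group
      have hmemR := hK _ hmem' hy2 hyR t htS ht htR
      have hrhs : (QuotientGroup.mk' (R.subgroupOf (S : Subgroup G))) ⟨t, htS⟩ ^ (2 * c + 1) =
          (QuotientGroup.mk' (R.subgroupOf (S : Subgroup G))) ⟨t, htS⟩ := by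
        rw [pow_succ, pow_mul, ha2, one_pow, one_mul]
      rw [hrhs]
      rw [QuotientGroup.mk'_apply, QuotientGroup.mk'_apply, QuotientGroup.eq, Subgroup.mem_subgroupOf]
      have : ((⟨g₀⁻¹ * ((⟨t, htS⟩ : (S : Subgroup G)) : G) ^ (2 * c + 1) * g₀, hmem⟩ :
          (S : Subgroup G))⁻¹ * ⟨t, htS⟩ : (S : Subgroup G)) = ((g₀⁻¹ * t * g₀)⁻¹ * t : G) := by
        simp [h1]
      rw [this]
      have hS2 := hcomm ⟨g₀⁻¹ * t * g₀, hmem'⟩ ⟨t, htS⟩
      have hS3 : g₀⁻¹ * t * g₀ * t = t * (g₀⁻¹ * t * g₀) := congrArg Subtype.val hS2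
      have key : ∀ y : G, y * t = t * y → (y * t⁻¹)⁻¹ = y⁻¹ * t := by
        intro y hy
        rw [mul_inv_rev, inv_inv]
        have : y⁻¹ * (y * t) * y⁻¹ = y⁻¹ * (t * y) * y⁻¹ := by rw [hy]
        simpa [mul_assoc] using this
      rw [← key _ hS3]
      exact R.inv_mem hmemR
  have hodd : Odd (S : Subgroup G).index := by
    rw [← Nat.not_even_iff_odd, even_iff_two_dvd]
    exact S.not_dvd_index
  have h1 : (QuotientGroup.mk' (R.subgroupOf (S : Subgroup G))) ⟨t, htS⟩ = 1 := by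
    have h2 := hpow
    rw [hV] at h2
    obtain ⟨c, hc⟩ := hodd
    rw [hc, pow_succ, pow_mul, ha2, one_pow, one_mul] at h2
    exact h2.symm
  rw [QuotientGroup.mk'_apply, QuotientGroup.eq_one_iff, Subgroup.mem_subgroupOf] at h1
  exact htR h1

end Cfsg.Agent.Helper18
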