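import Mathlib

set_option autoImplicit false

namespace Cfsg.Agent.Helper18

open scoped Matrix

/-- Linear algebra core: `n` vectors (columns of `A`) in an `n`-dimensional space whose Gram
matrix is `(u - v) I + v J` with `0 ≤ v < u` span, so a vector orthogonal to all is zero. -/
theorem gram_cancel {X Ω : Type*} [Fintype X] [Fintype Ω] [DecidableEq Ω]
    (hcard : Fintype.card X = Fintype.card Ω)
    (A : X → Ω → ℚ) (u v : ℚ) (huv : v < u) (hv : 0 ≤ v)
    (hA : ∀ ω ω', ∑ x, A x ω * A x ω' = if ω = ω' then u else v)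
    (w : X → ℚ) (hw : ∀ ω, ∑ x, A x ω * w x = 0) : w = 0 := by
  have hinj : ∀ t : Ω → ℚ, (∀ x, ∑ ω, A x ω * t ω = 0) → t = 0 := by
    intro t ht
    have h1 : ∀ ω, (u - v) * t ω + v * ∑ ω', t ω' = 0 := by
      intro ω
      have h2 : ∑ ω', (∑ x, A x ω * A x ω') * t ω' = 0 := by
        calc ∑ ω', (∑ x, A x ω * A x ω') * t ω'
            = ∑ x, A x ω * ∑ ω', A x ω' * t ω' := by
              simp only [Finset.sum_mul, Finset.mul_sum]
              rw [Finset.sum_comm]
              refine Finset.sum_congr rfl (fun x _ => Finset.sum_congr rfl (fun ω' _ => ?_))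
              ring
          _ = 0 := by simp [ht]
      have h3 : ∑ ω', (∑ x, A x ω * A x ω') * t ω' = (u - v) * t ω + v * ∑ ω', t ω' := by
        have : ∀ ω', (∑ x, A x ω * A x ω') * t ω' =
            (if ω = ω' then (u - v) * t ω' else 0) + v * t ω' := by
          intro ω'
          rw [hA]
          split_ifs <;> ring
        simp only [this, Finset.sum_add_distrib, Finset.sum_ite_eq, Finset.mem_univ, if_true,
          Finset.mul_sum]
      rw [← h3]; exact h2
    have hS : ∑ ω', t ω' = 0 := by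
      have h4 : ∑ ω, ((u - v) * t ω + v * ∑ ω', t ω') = 0 := by simp [h1]
      rw [Finset.sum_add_distrib, ← Finset.mul_sum, Finset.sum_const, Finset.card_univ,
        nsmul_eq_mul] at h4
      have h5 : ((u - v) + (Fintype.card Ω : ℚ) * v) * ∑ ω', t ω' = 0 := by
        rw [← h4]; ring
      have h6 : 0 < (u - v) + (Fintype.card Ω : ℚ) * v := by
        have : (0 : ℚ) ≤ (Fintype.card Ω : ℚ) * v := mul_nonneg (Nat.cast_nonneg _) hv
        linarith
      rcases mul_eq_zero.mp h5 with h | h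
      · linarith
      · exact h
    funext ω
    have := h1 ω
    rw [hS, mul_zero, add_zero] at this
    rcases mul_eq_zero.mp this with h | h
    · linarith
    · exact h
  -- the linear map
  let f : (Ω → ℚ) →ₗ[ℚ] (X → ℚ) :=
    { toFun := fun t x => ∑ ω, A x ω * t ω
      map_add' := by
        intro s t; funext x
        simp only [Pi.add_apply, mul_add, Finset.sum_add_distrib]
      map_smul' := by
        intro c t; funext x
        simp only [Pi.smul_apply, smul_eq_mul, RingHom.id_apply, Finset.mul_sum]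
        refine Finset.sum_congr rfl (fun ω _ => ?_)
        ring }
  have hfinj : Function.Injective f := by
    rw [injective_iff_map_eq_zero]
    intro t ht
    exact hinj t (fun x => congrFun ht x)
  have hfsurj : Function.Surjective f := by
    rw [← LinearMap.injective_iff_surjective_of_finrank_eq_finrank]
    · exact hfinj
    · rw [Module.finrank_fintype_fun_eq_card, Module.finrank_fintype_fun_eq_card, hcard]
  obtain ⟨t, ht⟩ := hfsurj w
  have hww : ∑ x, w x * w x = 0 := by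
    calc ∑ x, w x * w x = ∑ x, w x * ∑ ω, A x ω * t ω := by
          refine Finset.sum_congr rfl (fun x _ => ?_)
          rw [← ht]; rfl
      _ = ∑ ω, t ω * ∑ x, A x ω * w x := by
          simp only [Finset.mul_sum]
          rw [Finset.sum_comm]
          refine Finset.sum_congr rfl (fun x _ => Finset.sum_congr rfl (fun ω' _ => ?_))
          ring
      _ = 0 := by simp [hw]
  funext x
  have h1 : ∀ x ∈ Finset.univ, 0 ≤ w x * w x := fun x _ => mul_self_nonneg _
  have h2 := (Finset.sum_eq_zero_iff_of_nonneg h1).mp hww x (Finset.mem_univ _)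
  exact mul_self_eq_zero.mp h2

section
variable {G Ω : Type*} [Group G] [MulAction G Ω] (H : Subgroup G)

/-- `ω` lies in the translate `x • P` where `x` is a left coset of `H`. -/
def InTranslate (P : Set Ω) (x : G ⧸ H) (ω : Ω) : Prop := (Quotient.out x)⁻¹ • ω ∈ P

theorem inTranslate_mk {P : Set Ω} (hP : ∀ h ∈ H, ∀ ω, h • ω ∈ P ↔ ω ∈ P) (g : G) (ω : Ω) :
    InTranslate H P (QuotientGroup.mk g) ω ↔ g⁻¹ • ω ∈ P := by
  unfold InTranslate
  obtain ⟨h, hh⟩ := QuotientGroup.mk_out_eq_mul H g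
  rw [hh, mul_inv_rev, mul_smul]
  exact hP _ (H.inv_mem h.2) _

theorem inTranslate_smul {P : Set Ω} (hP : ∀ h ∈ H, ∀ ω, h • ω ∈ P ↔ ω ∈ P) (k : G)
    (x : G ⧸ H) (ω : Ω) : InTranslate H P (k • x) (k • ω) ↔ InTranslate H P x ω := by
  induction x using QuotientGroup.induction_on with
  | H g =>
    rw [show k • (QuotientGroup.mk g : G ⧸ H) = QuotientGroup.mk (k * g) from rfl,
      inTranslate_mk H hP, inTranslate_mk H hP, mul_inv_rev, mul_smul, inv_smul_smul]

open Classical in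
/-- indicator of `InTranslate`. -/
noncomputable def ind (P : Set Ω) (x : G ⧸ H) (ω : Ω) : ℚ := if InTranslate H P x ω then 1 else 0

theorem ind_pos {P : Set Ω} {x : G ⧸ H} {ω : Ω} (h : InTranslate H P x ω) : ind H P x ω = 1 := by
  unfold ind; rw [if_pos h]

theorem ind_neg {P : Set Ω} {x : G ⧸ H} {ω : Ω} (h : ¬ InTranslate H P x ω) :
    ind H P x ω = 0 := by
  unfold ind; rw [if_neg h]

theorem ind_cases (P : Set Ω) (x : G ⧸ H) (ω : Ω) : ind H P x ω = 0 ∨ ind H P x ω = 1 := by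
  by_cases h : InTranslate H P x ω
  · right; exact ind_pos H h
  · left; exact ind_neg H h

theorem ind_smul {P : Set Ω} (hP : ∀ h ∈ H, ∀ ω, h • ω ∈ P ↔ ω ∈ P) (k : G)
    (x : G ⧸ H) (ω : Ω) : ind H P (k • x) (k • ω) = ind H P x ω := by
  by_cases h : InTranslate H P x ω
  · rw [ind_pos H h, ind_pos H ((inTranslate_smul H hP k x ω).mpr h)]
  · rw [ind_neg H h, ind_neg H (fun h' => h ((inTranslate_smul H hP k x ω).mp h'))]

theorem gram_invariant [Fintype (G ⧸ H)] {P Q : Set Ω}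
    (hP : ∀ h ∈ H, ∀ ω, h • ω ∈ P ↔ ω ∈ P) (hQ : ∀ h ∈ H, ∀ ω, h • ω ∈ Q ↔ ω ∈ Q)
    (k : G) (ω ω' : Ω) :
    ∑ x, ind H P x (k • ω) * ind H Q x (k • ω') = ∑ x, ind H P x ω * ind H Q x ω' := by
  symm
  apply Fintype.sum_equiv (MulAction.toPerm k)
  intro x
  rw [MulAction.toPerm_apply, ind_smul H hP, ind_smul H hQ]

end

theorem two_orbits_core {G Ω : Type*} [Group G] [Finite G] [MulAction G Ω] [Finite Ω]
    (h2 : ∀ a b c d : Ω, a ≠ b → c ≠ d → ∃ g : G, g • a = c ∧ g • b = d)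
    (H : Subgroup G) (hidx : H.index = Nat.card Ω)
    (P Q : Set Ω) (hP : ∀ h ∈ H, ∀ ω, h • ω ∈ P ↔ ω ∈ P) (hQ : ∀ h ∈ H, ∀ ω, h • ω ∈ Q ↔ ω ∈ Q)
    (p q r : Ω) (hp : p ∈ P) (hq : q ∈ Q) (hqP : q ∉ P) (hrP : r ∉ P) (hrQ : r ∉ Q) : False := by
  classical
  have : Fintype Ω := Fintype.ofFinite Ω
  have : Fintype (G ⧸ H) := Fintype.ofFinite _
  have hcard : Fintype.card (G ⧸ H) = Fintype.card Ω := by
    rw [← Nat.card_eq_fintype_card, ← Nat.card_eq_fintype_card]; exact hidx
  have hpq : p ≠ q := fun e => hqP (e ▸ hp)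
  have htr : ∀ a b : Ω, ∃ g : G, g • a = b := by
    intro a b
    by_cases hab : a = b
    · exact ⟨1, by rw [one_smul, hab]⟩
    · obtain ⟨g, hg, _⟩ := h2 a b b a hab (Ne.symm hab)
      exact ⟨g, hg⟩
  have hform : ∀ (S T : Set Ω), (∀ h ∈ H, ∀ ω, h • ω ∈ S ↔ ω ∈ S) →
      (∀ h ∈ H, ∀ ω, h • ω ∈ T ↔ ω ∈ T) → ∀ ω ω',
      (∑ x, ind H S x ω * ind H T x ω') =
        if ω = ω' then (∑ x, ind H S x p * ind H T x p) else (∑ x, ind H S x p * ind H T x q) := by
    intro S T hS hT ω ω'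
    split_ifs with he
    · subst he
      obtain ⟨g, hg⟩ := htr p ω
      rw [← hg, gram_invariant H hS hT]
    · obtain ⟨g, hg1, hg2⟩ := h2 p q ω ω' hpq he
      rw [← hg1, ← hg2, gram_invariant H hS hT]
  set x₀ : G ⧸ H := QuotientGroup.mk 1 with hx₀
  have hx₀P : ∀ ω, InTranslate H P x₀ ω ↔ ω ∈ P := by
    intro ω; rw [hx₀, inTranslate_mk H hP, inv_one, one_smul]
  have hx₀Q : ∀ ω, InTranslate H Q x₀ ω ↔ ω ∈ Q := by
    intro ω; rw [hx₀, inTranslate_mk H hQ, inv_one, one_smul]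
  obtain ⟨u₁, hu₁⟩ : ∃ u₁ : ℚ, u₁ = ∑ x, ind H P x p * ind H P x p := ⟨_, rfl⟩
  obtain ⟨v₁, hv₁⟩ : ∃ v₁ : ℚ, v₁ = ∑ x, ind H P x p * ind H P x q := ⟨_, rfl⟩
  obtain ⟨u₂, hu₂⟩ : ∃ u₂ : ℚ, u₂ = ∑ x, ind H P x p * ind H Q x p := ⟨_, rfl⟩
  obtain ⟨v₂, hv₂⟩ : ∃ v₂ : ℚ, v₂ = ∑ x, ind H P x p * ind H Q x q := ⟨_, rfl⟩
  have hformPP : ∀ ω ω', (∑ x, ind H P x ω * ind H P x ω') = if ω = ω' then u₁ else v₁ := by
    intro ω ω'; rw [hu₁, hv₁]; exact hform P P hP hP ω ω'
  have hformPQ : ∀ ω ω', (∑ x, ind H P x ω * ind H Q x ω') = if ω = ω' then u₂ else v₂ := by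
    intro ω ω'; rw [hu₂, hv₂]; exact hform P Q hP hQ ω ω'
  have hsq : ∀ x ω, ind H P x ω * ind H P x ω = ind H P x ω := by
    intro x ω
    rcases ind_cases H P x ω with h | h <;> (rw [h]; norm_num)
  have hnn : ∀ (S : Set Ω) x ω, 0 ≤ ind H S x ω := by
    intro S x ω
    rcases ind_cases H S x ω with h | h <;> simp [h]
  have hle1 : ∀ (S : Set Ω) x ω, ind H S x ω ≤ 1 := by
    intro S x ω
    rcases ind_cases H S x ω with h | h <;> simp [h]
  have hv₁nn : 0 ≤ v₁ := by
    rw [hv₁]; exact Finset.sum_nonneg (fun x _ => mul_nonneg (hnn _ _ _) (hnn _ _ _))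
  have hv₁lt : v₁ < u₁ := by
    rw [hv₁, hu₁]
    apply Finset.sum_lt_sum
    · intro x _
      rcases ind_cases H P x p with h | h
      · rw [h]; simp
      · rw [h]; simpa using hle1 P x q
    · refine ⟨x₀, Finset.mem_univ _, ?_⟩
      rw [ind_pos H ((hx₀P p).mpr hp), ind_neg H (fun h => hqP ((hx₀P q).mp h))]
      norm_num
  have hsumP : ∀ ω, ∑ x, ind H P x ω = u₁ := by
    intro ω
    have := hformPP ω ω
    rw [if_pos rfl] at this
    rw [← this]
    exact Finset.sum_congr rfl (fun x _ => (hsq x ω).symm)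
  have hu₁ne : u₁ ≠ 0 := by linarith
  have huv : u₁ - v₁ ≠ 0 := by linarith
  obtain ⟨c, hc⟩ : ∃ c : ℚ, c = (u₂ - v₂) / (u₁ - v₁) := ⟨_, rfl⟩
  obtain ⟨d, hd⟩ : ∃ d : ℚ, d = (u₂ - c * u₁) / u₁ := ⟨_, rfl⟩
  have hkey : ∀ ω' x, ind H Q x ω' - c * ind H P x ω' - d = 0 := by
    intro ω'
    have := gram_cancel hcard (fun x ω => ind H P x ω) u₁ v₁ hv₁lt hv₁nn hformPP
      (fun x => ind H Q x ω' - c * ind H P x ω' - d) (by
        intro ω
        have e1 : ∑ x, ind H P x ω * (ind H Q x ω' - c * ind H P x ω' - d) =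
            (∑ x, ind H P x ω * ind H Q x ω') - c * (∑ x, ind H P x ω * ind H P x ω')
              - d * ∑ x, ind H P x ω := by
          simp only [mul_sub, Finset.sum_sub_distrib, Finset.mul_sum]
          congr 1
          · congr 1
            refine Finset.sum_congr rfl (fun x _ => ?_); ring
          · refine Finset.sum_congr rfl (fun x _ => ?_); ring
        rw [e1, hformPQ, hformPP, hsumP]
        split_ifs with he
        · rw [hd]; field_simp; ring
        · rw [hd, hc]; field_simp; ring)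
    intro x
    exact congrFun this x
  have e1 := hkey r x₀
  have e2 := hkey q x₀
  rw [ind_neg H (fun h => hrQ ((hx₀Q r).mp h)), ind_neg H (fun h => hrP ((hx₀P r).mp h))] at e1
  rw [ind_pos H ((hx₀Q q).mpr hq), ind_neg H (fun h => hqP ((hx₀P q).mp h))] at e2
  linarith

theorem two_orbits_main {G Ω : Type*} [Group G] [Finite G] [MulAction G Ω] [Finite Ω]
    (h2 : MulAction.IsMultiplyPretransitive G Ω 2) (H : Subgroup G)
    (hidx : H.index = Nat.card Ω) (hnt : ¬ MulAction.IsPretransitive H Ω) :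
    Nat.card (MulAction.orbitRel.Quotient H Ω) = 2 := by
  classical
  have h2' : ∀ a b c d : Ω, a ≠ b → c ≠ d → ∃ g : G, g • a = c ∧ g • b = d :=
    fun a b c d hab hcd => MulAction.is_two_pretransitive_iff.mp h2 hab hcd
  have hns : ¬ Subsingleton (MulAction.orbitRel.Quotient H Ω) := by
    rwa [← MulAction.pretransitive_iff_subsingleton_quotient]
  have : Fintype (MulAction.orbitRel.Quotient H Ω) := Fintype.ofFinite _
  rw [Nat.card_eq_fintype_card]
  by_contra hne
  have h1 : 1 < Fintype.card (MulAction.orbitRel.Quotient H Ω) := by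
    rw [Fintype.one_lt_card_iff_nontrivial]
    exact not_subsingleton_iff_nontrivial.mp hns
  have h3 : 2 < Fintype.card (MulAction.orbitRel.Quotient H Ω) := by omega
  obtain ⟨o1, o2, o3, h12, h13, h23⟩ := Fintype.two_lt_card_iff.mp h3
  obtain ⟨p, rfl⟩ := Quotient.exists_rep o1
  obtain ⟨q, rfl⟩ := Quotient.exists_rep o2
  obtain ⟨r, rfl⟩ := Quotient.exists_rep o3
  have hne' : ∀ a b : Ω, (⟦a⟧ : MulAction.orbitRel.Quotient H Ω) ≠ ⟦b⟧ →
      b ∉ MulAction.orbit H a := by
    intro a b hab hmem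
    apply hab
    apply Quotient.sound
    show a ∈ MulAction.orbit H b
    rw [MulAction.orbit_eq_iff.mpr hmem]
    exact MulAction.mem_orbit_self _
  have hinv : ∀ a : Ω, ∀ h ∈ H, ∀ ω, h • ω ∈ MulAction.orbit H a ↔ ω ∈ MulAction.orbit H a := by
    intro a h hh ω
    have : h • ω = (⟨h, hh⟩ : H) • ω := rfl
    rw [this, ← MulAction.orbit_eq_iff, MulAction.orbit_smul, MulAction.orbit_eq_iff]
  exact two_orbits_core h2' H hidx
    (MulAction.orbit H p) (MulAction.orbit H q) (hinv p) (hinv q) p q r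
    (MulAction.mem_orbit_self _) (MulAction.mem_orbit_self _) (hne' p q h12) (hne' p r h13)
    (hne' q r h23)

end Cfsg.Agent.Helper18
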