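import Mathlib
import Cfsg.Agent.Helper5.VL.Defs
import Cfsg.Agent.Helper18.VLIDX

set_option autoImplicit false
set_option linter.style.haveILetI false
set_option linter.unusedSectionVars false
set_option linter.unusedVariables false

/-!
# S3777 board, piece FREE (core): the PTWOLE and COST instances are hypotheses.
-/

namespace Cfsg.Agent.Helper5.VL

open Subgroup
open scoped commutatorElement

universe u
variable {p : ℕ} [Fact p.Prime] {G : Type u} [Group G] [Finite G]

/-- FREE, core: `hptwo` is `ptwo_le K x hxK _`, `hcost` is `cost_mul K x`. -/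
theorem FREE_aux_core {φ0 : Fn p G} {b : ℕ}
    (hb : ∀ x : G, φ0 x ≠ 1 → (centralizer ({x} : Set G)).index ≤ p ^ b)
    {K : Subgroup G} (hK : Phi p G ≤ K) {m : ℕ} (hm : K.index = p ^ m) {x : G}
    (hx0 : φ0 x ≠ 1) (hxK : x ∉ K) (hfree : centralizer ({x} : Set G) ≤ K ⊔ zpowers x)
    (hgood : der K ≤ p ^ T (b - m))
    (hptwo : der (K ⊔ zpowers x) ≤ der K * (centralizer ({x} : Set G)).relIndex K)
    (hcost : (centralizer ({x} : Set G)).relIndex K * (K ⊔ centralizer ({x} : Set G)).index
      = (centralizer ({x} : Set G)).index) :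
    (K ⊔ zpowers x).index = p ^ (m - 1) ∧
      der (K ⊔ zpowers x) ≤ p ^ T (b - (m - 1)) := by
  have hp : p.Prime := Fact.out
  have hp0 : 0 < p := hp.pos
  have hidx : (K ⊔ zpowers x).index * p = K.index := index_sup_zpowers hK hxK
  -- `m ≥ 1`
  have hm1 : 1 ≤ m := by
    rcases Nat.eq_zero_or_pos m with h0 | h0
    · exfalso
      rw [h0, pow_zero] at hm
      have : K = ⊤ := Subgroup.index_eq_one.mp hm
      exact hxK (this ▸ Subgroup.mem_top x)
    · exact h0
  have hI : (K ⊔ zpowers x).index = p ^ (m - 1) := by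
    have : (K ⊔ zpowers x).index * p = p ^ (m - 1) * p := by
      rw [hidx, hm, ← pow_succ, Nat.sub_add_cancel hm1]
    exact Nat.eq_of_mul_eq_mul_right hp0 this
  refine ⟨hI, ?_⟩
  -- `K ⊔ C(x) = K ⊔ ⟨x⟩`
  have hsup : K ⊔ centralizer ({x} : Set G) = K ⊔ zpowers x := by
    apply le_antisymm
    · exact sup_le le_sup_left hfree
    · refine sup_le le_sup_left (le_trans ?_ le_sup_right)
      rw [Subgroup.zpowers_le]
      exact Subgroup.mem_centralizer_singleton_iff.mpr rfl
  rw [hsup, hI] at hcost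
  set cost := (centralizer ({x} : Set G)).relIndex K with hcostdef
  have hle : cost * p ^ (m - 1) ≤ p ^ b := hcost ▸ hb x hx0
  have hcpos : 0 < cost := by
    rcases Nat.eq_zero_or_pos cost with h0 | h0
    · exfalso
      rw [h0, zero_mul] at hcost
      have : (centralizer ({x} : Set G)).index ≠ 0 := Subgroup.index_ne_zero_of_finite
      exact this hcost.symm
    · exact h0
  -- `m - 1 ≤ b`
  have hmb : m - 1 ≤ b := by
    have h1 : p ^ (m - 1) ≤ p ^ b :=
      le_trans (Nat.le_mul_of_pos_left _ hcpos) hle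
    exact (Nat.pow_le_pow_iff_right hp.one_lt).mp h1
  have hcle : cost ≤ p ^ (b - (m - 1)) := by
    have h2 : p ^ b = p ^ (b - (m - 1)) * p ^ (m - 1) := by
      rw [← pow_add, Nat.sub_add_cancel hmb]
    rw [h2] at hle
    exact Nat.le_of_mul_le_mul_right hle (pos_of_ne_zero (pow_ne_zero _ hp0.ne'))
  have hfin : der K * cost ≤ p ^ T (b - (m - 1)) := by
    rcases Nat.lt_or_ge b m with hlt | hge
    · -- `b = m - 1`
      have hbm : b - m = 0 := Nat.sub_eq_zero_of_le hlt.le
      have hbm' : b - (m - 1) = 0 := by omega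
      rw [hbm, T_zero, pow_zero] at hgood
      rw [hbm', pow_zero] at hcle
      rw [hbm', T_zero, pow_zero]
      calc der K * cost ≤ 1 * 1 := Nat.mul_le_mul hgood hcle
        _ = 1 := one_mul 1
    · have hbm' : b - (m - 1) = (b - m) + 1 := by omega
      rw [hbm', T_succ, pow_add]
      rw [hbm'] at hcle
      exact Nat.mul_le_mul hgood hcle
  exact le_trans hptwo hfin

end Cfsg.Agent.Helper5.VL
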