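import Mathlib
import Cfsg.Agent.Helper5.VL.Defs
import Cfsg.Agent.Helper18.VLFREEcore
import Cfsg.Agent.Helper10.VLPHI2
import Cfsg.Agent.Helper10.VLPHI3
import Cfsg.Agent.Helper2.VLPTWOLE
import Cfsg.Agent.Helper9.VL.COST

set_option autoImplicit false
set_option linter.style.haveILetI false
set_option linter.unusedSectionVars false
set_option linter.unusedVariables false

/-!
# S3777 board, piece FREE.
-/

namespace Cfsg.Agent.Helper5.VL

open Subgroup
open scoped commutatorElement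

universe u
variable {p : ℕ} [Fact p.Prime] {G : Type u} [Group G] [Finite G]

/-- FREE (B) -/
theorem free_step {φ0 : Fn p G} {b : ℕ}
    (hb : ∀ x : G, φ0 x ≠ 1 → (centralizer ({x} : Set G)).index ≤ p ^ b)
    {K : Subgroup G} (hK : Phi p G ≤ K) {m : ℕ} (hm : K.index = p ^ m) {x : G}
    (hx0 : φ0 x ≠ 1) (hxK : x ∉ K) (hfree : centralizer ({x} : Set G) ≤ K ⊔ zpowers x)
    (hgood : der K ≤ p ^ T (b - m)) :
    (K ⊔ zpowers x).index = p ^ (m - 1) ∧
      der (K ⊔ zpowers x) ≤ p ^ T (b - (m - 1)) := by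
  haveI : K.Normal := normal_of_Phi_le hK
  exact FREE_aux_core hb hK hm hx0 hxK hfree hgood
    (ptwo_le K x hxK (hK (pow_mem_Phi x))) (cost_mul K x)

end Cfsg.Agent.Helper5.VL
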