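import Mathlib
import Cfsg.Prelude.Def_Transfer
import Cfsg.Agent.Helper10.GExtraA
import Cfsg.Agent.Helper14.Frattini
import Cfsg.Agent.Helper1.PGroup

set_option autoImplicit false

/-!
S5178 piece X1 (for helper10): an extraspecial subgroup `Q` of index `p` in a `p`-group `S`.
-/

namespace Cfsg.Agent.Helper18.XS

open scoped commutatorElement

/-- a factor commuting with `q` and `b` can be dropped from the left entry of a commutator. -/
theorem commutator_central_mul_left {Ω : Type*} [Group Ω] (c q b : Ω) (h1 : Commute c q)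
    (h2 : Commute c b) : ⁅c * q, b⁆ = ⁅q, b⁆ := by
  have h3 : Commute c (q * b * q⁻¹) := (h1.mul_right h2).mul_right h1.inv_right
  rw [commutatorElement_def, commutatorElement_def]
  calc c * q * b * (c * q)⁻¹ * b⁻¹ = (c * (q * b * q⁻¹)) * c⁻¹ * b⁻¹ := by group
    _ = ((q * b * q⁻¹) * c) * c⁻¹ * b⁻¹ := by rw [h3.eq]
    _ = q * b * q⁻¹ * b⁻¹ := by group

/-- a factor commuting with `a` and `q` can be dropped from the right entry of a commutator. -/
theorem commutator_central_mul_right {Ω : Type*} [Group Ω] (c a q : Ω) (h1 : Commute c a)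
    (h2 : Commute c q) : ⁅a, c * q⁆ = ⁅a, q⁆ := by
  rw [← commutatorElement_inv (c * q) a, commutator_central_mul_left c q a h2 h1,
    commutatorElement_inv]

theorem xs_basic {Ω : Type*} [Group Ω] {S : Subgroup Ω} [Finite S] (p : ℕ) [Fact p.Prime]
    (hS : IsPGroup p S) (Q : Subgroup Ω) (hQS : Q ≤ S) (hQ : Cfsg.IsExtraspecial p ↥Q)
    (hQi : (Q.subgroupOf S).index = p) :
    Q ⊓ Subgroup.centralizer (Q : Set Ω) ≤ S ⊓ Subgroup.centralizer (S : Set Ω) ∧
    (S ⊓ Subgroup.centralizer (S : Set Ω) ≤ Q →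
      S ⊓ Subgroup.centralizer (S : Set Ω) = Q ⊓ Subgroup.centralizer (Q : Set Ω)) ∧
    (¬ S ⊓ Subgroup.centralizer (S : Set Ω) ≤ Q →
      frattini ↥S = commutator ↥S ∧ Nat.card ↥(commutator ↥S) = p ∧
      Nat.card ↥(S ⊓ Subgroup.centralizer (S : Set Ω)) = p ^ 2 ∧
      ⁅S, S⁆ ≤ S ⊓ Subgroup.centralizer (S : Set Ω)) := by
  have hpp : p.Prime := Fact.out
  obtain ⟨⟨hQp, hQfr, hQcomm⟩, hQZ⟩ := hQ
  have hfinQ : Finite ↥Q :=
    Finite.of_injective (Subgroup.inclusion hQS) (Subgroup.inclusion_injective hQS)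
  -- membership in `Z(Q)`
  have hmemZQ : ∀ x : Ω, x ∈ Q ⊓ Subgroup.centralizer (Q : Set Ω) ↔
      ∃ hx : x ∈ Q, (⟨x, hx⟩ : Q) ∈ Subgroup.center ↥Q := by
    intro x
    rw [Subgroup.mem_inf, Subgroup.mem_centralizer_iff]
    constructor
    · rintro ⟨hx, hc⟩
      refine ⟨hx, ?_⟩
      rw [Subgroup.mem_center_iff]
      intro g
      exact Subtype.ext (hc g g.2)
    · rintro ⟨hx, hc⟩
      refine ⟨hx, fun h hh => ?_⟩
      rw [Subgroup.mem_center_iff] at hc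
      exact congrArg Subtype.val (hc ⟨h, hh⟩)
  have hZQcard : Nat.card ↥(Q ⊓ Subgroup.centralizer (Q : Set Ω)) = p := by
    rw [← hQZ]
    apply Nat.card_congr
    exact
      { toFun := fun x => ⟨⟨x.1, ((hmemZQ x.1).1 x.2).1⟩, ((hmemZQ x.1).1 x.2).2⟩
        invFun := fun c => ⟨c.1.1, (hmemZQ c.1.1).2 ⟨c.1.2, c.2⟩⟩
        left_inv := fun x => rfl
        right_inv := fun c => rfl }
  -- normality of `Q` in `S`
  have hQ'n : (Q.subgroupOf S).Normal := by
    apply Subgroup.normal_of_index_eq_minFac_card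
    obtain ⟨k, hk⟩ := IsPGroup.iff_card.mp hS
    have hk0 : k ≠ 0 := by
      rintro rfl
      rw [pow_zero] at hk
      have h1 := Subgroup.card_mul_index (Q.subgroupOf S)
      rw [hk, hQi] at h1
      have := Nat.eq_one_of_mul_eq_one_left h1
      exact hpp.one_lt.ne' this
    rw [hQi, hk, Nat.pow_minFac hk0, hpp.minFac_eq]
  have hconjQ : ∀ s ∈ S, ∀ q ∈ Q, s * q * s⁻¹ ∈ Q := by
    intro s hs q hq
    have := hQ'n.conj_mem ⟨q, hQS hq⟩ (Subgroup.mem_subgroupOf.2 hq) ⟨s, hs⟩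
    exact Subgroup.mem_subgroupOf.1 this
  -- (1)
  have h1 : Q ⊓ Subgroup.centralizer (Q : Set Ω) ≤ S ⊓ Subgroup.centralizer (S : Set Ω) := by
    set H : Subgroup ↥S := (Q ⊓ Subgroup.centralizer (Q : Set Ω)).subgroupOf S with hH
    have hHn : H.Normal := by
      constructor
      intro n hn g
      rw [hH, Subgroup.mem_subgroupOf] at hn ⊢
      obtain ⟨hnQ, hnC⟩ := Subgroup.mem_inf.1 hn
      refine Subgroup.mem_inf.2 ⟨hconjQ g g.2 n hnQ, ?_⟩
      rw [Subgroup.mem_centralizer_iff] at hnC ⊢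
      intro q hq
      have hq' : (g : Ω)⁻¹ * q * (g : Ω) ∈ Q := by
        have := hconjQ ((g : Ω)⁻¹) (S.inv_mem g.2) q hq
        simpa using this
      have hc := hnC _ hq'
      change q * ((g : Ω) * (n : Ω) * (g : Ω)⁻¹) = ((g : Ω) * (n : Ω) * (g : Ω)⁻¹) * q
      calc q * ((g : Ω) * (n : Ω) * (g : Ω)⁻¹)
          = (g : Ω) * (((g : Ω)⁻¹ * q * (g : Ω)) * (n : Ω)) * (g : Ω)⁻¹ := by group
        _ = (g : Ω) * ((n : Ω) * ((g : Ω)⁻¹ * q * (g : Ω))) * (g : Ω)⁻¹ := by rw [hc]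
        _ = ((g : Ω) * (n : Ω) * (g : Ω)⁻¹) * q := by group
    have hHcard : Nat.card H = p := by
      rw [← hZQcard]
      exact Nat.card_congr (Subgroup.subgroupOfEquivOfLe (inf_le_left.trans hQS)).toEquiv
    have hcent := Cfsg.Agent.Helper10.GExtra.comm_of_normal_card_prime hS H hHcard
    intro z hz
    have hzQ : z ∈ Q := (Subgroup.mem_inf.1 hz).1
    refine Subgroup.mem_inf.2 ⟨hQS hzQ, ?_⟩
    rw [Subgroup.mem_centralizer_iff]
    intro s hs
    have := hcent ⟨z, hQS hzQ⟩ (Subgroup.mem_subgroupOf.2 hz) ⟨s, hs⟩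
    exact congrArg Subtype.val this
  have hcle : Subgroup.centralizer (S : Set Ω) ≤ Subgroup.centralizer (Q : Set Ω) :=
    Subgroup.centralizer_le (by exact_mod_cast hQS)
  -- `Z(S) ⊓ Q ≤ Z(Q)`
  have hZSQ : ∀ z ∈ S ⊓ Subgroup.centralizer (S : Set Ω), z ∈ Q →
      z ∈ Q ⊓ Subgroup.centralizer (Q : Set Ω) := fun z hz hzQ => ⟨hzQ, hcle hz.2⟩
  refine ⟨h1, ?_, ?_⟩
  · intro hle
    exact le_antisymm (fun z hz => hZSQ z hz (hle hz)) h1
  intro hnot
  obtain ⟨z₀, hz₀Z, hz₀Q⟩ := SetLike.not_le_iff_exists.1 hnot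
  have hz₀S : z₀ ∈ S := hz₀Z.1
  have hz₀c : ∀ s ∈ S, Commute z₀ s := fun s hs =>
    (Subgroup.mem_centralizer_iff.1 hz₀Z.2 s hs).symm
  have hzk : ∀ (j : ℤ), ∀ s ∈ S, Commute (z₀ ^ j) s := fun j s hs => (hz₀c s hs).zpow_left j
  have hcardq : Nat.card (↥S ⧸ Q.subgroupOf S) = p := by
    rw [← Subgroup.index_eq_card, hQi]
  -- decomposition
  have hdec : ∀ s ∈ S, ∃ k : ℤ, ∃ q ∈ Q, s = z₀ ^ k * q := by
    intro s hs
    have hne : ((⟨z₀, hz₀S⟩ : ↥S) : ↥S ⧸ Q.subgroupOf S) ≠ 1 := by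
      intro h
      rw [QuotientGroup.eq_one_iff] at h
      exact hz₀Q (Subgroup.mem_subgroupOf.1 h)
    have htop := zpowers_eq_top_of_prime_card hcardq hne
    have hmem : ((⟨s, hs⟩ : ↥S) : ↥S ⧸ Q.subgroupOf S) ∈
        Subgroup.zpowers ((⟨z₀, hz₀S⟩ : ↥S) : ↥S ⧸ Q.subgroupOf S) := by
      rw [htop]
      exact Subgroup.mem_top _
    obtain ⟨k, hk⟩ := Subgroup.mem_zpowers_iff.1 hmem
    rw [← QuotientGroup.mk_zpow, QuotientGroup.eq] at hk
    refine ⟨k, (z₀ ^ k)⁻¹ * s, ?_, by group⟩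
    have := Subgroup.mem_subgroupOf.1 hk
    simpa using this
  -- `z₀ ^ p ∈ Z(Q)`
  have hz₀p : z₀ ^ p ∈ Q ⊓ Subgroup.centralizer (Q : Set Ω) := by
    have hpQ : z₀ ^ p ∈ Q := by
      have h := pow_card_eq_one' (G := ↥S ⧸ Q.subgroupOf S)
        (x := ((⟨z₀, hz₀S⟩ : ↥S) : ↥S ⧸ Q.subgroupOf S))
      rw [hcardq, ← QuotientGroup.mk_pow, QuotientGroup.eq_one_iff] at h
      simpa using Subgroup.mem_subgroupOf.1 h
    exact hZSQ _ (Subgroup.pow_mem _ hz₀Z p) hpQ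
  -- commutators
  have hcommZQ : ∀ a ∈ S, ∀ b ∈ S, ⁅a, b⁆ ∈ Q ⊓ Subgroup.centralizer (Q : Set Ω) := by
    intro a ha b hb
    obtain ⟨k, q, hq, rfl⟩ := hdec a ha
    obtain ⟨k', q', hq', hb'⟩ := hdec b hb
    rw [commutator_central_mul_left _ _ _ (hzk k q (hQS hq)) (hzk k b hb), hb',
      commutator_central_mul_right _ _ _ (hzk k' q (hQS hq)) (hzk k' q' (hQS hq'))]
    rw [hmemZQ]
    have hmem : ⁅(⟨q, hq⟩ : ↥Q), ⟨q', hq'⟩⁆ ∈ commutator ↥Q :=
      Subgroup.commutator_mem_commutator (Subgroup.mem_top _) (Subgroup.mem_top _)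
    rw [hQcomm] at hmem
    exact ⟨(⁅(⟨q, hq⟩ : ↥Q), ⟨q', hq'⟩⁆ : ↥Q).2, hmem⟩
  -- the commutator subgroup of `S`
  have hcomS : commutator ↥S = (Q ⊓ Subgroup.centralizer (Q : Set Ω)).subgroupOf S := by
    apply le_antisymm
    · rw [commutator_def, Subgroup.commutator_le]
      intro a _ b _
      rw [Subgroup.mem_subgroupOf]
      exact hcommZQ a a.2 b b.2
    · intro z hz
      rw [Subgroup.mem_subgroupOf, hmemZQ] at hz
      obtain ⟨hzQ, hzc⟩ := hz
      rw [← hQcomm, commutator_def] at hzc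
      have h3 : Subgroup.inclusion hQS ⟨(z : Ω), hzQ⟩ ∈
          Subgroup.map (Subgroup.inclusion hQS) ⁅(⊤ : Subgroup ↥Q), (⊤ : Subgroup ↥Q)⁆ :=
        Subgroup.mem_map_of_mem _ hzc
      rw [Subgroup.map_commutator] at h3
      have h4 := Subgroup.commutator_mono (le_top : (⊤ : Subgroup ↥Q).map (Subgroup.inclusion hQS) ≤ ⊤)
        (le_top : (⊤ : Subgroup ↥Q).map (Subgroup.inclusion hQS) ≤ ⊤) h3
      rw [commutator_def]
      exact h4
  have hcomScard : Nat.card ↥(commutator ↥S) = p := by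
    rw [hcomS, ← hZQcard]
    exact Nat.card_congr (Subgroup.subgroupOfEquivOfLe (inf_le_left.trans hQS)).toEquiv
  refine ⟨?_, hcomScard, ?_, ?_⟩
  · -- Frattini
    apply le_antisymm _ (Cfsg.Agent.Helper1.IsPGroup.commutator_le_frattini hS)
    apply Cfsg.Agent.Helper14.frattini_le_of_elemAb p
    · intro a b
      rw [commutator_def]
      exact Subgroup.commutator_mem_commutator (Subgroup.mem_top _) (Subgroup.mem_top _)
    · intro a
      rw [hcomS, Subgroup.mem_subgroupOf]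
      obtain ⟨k, q, hq, ha⟩ := hdec a a.2
      have e : ((a ^ p : ↥S) : Ω) = (z₀ ^ p) ^ k * q ^ p := by
        rw [Subgroup.coe_pow, ha, (hzk k q (hQS hq)).mul_pow, ← zpow_natCast (z₀ ^ k) p,
          ← zpow_mul, mul_comm, zpow_mul, zpow_natCast]
      rw [e]
      apply Subgroup.mul_mem _ (Subgroup.zpow_mem _ hz₀p k)
      rw [hmemZQ]
      have := Cfsg.Agent.Helper1.IsPGroup.pow_mem_frattini hQp (⟨q, hq⟩ : ↥Q)
      rw [hQfr] at this
      exact ⟨(⟨q, hq⟩ ^ p : ↥Q).2, this⟩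
  · -- the order of the centre
    have hsup : (S ⊓ Subgroup.centralizer (S : Set Ω)).subgroupOf S ⊔ Q.subgroupOf S = ⊤ := by
      rw [eq_top_iff]
      intro s _
      obtain ⟨k, q, hq, hs⟩ := hdec s s.2
      have e : s = (⟨z₀ ^ k, S.zpow_mem hz₀S k⟩ : ↥S) * ⟨q, hQS hq⟩ := Subtype.ext hs
      rw [e]
      apply Subgroup.mul_mem_sup
      · rw [Subgroup.mem_subgroupOf]
        exact Subgroup.zpow_mem _ hz₀Z k
      · rw [Subgroup.mem_subgroupOf]
        exact hq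
    have hrel : Q.relIndex (S ⊓ Subgroup.centralizer (S : Set Ω)) = p := by
      rw [← Subgroup.relIndex_subgroupOf (inf_le_left : S ⊓ Subgroup.centralizer (S : Set Ω) ≤ S),
        ← Subgroup.relIndex_sup_right, hsup, Subgroup.relIndex_top_right, hQi]
    have hmul := Subgroup.card_mul_index
      (Q.subgroupOf (S ⊓ Subgroup.centralizer (S : Set Ω)))
    have hrel' : (Q.subgroupOf (S ⊓ Subgroup.centralizer (S : Set Ω))).index = p := hrel
    rw [hrel'] at hmul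
    have hinf : Q ⊓ (S ⊓ Subgroup.centralizer (S : Set Ω)) =
        Q ⊓ Subgroup.centralizer (Q : Set Ω) := by
      apply le_antisymm
      · intro z hz
        exact hZSQ z hz.2 hz.1
      · intro z hz
        exact ⟨hz.1, h1 hz⟩
    have hc1 : Nat.card ↥(Q.subgroupOf (S ⊓ Subgroup.centralizer (S : Set Ω))) = p := by
      rw [← Subgroup.inf_subgroupOf_right, ← hZQcard, ← hinf]
      exact Nat.card_congr (Subgroup.subgroupOfEquivOfLe inf_le_right).toEquiv
    rw [hc1] at hmul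
    rw [← hmul, pow_two]
  · rw [Subgroup.commutator_le]
    intro a ha b hb
    exact h1 (hcommZQ a ha b hb)

end Cfsg.Agent.Helper18.XS
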