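import Mathlib
import Cfsg.Agent.Helper5.ZasCoreDefs
import Cfsg.Agent.Helper16.FCS4b

/-!
# Zassenhaus cluster, piece W2: the core of a solvable Frobenius complement

A finite solvable group all of whose abelian subgroups are cyclic has a normal subgroup `N` with
cyclic Sylow subgroups such that `G / N` is `1`, `V₄`, `A₄` or `S₄`.
-/

set_option autoImplicit false
set_option linter.unusedSectionVars false

namespace Cfsg.Agent.Helper5.Zas

namespace W2

open Cfsg.Agent.Helper16.FCS4

/-- the reduction `ZMod (2 m) → ZMod 2` -/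
noncomputable def red (m : ℕ) : ZMod (2 * m) →+* ZMod 2 := ZMod.castHom (dvd_mul_right 2 m) (ZMod 2)

theorem red_m (m : ℕ) (hm : Even m) : red m (m : ZMod (2 * m)) = 0 := by
  rw [map_natCast]; exact (ZMod.natCast_eq_zero_iff_even).2 hm

/-- the quotient map `Q_{4m} → V₄` for even `m` -/
noncomputable def quatToKlein (m : ℕ) (hm : Even m) : QuaternionGroup m →* DihedralGroup 2 where
  toFun := fun g => match g with
    | QuaternionGroup.a i => DihedralGroup.r (red m i)
    | QuaternionGroup.xa i => DihedralGroup.sr (red m i)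
  map_one' := by
    rw [QuaternionGroup.one_def]
    simp only [map_zero]
    rfl
  map_mul' := by
    rintro (i | i) (j | j)
    · simp only [QuaternionGroup.a_mul_a, DihedralGroup.r_mul_r, map_add]
    · simp only [QuaternionGroup.a_mul_xa, DihedralGroup.r_mul_sr, map_sub]
    · simp only [QuaternionGroup.xa_mul_a, DihedralGroup.sr_mul_r, map_add]
    · simp only [QuaternionGroup.xa_mul_xa, DihedralGroup.sr_mul_sr, map_add, map_sub, red_m m hm,
        zero_add]

theorem quatToKlein_surjective (m : ℕ) (hm : Even m) :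
    Function.Surjective (quatToKlein m hm) := by
  have hcast : ∀ k : ZMod 2, red m ((k.val : ℕ) : ZMod (2 * m)) = k := by
    intro k
    rw [map_natCast, ZMod.natCast_zmod_val]
  rintro (k | k)
  · exact ⟨QuaternionGroup.a ((k.val : ℕ) : ZMod (2 * m)), by
      show DihedralGroup.r _ = _
      rw [hcast]⟩
  · exact ⟨QuaternionGroup.xa ((k.val : ℕ) : ZMod (2 * m)), by
      show DihedralGroup.sr _ = _
      rw [hcast]⟩

theorem quatToKlein_ker_comm (m : ℕ) (hm : Even m) (x y : QuaternionGroup m)
    (hx : quatToKlein m hm x = 1) (hy : quatToKlein m hm y = 1) : x * y = y * x := by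
  rcases x with i | i
  · rcases y with j | j
    · rw [QuaternionGroup.a_mul_a, QuaternionGroup.a_mul_a, add_comm]
    · exfalso
      have : DihedralGroup.sr (red m j) = (1 : DihedralGroup 2) := hy
      rw [DihedralGroup.one_def] at this
      cases this
  · exfalso
    have : DihedralGroup.sr (red m i) = (1 : DihedralGroup 2) := hx
    rw [DihedralGroup.one_def] at this
    cases this

section claim

universe u

variable {Q : Type u} [Group Q] [Finite Q]

/-- the shape of the quotient by an abelian normal subgroup `A` -/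
def Shape (A : Subgroup Q) : Prop :=
  A = ⊤ ∨
    (∃ f : Q →* DihedralGroup 2, Function.Surjective f ∧ f.ker = A) ∨
    (∃ f : Q →* alternatingGroup (Fin 4), Function.Surjective f ∧ f.ker = A) ∨
    (∃ f : Q →* Equiv.Perm (Fin 4), Function.Surjective f ∧ f.ker = A)

/-- a `2`-group whose abelian subgroups are cyclic: cyclic, or a quotient `V₄` with abelian
kernel -/
theorem shape_of_two_group (hAC : AC2 Q) (hQ : IsPGroup 2 Q) :
    ∃ A : Subgroup Q, IsMulCommutative A ∧ Shape A := by
  have hQtop : IsPGroup 2 (⊤ : Subgroup Q) := hQ.to_subgroup _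
  have hcyc : IsCyclic (⊤ : Subgroup Q) → ∃ A : Subgroup Q, IsMulCommutative A ∧ Shape A := by
    intro hc
    refine ⟨⊤, ?_, Or.inl rfl⟩
    exact IsCyclic.isMulCommutative (α := (⊤ : Subgroup Q))
  rcases two_group_structure hAC ⊤ hQtop with hc | ⟨n, ⟨e⟩⟩
  · exact hcyc hc
  · rcases Nat.eq_zero_or_pos n with hn | hn
    · subst hn
      apply hcyc
      have : IsCyclic (QuaternionGroup (2 ^ 0)) := QuaternionGroup.quaternionGroup_one_isCyclic
      exact isCyclic_of_surjective e.symm e.symm.surjective
    · have hm : Even (2 ^ n) := (Nat.even_pow' (Nat.pos_iff_ne_zero.1 hn)).2 even_two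
      let e' : Q ≃* QuaternionGroup (2 ^ n) := Subgroup.topEquiv.symm.trans e
      let f : Q →* DihedralGroup 2 := (quatToKlein (2 ^ n) hm).comp e'.toMonoidHom
      have hf : Function.Surjective f :=
        (quatToKlein_surjective (2 ^ n) hm).comp e'.surjective
      refine ⟨f.ker, ⟨⟨fun a b => ?_⟩⟩, Or.inr (Or.inl ⟨f, hf, rfl⟩)⟩
      apply Subtype.ext
      apply e'.injective
      change e' ((a : Q) * (b : Q)) = e' ((b : Q) * (a : Q))
      rw [map_mul, map_mul]
      exact quatToKlein_ker_comm (2 ^ n) hm _ _ a.2 b.2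

theorem card_center_quaternion_two : Nat.card (Subgroup.center (QuaternionGroup 2)) = 2 := by
  rw [Nat.card_eq_fintype_card]
  decide

/-- the dichotomy for a normal `2`-subgroup: `Q₈` or automorphism group a `2`-group -/
theorem q8_or_aut (hAC : AC2 Q) (T : Subgroup Q) (hT : IsPGroup 2 T) :
    Nonempty (T ≃* QuaternionGroup 2) ∨ IsPGroup 2 (MulAut T) := by
  have : Fact (Nat.Prime 2) := ⟨Nat.prime_two⟩
  have hcyc_case : IsCyclic T → IsPGroup 2 (MulAut T) := by
    intro hc
    obtain ⟨k, hk⟩ := IsPGroup.iff_card.mp hT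
    exact Cfsg.Agent.Helper16.isPGroup_mulAut_of_isCyclic k hk
  rcases two_group_structure hAC T hT with hc | ⟨n, ⟨e⟩⟩
  · exact Or.inr (hcyc_case hc)
  · rcases Nat.lt_or_ge n 2 with hn | hn
    · interval_cases n
      · right
        apply hcyc_case
        have : IsCyclic (QuaternionGroup (2 ^ 0)) := QuaternionGroup.quaternionGroup_one_isCyclic
        exact isCyclic_of_surjective e.symm e.symm.surjective
      · left
        exact ⟨e⟩
    · right
      exact (isPGroup_mulAut_quaternion n hn).of_equiv (MulAut.congr e).symm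

/-- the case `T ≅ Q₈`, `Q` not a `2`-group: quotient `A₄` or `S₄` with kernel `C_Q(T)` -/
theorem shape_of_q8 (T : Subgroup Q) [hTn : T.Normal]
    (hCT : Subgroup.centralizer (T : Set Q) ≤ T) (e : T ≃* QuaternionGroup 2)
    (hQ : ¬ IsPGroup 2 Q) :
    ∃ A : Subgroup Q, IsMulCommutative A ∧ Shape A := by
  classical
  have : Fact (Nat.Prime 2) := ⟨Nat.prime_two⟩
  obtain ⟨ε⟩ := Cfsg.Agent.Helper18.AutQ8.main
  let c : Q →* MulAut T := MulAut.conjNormal
  let g : MulAut T ≃* Equiv.Perm (Fin 4) := (MulAut.congr e).trans ε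
  let φ : Q →* Equiv.Perm (Fin 4) := g.toMonoidHom.comp c
  have hker : φ.ker = Subgroup.centralizer (T : Set Q) := by
    rw [← ker_conjNormal T]
    ext x
    simp only [MonoidHom.mem_ker]
    change g (c x) = 1 ↔ c x = 1
    exact g.map_eq_one_iff
  have hAc : IsMulCommutative (Subgroup.centralizer (T : Set Q)) :=
    isMulCommutative_centralizer T hCT
  -- the kernel has order two
  have hZ2 : Nat.card (Subgroup.centralizer (T : Set Q)) = 2 := by
    have h1 : (Subgroup.centralizer (T : Set Q)).subgroupOf T = Subgroup.center T := by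
      ext ⟨x, hx⟩
      rw [Subgroup.mem_subgroupOf, Subgroup.mem_centralizer_iff, Subgroup.mem_center_iff]
      constructor
      · intro h t
        apply Subtype.ext
        exact h t t.2
      · intro h t ht
        exact congrArg Subtype.val (h ⟨t, ht⟩)
    rw [← Nat.card_congr (Subgroup.subgroupOfEquivOfLe hCT).toEquiv, h1,
      Nat.card_congr (Subgroup.centerCongr e).toEquiv]
    exact card_center_quaternion_two
  have hT8 : Nat.card T = 8 := by
    rw [Nat.card_congr e.toEquiv, Nat.card_eq_fintype_card, QuaternionGroup.card]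
  -- `|Q| = 2 |W|`
  have hQW : Nat.card Q = Nat.card φ.range * 2 := by
    rw [← Subgroup.index_ker, ← hZ2, ← hker, mul_comm]
    exact (Subgroup.card_mul_index φ.ker).symm
  -- `4 ∣ |W|`
  have h4 : 4 ∣ Nat.card φ.range := by
    let φT : T →* Equiv.Perm (Fin 4) := φ.comp T.subtype
    have hkT : φT.ker = (Subgroup.centralizer (T : Set Q)).subgroupOf T := by
      ext x
      rw [MonoidHom.mem_ker, Subgroup.mem_subgroupOf, ← hker, MonoidHom.mem_ker]
      rfl
    have hcardk : Nat.card φT.ker = 2 := by
      rw [hkT, Nat.card_congr (Subgroup.subgroupOfEquivOfLe hCT).toEquiv, hZ2]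
    have h8 : Nat.card φT.range * 2 = 8 := by
      rw [← Subgroup.index_ker, ← hcardk, mul_comm, Subgroup.card_mul_index, hT8]
    have h4' : Nat.card φT.range = 4 := by omega
    have hle : φT.range ≤ φ.range := by
      rintro _ ⟨x, rfl⟩
      exact ⟨x, rfl⟩
    have := Subgroup.card_dvd_of_le hle
    rwa [h4'] at this
  have h24 : Nat.card φ.range ∣ 24 := by
    have := Subgroup.card_subgroup_dvd_card φ.range
    rwa [Nat.card_eq_fintype_card (α := Equiv.Perm (Fin 4)), Fintype.card_perm,
      Fintype.card_fin] at this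
  have hcases : Nat.card φ.range = 4 ∨ Nat.card φ.range = 8 ∨ Nat.card φ.range = 12 ∨
      Nat.card φ.range = 24 := by
    have hle : Nat.card φ.range ≤ 24 := Nat.le_of_dvd (by norm_num) h24
    obtain ⟨k, hk⟩ := h4
    have hk6 : k ≤ 6 := by omega
    rw [hk] at h24 ⊢
    interval_cases k <;> first | omega | (exfalso; revert h24; decide)
  refine ⟨Subgroup.centralizer (T : Set Q), hAc, ?_⟩
  rcases hcases with h | h | h | h
  · exfalso
    apply hQ
    rw [IsPGroup.iff_card]
    exact ⟨3, by rw [hQW, h]; norm_num⟩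
  · exfalso
    apply hQ
    rw [IsPGroup.iff_card]
    exact ⟨4, by rw [hQW, h]; norm_num⟩
  · right; right; left
    have hidx : φ.range.index = 2 := by
      have h1 := Subgroup.card_mul_index φ.range
      rw [h, Nat.card_eq_fintype_card (α := Equiv.Perm (Fin 4)), Fintype.card_perm,
        Fintype.card_fin] at h1
      have : (24 : ℕ) = 12 * 2 := by norm_num
      rw [show (4 : ℕ).factorial = 12 * 2 by decide] at h1
      exact Nat.eq_of_mul_eq_mul_left (by norm_num) h1
    have hW : φ.range = alternatingGroup (Fin 4) :=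
      Equiv.Perm.eq_alternatingGroup_of_index_eq_two hidx
    have hmem : ∀ x, φ x ∈ alternatingGroup (Fin 4) := by
      intro x
      rw [← hW]
      exact ⟨x, rfl⟩
    refine ⟨φ.codRestrict (alternatingGroup (Fin 4)) hmem, ?_, ?_⟩
    · rintro ⟨y, hy⟩
      rw [← hW] at hy
      obtain ⟨x, hx⟩ := hy
      exact ⟨x, Subtype.ext hx⟩
    · rw [MonoidHom.ker_codRestrict, hker]
  · right; right; right
    refine ⟨φ, ?_, hker⟩
    rw [← MonoidHom.range_eq_top]
    apply Subgroup.eq_top_of_card_eq
    rw [h, Nat.card_eq_fintype_card (α := Equiv.Perm (Fin 4)), Fintype.card_perm,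
      Fintype.card_fin]
    decide

/-- **Claim (C)** -/
theorem exists_shape (hAC : AC2 Q) (T : Subgroup Q) [hTn : T.Normal] (hT : IsPGroup 2 T)
    (hCT : Subgroup.centralizer (T : Set Q) ≤ T) :
    ∃ A : Subgroup Q, IsMulCommutative A ∧ Shape A := by
  by_cases hQ : IsPGroup 2 Q
  · exact shape_of_two_group hAC hQ
  · rcases q8_or_aut hAC T hT with ⟨⟨e⟩⟩ | hA
    · exact shape_of_q8 T hCT e hQ
    · exact absurd (isPGroup_of_aut T hT hCT hA) hQ

end claim

section lift

universe u

variable {G : Type u} [Group G] [Finite G]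

/-- a subgroup which is abelian modulo a normal subgroup of odd order has cyclic Sylow subgroups -/
theorem sylow_cyclic_of_comm_mod (hAC : ∀ A : Subgroup G, IsMulCommutative A → IsCyclic A)
    (R : Subgroup G) [R.Normal] (hR : (Nat.card R).Coprime 2) (N : Subgroup G)
    (hN : ∀ a ∈ N, ∀ b ∈ N, (QuotientGroup.mk' R) (a * b) = (QuotientGroup.mk' R) (b * a))
    (p : ℕ) [Fact p.Prime] (P : Sylow p N) : IsCyclic P := by
  set P' : Subgroup G := (P : Subgroup N).map N.subtype with hP'
  have hP'p : IsPGroup p P' := P.isPGroup'.map _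
  have hP'le : P' ≤ N := Subgroup.map_subtype_le _
  have e := Subgroup.equivMapOfInjective (P : Subgroup N) N.subtype N.subtype_injective
  suffices h : IsCyclic P' from isCyclic_of_surjective e.symm e.symm.surjective
  by_cases hp2 : p = 2
  · subst hp2
    apply hAC
    apply isMulCommutative_of_map R hR P' hP'p
    intro a ha b hb
    exact hN a (hP'le ha) b (hP'le hb)
  · rcases pgroup_structure p (fun B _ hc => hAC B hc) P' hP'p with h | ⟨h, -⟩
    · exact h
    · exact absurd h hp2

end lift

end W2

/-- **W2.** The core of a solvable group all of whose abelian subgroups are cyclic. -/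
theorem exists_isCore_of_solvable {G : Type*} [Group G] [Finite G]
    (hAC : ∀ A : Subgroup G, IsMulCommutative A → IsCyclic A) (hsol : Group.IsSolvable G) :
    ∃ N : Subgroup G, IsCore N := by
  classical
  have h2 : Fact (Nat.Prime 2) := ⟨Nat.prime_two⟩
  have : Group.IsSolvable G := hsol
  set R : Subgroup G := Cfsg.pPrimeCore 2 G with hRdef
  have hR : (Nat.card R).Coprime 2 := Cfsg.Agent.Helper23.pPrimeCore_card_coprime 2 G
  set T : Subgroup (G ⧸ R) := Cfsg.pCore 2 (G ⧸ R) with hTdef
  have hT : IsPGroup 2 T := Cfsg.Agent.Helper23.pCore_isPGroup 2 (G ⧸ R)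
  have hCT : Subgroup.centralizer (T : Set (G ⧸ R)) ≤ T :=
    Cfsg.Agent.Helper23.centralizer_pCore_quotient_le 2 G
  have hAC2 : Cfsg.Agent.Helper16.FCS4.AC2 (G ⧸ R) :=
    Cfsg.Agent.Helper16.FCS4.ac2_quotient R hR (fun B _ hc => hAC B hc)
  obtain ⟨A, hAc, hshape⟩ := W2.exists_shape hAC2 T hT hCT
  have hcomm : ∀ a ∈ A.comap (QuotientGroup.mk' R), ∀ b ∈ A.comap (QuotientGroup.mk' R),
      (QuotientGroup.mk' R) (a * b) = (QuotientGroup.mk' R) (b * a) := by
    intro a ha b hb
    have := hAc.is_comm.comm ⟨_, ha⟩ ⟨_, hb⟩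
    rw [map_mul, map_mul]
    exact congrArg Subtype.val this
  have hsyl : ∀ (p : ℕ) [Fact p.Prime] (P : Sylow p (A.comap (QuotientGroup.mk' R))),
      IsCyclic P := fun p _ P => W2.sylow_cyclic_of_comm_mod hAC R hR _ hcomm p P
  refine ⟨A.comap (QuotientGroup.mk' R), ?_, hsyl, ?_⟩
  · rcases hshape with h | ⟨f, -, hf⟩ | ⟨f, -, hf⟩ | ⟨f, -, hf⟩
    · rw [h, Subgroup.comap_top]; infer_instance
    all_goals
      rw [← hf, MonoidHom.comap_ker]; infer_instance
  · rcases hshape with h | ⟨f, hs, hf⟩ | ⟨f, hs, hf⟩ | ⟨f, hs, hf⟩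
    · left; rw [h, Subgroup.comap_top]
    · right; left
      exact ⟨f.comp (QuotientGroup.mk' R), hs.comp (QuotientGroup.mk'_surjective R), by
        rw [← hf, MonoidHom.comap_ker]⟩
    · right; right; left
      exact ⟨f.comp (QuotientGroup.mk' R), hs.comp (QuotientGroup.mk'_surjective R), by
        rw [← hf, MonoidHom.comap_ker]⟩
    · right; right; right; left
      exact ⟨f.comp (QuotientGroup.mk' R), hs.comp (QuotientGroup.mk'_surjective R), by
        rw [← hf, MonoidHom.comap_ker]⟩

end Cfsg.Agent.Helper5.Zas
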