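import Mathlib
import Cfsg.Agent.Helper18.ZasPentagon2
import Cfsg.Agent.Helper3.ZasPair2
import Cfsg.Agent.Helper23.ZasCorA
import Cfsg.Agent.Helper23.ZasThmB

/-!
# Zassenhaus cluster, piece Z8: the pentagon argument (absolute form)
-/

set_option autoImplicit false

namespace Cfsg.Agent.Helper5.Zas

variable {p : ℕ} [Fact p.Prime] {G : Type*} [Group G] [Finite G] {V : Type*} [AddCommGroup V]
  [Module (ZMod p) V] [Finite V] [Nontrivial V]

/-- **Pentagon.** A binary icosahedral subgroup contains every element of order three. -/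
theorem pentagon (S : Setup p G V) (L : Subgroup G) (hL : Nat.card L = 120)
    (π : L →* alternatingGroup (Fin 5)) (hπ : Function.Surjective π) (hker : Nat.card π.ker = 2)
    {w : G} (hw : orderOf w = 3) (hwL : w ∉ L) : False :=
  Z8.pentagon_of S (fun h1 h2 h3 => pair_cases S h1 h2 h3)
    (fun h1 h2 h3 h4 h5 h6 => corA S h1 h2 h3 h4 h5 h6)
    (fun h1 h2 h3 h4 h5 h6 => thmB S h1 h2 h3 h4 h5 h6) L hL π hπ hker hw hwL

end Cfsg.Agent.Helper5.Zas
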